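import Mathlib

set_option autoImplicit false

/-! Permutations of `Fin n` from functions on the natural numbers, and subgroups given by explicit
lists of permutations, with boolean checks that the kernel evaluates quickly. -/

namespace Cfsg.Agent.Lib.Helper1.PermList

open Equiv

/-- the permutation of `Fin n` given by two functions on the natural numbers -/
def permOfNat (n : ℕ) (f g : ℕ → ℕ)
    (h : ∀ x < n, f x < n ∧ g x < n ∧ g (f x) = x ∧ f (g x) = x) : Perm (Fin n) where
  toFun x := ⟨f x.val, (h x.val x.isLt).1⟩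
  invFun x := ⟨g x.val, (h x.val x.isLt).2.1⟩
  left_inv x := Fin.ext (h x.val x.isLt).2.2.1
  right_inv x := Fin.ext (h x.val x.isLt).2.2.2

theorem permOfNat_apply_val (n : ℕ) (f g : ℕ → ℕ)
    (h : ∀ x < n, f x < n ∧ g x < n ∧ g (f x) = x ∧ f (g x) = x) (x : Fin n) :
    (permOfNat n f g h x).val = f x.val := rfl

/-- boolean equality of permutations -/
def pbeq {n : ℕ} (g h : Perm (Fin n)) : Bool :=
  (List.range n).all fun i => if hi : i < n then (g ⟨i, hi⟩).val == (h ⟨i, hi⟩).val else true

theorem eq_of_pbeq {n : ℕ} (g h : Perm (Fin n)) (e : pbeq g h = true) : g = h := by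
  unfold pbeq at e
  rw [List.all_eq_true] at e
  apply Equiv.ext
  intro x
  have := e x.val (List.mem_range.mpr x.isLt)
  rw [dif_pos x.isLt, beq_iff_eq] at this
  exact Fin.ext this

theorem pbeq_self {n : ℕ} (g : Perm (Fin n)) : pbeq g g = true := by
  unfold pbeq
  rw [List.all_eq_true]
  intro i hi
  rw [List.mem_range] at hi
  rw [dif_pos hi, beq_iff_eq]

section lists

variable {n : ℕ} {S : Subgroup (Perm (Fin n))}

/-- the list is closed under multiplication -/
def chkMul (l : List S) : Bool :=
  l.all fun y => l.all fun z => l.any fun w => pbeq ((z * y : S) : Perm (Fin n)) (w : Perm (Fin n))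

theorem mul_mem_of_chkMul (l : List S) (h : chkMul l = true) : ∀ a ∈ l, ∀ b ∈ l, a * b ∈ l := by
  intro a ha b hb
  unfold chkMul at h
  rw [List.all_eq_true] at h
  have h1 := h b hb
  rw [List.all_eq_true] at h1
  have h2 := h1 a ha
  rw [List.any_eq_true] at h2
  obtain ⟨w, hw, hw'⟩ := h2
  have : a * b = w := Subtype.ext (eq_of_pbeq _ _ hw')
  rw [this]; exact hw

/-- the list contains the identity -/
def chkOne (l : List S) : Bool := l.any fun w => pbeq 1 (w : Perm (Fin n))

theorem one_mem_of_chkOne (l : List S) (h : chkOne l = true) : (1 : S) ∈ l := by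
  unfold chkOne at h
  rw [List.any_eq_true] at h
  obtain ⟨w, hw, hw'⟩ := h
  have : (1 : S) = w := Subtype.ext (eq_of_pbeq _ _ hw')
  rw [this]; exact hw

/-- the list has no repetition -/
def chkNodup : List S → Bool
  | [] => true
  | a :: l => (l.all fun b => !pbeq (a : Perm (Fin n)) (b : Perm (Fin n))) && chkNodup l

theorem nodup_of_chkNodup (l : List S) (h : chkNodup l = true) : l.Nodup := by
  induction l with
  | nil => exact List.nodup_nil
  | cons a l ih =>
    unfold chkNodup at h
    rw [Bool.and_eq_true, List.all_eq_true] at h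
    rw [List.nodup_cons]
    refine ⟨?_, ih h.2⟩
    intro ha
    have := h.1 a ha
    rw [pbeq_self] at this
    exact absurd this (by decide)

/-- the subgroup whose elements are those of a list closed under multiplication -/
def listSubgroup (l : List S) (h1 : (1 : S) ∈ l) (hm : ∀ a ∈ l, ∀ b ∈ l, a * b ∈ l) : Subgroup S where
  carrier := {g | g ∈ l}
  one_mem' := h1
  mul_mem' := fun ha hb => hm _ ha _ hb
  inv_mem' := by
    intro q hq
    have hinv : q⁻¹ = q ^ (orderOf q - 1) := by
      apply inv_eq_of_mul_eq_one_right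
      rw [← pow_succ', Nat.sub_add_cancel (orderOf_pos q), pow_orderOf_eq_one]
    have hpow : ∀ k : ℕ, q ^ (k + 1) ∈ l := by
      intro k
      induction k with
      | zero => rw [zero_add, pow_one]; exact hq
      | succ k ih => rw [pow_succ]; exact hm _ ih _ hq
    show q⁻¹ ∈ l
    rw [hinv]
    by_cases h0 : orderOf q - 1 = 0
    · rw [h0, pow_zero]; exact h1
    · obtain ⟨k, hk⟩ := Nat.exists_eq_succ_of_ne_zero h0
      rw [hk]; exact hpow k

theorem mem_listSubgroup (l : List S) (h1 : (1 : S) ∈ l) (hm : ∀ a ∈ l, ∀ b ∈ l, a * b ∈ l) (g : S) :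
    g ∈ listSubgroup l h1 hm ↔ g ∈ l := Iff.rfl

theorem card_listSubgroup (l : List S) (h1 : (1 : S) ∈ l) (hm : ∀ a ∈ l, ∀ b ∈ l, a * b ∈ l)
    (hnd : l.Nodup) : Nat.card (listSubgroup l h1 hm) = l.length := by
  classical
  rw [Nat.card_eq_fintype_card, Fintype.card_of_subtype l.toFinset]
  · exact List.toFinset_card_of_nodup hnd
  · intro x
    rw [List.mem_toFinset]
    exact Iff.rfl

end lists

end Cfsg.Agent.Lib.Helper1.PermList
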