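import Mathlib
import Cfsg.Prelude.Def_KGroupFacts

set_option autoImplicit false

/-! Transfer lemma for stem extensions: a central element of the commutator subgroup, raised to
the index of a subgroup `H`, lies in the commutator subgroup of `H`. -/

namespace Cfsg.Agent.Lib.Helper1.Stem

open scoped commutatorElement

section transfer

variable {Γ : Type*} [Group Γ]

theorem pow_index_mem_commutator (H : Subgroup Γ) [H.FiniteIndex] (z : Γ)
    (hz : z ∈ Subgroup.center Γ) (hz' : z ∈ commutator Γ) :
    ∃ h : z ^ H.index ∈ H, (⟨z ^ H.index, h⟩ : H) ∈ commutator H := by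
  have key : ∀ (k : ℕ) (g₀ : Γ), g₀⁻¹ * z ^ k * g₀ ∈ H → g₀⁻¹ * z ^ k * g₀ = z ^ k := by
    intro k g₀ _
    have hc : z ^ k ∈ Subgroup.center Γ := Subgroup.pow_mem _ hz k
    rw [Subgroup.mem_center_iff] at hc
    rw [mul_assoc, ← hc g₀, ← mul_assoc, inv_mul_cancel, one_mul]
  have h1 := MonoidHom.transfer_eq_pow (Abelianization.of (G := H)) z key
  have h2 : MonoidHom.transfer (Abelianization.of (G := H)) z = 1 := by
    have : commutator Γ ≤ (MonoidHom.transfer (Abelianization.of (G := H))).ker :=
      Abelianization.commutator_subset_ker _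
    exact this hz'
  rw [h2] at h1
  refine ⟨MonoidHom.transfer_eq_pow_aux z key, ?_⟩
  have h3 := h1.symm
  rwa [← MonoidHom.mem_ker, Abelianization.ker_of] at h3

end transfer

end Cfsg.Agent.Lib.Helper1.Stem
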