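import Mathlib
import Cfsg.Prelude.Def_KGroupFacts
import Cfsg.Agent.Lib.Helper1.Stem1

set_option autoImplicit false

/-! Local criterion for the triviality of the kernel of a finite stem extension. -/

namespace Cfsg.Agent.Lib.Helper1.Stem

open scoped commutatorElement

section comm

variable {Γ : Type*} [Group Γ]

/-- commutators of a subgroup generated by `S` lie in `C` as soon as the generators normalize `C`
and commute modulo `C` -/
theorem commutator_closure_le (C : Subgroup Γ) (S : Set Γ)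
    (hn : ∀ s ∈ S, ∀ c ∈ C, s * c * s⁻¹ ∈ C ∧ s⁻¹ * c * s ∈ C)
    (hc : ∀ s ∈ S, ∀ t ∈ S, ⁅s, t⁆ ∈ C) :
    ⁅Subgroup.closure S, Subgroup.closure S⁆ ≤ C := by
  have hN : ∀ g ∈ Subgroup.closure S, ∀ c ∈ C, g * c * g⁻¹ ∈ C ∧ g⁻¹ * c * g ∈ C := by
    intro g hg
    induction hg using Subgroup.closure_induction with
    | mem s hs => exact hn s hs
    | one => intro c hc; simpa using hc
    | mul a b _ _ iha ihb =>
      intro c hc
      constructor
      · have h1 := (ihb c hc).1
        have h2 := (iha _ h1).1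
        have e : a * b * c * (a * b)⁻¹ = a * (b * c * b⁻¹) * a⁻¹ := by group
        rw [e]; exact h2
      · have h1 := (iha c hc).2
        have h2 := (ihb _ h1).2
        have e : (a * b)⁻¹ * c * (a * b) = b⁻¹ * (a⁻¹ * c * a) * b := by group
        rw [e]; exact h2
    | inv a _ iha =>
      intro c hc
      constructor
      · have := (iha c hc).2
        simpa using this
      · have := (iha c hc).1
        simpa using this
  -- first: generators against arbitrary elements
  have h1 : ∀ s ∈ S, ∀ g ∈ Subgroup.closure S, ⁅g, s⁆ ∈ C := by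
    intro s hs g hg
    induction hg using Subgroup.closure_induction with
    | mem t ht => exact hc t ht s hs
    | one => simp
    | mul a b ha _ iha ihb =>
      have e : ⁅a * b, s⁆ = a * ⁅b, s⁆ * a⁻¹ * ⁅a, s⁆ := by
        simp only [commutatorElement_def]; group
      rw [e]
      exact C.mul_mem (hN a ha _ ihb).1 iha
    | inv a ha iha =>
      have e : ⁅a⁻¹, s⁆ = a⁻¹ * (⁅a, s⁆)⁻¹ * a := by
        simp only [commutatorElement_def]; group
      rw [e]
      exact (hN a ha _ (C.inv_mem iha)).2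
  rw [Subgroup.commutator_le]
  intro g hg h hh
  induction hh using Subgroup.closure_induction with
  | mem t ht => exact h1 t ht g hg
  | one => simp
  | mul a b ha _ iha ihb =>
    have e : ⁅g, a * b⁆ = ⁅g, a⁆ * (a * ⁅g, b⁆ * a⁻¹) := by
      simp only [commutatorElement_def]; group
    rw [e]
    exact C.mul_mem iha (hN a ha _ ihb).1
  | inv a ha iha =>
    have e : ⁅g, a⁻¹⁆ = a⁻¹ * (⁅g, a⁆)⁻¹ * a := by
      simp only [commutatorElement_def]; group
    rw [e]
    exact (hN a ha _ (C.inv_mem iha)).2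

end comm

section comap

variable {Γ G : Type*} [Group Γ] [Group G] (σ : Γ →* G)

theorem comap_closure_image (S : Set Γ) :
    (Subgroup.closure (σ '' S)).comap σ = Subgroup.closure (S ∪ (σ.ker : Set Γ)) := by
  rw [← MonoidHom.map_closure, Subgroup.comap_map_eq, Subgroup.closure_union,
    Subgroup.closure_eq]

/-- the commutator subgroup of the preimage of `closure (σ '' S)`, when the kernel is central -/
theorem commutator_comap_le (hcen : σ.ker ≤ Subgroup.center Γ) (C : Subgroup Γ) (S : Set Γ)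
    (hn : ∀ s ∈ S, ∀ c ∈ C, s * c * s⁻¹ ∈ C ∧ s⁻¹ * c * s ∈ C)
    (hc : ∀ s ∈ S, ∀ t ∈ S, ⁅s, t⁆ ∈ C) :
    ⁅(Subgroup.closure (σ '' S)).comap σ, (Subgroup.closure (σ '' S)).comap σ⁆ ≤ C := by
  rw [comap_closure_image]
  apply commutator_closure_le
  · rintro s (hs | hs) c hc'
    · exact hn s hs c hc'
    · have h := Subgroup.mem_center_iff.mp (hcen hs)
      constructor
      · rw [← h c, mul_assoc, mul_inv_cancel, mul_one]; exact hc'
      · rw [mul_assoc, h c, ← mul_assoc, inv_mul_cancel, one_mul]; exact hc'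
  · rintro s (hs | hs) t (ht | ht)
    · exact hc s hs t ht
    · have h := Subgroup.mem_center_iff.mp (hcen ht)
      have : ⁅s, t⁆ = 1 := by
        rw [commutatorElement_eq_one_iff_mul_comm]; exact (h s)
      rw [this]; exact C.one_mem
    · have h := Subgroup.mem_center_iff.mp (hcen hs)
      have : ⁅s, t⁆ = 1 := by
        rw [commutatorElement_eq_one_iff_mul_comm]; exact (h t).symm
      rw [this]; exact C.one_mem
    · have h := Subgroup.mem_center_iff.mp (hcen hs)
      have : ⁅s, t⁆ = 1 := by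
        rw [commutatorElement_eq_one_iff_mul_comm]; exact (h t).symm
      rw [this]; exact C.one_mem

end comap

section main

variable {Γ G : Type*} [Group Γ] [Group G] [Finite Γ] (σ : Γ →* G)

/-- the property of a subgroup `P` of the quotient used to kill the `ℓ`-part of the kernel -/
def Kills (ℓ : ℕ) (P : Subgroup G) : Prop :=
  ∀ w ∈ ⁅P.comap σ, P.comap σ⁆, w ∈ σ.ker → w ^ ℓ = 1 → w = 1

theorem pow_index_eq_one_of_kills (hσ : Cfsg.IsStemExtension σ) (ℓ : ℕ) (P : Subgroup G)
    (hP : Kills σ ℓ P) (z : Γ) (hz : z ∈ σ.ker) (hzℓ : z ^ ℓ = 1) : z ^ P.index = 1 := by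
  obtain ⟨hsurj, hcen, hcomm⟩ := hσ
  obtain ⟨h1, h2⟩ := pow_index_mem_commutator (P.comap σ) z (hcen hz) (hcomm hz)
  have h3 : z ^ (P.comap σ).index ∈ ⁅P.comap σ, P.comap σ⁆ := by
    rw [← Subgroup.map_subtype_commutator]
    exact ⟨⟨_, h1⟩, h2, rfl⟩
  rw [Subgroup.index_comap_of_surjective P hsurj] at h3
  apply hP _ h3 (σ.ker.pow_mem hz _)
  rw [← pow_mul, mul_comm, pow_mul, hzℓ, one_pow]

theorem ker_eq_bot_of_local (hσ : Cfsg.IsStemExtension σ)
    (h : ∀ ℓ : ℕ, ℓ.Prime → ℓ ∣ Nat.card G → ∃ P : Subgroup G, ¬ ℓ ∣ P.index ∧ Kills σ ℓ P) :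
    σ.ker = ⊥ := by
  by_contra hne
  haveI : Finite G := Finite.of_surjective σ hσ.1
  have hcard : Nat.card σ.ker ≠ 1 := by
    intro h1
    exact hne (Subgroup.card_eq_one.mp h1)
  obtain ⟨ℓ, hℓ, hdvd⟩ := Nat.exists_prime_and_dvd hcard
  haveI : Fact ℓ.Prime := ⟨hℓ⟩
  obtain ⟨z, hz⟩ := exists_prime_orderOf_dvd_card' ℓ hdvd
  have hzk : (z : Γ) ∈ σ.ker := z.2
  have hzo : orderOf (z : Γ) = ℓ := by rw [Subgroup.orderOf_coe, hz]
  have hzℓ : (z : Γ) ^ ℓ = 1 := by rw [← hzo]; exact pow_orderOf_eq_one _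
  -- `ℓ` divides the order of `G`
  have hG : ℓ ∣ Nat.card G := by
    have hk : Kills σ ℓ (⊥ : Subgroup G) := by
      intro w hw _ _
      have hab : ⁅(⊥ : Subgroup G).comap σ, (⊥ : Subgroup G).comap σ⁆ = ⊥ := by
        rw [Subgroup.commutator_eq_bot_iff_le_centralizer]
        intro a ha
        rw [Subgroup.mem_centralizer_iff]
        intro b hb
        have hb' : b ∈ σ.ker := by
          rw [MonoidHom.mem_ker]
          have := Subgroup.mem_comap.mp hb
          exact Subgroup.mem_bot.mp this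
        exact (Subgroup.mem_center_iff.mp (hσ.2.1 hb') a).symm
      rw [hab] at hw
      exact Subgroup.mem_bot.mp hw
    have h1 := pow_index_eq_one_of_kills σ hσ ℓ ⊥ hk z hzk hzℓ
    rw [Subgroup.index_bot] at h1
    have := orderOf_dvd_of_pow_eq_one h1
    rwa [hzo] at this
  obtain ⟨P, hPi, hPk⟩ := h ℓ hℓ hG
  have h1 := pow_index_eq_one_of_kills σ hσ ℓ P hPk z hzk hzℓ
  have := orderOf_dvd_of_pow_eq_one h1
  rw [hzo] at this
  exact hPi this

end main

end Cfsg.Agent.Lib.Helper1.Stem
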