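import Mathlib
import Cfsg.Prelude.Def_KGroupFacts
import Cfsg.Agent.Lib.Helper1.Stem2

set_option autoImplicit false

/-! Reduction of the triviality of stem extensions to kernels of prime order; transport along
isomorphisms; generation of a stem extension by lifts of generators. -/

namespace Cfsg.Agent.Lib.Helper1.Stem

open scoped commutatorElement

universe u v

/-- every finite stem extension of `G` in the universe `u` is an isomorphism -/
def TrivStems (G : Type v) [Group G] : Prop :=
  ∀ (Γ : Type u) [Group Γ] [Finite Γ] (σ : Γ →* G), Cfsg.IsStemExtension σ → σ.ker = ⊥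

theorem TrivStems.of_equiv {G : Type v} {H : Type*} [Group G] [Group H] (e : G ≃* H)
    (h : TrivStems.{u} G) : TrivStems.{u} H := by
  intro Γ _ _ σ hσ
  have h1 : Cfsg.IsStemExtension (e.symm.toMonoidHom.comp σ) := by
    obtain ⟨hs, hc, hk⟩ := hσ
    have hker : (e.symm.toMonoidHom.comp σ).ker = σ.ker := by
      ext g
      simp [MonoidHom.mem_ker]
    refine ⟨e.symm.surjective.comp hs, ?_, ?_⟩
    · rw [hker]; exact hc
    · rw [hker]; exact hk
  have h2 := h Γ _ h1
  have hker : (e.symm.toMonoidHom.comp σ).ker = σ.ker := by
    ext g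
    simp [MonoidHom.mem_ker]
  rw [← hker]; exact h2

section gen

variable {Γ G : Type*} [Group Γ] [Group G] (σ : Γ →* G)

/-- lifts of generators generate a stem extension -/
theorem closure_eq_top_of_stem (hσ : Cfsg.IsStemExtension σ) (S : Set Γ)
    (hS : Subgroup.closure (σ '' S) = ⊤) : Subgroup.closure S = ⊤ := by
  obtain ⟨_, hcen, hcomm⟩ := hσ
  have h1 : Subgroup.closure (S ∪ (σ.ker : Set Γ)) = ⊤ := by
    rw [← comap_closure_image, hS, Subgroup.comap_top]
  have h2 : commutator Γ ≤ Subgroup.closure S := by
    rw [commutator_def, ← h1]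
    apply commutator_closure_le
    · rintro s (hs | hs) c hc
      · exact ⟨Subgroup.mul_mem _ (Subgroup.mul_mem _ (Subgroup.subset_closure hs) hc)
          (Subgroup.inv_mem _ (Subgroup.subset_closure hs)),
          Subgroup.mul_mem _ (Subgroup.mul_mem _ (Subgroup.inv_mem _ (Subgroup.subset_closure hs)) hc)
          (Subgroup.subset_closure hs)⟩
      · have h := Subgroup.mem_center_iff.mp (hcen hs)
        constructor
        · rw [← h c, mul_assoc, mul_inv_cancel, mul_one]; exact hc
        · rw [mul_assoc, h c, ← mul_assoc, inv_mul_cancel, one_mul]; exact hc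
    · rintro s (hs | hs) t (ht | ht)
      · rw [commutatorElement_def]
        exact Subgroup.mul_mem _ (Subgroup.mul_mem _ (Subgroup.mul_mem _ (Subgroup.subset_closure hs)
          (Subgroup.subset_closure ht)) (Subgroup.inv_mem _ (Subgroup.subset_closure hs)))
          (Subgroup.inv_mem _ (Subgroup.subset_closure ht))
      · have h := Subgroup.mem_center_iff.mp (hcen ht)
        have : ⁅s, t⁆ = 1 := by
          rw [commutatorElement_eq_one_iff_mul_comm]; exact (h s)
        rw [this]; exact Subgroup.one_mem _
      · have h := Subgroup.mem_center_iff.mp (hcen hs)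
        have : ⁅s, t⁆ = 1 := by
          rw [commutatorElement_eq_one_iff_mul_comm]; exact (h t).symm
        rw [this]; exact Subgroup.one_mem _
      · have h := Subgroup.mem_center_iff.mp (hcen hs)
        have : ⁅s, t⁆ = 1 := by
          rw [commutatorElement_eq_one_iff_mul_comm]; exact (h t).symm
        rw [this]; exact Subgroup.one_mem _
  rw [eq_top_iff, ← h1, Subgroup.closure_le]
  rintro g (hg | hg)
  · exact Subgroup.subset_closure hg
  · exact h2 (hcomm hg)

end gen

end Cfsg.Agent.Lib.Helper1.Stem
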