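import Mathlib
import Cfsg.Prelude.Def_KGroupFacts
import Cfsg.Agent.Lib.Helper1.Stem7

set_option autoImplicit false

/-! Reduction of the triviality of stem extensions to kernels of prime order. -/

namespace Cfsg.Agent.Lib.Helper1.Stem

open scoped commutatorElement

universe u v

section coatom

/-- a nontrivial finite commutative group has a subgroup of prime index -/
theorem exists_prime_index {Z : Type*} [CommGroup Z] [Finite Z] (hZ : Nontrivial Z) :
    ∃ M : Subgroup Z, M.index.Prime := by
  have hbt : (⊥ : Subgroup Z) ≠ ⊤ := by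
    intro h
    have h1 : Subsingleton (Subgroup Z) := subsingleton_of_bot_eq_top h
    have h2 : Subsingleton Z := Subgroup.subsingleton_iff.mp h1
    exact not_subsingleton Z h2
  obtain h | ⟨M, hM, -⟩ := IsCoatomic.eq_top_or_exists_le_coatom (⊥ : Subgroup Z)
  · exact absurd h hbt
  refine ⟨M, ?_⟩
  have hnt : Nontrivial (Z ⧸ M) := by
    by_contra hn
    rw [not_nontrivial_iff_subsingleton] at hn
    exact hM.1 (QuotientGroup.subgroup_eq_top_of_subsingleton M hn)
  have hsg : IsSimpleGroup (Z ⧸ M) := by
    refine { toNontrivial := hnt, eq_bot_or_eq_top_of_normal := ?_ }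
    intro H' _
    have hle : M ≤ H'.comap (QuotientGroup.mk' M) := QuotientGroup.le_comap_mk' M H'
    have hmap : (H'.comap (QuotientGroup.mk' M)).map (QuotientGroup.mk' M) = H' :=
      Subgroup.map_comap_eq_self_of_surjective (QuotientGroup.mk'_surjective M) H'
    rcases eq_or_lt_of_le hle with h | h
    · left
      rw [← hmap, ← h, QuotientGroup.map_mk'_self]
    · right
      rw [← hmap, hM.2 _ h, Subgroup.map_top_of_surjective _ (QuotientGroup.mk'_surjective M)]
  have := hsg.prime_card
  rwa [← Subgroup.index_eq_card] at this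

end coatom

section quot

variable {Γ : Type u} {G : Type v} [Group Γ] [Group G] [Finite Γ] (σ : Γ →* G)

theorem card_eq_card_ker_mul {Γ : Type*} {G : Type*} [Group Γ] [Group G] (σ : Γ →* G)
    (hs : Function.Surjective σ) : Nat.card Γ = Nat.card σ.ker * Nat.card G := by
  have h1 := Subgroup.card_mul_index σ.ker
  rw [Subgroup.index_ker, MonoidHom.range_eq_top.mpr hs, Subgroup.card_top] at h1
  exact h1.symm

theorem exists_prime_quotient (hσ : Cfsg.IsStemExtension σ) (hne : σ.ker ≠ ⊥) :
    ∃ (Γ' : Type u) (_ : Group Γ') (_ : Finite Γ') (σ' : Γ' →* G),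
      Cfsg.IsStemExtension σ' ∧ (Nat.card σ'.ker).Prime := by
  obtain ⟨hs, hcen, hcomm⟩ := hσ
  letI : CommGroup σ.ker :=
    { (inferInstance : Group σ.ker) with
      mul_comm := fun a b => Subtype.ext (Subgroup.mem_center_iff.mp (hcen b.2) a.1) }
  have hnt : Nontrivial σ.ker := (Subgroup.nontrivial_iff_ne_bot σ.ker).mpr hne
  obtain ⟨M, hM⟩ := exists_prime_index hnt
  set Z0 : Subgroup Γ := M.map σ.ker.subtype with hZ0
  have hle : Z0 ≤ σ.ker := Subgroup.map_subtype_le M
  haveI hnorm : Z0.Normal := by
    refine ⟨fun n hn g => ?_⟩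
    have h := Subgroup.mem_center_iff.mp (hcen (hle hn)) g
    rw [h, mul_assoc, mul_inv_cancel, mul_one]
    exact hn
  let σ' : Γ ⧸ Z0 →* G := QuotientGroup.lift Z0 σ (fun g hg => MonoidHom.mem_ker.mp (hle hg))
  have hσ'mk : ∀ g : Γ, σ' (QuotientGroup.mk g) = σ g := fun g => rfl
  have hs' : Function.Surjective σ' := by
    intro y
    obtain ⟨g, rfl⟩ := hs y
    exact ⟨QuotientGroup.mk g, rfl⟩
  refine ⟨Γ ⧸ Z0, inferInstance, inferInstance, σ', ⟨hs', ?_, ?_⟩, ?_⟩
  · intro q hq
    obtain ⟨g, rfl⟩ := QuotientGroup.mk_surjective q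
    have hg : g ∈ σ.ker := by
      rw [MonoidHom.mem_ker] at hq ⊢
      rwa [hσ'mk] at hq
    rw [Subgroup.mem_center_iff]
    intro r
    obtain ⟨h, rfl⟩ := QuotientGroup.mk_surjective r
    have := Subgroup.mem_center_iff.mp (hcen hg) h
    rw [← QuotientGroup.mk_mul, ← QuotientGroup.mk_mul, this]
  · intro q hq
    obtain ⟨g, rfl⟩ := QuotientGroup.mk_surjective q
    have hg : g ∈ σ.ker := by
      rw [MonoidHom.mem_ker] at hq ⊢
      rwa [hσ'mk] at hq
    have h1 : (QuotientGroup.mk' Z0) g ∈ (commutator Γ).map (QuotientGroup.mk' Z0) :=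
      Subgroup.mem_map_of_mem _ (hcomm hg)
    rw [commutator_def, Subgroup.map_commutator] at h1
    rw [commutator_def]
    exact Subgroup.commutator_mono le_top le_top h1
  · have e1 := card_eq_card_ker_mul σ hs
    have e2 := card_eq_card_ker_mul σ' hs'
    have e3 := Subgroup.card_eq_card_quotient_mul_card_subgroup Z0
    have e4 : Nat.card Z0 = Nat.card M :=
      (Nat.card_congr (Subgroup.equivMapOfInjective M σ.ker.subtype
        (Subgroup.subtype_injective _)).toEquiv).symm
    have e5 := Subgroup.card_mul_index M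
    have hG : 0 < Nat.card G := by
      haveI : Finite G := Finite.of_surjective σ hs
      exact Nat.card_pos
    have hMpos : 0 < Nat.card M := Nat.card_pos
    have key : Nat.card σ'.ker = M.index := by
      have : Nat.card σ'.ker * (Nat.card G * Nat.card M) = M.index * (Nat.card G * Nat.card M) := by
        calc Nat.card σ'.ker * (Nat.card G * Nat.card M)
            = (Nat.card σ'.ker * Nat.card G) * Nat.card M := by ring
          _ = Nat.card (Γ ⧸ Z0) * Nat.card Z0 := by rw [← e2, e4]
          _ = Nat.card Γ := e3.symm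
          _ = Nat.card σ.ker * Nat.card G := e1
          _ = (Nat.card M * M.index) * Nat.card G := by rw [e5]
          _ = M.index * (Nat.card G * Nat.card M) := by ring
      exact Nat.eq_of_mul_eq_mul_right (Nat.mul_pos hG hMpos) this
    rw [key]
    exact hM

/-- it suffices to exclude stem extensions with kernel of prime order -/
theorem trivStems_of_prime {G : Type v} [Group G]
    (h : ∀ (Γ : Type u) [Group Γ] [Finite Γ] (σ : Γ →* G), Cfsg.IsStemExtension σ →
      (Nat.card σ.ker).Prime → False) : TrivStems.{u} G := by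
  intro Γ _ _ σ hσ
  by_contra hne
  obtain ⟨Γ', _, _, σ', hσ', hp⟩ := exists_prime_quotient σ hσ hne
  exact h Γ' σ' hσ' hp

end quot

end Cfsg.Agent.Lib.Helper1.Stem
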