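import Mathlib
import Cfsg.Prelude.Def_KGroupFacts
import Cfsg.Agent.Lib.Helper1.Stem8

set_option autoImplicit false

/-! Stem extensions with kernel of prime order: local subgroups; splitting over perfect
subgroups with trivial stem extensions. -/

namespace Cfsg.Agent.Lib.Helper1.Stem

open scoped commutatorElement

universe u v

section prime

variable {Γ G : Type*} [Group Γ] [Group G] [Finite Γ] (σ : Γ →* G)

theorem exists_orderOf_eq_of_card_ker (ℓ : ℕ) (hℓ : ℓ.Prime) (hc : Nat.card σ.ker = ℓ) :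
    ∃ z : Γ, z ∈ σ.ker ∧ orderOf z = ℓ := by
  haveI : Fact ℓ.Prime := ⟨hℓ⟩
  obtain ⟨z, hz⟩ := exists_prime_orderOf_dvd_card' (G := σ.ker) ℓ (by rw [hc])
  exact ⟨z, z.2, by rw [Subgroup.orderOf_coe, hz]⟩

theorem false_of_kills_prime (hσ : Cfsg.IsStemExtension σ) (ℓ : ℕ) (hℓ : ℓ.Prime)
    (hc : Nat.card σ.ker = ℓ) (P : Subgroup G) (hPi : ¬ ℓ ∣ P.index) (hPk : Kills σ ℓ P) : False := by
  obtain ⟨z, hzk, hzo⟩ := exists_orderOf_eq_of_card_ker σ ℓ hℓ hc
  have hzℓ : z ^ ℓ = 1 := by rw [← hzo]; exact pow_orderOf_eq_one _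
  have h1 := pow_index_eq_one_of_kills σ hσ ℓ P hPk z hzk hzℓ
  have := orderOf_dvd_of_pow_eq_one h1
  rw [hzo] at this
  exact hPi this

theorem dvd_card_of_card_ker (hσ : Cfsg.IsStemExtension σ) (ℓ : ℕ) (hℓ : ℓ.Prime)
    (hc : Nat.card σ.ker = ℓ) : ℓ ∣ Nat.card G := by
  obtain ⟨z, hzk, hzo⟩ := exists_orderOf_eq_of_card_ker σ ℓ hℓ hc
  have hzℓ : z ^ ℓ = 1 := by rw [← hzo]; exact pow_orderOf_eq_one _
  have hk : Kills σ ℓ (⊥ : Subgroup G) := by
    intro w hw _ _
    have hab : ⁅(⊥ : Subgroup G).comap σ, (⊥ : Subgroup G).comap σ⁆ = ⊥ := by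
      rw [Subgroup.commutator_eq_bot_iff_le_centralizer]
      intro a ha
      rw [Subgroup.mem_centralizer_iff]
      intro b hb
      have hb' : b ∈ σ.ker := by
        rw [MonoidHom.mem_ker]
        have := Subgroup.mem_comap.mp hb
        exact Subgroup.mem_bot.mp this
      exact (Subgroup.mem_center_iff.mp (hσ.2.1 hb') a).symm
    rw [hab] at hw
    exact Subgroup.mem_bot.mp hw
  have h1 := pow_index_eq_one_of_kills σ hσ ℓ ⊥ hk z hzk hzℓ
  rw [Subgroup.index_bot] at h1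
  have := orderOf_dvd_of_pow_eq_one h1
  rwa [hzo] at this

/-- a kernel of order two consists of `1` and a central involution -/
theorem exists_ker_eq_pair (hσ : Cfsg.IsStemExtension σ) (hc : Nat.card σ.ker = 2) :
    ∃ z : Γ, z ∈ Subgroup.center Γ ∧ z * z = 1 ∧ z ≠ 1 ∧ σ z = 1 ∧ ∀ g : Γ, σ g = 1 → g = 1 ∨ g = z := by
  obtain ⟨z, hzk, hzo⟩ := exists_orderOf_eq_of_card_ker σ 2 Nat.prime_two hc
  have hz1 : z ≠ 1 := by
    intro h
    rw [h, orderOf_one] at hzo
    norm_num at hzo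
  have hz2 : z * z = 1 := by
    have := pow_orderOf_eq_one z
    rwa [hzo, pow_two] at this
  refine ⟨z, hσ.2.1 hzk, hz2, hz1, MonoidHom.mem_ker.mp hzk, ?_⟩
  intro g hg
  by_contra hne
  push Not at hne
  -- three distinct elements in a set of size two
  have hfin : Finite σ.ker := inferInstance
  have h3 : 3 ≤ Nat.card σ.ker := by
    let f : Fin 3 → σ.ker := ![⟨1, Subgroup.one_mem _⟩, ⟨z, hzk⟩, ⟨g, MonoidHom.mem_ker.mpr hg⟩]
    have hinj : Function.Injective f := by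
      intro a b hab
      fin_cases a <;> fin_cases b <;> simp_all [f, Subtype.ext_iff]
    have := Nat.card_le_card_of_injective f hinj
    simpa using this
  omega

end prime

end Cfsg.Agent.Lib.Helper1.Stem
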