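import Mathlib
import Cfsg.Prelude.Def_KGroupFacts
import Cfsg.Agent.Lib.Helper1.Stem9

set_option autoImplicit false

/-! Stem extensions: primes dividing the order of the kernel; multipliers of order two. -/

namespace Cfsg.Agent.Lib.Helper1.Stem

open scoped commutatorElement

universe u v

section prime

variable {Γ G : Type*} [Group Γ] [Group G] [Finite Γ] (σ : Γ →* G)

theorem exists_orderOf_eq_of_dvd_card_ker (ℓ : ℕ) (hℓ : ℓ.Prime) (hd : ℓ ∣ Nat.card σ.ker) :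
    ∃ z : Γ, z ∈ σ.ker ∧ orderOf z = ℓ := by
  haveI : Fact ℓ.Prime := ⟨hℓ⟩
  obtain ⟨z, hz⟩ := exists_prime_orderOf_dvd_card' (G := σ.ker) ℓ hd
  exact ⟨z, z.2, by rw [Subgroup.orderOf_coe, hz]⟩

/-- a prime is prime to the order of the kernel as soon as a subgroup of index prime to it kills
its part of the kernel -/
theorem not_dvd_card_ker_of_kills (hσ : Cfsg.IsStemExtension σ) (ℓ : ℕ) (hℓ : ℓ.Prime)
    (P : Subgroup G) (hPi : ¬ ℓ ∣ P.index) (hPk : Kills σ ℓ P) : ¬ ℓ ∣ Nat.card σ.ker := by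
  intro hd
  obtain ⟨z, hzk, hzo⟩ := exists_orderOf_eq_of_dvd_card_ker σ ℓ hℓ hd
  have hzℓ : z ^ ℓ = 1 := by rw [← hzo]; exact pow_orderOf_eq_one _
  have h1 := pow_index_eq_one_of_kills σ hσ ℓ P hPk z hzk hzℓ
  have := orderOf_dvd_of_pow_eq_one h1
  rw [hzo] at this
  exact hPi this

theorem dvd_card_of_dvd_card_ker (hσ : Cfsg.IsStemExtension σ) (ℓ : ℕ) (hℓ : ℓ.Prime)
    (hd : ℓ ∣ Nat.card σ.ker) : ℓ ∣ Nat.card G := by
  by_contra hnd
  have hk : Kills σ ℓ (⊥ : Subgroup G) := by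
    intro w hw _ _
    have hab : ⁅(⊥ : Subgroup G).comap σ, (⊥ : Subgroup G).comap σ⁆ = ⊥ := by
      rw [Subgroup.commutator_eq_bot_iff_le_centralizer]
      intro a ha
      rw [Subgroup.mem_centralizer_iff]
      intro b hb
      have hb' : b ∈ σ.ker := by
        rw [MonoidHom.mem_ker]
        have := Subgroup.mem_comap.mp hb
        exact Subgroup.mem_bot.mp this
      exact (Subgroup.mem_center_iff.mp (hσ.2.1 hb') a).symm
    rw [hab] at hw
    exact Subgroup.mem_bot.mp hw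
  exact not_dvd_card_ker_of_kills σ hσ ℓ hℓ ⊥ (by rw [Subgroup.index_bot]; exact hnd) hk hd

/-- the kernel is a 2-group as soon as the odd primes are killed locally -/
theorem card_ker_eq_two_pow (hσ : Cfsg.IsStemExtension σ)
    (h : ∀ ℓ : ℕ, ℓ.Prime → ℓ ≠ 2 → ℓ ∣ Nat.card G → ∃ P : Subgroup G, ¬ ℓ ∣ P.index ∧ Kills σ ℓ P) :
    ∃ a : ℕ, Nat.card σ.ker = 2 ^ a := by
  refine ⟨(Nat.card σ.ker).primeFactorsList.length, ?_⟩
  apply Nat.eq_prime_pow_of_unique_prime_dvd Nat.card_pos.ne'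
  intro ℓ hℓ hd
  by_contra h2
  obtain ⟨P, hPi, hPk⟩ := h ℓ hℓ h2 (dvd_card_of_dvd_card_ker σ hσ ℓ hℓ hd)
  exact not_dvd_card_ker_of_kills σ hσ ℓ hℓ P hPi hPk hd

end prime

/-- a multiplier of order two: a stem extension with kernel of order two, and no kernel of a stem
extension has more than two elements -/
theorem hasCyclicSchurMultiplier_two {Q : Type u} [Group Q]
    (hex : ∃ (Γ : Type u) (_ : Group Γ) (_ : Finite Γ) (σ : Γ →* Q),
      Cfsg.IsStemExtension σ ∧ Nat.card σ.ker = 2)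
    (hub : ∀ (Γ : Type u) [Group Γ] [Finite Γ] (σ : Γ →* Q), Cfsg.IsStemExtension σ →
      Nat.card σ.ker ≤ 2) : Cfsg.HasCyclicSchurMultiplier Q 2 := by
  have key : ∀ (Z : Type u) [Group Z] [Finite Z], Nat.card Z = 2 →
      Nonempty (Multiplicative (ZMod 2) ≃* Z) := by
    intro Z _ _ hZ
    haveI : Fact (Nat.Prime 2) := ⟨Nat.prime_two⟩
    have hc : IsCyclic Z := isCyclic_of_prime_card hZ
    obtain ⟨g, hg⟩ := hc.exists_generator
    exact ⟨zmodMulEquivOfGenerator hg hZ⟩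
  refine ⟨?_, ?_⟩
  · obtain ⟨Γ, i1, i2, σ, hσ, hc⟩ := hex
    obtain ⟨e⟩ := key σ.ker hc
    exact ⟨Γ, i1, i2, σ, hσ, ⟨e.symm⟩⟩
  · intro Γ _ _ σ hσ
    have h1 := hub Γ σ hσ
    have h0 : 0 < Nat.card σ.ker := Nat.card_pos
    have h12 : Nat.card σ.ker = 1 ∨ Nat.card σ.ker = 2 := by omega
    rcases h12 with h | h
    · refine ⟨1, ?_⟩
      intro x
      haveI : Subsingleton σ.ker := (Nat.card_eq_one_iff_unique.mp h).1
      exact ⟨1, Subsingleton.elim _ _⟩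
    · obtain ⟨e⟩ := key σ.ker h
      exact ⟨e.toMonoidHom, e.surjective⟩

end Cfsg.Agent.Lib.Helper1.Stem
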