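import Mathlib
import Cfsg.Prelude.Def_KGroupFacts
import Cfsg.Agent.Lib.Helper1.Stem13

set_option autoImplicit false

/-! Stem extensions: transport along isomorphisms, and cyclic multipliers from bounds. -/

namespace Cfsg.Agent.Lib.Helper1.Stem

universe u v

section transport

variable {Γ Γ' G G' : Type*} [Group Γ] [Group Γ'] [Group G] [Group G']

theorem mem_ker_comp_equiv (e1 : Γ' ≃* Γ) (e2 : G ≃* G') (σ : Γ →* G) (g : Γ') :
    g ∈ (e2.toMonoidHom.comp (σ.comp e1.toMonoidHom)).ker ↔ e1 g ∈ σ.ker := by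
  rw [MonoidHom.mem_ker, MonoidHom.mem_ker]
  show e2 (σ (e1 g)) = 1 ↔ _
  constructor
  · intro h
    apply e2.injective
    rw [h, map_one]
  · intro h
    rw [h, map_one]

theorem isStem_comp_equiv (e1 : Γ' ≃* Γ) (e2 : G ≃* G') (σ : Γ →* G)
    (hσ : Cfsg.IsStemExtension σ) :
    Cfsg.IsStemExtension (e2.toMonoidHom.comp (σ.comp e1.toMonoidHom)) := by
  obtain ⟨hs, hc, hk⟩ := hσ
  refine ⟨e2.surjective.comp (hs.comp e1.surjective), ?_, ?_⟩
  · intro g hg
    rw [mem_ker_comp_equiv] at hg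
    have h1 := hc hg
    rw [Subgroup.mem_center_iff] at h1 ⊢
    intro x
    apply e1.injective
    rw [map_mul, map_mul]
    exact h1 (e1 x)
  · intro g hg
    rw [mem_ker_comp_equiv] at hg
    have h1 := hk hg
    have h2 : (commutator Γ).map e1.symm.toMonoidHom = commutator Γ' := by
      rw [commutator_def, commutator_def, Subgroup.map_commutator, ← MonoidHom.range_eq_map,
        MonoidHom.range_eq_top.mpr e1.symm.surjective]
    rw [← h2]
    exact ⟨e1 g, h1, by simp⟩

/-- the kernels correspond -/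
noncomputable def kerEquiv (e1 : Γ' ≃* Γ) (e2 : G ≃* G') (σ : Γ →* G) :
    (e2.toMonoidHom.comp (σ.comp e1.toMonoidHom)).ker ≃* σ.ker where
  toFun x := ⟨e1 x.1, (mem_ker_comp_equiv e1 e2 σ x.1).mp x.2⟩
  invFun y := ⟨e1.symm y.1, (mem_ker_comp_equiv e1 e2 σ _).mpr (by
    rw [MulEquiv.apply_symm_apply]; exact y.2)⟩
  left_inv x := Subtype.ext (e1.symm_apply_apply x.1)
  right_inv y := Subtype.ext (e1.apply_symm_apply y.1)
  map_mul' x y := Subtype.ext (map_mul e1 x.1 y.1)

end transport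

/-- a surjection from a cyclic group of order `n` onto a cyclic group of order dividing `n` -/
theorem exists_surjective_of_cyclic {Z : Type*} [Group Z] (n : ℕ) (hc : IsCyclic Z)
    (hd : Nat.card Z ∣ n) : ∃ π : Multiplicative (ZMod n) →* Z, Function.Surjective π := by
  let c : ZMod n →+* ZMod (Nat.card Z) := ZMod.castHom hd (ZMod (Nat.card Z))
  have hcs : Function.Surjective c := ZMod.ringHom_surjective c
  refine ⟨(zmodCyclicMulEquiv hc).toMonoidHom.comp (AddMonoidHom.toMultiplicative c.toAddMonoidHom),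
    ?_⟩
  apply (zmodCyclicMulEquiv hc).surjective.comp
  intro y
  obtain ⟨x, hx⟩ := hcs y.toAdd
  exact ⟨Multiplicative.ofAdd x, by
    show Multiplicative.ofAdd (c x) = y
    rw [hx]; rfl⟩

/-- a cyclic multiplier of order `n` for a group isomorphic to `G₀`: a cyclic stem extension of
`G₀` of order `n`, and every stem extension of `G₀` has a cyclic kernel of order dividing `n` -/
theorem hasCyclicSchurMultiplier_of_equiv {G₀ : Type v} {G : Type u} [Group G₀] [Group G]
    (f : G₀ ≃* G) (n : ℕ)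
    (hex : ∃ (Γ₀ : Type) (_ : Group Γ₀) (_ : Finite Γ₀) (σ : Γ₀ →* G₀),
      Cfsg.IsStemExtension σ ∧ IsCyclic σ.ker ∧ Nat.card σ.ker = n)
    (hub : ∀ (Γ : Type u) [Group Γ] [Finite Γ] (σ : Γ →* G₀), Cfsg.IsStemExtension σ →
      IsCyclic σ.ker ∧ Nat.card σ.ker ∣ n) : Cfsg.HasCyclicSchurMultiplier G n := by
  refine ⟨?_, ?_⟩
  · obtain ⟨Γ₀, i1, i2, σ, hσ, hcyc, hcard⟩ := hex
    let e1 : ULift.{u} Γ₀ ≃* Γ₀ := MulEquiv.ulift
    refine ⟨ULift.{u} Γ₀, inferInstance, inferInstance,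
      f.toMonoidHom.comp (σ.comp e1.toMonoidHom), isStem_comp_equiv e1 f σ hσ, ?_⟩
    have e2 := kerEquiv e1 f σ
    have e3 : Multiplicative (ZMod n) ≃* σ.ker := by
      rw [← hcard]
      exact zmodCyclicMulEquiv hcyc
    exact ⟨e2.trans e3.symm⟩
  · intro Γ _ _ σ hσ
    have h1 := isStem_comp_equiv (MulEquiv.refl Γ) f.symm σ hσ
    obtain ⟨hc, hd⟩ := hub Γ _ h1
    have e2 := kerEquiv (MulEquiv.refl Γ) f.symm σ
    have hc' : IsCyclic σ.ker := by
      haveI := hc
      exact isCyclic_of_surjective e2.toMonoidHom e2.surjective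
    have hd' : Nat.card σ.ker ∣ n := by
      rw [← Nat.card_congr e2.toEquiv]; exact hd
    exact exists_surjective_of_cyclic n hc' hd'

end Cfsg.Agent.Lib.Helper1.Stem
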