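import Mathlib
import Cfsg.Prelude.Def_KGroupFacts
import Cfsg.Agent.Lib.Helper1.Stem14

set_option autoImplicit false

/-! Stem extensions: reduction to kernels of prime power order. -/

namespace Cfsg.Agent.Lib.Helper1.Stem

universe u v

section primary

variable {Γ : Type u} {G : Type v} [Group Γ] [Group G] [Finite Γ] (σ : Γ →* G)

/-- the elements of the kernel of order prime to `p` -/
def primeToPart (hcen : σ.ker ≤ Subgroup.center Γ) (p : ℕ) : Subgroup Γ where
  carrier := {z | z ∈ σ.ker ∧ Nat.Coprime (orderOf z) p}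
  one_mem' := ⟨σ.ker.one_mem, by rw [orderOf_one]; exact Nat.coprime_one_left p⟩
  mul_mem' := by
    rintro a b ⟨ha, ha'⟩ ⟨hb, hb'⟩
    refine ⟨σ.ker.mul_mem ha hb, ?_⟩
    have hcomm : Commute a b := Subgroup.mem_center_iff.mp (hcen hb) a
    exact Nat.Coprime.coprime_dvd_left hcomm.orderOf_mul_dvd_mul_orderOf
      (Nat.Coprime.mul_left ha' hb')
  inv_mem' := by
    rintro a ⟨ha, ha'⟩
    exact ⟨σ.ker.inv_mem ha, by rw [orderOf_inv]; exact ha'⟩

theorem primeToPart_le_ker (hcen : σ.ker ≤ Subgroup.center Γ) (p : ℕ) :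
    primeToPart σ hcen p ≤ σ.ker := fun _ hz => hz.1

instance primeToPart_normal (hcen : σ.ker ≤ Subgroup.center Γ) (p : ℕ) :
    (primeToPart σ hcen p).Normal := by
  constructor
  intro z hz g
  have hc := Subgroup.mem_center_iff.mp (hcen hz.1) g
  have : g * z * g⁻¹ = z := by rw [hc, mul_inv_cancel_right]
  rw [this]; exact hz

/-- the quotient by the part of the kernel of order prime to `p` -/
def primaryQuot (hcen : σ.ker ≤ Subgroup.center Γ) (p : ℕ) : Γ ⧸ primeToPart σ hcen p →* G :=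
  QuotientGroup.lift (primeToPart σ hcen p) σ (primeToPart_le_ker σ hcen p)

theorem primaryQuot_mk (hcen : σ.ker ≤ Subgroup.center Γ) (p : ℕ) (g : Γ) :
    primaryQuot σ hcen p (QuotientGroup.mk g) = σ g := rfl

theorem primaryQuot_isStem (hσ : Cfsg.IsStemExtension σ) (p : ℕ) :
    Cfsg.IsStemExtension (primaryQuot σ hσ.2.1 p) := by
  obtain ⟨hs, hcen, hcomm⟩ := hσ
  refine ⟨?_, ?_, ?_⟩
  · intro g
    obtain ⟨x, hx⟩ := hs g
    exact ⟨QuotientGroup.mk x, hx⟩
  · intro q hq
    obtain ⟨x, rfl⟩ := QuotientGroup.mk_surjective q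
    rw [MonoidHom.mem_ker, primaryQuot_mk] at hq
    have hx : x ∈ Subgroup.center Γ := hcen (MonoidHom.mem_ker.mpr hq)
    rw [Subgroup.mem_center_iff]
    intro r
    obtain ⟨y, rfl⟩ := QuotientGroup.mk_surjective r
    rw [← QuotientGroup.mk_mul, ← QuotientGroup.mk_mul, Subgroup.mem_center_iff.mp hx y]
  · intro q hq
    obtain ⟨x, rfl⟩ := QuotientGroup.mk_surjective q
    rw [MonoidHom.mem_ker, primaryQuot_mk] at hq
    have hx : x ∈ commutator Γ := hcomm (MonoidHom.mem_ker.mpr hq)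
    have h2 : (commutator Γ).map (QuotientGroup.mk' (primeToPart σ hcen p)) =
        commutator (Γ ⧸ primeToPart σ hcen p) := by
      rw [commutator_def, commutator_def, Subgroup.map_commutator, ← MonoidHom.range_eq_map,
        MonoidHom.range_eq_top.mpr (QuotientGroup.mk'_surjective _)]
    rw [← h2]
    exact ⟨x, hx, rfl⟩

/-- the kernel of the quotient is a `p`-group -/
theorem primaryQuot_ker_isPGroup (hcen : σ.ker ≤ Subgroup.center Γ) (p : ℕ) [Fact p.Prime] :
    IsPGroup p (primaryQuot σ hcen p).ker := by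
  intro q
  obtain ⟨q, hq⟩ := q
  obtain ⟨x, rfl⟩ := QuotientGroup.mk_surjective q
  rw [MonoidHom.mem_ker, primaryQuot_mk] at hq
  have hxk : x ∈ σ.ker := MonoidHom.mem_ker.mpr hq
  obtain ⟨k, m, hm, hkm⟩ := Nat.exists_eq_pow_mul_and_not_dvd (orderOf_pos x).ne' p
    (Fact.out : p.Prime).ne_one
  refine ⟨k, ?_⟩
  apply Subtype.ext
  rw [Subgroup.coe_pow, Subgroup.coe_one]
  show (QuotientGroup.mk x : Γ ⧸ primeToPart σ hcen p) ^ p ^ k = 1
  rw [← QuotientGroup.mk_pow, QuotientGroup.eq_one_iff]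
  refine ⟨σ.ker.pow_mem hxk _, ?_⟩
  have ho : orderOf (x ^ p ^ k) = m := by
    rw [orderOf_pow' x (pow_ne_zero k (Fact.out : p.Prime).ne_zero), hkm,
      Nat.gcd_eq_right (Dvd.intro _ rfl), Nat.mul_div_cancel_left _ (pow_pos (Fact.out : p.Prime).pos k)]
  rw [ho]
  exact ((Fact.out : p.Prime).coprime_iff_not_dvd.mpr hm).symm

/-- a `p`-subgroup of the kernel embeds into the kernel of the quotient -/
theorem card_dvd_of_isPGroup (hcen : σ.ker ≤ Subgroup.center Γ) (p : ℕ) [Fact p.Prime]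
    (P : Subgroup σ.ker) (hP : IsPGroup p P) :
    ∃ f : P →* (primaryQuot σ hcen p).ker, Function.Injective f := by
  let f : P →* (primaryQuot σ hcen p).ker :=
    { toFun := fun z => ⟨QuotientGroup.mk (z.1.1), by
        rw [MonoidHom.mem_ker, primaryQuot_mk]; exact MonoidHom.mem_ker.mp z.1.2⟩
      map_one' := rfl
      map_mul' := fun a b => rfl }
  refine ⟨f, ?_⟩
  rw [injective_iff_map_eq_one]
  intro z hz
  have h1 : (QuotientGroup.mk (z.1.1) : Γ ⧸ primeToPart σ hcen p) = 1 :=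
    congrArg Subtype.val hz
  rw [QuotientGroup.eq_one_iff] at h1
  obtain ⟨k, hk⟩ := hP z
  have ho : orderOf (z.1.1) ∣ p ^ k := by
    apply orderOf_dvd_of_pow_eq_one
    have := congrArg (fun t : P => (t.1.1 : Γ)) hk
    simpa using this
  have h2 : orderOf (z.1.1) = 1 := by
    have hcop : Nat.Coprime (orderOf z.1.1) (p ^ k) := Nat.Coprime.pow_right k h1.2
    exact Nat.Coprime.eq_one_of_dvd hcop ho
  apply Subtype.ext
  apply Subtype.ext
  exact orderOf_eq_one_iff.mp h2

/-- reduction to kernels of prime power order: if the stem extensions of `G` whose kernel is a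
`p`-group have cyclic kernels of order dividing `n`, for every prime `p`, then so have all stem
extensions -/
theorem cyclic_dvd_of_primary (n : ℕ) (hn : 0 < n)
    (h : ∀ (p : ℕ) [Fact p.Prime] (Γ' : Type u) [Group Γ'] [Finite Γ'] (σ' : Γ' →* G),
      Cfsg.IsStemExtension σ' → IsPGroup p σ'.ker → IsCyclic σ'.ker ∧ Nat.card σ'.ker ∣ n)
    (hσ : Cfsg.IsStemExtension σ) : IsCyclic σ.ker ∧ Nat.card σ.ker ∣ n := by
  have hcen := hσ.2.1
  have key : ∀ (p : ℕ) [Fact p.Prime] (P : Sylow p σ.ker), IsCyclic P ∧ Nat.card P ∣ n := by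
    intro p _ P
    obtain ⟨f, hf⟩ := card_dvd_of_isPGroup σ hcen p P P.isPGroup'
    obtain ⟨hc, hd⟩ := h p _ (primaryQuot σ hcen p) (primaryQuot_isStem σ hσ p)
      (primaryQuot_ker_isPGroup σ hcen p)
    haveI := hc
    exact ⟨isCyclic_of_injective f hf, (Subgroup.card_dvd_of_injective f hf).trans hd⟩
  let L : CommGroup σ.ker :=
    { (inferInstance : Group σ.ker) with
      mul_comm := fun x y => Subtype.ext (Subgroup.mem_center_iff.mp (hcen y.2) x.1) }
  haveI hnil : Group.IsNilpotent σ.ker := @CommGroup.isNilpotent σ.ker L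
  haveI hZ : IsZGroup σ.ker := ⟨fun p hp P => by
    haveI : Fact p.Prime := ⟨hp⟩
    exact (key p P).1⟩
  refine ⟨inferInstance, ?_⟩
  rw [← Nat.factorization_le_iff_dvd Nat.card_pos.ne' hn.ne']
  intro p
  by_cases hp : p.Prime
  · haveI : Fact p.Prime := ⟨hp⟩
    obtain ⟨P⟩ : Nonempty (Sylow p σ.ker) := inferInstance
    have h1 := (key p P).2
    rw [Sylow.card_eq_multiplicity] at h1
    exact (hp.pow_dvd_iff_le_factorization hn.ne').mp h1
  · rw [Nat.factorization_eq_zero_of_not_prime _ hp]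
    exact Nat.zero_le _

end primary

end Cfsg.Agent.Lib.Helper1.Stem
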