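import Mathlib
import Cfsg.Prelude.Def_KGroupFacts
import Cfsg.Agent.Lib.Helper1.Stem2

set_option autoImplicit false

/-! Local lemmas: subgroups `P` of the quotient for which the `ℓ`-part of a central kernel
does not meet the commutator subgroup of the preimage. -/

namespace Cfsg.Agent.Lib.Helper1.Stem

open scoped commutatorElement

section basic

variable {Γ G : Type*} [Group Γ] [Group G] (σ : Γ →* G)

theorem kills_of_le_bot (ℓ : ℕ) (P : Subgroup G) (h : ⁅P.comap σ, P.comap σ⁆ = ⊥) :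
    Kills σ ℓ P := by
  intro w hw _ _
  rw [h] at hw
  exact Subgroup.mem_bot.mp hw

/-- cyclic subgroups -/
theorem kills_zpowers (hsurj : Function.Surjective σ) (hcen : σ.ker ≤ Subgroup.center Γ)
    (ℓ : ℕ) (x : G) : Kills σ ℓ (Subgroup.zpowers x) := by
  obtain ⟨a, rfl⟩ := hsurj x
  apply kills_of_le_bot
  rw [eq_bot_iff]
  have e : Subgroup.zpowers (σ a) = Subgroup.closure (σ '' {a}) := by
    rw [Set.image_singleton, Subgroup.zpowers_eq_closure]
  rw [e]
  apply commutator_comap_le σ hcen ⊥ {a}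
  · intro s _ c hc
    rw [Subgroup.mem_bot] at hc
    subst hc
    simp
  · intro s hs t ht
    rw [Set.mem_singleton_iff] at hs ht
    subst hs; subst ht
    simp

/-- a prime dividing the order exactly once -/
theorem exists_kills_of_exact [Finite G] (hsurj : Function.Surjective σ)
    (hcen : σ.ker ≤ Subgroup.center Γ)
    (ℓ : ℕ) (hℓ : ℓ.Prime) (hd : ℓ ∣ Nat.card G) (hd2 : ¬ ℓ * ℓ ∣ Nat.card G) :
    ∃ P : Subgroup G, ¬ ℓ ∣ P.index ∧ Kills σ ℓ P := by
  haveI : Fact ℓ.Prime := ⟨hℓ⟩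
  obtain ⟨x, hx⟩ := exists_prime_orderOf_dvd_card' ℓ hd
  refine ⟨Subgroup.zpowers x, ?_, kills_zpowers σ hsurj hcen ℓ x⟩
  intro h
  apply hd2
  have h1 := Subgroup.card_mul_index (Subgroup.zpowers x)
  rw [Nat.card_zpowers, hx] at h1
  rw [← h1]
  exact Nat.mul_dvd_mul_left ℓ h

end basic

end Cfsg.Agent.Lib.Helper1.Stem
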