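import Mathlib
import Cfsg.Prelude.Def_KGroupFacts
import Cfsg.Agent.Lib.Helper1.Stem3

set_option autoImplicit false

/-! Local lemma for an elementary abelian group of order `8` with an element of order `7`
acting on it. -/

namespace Cfsg.Agent.Lib.Helper1.Stem

open scoped commutatorElement

section calcs

variable {Γ : Type*} [Group Γ]

theorem conj_commutator (N a b : Γ) : N * ⁅a, b⁆ * N⁻¹ = ⁅N * a * N⁻¹, N * b * N⁻¹⁆ := by
  simp only [commutatorElement_def]; group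

theorem conj_central (N c : Γ) (hc : c ∈ Subgroup.center Γ) : N * c * N⁻¹ = c := by
  have := Subgroup.mem_center_iff.mp hc N
  rw [this, mul_assoc, mul_inv_cancel, mul_one]

theorem commutator_mul_central (a b ζ : Γ) (hζ : ζ ∈ Subgroup.center Γ) : ⁅a, b * ζ⁆ = ⁅a, b⁆ := by
  have h := Subgroup.mem_center_iff.mp hζ
  simp only [commutatorElement_def]
  have e : a * (b * ζ) * a⁻¹ * (b * ζ)⁻¹ = a * b * (ζ * a⁻¹) * ζ⁻¹ * b⁻¹ := by group
  rw [e, ← h a⁻¹]
  group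

theorem central_mul_commutator (a b ζ : Γ) (hζ : ζ ∈ Subgroup.center Γ) : ⁅a * ζ, b⁆ = ⁅a, b⁆ := by
  have h := Subgroup.mem_center_iff.mp hζ
  simp only [commutatorElement_def]
  have e : a * ζ * b * (a * ζ)⁻¹ * b⁻¹ = a * (ζ * b) * ζ⁻¹ * a⁻¹ * b⁻¹ := by group
  rw [e, ← h b]
  group

theorem commutator_mul_right (a b c : Γ) (hc : ⁅a, c⁆ ∈ Subgroup.center Γ) :
    ⁅a, b * c⁆ = ⁅a, b⁆ * ⁅a, c⁆ := by
  have e : ⁅a, b * c⁆ = ⁅a, b⁆ * (b * ⁅a, c⁆ * b⁻¹) := by
    simp only [commutatorElement_def]; group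
  rw [e, conj_central b _ hc]

theorem commutator_mul_left (a b c : Γ) (hc : ⁅b, c⁆ ∈ Subgroup.center Γ) :
    ⁅a * b, c⁆ = ⁅b, c⁆ * ⁅a, c⁆ := by
  have e : ⁅a * b, c⁆ = (a * ⁅b, c⁆ * a⁻¹) * ⁅a, c⁆ := by
    simp only [commutatorElement_def]; group
  rw [e, conj_central a _ hc]

/-- the core computation: three lifts of commuting elements permuted by `N` as
`A0 ↦ A1 ↦ A2 ↦ A0 * A1` (modulo the centre) commute. -/
theorem e8_core (A0 A1 A2 N ζ : Γ) (hA1 : N * A0 * N⁻¹ = A1) (hA2 : N * A1 * N⁻¹ = A2)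
    (hA3 : N * A2 * N⁻¹ = A0 * A1 * ζ) (hζ : ζ ∈ Subgroup.center Γ)
    (h01 : ⁅A0, A1⁆ ∈ Subgroup.center Γ) (h02 : ⁅A0, A2⁆ ∈ Subgroup.center Γ)
    (h12 : ⁅A1, A2⁆ ∈ Subgroup.center Γ) :
    ⁅A0, A1⁆ = 1 ∧ ⁅A0, A2⁆ = 1 ∧ ⁅A1, A2⁆ = 1 := by
  have s1 : ⁅A1, A2⁆ = ⁅A0, A1⁆ := by
    have := conj_commutator N A0 A1
    rw [hA1, hA2, conj_central N _ h01] at this
    exact this.symm
  have h10 : ⁅A1, A0⁆ ∈ Subgroup.center Γ := by
    rw [← commutatorElement_inv]; exact Subgroup.inv_mem _ h01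
  have h21 : ⁅A2, A1⁆ ∈ Subgroup.center Γ := by
    rw [← commutatorElement_inv]; exact Subgroup.inv_mem _ h12
  have h20 : ⁅A2, A0⁆ ∈ Subgroup.center Γ := by
    rw [← commutatorElement_inv]; exact Subgroup.inv_mem _ h02
  have s2 : ⁅A0, A2⁆ = (⁅A0, A1⁆)⁻¹ := by
    have := conj_commutator N A0 A2
    rw [hA1, hA3, conj_central N _ h02, commutator_mul_central _ _ _ hζ,
      commutator_mul_right A1 A0 A1 (by simp), commutatorElement_self, mul_one] at this
    rw [this, commutatorElement_inv]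
  have s3 : ⁅A1, A2⁆ = (⁅A0, A2⁆)⁻¹ * (⁅A1, A2⁆)⁻¹ := by
    have := conj_commutator N A1 A2
    rw [hA2, hA3, conj_central N _ h12, commutator_mul_central _ _ _ hζ,
      commutator_mul_right A2 A0 A1 h21] at this
    rw [commutatorElement_inv, commutatorElement_inv]; exact this
  have e12 : ⁅A1, A2⁆ = 1 := by
    rw [s2, s1, inv_inv, mul_inv_cancel] at s3
    rw [s1]; exact s3
  refine ⟨by rw [← s1]; exact e12, ?_, e12⟩
  rw [s2, ← s1, e12, inv_one]

end calcs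

section kills

variable {Γ G : Type*} [Group Γ] [Group G] (σ : Γ →* G)

theorem mem_center_of_map_eq_one (hcen : σ.ker ≤ Subgroup.center Γ) (g : Γ) (h : σ g = 1) :
    g ∈ Subgroup.center Γ := hcen (MonoidHom.mem_ker.mpr h)

/-- elementary abelian of order `8` with an element acting as the companion matrix of
`t³ + t + 1` -/
theorem kills_e8 (hsurj : Function.Surjective σ) (hcen : σ.ker ≤ Subgroup.center Γ)
    (ℓ : ℕ) (a0 a1 a2 n : G) (h1 : n * a0 * n⁻¹ = a1) (h2 : n * a1 * n⁻¹ = a2)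
    (h3 : n * a2 * n⁻¹ = a0 * a1) (c01 : a0 * a1 = a1 * a0) (c02 : a0 * a2 = a2 * a0)
    (c12 : a1 * a2 = a2 * a1) : Kills σ ℓ (Subgroup.closure {a0, a1, a2}) := by
  obtain ⟨A0, hA0⟩ := hsurj a0
  obtain ⟨N, hN⟩ := hsurj n
  set A1 := N * A0 * N⁻¹ with hA1
  set A2 := N * A1 * N⁻¹ with hA2
  have sA1 : σ A1 = a1 := by rw [hA1, map_mul, map_mul, map_inv, hA0, hN, h1]
  have sA2 : σ A2 = a2 := by rw [hA2, map_mul, map_mul, map_inv, sA1, hN, h2]
  set ζ := (A0 * A1)⁻¹ * (N * A2 * N⁻¹) with hζ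
  have hζc : ζ ∈ Subgroup.center Γ := by
    apply mem_center_of_map_eq_one σ hcen
    rw [hζ]
    simp only [map_mul, map_inv, hA0, sA1, sA2, hN, h3]
    group
  have hA3 : N * A2 * N⁻¹ = A0 * A1 * ζ := by rw [hζ]; group
  have k01 : ⁅A0, A1⁆ ∈ Subgroup.center Γ := by
    apply mem_center_of_map_eq_one σ hcen
    rw [map_commutatorElement, hA0, sA1, commutatorElement_eq_one_iff_mul_comm, c01]
  have k02 : ⁅A0, A2⁆ ∈ Subgroup.center Γ := by
    apply mem_center_of_map_eq_one σ hcen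
    rw [map_commutatorElement, hA0, sA2, commutatorElement_eq_one_iff_mul_comm, c02]
  have k12 : ⁅A1, A2⁆ ∈ Subgroup.center Γ := by
    apply mem_center_of_map_eq_one σ hcen
    rw [map_commutatorElement, sA1, sA2, commutatorElement_eq_one_iff_mul_comm, c12]
  obtain ⟨e01, e02, e12⟩ := e8_core A0 A1 A2 N ζ rfl rfl hA3 hζc k01 k02 k12
  apply kills_of_le_bot
  rw [eq_bot_iff]
  have e : ({a0, a1, a2} : Set G) = σ '' {A0, A1, A2} := by
    rw [Set.image_insert_eq, Set.image_insert_eq, Set.image_singleton, hA0, sA1, sA2]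
  rw [e]
  apply commutator_comap_le σ hcen ⊥ {A0, A1, A2}
  · intro s _ c hc
    rw [Subgroup.mem_bot] at hc
    subst hc
    simp
  · have e10 : ⁅A1, A0⁆ = 1 := by rw [← commutatorElement_inv, e01, inv_one]
    have e20 : ⁅A2, A0⁆ = 1 := by rw [← commutatorElement_inv, e02, inv_one]
    have e21 : ⁅A2, A1⁆ = 1 := by rw [← commutatorElement_inv, e12, inv_one]
    intro s hs t ht
    rw [Subgroup.mem_bot]
    simp only [Set.mem_insert_iff, Set.mem_singleton_iff] at hs ht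
    rcases hs with rfl | rfl | rfl <;> rcases ht with rfl | rfl | rfl <;>
      first | exact commutatorElement_self _ | assumption

end kills

end Cfsg.Agent.Lib.Helper1.Stem
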