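import Mathlib
import Cfsg.Prelude.Def_KGroupFacts
import Cfsg.Agent.Lib.Helper1.Stem4

set_option autoImplicit false

/-! Local lemmas: semidihedral group of order `16`; abelian group on two generators with a
reflection. -/

namespace Cfsg.Agent.Lib.Helper1.Stem

open scoped commutatorElement

section sd

variable {Γ : Type*} [Group Γ]

theorem commute_of_mem_center {ζ : Γ} (hζ : ζ ∈ Subgroup.center Γ) (g : Γ) : Commute g ζ :=
  Subgroup.mem_center_iff.mp hζ g

theorem conj_central' (g c : Γ) (hc : c ∈ Subgroup.center Γ) : c * g * c⁻¹ = g := by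
  have := Subgroup.mem_center_iff.mp hc g
  rw [← this, mul_assoc, mul_inv_cancel, mul_one]

theorem sd16_core (A B ζ : Γ) (hζ : ζ ∈ Subgroup.center Γ) (hB2 : B * B ∈ Subgroup.center Γ)
    (hrel : B * A * B⁻¹ = A ^ 3 * ζ) :
    ⁅B, A⁆ = A ^ 2 * ζ ∧ A * (A ^ 2 * ζ) * A⁻¹ = A ^ 2 * ζ ∧
      B * (A ^ 2 * ζ) * B⁻¹ = (A ^ 2 * ζ) ^ 3 ∧ (A ^ 2 * ζ) ^ 4 = 1 := by
  have cz : ∀ g : Γ, Commute g ζ := commute_of_mem_center hζ
  have hBz : B * ζ * B⁻¹ = ζ := conj_central B ζ hζ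
  refine ⟨?_, ?_, ?_, ?_⟩
  · rw [commutatorElement_def, hrel, mul_assoc, ((cz A⁻¹).eq).symm, ← mul_assoc]
    congr 1
    group
  · rw [← mul_assoc, mul_assoc, ((cz A⁻¹).eq).symm, ← mul_assoc]
    congr 1
    group
  · have e : B * (A ^ 2 * ζ) * B⁻¹ = (B * A * B⁻¹) ^ 2 * (B * ζ * B⁻¹) := by
      rw [conj_pow]; group
    rw [e, hrel, hBz, (cz (A ^ 3)).mul_pow, (cz (A ^ 2)).mul_pow, ← pow_mul, ← pow_mul, mul_assoc,
      ← pow_succ]
  · have h1 : (B * B) * A * (B * B)⁻¹ = A := conj_central' A (B * B) hB2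
    have e : (B * B) * A * (B * B)⁻¹ = (B * A * B⁻¹) ^ 3 * (B * ζ * B⁻¹) := by
      rw [hrel, hBz]
      have : B * B * A * (B * B)⁻¹ = B * (B * A * B⁻¹) * B⁻¹ := by group
      rw [this, hrel]
      have : B * (A ^ 3 * ζ) * B⁻¹ = (B * A * B⁻¹) ^ 3 * (B * ζ * B⁻¹) := by
        rw [conj_pow]; group
      rw [this, hrel, hBz]
    rw [h1, hrel, hBz, (cz (A ^ 3)).mul_pow, ← pow_mul, mul_assoc, ← pow_succ] at e
    rw [(cz (A ^ 2)).mul_pow, ← pow_mul]
    -- e : A = A ^ 9 * ζ ^ 4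
    have e2 : A * (A ^ 8 * ζ ^ 4) = A * 1 := by
      rw [mul_one, ← mul_assoc, ← pow_succ']
      exact e.symm
    exact mul_left_cancel e2

theorem a2_core (X Y N ζ1 ζ2 : Γ) (hζ1 : ζ1 ∈ Subgroup.center Γ) (hζ2 : ζ2 ∈ Subgroup.center Γ)
    (hc : ⁅X, Y⁆ ∈ Subgroup.center Γ) (hX : N * X * N⁻¹ = X⁻¹ * ζ1) (hY : N * Y * N⁻¹ = Y * ζ2) :
    ⁅X, Y⁆ * ⁅X, Y⁆ = 1 := by
  have h1 := conj_commutator N X Y
  rw [conj_central N _ hc, hX, hY, commutator_mul_central _ _ _ hζ2,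
    central_mul_commutator _ _ _ hζ1] at h1
  have h2 : ⁅X⁻¹, Y⁆ = X⁻¹ * ⁅Y, X⁆ * X := by
    simp only [commutatorElement_def]; group
  have hc' : ⁅Y, X⁆ ∈ Subgroup.center Γ := by
    rw [← commutatorElement_inv]; exact Subgroup.inv_mem _ hc
  have h3 : X⁻¹ * ⁅Y, X⁆ * X = ⁅Y, X⁆ := by
    have := conj_central X⁻¹ _ hc'
    rwa [inv_inv] at this
  rw [h2, h3] at h1
  have h4 : ⁅X, Y⁆ * ⁅Y, X⁆ = 1 := by
    rw [← commutatorElement_inv X Y, mul_inv_cancel]
  rw [← h1] at h4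
  exact h4

end sd

section kills

variable {Γ G : Type*} [Group Γ] [Group G] (σ : Γ →* G)

/-- semidihedral of order `16` -/
theorem kills_sd16 (hsurj : Function.Surjective σ) (hcen : σ.ker ≤ Subgroup.center Γ)
    (ℓ : ℕ) (a b : G) (ha : orderOf a = 8) (hb : b * b = 1) (hrel : b * a * b⁻¹ = a ^ 3) :
    Kills σ ℓ (Subgroup.closure {a, b}) := by
  obtain ⟨A, hA⟩ := hsurj a
  obtain ⟨B, hB⟩ := hsurj b
  set ζ := (A ^ 3)⁻¹ * (B * A * B⁻¹) with hζ
  have hζc : ζ ∈ Subgroup.center Γ := by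
    apply mem_center_of_map_eq_one σ hcen
    rw [hζ]
    simp only [map_mul, map_inv, map_pow, hA, hB, hrel]
    group
  have hrelΓ : B * A * B⁻¹ = A ^ 3 * ζ := by rw [hζ]; group
  have hB2 : B * B ∈ Subgroup.center Γ := by
    apply mem_center_of_map_eq_one σ hcen
    rw [map_mul, hB, hb]
  obtain ⟨k1, k2, k3, k4⟩ := sd16_core A B ζ hζc hB2 hrelΓ
  set u := A ^ 2 * ζ with hu
  have hσu : σ u = a ^ 2 := by
    rw [hu, map_mul, map_pow, hA, MonoidHom.mem_ker.mp (by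
      rw [MonoidHom.mem_ker, hζ]
      simp only [map_mul, map_inv, map_pow, hA, hB, hrel]
      group : ζ ∈ σ.ker), mul_one]
  have e : ({a, b} : Set G) = σ '' {A, B} := by
    rw [Set.image_insert_eq, Set.image_singleton, hA, hB]
  have hle : ⁅(Subgroup.closure ({a, b} : Set G)).comap σ,
      (Subgroup.closure ({a, b} : Set G)).comap σ⁆ ≤ Subgroup.zpowers u := by
    rw [e]
    apply commutator_comap_le σ hcen (Subgroup.zpowers u) {A, B}
    · intro s hs c hc
      obtain ⟨k, rfl⟩ := Subgroup.mem_zpowers_iff.mp hc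
      have hAu : A * u ^ k * A⁻¹ = u ^ k := by rw [← conj_zpow, k2]
      have hBu : B * u ^ k * B⁻¹ = (u ^ 3) ^ k := by rw [← conj_zpow, k3]
      simp only [Set.mem_insert_iff, Set.mem_singleton_iff] at hs
      rcases hs with rfl | rfl
      · constructor
        · rw [hAu]; exact hc
        · have : s⁻¹ * u ^ k * s = u ^ k := by
            nth_rewrite 1 [← hAu]; group
          rw [this]; exact hc
      · have h3 : (u ^ 3) ^ k ∈ Subgroup.zpowers u :=
          Subgroup.zpow_mem _ (Subgroup.pow_mem _ (Subgroup.mem_zpowers u) 3) k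
        constructor
        · rw [hBu]; exact h3
        · have h4 : s⁻¹ * u ^ k * s = s * ((s * s)⁻¹ * u ^ k * (s * s)) * s⁻¹ := by group
          have h5 : (s * s)⁻¹ * u ^ k * (s * s) = u ^ k := by
            have := conj_central' (u ^ k) (s * s)⁻¹ (Subgroup.inv_mem _ hB2)
            rwa [inv_inv] at this
          rw [h4, h5, hBu]; exact h3
    · intro s hs t ht
      have hBA : ⁅B, A⁆ ∈ Subgroup.zpowers u := by rw [k1]; exact Subgroup.mem_zpowers u
      have hAB : ⁅A, B⁆ ∈ Subgroup.zpowers u := by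
        rw [← commutatorElement_inv]; exact Subgroup.inv_mem _ hBA
      simp only [Set.mem_insert_iff, Set.mem_singleton_iff] at hs ht
      rcases hs with rfl | rfl <;> rcases ht with rfl | rfl
      · rw [commutatorElement_self]; exact Subgroup.one_mem _
      · exact hAB
      · exact hBA
      · rw [commutatorElement_self]; exact Subgroup.one_mem _
  intro w hw hwk _
  obtain ⟨k, rfl⟩ := Subgroup.mem_zpowers_iff.mp (hle hw)
  have h1 : (a ^ 2) ^ k = 1 := by
    rw [← hσu, ← map_zpow]; exact MonoidHom.mem_ker.mp hwk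
  have h2 : ((2 * k : ℤ)) = (2 : ℕ) * k := by norm_num
  have h3 : a ^ (2 * k) = 1 := by
    rw [zpow_mul, zpow_ofNat]; exact h1
  have h4 := orderOf_dvd_iff_zpow_eq_one.mpr h3
  rw [ha] at h4
  obtain ⟨j, hj⟩ : (4 : ℤ) ∣ k := by
    have h5 : ((8 : ℕ) : ℤ) = 2 * 4 := by norm_num
    rw [h5] at h4
    exact (mul_dvd_mul_iff_left (by norm_num : (2 : ℤ) ≠ 0)).mp h4
  rw [hj, zpow_mul, zpow_ofNat, k4, one_zpow]

/-- abelian on two generators with a reflection -/
theorem kills_a2 (hsurj : Function.Surjective σ) (hcen : σ.ker ≤ Subgroup.center Γ)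
    (ℓ : ℕ) (hℓ : ¬ 2 ∣ ℓ) (x y n : G) (hxy : x * y = y * x) (hnx : n * x * n⁻¹ = x⁻¹)
    (hny : n * y * n⁻¹ = y) : Kills σ ℓ (Subgroup.closure {x, y}) := by
  obtain ⟨X, hX⟩ := hsurj x
  obtain ⟨Y, hY⟩ := hsurj y
  obtain ⟨N, hN⟩ := hsurj n
  set ζ1 := X * (N * X * N⁻¹) with hζ1
  set ζ2 := Y⁻¹ * (N * Y * N⁻¹) with hζ2
  have hζ1c : ζ1 ∈ Subgroup.center Γ := by
    apply mem_center_of_map_eq_one σ hcen
    rw [hζ1]
    simp only [map_mul, map_inv, hX, hN, hnx]
    group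
  have hζ2c : ζ2 ∈ Subgroup.center Γ := by
    apply mem_center_of_map_eq_one σ hcen
    rw [hζ2]
    simp only [map_mul, map_inv, hY, hN, hny]
    group
  have hc : ⁅X, Y⁆ ∈ Subgroup.center Γ := by
    apply mem_center_of_map_eq_one σ hcen
    rw [map_commutatorElement, hX, hY, commutatorElement_eq_one_iff_mul_comm, hxy]
  have hXr : N * X * N⁻¹ = X⁻¹ * ζ1 := by rw [hζ1]; group
  have hYr : N * Y * N⁻¹ = Y * ζ2 := by rw [hζ2]; group
  have hsq := a2_core X Y N ζ1 ζ2 hζ1c hζ2c hc hXr hYr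
  set c := ⁅X, Y⁆ with hcdef
  have e : ({x, y} : Set G) = σ '' {X, Y} := by
    rw [Set.image_insert_eq, Set.image_singleton, hX, hY]
  have hle : ⁅(Subgroup.closure ({x, y} : Set G)).comap σ,
      (Subgroup.closure ({x, y} : Set G)).comap σ⁆ ≤ Subgroup.zpowers c := by
    rw [e]
    apply commutator_comap_le σ hcen (Subgroup.zpowers c) {X, Y}
    · intro s _ d hd
      obtain ⟨k, rfl⟩ := Subgroup.mem_zpowers_iff.mp hd
      have hck : c ^ k ∈ Subgroup.center Γ := Subgroup.zpow_mem _ hc k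
      constructor
      · rw [conj_central s _ hck]; exact hd
      · have := conj_central s⁻¹ _ hck
        rw [inv_inv] at this
        rw [this]; exact hd
    · intro s hs t ht
      have hXY : ⁅X, Y⁆ ∈ Subgroup.zpowers c := Subgroup.mem_zpowers c
      have hYX : ⁅Y, X⁆ ∈ Subgroup.zpowers c := by
        rw [← commutatorElement_inv]; exact Subgroup.inv_mem _ hXY
      simp only [Set.mem_insert_iff, Set.mem_singleton_iff] at hs ht
      rcases hs with rfl | rfl <;> rcases ht with rfl | rfl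
      · rw [commutatorElement_self]; exact Subgroup.one_mem _
      · exact hXY
      · exact hYX
      · rw [commutatorElement_self]; exact Subgroup.one_mem _
  intro w hw _ hwℓ
  obtain ⟨k, rfl⟩ := Subgroup.mem_zpowers_iff.mp (hle hw)
  have h2 : (c ^ k) ^ 2 = 1 := by
    rw [← zpow_natCast, ← zpow_mul, mul_comm, zpow_mul, zpow_natCast, pow_two, hsq, one_zpow]
  have h3 := (pow_gcd_eq_one (a := c ^ k) (m := 2) (n := ℓ)).mpr ⟨h2, hwℓ⟩
  have h4 : Nat.gcd 2 ℓ = 1 := by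
    rw [Nat.Prime.coprime_iff_not_dvd Nat.prime_two |>.mpr hℓ]
  rwa [h4, pow_one] at h3

end kills

end Cfsg.Agent.Lib.Helper1.Stem
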