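import Mathlib
import Cfsg.Prelude.Def_KGroupFacts
import Cfsg.Agent.Lib.Helper1.Stem5

set_option autoImplicit false

/-! Local lemma: the group of order 27 and exponent 3 with an involution inverting its
generators. -/

namespace Cfsg.Agent.Lib.Helper1.Stem

open scoped commutatorElement

section es

variable {Γ : Type*} [Group Γ]

theorem commutator_pow_right (a b : Γ) (hc : ⁅a, b⁆ ∈ Subgroup.center Γ) (n : ℕ) :
    ⁅a, b ^ n⁆ = ⁅a, b⁆ ^ n := by
  induction n with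
  | zero => simp
  | succ n ih => rw [pow_succ, commutator_mul_right a (b ^ n) b hc, ih, pow_succ]

theorem commutator_pow_left (a b : Γ) (hc : a * ⁅a, b⁆ = ⁅a, b⁆ * a) (n : ℕ) :
    ⁅a ^ n, b⁆ = ⁅a, b⁆ ^ n := by
  induction n with
  | zero => simp
  | succ n ih =>
    have e : ⁅a ^ (n + 1), b⁆ = a * ⁅a ^ n, b⁆ * a⁻¹ * ⁅a, b⁆ := by
      rw [pow_succ']; simp only [commutatorElement_def]; group
    have hcn : a * ⁅a, b⁆ ^ n * a⁻¹ = ⁅a, b⁆ ^ n := by
      have : Commute a (⁅a, b⁆ ^ n) := (show Commute a ⁅a, b⁆ from hc).pow_right n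
      rw [this.eq, mul_assoc, mul_inv_cancel, mul_one]
    rw [e, ih, hcn, pow_succ]

/-- the core computation -/
theorem es_core (X Y T ζ1 ζ2 : Γ) (hζ1 : ζ1 ∈ Subgroup.center Γ) (hζ2 : ζ2 ∈ Subgroup.center Γ)
    (hu : ⁅X, ⁅X, Y⁆⁆ ∈ Subgroup.center Γ) (hv : ⁅Y, ⁅X, Y⁆⁆ ∈ Subgroup.center Γ)
    (hω : ⁅(⁅X, Y⁆)⁻¹, (Y * X)⁻¹⁆ ∈ Subgroup.center Γ)
    (hC3 : ⁅X, Y⁆ ^ 3 ∈ Subgroup.center Γ)
    (hX : T * X * T⁻¹ = X⁻¹ * ζ1) (hY : T * Y * T⁻¹ = Y⁻¹ * ζ2) :
    ⁅X, ⁅X, Y⁆⁆ = 1 ∧ ⁅Y, ⁅X, Y⁆⁆ = 1 := by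
  set C := ⁅X, Y⁆ with hC
  -- the conjugate of `C` by `T`
  have hTC : T * C * T⁻¹ = C * ⁅C⁻¹, (Y * X)⁻¹⁆ := by
    rw [hC, conj_commutator, hX, hY, commutator_mul_central _ _ _ hζ2,
      central_mul_commutator _ _ _ hζ1]
    simp only [commutatorElement_def]; group
  have key : ∀ W ζ : Γ, ζ ∈ Subgroup.center Γ → ⁅W, C⁆ ∈ Subgroup.center Γ →
      T * W * T⁻¹ = W⁻¹ * ζ → ⁅W, C⁆ = 1 := by
    intro W ζ hζ hw hTW
    have h1 := conj_commutator T W C
    rw [conj_central T _ hw, hTW, hTC, commutator_mul_central _ _ _ hω,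
      central_mul_commutator _ _ _ hζ] at h1
    have h2 : ⁅W⁻¹, C⁆ = W⁻¹ * ⁅C, W⁆ * W := by
      simp only [commutatorElement_def]; group
    have hw' : ⁅C, W⁆ ∈ Subgroup.center Γ := by
      rw [← commutatorElement_inv]; exact Subgroup.inv_mem _ hw
    have h3 : W⁻¹ * ⁅C, W⁆ * W = ⁅C, W⁆ := by
      have := conj_central W⁻¹ _ hw'
      rwa [inv_inv] at this
    rw [h2, h3] at h1
    -- h1 : ⁅W, C⁆ = ⁅C, W⁆
    have hsq : ⁅W, C⁆ ^ 2 = 1 := by
      have h4 : ⁅W, C⁆ * ⁅C, W⁆ = 1 := by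
        rw [← commutatorElement_inv W C, mul_inv_cancel]
      rw [← h1] at h4
      rw [pow_two]; exact h4
    have hcube : ⁅W, C⁆ ^ 3 = 1 := by
      rw [← commutator_pow_right W C hw 3, commutatorElement_eq_one_iff_mul_comm]
      exact Subgroup.mem_center_iff.mp hC3 W
    have : ⁅W, C⁆ ^ Nat.gcd 2 3 = 1 := pow_gcd_eq_one.mpr ⟨hsq, hcube⟩
    simpa using this
  exact ⟨key X ζ1 hζ1 hu hX, key Y ζ2 hζ2 hv hY⟩

end es

section kills

variable {Γ G : Type*} [Group Γ] [Group G] (σ : Γ →* G)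

/-- extraspecial of order `27` and exponent `3` with an inverting involution -/
theorem kills_es (hsurj : Function.Surjective σ) (hcen : σ.ker ≤ Subgroup.center Γ)
    (ℓ : ℕ) (x y t : G) (hx3 : x ^ 3 = 1) (hc : orderOf ⁅x, y⁆ = 3)
    (hxc : x * ⁅x, y⁆ = ⁅x, y⁆ * x) (hyc : y * ⁅x, y⁆ = ⁅x, y⁆ * y)
    (htx : t * x * t⁻¹ = x⁻¹) (hty : t * y * t⁻¹ = y⁻¹) :
    Kills σ ℓ (Subgroup.closure {x, y}) := by
  obtain ⟨X, hX⟩ := hsurj x
  obtain ⟨Y, hY⟩ := hsurj y
  obtain ⟨T, hT⟩ := hsurj t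
  set ζ1 := X * (T * X * T⁻¹) with hζ1
  set ζ2 := Y * (T * Y * T⁻¹) with hζ2
  have hζ1c : ζ1 ∈ Subgroup.center Γ := by
    apply mem_center_of_map_eq_one σ hcen
    rw [hζ1]
    simp only [map_mul, map_inv, hX, hT, htx]
    group
  have hζ2c : ζ2 ∈ Subgroup.center Γ := by
    apply mem_center_of_map_eq_one σ hcen
    rw [hζ2]
    simp only [map_mul, map_inv, hY, hT, hty]
    group
  have hXr : T * X * T⁻¹ = X⁻¹ * ζ1 := by rw [hζ1]; group
  have hYr : T * Y * T⁻¹ = Y⁻¹ * ζ2 := by rw [hζ2]; group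
  set C := ⁅X, Y⁆ with hC
  have hσC : σ C = ⁅x, y⁆ := by rw [hC, map_commutatorElement, hX, hY]
  have hc3 : ⁅x, y⁆ ^ 3 = 1 := by rw [← hc]; exact pow_orderOf_eq_one _
  have hu : ⁅X, C⁆ ∈ Subgroup.center Γ := by
    apply mem_center_of_map_eq_one σ hcen
    rw [map_commutatorElement, hX, hσC, commutatorElement_eq_one_iff_mul_comm, hxc]
  have hv : ⁅Y, C⁆ ∈ Subgroup.center Γ := by
    apply mem_center_of_map_eq_one σ hcen
    rw [map_commutatorElement, hY, hσC, commutatorElement_eq_one_iff_mul_comm, hyc]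
  have hω : ⁅C⁻¹, (Y * X)⁻¹⁆ ∈ Subgroup.center Γ := by
    apply mem_center_of_map_eq_one σ hcen
    rw [map_commutatorElement, map_inv, map_inv, map_mul, hX, hY, hσC,
      commutatorElement_eq_one_iff_mul_comm]
    have h1 : Commute (y * x) ⁅x, y⁆ := (show Commute y ⁅x, y⁆ from hyc).mul_left hxc
    exact (h1.inv_inv).eq.symm
  have hC3 : C ^ 3 ∈ Subgroup.center Γ := by
    apply mem_center_of_map_eq_one σ hcen
    rw [map_pow, hσC, hc3]
  obtain ⟨e1, e2⟩ := es_core X Y T ζ1 ζ2 hζ1c hζ2c hu hv hω hC3 hXr hYr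
  have cX : X * C = C * X := commutatorElement_eq_one_iff_mul_comm.mp e1
  have cY : Y * C = C * Y := commutatorElement_eq_one_iff_mul_comm.mp e2
  have hCcube : C ^ 3 = 1 := by
    rw [hC, ← commutator_pow_left X Y cX 3, commutatorElement_eq_one_iff_mul_comm]
    have hX3 : X ^ 3 ∈ Subgroup.center Γ := by
      apply mem_center_of_map_eq_one σ hcen
      rw [map_pow, hX, hx3]
    exact (Subgroup.mem_center_iff.mp hX3 Y).symm
  have e : ({x, y} : Set G) = σ '' {X, Y} := by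
    rw [Set.image_insert_eq, Set.image_singleton, hX, hY]
  have hle : ⁅(Subgroup.closure ({x, y} : Set G)).comap σ,
      (Subgroup.closure ({x, y} : Set G)).comap σ⁆ ≤ Subgroup.zpowers C := by
    rw [e]
    apply commutator_comap_le σ hcen (Subgroup.zpowers C) {X, Y}
    · intro s hs d hd
      obtain ⟨k, rfl⟩ := Subgroup.mem_zpowers_iff.mp hd
      have hcs : Commute s C := by
        simp only [Set.mem_insert_iff, Set.mem_singleton_iff] at hs
        rcases hs with rfl | rfl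
        · exact cX
        · exact cY
      have h1 : Commute s (C ^ k) := hcs.zpow_right k
      constructor
      · rw [h1.eq, mul_assoc, mul_inv_cancel, mul_one]; exact hd
      · rw [mul_assoc, ← h1.eq, ← mul_assoc, inv_mul_cancel, one_mul]; exact hd
    · intro s hs t' ht'
      have hXY : ⁅X, Y⁆ ∈ Subgroup.zpowers C := Subgroup.mem_zpowers C
      have hYX : ⁅Y, X⁆ ∈ Subgroup.zpowers C := by
        rw [← commutatorElement_inv]; exact Subgroup.inv_mem _ hXY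
      simp only [Set.mem_insert_iff, Set.mem_singleton_iff] at hs ht'
      rcases hs with rfl | rfl <;> rcases ht' with rfl | rfl
      · rw [commutatorElement_self]; exact Subgroup.one_mem _
      · exact hXY
      · exact hYX
      · rw [commutatorElement_self]; exact Subgroup.one_mem _
  intro w hw hwk _
  obtain ⟨k, rfl⟩ := Subgroup.mem_zpowers_iff.mp (hle hw)
  have h1 : ⁅x, y⁆ ^ k = 1 := by
    rw [← hσC, ← map_zpow]; exact MonoidHom.mem_ker.mp hwk
  have h4 := orderOf_dvd_iff_zpow_eq_one.mpr h1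
  rw [hc] at h4
  obtain ⟨j, hj⟩ := h4
  rw [hj, zpow_mul, zpow_natCast, hCcube, one_zpow]

end kills

end Cfsg.Agent.Lib.Helper1.Stem
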