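import Mathlib
import Cfsg.Prelude.Def_KGroupFacts
import Cfsg.Agent.Lib.Helper1.Stem13
import Cfsg.Agent.Lib.Helper1.Stem11

set_option autoImplicit false

/-! Local lemmas for stem extensions whose kernel is a `p`-group: transfer to a subgroup of index
prime to `p`, generated by two commuting elements, or dihedral of order eight. -/

namespace Cfsg.Agent.Lib.Helper1.Stem

open scoped commutatorElement

section local17

variable {Γ G : Type*} [Group Γ] [Group G] [Finite Γ] (σ : Γ →* G)

/-- transfer: a kernel that is a `p`-group lies in the commutator subgroup of the preimage of a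
subgroup of index prime to `p` -/
theorem ker_le_commutator_comap (hσ : Cfsg.IsStemExtension σ) (p : ℕ) [hp : Fact p.Prime]
    (hk : IsPGroup p σ.ker) (P : Subgroup G) (hP : ¬ p ∣ P.index) :
    σ.ker ≤ ⁅P.comap σ, P.comap σ⁆ := by
  obtain ⟨hsurj, hcen, hcomm⟩ := hσ
  intro z hz
  obtain ⟨h1, h2⟩ := pow_index_mem_commutator (P.comap σ) z (hcen hz) (hcomm hz)
  have h3 : z ^ (P.comap σ).index ∈ ⁅P.comap σ, P.comap σ⁆ := by
    rw [← Subgroup.map_subtype_commutator]
    exact ⟨⟨_, h1⟩, h2, rfl⟩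
  rw [Subgroup.index_comap_of_surjective P hsurj] at h3
  obtain ⟨k, hk'⟩ := hk ⟨z, hz⟩
  have hk'' : z ^ (p ^ k) = 1 := by simpa using congrArg Subtype.val hk'
  have hord : orderOf z ∣ p ^ k := orderOf_dvd_of_pow_eq_one hk''
  have hcop : Nat.Coprime P.index (orderOf z) := by
    apply Nat.Coprime.coprime_dvd_right hord
    apply Nat.Coprime.pow_right
    exact ((Nat.Prime.coprime_iff_not_dvd hp.out).mpr hP).symm
  obtain ⟨m, hm⟩ := exists_pow_eq_self_of_coprime hcop
  rw [← hm]
  exact Subgroup.pow_mem _ h3 m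

/-- a subgroup of index prime to `p` generated by two commuting elements -/
theorem cyclic_of_commuting_pair (hσ : Cfsg.IsStemExtension σ) (p : ℕ) [Fact p.Prime]
    (hk : IsPGroup p σ.ker) (P : Subgroup G) (hP : ¬ p ∣ P.index) (x y : G)
    (hxy : x * y = y * x) (hPle : P ≤ Subgroup.closure {x, y}) :
    IsCyclic σ.ker ∧ Nat.card σ.ker ∣ orderOf x := by
  obtain ⟨X, rfl⟩ := hσ.1 x
  obtain ⟨Y, rfl⟩ := hσ.1 y
  have hcen := hσ.2.1
  obtain ⟨ζ, hζdef⟩ : ∃ ζ, ζ = ⁅X, Y⁆ := ⟨_, rfl⟩
  have hζk : ζ ∈ σ.ker := by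
    rw [MonoidHom.mem_ker, hζdef, map_commutatorElement, commutatorElement_eq_one_iff_mul_comm]
    exact hxy
  have hζc := hcen hζk
  have hzc : Subgroup.zpowers ζ ≤ Subgroup.center Γ := Subgroup.zpowers_le.mpr hζc
  have h1 : σ.ker ≤ Subgroup.zpowers ζ := by
    refine (ker_le_commutator_comap σ hσ p hk P hP).trans ?_
    refine (Subgroup.commutator_mono (Subgroup.comap_mono hPle) (Subgroup.comap_mono hPle)).trans ?_
    have e : ({σ X, σ Y} : Set G) = σ '' {X, Y} := by rw [Set.image_pair]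
    rw [e]
    apply commutator_comap_le σ hcen (Subgroup.zpowers ζ) {X, Y}
    · intro s _ c hc
      have hcc : c ∈ Subgroup.center Γ := hzc hc
      rw [Subgroup.mem_center_iff] at hcc
      constructor
      · rw [hcc s, mul_assoc, mul_inv_cancel, mul_one]; exact hc
      · rw [mul_assoc, ← hcc s, ← mul_assoc, inv_mul_cancel, one_mul]; exact hc
    · intro s hs t ht
      simp only [Set.mem_insert_iff, Set.mem_singleton_iff] at hs ht
      rcases hs with rfl | rfl <;> rcases ht with rfl | rfl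
      · rw [commutatorElement_self]; exact Subgroup.one_mem _
      · rw [← hζdef]; exact Subgroup.mem_zpowers ζ
      · rw [← commutatorElement_inv, ← hζdef]; exact Subgroup.inv_mem _ (Subgroup.mem_zpowers ζ)
      · rw [commutatorElement_self]; exact Subgroup.one_mem _
  have hpow : ζ ^ orderOf (σ X) = 1 := by
    have hXk : X ^ orderOf (σ X) ∈ σ.ker := by
      rw [MonoidHom.mem_ker, map_pow, pow_orderOf_eq_one]
    have hXc := Subgroup.mem_center_iff.mp (hcen hXk)
    have hc : X * ⁅X, Y⁆ = ⁅X, Y⁆ * X := by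
      rw [← hζdef]; exact (Subgroup.mem_center_iff.mp hζc X)
    rw [hζdef, ← commutator_pow_left X Y hc, commutatorElement_eq_one_iff_mul_comm]
    exact (hXc Y).symm
  haveI : IsCyclic (Subgroup.zpowers ζ) := inferInstance
  refine ⟨Subgroup.isCyclic_of_le h1, ?_⟩
  refine (Subgroup.card_dvd_of_le h1).trans ?_
  rw [Nat.card_zpowers]
  exact orderOf_dvd_of_pow_eq_one hpow

/-- a prime whose square does not divide the order of the group -/
theorem card_ker_eq_one_of_not_sq_dvd [Finite G] (hσ : Cfsg.IsStemExtension σ) (p : ℕ)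
    [hp : Fact p.Prime] (hk : IsPGroup p σ.ker) (h : ¬ p * p ∣ Nat.card G) :
    Nat.card σ.ker = 1 := by
  obtain ⟨k, hk'⟩ := IsPGroup.iff_card.mp hk
  by_contra hne
  have hk0 : k ≠ 0 := by
    rintro rfl
    rw [pow_zero] at hk'
    exact hne hk'
  have hd : p ∣ Nat.card σ.ker := by
    rw [hk']; exact dvd_pow_self p hk0
  have hG := dvd_card_of_dvd_card_ker σ hσ p hp.out hd
  obtain ⟨P, hPi, hPk⟩ := exists_kills_of_exact σ hσ.1 hσ.2.1 p hp.out hG h
  exact not_dvd_card_ker_of_kills σ hσ p hp.out P hPi hPk hd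

end local17

end Cfsg.Agent.Lib.Helper1.Stem
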