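import Mathlib
import Cfsg.Prelude.Def_KGroupFacts
import Cfsg.Agent.Lib.Helper1.Stem17

set_option autoImplicit false

/-! Local lemma for stem extensions whose kernel is a 2-group: a dihedral subgroup of order eight
and odd index. -/

namespace Cfsg.Agent.Lib.Helper1.Stem

open scoped commutatorElement

section dihedral

variable {Γ : Type*} [Group Γ]

/-- the computation in the preimage of the dihedral group -/
theorem dihedral_core (A B ζ : Γ) (hζ : ∀ g : Γ, g * ζ = ζ * g) (hη : ∀ g : Γ, g * A ^ 4 = A ^ 4 * g)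
    (R : B * A * B⁻¹ = ζ * A⁻¹) :
    ⁅B, A⁆ = ζ * A⁻¹ * A⁻¹ ∧ A * ⁅B, A⁆ * A⁻¹ = ⁅B, A⁆ ∧ B * ⁅B, A⁆ * B⁻¹ = (⁅B, A⁆)⁻¹ ∧
      ⁅B, A⁆ ^ 4 = 1 := by
  have hc : ⁅B, A⁆ = ζ * A⁻¹ * A⁻¹ := by
    rw [commutatorElement_def, R]
  have hBinv : B * A⁻¹ * B⁻¹ = A * ζ⁻¹ := by
    have : B * A⁻¹ * B⁻¹ = (B * A * B⁻¹)⁻¹ := by group
    rw [this, R]; group
  have hζinv : ∀ g : Γ, g * ζ⁻¹ = ζ⁻¹ * g := by
    intro g
    have := hζ g
    calc g * ζ⁻¹ = ζ⁻¹ * (ζ * g) * ζ⁻¹ := by group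
      _ = ζ⁻¹ * (g * ζ) * ζ⁻¹ := by rw [this]
      _ = ζ⁻¹ * g := by group
  refine ⟨hc, ?_, ?_, ?_⟩
  · rw [hc]
    calc A * (ζ * A⁻¹ * A⁻¹) * A⁻¹ = (A * ζ) * A⁻¹ * A⁻¹ * A⁻¹ := by group
      _ = (ζ * A) * A⁻¹ * A⁻¹ * A⁻¹ := by rw [hζ A]
      _ = ζ * A⁻¹ * A⁻¹ := by group
  · rw [hc]
    calc B * (ζ * A⁻¹ * A⁻¹) * B⁻¹ = (B * ζ) * B⁻¹ * (B * A⁻¹ * B⁻¹) * (B * A⁻¹ * B⁻¹) := by group
      _ = (ζ * B) * B⁻¹ * (A * ζ⁻¹) * (A * ζ⁻¹) := by rw [hζ B, hBinv]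
      _ = (ζ * A) * ζ⁻¹ * (A * ζ⁻¹) := by group
      _ = (A * ζ) * ζ⁻¹ * (A * ζ⁻¹) := by rw [hζ A]
      _ = (ζ * A⁻¹ * A⁻¹)⁻¹ := by
        simp only [mul_inv_rev, inv_inv, mul_assoc, mul_inv_cancel_left]
  · have h1 : B * A ^ 4 * B⁻¹ = (ζ * A⁻¹) ^ 4 := by
      rw [← R, conj_pow]
    have hcm : Commute ζ A⁻¹ := (hζ A⁻¹).symm
    have h2 : B * A ^ 4 * B⁻¹ = A ^ 4 := by
      rw [hη B, mul_assoc, mul_inv_cancel, mul_one]
    rw [h2, hcm.mul_pow] at h1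
    -- `A ^ 8 = ζ ^ 4`
    have h3 : A ^ 4 * A ^ 4 = ζ ^ 4 := by
      calc A ^ 4 * A ^ 4 = ζ ^ 4 * A⁻¹ ^ 4 * A ^ 4 := by rw [← h1]
        _ = ζ ^ 4 := by group
    have hcm2 : Commute ζ (A⁻¹ * A⁻¹) := (hζ (A⁻¹ * A⁻¹)).symm
    rw [hc, mul_assoc, hcm2.mul_pow, ← h3]
    group

end dihedral

section local18

variable {Γ G : Type*} [Group Γ] [Group G] [Finite Γ] (σ : Γ →* G)

/-- a dihedral subgroup of order eight and odd index -/
theorem cyclic_of_dihedral (hσ : Cfsg.IsStemExtension σ) (hk : IsPGroup 2 σ.ker)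
    (P : Subgroup G) (hP : ¬ 2 ∣ P.index) (a b : G) (hrel : b * a * b⁻¹ = a⁻¹)
    (ha4 : a ^ 4 = 1) (ha2 : a ^ 2 ≠ 1) (hPle : P ≤ Subgroup.closure {a, b}) :
    IsCyclic σ.ker ∧ Nat.card σ.ker ∣ 2 := by
  haveI : Fact (Nat.Prime 2) := ⟨Nat.prime_two⟩
  obtain ⟨A, rfl⟩ := hσ.1 a
  obtain ⟨B, rfl⟩ := hσ.1 b
  have hcen := hσ.2.1
  obtain ⟨ζ, hζdef⟩ : ∃ ζ, ζ = B * A * B⁻¹ * A := ⟨_, rfl⟩
  have hζk : ζ ∈ σ.ker := by
    rw [MonoidHom.mem_ker, hζdef, map_mul, map_mul, map_mul, map_inv, hrel, inv_mul_cancel]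
  have hζ : ∀ g : Γ, g * ζ = ζ * g := Subgroup.mem_center_iff.mp (hcen hζk)
  have hηk : A ^ 4 ∈ σ.ker := by rw [MonoidHom.mem_ker, map_pow, ha4]
  have hη : ∀ g : Γ, g * A ^ 4 = A ^ 4 * g := Subgroup.mem_center_iff.mp (hcen hηk)
  have R : B * A * B⁻¹ = ζ * A⁻¹ := by rw [hζdef]; group
  obtain ⟨hc, hcA, hcB, hc4⟩ := dihedral_core A B ζ hζ hη R
  obtain ⟨c, hcdef⟩ : ∃ c, c = ⁅B, A⁆ := ⟨_, rfl⟩
  rw [← hcdef] at hc hcA hcB hc4
  have hcAi : A⁻¹ * c * A = c := by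
    calc A⁻¹ * c * A = A⁻¹ * (A * c * A⁻¹) * A := by rw [hcA]
      _ = c := by group
  have hcBi : B⁻¹ * c * B = c⁻¹ := by
    have : c = B⁻¹ * c⁻¹ * B := by
      calc c = B⁻¹ * (B * c * B⁻¹) * B := by group
        _ = B⁻¹ * c⁻¹ * B := by rw [hcB]
    calc B⁻¹ * c * B = (B⁻¹ * c⁻¹ * B)⁻¹ := by group
      _ = c⁻¹ := by rw [← this]
  have h1 : σ.ker ≤ Subgroup.zpowers c := by
    refine (ker_le_commutator_comap σ hσ 2 hk P hP).trans ?_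
    refine (Subgroup.commutator_mono (Subgroup.comap_mono hPle) (Subgroup.comap_mono hPle)).trans ?_
    have e : ({σ A, σ B} : Set G) = σ '' {A, B} := by rw [Set.image_pair]
    rw [e]
    apply commutator_comap_le σ hcen (Subgroup.zpowers c) {A, B}
    · intro s hs w hw
      obtain ⟨k, rfl⟩ := Subgroup.mem_zpowers_iff.mp hw
      simp only [Set.mem_insert_iff, Set.mem_singleton_iff] at hs
      rcases hs with rfl | rfl
      · constructor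
        · rw [← conj_zpow, hcA]; exact Subgroup.zpow_mem_zpowers c k
        · have : s⁻¹ * c ^ k * s = (s⁻¹ * c * s⁻¹⁻¹) ^ k := by rw [conj_zpow, inv_inv]
          rw [this, inv_inv, hcAi]; exact Subgroup.zpow_mem_zpowers c k
      · constructor
        · rw [← conj_zpow, hcB]
          exact Subgroup.zpow_mem (Subgroup.zpowers c) (Subgroup.inv_mem _ (Subgroup.mem_zpowers c)) k
        · have : s⁻¹ * c ^ k * s = (s⁻¹ * c * s⁻¹⁻¹) ^ k := by rw [conj_zpow, inv_inv]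
          rw [this, inv_inv, hcBi]
          exact Subgroup.zpow_mem (Subgroup.zpowers c) (Subgroup.inv_mem _ (Subgroup.mem_zpowers c)) k
    · intro s hs t ht
      simp only [Set.mem_insert_iff, Set.mem_singleton_iff] at hs ht
      rcases hs with rfl | rfl <;> rcases ht with rfl | rfl
      · rw [commutatorElement_self]; exact Subgroup.one_mem _
      · rw [← commutatorElement_inv, ← hcdef]; exact Subgroup.inv_mem _ (Subgroup.mem_zpowers c)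
      · rw [← hcdef]; exact Subgroup.mem_zpowers c
      · rw [commutatorElement_self]; exact Subgroup.one_mem _
  -- the image of `c`
  have hσc : σ c = (σ A ^ 2)⁻¹ := by
    rw [hc, map_mul, map_mul, map_inv, MonoidHom.mem_ker.mp hζk, one_mul, pow_two, mul_inv_rev]
  have hd2 : ((σ A ^ 2)⁻¹) ^ 2 = 1 := by
    rw [inv_pow, ← pow_mul, ha4, inv_one]
  have hd1 : (σ A ^ 2)⁻¹ ≠ 1 := by
    intro h
    exact ha2 (inv_eq_one.mp h)
  have h2 : σ.ker ≤ Subgroup.zpowers (c ^ 2) := by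
    intro z hz
    obtain ⟨k, rfl⟩ := Subgroup.mem_zpowers_iff.mp (h1 hz)
    have hz' : ((σ A ^ 2)⁻¹) ^ k = 1 := by
      rw [← hσc, ← map_zpow]; exact MonoidHom.mem_ker.mp hz
    rcases Int.even_or_odd' k with ⟨j, rfl | rfl⟩
    · rw [zpow_mul, zpow_ofNat]
      exact Subgroup.zpow_mem_zpowers (c ^ 2) j
    · exfalso
      rw [zpow_add, zpow_mul, zpow_one] at hz'
      have : ((σ A ^ 2)⁻¹) ^ (2 : ℤ) = 1 := by
        rw [← hd2]; norm_cast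
      rw [this] at hz'
      simp only [one_zpow, one_mul] at hz'
      exact hd1 hz'
  haveI : IsCyclic (Subgroup.zpowers (c ^ 2)) := inferInstance
  refine ⟨Subgroup.isCyclic_of_le h2, ?_⟩
  refine (Subgroup.card_dvd_of_le h2).trans ?_
  rw [Nat.card_zpowers]
  apply orderOf_dvd_of_pow_eq_one
  rw [← pow_mul]
  exact hc4

end local18

end Cfsg.Agent.Lib.Helper1.Stem
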