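import Mathlib
import Cfsg.Prelude.Def_KGroupFacts
import Cfsg.Agent.Lib.Helper1.Stem15
import Cfsg.Agent.Lib.Helper1.Stem18
import Cfsg.Agent.Lib.Helper1.PermList

set_option autoImplicit false

/-! The kernels of the stem extensions of the alternating group of degree 7 are cyclic of order
dividing 6. -/

namespace Cfsg.Agent.Lib.Helper1.A7UB

open Equiv Cfsg.Agent.Lib.Helper1.PermList Cfsg.Agent.Lib.Helper1.Stem

def pa : Perm (Fin 7) :=
  permOfNat 7 (fun x => [1,2,3,0,5,4,6].getD x 0) (fun x => [3,0,1,2,5,4,6].getD x 0) (by decide)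

def pb : Perm (Fin 7) :=
  permOfNat 7 (fun x => [2,1,0,3,5,4,6].getD x 0) (fun x => [2,1,0,3,5,4,6].getD x 0) (by decide)

def px : Perm (Fin 7) :=
  permOfNat 7 (fun x => [1,2,0,3,4,5,6].getD x 0) (fun x => [2,0,1,3,4,5,6].getD x 0) (by decide)

def py : Perm (Fin 7) :=
  permOfNat 7 (fun x => [0,1,2,4,5,3,6].getD x 0) (fun x => [0,1,2,5,3,4,6].getD x 0) (by decide)

theorem pa_sign : Perm.sign pa = 1 := by decide
theorem pb_sign : Perm.sign pb = 1 := by decide
theorem px_sign : Perm.sign px = 1 := by decide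
theorem py_sign : Perm.sign py = 1 := by decide

/-- an element of order four -/
def A : alternatingGroup (Fin 7) := ⟨pa, Perm.mem_alternatingGroup.mpr pa_sign⟩
/-- an involution inverting it -/
def B : alternatingGroup (Fin 7) := ⟨pb, Perm.mem_alternatingGroup.mpr pb_sign⟩
/-- an element of order three -/
def X : alternatingGroup (Fin 7) := ⟨px, Perm.mem_alternatingGroup.mpr px_sign⟩
/-- an element of order three commuting with it -/
def Y : alternatingGroup (Fin 7) := ⟨py, Perm.mem_alternatingGroup.mpr py_sign⟩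

theorem eq_of_val_pbeq (g h : alternatingGroup (Fin 7))
    (e : pbeq (g : Perm (Fin 7)) (h : Perm (Fin 7)) = true) : g = h :=
  Subtype.ext (eq_of_pbeq _ _ e)

theorem relBA : B * A * B⁻¹ = A⁻¹ := by
  rw [eq_inv_iff_mul_eq_one]
  apply eq_of_val_pbeq
  decide +kernel

theorem relA4 : A ^ 4 = 1 := by
  apply eq_of_val_pbeq
  decide +kernel

theorem relA2 : A ^ 2 ≠ 1 := by
  intro h
  have := congrArg (fun g : alternatingGroup (Fin 7) => ((g : Perm (Fin 7)) 0).val) h
  revert this
  decide +kernel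

theorem relXY : X * Y = Y * X := by
  apply eq_of_val_pbeq
  decide +kernel

theorem relX3 : X ^ 3 = 1 := by
  apply eq_of_val_pbeq
  decide +kernel

theorem X_ne_one : X ≠ 1 := by
  intro h
  have := congrArg (fun g : alternatingGroup (Fin 7) => ((g : Perm (Fin 7)) 0).val) h
  revert this
  decide +kernel

theorem orderOf_X : orderOf X = 3 := by
  haveI : Fact (Nat.Prime 3) := ⟨Nat.prime_three⟩
  exact orderOf_eq_prime relX3 X_ne_one

/-- a dihedral group of order eight -/
def L8 : List (alternatingGroup (Fin 7)) := [1, A, A * A, A * (A * A), B, A * B, A * (A * B), A * (A * (A * B))]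

/-- an elementary abelian group of order nine -/
def L9 : List (alternatingGroup (Fin 7)) :=
  [1, X, X * X, Y, X * Y, X * (X * Y), Y * Y, X * (Y * Y), X * (X * (Y * Y))]

theorem L8_chk : (chkOne L8 && chkMul L8 && chkNodup L8) = true := by decide +kernel

theorem L9_chk : (chkOne L9 && chkMul L9 && chkNodup L9) = true := by decide +kernel

theorem L8_one : (1 : alternatingGroup (Fin 7)) ∈ L8 := by
  have := L8_chk
  simp only [Bool.and_eq_true] at this
  exact one_mem_of_chkOne L8 this.1.1

theorem L8_mul : ∀ a ∈ L8, ∀ b ∈ L8, a * b ∈ L8 := by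
  have := L8_chk
  simp only [Bool.and_eq_true] at this
  exact mul_mem_of_chkMul L8 this.1.2

theorem L8_nodup : L8.Nodup := by
  have := L8_chk
  simp only [Bool.and_eq_true] at this
  exact nodup_of_chkNodup L8 this.2

theorem L9_one : (1 : alternatingGroup (Fin 7)) ∈ L9 := by
  have := L9_chk
  simp only [Bool.and_eq_true] at this
  exact one_mem_of_chkOne L9 this.1.1

theorem L9_mul : ∀ a ∈ L9, ∀ b ∈ L9, a * b ∈ L9 := by
  have := L9_chk
  simp only [Bool.and_eq_true] at this
  exact mul_mem_of_chkMul L9 this.1.2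

theorem L9_nodup : L9.Nodup := by
  have := L9_chk
  simp only [Bool.and_eq_true] at this
  exact nodup_of_chkNodup L9 this.2

/-- the dihedral subgroup -/
def Q8 : Subgroup (alternatingGroup (Fin 7)) := listSubgroup L8 L8_one L8_mul

/-- the elementary abelian subgroup -/
def Q9 : Subgroup (alternatingGroup (Fin 7)) := listSubgroup L9 L9_one L9_mul

theorem card_Q8 : Nat.card Q8 = 8 := card_listSubgroup L8 L8_one L8_mul L8_nodup

theorem card_Q9 : Nat.card Q9 = 9 := card_listSubgroup L9 L9_one L9_mul L9_nodup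

theorem card_alt : Nat.card (alternatingGroup (Fin 7)) = 2520 := by
  have h := two_mul_nat_card_alternatingGroup (α := Fin 7)
  rw [Nat.card_eq_fintype_card (α := Perm (Fin 7)), Fintype.card_perm, Fintype.card_fin] at h
  have : Nat.factorial 7 = 5040 := by decide
  omega

theorem index_Q8 : ¬ 2 ∣ Q8.index := by
  have h := Subgroup.card_mul_index Q8
  rw [card_Q8, card_alt] at h
  omega

theorem index_Q9 : ¬ 3 ∣ Q9.index := by
  have h := Subgroup.card_mul_index Q9
  rw [card_Q9, card_alt] at h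
  omega

theorem Q8_le : Q8 ≤ Subgroup.closure {A, B} := by
  intro g hg
  have hA : A ∈ Subgroup.closure ({A, B} : Set (alternatingGroup (Fin 7))) :=
    Subgroup.subset_closure (by simp)
  have hB : B ∈ Subgroup.closure ({A, B} : Set (alternatingGroup (Fin 7))) :=
    Subgroup.subset_closure (by simp)
  have hg' : g ∈ L8 := hg
  simp only [L8, List.mem_cons, List.not_mem_nil, or_false] at hg'
  rcases hg' with rfl | rfl | rfl | rfl | rfl | rfl | rfl | rfl
  · exact Subgroup.one_mem _
  · exact hA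
  · exact Subgroup.mul_mem _ hA hA
  · exact Subgroup.mul_mem _ hA (Subgroup.mul_mem _ hA hA)
  · exact hB
  · exact Subgroup.mul_mem _ hA hB
  · exact Subgroup.mul_mem _ hA (Subgroup.mul_mem _ hA hB)
  · exact Subgroup.mul_mem _ hA (Subgroup.mul_mem _ hA (Subgroup.mul_mem _ hA hB))

theorem Q9_le : Q9 ≤ Subgroup.closure {X, Y} := by
  intro g hg
  have hX : X ∈ Subgroup.closure ({X, Y} : Set (alternatingGroup (Fin 7))) :=
    Subgroup.subset_closure (by simp)
  have hY : Y ∈ Subgroup.closure ({X, Y} : Set (alternatingGroup (Fin 7))) :=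
    Subgroup.subset_closure (by simp)
  have hg' : g ∈ L9 := hg
  simp only [L9, List.mem_cons, List.not_mem_nil, or_false] at hg'
  rcases hg' with rfl | rfl | rfl | rfl | rfl | rfl | rfl | rfl | rfl
  · exact Subgroup.one_mem _
  · exact hX
  · exact Subgroup.mul_mem _ hX hX
  · exact hY
  · exact Subgroup.mul_mem _ hX hY
  · exact Subgroup.mul_mem _ hX (Subgroup.mul_mem _ hX hY)
  · exact Subgroup.mul_mem _ hY hY
  · exact Subgroup.mul_mem _ hX (Subgroup.mul_mem _ hY hY)
  · exact Subgroup.mul_mem _ hX (Subgroup.mul_mem _ hX (Subgroup.mul_mem _ hY hY))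

theorem not_sq_dvd (p : ℕ) (hp : p.Prime) (h2 : p ≠ 2) (h3 : p ≠ 3) : ¬ p * p ∣ 2520 := by
  intro h
  have h1 : p * p ≤ 2520 := Nat.le_of_dvd (by norm_num) h
  have h4 : p ≤ 50 := by nlinarith
  have h5 : p ∣ 2520 := Dvd.dvd.trans (Dvd.intro _ rfl) h
  interval_cases p <;> first | exact absurd rfl h2 | exact absurd rfl h3 | (revert h; revert hp; decide)

/-- the upper bound -/
theorem hub.{u} (Γ : Type u) [Group Γ] [Finite Γ] (σ : Γ →* alternatingGroup (Fin 7))
    (hσ : Cfsg.IsStemExtension σ) : IsCyclic σ.ker ∧ Nat.card σ.ker ∣ 6 := by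
  apply cyclic_dvd_of_primary σ 6 (by norm_num) ?_ hσ
  intro p hp Γ' _ _ σ' hσ' hk
  by_cases h2 : p = 2
  · subst h2
    obtain ⟨hc, hd⟩ := cyclic_of_dihedral σ' hσ' hk Q8 index_Q8 A B relBA relA4 relA2 Q8_le
    exact ⟨hc, hd.trans (by norm_num)⟩
  by_cases h3 : p = 3
  · subst h3
    obtain ⟨hc, hd⟩ := cyclic_of_commuting_pair σ' hσ' 3 hk Q9 index_Q9 X Y relXY Q9_le
    rw [orderOf_X] at hd
    exact ⟨hc, hd.trans (by norm_num)⟩
  · have h1 : Nat.card σ'.ker = 1 := by
      apply card_ker_eq_one_of_not_sq_dvd σ' hσ' p hk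
      rw [card_alt]
      exact not_sq_dvd p hp.out h2 h3
    refine ⟨?_, by rw [h1]; exact one_dvd _⟩
    haveI : Subsingleton σ'.ker := (Nat.card_eq_one_iff_unique.mp h1).1
    exact isCyclic_of_subsingleton

end Cfsg.Agent.Lib.Helper1.A7UB
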