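import Mathlib
import Cfsg.Agent.Lib.Helper1.M24W

/-!
# Orbits of an octad stabilizer on octads
-/

set_option autoImplicit false

namespace Cfsg.Agent.Lib.Helper1.M24

open Cfsg Cfsg.Agent.Lib.Helper1
open scoped Pointwise

theorem mem_HO_of_pm {e : El K} (h : pm e.t O₀ = O₀) : e.σ ∈ HO := by
  refine ⟨K_le e.mem, ?_⟩
  show e.σ • O₀fin = O₀fin
  unfold O₀fin
  rw [smul_support_eq_pm, h]

theorem gensO_mem : ∀ e ∈ gensO, e.σ ∈ HO := by
  have h : ∀ e ∈ gensO, pm e.t O₀ = O₀ := by decide +kernel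
  intro e he
  exact mem_HO_of_pm (h e he)

/-- octads meeting the standard octad equally are in one orbit of its stabilizer -/
theorem octad_orbits_std (p p' : Finset GolayPt) (hp : p ∈ octads) (hp' : p' ∈ octads)
    (h : (O₀fin ∩ p).card = (O₀fin ∩ p').card) : ∃ σ ∈ HO, σ • p = p' := by
  obtain ⟨m, hm, rfl⟩ := exists_mask_of_mem_octads hp
  obtain ⟨m', hm', rfl⟩ := exists_mask_of_mem_octads hp'
  have e1 : ∀ m, (O₀fin ∩ sp m).card = invO m := by
    intro m
    unfold O₀fin invO
    rw [card_sp_inter]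
  rw [e1, e1] at h
  exact transO gensO_mem m m' hm hm' rfl rfl h

/-- octads meeting an octad equally are in one orbit of its stabilizer -/
theorem octad_orbits (o o' o'' : Finset GolayPt) (ho : o ∈ octads) (ho' : o' ∈ octads)
    (ho'' : o'' ∈ octads) (h : (o ∩ o').card = (o ∩ o'').card) :
    ∃ g ∈ M24, g • o = o ∧ g • o' = o'' := by
  obtain ⟨τ, hτ, rfl⟩ := octad_trans O₀fin o O₀fin_mem ho
  have hτi := M24.inv_mem hτ
  have h1 : ∀ x : Finset GolayPt, (O₀fin ∩ τ⁻¹ • x).card = (τ • O₀fin ∩ x).card := by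
    intro x
    rw [← card_inter_smul τ, smul_inv_smul]
  obtain ⟨σ, hσ, hσe⟩ := octad_orbits_std (τ⁻¹ • o') (τ⁻¹ • o'') (smul_mem_octads hτi ho')
    (smul_mem_octads hτi ho'') (by rw [h1, h1, h])
  refine ⟨τ * σ * τ⁻¹, M24.mul_mem (M24.mul_mem hτ hσ.1) hτi, ?_, ?_⟩
  · rw [mul_smul, mul_smul, inv_smul_smul, MulAction.mem_stabilizer_iff.mp hσ.2]
  · rw [mul_smul, mul_smul, hσe, smul_inv_smul]

/-! ### transitivity on lists of points inside octads -/

theorem list_trans (l l' : List GolayPt) (hl : l.Nodup) (hl' : l'.Nodup) (h5 : l.length = 5)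
    (h5' : l'.length = 5) : ∃ g ∈ M24, l.map g = l' := by
  obtain ⟨g, hg, h⟩ := five_trans (fun i => l.get (Fin.cast h5.symm i))
    (fun i => l'.get (Fin.cast h5'.symm i))
    (fun i j hij => by
      have := (List.nodup_iff_injective_get.mp hl) hij
      exact Fin.cast_injective _ this)
    (fun i j hij => by
      have := (List.nodup_iff_injective_get.mp hl') hij
      exact Fin.cast_injective _ this)
  refine ⟨g, hg, ?_⟩
  apply List.ext_get
  · rw [List.length_map, h5, h5']
  · intro n h1 h2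
    rw [List.length_map, h5] at h1
    have := h ⟨n, h1⟩
    simpa using this

/-- extend a list of distinct points of an octad to five distinct points -/
theorem extend_list (o : Finset GolayPt) (ho : o ∈ octads) (l : List GolayPt) (hl : l.Nodup)
    (hlo : ∀ p ∈ l, p ∈ o) (hlen : l.length ≤ 5) :
    ∃ r : List GolayPt, (l ++ r).Nodup ∧ (l ++ r).length = 5 ∧ ∀ p ∈ l ++ r, p ∈ o := by
  have hsub : l.toFinset ⊆ o := by
    intro p hp
    exact hlo p (List.mem_toFinset.mp hp)
  have hcard : (o \ l.toFinset).card = 8 - l.length := by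
    rw [Finset.card_sdiff_of_subset hsub, ho.2, List.toFinset_card_of_nodup hl]
  refine ⟨(o \ l.toFinset).toList.take (5 - l.length), ?_, ?_, ?_⟩
  · rw [List.nodup_append]
    refine ⟨hl, (Finset.nodup_toList _).sublist (List.take_sublist _ _), ?_⟩
    intro a ha b hb hab
    subst hab
    have := List.mem_of_mem_take hb
    rw [Finset.mem_toList, Finset.mem_sdiff] at this
    exact this.2 (List.mem_toFinset.mpr ha)
  · rw [List.length_append, List.length_take, Finset.length_toList, hcard]
    omega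
  · intro p hp
    rw [List.mem_append] at hp
    rcases hp with hp | hp
    · exact hlo p hp
    · have := List.mem_of_mem_take hp
      rw [Finset.mem_toList, Finset.mem_sdiff] at this
      exact this.1

theorem smul_eq_of_map_subset {g : P24} {o o' : Finset GolayPt} (hg : g ∈ M24) (ho : o ∈ octads)
    (ho' : o' ∈ octads) (L : List GolayPt) (hL : L.Nodup) (h5 : L.length = 5)
    (hLo : ∀ p ∈ L, p ∈ o) (hLo' : ∀ p ∈ L, g p ∈ o') : g • o = o' := by
  refine octads_unique (s := (L.map g).toFinset) (smul_mem_octads hg ho) ho' ?_ ?_ ?_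
  · rw [List.toFinset_card_of_nodup (hL.map g.injective), List.length_map, h5]
  · intro p hp
    rw [List.mem_toFinset, List.mem_map] at hp
    obtain ⟨q, hq, rfl⟩ := hp
    exact Finset.smul_mem_smul_finset (hLo q hq)
  · intro p hp
    rw [List.mem_toFinset, List.mem_map] at hp
    obtain ⟨q, hq, rfl⟩ := hp
    exact hLo' q hq

/-- transitivity on (octad, list of at most five distinct points on it) -/
theorem octad_list_trans (o o' : Finset GolayPt) (ho : o ∈ octads) (ho' : o' ∈ octads)
    (l l' : List GolayPt) (hl : l.Nodup) (hl' : l'.Nodup) (hlo : ∀ p ∈ l, p ∈ o)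
    (hlo' : ∀ p ∈ l', p ∈ o') (hlen : l.length = l'.length) (h5 : l.length ≤ 5) :
    ∃ g ∈ M24, g • o = o' ∧ l.map g = l' := by
  obtain ⟨r, hr1, hr2, hr3⟩ := extend_list o ho l hl hlo h5
  obtain ⟨r', hr1', hr2', hr3'⟩ := extend_list o' ho' l' hl' hlo' (hlen ▸ h5)
  obtain ⟨g, hg, hmap⟩ := list_trans (l ++ r) (l' ++ r') hr1 hr1' hr2 hr2'
  refine ⟨g, hg, ?_, ?_⟩
  · refine smul_eq_of_map_subset hg ho ho' (l ++ r) hr1 hr2 hr3 ?_
    intro p hp
    apply hr3'
    rw [← hmap]
    exact List.mem_map_of_mem hp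
  · rw [List.map_append] at hmap
    exact (List.append_inj hmap (by rw [List.length_map, hlen])).1

/-- transitivity on (octad, subset of at most five points) -/
theorem octad_sub_trans (o o' : Finset GolayPt) (ho : o ∈ octads) (ho' : o' ∈ octads)
    (s s' : Finset GolayPt) (hs : s ⊆ o) (hs' : s' ⊆ o') (hc : s.card = s'.card)
    (h5 : s.card ≤ 5) : ∃ g ∈ M24, g • o = o' ∧ g • s = s' := by
  obtain ⟨g, hg, h1, h2⟩ := octad_list_trans o o' ho ho' s.toList s'.toList (Finset.nodup_toList _)
    (Finset.nodup_toList _) (fun p hp => hs (Finset.mem_toList.mp hp))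
    (fun p hp => hs' (Finset.mem_toList.mp hp))
    (by rw [Finset.length_toList, Finset.length_toList, hc]) (by rw [Finset.length_toList]; exact h5)
  refine ⟨g, hg, h1, ?_⟩
  ext p
  rw [← Finset.mem_toList (s := s'), ← h2, List.mem_map, Finset.mem_smul_finset]
  constructor
  · rintro ⟨q, hq, rfl⟩
    exact ⟨q, Finset.mem_toList.mpr hq, rfl⟩
  · rintro ⟨q, hq, rfl⟩
    exact ⟨q, Finset.mem_toList.mp hq, rfl⟩

end Cfsg.Agent.Lib.Helper1.M24
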