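import Mathlib
import Cfsg.Agent.Lib.Helper1.M24X
import Cfsg.Agent.Lib.Helper1.M24W4

/-!
# Orbits of stabilizers of flags (octad, points) on octads
-/

set_option autoImplicit false

namespace Cfsg.Agent.Lib.Helper1.M24

open Cfsg Cfsg.Agent.Lib.Helper1
open scoped Pointwise

theorem mem_HOF {e : El K} (fx : List ℕ) (h : pm e.t O₀ = O₀)
    (hfx : ∀ j ∈ fx, j < 24 ∧ tg e.t j = j) : e.σ ∈ HO ⊓ FixL fx := by
  refine ⟨mem_HO_of_pm h, ?_⟩
  intro j hj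
  rw [e.tab j (hfx j hj).1, (hfx j hj).2]

theorem gensXO_mem : ∀ e ∈ gensXO, e.σ ∈ HO ⊓ FixL [23] := by
  have h : ∀ e ∈ gensXO, pm e.t O₀ = O₀ ∧ ∀ j ∈ [23], j < 24 ∧ tg e.t j = j := by decide +kernel
  intro e he
  exact mem_HOF _ (h e he).1 (h e he).2

theorem gensYO_mem : ∀ e ∈ gensYO, e.σ ∈ HO ⊓ FixL [4] := by
  have h : ∀ e ∈ gensYO, pm e.t O₀ = O₀ ∧ ∀ j ∈ [4], j < 24 ∧ tg e.t j = j := by decide +kernel
  intro e he
  exact mem_HOF _ (h e he).1 (h e he).2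

theorem gensPQO_mem : ∀ e ∈ gensPQO, e.σ ∈ HO ⊓ FixL [23, 0] := by
  have h : ∀ e ∈ gensPQO, pm e.t O₀ = O₀ ∧ ∀ j ∈ [23, 0], j < 24 ∧ tg e.t j = j := by
    decide +kernel
  intro e he
  exact mem_HOF _ (h e he).1 (h e he).2

theorem gensPYO_mem : ∀ e ∈ gensPYO, e.σ ∈ HO ⊓ FixL [23, 4] := by
  have h : ∀ e ∈ gensPYO, pm e.t O₀ = O₀ ∧ ∀ j ∈ [23, 4], j < 24 ∧ tg e.t j = j := by
    decide +kernel
  intro e he
  exact mem_HOF _ (h e he).1 (h e he).2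

theorem card_O₀fin_inter (m : ℕ) : (O₀fin ∩ sp m).card = popcN 24 (O₀ &&& m) := by
  unfold O₀fin
  rw [card_sp_inter]

/-- Conjugating back an element of the stabilizer of a standard flag. -/
theorem conj_flag {g σ : P24} (hg : g ∈ M24) {fx : List ℕ} (hσ : σ ∈ HO ⊓ FixL fx)
    {o : Finset GolayPt} (hgo : g • o = O₀fin) :
    g⁻¹ * σ * g ∈ M24 ∧ (g⁻¹ * σ * g) • o = o ∧
      ∀ x : GolayPt, (∃ j ∈ fx, g x = gUnidx j) → (g⁻¹ * σ * g) x = x := by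
  refine ⟨M24.mul_mem (M24.mul_mem (M24.inv_mem hg) hσ.1.1) hg, ?_, ?_⟩
  · rw [mul_smul, mul_smul, hgo, MulAction.mem_stabilizer_iff.mp hσ.1.2, ← hgo, inv_smul_smul]
  · rintro x ⟨j, hj, hx⟩
    rw [Equiv.Perm.mul_apply, Equiv.Perm.mul_apply, hx, hσ.2 j hj, ← hx]
    simp

/-- general transport of a transitivity statement from the standard flag -/
theorem flag_trans_transport {fx : List ℕ} (fam : ℕ → Bool)
    (htr : ∀ m m' : ℕ, m ∈ octList → m' ∈ octList → fam m = true → fam m' = true →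
      popcN 24 (O₀ &&& m) = popcN 24 (O₀ &&& m') → ∃ σ ∈ HO ⊓ FixL fx, σ • sp m = sp m')
    {g : P24} (hg : g ∈ M24) {o o' o'' : Finset GolayPt} (hgo : g • o = O₀fin)
    (ho' : o' ∈ octads) (ho'' : o'' ∈ octads)
    (hf' : ∀ m, g • o' = sp m → fam m = true) (hf'' : ∀ m, g • o'' = sp m → fam m = true)
    (h : (o ∩ o').card = (o ∩ o'').card) :
    ∃ τ ∈ M24, τ • o = o ∧ τ • o' = o'' ∧
      ∀ x : GolayPt, (∃ j ∈ fx, g x = gUnidx j) → τ x = x := by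
  obtain ⟨m', hm', e'⟩ := exists_mask_of_mem_octads (smul_mem_octads hg ho')
  obtain ⟨m'', hm'', e''⟩ := exists_mask_of_mem_octads (smul_mem_octads hg ho'')
  have h1 : ∀ (x : Finset GolayPt) (m : ℕ), g • x = sp m →
      (o ∩ x).card = popcN 24 (O₀ &&& m) := by
    intro x m hx
    rw [← card_inter_smul g, hgo, hx, card_O₀fin_inter]
  obtain ⟨σ, hσ, hσe⟩ := htr m' m'' hm' hm'' (hf' m' e') (hf'' m'' e'')
    (by rw [← h1 o' m' e', ← h1 o'' m'' e'', h])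
  obtain ⟨c1, c2, c3⟩ := conj_flag hg hσ hgo
  refine ⟨g⁻¹ * σ * g, c1, c2, ?_, c3⟩
  rw [mul_smul, mul_smul, e', hσe, ← e'', inv_smul_smul]

/-- general transport of a count from the standard flag -/
theorem flag_count_transport (Q : Finset GolayPt → Prop) (Q₀ : Finset GolayPt → Prop)
    (q : ℕ → Bool) {g : P24} (hg : g ∈ M24) (hQ : ∀ x, Q₀ (g • x) ↔ Q x)
    (hq : ∀ m ∈ octList, (Q₀ (sp m) ↔ q m = true)) :
    {x | x ∈ octads ∧ Q x}.ncard = octList.countP q := by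
  rw [← ncard_octads_countP Q₀ q hq]
  apply ncard_transport g
  intro x
  rw [smul_mem_octads_iff hg, hQ]

/-- transitivity on (octad, points on it, a point off it) -/
theorem octad_list_out_trans (o : Finset GolayPt) (ho : o ∈ octads) (l l' : List GolayPt)
    (hl : l.Nodup) (hl' : l'.Nodup) (hlo : ∀ p ∈ l, p ∈ o) (hlo' : ∀ p ∈ l', p ∈ O₀fin)
    (hlen : l.length = l'.length) (h5 : l.length ≤ 5) (y : GolayPt) (hy : y ∉ o) :
    ∃ g ∈ M24, g • o = O₀fin ∧ l.map g = l' ∧ g y = gUnidx 4 := by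
  obtain ⟨g₁, hg₁, h1, h2⟩ := octad_list_trans o O₀fin ho O₀fin_mem l l' hl hl' hlo hlo' hlen h5
  have hy₁ : gIdx (g₁ y) ∉ fxO := by
    rw [← mem_O₀fin_iff, ← h1, apply_mem_smul_iff]
    exact hy
  obtain ⟨σ, hσ, hσfix, hσ4⟩ := reachO (gIdx (g₁ y)) (gIdx_lt _) hy₁
  rw [gUnidx_gIdx] at hσ4
  have hσO : ∀ p ∈ O₀fin, σ p = p := by
    intro p hp
    rw [mem_O₀fin_iff] at hp
    have := hσfix _ hp
    rwa [gUnidx_gIdx] at this
  have hσset' : σ • O₀fin = O₀fin := by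
    ext p
    rw [mem_smul_iff']
    constructor
    · intro h
      have h2 := hσO _ h
      have h3 : σ (σ⁻¹ p) = p := by simp
      rw [h3] at h2
      rw [← h2] at h
      exact h
    · intro h
      have h2 := hσO p h
      have h3 : σ⁻¹ p = p := by rw [Equiv.Perm.inv_eq_iff_eq, h2]
      rw [h3]
      exact h
  have hσset : σ⁻¹ • O₀fin = O₀fin := by
    conv_lhs => rw [← hσset']
    rw [inv_smul_smul]
  refine ⟨σ⁻¹ * g₁, M24.mul_mem (M24.inv_mem (K_le hσ)) hg₁, ?_, ?_, ?_⟩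
  · rw [mul_smul, h1, hσset]
  · rw [← h2]
    apply List.map_congr_left
    intro p hp
    have hp' : g₁ p ∈ O₀fin := by
      apply hlo'
      rw [← h2]
      exact List.mem_map_of_mem hp
    rw [Equiv.Perm.mul_apply, Equiv.Perm.inv_eq_iff_eq, hσO _ hp']
  · rw [Equiv.Perm.mul_apply, Equiv.Perm.inv_eq_iff_eq, hσ4]

end Cfsg.Agent.Lib.Helper1.M24
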