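import Mathlib
import Cfsg.Agent.Lib.Helper1.M24Y

/-!
# The octad stabilizer and its action on the octad
-/

set_option autoImplicit false

namespace Cfsg.Agent.Lib.Helper1.M24

open Cfsg Cfsg.Agent.Lib.Helper1
open scoped Pointwise

/-- the stabilizer of an octad -/
abbrev stabO (o : Finset GolayPt) : Subgroup P24 := M24 ⊓ MulAction.stabilizer P24 o

theorem card_stabO (o : Finset GolayPt) (ho : o ∈ octads) : Nat.card (stabO o) = 322560 := by
  have h := StabCard.card_subgroup_eq_orbit_mul (G := P24) M24 o octads (by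
    intro r
    constructor
    · intro hr
      exact octad_trans o r ho hr
    · rintro ⟨g, hg, rfl⟩
      exact smul_mem_octads hg ho)
  rw [card_M24, ncard_octads] at h
  exact Nat.eq_of_mul_eq_mul_left (by norm_num : 0 < 759) (h.symm.trans (by norm_num))

theorem stab_mem_iff {g : P24} {o : Finset GolayPt} (h : g • o = o) (x : GolayPt) :
    g x ∈ o ↔ x ∈ o := by
  conv_lhs => rw [← h]
  exact apply_mem_smul_iff g o x

theorem smul_eq_of_mem_iff {g : P24} {o : Finset GolayPt} (h : ∀ x, g x ∈ o ↔ x ∈ o) :
    g • o = o := by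
  ext p
  rw [mem_smul_iff', ← h (g⁻¹ p)]
  simp

/-- restriction of the octad stabilizer to the octad -/
def resO (o : Finset GolayPt) : stabO o →* Equiv.Perm ↥o where
  toFun g := g.1.subtypePerm (stab_mem_iff (MulAction.mem_stabilizer_iff.mp g.2.2))
  map_one' := rfl
  map_mul' _ _ := rfl

theorem resO_apply (o : Finset GolayPt) (g : stabO o) (x : ↥o) : (resO o g x : GolayPt) = g.1 x :=
  rfl

theorem mem_ker_resO (o : Finset GolayPt) (g : stabO o) :
    g ∈ (resO o).ker ↔ ∀ x ∈ o, g.1 x = x := by
  rw [MonoidHom.mem_ker]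
  constructor
  · intro h x hx
    have := congrArg (fun e : Equiv.Perm ↥o => (e ⟨x, hx⟩ : GolayPt)) h
    simpa [resO_apply] using this
  · intro h
    ext x
    rw [resO_apply, h x.1 x.2]
    rfl

theorem card_ker_resO (o : Finset GolayPt) (ho : o ∈ octads) :
    Nat.card (resO o).ker = 16 := by
  rw [← (octad_pointwise o ho).1]
  apply Nat.card_congr
  refine ⟨fun g => ⟨g.1.1, g.1.2.1, ?_⟩, fun g => ⟨⟨g.1, g.2.1, ?_⟩, ?_⟩, ?_, ?_⟩
  · show g.1.1 ∈ fixingSubgroup P24 (o : Set GolayPt)
    rw [mem_fixingSubgroup_iff]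
    intro x hx
    exact (mem_ker_resO o g.1).mp g.2 x hx
  · show g.1 • o = o
    apply smul_eq_of_mem_iff
    intro x
    have h2 := (mem_fixingSubgroup_iff P24).mp g.2.2
    constructor
    · intro hx
      have := h2 _ hx
      have h3 : g.1 (g.1 x) = g.1 x := this
      have e : g.1 x = x := g.1.injective h3
      rw [e] at hx
      exact hx
    · intro hx
      have : g.1 x = x := h2 x hx
      rw [this]; exact hx
  · rw [mem_ker_resO]
    intro x hx
    exact (mem_fixingSubgroup_iff P24).mp g.2.2 x hx
  · intro g; rfl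
  · intro g; rfl

theorem card_range_resO (o : Finset GolayPt) (ho : o ∈ octads) :
    Nat.card (resO o).range = 20160 := by
  have h1 := Subgroup.card_mul_index (resO o).ker
  rw [Subgroup.index_ker, card_ker_resO o ho, card_stabO o ho] at h1
  omega

theorem range_resO (o : Finset GolayPt) (ho : o ∈ octads) :
    (resO o).range = alternatingGroup ↥o := by
  apply Equiv.Perm.eq_alternatingGroup_of_index_eq_two
  have h1 := Subgroup.card_mul_index (resO o).range
  rw [card_range_resO o ho, Nat.card_eq_fintype_card (α := Equiv.Perm ↥o), Fintype.card_perm,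
    Fintype.card_coe, ho.2] at h1
  have : Nat.factorial 8 = 40320 := by decide
  omega

end Cfsg.Agent.Lib.Helper1.M24
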