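import Mathlib
import Cfsg.Agent.Lib.Helper1.M24Oct

/-!
# Elements of the stabilizer of the standard octad
-/

set_option autoImplicit false

namespace Cfsg.Agent.Lib.Helper1.AGL

open Cfsg Cfsg.Agent.Lib.Helper1 Cfsg.Agent.Lib.Helper1.M24

noncomputable section

def ag4396 : El K := El.mul n1294 n1482 [14, 1, 0, 2, 10, 17, 21, 19, 18, 12, 11, 16, 13, 6, 23, 22, 7, 3, 8, 15, 4, 20, 9, 5] (by decide +kernel)
def ag4399 : El K := El.mul n1294 ag4396 [14, 5, 17, 2, 18, 3, 13, 9, 21, 8, 7, 10, 16, 4, 23, 22, 15, 1, 11, 12, 20, 19, 6, 0] (by decide +kernel)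
def ag4406 : El K := El.mul n1294 n1806 [1, 17, 2, 0, 9, 3, 19, 8, 15, 20, 13, 12, 7, 18, 14, 11, 21, 5, 16, 4, 6, 10, 22, 23] (by decide +kernel)
def ag4408 : El K := El.mul n1482 n1063 [14, 3, 2, 5, 22, 0, 18, 10, 20, 13, 7, 15, 11, 4, 17, 16, 21, 23, 12, 8, 6, 9, 19, 1] (by decide +kernel)
def ag4416 : El K := El.mul n1482 n1482 [23, 2, 0, 5, 11, 14, 12, 6, 8, 22, 10, 9, 4, 15, 1, 19, 13, 17, 21, 20, 18, 16, 7, 3] (by decide +kernel)
def ag4470 : El K := El.mul n4395 ag4408 [5, 1, 17, 14, 13, 2, 20, 11, 4, 16, 7, 12, 15, 18, 0, 8, 9, 23, 19, 21, 10, 22, 6, 3] (by decide +kernel)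
def ag4528 : El K := El.mul n0 n960 [1, 15, 23, 11, 9, 6, 4, 8, 21, 13, 17, 12, 3, 2, 16, 18, 20, 14, 22, 7, 19, 5, 10, 0] (by decide +kernel)
def ag5570 : El K := El.mul n1 ag4528 [22, 3, 0, 2, 5, 19, 17, 20, 12, 7, 4, 21, 15, 11, 10, 14, 8, 18, 1, 13, 6, 9, 16, 23] (by decide +kernel)
def ag5786 : El K := El.mul n2 ag5570 [14, 3, 0, 6, 21, 22, 11, 10, 8, 5, 2, 20, 15, 19, 7, 17, 16, 4, 18, 9, 1, 12, 13, 23] (by decide +kernel)
def ag6959 : El K := El.mul n2 ag5786 [17, 3, 0, 1, 20, 14, 19, 7, 16, 21, 6, 10, 15, 22, 5, 11, 13, 2, 4, 12, 18, 8, 9, 23] (by decide +kernel)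
def ag132103 : El K := El.mul ag4396 n4413 [3, 14, 17, 2, 21, 23, 7, 9, 6, 8, 13, 4, 11, 16, 5, 20, 18, 0, 10, 22, 19, 12, 15, 1] (by decide +kernel)
def ag132104 : El K := El.mul ag132103 n4395 [17, 2, 0, 14, 10, 5, 13, 9, 12, 15, 4, 20, 22, 18, 23, 11, 6, 3, 19, 7, 21, 8, 16, 1] (by decide +kernel)
def ag132105 : El K := El.mul n4395 ag4399 [5, 14, 0, 17, 20, 1, 16, 22, 9, 21, 7, 11, 8, 18, 23, 13, 12, 3, 15, 19, 4, 6, 10, 2] (by decide +kernel)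
def ag132106 : El K := El.mul ag132104 n4411 [17, 0, 2, 23, 10, 5, 9, 13, 4, 19, 12, 11, 21, 6, 14, 20, 18, 3, 15, 7, 22, 8, 16, 1] (by decide +kernel)
def ag132107 : El K := El.mul ag4396 ag4408 [23, 2, 0, 17, 9, 14, 8, 11, 4, 6, 19, 22, 16, 10, 3, 7, 20, 5, 13, 18, 21, 12, 15, 1] (by decide +kernel)
def ag132108 : El K := El.mul ag132104 n3393 [5, 0, 14, 23, 13, 2, 20, 15, 6, 4, 22, 9, 10, 18, 3, 12, 8, 17, 7, 21, 11, 19, 16, 1] (by decide +kernel)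
def ag132109 : El K := El.mul ag132108 ag4396 [3, 0, 5, 14, 22, 17, 19, 21, 7, 10, 9, 8, 18, 20, 1, 16, 15, 23, 6, 12, 13, 11, 4, 2] (by decide +kernel)
def ag132110 : El K := El.mul ag4470 n1294 [23, 2, 17, 1, 10, 5, 13, 8, 12, 20, 19, 11, 4, 9, 0, 15, 7, 14, 22, 16, 21, 18, 6, 3] (by decide +kernel)
def ag132111 : El K := El.mul n3393 ag132110 [23, 3, 0, 2, 12, 1, 13, 16, 4, 15, 20, 7, 6, 10, 5, 8, 9, 17, 22, 21, 18, 19, 11, 14] (by decide +kernel)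
def ag132112 : El K := El.mul ag132103 ag132111 [1, 2, 3, 17, 11, 14, 16, 18, 21, 20, 19, 9, 7, 13, 23, 6, 8, 0, 15, 12, 10, 22, 4, 5] (by decide +kernel)
def ag132113 : El K := El.mul n3393 ag132109 [14, 5, 1, 17, 22, 0, 20, 18, 9, 12, 10, 16, 19, 15, 2, 21, 8, 23, 11, 4, 13, 7, 6, 3] (by decide +kernel)
def ag132114 : El K := El.mul ag132106 ag132107 [1, 2, 17, 3, 19, 14, 4, 11, 10, 9, 7, 16, 18, 12, 23, 13, 22, 5, 6, 15, 8, 21, 20, 0] (by decide +kernel)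
def ag132115 : El K := El.mul ag132103 n1294 [0, 23, 17, 14, 19, 3, 21, 20, 4, 7, 10, 9, 6, 18, 5, 11, 13, 2, 12, 8, 22, 16, 15, 1] (by decide +kernel)
def ag132116 : El K := El.mul ag4396 ag132106 [3, 14, 0, 5, 11, 17, 12, 6, 10, 15, 13, 16, 20, 21, 23, 4, 8, 2, 22, 19, 9, 18, 7, 1] (by decide +kernel)
def ag132117 : El K := El.mul ag4396 ag132116 [2, 23, 14, 17, 16, 3, 13, 21, 11, 22, 6, 7, 4, 20, 5, 10, 18, 0, 9, 15, 12, 8, 19, 1] (by decide +kernel)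
def ag132118 : El K := El.mul ag132112 ag132116 [17, 23, 1, 14, 9, 0, 7, 16, 19, 6, 13, 8, 10, 22, 5, 11, 21, 3, 4, 12, 20, 15, 18, 2] (by decide +kernel)
def ag132119 : El K := El.mul ag132112 ag132118 [0, 5, 2, 23, 20, 1, 18, 8, 12, 16, 13, 21, 19, 4, 14, 9, 22, 17, 11, 7, 10, 6, 15, 3] (by decide +kernel)
def ag132120 : El K := El.mul ag132114 n4521 [14, 3, 17, 5, 4, 2, 9, 16, 18, 15, 22, 10, 13, 21, 23, 11, 12, 1, 7, 8, 19, 6, 20, 0] (by decide +kernel)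
def ag132121 : El K := El.mul n3393 ag132120 [17, 14, 0, 1, 6, 3, 10, 21, 19, 8, 22, 12, 13, 18, 23, 7, 4, 2, 9, 16, 20, 11, 15, 5] (by decide +kernel)
def ag132122 : El K := El.mul n1294 ag132105 [0, 14, 17, 3, 19, 5, 10, 22, 6, 13, 15, 7, 11, 21, 23, 16, 8, 1, 12, 9, 20, 4, 18, 2] (by decide +kernel)
def ag132123 : El K := El.mul ag132118 ag132105 [0, 5, 17, 3, 20, 23, 21, 18, 6, 15, 16, 8, 19, 4, 2, 22, 10, 14, 11, 12, 9, 7, 13, 1] (by decide +kernel)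
def ag132124 : El K := El.mul ag132115 ag132119 [0, 3, 17, 1, 22, 23, 12, 4, 6, 13, 18, 16, 8, 19, 5, 7, 15, 2, 9, 20, 10, 21, 11, 14] (by decide +kernel)
def ag132125 : El K := El.mul ag132113 ag132122 [14, 2, 23, 17, 4, 0, 10, 6, 20, 15, 21, 18, 16, 7, 3, 8, 9, 5, 19, 12, 13, 22, 11, 1] (by decide +kernel)
def ag132126 : El K := El.mul n3393 ag132121 [0, 17, 5, 2, 11, 14, 12, 18, 20, 16, 22, 4, 13, 19, 23, 9, 6, 3, 10, 21, 15, 7, 8, 1] (by decide +kernel)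
def ag132127 : El K := El.mul ag132113 ag132119 [14, 0, 1, 3, 13, 5, 11, 9, 19, 8, 15, 7, 4, 22, 2, 12, 6, 23, 16, 18, 10, 20, 21, 17] (by decide +kernel)
def ag132128 : El K := El.mul ag132119 ag132105 [1, 14, 0, 17, 10, 5, 22, 15, 16, 6, 8, 21, 12, 11, 3, 4, 19, 23, 9, 7, 20, 18, 13, 2] (by decide +kernel)
def ag132129 : El K := El.mul ag132121 ag132128 [14, 23, 17, 2, 22, 3, 15, 7, 4, 10, 19, 11, 13, 12, 1, 6, 16, 5, 8, 21, 20, 9, 18, 0] (by decide +kernel)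
def ag132130 : El K := El.mul ag132128 ag132125 [3, 0, 2, 23, 10, 1, 8, 22, 20, 4, 18, 9, 19, 15, 17, 16, 6, 5, 7, 12, 11, 13, 21, 14] (by decide +kernel)
def ag132131 : El K := El.mul ag132124 ag132125 [5, 17, 14, 2, 22, 0, 18, 12, 10, 7, 21, 9, 15, 4, 1, 6, 13, 23, 20, 8, 19, 11, 16, 3] (by decide +kernel)
def ag132132 : El K := El.mul ag132125 ag132130 [17, 14, 23, 1, 21, 2, 20, 11, 13, 4, 19, 15, 12, 8, 5, 9, 10, 0, 6, 16, 18, 7, 22, 3] (by decide +kernel)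
def ag132133 : El K := El.mul ag132105 ag132126 [5, 3, 1, 0, 11, 23, 8, 15, 4, 12, 10, 20, 18, 19, 2, 21, 16, 17, 7, 6, 13, 22, 9, 14] (by decide +kernel)
def ag132134 : El K := El.mul ag132129 ag132133 [3, 2, 23, 14, 11, 0, 4, 6, 22, 13, 19, 20, 8, 21, 17, 9, 16, 5, 7, 15, 12, 18, 10, 1] (by decide +kernel)
def ag132135 : El K := El.mul ag132134 ag132127 [17, 3, 2, 14, 21, 0, 20, 13, 15, 22, 9, 6, 11, 10, 23, 8, 4, 1, 16, 7, 19, 12, 18, 5] (by decide +kernel)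
def ag132136 : El K := El.mul ag132133 ag132117 [1, 14, 2, 17, 16, 0, 19, 22, 20, 9, 8, 15, 11, 13, 23, 10, 7, 5, 12, 21, 18, 4, 6, 3] (by decide +kernel)
def ag132137 : El K := El.mul ag132132 ag132136 [14, 5, 23, 0, 10, 17, 16, 22, 18, 4, 13, 9, 15, 8, 3, 19, 11, 2, 12, 7, 6, 21, 20, 1] (by decide +kernel)
def ag132138 : El K := El.mul ag132135 ag132105 [0, 23, 17, 1, 19, 3, 4, 18, 22, 12, 13, 6, 15, 16, 5, 10, 11, 14, 8, 7, 21, 20, 9, 2] (by decide +kernel)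
def ag132139 : El K := El.mul ag132138 ag132137 [5, 3, 2, 0, 13, 14, 11, 9, 8, 19, 16, 12, 10, 22, 1, 7, 6, 17, 15, 18, 4, 20, 21, 23] (by decide +kernel)
def ag132140 : El K := El.mul ag132132 ag132117 [23, 3, 5, 0, 10, 1, 8, 7, 15, 22, 20, 11, 21, 18, 2, 19, 6, 17, 4, 9, 12, 13, 16, 14] (by decide +kernel)
def ag132141 : El K := El.mul ag132137 ag132127 [3, 14, 5, 0, 8, 17, 9, 4, 7, 18, 19, 22, 10, 20, 23, 15, 16, 1, 11, 12, 13, 6, 21, 2] (by decide +kernel)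
def ag132142 : El K := El.mul ag132135 ag132141 [14, 23, 0, 17, 15, 1, 22, 21, 13, 16, 7, 18, 9, 19, 5, 8, 4, 3, 6, 11, 10, 20, 12, 2] (by decide +kernel)
def ag132143 : El K := El.mul ag132135 ag132132 [1, 23, 5, 3, 12, 2, 19, 6, 10, 21, 7, 8, 11, 15, 0, 22, 9, 17, 20, 4, 16, 13, 18, 14] (by decide +kernel)
def ag132144 : El K := El.mul ag132139 ag132123 [5, 14, 17, 0, 4, 23, 20, 15, 11, 7, 6, 8, 18, 13, 2, 21, 16, 1, 12, 10, 19, 9, 22, 3] (by decide +kernel)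
def ag132145 : El K := El.mul ag132143 ag132127 [0, 1, 23, 3, 15, 2, 8, 21, 4, 10, 22, 6, 12, 18, 5, 11, 19, 14, 9, 20, 7, 16, 13, 17] (by decide +kernel)
def ag132146 : El K := El.mul ag132143 ag132131 [2, 17, 0, 5, 18, 1, 20, 11, 7, 6, 13, 21, 22, 12, 23, 19, 15, 14, 16, 10, 4, 8, 9, 3] (by decide +kernel)
def ag132148 : El K := El.mul ag132135 ag132142 [23, 5, 17, 1, 8, 3, 18, 12, 10, 4, 13, 16, 22, 7, 0, 15, 21, 14, 20, 6, 9, 19, 11, 2] (by decide +kernel)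
def ag132149 : El K := El.mul ag132140 ag132131 [1, 17, 2, 5, 16, 23, 4, 21, 20, 7, 13, 22, 19, 10, 3, 8, 18, 14, 12, 15, 9, 11, 6, 0] (by decide +kernel)
def ag132150 : El K := El.mul ag132145 ag132144 [2, 5, 14, 0, 15, 17, 7, 11, 6, 21, 8, 4, 9, 18, 23, 16, 19, 1, 12, 22, 20, 10, 13, 3] (by decide +kernel)
def ag132151 : El K := El.mul ag132149 ag132140 [0, 5, 23, 1, 13, 17, 20, 21, 8, 6, 9, 22, 11, 12, 2, 15, 4, 14, 16, 7, 19, 10, 18, 3] (by decide +kernel)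
def ag132152 : El K := El.mul ag132139 ag132144 [14, 1, 17, 5, 13, 23, 4, 7, 12, 9, 11, 8, 15, 22, 2, 20, 6, 3, 10, 16, 18, 19, 21, 0] (by decide +kernel)
def ag132153 : El K := El.inv n1482 [5, 23, 3, 1, 21, 2, 20, 19, 10, 13, 8, 16, 18, 11, 0, 9, 4, 17, 6, 22, 7, 12, 15, 14] (by decide +kernel)
def ag132154 : El K := El.mul ag132153 ag132152 [0, 23, 17, 2, 11, 14, 21, 19, 18, 13, 16, 10, 9, 15, 3, 7, 20, 1, 8, 4, 6, 22, 12, 5] (by decide +kernel)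
def ag132155 : El K := El.mul ag132154 n1294 [1, 14, 17, 23, 6, 0, 11, 7, 10, 21, 8, 19, 18, 20, 3, 9, 16, 2, 22, 13, 4, 15, 12, 5] (by decide +kernel)
def ag132156 : El K := El.mul ag132154 ag132154 [0, 5, 1, 17, 10, 3, 22, 4, 8, 15, 20, 16, 13, 7, 2, 19, 6, 23, 18, 11, 21, 12, 9, 14] (by decide +kernel)
def ag132161 : El K := El.mul ag132148 ag132151 [23, 3, 2, 5, 7, 14, 9, 19, 10, 18, 4, 11, 16, 22, 17, 15, 8, 0, 21, 12, 6, 13, 20, 1] (by decide +kernel)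
def ag132162 : El K := El.inv ag4416 [2, 14, 1, 23, 12, 3, 7, 22, 8, 11, 10, 4, 6, 16, 5, 13, 21, 17, 20, 15, 19, 18, 9, 0] (by decide +kernel)
def ag132163 : El K := El.mul ag132162 ag132161 [0, 23, 1, 3, 22, 5, 11, 15, 10, 20, 12, 4, 21, 9, 17, 13, 8, 2, 18, 6, 7, 16, 19, 14] (by decide +kernel)
def ag132164 : El K := El.inv ag132154 [0, 17, 3, 14, 19, 23, 20, 15, 18, 12, 11, 4, 22, 9, 5, 13, 10, 2, 8, 7, 16, 6, 21, 1] (by decide +kernel)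
def ag132165 : El K := El.mul ag132164 ag132163 [0, 1, 17, 14, 21, 23, 4, 13, 11, 16, 22, 19, 6, 12, 2, 9, 18, 3, 8, 20, 15, 10, 7, 5] (by decide +kernel)
def ag132169 : El K := El.mul ag132165 ag132165 [0, 1, 3, 2, 10, 5, 21, 12, 19, 18, 7, 20, 4, 6, 17, 16, 8, 14, 11, 15, 9, 22, 13, 23] (by decide +kernel)
def ag132170 : El K := El.mul ag132165 ag132169 [0, 1, 14, 17, 22, 23, 10, 6, 20, 8, 13, 15, 21, 4, 3, 18, 11, 2, 19, 9, 16, 7, 12, 5] (by decide +kernel)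
def ag132171 : El K := El.mul ag132150 ag132135 [1, 0, 14, 23, 10, 2, 20, 18, 16, 13, 21, 7, 4, 8, 3, 6, 15, 5, 19, 11, 22, 9, 12, 17] (by decide +kernel)
def ag132172 : El K := El.inv ag132155 [5, 0, 17, 14, 20, 23, 4, 7, 10, 15, 8, 6, 22, 19, 1, 21, 16, 2, 12, 11, 13, 9, 18, 3] (by decide +kernel)
def ag132173 : El K := El.mul ag132172 ag132171 [0, 5, 1, 3, 8, 17, 13, 12, 16, 19, 9, 7, 20, 10, 14, 4, 21, 23, 11, 6, 18, 15, 22, 2] (by decide +kernel)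
def ag132174 : El K := El.inv ag132156 [0, 2, 14, 5, 7, 1, 16, 13, 8, 22, 4, 19, 21, 12, 23, 9, 11, 3, 18, 15, 10, 20, 6, 17] (by decide +kernel)
def ag132175 : El K := El.mul ag132174 ag132173 [0, 1, 2, 5, 8, 3, 12, 21, 11, 15, 22, 13, 10, 4, 23, 7, 20, 17, 19, 16, 18, 9, 6, 14] (by decide +kernel)
def ag132176 : El K := El.mul ag132175 ag132154 [0, 14, 17, 2, 13, 23, 9, 16, 19, 4, 20, 22, 15, 7, 5, 21, 18, 1, 11, 8, 12, 6, 10, 3] (by decide +kernel)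
def ag132177 : El K := El.mul ag132175 ag132156 [0, 3, 1, 17, 22, 5, 6, 8, 11, 7, 18, 20, 4, 21, 2, 16, 12, 14, 19, 13, 9, 10, 15, 23] (by decide +kernel)
def ag132182 : El K := El.mul ag132152 ag132148 [0, 23, 3, 1, 12, 5, 10, 15, 11, 13, 22, 6, 21, 7, 14, 20, 19, 2, 18, 4, 9, 16, 8, 17] (by decide +kernel)
def ag132183 : El K := El.mul ag132164 ag132182 [0, 1, 14, 17, 22, 23, 11, 13, 4, 9, 21, 20, 6, 15, 5, 16, 7, 3, 8, 19, 12, 10, 18, 2] (by decide +kernel)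
def ag132184 : El K := El.inv ag132170 [0, 1, 17, 14, 13, 23, 7, 21, 9, 19, 6, 16, 22, 10, 2, 11, 20, 3, 15, 18, 8, 12, 4, 5] (by decide +kernel)
def ag132185 : El K := El.mul ag132184 ag132183 [0, 1, 2, 3, 4, 5, 16, 10, 13, 19, 12, 8, 7, 11, 23, 20, 21, 14, 9, 18, 22, 6, 15, 17] (by decide +kernel)
def ag132190 : El K := El.mul ag132182 ag132150 [3, 5, 14, 0, 20, 2, 15, 6, 10, 16, 11, 12, 13, 18, 17, 19, 4, 23, 21, 8, 9, 22, 7, 1] (by decide +kernel)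
def ag132191 : El K := El.mul ag4406 ag132190 [0, 3, 14, 1, 6, 2, 11, 19, 13, 21, 12, 7, 18, 16, 5, 4, 9, 23, 10, 15, 20, 22, 8, 17] (by decide +kernel)
def ag132192 : El K := El.inv ag132177 [0, 2, 14, 1, 12, 5, 6, 9, 7, 20, 21, 8, 16, 19, 17, 22, 15, 3, 10, 18, 11, 13, 4, 23] (by decide +kernel)
def ag132193 : El K := El.mul ag132192 ag132191 [0, 1, 17, 2, 6, 14, 8, 18, 19, 13, 16, 9, 10, 15, 5, 12, 20, 23, 21, 22, 11, 4, 7, 3] (by decide +kernel)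
def ag132194 : El K := El.inv ag132165 [0, 1, 14, 17, 6, 23, 12, 22, 18, 15, 21, 8, 13, 7, 3, 20, 9, 2, 16, 11, 19, 4, 10, 5] (by decide +kernel)
def ag132195 : El K := El.mul ag132194 ag132193 [0, 1, 2, 14, 12, 3, 18, 16, 11, 7, 9, 15, 21, 20, 23, 13, 19, 5, 4, 10, 8, 6, 22, 17] (by decide +kernel)
def ag132201 : El K := El.mul ag132130 ag132146 [2, 5, 3, 1, 7, 0, 11, 9, 22, 8, 15, 13, 21, 19, 14, 12, 16, 17, 6, 18, 10, 20, 4, 23] (by decide +kernel)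
def ag132202 : El K := El.mul ag6959 ag132201 [0, 14, 1, 3, 7, 17, 10, 21, 9, 16, 11, 22, 8, 12, 5, 15, 13, 2, 19, 4, 6, 18, 20, 23] (by decide +kernel)
def ag132203 : El K := El.inv ag132176 [0, 17, 3, 23, 9, 14, 21, 13, 19, 6, 22, 18, 20, 4, 1, 12, 7, 2, 16, 8, 10, 15, 11, 5] (by decide +kernel)
def ag132204 : El K := El.mul ag132203 ag132202 [0, 1, 17, 23, 13, 2, 22, 15, 6, 7, 18, 11, 19, 20, 14, 12, 4, 3, 8, 9, 21, 16, 10, 5] (by decide +kernel)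
def ag132205 : El K := El.mul ag132194 ag132204 [0, 1, 2, 5, 7, 14, 10, 20, 12, 22, 16, 8, 11, 19, 3, 13, 6, 17, 18, 15, 4, 9, 21, 23] (by decide +kernel)
def ag132206 : El K := El.inv ag132175 [0, 1, 2, 5, 13, 3, 22, 15, 4, 21, 12, 8, 6, 11, 23, 9, 19, 17, 20, 18, 16, 7, 10, 14] (by decide +kernel)
def ag132207 : El K := El.mul ag132206 ag132205 [0, 1, 2, 3, 15, 23, 12, 16, 6, 10, 19, 4, 8, 18, 5, 11, 22, 17, 20, 9, 13, 21, 7, 14] (by decide +kernel)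

/-- generator 0 -/
def ea0 : El K := n1294
/-- generator 1 -/
def ea1 : El K := n3393
/-- generator 2 -/
def ea2 : El K := n4395
/-- generator 3 -/
def ea3 : El K := n1482
/-- generator 4 -/
def ea4 : El K := ag132154
/-- generator 5 -/
def ea5 : El K := ag132165
/-- generator 6 -/
def ea6 : El K := ag132175
/-- generator 7 -/
def ea7 : El K := ag132195
/-- generator 8 -/
def ea8 : El K := ag132207
/-- generator 9 -/
def ea9 : El K := ag132185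
/-- generator 10 -/
def ea10 : El K := n824
/-- generator 11 -/
def ea11 : El K := n862
/-- generator 12 -/
def ea12 : El K := n774
/-- generator 13 -/
def ea13 : El K := n806
/-- the involution -/
def eZ : El K := n370

/-- generators for level 0 -/
def ga0 : List (El K) := [ea0, ea1, ea2, ea3, ea4, ea5, ea6, ea7, ea8, ea9, ea10, ea11, ea12, ea13]
/-- generators for level 1 -/
def ga1 : List (El K) := [ea4, ea5, ea6, ea7, ea8, ea9, ea10, ea11, ea12, ea13]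
/-- generators for level 2 -/
def ga2 : List (El K) := [ea5, ea6, ea7, ea8, ea9, ea10, ea11, ea12, ea13]
/-- generators for level 3 -/
def ga3 : List (El K) := [ea6, ea7, ea8, ea9, ea10, ea11, ea12, ea13]
/-- generators for level 4 -/
def ga4 : List (El K) := [ea8, ea9, ea10, ea11, ea12, ea13]
/-- generators for level 5 -/
def ga5 : List (El K) := [ea9, ea10, ea11, ea12, ea13]
/-- generators for level 6 -/
def ga6 : List (El K) := [ea10, ea11, ea12, ea13]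

end

end Cfsg.Agent.Lib.Helper1.AGL
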