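import Mathlib
import Cfsg.Agent.Lib.Helper1.AGL1

/-!
# The stabilizer of the standard octad acts by affine maps on the sixteen other points
-/

set_option autoImplicit false

namespace Cfsg.Agent.Lib.Helper1.AGL

open Cfsg Cfsg.Agent.Lib.Helper1 Cfsg.Agent.Lib.Helper1.M24 Matrix
open scoped Pointwise

noncomputable section

/-- vectors -/
abbrev V5 := Fin 5 → ZMod 2

/-- matrices -/
abbrev M5 := Matrix (Fin 5) (Fin 5) (ZMod 2)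

/-- the special linear group -/
abbrev SL5 := SpecialLinearGroup (Fin 5) (ZMod 2)

/-- the points outside the octad, indexed by the vectors with second coordinate one -/
def cTbl : List ℕ := [4, 8, 7, 15, 6, 20, 22, 18, 11, 13, 9, 21, 10, 19, 12, 16]

/-- the index of the point of a vector -/
def cIdx (a b c d : ZMod 2) : ℕ := tg cTbl (8 * a.val + 4 * b.val + 2 * c.val + d.val)

/-- the point of a vector -/
def β (x : V5) : GolayPt := gUnidx (cIdx (x 0) (x 2) (x 3) (x 4))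

theorem cIdx_lt : ∀ a b c d : ZMod 2, cIdx a b c d < 24 := by decide

theorem cIdx_inj : ∀ a b c d a' b' c' d' : ZMod 2, cIdx a b c d = cIdx a' b' c' d' →
    a = a' ∧ b = b' ∧ c = c' ∧ d = d' := by decide

theorem cIdx_surj : ∀ q < 24, q ∉ fxO → ∃ a b c d : ZMod 2, cIdx a b c d = q := by decide

theorem cIdx_not_mem : ∀ a b c d : ZMod 2, cIdx a b c d ∉ fxO := by decide

theorem β_inj {x y : V5} (hx : x 1 = 1) (hy : y 1 = 1) (h : β x = β y) : x = y := by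
  have h1 := gUnidx_inj (cIdx_lt _ _ _ _) (cIdx_lt _ _ _ _) h
  obtain ⟨h0, h2, h3, h4⟩ := cIdx_inj _ _ _ _ _ _ _ _ h1
  funext k
  fin_cases k
  · exact h0
  · exact hx.trans hy.symm
  · exact h2
  · exact h3
  · exact h4

theorem β_surj (p : GolayPt) (hp : gIdx p ∉ fxO) : ∃ x : V5, x 1 = 1 ∧ β x = p := by
  obtain ⟨a, b, c, d, h⟩ := cIdx_surj (gIdx p) (gIdx_lt p) hp
  refine ⟨![a, 1, b, c, d], rfl, ?_⟩
  unfold β
  show gUnidx (cIdx a b c d) = p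
  rw [h, gUnidx_gIdx]

/-- the second row of the matrix is the second basis vector -/
def Row1 (m : M5) : Prop := ∀ x : V5, (m *ᵥ x) 1 = x 1

/-- boolean form -/
def row1OK (M : M5) : Prop := M 1 0 = 0 ∧ M 1 1 = 1 ∧ M 1 2 = 0 ∧ M 1 3 = 0 ∧ M 1 4 = 0

instance (M : M5) : Decidable (row1OK M) := by
  unfold row1OK
  infer_instance

theorem row1_of_OK {M : M5} (h : row1OK M) : Row1 M := by
  obtain ⟨h0, h1, h2, h3, h4⟩ := h
  intro x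
  simp [Matrix.mulVec, dotProduct, Fin.sum_univ_five, h0, h1, h2, h3, h4]

theorem row1OK_of {M : M5} (h : Row1 M) : row1OK M := by
  refine ⟨?_, ?_, ?_, ?_, ?_⟩
  · have := h (Pi.single 0 1)
    simpa [Matrix.mulVec_single_one] using this
  · have := h (Pi.single 1 1)
    simpa [Matrix.mulVec_single_one] using this
  · have := h (Pi.single 2 1)
    simpa [Matrix.mulVec_single_one] using this
  · have := h (Pi.single 3 1)
    simpa [Matrix.mulVec_single_one] using this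
  · have := h (Pi.single 4 1)
    simpa [Matrix.mulVec_single_one] using this

/-- the table acts on the points as the matrix acts on the vectors -/
def lin5OK (t : List ℕ) (M : M5) : Prop :=
  ∀ a b c d : ZMod 2, tg t (cIdx a b c d) =
    cIdx (M 0 0 * a + M 0 1 + M 0 2 * b + M 0 3 * c + M 0 4 * d)
      (M 2 0 * a + M 2 1 + M 2 2 * b + M 2 3 * c + M 2 4 * d)
      (M 3 0 * a + M 3 1 + M 3 2 * b + M 3 3 * c + M 3 4 * d)
      (M 4 0 * a + M 4 1 + M 4 2 * b + M 4 3 * c + M 4 4 * d)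

instance (t : List ℕ) (M : M5) : Decidable (lin5OK t M) := by
  unfold lin5OK
  infer_instance

theorem lin_of_table {H : Subgroup P24} (e : El H) (M : M5) (h : lin5OK e.t M) (x : V5)
    (hx : x 1 = 1) : e.σ (β x) = β (M *ᵥ x) := by
  have h1 : gIdx (e.σ (β x)) = gIdx (β (M *ᵥ x)) := by
    rw [e.apply_idx]
    unfold β
    rw [gIdx_gUnidx _ (cIdx_lt _ _ _ _), gIdx_gUnidx _ (cIdx_lt _ _ _ _), h]
    simp [Matrix.mulVec, dotProduct, Fin.sum_univ_five, hx]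
  rw [← gUnidx_gIdx (e.σ (β x)), h1, gUnidx_gIdx]

/-- an invertible matrix over the field with two elements has determinant one -/
def mkSL (M M' : M5) (h : M * M' = 1) : SL5 :=
  ⟨M, by
    have h1 : M.det * M'.det = 1 := by rw [← Matrix.det_mul, h, Matrix.det_one]
    have h2 : ∀ a b : ZMod 2, a * b = 1 → a = 1 := by decide
    exact h2 _ _ h1⟩

theorem coe_mkSL (M M' : M5) (h : M * M' = 1) : ((mkSL M M' h : SL5) : M5) = M := rfl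

theorem coe_mul' (m n : SL5) : ((m * n : SL5) : M5) = (m : M5) * (n : M5) := rfl

theorem coe_one' : ((1 : SL5) : M5) = 1 := rfl

theorem coe_inv_mul (m : SL5) : ((m⁻¹ : SL5) : M5) * (m : M5) = 1 := by
  have h : ((m⁻¹ * m : SL5) : M5) = 1 := by
    rw [inv_mul_cancel]
    rfl
  exact h

theorem coe_mul_inv (m : SL5) : (m : M5) * ((m⁻¹ : SL5) : M5) = 1 := by
  have h : ((m * m⁻¹ : SL5) : M5) = 1 := by
    rw [mul_inv_cancel]
    rfl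
  exact h

theorem row1_inv {m : SL5} (h : Row1 (m : M5)) : Row1 ((m⁻¹ : SL5) : M5) := by
  intro x
  have h1 := h (((m⁻¹ : SL5) : M5) *ᵥ x)
  rw [Matrix.mulVec_mulVec, coe_mul_inv, Matrix.one_mulVec] at h1
  exact h1.symm

/-- the permutations acting on the sixteen points through a matrix -/
def LinSub5 : Subgroup P24 where
  carrier := {g | ∃ m : SL5, Row1 (m : M5) ∧ ∀ x : V5, x 1 = 1 → g (β x) = β ((m : M5) *ᵥ x)}
  one_mem' := ⟨1, fun x => by rw [coe_one', Matrix.one_mulVec], fun x _ => by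
    rw [coe_one', Matrix.one_mulVec]
    rfl⟩
  mul_mem' := by
    rintro g h ⟨m, hm1, hm⟩ ⟨n, hn1, hn⟩
    refine ⟨m * n, fun x => ?_, fun x hx => ?_⟩
    · rw [coe_mul', ← Matrix.mulVec_mulVec, hm1, hn1]
    · rw [Equiv.Perm.mul_apply, hn x hx, hm _ ((hn1 x).trans hx), coe_mul', Matrix.mulVec_mulVec]
  inv_mem' := by
    rintro g ⟨m, hm1, hm⟩
    refine ⟨m⁻¹, row1_inv hm1, fun x hx => ?_⟩
    rw [Equiv.Perm.inv_eq_iff_eq, hm _ ((row1_inv hm1 x).trans hx), Matrix.mulVec_mulVec,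
      coe_mul_inv, Matrix.one_mulVec]

/-- the group -/
abbrev HL : Subgroup P24 := HO ⊓ LinSub5

theorem HL_le : HL ≤ HO := inf_le_left

theorem mem_HL_of_tables (e : El K) (M M' : M5) (hMM' : M * M' = 1) (hrow : row1OK M)
    (hpm : pm e.t O₀ = O₀) (hlin : lin5OK e.t M) : e.σ ∈ HL :=
  ⟨mem_HO_of_pm hpm, ⟨mkSL M M' hMM', row1_of_OK hrow, fun x hx => lin_of_table e M hlin x hx⟩⟩

theorem ea0_mem : ea0.σ ∈ HL :=
  mem_HL_of_tables ea0 !![0, 0, 0, 0, 1; 0, 1, 0, 0, 0; 1, 1, 1, 1, 1; 1, 0, 0, 1, 0; 1, 1, 1, 0, 1]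
    !![0, 0, 1, 1, 1; 0, 1, 0, 0, 0; 1, 1, 1, 1, 0; 0, 0, 1, 0, 1; 1, 0, 0, 0, 0]
    (by decide) (by decide) (by decide +kernel) (by decide +kernel)

theorem ea1_mem : ea1.σ ∈ HL :=
  mem_HL_of_tables ea1 !![0, 0, 1, 1, 1; 0, 1, 0, 0, 0; 1, 1, 1, 1, 0; 1, 0, 0, 1, 1; 0, 0, 0, 0, 1]
    !![1, 1, 1, 0, 1; 0, 1, 0, 0, 0; 0, 1, 1, 1, 1; 1, 1, 1, 1, 0; 0, 0, 0, 0, 1]
    (by decide) (by decide) (by decide +kernel) (by decide +kernel)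

theorem ea2_mem : ea2.σ ∈ HL :=
  mem_HL_of_tables ea2 !![0, 0, 1, 0, 1; 0, 1, 0, 0, 0; 1, 1, 0, 1, 1; 0, 1, 1, 0, 0; 0, 1, 1, 1, 0]
    !![1, 0, 1, 0, 1; 0, 1, 0, 0, 0; 0, 1, 0, 1, 0; 0, 0, 0, 1, 1; 1, 1, 0, 1, 0]
    (by decide) (by decide) (by decide +kernel) (by decide +kernel)

theorem ea3_mem : ea3.σ ∈ HL :=
  mem_HL_of_tables ea3 !![0, 1, 1, 1, 0; 0, 1, 0, 0, 0; 1, 1, 0, 0, 0; 1, 1, 0, 1, 1; 0, 1, 0, 0, 1]
    !![0, 1, 1, 0, 0; 0, 1, 0, 0, 0; 1, 0, 1, 1, 1; 0, 1, 1, 1, 1; 0, 1, 0, 0, 1]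
    (by decide) (by decide) (by decide +kernel) (by decide +kernel)

theorem ea4_mem : ea4.σ ∈ HL :=
  mem_HL_of_tables ea4 !![0, 1, 0, 0, 1; 0, 1, 0, 0, 0; 1, 0, 0, 1, 1; 0, 0, 1, 0, 1; 0, 0, 1, 1, 1]
    !![1, 1, 1, 1, 1; 0, 1, 0, 0, 0; 1, 1, 0, 1, 0; 0, 0, 0, 1, 1; 1, 1, 0, 0, 0]
    (by decide) (by decide) (by decide +kernel) (by decide +kernel)

theorem ea5_mem : ea5.σ ∈ HL :=
  mem_HL_of_tables ea5 !![0, 1, 1, 0, 0; 0, 1, 0, 0, 0; 1, 0, 0, 0, 0; 1, 1, 1, 1, 1; 0, 1, 1, 0, 1]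
    !![0, 0, 1, 0, 0; 0, 1, 0, 0, 0; 1, 1, 0, 0, 0; 0, 0, 1, 1, 1; 1, 0, 0, 0, 1]
    (by decide) (by decide) (by decide +kernel) (by decide +kernel)

theorem ea6_mem : ea6.σ ∈ HL :=
  mem_HL_of_tables ea6 !![1, 0, 1, 1, 1; 0, 1, 0, 0, 0; 0, 0, 1, 0, 0; 0, 0, 1, 1, 0; 0, 1, 1, 0, 1]
    !![1, 1, 1, 1, 1; 0, 1, 0, 0, 0; 0, 0, 1, 0, 0; 0, 0, 1, 1, 0; 0, 1, 1, 0, 1]
    (by decide) (by decide) (by decide +kernel) (by decide +kernel)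

theorem ea7_mem : ea7.σ ∈ HL :=
  mem_HL_of_tables ea7 !![1, 1, 1, 0, 0; 0, 1, 0, 0, 0; 1, 1, 0, 0, 1; 0, 1, 0, 0, 1; 1, 0, 1, 1, 0]
    !![0, 0, 1, 1, 0; 0, 1, 0, 0, 0; 1, 1, 1, 1, 0; 1, 1, 0, 0, 1; 0, 1, 0, 1, 0]
    (by decide) (by decide) (by decide +kernel) (by decide +kernel)

theorem ea8_mem : ea8.σ ∈ HL :=
  mem_HL_of_tables ea8 !![0, 0, 1, 1, 0; 0, 1, 0, 0, 0; 0, 0, 1, 1, 1; 1, 1, 0, 0, 1; 1, 1, 1, 0, 1]
    !![1, 1, 1, 1, 0; 0, 1, 0, 0, 0; 0, 0, 0, 1, 1; 1, 0, 0, 1, 1; 1, 0, 1, 0, 0]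
    (by decide) (by decide) (by decide +kernel) (by decide +kernel)

theorem ea9_mem : ea9.σ ∈ HL :=
  mem_HL_of_tables ea9 !![0, 0, 1, 1, 1; 0, 1, 0, 0, 0; 0, 0, 1, 1, 0; 0, 0, 1, 0, 0; 1, 0, 1, 0, 1]
    !![1, 0, 1, 1, 1; 0, 1, 0, 0, 0; 0, 0, 0, 1, 0; 0, 0, 1, 1, 0; 1, 0, 1, 0, 0]
    (by decide) (by decide) (by decide +kernel) (by decide +kernel)

theorem ea10_mem : ea10.σ ∈ HL :=
  mem_HL_of_tables ea10 !![1, 1, 0, 0, 0; 0, 1, 0, 0, 0; 0, 1, 1, 0, 0; 0, 0, 0, 1, 0; 0, 0, 0, 0, 1]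
    !![1, 1, 0, 0, 0; 0, 1, 0, 0, 0; 0, 1, 1, 0, 0; 0, 0, 0, 1, 0; 0, 0, 0, 0, 1]
    (by decide) (by decide) (by decide +kernel) (by decide +kernel)

theorem ea11_mem : ea11.σ ∈ HL :=
  mem_HL_of_tables ea11 !![1, 1, 0, 0, 0; 0, 1, 0, 0, 0; 0, 1, 1, 0, 0; 0, 1, 0, 1, 0; 0, 0, 0, 0, 1]
    !![1, 1, 0, 0, 0; 0, 1, 0, 0, 0; 0, 1, 1, 0, 0; 0, 1, 0, 1, 0; 0, 0, 0, 0, 1]
    (by decide) (by decide) (by decide +kernel) (by decide +kernel)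

theorem ea12_mem : ea12.σ ∈ HL :=
  mem_HL_of_tables ea12 !![1, 0, 0, 0, 0; 0, 1, 0, 0, 0; 0, 1, 1, 0, 0; 0, 0, 0, 1, 0; 0, 0, 0, 0, 1]
    !![1, 0, 0, 0, 0; 0, 1, 0, 0, 0; 0, 1, 1, 0, 0; 0, 0, 0, 1, 0; 0, 0, 0, 0, 1]
    (by decide) (by decide) (by decide +kernel) (by decide +kernel)

theorem ea13_mem : ea13.σ ∈ HL :=
  mem_HL_of_tables ea13 !![1, 1, 0, 0, 0; 0, 1, 0, 0, 0; 0, 0, 1, 0, 0; 0, 0, 0, 1, 0; 0, 1, 0, 0, 1]
    !![1, 1, 0, 0, 0; 0, 1, 0, 0, 0; 0, 0, 1, 0, 0; 0, 0, 0, 1, 0; 0, 1, 0, 0, 1]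
    (by decide) (by decide) (by decide +kernel) (by decide +kernel)

end

end Cfsg.Agent.Lib.Helper1.AGL
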