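import Mathlib
import Cfsg.Agent.Lib.Helper1.AGL2

/-!
# The stabilizer of the standard octad acts by affine maps: the chain
-/

set_option autoImplicit false

namespace Cfsg.Agent.Lib.Helper1.AGL

open Cfsg Cfsg.Agent.Lib.Helper1 Cfsg.Agent.Lib.Helper1.M24 Matrix
open scoped Pointwise

noncomputable section

theorem ga0_mem : ∀ e ∈ ga0, e.σ ∈ HL := by
  intro e he
  simp only [ga0, List.mem_cons, List.not_mem_nil, or_false] at he
  rcases he with rfl | rfl | rfl | rfl | rfl | rfl | rfl | rfl | rfl | rfl | rfl | rfl | rfl | rfl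
  exacts [ea0_mem, ea1_mem, ea2_mem, ea3_mem, ea4_mem, ea5_mem, ea6_mem, ea7_mem, ea8_mem, ea9_mem, ea10_mem, ea11_mem, ea12_mem, ea13_mem]

theorem ga1_mem : ∀ e ∈ ga1, e.σ ∈ HL := by
  intro e he
  simp only [ga1, List.mem_cons, List.not_mem_nil, or_false] at he
  rcases he with rfl | rfl | rfl | rfl | rfl | rfl | rfl | rfl | rfl | rfl
  exacts [ea4_mem, ea5_mem, ea6_mem, ea7_mem, ea8_mem, ea9_mem, ea10_mem, ea11_mem, ea12_mem, ea13_mem]

theorem ga2_mem : ∀ e ∈ ga2, e.σ ∈ HL := by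
  intro e he
  simp only [ga2, List.mem_cons, List.not_mem_nil, or_false] at he
  rcases he with rfl | rfl | rfl | rfl | rfl | rfl | rfl | rfl | rfl
  exacts [ea5_mem, ea6_mem, ea7_mem, ea8_mem, ea9_mem, ea10_mem, ea11_mem, ea12_mem, ea13_mem]

theorem ga3_mem : ∀ e ∈ ga3, e.σ ∈ HL := by
  intro e he
  simp only [ga3, List.mem_cons, List.not_mem_nil, or_false] at he
  rcases he with rfl | rfl | rfl | rfl | rfl | rfl | rfl | rfl
  exacts [ea6_mem, ea7_mem, ea8_mem, ea9_mem, ea10_mem, ea11_mem, ea12_mem, ea13_mem]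

theorem ga4_mem : ∀ e ∈ ga4, e.σ ∈ HL := by
  intro e he
  simp only [ga4, List.mem_cons, List.not_mem_nil, or_false] at he
  rcases he with rfl | rfl | rfl | rfl | rfl | rfl
  exacts [ea8_mem, ea9_mem, ea10_mem, ea11_mem, ea12_mem, ea13_mem]

theorem ga5_mem : ∀ e ∈ ga5, e.σ ∈ HL := by
  intro e he
  simp only [ga5, List.mem_cons, List.not_mem_nil, or_false] at he
  rcases he with rfl | rfl | rfl | rfl | rfl
  exacts [ea9_mem, ea10_mem, ea11_mem, ea12_mem, ea13_mem]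

theorem ga6_mem : ∀ e ∈ ga6, e.σ ∈ HL := by
  intro e he
  simp only [ga6, List.mem_cons, List.not_mem_nil, or_false] at he
  rcases he with rfl | rfl | rfl | rfl
  exacts [ea10_mem, ea11_mem, ea12_mem, ea13_mem]

/-- orbit 0 -/
def pa0 (q : ℕ) : Bool := decide (q ∈ fxO)

/-- orbit 1 -/
def pa1 (q : ℕ) : Bool := decide (q ∈ fxO ∧ q ∉ [0])

/-- orbit 2 -/
def pa2 (q : ℕ) : Bool := decide (q ∈ fxO ∧ q ∉ [0, 1])

/-- orbit 3 -/
def pa3 (q : ℕ) : Bool := decide (q ∈ fxO ∧ q ∉ [0, 1, 2])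

/-- orbit 4 -/
def pa4 (q : ℕ) : Bool := decide (q ∈ fxO ∧ q ∉ [0, 1, 2, 3])

/-- orbit 5 -/
def pa5 (q : ℕ) : Bool := decide (q ∈ fxO ∧ q ∉ [0, 1, 2, 3, 5])

/-- orbit 6 -/
def pa6 (q : ℕ) : Bool := decide (q ∉ fxO)

theorem rca0 : ∀ q < 24, pa0 q = true → Reach HL [] 0 q := by
  intro q hq hp
  refine reach_of_rnds' (by norm_num) ga0 ga0_mem (by decide +kernel) 2 ?_
  revert q
  decide +kernel

theorem rca1 : ∀ q < 24, pa1 q = true → Reach HL [0] 1 q := by
  intro q hq hp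
  refine reach_of_rnds' (by norm_num) ga1 ga1_mem (by decide +kernel) 3 ?_
  revert q
  decide +kernel

theorem rca2 : ∀ q < 24, pa2 q = true → Reach HL [0, 1] 2 q := by
  intro q hq hp
  refine reach_of_rnds' (by norm_num) ga2 ga2_mem (by decide +kernel) 3 ?_
  revert q
  decide +kernel

theorem rca3 : ∀ q < 24, pa3 q = true → Reach HL [0, 1, 2] 3 q := by
  intro q hq hp
  refine reach_of_rnds' (by norm_num) ga3 ga3_mem (by decide +kernel) 3 ?_
  revert q
  decide +kernel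

theorem rca4 : ∀ q < 24, pa4 q = true → Reach HL [0, 1, 2, 3] 5 q := by
  intro q hq hp
  refine reach_of_rnds' (by norm_num) ga4 ga4_mem (by decide +kernel) 2 ?_
  revert q
  decide +kernel

theorem rca5 : ∀ q < 24, pa5 q = true → Reach HL [0, 1, 2, 3, 5] 14 q := by
  intro q hq hp
  refine reach_of_rnds' (by norm_num) ga5 ga5_mem (by decide +kernel) 2 ?_
  revert q
  decide +kernel

theorem rca6 : ∀ q < 24, pa6 q = true → Reach HL [0, 1, 2, 3, 5, 14] 4 q := by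
  intro q hq hp
  refine reach_of_rnds' (by norm_num) ga6 ga6_mem (by decide +kernel) 4 ?_
  revert q
  decide +kernel

theorem upO {g : P24} (hg : g ∈ HO) {b : ℕ} (hb : b ∈ fxO) : gIdx (g (gUnidx b)) ∈ fxO := by
  have h := (stab_mem_iff (MulAction.mem_stabilizer_iff.mp hg.2) (gUnidx b)).mpr
    ((mem_O₀fin_iff _).mpr (by rw [gIdx_gUnidx b (fxO_lt b hb)]; exact hb))
  exact (mem_O₀fin_iff _).mp h

theorem upC {g : P24} (hg : g ∈ HO) {b : ℕ} (hb : b < 24) (hb' : b ∉ fxO) :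
    gIdx (g (gUnidx b)) ∉ fxO := by
  intro h
  have h1 := (stab_mem_iff (MulAction.mem_stabilizer_iff.mp hg.2) (gUnidx b)).mp
    ((mem_O₀fin_iff _).mpr h)
  rw [mem_O₀fin_iff, gIdx_gUnidx b hb] at h1
  exact hb' h1

theorem upa0 {g : P24} (hg : g ∈ HO) : pa0 (gIdx (g (gUnidx 0))) = true :=
  decide_eq_true (upO hg (by decide))

theorem upa1 {g : P24} (hg : g ∈ HO) (hfix : ∀ j ∈ [0], g (gUnidx j) = gUnidx j) :
    pa1 (gIdx (g (gUnidx 1))) = true :=
  decide_eq_true ⟨upO hg (by decide), up_generic _ (by decide) hfix (by norm_num) (by decide)⟩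

theorem upa2 {g : P24} (hg : g ∈ HO) (hfix : ∀ j ∈ [0, 1], g (gUnidx j) = gUnidx j) :
    pa2 (gIdx (g (gUnidx 2))) = true :=
  decide_eq_true ⟨upO hg (by decide), up_generic _ (by decide) hfix (by norm_num) (by decide)⟩

theorem upa3 {g : P24} (hg : g ∈ HO) (hfix : ∀ j ∈ [0, 1, 2], g (gUnidx j) = gUnidx j) :
    pa3 (gIdx (g (gUnidx 3))) = true :=
  decide_eq_true ⟨upO hg (by decide), up_generic _ (by decide) hfix (by norm_num) (by decide)⟩

theorem upa4 {g : P24} (hg : g ∈ HO) (hfix : ∀ j ∈ [0, 1, 2, 3], g (gUnidx j) = gUnidx j) :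
    pa4 (gIdx (g (gUnidx 5))) = true :=
  decide_eq_true ⟨upO hg (by decide), up_generic _ (by decide) hfix (by norm_num) (by decide)⟩

theorem upa5 {g : P24} (hg : g ∈ HO) (hfix : ∀ j ∈ [0, 1, 2, 3, 5], g (gUnidx j) = gUnidx j) :
    pa5 (gIdx (g (gUnidx 14))) = true :=
  decide_eq_true ⟨upO hg (by decide), up_generic _ (by decide) hfix (by norm_num) (by decide)⟩

theorem upa6 {g : P24} (hg : g ∈ HO) : pa6 (gIdx (g (gUnidx 4))) = true :=
  decide_eq_true (upC hg (by norm_num) (by decide))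

theorem trivial_of_fix {g : P24} (hg : g ∈ M24)
    (hfix : ∀ j ∈ [0, 1, 2, 3, 5, 14, 4], g (gUnidx j) = gUnidx j) : g = 1 := by
  have h0 : ∀ j ∈ [0, 1, 2, 3, 5, 14, 4], j < 24 ∧ g (gUnidx j) = gUnidx j := by
    intro j hj
    refine ⟨?_, hfix j hj⟩
    revert j
    decide
  have h1 := fixed_round' hg [0, 1, 2, 3, 5, 14, 4] (by decide) h0
    [1, 2, 5, 14, 28, 84, 132, 192, 260, 324, 518, 528, 1029, 1288, 1668, 2084] (by decide +kernel)
  have h1' : ∀ j ∈ [0, 1, 2, 3, 5, 14, 4, 6, 7, 8, 9, 10, 11, 12, 13, 15, 16, 18, 19, 20, 21, 22],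
      j < 24 ∧ g (gUnidx j) = gUnidx j := by
    intro j hj
    apply h1
    revert j
    decide +kernel
  have h2 := fixed_round' hg _ (by decide) h1' [32] (by decide +kernel)
  apply eq_one_of_fixes
  intro i hi
  apply (h2 i _).2
  revert i
  decide +kernel

/-- every element of the octad stabilizer acts as an affine map -/
theorem HO_le_HL : HO ≤ HL := by
  intro g hg
  refine sift (K' := HL) (H := HO) [] 0 (fun g hg _ => rca0 _ (gIdx_lt _) (upa0 hg)) HL_le ?_ g hg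
    (by simp)
  intro g hg hfix
  refine sift (K' := HL) (H := HO) [0] 1 (fun g hg hfix => rca1 _ (gIdx_lt _) (upa1 hg hfix))
    HL_le ?_ g hg hfix
  intro g hg hfix
  refine sift (K' := HL) (H := HO) [0, 1] 2 (fun g hg hfix => rca2 _ (gIdx_lt _) (upa2 hg hfix))
    HL_le ?_ g hg hfix
  intro g hg hfix
  refine sift (K' := HL) (H := HO) [0, 1, 2] 3 (fun g hg hfix => rca3 _ (gIdx_lt _) (upa3 hg hfix))
    HL_le ?_ g hg hfix
  intro g hg hfix
  refine sift (K' := HL) (H := HO) [0, 1, 2, 3] 5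
    (fun g hg hfix => rca4 _ (gIdx_lt _) (upa4 hg hfix)) HL_le ?_ g hg hfix
  intro g hg hfix
  refine sift (K' := HL) (H := HO) [0, 1, 2, 3, 5] 14
    (fun g hg hfix => rca5 _ (gIdx_lt _) (upa5 hg hfix)) HL_le ?_ g hg hfix
  intro g hg hfix
  refine sift (K' := HL) (H := HO) [0, 1, 2, 3, 5, 14] 4
    (fun g hg _ => rca6 _ (gIdx_lt _) (upa6 hg)) HL_le ?_ g hg hfix
  intro g hg hfix
  rw [trivial_of_fix hg.1 hfix]
  exact HL.one_mem

theorem HO_le_LinSub5 : HO ≤ LinSub5 := fun _ hg => (HO_le_HL hg).2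

end

end Cfsg.Agent.Lib.Helper1.AGL
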