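import Mathlib
import Cfsg.Agent.Lib.Helper1.AGL3

/-!
# The octad stabilizer as a group of matrices
-/

set_option autoImplicit false

namespace Cfsg.Agent.Lib.Helper1.AGL

open Cfsg Cfsg.Agent.Lib.Helper1 Cfsg.Agent.Lib.Helper1.M24 Matrix
open scoped Pointwise

noncomputable section

/-- the matrix acts as the permutation -/
def SpecM (g : P24) (m : SL5) : Prop :=
  Row1 (m : M5) ∧ ∀ x : V5, x 1 = 1 → g (β x) = β ((m : M5) *ᵥ x)

theorem mulVec_ext {M M' : M5} (h : ∀ x : V5, x 1 = 1 → M *ᵥ x = M' *ᵥ x) : M = M' := by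
  have h2 : ∀ x : V5, M *ᵥ x = M' *ᵥ x := by
    intro x
    by_cases hx : x 1 = 1
    · exact h x hx
    · have hx0 : x 1 = 0 := by
        have : ∀ a : ZMod 2, a ≠ 1 → a = 0 := by decide
        exact this _ hx
      have e1 : (x + (Pi.single 1 1 : V5)) 1 = 1 := by simp [hx0]
      have e2 : (Pi.single 1 1 : V5) 1 = 1 := by simp
      have h3 := h _ e1
      have h4 := h _ e2
      rw [Matrix.mulVec_add, Matrix.mulVec_add, h4] at h3
      exact add_right_cancel h3
  ext i j
  have := congrFun (h2 (Pi.single j 1)) i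
  simpa [Matrix.mulVec_single_one] using this

theorem specM_unique {g : P24} {m m' : SL5} (h : SpecM g m) (h' : SpecM g m') : m = m' := by
  apply Subtype.ext
  apply mulVec_ext
  intro x hx
  apply β_inj ((h.1 x).trans hx) ((h'.1 x).trans hx)
  rw [← h.2 x hx, ← h'.2 x hx]

theorem specM_one : SpecM 1 1 :=
  ⟨fun x => by rw [coe_one', Matrix.one_mulVec], fun x _ => by
    rw [coe_one', Matrix.one_mulVec]
    rfl⟩

theorem specM_mul {g h : P24} {m n : SL5} (hm : SpecM g m) (hn : SpecM h n) :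
    SpecM (g * h) (m * n) := by
  refine ⟨fun x => ?_, fun x hx => ?_⟩
  · rw [coe_mul', ← Matrix.mulVec_mulVec, hm.1, hn.1]
  · rw [Equiv.Perm.mul_apply, hn.2 x hx, hm.2 _ ((hn.1 x).trans hx), coe_mul',
      Matrix.mulVec_mulVec]

theorem exists_specM (g : HO) : ∃ m : SL5, SpecM g.1 m := HO_le_LinSub5 g.2

/-- the matrix of an element of the octad stabilizer -/
def Θ : HO →* SL5 where
  toFun g := Classical.choose (exists_specM g)
  map_one' := specM_unique (Classical.choose_spec (exists_specM 1)) specM_one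
  map_mul' a b := specM_unique (Classical.choose_spec (exists_specM (a * b)))
    (specM_mul (Classical.choose_spec (exists_specM a)) (Classical.choose_spec (exists_specM b)))

theorem Θ_spec (g : HO) : SpecM g.1 (Θ g) := Classical.choose_spec (exists_specM g)

theorem Θ_eq {g : HO} {m : SL5} (h : SpecM g.1 m) : Θ g = m := specM_unique (Θ_spec g) h

/-- the points outside the octad -/
def fxC : List ℕ := [4, 6, 7, 8, 9, 10, 11, 12, 13, 15, 16, 18, 19, 20, 21, 22]

theorem fxC_sub : ∀ j ∈ fxC, ∃ a b c d : ZMod 2, cIdx a b c d = j := by decide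

theorem complement_faithful {g : P24} (hg : g ∈ M24)
    (hfix : ∀ j ∈ fxC, g (gUnidx j) = gUnidx j) : g = 1 := by
  have h0 : ∀ j ∈ fxC, j < 24 ∧ g (gUnidx j) = gUnidx j := by
    intro j hj
    refine ⟨?_, hfix j hj⟩
    revert j
    decide
  have h1 := fixed_round' hg fxC (by decide) h0 [16, 8, 17, 10, 20, 61, 2097, 2075]
    (by decide +kernel)
  apply eq_one_of_fixes
  intro i hi
  apply (h1 i _).2
  revert i
  decide +kernel

theorem Θ_injective : Function.Injective Θ := by
  rw [injective_iff_map_eq_one]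
  intro g hg
  have hs := Θ_spec g
  rw [hg] at hs
  apply Subtype.ext
  apply complement_faithful g.2.1
  intro j hj
  obtain ⟨a, b, c, d, rfl⟩ := fxC_sub j hj
  have := hs.2 ![a, 1, b, c, d] rfl
  rw [coe_one', Matrix.one_mulVec] at this
  exact this

/-- the matrices fixing the covector -/
def ESub : Subgroup SL5 where
  carrier := {m | Row1 (m : M5)}
  one_mem' := fun x => by rw [coe_one', Matrix.one_mulVec]
  mul_mem' := by
    intro m n hm hn x
    rw [coe_mul', ← Matrix.mulVec_mulVec, hm, hn]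
  inv_mem' := fun hm => row1_inv hm

theorem Θ_mem_ESub (g : HO) : Θ g ∈ ESub := (Θ_spec g).1

/-- the other four indices -/
def ι4 : Fin 4 → Fin 5 := ![0, 2, 3, 4]

theorem sub_mul_sub (m : SL5) (hm : Row1 (m : M5)) :
    (m : M5).submatrix ι4 ι4 * ((m⁻¹ : SL5) : M5).submatrix ι4 ι4 = 1 := by
  have h1 := coe_mul_inv m
  obtain ⟨r0, r1, r2, r3, r4⟩ := row1OK_of (row1_inv hm)
  ext i k
  have h3 := congrFun (congrFun h1 (ι4 i)) (ι4 k)
  rw [Matrix.mul_apply, Fin.sum_univ_five] at h3
  rw [Matrix.mul_apply, Fin.sum_univ_four]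
  simp only [Matrix.submatrix_apply]
  fin_cases i <;> fin_cases k <;>
    simp [ι4, r0, r2, r3, r4] at h3 ⊢ <;> exact h3

/-- the parameters of a matrix fixing the covector -/
def toPair (m : ESub) : (Fin 4 → ZMod 2) × GL (Fin 4) (ZMod 2) :=
  (fun i => (m.1 : M5) (ι4 i) 1,
    ⟨(m.1 : M5).submatrix ι4 ι4, ((m.1⁻¹ : SL5) : M5).submatrix ι4 ι4, sub_mul_sub m.1 m.2,
      mul_eq_one_comm.mp (sub_mul_sub m.1 m.2)⟩)

theorem toPair_injective : Function.Injective toPair := by
  intro m n h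
  have h1 : ∀ i, (m.1 : M5) (ι4 i) 1 = (n.1 : M5) (ι4 i) 1 :=
    fun i => congrFun (congrArg Prod.fst h) i
  have h2 : ∀ i j, (m.1 : M5) (ι4 i) (ι4 j) = (n.1 : M5) (ι4 i) (ι4 j) := by
    intro i j
    have := congrArg (fun p : (Fin 4 → ZMod 2) × GL (Fin 4) (ZMod 2) =>
      ((p.2 : GL (Fin 4) (ZMod 2)) : Matrix (Fin 4) (Fin 4) (ZMod 2)) i j) h
    exact this
  obtain ⟨a0, a1, a2, a3, a4⟩ := row1OK_of m.2
  obtain ⟨b0, b1, b2, b3, b4⟩ := row1OK_of n.2
  apply Subtype.ext
  apply Subtype.ext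
  ext i j
  fin_cases i <;> fin_cases j
  · exact h2 0 0
  · exact h1 0
  · exact h2 0 1
  · exact h2 0 2
  · exact h2 0 3
  · exact a0.trans b0.symm
  · exact a1.trans b1.symm
  · exact a2.trans b2.symm
  · exact a3.trans b3.symm
  · exact a4.trans b4.symm
  · exact h2 1 0
  · exact h1 1
  · exact h2 1 1
  · exact h2 1 2
  · exact h2 1 3
  · exact h2 2 0
  · exact h1 2
  · exact h2 2 1
  · exact h2 2 2
  · exact h2 2 3
  · exact h2 3 0
  · exact h1 3
  · exact h2 3 1
  · exact h2 3 2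
  · exact h2 3 3

theorem card_ESub_le : Nat.card ESub ≤ 322560 := by
  have h := Nat.card_le_card_of_injective toPair toPair_injective
  have e : Nat.card (Fin 4 → ZMod 2) = 16 := by
    rw [Nat.card_eq_fintype_card, Fintype.card_fun, ZMod.card, Fintype.card_fin]
    rfl
  rw [Nat.card_prod, Matrix.card_GL_field, e, ZMod.card] at h
  exact h

theorem card_HO : Nat.card ↥HO = 322560 := card_stabO O₀fin O₀fin_mem

theorem range_Θ : Θ.range = ESub := by
  apply Subgroup.eq_of_le_of_card_ge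
  · rintro _ ⟨g, rfl⟩
    exact Θ_mem_ESub g
  · have h1 : Nat.card Θ.range = Nat.card ↥HO :=
      (Nat.card_congr (Equiv.ofInjective Θ Θ_injective)).symm
    rw [h1, card_HO]
    exact card_ESub_le

theorem exists_of_row1 {m : SL5} (hm : Row1 (m : M5)) : ∃ g : HO, Θ g = m := by
  have h : m ∈ Θ.range := by
    rw [range_Θ]
    exact hm
  exact h

end

end Cfsg.Agent.Lib.Helper1.AGL
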