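import Mathlib

set_option autoImplicit false

namespace Cfsg.Agent.Lib.Helper1.SL5

open Matrix

abbrev K := ZMod 2

/-- the shape of a matrix commuting with the transvection -/
def Mat {R : Type*} [CommRing R] (r : Fin 4 → R) (c : Fin 3 → R) (D : Matrix (Fin 3) (Fin 3) R) :
    Matrix (Fin 5) (Fin 5) R :=
  Matrix.of (Fin.cons (Fin.cons 1 r) (Fin.cons (Fin.cons 0 (Fin.cons 1 0))
    (fun i => Fin.cons 0 (Fin.cons (c i) (D i)))) : Fin 5 → Fin 5 → R)

theorem det_Mat {R : Type*} [CommRing R] (r : Fin 4 → R) (c : Fin 3 → R)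
    (D : Matrix (Fin 3) (Fin 3) R) : (Mat r c D).det = D.det := by
  rw [Matrix.det_succ_column_zero, Fin.sum_univ_succ]
  have h0 : ∀ i : Fin 4, Mat r c D i.succ 0 = 0 := by
    intro i
    refine Fin.cases ?_ (fun i => ?_) i
    · rfl
    · rfl
  have hs : ∑ i : Fin 4, (-1 : R) ^ (i.succ : ℕ) * Mat r c D i.succ 0 *
      ((Mat r c D).submatrix i.succ.succAbove Fin.succ).det = 0 := by
    apply Finset.sum_eq_zero
    intro i _
    rw [h0 i]
    ring
  rw [hs, add_zero]
  have e1 : Mat r c D 0 0 = 1 := rfl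
  rw [e1]
  simp only [Fin.val_zero, pow_zero, one_mul, Fin.succAbove_zero]
  rw [Matrix.det_succ_row_zero, Fin.sum_univ_succ]
  have h1 : ∀ j : Fin 3, ((Mat r c D).submatrix Fin.succ Fin.succ) 0 j.succ = 0 := by
    intro j
    rfl
  have hs2 : ∑ j : Fin 3, (-1 : R) ^ (j.succ : ℕ) *
      ((Mat r c D).submatrix Fin.succ Fin.succ) 0 j.succ *
      (((Mat r c D).submatrix Fin.succ Fin.succ).submatrix Fin.succ j.succ.succAbove).det = 0 := by
    apply Finset.sum_eq_zero
    intro j _
    rw [h1 j]
    ring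
  rw [hs2, add_zero]
  have e2 : ((Mat r c D).submatrix Fin.succ Fin.succ) 0 0 = 1 := rfl
  rw [e2]
  simp only [Fin.val_zero, pow_zero, one_mul, Fin.succAbove_zero]
  congr 1

/-- extraction of the parameters -/
def rOf (g : Matrix (Fin 5) (Fin 5) K) : Fin 4 → K := fun j => g 0 j.succ
def cOf (g : Matrix (Fin 5) (Fin 5) K) : Fin 3 → K := fun i => g i.succ.succ 1
def DOf (g : Matrix (Fin 5) (Fin 5) K) : Matrix (Fin 3) (Fin 3) K :=
  fun i j => g i.succ.succ j.succ.succ

theorem rOf_Mat (r : Fin 4 → K) (c : Fin 3 → K) (D : Matrix (Fin 3) (Fin 3) K) :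
    rOf (Mat r c D) = r := rfl

theorem cOf_Mat (r : Fin 4 → K) (c : Fin 3 → K) (D : Matrix (Fin 3) (Fin 3) K) :
    cOf (Mat r c D) = c := rfl

theorem DOf_Mat (r : Fin 4 → K) (c : Fin 3 → K) (D : Matrix (Fin 3) (Fin 3) K) :
    DOf (Mat r c D) = D := rfl

/-- the shape conditions -/
def Shape (g : Matrix (Fin 5) (Fin 5) K) : Prop :=
  g 0 0 = 1 ∧ (∀ i : Fin 4, g i.succ 0 = 0) ∧ g 1 1 = 1 ∧ ∀ j : Fin 3, g 1 j.succ.succ = 0

theorem eq_Mat_of_shape (g : Matrix (Fin 5) (Fin 5) K) (h : Shape g) :
    g = Mat (rOf g) (cOf g) (DOf g) := by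
  obtain ⟨h1, h2, h3, h4⟩ := h
  ext i j
  refine Fin.cases ?_ (fun i => ?_) i
  · refine Fin.cases ?_ (fun j => ?_) j
    · exact h1
    · rfl
  · refine Fin.cases ?_ (fun i => ?_) i
    · refine Fin.cases ?_ (fun j => ?_) j
      · exact h2 0
      · refine Fin.cases ?_ (fun j => ?_) j
        · exact h3
        · exact h4 j
    · refine Fin.cases ?_ (fun j => ?_) j
      · exact h2 i.succ
      · refine Fin.cases ?_ (fun j => ?_) j
        · rfl
        · rfl

theorem shape_Mat (r : Fin 4 → K) (c : Fin 3 → K) (D : Matrix (Fin 3) (Fin 3) K) :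
    Shape (Mat r c D) := by
  refine ⟨rfl, ?_, rfl, fun j => rfl⟩
  intro i
  refine Fin.cases ?_ (fun i => ?_) i
  · rfl
  · rfl

/-- commuting with the elementary matrix -/
theorem comm_iff (g : Matrix (Fin 5) (Fin 5) K) :
    g * Matrix.single (0 : Fin 5) (1 : Fin 5) (1 : K) =
      Matrix.single (0 : Fin 5) (1 : Fin 5) (1 : K) * g ↔
    (g 0 0 = g 1 1 ∧ (∀ i : Fin 4, g i.succ 0 = 0) ∧ ∀ j : Fin 5, j ≠ 1 → g 1 j = 0) := by
  constructor
  · intro h
    refine ⟨?_, ?_, ?_⟩
    · have := congrFun (congrFun h 0) 1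
      rw [mul_single_apply_same, single_mul_apply_same, mul_one, one_mul] at this
      exact this
    · intro i
      have := congrFun (congrFun h i.succ) 1
      rw [mul_single_apply_same, single_mul_apply_of_ne (h := Fin.succ_ne_zero i),
        mul_one] at this
      exact this
    · intro j hj
      have := congrFun (congrFun h 0) j
      rw [mul_single_apply_of_ne (hbj := hj), single_mul_apply_same, one_mul] at this
      exact this.symm
  · rintro ⟨h1, h2, h3⟩
    ext i j
    by_cases hj : j = 1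
    · subst hj
      rw [mul_single_apply_same, mul_one]
      refine Fin.cases ?_ (fun i => ?_) i
      · rw [single_mul_apply_same, one_mul, h1]
      · rw [single_mul_apply_of_ne (h := Fin.succ_ne_zero i), h2 i]
    · rw [mul_single_apply_of_ne (hbj := hj)]
      refine Fin.cases ?_ (fun i => ?_) i
      · rw [single_mul_apply_same, one_mul, h3 j hj]
      · rw [single_mul_apply_of_ne (h := Fin.succ_ne_zero i)]

theorem comm_transvection_iff (g : Matrix (Fin 5) (Fin 5) K) :
    g * Matrix.transvection 0 1 1 = Matrix.transvection 0 1 1 * g ↔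
      g * Matrix.single (0 : Fin 5) (1 : Fin 5) (1 : K) =
        Matrix.single (0 : Fin 5) (1 : Fin 5) (1 : K) * g := by
  unfold Matrix.transvection
  rw [mul_add, add_mul, mul_one, one_mul]
  exact add_right_inj g

theorem zmod2_cases (a : K) : a = 0 ∨ a = 1 := by
  fin_cases a
  · left; rfl
  · right; rfl

/-- for matrices of determinant one, commuting with the transvection is the shape condition -/
theorem shape_iff (g : Matrix (Fin 5) (Fin 5) K) (hdet : g.det = 1) :
    g * Matrix.transvection 0 1 1 = Matrix.transvection 0 1 1 * g ↔ Shape g := by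
  rw [comm_transvection_iff, comm_iff]
  constructor
  · rintro ⟨h1, h2, h3⟩
    have h00 : g 0 0 = 1 := by
      rcases zmod2_cases (g 0 0) with h | h
      · exfalso
        have hcol : ∀ i, g i 0 = 0 := by
          intro i
          refine Fin.cases ?_ (fun i => ?_) i
          · exact h
          · exact h2 i
        have := Matrix.det_eq_zero_of_column_eq_zero 0 hcol
        rw [hdet] at this
        exact one_ne_zero this
      · exact h
    refine ⟨h00, h2, by rw [← h1, h00], ?_⟩
    intro j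
    apply h3
    intro h
    have := congrArg Fin.val h
    simp at this
  · rintro ⟨h1, h2, h3, h4⟩
    refine ⟨by rw [h1, h3], h2, ?_⟩
    intro j
    refine Fin.cases ?_ (fun j => ?_) j
    · intro _; exact h2 0
    · refine Fin.cases ?_ (fun j => ?_) j
      · intro hj; exact absurd rfl hj
      · intro _; exact h4 j

theorem det_GL_eq_one (D : GL (Fin 3) K) : (D : Matrix (Fin 3) (Fin 3) K).det = 1 := by
  have h := (Matrix.isUnit_iff_isUnit_det _).mp D.isUnit
  rcases zmod2_cases (D : Matrix (Fin 3) (Fin 3) K).det with h0 | h1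
  · rw [h0] at h
    exact absurd h not_isUnit_zero
  · exact h1

theorem mem_cent_iff (s g : Matrix.SpecialLinearGroup (Fin 5) K)
    (hs : (s : Matrix (Fin 5) (Fin 5) K) = Matrix.transvection 0 1 1) :
    g ∈ Subgroup.centralizer ({s} : Set (Matrix.SpecialLinearGroup (Fin 5) K)) ↔
      Shape (g : Matrix (Fin 5) (Fin 5) K) := by
  rw [Subgroup.mem_centralizer_iff, ← shape_iff _ g.2]
  constructor
  · intro h
    have := h s rfl
    have h2 := congrArg (fun x : Matrix.SpecialLinearGroup (Fin 5) K =>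
      (x : Matrix (Fin 5) (Fin 5) K)) this
    simp only [Matrix.SpecialLinearGroup.coe_mul, hs] at h2
    exact h2.symm
  · intro h t ht
    rw [Set.mem_singleton_iff] at ht
    subst ht
    apply Matrix.SpecialLinearGroup.ext
    intro i j
    rw [Matrix.SpecialLinearGroup.coe_mul, Matrix.SpecialLinearGroup.coe_mul, hs, h]

/-- the element of the special linear group with given parameters -/
def mkSL (r : Fin 4 → K) (c : Fin 3 → K) (D : GL (Fin 3) K) :
    Matrix.SpecialLinearGroup (Fin 5) K :=
  ⟨Mat r c (D : Matrix (Fin 3) (Fin 3) K), by rw [det_Mat]; exact det_GL_eq_one D⟩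

/-- the centraliser of the transvection, parametrised -/
noncomputable def centEquiv (s : Matrix.SpecialLinearGroup (Fin 5) K)
    (hs : (s : Matrix (Fin 5) (Fin 5) K) = Matrix.transvection 0 1 1) :
    ↥(Subgroup.centralizer ({s} : Set (Matrix.SpecialLinearGroup (Fin 5) K))) ≃
      (Fin 4 → K) × (Fin 3 → K) × GL (Fin 3) K where
  toFun g := (rOf g.1.1, cOf g.1.1, Matrix.GeneralLinearGroup.mkOfDetNeZero (DOf g.1.1) (by
    have h := eq_Mat_of_shape _ ((mem_cent_iff s g.1 hs).mp g.2)
    have hd := g.1.2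
    rw [h, det_Mat] at hd
    rw [hd]
    exact one_ne_zero))
  invFun p := ⟨mkSL p.1 p.2.1 p.2.2, (mem_cent_iff s _ hs).mpr (shape_Mat _ _ _)⟩
  left_inv g := by
    apply Subtype.ext
    apply Subtype.ext
    exact (eq_Mat_of_shape _ ((mem_cent_iff s g.1 hs).mp g.2)).symm
  right_inv p := by
    obtain ⟨r, c, D⟩ := p
    refine Prod.ext rfl (Prod.ext rfl ?_)
    apply Units.ext
    rfl

theorem card_cent (s : Matrix.SpecialLinearGroup (Fin 5) K)
    (hs : (s : Matrix (Fin 5) (Fin 5) K) = Matrix.transvection 0 1 1) :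
    Nat.card (Subgroup.centralizer ({s} : Set (Matrix.SpecialLinearGroup (Fin 5) K))) = 21504 := by
  rw [Nat.card_congr (centEquiv s hs), Nat.card_prod, Nat.card_prod, Matrix.card_GL_field,
    Nat.card_eq_fintype_card, Nat.card_eq_fintype_card, Fintype.card_fun, Fintype.card_fun,
    ZMod.card, Fintype.card_fin, Fintype.card_fin]
  rfl

end Cfsg.Agent.Lib.Helper1.SL5
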