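import Mathlib
import Cfsg.Agent.Lib.Helper1.AGL4
import Cfsg.Agent.Lib.Helper1.SL5Trans

/-!
# The centralizer of an involution fixing an octad pointwise
-/

set_option autoImplicit false

namespace Cfsg.Agent.Lib.Helper1.AGL

open Cfsg Cfsg.Agent.Lib.Helper1 Cfsg.Agent.Lib.Helper1.M24 Matrix
open scoped Pointwise

noncomputable section

/-- the matrix of the transvection -/
def tM : M5 := !![1, 1, 0, 0, 0; 0, 1, 0, 0, 0; 0, 0, 1, 0, 0; 0, 0, 0, 1, 0; 0, 0, 0, 0, 1]

theorem transvection_eq : (Matrix.transvection 0 1 1 : M5) = tM := by decide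

theorem specM_z (s : SL5) (hs : (s : M5) = Matrix.transvection 0 1 1) : SpecM eZ.σ s := by
  rw [transvection_eq] at hs
  refine ⟨?_, fun x hx => ?_⟩
  · rw [hs]
    exact row1_of_OK (by decide)
  · rw [hs]
    exact lin_of_table eZ tM (by decide +kernel) x hx

theorem eZ_fix : ∀ i < 24, tg eZ.t i = i ↔ i ∈ fxO := by decide +kernel

theorem eZ_fix_iff (p : GolayPt) : eZ.σ p = p ↔ p ∈ O₀fin := by
  rw [mem_O₀fin_iff, ← eZ_fix _ (gIdx_lt p)]
  constructor
  · intro h
    have := eZ.apply_idx p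
    rw [h] at this
    exact this.symm
  · intro h
    have h1 : gIdx (eZ.σ p) = gIdx p := by rw [eZ.apply_idx, h]
    have h2 := congrArg gUnidx h1
    rw [gUnidx_gIdx, gUnidx_gIdx] at h2
    exact h2

theorem smul_eq_of_comm {g z : P24} {o : Finset GolayPt} (hz : ∀ p, z p = p ↔ p ∈ o)
    (hc : g * z = z * g) : g • o = o := by
  apply smul_eq_of_mem_iff
  intro x
  rw [← hz, ← hz]
  have h := congrArg (fun f : P24 => f x) hc
  simp only [Equiv.Perm.mul_apply] at h
  constructor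
  · intro h1
    rw [← h] at h1
    exact g.injective h1
  · intro h1
    rw [← h, h1]

theorem mem_HO_of_comm {g : P24} (hg : g ∈ M24) (hc : g * eZ.σ = eZ.σ * g) : g ∈ HO :=
  ⟨hg, smul_eq_of_comm eZ_fix_iff hc⟩

/-- the involution -/
def zM : ↥M24 := ⟨eZ.σ, K_le eZ.mem⟩

theorem eZ_mem_HO : eZ.σ ∈ HO := mem_HO_of_pm (by decide +kernel)

/-- the involution in the octad stabilizer -/
def zO : HO := ⟨eZ.σ, eZ_mem_HO⟩

theorem eZ_sq : ∀ i < 24, tg eZ.t (tg eZ.t i) = i := by decide +kernel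

theorem eZ_mul_self : eZ.σ * eZ.σ = 1 := by
  apply eq_one_of_fixes
  intro i hi
  rw [Equiv.Perm.mul_apply, eZ.tab i hi, eZ.tab _ (eZ.lt i hi), eZ_sq i hi]

theorem eZ_ne_one : eZ.σ ≠ 1 := by
  intro h
  have h1 := eZ.tab 4 (by norm_num)
  rw [h] at h1
  have h1' : gUnidx 4 = gUnidx (tg eZ.t 4) := h1
  have h2 := gUnidx_inj (by norm_num) (eZ.lt 4 (by norm_num)) h1'
  revert h2
  decide +kernel

theorem orderOf_zM : orderOf zM = 2 := by
  apply orderOf_eq_prime
  · apply Subtype.ext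
    rw [pow_two]
    exact eZ_mul_self
  · intro h
    exact eZ_ne_one (congrArg Subtype.val h)

theorem comm_of_mem {g : ↥M24} (hg : g ∈ Subgroup.centralizer ({zM} : Set ↥M24)) :
    g.1 * eZ.σ = eZ.σ * g.1 := by
  have := Subgroup.mem_centralizer_iff.mp hg zM rfl
  exact (congrArg Subtype.val this).symm

/-- the centralizer lies in the octad stabilizer -/
def incl : ↥(Subgroup.centralizer ({zM} : Set ↥M24)) →* HO where
  toFun g := ⟨g.1.1, mem_HO_of_comm g.1.2 (comm_of_mem g.2)⟩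
  map_one' := rfl
  map_mul' _ _ := rfl

theorem incl_injective : Function.Injective incl := by
  intro g g' h
  apply Subtype.ext
  apply Subtype.ext
  exact congrArg (fun x : HO => x.1) h

theorem row1_of_cent (s : SL5) (hs : (s : M5) = Matrix.transvection 0 1 1) {m : SL5}
    (hm : m ∈ Subgroup.centralizer ({s} : Set SL5)) : Row1 (m : M5) := by
  obtain ⟨-, h2, h3, h4⟩ := (SL5.mem_cent_iff s m hs).mp hm
  exact row1_of_OK ⟨h2 0, h3, h4 0, h4 1, h4 2⟩

theorem main (s : SL5) (hs : (s : M5) = Matrix.transvection 0 1 1) :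
    ∃ z : ↥M24, orderOf z = 2 ∧
      Nonempty (↥(Subgroup.centralizer ({z} : Set ↥M24)) ≃*
        ↥(Subgroup.centralizer ({s} : Set SL5))) := by
  have hΘz : Θ zO = s := Θ_eq (specM_z s hs)
  refine ⟨zM, orderOf_zM, ?_⟩
  have hcod : ∀ g : ↥(Subgroup.centralizer ({zM} : Set ↥M24)),
      (Θ.comp incl) g ∈ Subgroup.centralizer ({s} : Set SL5) := by
    intro g
    rw [Subgroup.mem_centralizer_iff]
    intro t ht
    rw [Set.mem_singleton_iff] at ht
    rw [ht, ← hΘz, MonoidHom.comp_apply, ← map_mul, ← map_mul]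
    congr 1
    apply Subtype.ext
    exact (comm_of_mem g.2).symm
  refine ⟨MulEquiv.ofBijective ((Θ.comp incl).codRestrict _ hcod) ⟨?_, ?_⟩⟩
  · intro g g' h
    have h1 : Θ (incl g) = Θ (incl g') := congrArg Subtype.val h
    exact incl_injective (Θ_injective h1)
  · rintro ⟨m, hm⟩
    obtain ⟨g, hg⟩ := exists_of_row1 (row1_of_cent s hs hm)
    have hcomm : zO * g = g * zO := by
      apply Θ_injective
      rw [map_mul, map_mul, hΘz, hg]
      exact Subgroup.mem_centralizer_iff.mp hm s rfl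
    have hmem : (⟨g.1, g.2.1⟩ : ↥M24) ∈ Subgroup.centralizer ({zM} : Set ↥M24) := by
      rw [Subgroup.mem_centralizer_iff]
      intro t ht
      rw [Set.mem_singleton_iff] at ht
      rw [ht]
      apply Subtype.ext
      exact congrArg (fun x : HO => x.1) hcomm
    refine ⟨⟨⟨g.1, g.2.1⟩, hmem⟩, ?_⟩
    apply Subtype.ext
    exact hg

end

end Cfsg.Agent.Lib.Helper1.AGL
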