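import Mathlib

set_option autoImplicit false

namespace Cfsg.Agent.Lib.Helper1.AbsCross

open Matrix

variable {n : ℕ} (B : Matrix (Fin n) (Fin n) ℤ)

/-- the bilinear form -/
def bf (x y : Fin n → ℤ) : ℤ := x ⬝ᵥ (B *ᵥ y)

theorem bf_add_left (x y z : Fin n → ℤ) : bf B (x + y) z = bf B x z + bf B y z := by
  unfold bf
  rw [add_dotProduct]

theorem bf_add_right (x y z : Fin n → ℤ) : bf B x (y + z) = bf B x y + bf B x z := by
  unfold bf
  rw [mulVec_add, dotProduct_add]

theorem bf_neg_left (x y : Fin n → ℤ) : bf B (-x) y = -bf B x y := by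
  unfold bf
  rw [neg_dotProduct]

theorem bf_neg_right (x y : Fin n → ℤ) : bf B x (-y) = -bf B x y := by
  unfold bf
  rw [mulVec_neg, dotProduct_neg]

theorem bf_smul_left (c : ℤ) (x y : Fin n → ℤ) : bf B (c • x) y = c * bf B x y := by
  unfold bf
  rw [smul_dotProduct, smul_eq_mul]

theorem bf_sum_left {ι : Type*} (s : Finset ι) (f : ι → Fin n → ℤ) (y : Fin n → ℤ) :
    bf B (∑ i ∈ s, f i) y = ∑ i ∈ s, bf B (f i) y := by
  unfold bf
  rw [sum_dotProduct]

variable {B}

theorem bf_comm (hsymm : B.IsSymm) (x y : Fin n → ℤ) : bf B x y = bf B y x := by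
  unfold bf
  rw [dotProduct_mulVec, ← mulVec_transpose, hsymm.eq, dotProduct_comm]

theorem q_add (hsymm : B.IsSymm) (x y : Fin n → ℤ) :
    bf B (x + y) (x + y) = bf B x x + bf B y y + 2 * bf B x y := by
  rw [bf_add_left, bf_add_right, bf_add_right, bf_comm hsymm y x]
  ring

theorem q_sub (hsymm : B.IsSymm) (x y : Fin n → ℤ) :
    bf B (x - y) (x - y) = bf B x x + bf B y y - 2 * bf B x y := by
  rw [sub_eq_add_neg, q_add hsymm, bf_neg_left, bf_neg_right, bf_neg_right]
  ring

theorem q_neg (x : Fin n → ℤ) : bf B (-x) (-x) = bf B x x := by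
  rw [bf_neg_left, bf_neg_right, neg_neg]

theorem q_two (z : Fin n → ℤ) : bf B ((2 : ℤ) • z) ((2 : ℤ) • z) = 4 * bf B z z := by
  rw [bf_smul_left]
  unfold bf
  rw [mulVec_smul, dotProduct_smul, smul_eq_mul]
  ring

theorem q_zero : bf B (0 : Fin n → ℤ) 0 = 0 := by
  unfold bf
  rw [zero_dotProduct]

/-- the hypotheses on the form: positive definite, even, without roots -/
structure Hyp (B : Matrix (Fin n) (Fin n) ℤ) : Prop where
  symm : B.IsSymm
  pos : ∀ x : Fin n → ℤ, x ≠ 0 → 0 < bf B x x
  even : ∀ x : Fin n → ℤ, (2 : ℤ) ∣ bf B x x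
  noroot : ∀ x : Fin n → ℤ, bf B x x ≠ 2

theorem Hyp.four_le (h : Hyp B) {z : Fin n → ℤ} (hz : z ≠ 0) : 4 ≤ bf B z z := by
  have h1 := h.pos z hz
  have h2 := h.even z
  have h3 := h.noroot z
  omega

theorem Hyp.nonneg (h : Hyp B) (z : Fin n → ℤ) : 0 ≤ bf B z z := by
  by_cases hz : z = 0
  · rw [hz, q_zero]
  · exact (h.pos z hz).le

theorem exists_half {x : Fin n → ℤ} (hx : ∀ i, (2 : ℤ) ∣ x i) : ∃ z : Fin n → ℤ, x = (2 : ℤ) • z := by
  choose z hz using hx
  exact ⟨z, funext (fun i => by rw [Pi.smul_apply, smul_eq_mul]; exact hz i)⟩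

/-- congruent short vectors are equal, opposite, or orthogonal of norm 8 -/
theorem Hyp.short_congruent (h : Hyp B) {x y : Fin n → ℤ} (hx : bf B x x ≤ 8)
    (hy : bf B y y ≤ 8) (hc : ∀ i, (2 : ℤ) ∣ (x - y) i) (h1 : y ≠ x) (h2 : y ≠ -x) :
    bf B x x = 8 ∧ bf B y y = 8 ∧ bf B x y = 0 := by
  obtain ⟨z, hz⟩ := exists_half hc
  have hc' : ∀ i, (2 : ℤ) ∣ (x + y) i := by
    intro i
    have := hc i
    rw [Pi.sub_apply] at this
    rw [Pi.add_apply]
    omega
  obtain ⟨z', hz'⟩ := exists_half hc'
  have hz0 : z ≠ 0 := by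
    rintro rfl
    rw [smul_zero] at hz
    exact h1 (sub_eq_zero.mp hz).symm
  have hz0' : z' ≠ 0 := by
    rintro rfl
    rw [smul_zero] at hz'
    exact h2 (eq_neg_of_add_eq_zero_right hz')
  have e1 := q_sub h.symm x y
  rw [hz, q_two] at e1
  have e2 := q_add h.symm x y
  rw [hz', q_two] at e2
  have f1 := h.four_le hz0
  have f2 := h.four_le hz0'
  have g1 := h.nonneg x
  have g2 := h.nonneg y
  omega

/-- pairwise orthogonal vectors of nonzero norm are linearly independent -/
theorem linInd_of_orth (R : Finset (Fin n → ℤ))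
    (hq : ∀ r ∈ R, bf B r r ≠ 0) (ho : ∀ r ∈ R, ∀ s ∈ R, r ≠ s → bf B r s = 0) :
    LinearIndependent ℤ (fun r : R => (r : Fin n → ℤ)) := by
  classical
  rw [linearIndependent_iff']
  intro s g hg j hj
  have h1 : bf B (∑ i ∈ s, g i • (i : Fin n → ℤ)) (j : Fin n → ℤ) = 0 := by
    rw [hg]
    unfold bf
    rw [zero_dotProduct]
  rw [bf_sum_left] at h1
  rw [Finset.sum_eq_single j] at h1
  · rw [bf_smul_left] at h1
    rcases mul_eq_zero.mp h1 with h | h
    · exact h
    · exact absurd h (hq j j.2)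
  · intro i _ hij
    rw [bf_smul_left, ho i i.2 j j.2 (fun h => hij (Subtype.ext h)), mul_zero]
  · intro hj'
    exact absurd hj hj'

theorem card_le_of_linInd (R : Finset (Fin n → ℤ))
    (h : LinearIndependent ℤ (fun r : R => (r : Fin n → ℤ))) : R.card ≤ n := by
  have := h.fintype_card_le_finrank
  rw [Module.finrank_fin_fun, Fintype.card_coe] at this
  exact this

/-- a family of vectors of nonzero norm, pairwise equal, opposite or orthogonal, has at most
`2 n` members -/
theorem card_le_of_orth (hsymm : B.IsSymm) (F : Finset (Fin n → ℤ))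
    (hq : ∀ y ∈ F, bf B y y ≠ 0)
    (hp : ∀ x ∈ F, ∀ y ∈ F, y = x ∨ y = -x ∨ bf B x y = 0) : F.card ≤ 2 * n := by
  classical
  -- a set of representatives
  have key : ∀ F : Finset (Fin n → ℤ), (∀ x ∈ F, ∀ y ∈ F, y = x ∨ y = -x ∨ bf B x y = 0) →
      ∃ R : Finset (Fin n → ℤ), R ⊆ F ∧ (∀ y ∈ F, y ∈ R ∨ -y ∈ R) ∧
        (∀ r ∈ R, ∀ s ∈ R, r ≠ s → bf B r s = 0) := by
    intro F
    induction F using Finset.induction_on with
    | empty =>
      intro _
      exact ⟨∅, Finset.Subset.refl _, by simp, by simp⟩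
    | insert a F ha ih =>
      intro hp
      obtain ⟨R, hRF, hR1, hR2⟩ := ih (fun x hx y hy =>
        hp x (Finset.mem_insert_of_mem hx) y (Finset.mem_insert_of_mem hy))
      by_cases hna : -a ∈ R
      · refine ⟨R, hRF.trans (Finset.subset_insert _ _), ?_, hR2⟩
        intro y hy
        rcases Finset.mem_insert.mp hy with rfl | hy
        · right; exact hna
        · exact hR1 y hy
      · refine ⟨insert a R, Finset.insert_subset_insert a hRF, ?_, ?_⟩
        · intro y hy
          rcases Finset.mem_insert.mp hy with rfl | hy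
          · left; exact Finset.mem_insert_self _ _
          · rcases hR1 y hy with h | h
            · left; exact Finset.mem_insert_of_mem h
            · right; exact Finset.mem_insert_of_mem h
        · have haR : a ∉ R := fun h => ha (hRF h)
          have hnew : ∀ r ∈ R, bf B a r = 0 := by
            intro r hr
            rcases hp a (Finset.mem_insert_self _ _) r (Finset.mem_insert_of_mem (hRF hr))
              with h | h | h
            · exact absurd (h ▸ hr) haR
            · exact absurd (h ▸ hr) hna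
            · exact h
          intro r hr s hs hrs
          rcases Finset.mem_insert.mp hr with hra | hr' <;>
            rcases Finset.mem_insert.mp hs with hsa | hs'
          · exact absurd (hra.trans hsa.symm) hrs
          · rw [hra]; exact hnew s hs'
          · rw [hsa, bf_comm hsymm]; exact hnew r hr'
          · exact hR2 r hr' s hs' hrs
  obtain ⟨R, hRF, hR1, hR2⟩ := key F hp
  have hcardR : R.card ≤ n :=
    card_le_of_linInd R (linInd_of_orth R (fun r hr => hq r (hRF hr)) hR2)
  have hsub : F ⊆ R ∪ R.image (fun y => -y) := by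
    intro y hy
    rcases hR1 y hy with h | h
    · exact Finset.mem_union_left _ h
    · apply Finset.mem_union_right
      rw [Finset.mem_image]
      exact ⟨-y, h, neg_neg y⟩
  have := (Finset.card_le_card hsub).trans (Finset.card_union_le _ _)
  have h2 : (R.image (fun y => -y)).card ≤ R.card := Finset.card_image_le
  omega

end Cfsg.Agent.Lib.Helper1.AbsCross
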