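import Mathlib
import Cfsg.Agent.Lib.Helper1.AbsCross1

set_option autoImplicit false

namespace Cfsg.Agent.Lib.Helper1.AbsCross

open Matrix

variable {B : Matrix (Fin 24) (Fin 24) ℤ}

/-- class modulo 2 -/
def cl (x : Fin 24 → ℤ) : Fin 24 → ZMod 2 := fun i => (x i : ZMod 2)

theorem cl_eq_iff (x y : Fin 24 → ℤ) : cl x = cl y ↔ ∀ i, (2 : ℤ) ∣ (x - y) i := by
  constructor
  · intro h i
    have := congrFun h i
    unfold cl at this
    rw [ZMod.intCast_eq_intCast_iff_dvd_sub] at this
    rw [Pi.sub_apply]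
    have h2 : ((2 : ℕ) : ℤ) = 2 := rfl
    rw [h2] at this
    omega
  · intro h
    funext i
    unfold cl
    rw [ZMod.intCast_eq_intCast_iff_dvd_sub]
    have := h i
    rw [Pi.sub_apply] at this
    have h2 : ((2 : ℕ) : ℤ) = 2 := rfl
    rw [h2]
    omega

/-- the vector counts -/
structure Cnt (B : Matrix (Fin 24) (Fin 24) ℤ) : Prop where
  c4 : {x : Fin 24 → ℤ | bf B x x = 4}.ncard = 196560
  c6 : {x : Fin 24 → ℤ | bf B x x = 6}.ncard = 16773120
  c8 : {x : Fin 24 → ℤ | bf B x x = 8}.ncard = 398034000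

theorem Cnt.f4 (c : Cnt B) : {x : Fin 24 → ℤ | bf B x x = 4}.Finite :=
  Set.finite_of_ncard_ne_zero (by rw [c.c4]; norm_num)

theorem Cnt.f6 (c : Cnt B) : {x : Fin 24 → ℤ | bf B x x = 6}.Finite :=
  Set.finite_of_ncard_ne_zero (by rw [c.c6]; norm_num)

theorem Cnt.f8 (c : Cnt B) : {x : Fin 24 → ℤ | bf B x x = 8}.Finite :=
  Set.finite_of_ncard_ne_zero (by rw [c.c8]; norm_num)

open Classical in
/-- the short vectors -/
noncomputable def SS (c : Cnt B) : Finset (Fin 24 → ℤ) :=
  {0} ∪ c.f4.toFinset ∪ c.f6.toFinset ∪ c.f8.toFinset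

theorem Hyp.eq_zero_of_q (h : Hyp B) {x : Fin 24 → ℤ} (hx : bf B x x = 0) : x = 0 := by
  by_contra h0
  have := h.pos x h0
  omega

open Classical in
theorem mem_SS (h : Hyp B) (c : Cnt B) (x : Fin 24 → ℤ) : x ∈ SS c ↔ bf B x x ≤ 8 := by
  unfold SS
  simp only [Finset.mem_union, Finset.mem_singleton, Set.Finite.mem_toFinset, Set.mem_ofPred_eq]
  constructor
  · rintro (((rfl | h1) | h1) | h1)
    · rw [q_zero]; norm_num
    · rw [h1]; norm_num
    · rw [h1]; norm_num
    · rw [h1]
  · intro hx
    have h0 := h.nonneg x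
    have h1 := h.even x
    have h2 := h.noroot x
    by_cases hx0 : bf B x x = 0
    · left; left; left; exact h.eq_zero_of_q hx0
    · obtain ⟨t, ht⟩ := h1
      have : t = 2 ∨ t = 3 ∨ t = 4 := by omega
      rcases this with rfl | rfl | rfl
      · left; left; right; rw [ht]; norm_num
      · left; right; rw [ht]; norm_num
      · right; rw [ht]; norm_num

/-- the weight of a short vector -/
def mu (B : Matrix (Fin 24) (Fin 24) ℤ) (x : Fin 24 → ℤ) : ℕ :=
  if bf B x x = 0 then 48 else if bf B x x = 8 then 1 else 24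

theorem mu_le (x : Fin 24 → ℤ) : mu B x ≤ 48 := by
  unfold mu
  split_ifs <;> norm_num

open Classical in
theorem sum_mu_SS (c : Cnt B) : ∑ x ∈ SS c, mu B x = 48 * 2 ^ 24 := by
  have hc4 : c.f4.toFinset.card = 196560 := by
    rw [← Set.ncard_eq_toFinset_card _ c.f4, c.c4]
  have hc6 : c.f6.toFinset.card = 16773120 := by
    rw [← Set.ncard_eq_toFinset_card _ c.f6, c.c6]
  have hc8 : c.f8.toFinset.card = 398034000 := by
    rw [← Set.ncard_eq_toFinset_card _ c.f8, c.c8]
  have m4 : ∀ x ∈ c.f4.toFinset, mu B x = 24 := by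
    intro x hx
    rw [Set.Finite.mem_toFinset] at hx
    unfold mu
    rw [show bf B x x = 4 from hx]
    norm_num
  have m6 : ∀ x ∈ c.f6.toFinset, mu B x = 24 := by
    intro x hx
    rw [Set.Finite.mem_toFinset] at hx
    unfold mu
    rw [show bf B x x = 6 from hx]
    norm_num
  have m8 : ∀ x ∈ c.f8.toFinset, mu B x = 1 := by
    intro x hx
    rw [Set.Finite.mem_toFinset] at hx
    unfold mu
    rw [show bf B x x = 8 from hx]
    norm_num
  have m0 : mu B 0 = 48 := by
    unfold mu
    rw [q_zero]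
    norm_num
  unfold SS
  rw [Finset.sum_union, Finset.sum_union, Finset.sum_union]
  · rw [Finset.sum_singleton, Finset.sum_congr rfl m4, Finset.sum_congr rfl m6,
      Finset.sum_congr rfl m8, Finset.sum_const, Finset.sum_const, Finset.sum_const,
      hc4, hc6, hc8, m0]
    norm_num
  · rw [Finset.disjoint_left]
    intro x hx hx4
    rw [Finset.mem_singleton] at hx
    rw [Set.Finite.mem_toFinset] at hx4
    have h4 : bf B x x = 4 := hx4
    rw [hx, q_zero] at h4
    norm_num at h4
  · rw [Finset.disjoint_left]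
    intro x hx hx6
    rw [Set.Finite.mem_toFinset] at hx6
    have h6 : bf B x x = 6 := hx6
    rcases Finset.mem_union.mp hx with hx | hx
    · rw [Finset.mem_singleton] at hx
      rw [hx, q_zero] at h6
      norm_num at h6
    · rw [Set.Finite.mem_toFinset] at hx
      have h4 : bf B x x = 4 := hx
      omega
  · rw [Finset.disjoint_left]
    intro x hx hx8
    rw [Set.Finite.mem_toFinset] at hx8
    have h8 : bf B x x = 8 := hx8
    rcases Finset.mem_union.mp hx with hx | hx
    · rcases Finset.mem_union.mp hx with hx | hx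
      · rw [Finset.mem_singleton] at hx
        rw [hx, q_zero] at h8
        norm_num at h8
      · rw [Set.Finite.mem_toFinset] at hx
        have h4 : bf B x x = 4 := hx
        omega
    · rw [Set.Finite.mem_toFinset] at hx
      have h6 : bf B x x = 6 := hx
      omega

open Classical in
/-- the members of a class among the short vectors weigh at most 48 in total -/
theorem class_bound (h : Hyp B) (c : Cnt B) (q : Fin 24 → ZMod 2) :
    ∑ x ∈ (SS c).filter (fun x => cl x = q), mu B x ≤ 48 := by
  set F := (SS c).filter (fun x => cl x = q) with hF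
  have hmem : ∀ x ∈ F, bf B x x ≤ 8 ∧ cl x = q := by
    intro x hx
    rw [hF, Finset.mem_filter, mem_SS h] at hx
    exact hx
  have hpair : ∀ x ∈ F, ∀ y ∈ F, y = x ∨ y = -x ∨
      (bf B x x = 8 ∧ bf B y y = 8 ∧ bf B x y = 0) := by
    intro x hx y hy
    obtain ⟨hx2, hx3⟩ := hmem x hx
    obtain ⟨hy2, hy3⟩ := hmem y hy
    by_cases h1 : y = x
    · exact Or.inl h1
    · by_cases h2 : y = -x
      · exact Or.inr (Or.inl h2)
      · right; right
        have hxy := (cl_eq_iff x y).mp (hx3.trans hy3.symm)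
        exact h.short_congruent hx2 hy2 hxy h1 h2
  by_cases hall : ∀ x ∈ F, bf B x x = 8
  · have h1 : ∑ x ∈ F, mu B x = F.card := by
      rw [Finset.card_eq_sum_ones]
      apply Finset.sum_congr rfl
      intro x hx
      unfold mu
      rw [hall x hx]
      norm_num
    rw [h1]
    have := card_le_of_orth h.symm F (fun y hy => by rw [hall y hy]; norm_num)
      (fun x hx y hy => by
        rcases hpair x hx y hy with h' | h' | h'
        · exact Or.inl h'
        · exact Or.inr (Or.inl h')
        · exact Or.inr (Or.inr h'.2.2))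
    omega
  · push Not at hall
    obtain ⟨x, hx, hxn⟩ := hall
    have hsub : F ⊆ {x, -x} := by
      intro y hy
      rw [Finset.mem_insert, Finset.mem_singleton]
      rcases hpair x hx y hy with h' | h' | h'
      · exact Or.inl h'
      · exact Or.inr h'
      · exact absurd h'.1 hxn
    have h1 : ∑ y ∈ F, mu B y ≤ ∑ y ∈ ({x, -x} : Finset (Fin 24 → ℤ)), mu B y :=
      Finset.sum_le_sum_of_subset hsub
    refine h1.trans ?_
    by_cases hx0 : x = 0
    · rw [hx0, neg_zero, Finset.pair_eq_singleton, Finset.sum_singleton]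
      exact mu_le 0
    · have hne : x ≠ -x := by
        intro h'
        apply hx0
        ext j
        have := congrFun h' j
        rw [Pi.neg_apply] at this
        rw [Pi.zero_apply]
        omega
      rw [Finset.sum_pair hne]
      have hn0 : bf B x x ≠ 0 := fun h' => hx0 (h.eq_zero_of_q h')
      have e1 : mu B x = 24 := by
        unfold mu
        rw [if_neg hn0, if_neg hxn]
      have e2 : mu B (-x) = 24 := by
        unfold mu
        rw [q_neg, if_neg hn0, if_neg hxn]
      rw [e1, e2]

open Classical in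
theorem image_card_le (c : Cnt B) : ((SS c).image cl).card ≤ 2 ^ 24 := by
  have h1 := Finset.card_le_univ ((SS c).image cl)
  have h2 : Fintype.card (Fin 24 → ZMod 2) = 2 ^ 24 := by
    rw [Fintype.card_fun, ZMod.card, Fintype.card_fin]
  omega

open Classical in
/-- every class sum is exactly 48 -/
theorem class_sum_eq (h : Hyp B) (c : Cnt B) :
    ∀ q ∈ (SS c).image cl, ∑ x ∈ (SS c).filter (fun x => cl x = q), mu B x = 48 := by
  have h1 : ∑ x ∈ SS c, mu B x =
      ∑ q ∈ (SS c).image cl, ∑ x ∈ (SS c).filter (fun x => cl x = q), mu B x :=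
    (Finset.sum_fiberwise_of_maps_to (fun x hx => Finset.mem_image_of_mem cl hx) (mu B)).symm
  rw [sum_mu_SS] at h1
  have h2 : ∑ q ∈ (SS c).image cl, ∑ x ∈ (SS c).filter (fun x => cl x = q), mu B x ≤
      ∑ _q ∈ (SS c).image cl, 48 := Finset.sum_le_sum (fun q _ => class_bound h c q)
  have h3 := image_card_le c
  rw [Finset.sum_const, smul_eq_mul] at h2
  have hcard : ((SS c).image cl).card = 2 ^ 24 := by
    have : 48 * 2 ^ 24 ≤ ((SS c).image cl).card * 48 := by rw [h1]; exact h2
    omega
  have h4 : ∑ q ∈ (SS c).image cl, ∑ x ∈ (SS c).filter (fun x => cl x = q), mu B x =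
      ∑ _q ∈ (SS c).image cl, 48 := by
    rw [Finset.sum_const, smul_eq_mul, hcard, ← h1]
    ring
  exact (Finset.sum_eq_sum_iff_of_le (fun q _ => class_bound h c q)).mp h4

open Classical in
/-- the class of a vector of norm 8 has exactly 48 short members, all of norm 8 -/
theorem class_card (h : Hyp B) (c : Cnt B) {x : Fin 24 → ℤ} (hn : bf B x x = 8) :
    ((SS c).filter (fun y => cl y = cl x)).card = 48 ∧
      ∀ y ∈ (SS c).filter (fun y => cl y = cl x), bf B y y = 8 := by
  have hxS : x ∈ SS c := (mem_SS h c x).mpr (by rw [hn])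
  have hq : cl x ∈ (SS c).image cl := Finset.mem_image_of_mem cl hxS
  have hsum := class_sum_eq h c (cl x) hq
  have hall : ∀ y ∈ (SS c).filter (fun y => cl y = cl x), bf B y y = 8 := by
    intro y hy
    rw [Finset.mem_filter, mem_SS h] at hy
    by_contra hyn
    have hxy := (cl_eq_iff y x).mp hy.2
    by_cases h1 : x = y
    · rw [← h1] at hyn; exact hyn hn
    · by_cases h2 : x = -y
      · rw [h2, q_neg] at hn; exact hyn hn
      · have := h.short_congruent hy.1 (by rw [hn]) hxy h1 h2
        exact hyn this.1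
  refine ⟨?_, hall⟩
  have h1 : ∑ y ∈ (SS c).filter (fun y => cl y = cl x), mu B y =
      ((SS c).filter (fun y => cl y = cl x)).card := by
    rw [Finset.card_eq_sum_ones]
    apply Finset.sum_congr rfl
    intro y hy
    unfold mu
    rw [hall y hy]
    norm_num
  rw [← h1, hsum]

/-- the congruence class of a norm 8 vector has exactly 48 members of norm 8 -/
theorem main (h : Hyp B) (c : Cnt B) (x : Fin 24 → ℤ) (hx : bf B x x = 8) :
    {y : Fin 24 → ℤ | bf B y y = 8 ∧ ∀ i, (2 : ℤ) ∣ (x - y) i}.ncard = 48 := by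
  classical
  obtain ⟨h1, h2⟩ := class_card h c hx
  have e : {y : Fin 24 → ℤ | bf B y y = 8 ∧ ∀ i, (2 : ℤ) ∣ (x - y) i} =
      (((SS c).filter (fun y => cl y = cl x) : Finset (Fin 24 → ℤ)) : Set (Fin 24 → ℤ)) := by
    ext y
    rw [Finset.mem_coe, Finset.mem_filter, mem_SS h]
    constructor
    · rintro ⟨a, b⟩
      exact ⟨by rw [a], ((cl_eq_iff x y).mpr b).symm⟩
    · rintro ⟨a, b⟩
      exact ⟨h2 y (Finset.mem_filter.mpr ⟨(mem_SS h c y).mpr a, b⟩), (cl_eq_iff x y).mp b.symm⟩
  rw [e, Set.ncard_coe_finset, h1]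

end Cfsg.Agent.Lib.Helper1.AbsCross
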