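import Mathlib
import Cfsg.Prelude.Def_KGroupFacts
import Cfsg.Agent.Lib.Helper1.Stem9

set_option autoImplicit false

/-! Splitting of a central extension over a perfect subgroup with trivial stem extensions. -/

namespace Cfsg.Agent.Lib.Helper1.Stem

open scoped commutatorElement

universe u v

section split

variable {Γ : Type u} {G : Type v} [Group Γ] [Group G] [Finite Γ] (σ : Γ →* G)

/-- the lift of a perfect subgroup: the commutator subgroup of its preimage -/
def liftSub (K : Subgroup G) : Subgroup Γ := ⁅K.comap σ, K.comap σ⁆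

theorem liftSub_le (K : Subgroup G) : liftSub σ K ≤ K.comap σ := by
  unfold liftSub
  rw [Subgroup.commutator_le]
  intro a ha b hb
  rw [commutatorElement_def]
  exact Subgroup.mul_mem _ (Subgroup.mul_mem _ (Subgroup.mul_mem _ ha hb) (Subgroup.inv_mem _ ha))
    (Subgroup.inv_mem _ hb)

theorem exists_liftSub_of_perfect (hs : Function.Surjective σ) (K : Subgroup G)
    (hK : commutator K = ⊤) (k : G) (hk : k ∈ K) : ∃ g ∈ liftSub σ K, σ g = k := by
  have h1 : k ∈ ⁅K, K⁆ := by
    rw [← Subgroup.map_subtype_commutator, hK]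
    exact ⟨⟨k, hk⟩, Subgroup.mem_top _, rfl⟩
  have h2 : (K.comap σ).map σ = K := Subgroup.map_comap_eq_self_of_surjective hs K
  rw [← h2, ← Subgroup.map_commutator] at h1
  obtain ⟨g, hg, rfl⟩ := h1
  exact ⟨g, hg, rfl⟩

/-- the preimage is the product of the lift and the kernel -/
theorem exists_mul_mem_liftSub (hs : Function.Surjective σ) (K : Subgroup G)
    (hK : commutator K = ⊤) (g : Γ) (hg : σ g ∈ K) : ∃ c ∈ σ.ker, g * c ∈ liftSub σ K := by
  obtain ⟨h, hh, hσ⟩ := exists_liftSub_of_perfect σ hs K hK (σ g) hg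
  refine ⟨g⁻¹ * h, ?_, ?_⟩
  · rw [MonoidHom.mem_ker, map_mul, map_inv, hσ, inv_mul_cancel]
  · rw [← mul_assoc, mul_inv_cancel, one_mul]; exact hh

theorem liftSub_perfect (hs : Function.Surjective σ) (hcen : σ.ker ≤ Subgroup.center Γ)
    (K : Subgroup G) (hK : commutator K = ⊤) :
    liftSub σ K ≤ ⁅liftSub σ K, liftSub σ K⁆ := by
  have hL : K.comap σ ≤ Subgroup.closure ((liftSub σ K : Set Γ) ∪ (σ.ker : Set Γ)) := by
    intro g hg
    obtain ⟨c, hc, hgc⟩ := exists_mul_mem_liftSub σ hs K hK g hg
    have : g = g * c * c⁻¹ := by group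
    rw [this]
    exact Subgroup.mul_mem _ (Subgroup.subset_closure (Or.inl hgc))
      (Subgroup.inv_mem _ (Subgroup.subset_closure (Or.inr hc)))
  have h2 : ⁅Subgroup.closure ((liftSub σ K : Set Γ) ∪ (σ.ker : Set Γ)),
      Subgroup.closure ((liftSub σ K : Set Γ) ∪ (σ.ker : Set Γ))⁆ ≤
      ⁅liftSub σ K, liftSub σ K⁆ := by
    apply commutator_closure_le
    · rintro s (hs' | hs') c hc
      · have hcK : c ∈ liftSub σ K := by
          have hle : ⁅liftSub σ K, liftSub σ K⁆ ≤ liftSub σ K := by
            rw [Subgroup.commutator_le]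
            intro a ha b hb
            rw [commutatorElement_def]
            exact Subgroup.mul_mem _ (Subgroup.mul_mem _ (Subgroup.mul_mem _ ha hb)
              (Subgroup.inv_mem _ ha)) (Subgroup.inv_mem _ hb)
          exact hle hc
        constructor
        · have e : s * c * s⁻¹ = ⁅s, c⁆ * c := by rw [commutatorElement_def]; group
          rw [e]
          exact Subgroup.mul_mem _ (Subgroup.commutator_mem_commutator hs' hcK) hc
        · have e : s⁻¹ * c * s = ⁅s⁻¹, c⁆ * c := by rw [commutatorElement_def]; group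
          rw [e]
          exact Subgroup.mul_mem _
            (Subgroup.commutator_mem_commutator (Subgroup.inv_mem _ hs') hcK) hc
      · have h := Subgroup.mem_center_iff.mp (hcen hs')
        constructor
        · rw [← h c, mul_assoc, mul_inv_cancel, mul_one]; exact hc
        · rw [mul_assoc, h c, ← mul_assoc, inv_mul_cancel, one_mul]; exact hc
    · rintro s (hs' | hs') t (ht | ht)
      · exact Subgroup.commutator_mem_commutator hs' ht
      · have h := Subgroup.mem_center_iff.mp (hcen ht)
        have : ⁅s, t⁆ = 1 := by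
          rw [commutatorElement_eq_one_iff_mul_comm]; exact (h s)
        rw [this]; exact Subgroup.one_mem _
      · have h := Subgroup.mem_center_iff.mp (hcen hs')
        have : ⁅s, t⁆ = 1 := by
          rw [commutatorElement_eq_one_iff_mul_comm]; exact (h t).symm
        rw [this]; exact Subgroup.one_mem _
      · have h := Subgroup.mem_center_iff.mp (hcen hs')
        have : ⁅s, t⁆ = 1 := by
          rw [commutatorElement_eq_one_iff_mul_comm]; exact (h t).symm
        rw [this]; exact Subgroup.one_mem _
  exact le_trans (Subgroup.commutator_mono hL hL) h2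

/-- the restriction of `σ` to the lift -/
def liftHom (K : Subgroup G) : liftSub σ K →* K :=
  (σ.comp (liftSub σ K).subtype).codRestrict K (fun g => liftSub_le σ K g.2)

theorem liftHom_apply (K : Subgroup G) (g : liftSub σ K) : (liftHom σ K g : G) = σ g := rfl

theorem liftHom_isStem (hs : Function.Surjective σ) (hcen : σ.ker ≤ Subgroup.center Γ)
    (K : Subgroup G) (hK : commutator K = ⊤) : Cfsg.IsStemExtension (liftHom σ K) := by
  refine ⟨?_, ?_, ?_⟩
  · intro k
    obtain ⟨g, hg, hσ⟩ := exists_liftSub_of_perfect σ hs K hK k k.2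
    exact ⟨⟨g, hg⟩, Subtype.ext hσ⟩
  · intro g hg
    have hgk : (g : Γ) ∈ σ.ker := by
      rw [MonoidHom.mem_ker] at hg ⊢
      have := congrArg Subtype.val hg
      exact this
    rw [Subgroup.mem_center_iff]
    intro h
    apply Subtype.ext
    exact Subgroup.mem_center_iff.mp (hcen hgk) h
  · intro g _
    have h1 := liftSub_perfect σ hs hcen K hK g.2
    rw [← Subgroup.map_subtype_commutator] at h1
    obtain ⟨g', hg', hgg⟩ := h1
    have : g' = g := Subtype.ext hgg
    rw [← this]; exact hg'

theorem liftSub_inf_ker (hs : Function.Surjective σ) (hcen : σ.ker ≤ Subgroup.center Γ)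
    (K : Subgroup G) (hK : commutator K = ⊤) (hT : TrivStems.{u} K) (g : Γ)
    (hg : g ∈ liftSub σ K) (hgk : σ g = 1) : g = 1 := by
  have h1 := hT (liftSub σ K) (liftHom σ K) (liftHom_isStem σ hs hcen K hK)
  have h2 : (⟨g, hg⟩ : liftSub σ K) ∈ (liftHom σ K).ker := by
    rw [MonoidHom.mem_ker]
    apply Subtype.ext
    exact hgk
  rw [h1, Subgroup.mem_bot] at h2
  exact congrArg Subtype.val h2

end split

end Cfsg.Agent.Lib.Helper1.Stem
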