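import Mathlib

/-!
# Certified upper bounds for finitely generated subgroups of the units of a monoid,
from coded elements: a product set `A * T` closed under right multiplication by the generators
-/

set_option autoImplicit false

namespace Cfsg.Agent.Lib.Helper1.MatCode

section generic

variable {M : Type*} [Monoid M] (D : ℕ → M) (mu : ℕ → ℕ → ℕ)

/-- the set of products of an element coded in `A` and an element coded in `T` -/
def AT (A T : List ℕ) : Set M := {m | ∃ a ∈ A, ∃ t ∈ T, m = D a * D t}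

theorem AT_finite (A T : List ℕ) : (AT D A T).Finite := by
  classical
  have : AT D A T ⊆ ((A.product T).map (fun x => D x.1 * D x.2)).toFinset := by
    rintro m ⟨a, ha, t, ht, rfl⟩
    simp only [List.coe_toFinset, List.mem_map, Set.mem_setOf_eq]
    exact ⟨(a, t), List.mem_product.mpr ⟨ha, ht⟩, rfl⟩
  exact (Finset.finite_toSet _).subset this

theorem AT_ncard_le (A T : List ℕ) : (AT D A T).ncard ≤ A.length * T.length := by
  classical
  have hsub : AT D A T ⊆ ((A.product T).map (fun x => D x.1 * D x.2)).toFinset := by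
    rintro m ⟨a, ha, t, ht, rfl⟩
    simp only [List.coe_toFinset, List.mem_map, Set.mem_setOf_eq]
    exact ⟨(a, t), List.mem_product.mpr ⟨ha, ht⟩, rfl⟩
  calc (AT D A T).ncard ≤ (((A.product T).map (fun x => D x.1 * D x.2)).toFinset : Set M).ncard :=
        Set.ncard_le_ncard hsub (Finset.finite_toSet _)
    _ = ((A.product T).map (fun x => D x.1 * D x.2)).toFinset.card := Set.ncard_coe_finset _
    _ ≤ ((A.product T).map (fun x => D x.1 * D x.2)).length := List.toFinset_card_le _
    _ = A.length * T.length := by rw [List.length_map]; exact List.length_product _ _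

/-- `L` is closed under right multiplication by `s` (checked on codes) -/
def chkRC (L : List ℕ) (s : ℕ) : Bool := L.all (fun q => L.contains (mu q s))

theorem chkRC_sound (C : ℕ → Prop) (hmu : ∀ a b, C b → D (mu a b) = D a * D b) {L : List ℕ} {s : ℕ}
    (hs : C s) (h : chkRC mu L s = true) : ∀ q ∈ L, ∃ q' ∈ L, D q * D s = D q' := by
  intro q hq
  unfold chkRC at h
  rw [List.all_eq_true] at h
  have h1 := h q hq
  rw [List.contains_iff_mem] at h1
  exact ⟨mu q s, h1, (hmu q s hs).symm⟩

/-- the elements of `L` after the first are obtained from earlier ones by right multiplication with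
an element of `SA`: `par` lists, for the positions `1, 2, …`, the earlier position and the index in `SA` -/
def chkTree (L SA : List ℕ) (par : List (ℕ × ℕ)) : Bool :=
  (par.length + 1 == L.length) && ((L.tail.zip par).zipIdx).all (fun x =>
    decide (x.1.2.1 ≤ x.2) && decide (x.1.2.2 < SA.length) &&
      (mu (L.getD x.1.2.1 0) (SA.getD x.1.2.2 0) == x.1.1))

theorem chkTree_sound (C : ℕ → Prop) (hmu : ∀ a b, C b → D (mu a b) = D a * D b) {L SA : List ℕ}
    {par : List (ℕ × ℕ)} (hSA : ∀ s ∈ SA, C s) (h1 : D (L.getD 0 0) = 1)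
    (h : chkTree mu L SA par = true) :
    ∀ a ∈ L, D a ∈ Submonoid.closure {m | ∃ s ∈ SA, m = D s} := by
  unfold chkTree at h
  rw [Bool.and_eq_true, beq_iff_eq, List.all_eq_true] at h
  obtain ⟨hlen, hall⟩ := h
  have key : ∀ k, ∀ hk : k < L.length, D L[k] ∈ Submonoid.closure {m | ∃ s ∈ SA, m = D s} := by
    intro k
    induction k using Nat.strong_induction_on with
    | _ k ih =>
      intro hk
      rcases Nat.eq_zero_or_pos k with h0 | hpos
      · subst h0
        rw [← List.getD_eq_getElem _ 0 hk, h1]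
        exact Submonoid.one_mem _
      · obtain ⟨k', rfl⟩ : ∃ k', k = k' + 1 := ⟨k - 1, by omega⟩
        have hk1 : k' < L.tail.length := by rw [List.length_tail]; omega
        have hk2 : k' < par.length := by omega
        have hk3 : k' < (L.tail.zip par).length := by rw [List.length_zip]; omega
        have hmem : ((L.tail[k'], par[k']), k') ∈ (L.tail.zip par).zipIdx := by
          rw [List.mem_zipIdx_iff_getElem?]
          show (L.tail.zip par)[k']? = some (L.tail[k'], par[k'])
          rw [List.getElem?_eq_getElem hk3, List.getElem_zip]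
        have h3 := hall _ hmem
        simp only [Bool.and_eq_true, decide_eq_true_eq, beq_iff_eq] at h3
        obtain ⟨⟨h4, h5⟩, h6⟩ := h3
        have hj : par[k'].1 < L.length := by omega
        have e1 : L.tail[k'] = L[k' + 1] := by rw [List.getElem_tail]
        rw [← e1, ← h6, hmu _ _ (hSA _ (by rw [List.getD_eq_getElem _ _ h5]; exact List.getElem_mem _)),
          List.getD_eq_getElem _ _ hj]
        apply Submonoid.mul_mem
        · exact ih _ (by omega) hj
        · apply Submonoid.subset_closure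
          exact ⟨_, by rw [List.getD_eq_getElem _ _ h5]; exact List.getElem_mem _, rfl⟩
  intro a ha
  obtain ⟨k, hk, rfl⟩ := List.getElem_of_mem ha
  exact key k hk

theorem mul_closed (L SA : List ℕ)
    (hRC : ∀ s ∈ SA, ∀ q ∈ L, ∃ q' ∈ L, D q * D s = D q')
    (htree : ∀ a ∈ L, D a ∈ Submonoid.closure {m | ∃ s ∈ SA, m = D s}) :
    ∀ a ∈ L, ∀ a' ∈ L, ∃ a'' ∈ L, D a * D a' = D a'' := by
  have key : ∀ m ∈ Submonoid.closure {m | ∃ s ∈ SA, m = D s}, ∀ q ∈ L, ∃ q' ∈ L, D q * m = D q' := by
    intro m hm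
    induction hm using Submonoid.closure_induction with
    | mem x hx =>
      obtain ⟨s, hs, rfl⟩ := hx
      exact hRC s hs
    | one => intro q hq; exact ⟨q, hq, mul_one _⟩
    | mul x y _ _ ihx ihy =>
      intro q hq
      obtain ⟨q', hq', h1⟩ := ihx q hq
      obtain ⟨q'', hq'', h2⟩ := ihy q' hq'
      exact ⟨q'', hq'', by rw [← mul_assoc, h1, h2]⟩
  intro a ha a' ha'
  exact key _ (htree a' ha') a ha

/-- the certificate for one generator `s`: for the `c`-th element `t` of `T`, indices `(i, j)` with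
`t * s = A[i] * T[j]` -/
def chkStep (A T : List ℕ) (s : ℕ) (cert : List (ℕ × ℕ)) : Bool :=
  (cert.length == T.length) && (T.zip cert).all (fun x =>
    decide (x.2.1 < A.length) && decide (x.2.2 < T.length) &&
      (mu x.1 s == mu (A.getD x.2.1 0) (T.getD x.2.2 0)))

theorem chkStep_sound (C : ℕ → Prop) (hmu : ∀ a b, C b → D (mu a b) = D a * D b) {A T : List ℕ} {s : ℕ}
    {cert : List (ℕ × ℕ)} (hs : C s) (hT : ∀ t ∈ T, C t) (h : chkStep mu A T s cert = true) :
    ∀ t ∈ T, ∃ a ∈ A, ∃ t' ∈ T, D t * D s = D a * D t' := by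
  intro t ht
  unfold chkStep at h
  rw [Bool.and_eq_true, beq_iff_eq, List.all_eq_true] at h
  obtain ⟨hlen, hall⟩ := h
  obtain ⟨k, hk, rfl⟩ := List.getElem_of_mem ht
  have hk' : k < cert.length := by omega
  have hmem : (T[k], cert[k]) ∈ T.zip cert := by
    have : (T.zip cert)[k]'(by rw [List.length_zip]; omega) = (T[k], cert[k]) := List.getElem_zip
    rw [← this]
    exact List.getElem_mem _
  have h3 := hall _ hmem
  simp only [Bool.and_eq_true, decide_eq_true_eq, beq_iff_eq] at h3
  obtain ⟨⟨h4, h5⟩, h6⟩ := h3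
  have h7 : T.getD cert[k].2 0 ∈ T := by
    rw [List.getD_eq_getElem _ _ h5]; exact List.getElem_mem _
  refine ⟨A.getD cert[k].1 0, ?_, T.getD cert[k].2 0, h7, ?_⟩
  · rw [List.getD_eq_getElem _ _ h4]; exact List.getElem_mem _
  · rw [← hmu _ _ hs, ← hmu _ _ (hT _ h7), h6]

/-- the list of the first `N` values of a table -/
def tab (Tf : ℕ → ℕ) (N : ℕ) : List ℕ := (List.range N).map Tf

theorem mem_tab {Tf : ℕ → ℕ} {N t : ℕ} : t ∈ tab Tf N ↔ ∃ k, k < N ∧ Tf k = t := by
  unfold tab
  rw [List.mem_map]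
  constructor
  · rintro ⟨k, hk, rfl⟩; exact ⟨k, List.mem_range.mp hk, rfl⟩
  · rintro ⟨k, hk, rfl⟩; exact ⟨k, List.mem_range.mpr hk, rfl⟩

theorem length_tab (Tf : ℕ → ℕ) (N : ℕ) : (tab Tf N).length = N := by
  unfold tab
  rw [List.length_map, List.length_range]

/-- the certificate for one generator `s`, with the transversal and the certificate given as tables:
`cf k = 65536 * i + j` means `T k * s = A[i] * T j` -/
def chkStepF (A : List ℕ) (Tf : ℕ → ℕ) (N : ℕ) (s : ℕ) (cf : ℕ → ℕ) : Bool :=
  (List.range N).all (fun k =>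
    decide (cf k % 65536 < N) &&
      match A[cf k / 65536]? with
      | some a => mu (Tf k) s == mu a (Tf (cf k % 65536))
      | none => false)

theorem chkStepF_sound (C : ℕ → Prop) (hmu : ∀ a b, C b → D (mu a b) = D a * D b) {A : List ℕ}
    {Tf : ℕ → ℕ} {N s : ℕ} {cf : ℕ → ℕ} (hs : C s) (hT : ∀ k, k < N → C (Tf k))
    (h : chkStepF mu A Tf N s cf = true) :
    ∀ t ∈ tab Tf N, ∃ a ∈ A, ∃ t' ∈ tab Tf N, D t * D s = D a * D t' := by
  intro t ht
  obtain ⟨k, hk, rfl⟩ := mem_tab.mp ht
  unfold chkStepF at h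
  rw [List.all_eq_true] at h
  have h3 := h k (List.mem_range.mpr hk)
  rw [Bool.and_eq_true, decide_eq_true_eq] at h3
  obtain ⟨h4, h5⟩ := h3
  cases hA : A[cf k / 65536]? with
  | none => rw [hA] at h5; exact absurd h5 (by simp)
  | some a =>
    rw [hA] at h5
    have h6 : mu (Tf k) s = mu a (Tf (cf k % 65536)) := by simpa using h5
    refine ⟨a, List.mem_of_getElem? hA, Tf (cf k % 65536), mem_tab.mpr ⟨_, h4, rfl⟩, ?_⟩
    rw [← hmu _ _ hs, ← hmu _ _ (hT _ h4), h6]

theorem closure_subset (A T S : List ℕ)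
    (hA : ∀ a ∈ A, ∀ a' ∈ A, ∃ a'' ∈ A, D a * D a' = D a'')
    (hS : ∀ s ∈ S, ∀ t ∈ T, ∃ a ∈ A, ∃ t' ∈ T, D t * D s = D a * D t') :
    ∀ s ∈ S, ∀ q ∈ AT D A T, q * D s ∈ AT D A T := by
  rintro s hs q ⟨a, ha, t, ht, rfl⟩
  obtain ⟨a', ha', t', ht', h⟩ := hS s hs t ht
  obtain ⟨a'', ha'', h2⟩ := hA a ha a' ha'
  refine ⟨a'', ha'', t', ht', ?_⟩
  rw [mul_assoc, h, ← mul_assoc, h2]

theorem rmul_inv_mem {X : Set M} (hfin : X.Finite) (u v : M) (huv : u * v = 1)
    (h : ∀ q ∈ X, q * u ∈ X) : ∀ q ∈ X, q * v ∈ X := by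
  intro q hq
  have : Finite X := hfin
  let f : X → X := fun q => ⟨q.1 * u, h q.1 q.2⟩
  have hinj : Function.Injective f := by
    intro a b hab
    have h1 : a.1 * u = b.1 * u := congrArg Subtype.val hab
    have h2 : a.1 * u * v = b.1 * u * v := by rw [h1]
    rw [mul_assoc, mul_assoc, huv, mul_one, mul_one] at h2
    exact Subtype.ext h2
  obtain ⟨q', hq'⟩ := (Finite.injective_iff_surjective.mp hinj) ⟨q, hq⟩
  have h1 : q'.1 * u = q := congrArg Subtype.val hq'
  rw [← h1, mul_assoc, huv, mul_one]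
  exact q'.2

/-- a finite set containing `1` and closed under right multiplication by the images of the generators
contains the image of the generated subgroup -/
theorem subgroup_closure_subset {Γ : Type*} [Group Γ] (φ : Γ →* M) {X : Set M} (hfin : X.Finite)
    (h1 : (1 : M) ∈ X) (SG : Set Γ) (hSG : ∀ u ∈ SG, ∀ q ∈ X, q * φ u ∈ X) :
    ∀ g ∈ Subgroup.closure SG, φ g ∈ X := by
  have key : ∀ g ∈ Subgroup.closure SG, ∀ q ∈ X, q * φ g ∈ X := by
    intro g hg
    induction hg using Subgroup.closure_induction with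
    | mem u hu => exact hSG u hu
    | one => intro q hq; simpa using hq
    | mul a b _ _ iha ihb =>
      intro q hq
      rw [map_mul, ← mul_assoc]
      exact ihb _ (iha _ hq)
    | inv a _ iha =>
      apply rmul_inv_mem hfin (φ a) (φ a⁻¹) _ iha
      rw [← map_mul, mul_inv_cancel, map_one]
  intro g hg
  have := key g hg 1 h1
  rwa [one_mul] at this

theorem card_le_of_closure_eq_top {Γ : Type*} [Group Γ] (φ : Γ →* M) (hφ : Function.Injective φ)
    {X : Set M} (hfin : X.Finite) (h1 : (1 : M) ∈ X) (SG : Set Γ)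
    (hSG : ∀ u ∈ SG, ∀ q ∈ X, q * φ u ∈ X) (htop : Subgroup.closure SG = ⊤) :
    Nat.card Γ ≤ X.ncard := by
  have hsub := subgroup_closure_subset φ hfin h1 SG hSG
  have : Finite X := hfin
  let f : Γ → X := fun g => ⟨φ g, hsub g (by rw [htop]; exact Subgroup.mem_top g)⟩
  have hinj : Function.Injective f := by
    intro a b hab
    exact hφ (congrArg Subtype.val hab)
  have := Nat.card_le_card_of_injective f hinj
  rwa [Nat.card_coe_set_eq] at this

theorem card_closure_le {Γ : Type*} [Group Γ] (φ : Γ →* M) (hφ : Function.Injective φ)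
    {X : Set M} (hfin : X.Finite) (h1 : (1 : M) ∈ X) (SG : Set Γ)
    (hSG : ∀ u ∈ SG, ∀ q ∈ X, q * φ u ∈ X) :
    Nat.card (Subgroup.closure SG) ≤ X.ncard := by
  have hsub := subgroup_closure_subset φ hfin h1 SG hSG
  have : Finite X := hfin
  let f : Subgroup.closure SG → X := fun g => ⟨φ g.1, hsub g.1 g.2⟩
  have hinj : Function.Injective f := by
    intro a b hab
    exact Subtype.ext (hφ (congrArg Subtype.val hab))
  have := Nat.card_le_card_of_injective f hinj
  rwa [Nat.card_coe_set_eq] at this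

end generic

end Cfsg.Agent.Lib.Helper1.MatCode
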