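import Cfsg.Agent.Lib.Helper1.MatCode1
import Cfsg.Agent.Lib.Helper1.MatCode2

/-!
# Coded matrices: canonical codes, powers, words, inequality
-/

set_option autoImplicit false

namespace Cfsg.Agent.Lib.Helper1.MatCode

variable (n p : ℕ)

/-- check that all digits are `< p` -/
def canonB (c : ℕ) : Bool := (List.range (n * n)).all (fun m => decide (dig W c m < p))

theorem canon_of_canonB {c : ℕ} (h : canonB n p c = true) : Canon n p c := by
  intro m hm
  unfold canonB at h
  rw [List.all_eq_true] at h
  have := h m (List.mem_range.mpr hm)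
  exact of_decide_eq_true this

theorem canon_of_all {L : List ℕ} (h : L.all (canonB n p) = true) : ∀ c ∈ L, Canon n p c := by
  intro c hc
  rw [List.all_eq_true] at h
  exact canon_of_canonB n p (h c hc)

/-- check that two codes give different matrices -/
def neB (a b : ℕ) : Bool := (List.range (n * n)).any (fun m => dig W a m % p != dig W b m % p)

theorem dec_ne_of_neB {a b : ℕ} (h : neB n p a b = true) : dec n p a ≠ dec n p b := by
  intro heq
  unfold neB at h
  rw [List.any_eq_true] at h
  obtain ⟨m, hm, hne⟩ := h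
  rw [List.mem_range] at hm
  have hn : 0 < n := by
    rcases Nat.eq_zero_or_pos n with h | h
    · subst h; simp at hm
    · exact h
  have h2 : m / n < n := Nat.div_lt_of_lt_mul hm
  have h3 : m % n < n := Nat.mod_lt _ hn
  have h4 := congrFun (congrFun heq ⟨m / n, h2⟩) ⟨m % n, h3⟩
  unfold dec at h4
  simp only [Nat.div_add_mod] at h4
  rw [ZMod.natCast_eq_natCast_iff'] at h4
  simp only [bne_iff_ne, ne_eq] at hne
  exact hne h4

end Cfsg.Agent.Lib.Helper1.MatCode

namespace Cfsg.Agent.Lib.Helper1.MatCode

/-- the product of the word `w` in the group elements `G` -/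
def wordProd {Γ : Type*} [Group Γ] (G : List Γ) (w : List ℕ) : Γ := (w.map (fun i => G.getD i 1)).prod

theorem wordProd_nil {Γ : Type*} [Group Γ] (G : List Γ) : wordProd G [] = 1 := rfl

theorem wordProd_cons {Γ : Type*} [Group Γ] (G : List Γ) (i : ℕ) (w : List ℕ) :
    wordProd G (i :: w) = G.getD i 1 * wordProd G w := by
  unfold wordProd
  rw [List.map_cons, List.prod_cons]

theorem wordProd_append {Γ : Type*} [Group Γ] (G : List Γ) (w w' : List ℕ) :
    wordProd G (w ++ w') = wordProd G w * wordProd G w' := by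
  unfold wordProd
  rw [List.map_append, List.prod_append]

theorem wordProd_mem {Γ : Type*} [Group Γ] (G : List Γ) (K : Subgroup Γ) (hG : ∀ g ∈ G, g ∈ K)
    (w : List ℕ) : wordProd G w ∈ K := by
  unfold wordProd
  apply Subgroup.list_prod_mem
  intro g hg
  rw [List.mem_map] at hg
  obtain ⟨i, _, rfl⟩ := hg
  by_cases hi : i < G.length
  · rw [List.getD_eq_getElem _ _ hi]; exact hG _ (List.getElem_mem _)
  · rw [List.getD_eq_default _ _ (by omega)]; exact K.one_mem

section generic

variable {M : Type*} [Monoid M] (D : ℕ → M) (mu : ℕ → ℕ → ℕ) (C : ℕ → Prop)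

/-- powers on codes -/
def powN (c1 c : ℕ) : ℕ → ℕ
  | 0 => c1
  | k + 1 => mu (powN c1 c k) c

/-- product of a word in coded generators, with an accumulator -/
def evalA (gens : List ℕ) (c1 : ℕ) : ℕ → List ℕ → ℕ
  | acc, [] => acc
  | acc, i :: w => evalA gens c1 (mu acc (gens.getD i c1)) w

/-- product of a word in coded generators -/
def evalW (gens : List ℕ) (c1 : ℕ) (w : List ℕ) : ℕ := evalA mu gens c1 c1 w

variable (hmu : ∀ a b, C b → D (mu a b) = D a * D b) (hC : ∀ a b, C (mu a b))
include hmu

theorem dec_powN {c1 c : ℕ} (h1 : D c1 = 1) (hc : C c) (k : ℕ) :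
    D (powN mu c1 c k) = D c ^ k := by
  induction k with
  | zero => rw [pow_zero]; exact h1
  | succ k ih => rw [powN, hmu _ _ hc, ih, pow_succ]

theorem dec_evalA {Γ : Type*} [Group Γ] (φ : Γ →* M) {c1 : ℕ}
    (h1 : D c1 = 1) (hc1 : C c1)
    (G : List Γ) (gens : List ℕ) (hlen : G.length = gens.length)
    (hG : ∀ i, ∀ (h : i < G.length) (h' : i < gens.length), φ G[i] = D gens[i])
    (hcan : ∀ c ∈ gens, C c) (acc : ℕ) (w : List ℕ) :
    D (evalA mu gens c1 acc w) = D acc * φ (wordProd G w) := by
  induction w generalizing acc with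
  | nil => rw [evalA, wordProd_nil, map_one, mul_one]
  | cons i w ih =>
    rw [evalA, ih, wordProd_cons, map_mul, ← mul_assoc]
    congr 1
    by_cases hi : i < gens.length
    · have hi' : i < G.length := by omega
      rw [hmu _ _ (by rw [List.getD_eq_getElem _ _ hi]; exact hcan _ (List.getElem_mem _)),
        List.getD_eq_getElem _ _ hi, List.getD_eq_getElem _ _ hi', hG i hi' hi]
    · rw [List.getD_eq_default _ _ (by omega), List.getD_eq_default _ _ (by omega),
        hmu _ _ hc1, h1, map_one]

theorem dec_evalW {Γ : Type*} [Group Γ] (φ : Γ →* M) {c1 : ℕ}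
    (h1 : D c1 = 1) (hc1 : C c1)
    (G : List Γ) (gens : List ℕ) (hlen : G.length = gens.length)
    (hG : ∀ i, ∀ (h : i < G.length) (h' : i < gens.length), φ G[i] = D gens[i])
    (hcan : ∀ c ∈ gens, C c) (w : List ℕ) :
    φ (wordProd G w) = D (evalW mu gens c1 w) := by
  unfold evalW
  rw [dec_evalA D mu C hmu φ h1 hc1 G gens hlen hG hcan, h1, one_mul]

omit hmu
include hC

theorem canon_evalA {c1 : ℕ} (gens : List ℕ) (acc : ℕ) (hacc : C acc) (w : List ℕ) :
    C (evalA mu gens c1 acc w) := by
  induction w generalizing acc with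
  | nil => exact hacc
  | cons i w ih => rw [evalA]; exact ih _ (hC _ _)

theorem canon_evalW {c1 : ℕ} (hc1 : C c1) (gens : List ℕ) (w : List ℕ) :
    C (evalW mu gens c1 w) := canon_evalA mu C hC gens c1 hc1 w

theorem canon_powN {c1 c : ℕ} (hc1 : C c1) (k : ℕ) : C (powN mu c1 c k) := by
  cases k with
  | zero => exact hc1
  | succ k => rw [powN]; exact hC _ _

end generic

end Cfsg.Agent.Lib.Helper1.MatCode
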