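import Mathlib

set_option autoImplicit false

/-! Linear algebra over the field with two elements with rows coded as bit masks: a square
system of sparse equations with an explicit right inverse has only the zero solution. -/

namespace Cfsg.Agent.Lib.Helper1.StemLin

/-- XOR of the masks `Bm b` over the list `l` -/
def xorOf (Bm : ℕ → ℕ) (l : List ℕ) : ℕ := l.foldl (fun acc b => acc ^^^ Bm b) 0

/-- the value of a Boolean in `ZMod 2` -/
def b2z (b : Bool) : ZMod 2 := if b then 1 else 0

theorem b2z_xor (a b : Bool) : b2z (a ^^ b) = b2z a + b2z b := by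
  cases a <;> cases b <;> decide

theorem testBit_foldl_xor (Bm : ℕ → ℕ) (l : List ℕ) (acc j : ℕ) :
    b2z ((l.foldl (fun acc b => acc ^^^ Bm b) acc).testBit j) =
      b2z (acc.testBit j) + (l.map (fun b => b2z ((Bm b).testBit j))).sum := by
  induction l generalizing acc with
  | nil => simp
  | cons b l ih =>
    rw [List.foldl_cons, ih, Nat.testBit_xor, b2z_xor, List.map_cons, List.sum_cons, add_assoc]

theorem testBit_xorOf (Bm : ℕ → ℕ) (l : List ℕ) (j : ℕ) :
    b2z ((xorOf Bm l).testBit j) = (l.map (fun b => b2z ((Bm b).testBit j))).sum := by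
  unfold xorOf
  rw [testBit_foldl_xor]
  simp [b2z]

/-- sum over a list of indices as a sum over all indices with multiplicities -/
theorem sum_count {n : ℕ} (l : List ℕ) (hl : ∀ b ∈ l, b < n) (f : ℕ → ZMod 2) :
    (l.map f).sum = ∑ b : Fin n, ((l.count (b : ℕ) : ℕ) : ZMod 2) * f b := by
  induction l with
  | nil => simp
  | cons a l ih =>
    have ha : a < n := hl a (by simp)
    have hl' : ∀ b ∈ l, b < n := fun b hb => hl b (by simp [hb])
    rw [List.map_cons, List.sum_cons, ih hl']
    have : ∀ b : Fin n, (((a :: l).count (b : ℕ) : ℕ) : ZMod 2) * f b =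
        (if (b : ℕ) = a then f b else 0) + ((l.count (b : ℕ) : ℕ) : ZMod 2) * f b := by
      intro b
      rw [List.count_cons]
      by_cases h : (b : ℕ) = a
      · simp [h]; ring
      · have : ¬ a = (b : ℕ) := fun h' => h h'.symm
        simp [h, this]
    simp_rw [this]
    rw [Finset.sum_add_distrib]
    congr 1
    rw [Finset.sum_eq_single (⟨a, ha⟩ : Fin n)]
    · simp
    · intro b _ hb
      have : (b : ℕ) ≠ a := fun h => hb (Fin.ext h)
      simp [this]
    · intro h; exact absurd (Finset.mem_univ _) h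

/-- the main statement: if the supports `supp i` (`i < n`) of `n` equations in `n` unknowns
have the masks `Bm` as a right inverse, then every solution vanishes. -/
theorem eq_zero_of_rightInverse (n : ℕ) (supp : ℕ → List ℕ) (Bm : ℕ → ℕ)
    (hsupp : ∀ i < n, ∀ b ∈ supp i, b < n)
    (hchk : ∀ i < n, xorOf Bm (supp i) = 1 <<< i)
    (val : ℕ → ZMod 2) (hval : ∀ i < n, ((supp i).map val).sum = 0) :
    ∀ b < n, val b = 0 := by
  classical
  let C : Matrix (Fin n) (Fin n) (ZMod 2) := fun i b => (((supp i).count (b : ℕ) : ℕ) : ZMod 2)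
  let B : Matrix (Fin n) (Fin n) (ZMod 2) := fun b j => b2z ((Bm b).testBit j)
  have hCB : C * B = 1 := by
    ext i j
    rw [Matrix.mul_apply]
    have h1 := sum_count (n := n) (supp i) (hsupp i i.2) (fun b => b2z ((Bm b).testBit j))
    have h2 : ∑ b : Fin n, C i b * B b j =
        ∑ b : Fin n, (((supp i).count (b : ℕ) : ℕ) : ZMod 2) * b2z ((Bm (b : ℕ)).testBit j) := rfl
    rw [h2, ← h1, ← testBit_xorOf, hchk i i.2, Nat.one_shiftLeft, Nat.testBit_two_pow]
    rw [Matrix.one_apply]
    by_cases hij : i = j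
    · subst hij; simp [b2z]
    · have : ¬ (i : ℕ) = (j : ℕ) := fun h => hij (Fin.ext h)
      simp [b2z, hij, this]
  have hBC : B * C = 1 := mul_eq_one_comm.mp hCB
  let v : Fin n → ZMod 2 := fun b => val b
  have hCv : C.mulVec v = 0 := by
    ext i
    rw [Matrix.mulVec, dotProduct]
    have h1 := sum_count (n := n) (supp i) (hsupp i i.2) val
    have h2 : ∑ b : Fin n, C i b * v b =
        ∑ b : Fin n, (((supp i).count (b : ℕ) : ℕ) : ZMod 2) * val b := rfl
    rw [h2, ← h1, hval i i.2]
    rfl
  have hv : v = 0 := by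
    have : v = (B * C).mulVec v := by rw [hBC, Matrix.one_mulVec]
    rw [this, ← Matrix.mulVec_mulVec, hCv, Matrix.mulVec_zero]
  intro b hb
  have := congrFun hv ⟨b, hb⟩
  exact this

end Cfsg.Agent.Lib.Helper1.StemLin
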