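import Mathlib
import Cfsg.Agent.Lib.Helper1.MatCode3
import Cfsg.Agent.Lib.Helper1.StemLin

set_option autoImplicit false

/-! Signed actions: computational data and its checker. -/

namespace Cfsg.Agent.Lib.Helper1.StemSA

open Cfsg.Agent.Lib.Helper1.MatCode

/-- computational data: `k` generators acting on `m` points by the tables `pi`, a spanning tree
`par` of the Schreier graph rooted at the point `0`, the odd orders of the generators, further
relations `w₁ = w₂` between words, a list of equations and an inverse matrix -/
structure SAData where
  k : ℕ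
  m : ℕ
  pi : ℕ → ℕ → ℕ
  par : ℕ → ℕ × ℕ
  ords : List ℕ
  rels : List (List ℕ × List ℕ)
  specs : List (ℕ × ℕ)
  Bm : ℕ → ℕ

namespace SAData

variable (D : SAData)

/-- the action of a word on a point (the last letter acts first) -/
def actW (w : List ℕ) (j : ℕ) : ℕ := w.foldr (fun i j => D.pi i j) j

theorem actW_nil (j : ℕ) : D.actW [] j = j := rfl

theorem actW_cons (i : ℕ) (w : List ℕ) (j : ℕ) : D.actW (i :: w) j = D.pi i (D.actW w j) := rfl

/-- the edges of the Schreier graph traversed by a word starting at a point -/
def edgesW : List ℕ → ℕ → List ℕ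
  | [], _ => []
  | i :: w, j => (i * D.m + D.actW w j) :: edgesW w j

/-- the relation number `r`: the power relation of the generator `r` for `r < k`, and the
general relation number `r - k` otherwise -/
def relW (r : ℕ) : List ℕ × List ℕ :=
  if r < D.k then (List.replicate (D.ords.getD r 0) r, []) else D.rels.getD (r - D.k) ([], [])

/-- the number of unknowns -/
def n : ℕ := D.k * D.m + D.rels.length

/-- the unknowns occurring in an equation -/
def supp (spec : ℕ × ℕ) : List ℕ :=
  match spec.1 with
  | 0 => [(D.par spec.2).1 * D.m + (D.par spec.2).2]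
  | r + 1 => D.edgesW (D.relW r).1 spec.2 ++ D.edgesW (D.relW r).2 spec.2 ++
      (if r < D.k then [] else [D.k * D.m + (r - D.k)])

/-- structural checks on the tables -/
def chkStruct : Bool :=
  ((List.range D.k).all fun i => (List.range D.m).all fun j => decide (D.pi i j < D.m)) &&
  ((List.range D.m).all fun j => j == 0 ||
    (decide ((D.par j).1 < D.k) && decide ((D.par j).2 < j) &&
      (D.pi (D.par j).1 (D.par j).2 == j))) &&
  (D.ords.length == D.k) &&
  (D.rels.all fun w => (w.1.all fun i => decide (i < D.k)) && (w.2.all fun i => decide (i < D.k)))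

/-- the validity of one equation -/
def chkSpec (s : ℕ × ℕ) : Bool :=
  decide (s.2 < D.m) &&
  (match s.1 with
    | 0 => decide (0 < s.2)
    | r + 1 => decide (r < D.k + D.rels.length) &&
        (D.actW (D.relW r).1 s.2 == D.actW (D.relW r).2 s.2))

/-- the equations from the index `idx` on have the masks `Bm` as right inverse -/
def chkInv : List (ℕ × ℕ) → ℕ → Bool
  | [], _ => true
  | s :: ss, idx => (StemLin.xorOf D.Bm (D.supp s) == 1 <<< idx) && chkInv ss (idx + 1)

/-- the full check of the equations -/
def chkSpecs : Bool :=
  (D.specs.length == D.n) && D.specs.all D.chkSpec && D.chkInv D.specs 0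

theorem chkInv_sound (ss : List (ℕ × ℕ)) (idx : ℕ) (h : D.chkInv ss idx = true) (i : ℕ)
    (hi : i < ss.length) : StemLin.xorOf D.Bm (D.supp (ss.getD i (0, 0))) = 1 <<< (idx + i) := by
  induction ss generalizing idx i with
  | nil => simp at hi
  | cons s ss ih =>
    unfold chkInv at h
    rw [Bool.and_eq_true, beq_iff_eq] at h
    cases i with
    | zero => simpa using h.1
    | succ i =>
      have := ih (idx + 1) h.2 i (by simpa using hi)
      rw [List.getD_cons_succ]
      rw [this]
      congr 1
      omega

end SAData

end Cfsg.Agent.Lib.Helper1.StemSA
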