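import Mathlib
import Cfsg.Agent.Lib.Helper1.StemSA1

set_option autoImplicit false

/-! Signed actions: the group side. -/

namespace Cfsg.Agent.Lib.Helper1.StemSA

open Cfsg.Agent.Lib.Helper1.MatCode

/-- the hypotheses linking the data to a central extension `σ` with kernel `{1, z}` of a group
acting on a set containing the points `pt j`, split over the stabilizer of `pt 0` by `Kt` -/
structure SAHyp (D : SAData) {Γ G Y : Type*} [Group Γ] [Group G] [MulAction G Y] (σ : Γ →* G)
    (z : Γ) (Kt : Subgroup Γ) (pt : ℕ → Y) (X : List Γ) : Prop where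
  z_central : z ∈ Subgroup.center Γ
  z_sq : z * z = 1
  z_ker : σ z = 1
  ker : ∀ g, σ g = 1 → g = 1 ∨ g = z
  z_not : z ∉ Kt
  stab : ∀ g, σ g • pt 0 = pt 0 → g ∈ Kt ∨ z * g ∈ Kt
  pt_zero : ∀ j < D.m, pt j = pt 0 → j = 0
  pi_act : ∀ i < D.k, ∀ j < D.m, σ (X.getD i 1) • pt j = pt (D.pi i j)
  pow_one : ∀ i < D.k, (X.getD i 1) ^ (D.ords.getD i 0) = 1
  rel_ok : ∀ w ∈ D.rels, σ (wordProd X w.1) = σ (wordProd X w.2)
  gen : ∀ g : Γ, g ∈ Subgroup.closure {g | ∃ i < D.k, g = X.getD i 1}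

section

variable (D : SAData) {Γ G Y : Type*} [Group Γ] [Group G] [MulAction G Y] (σ : Γ →* G)
    (z : Γ) (Kt : Subgroup Γ) (pt : ℕ → Y) (X : List Γ)

/-- the lifts along the tree, with fuel -/
def tF : ℕ → ℕ → Γ
  | 0, _ => 1
  | f + 1, j => if j = 0 then 1 else X.getD (D.par j).1 1 * tF f (D.par j).2

/-- the lifts along the tree -/
def tt (j : ℕ) : Γ := tF D X j j

theorem tt_zero : tt D X 0 = 1 := rfl

variable (hS : D.chkStruct = true)
include hS

theorem pi_lt (i j : ℕ) (hi : i < D.k) (hj : j < D.m) : D.pi i j < D.m := by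
  unfold SAData.chkStruct at hS
  simp only [Bool.and_eq_true, List.all_eq_true, List.mem_range, decide_eq_true_eq] at hS
  exact hS.1.1.1 i hi j hj

theorem par_ok (j : ℕ) (h0 : 0 < j) (hj : j < D.m) :
    (D.par j).1 < D.k ∧ (D.par j).2 < j ∧ D.pi (D.par j).1 (D.par j).2 = j := by
  unfold SAData.chkStruct at hS
  simp only [Bool.and_eq_true, List.all_eq_true, List.mem_range, decide_eq_true_eq,
    Bool.or_eq_true, beq_iff_eq] at hS
  rcases hS.1.1.2 j hj with h | h
  · omega
  · exact ⟨h.1.1, h.1.2, h.2⟩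

theorem ords_len : D.ords.length = D.k := by
  unfold SAData.chkStruct at hS
  simp only [Bool.and_eq_true, beq_iff_eq] at hS
  exact hS.1.2

theorem rels_lt (w : List ℕ × List ℕ) (hw : w ∈ D.rels) :
    (∀ i ∈ w.1, i < D.k) ∧ (∀ i ∈ w.2, i < D.k) := by
  unfold SAData.chkStruct at hS
  simp only [Bool.and_eq_true, List.all_eq_true, decide_eq_true_eq] at hS
  exact hS.2 w hw

theorem tF_eq (f : ℕ) : ∀ j, j ≤ f → j < D.m → tF D X f j = tt D X j := by
  induction f using Nat.strong_induction_on with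
  | _ f ih =>
    intro j hjf hj
    cases f with
    | zero =>
      have : j = 0 := by omega
      subst this; rfl
    | succ f =>
      by_cases h0 : j = 0
      · subst h0; rfl
      · obtain ⟨_, h2, _⟩ := par_ok D hS j (by omega) hj
        have e1 : tF D X (f + 1) j = X.getD (D.par j).1 1 * tF D X f (D.par j).2 := by
          rw [tF, if_neg h0]
        rw [e1, ih f (by omega) _ (by omega) (by omega)]
        obtain ⟨j', rfl⟩ : ∃ j', j = j' + 1 := ⟨j - 1, by omega⟩
        have e2 : tt D X (j' + 1) = X.getD (D.par (j' + 1)).1 1 * tF D X j' (D.par (j' + 1)).2 := by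
          rw [tt, tF, if_neg h0]
        rw [e2, ih j' (by omega) _ (by omega) (by omega)]

theorem tt_succ (j : ℕ) (h0 : 0 < j) (hj : j < D.m) :
    tt D X j = X.getD (D.par j).1 1 * tt D X (D.par j).2 := by
  obtain ⟨_, h2, _⟩ := par_ok D hS j h0 hj
  obtain ⟨j', rfl⟩ : ∃ j', j = j' + 1 := ⟨j - 1, by omega⟩
  have e2 : tt D X (j' + 1) = X.getD (D.par (j' + 1)).1 1 * tF D X j' (D.par (j' + 1)).2 := by
    rw [tt, tF, if_neg (by omega)]
  rw [e2, tF_eq D X hS j' _ (by omega) (by omega)]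

end

end Cfsg.Agent.Lib.Helper1.StemSA
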