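import Mathlib
import Cfsg.Agent.Lib.Helper1.StemSA2

set_option autoImplicit false

/-! Signed actions: the class function and the word lemma. -/

namespace Cfsg.Agent.Lib.Helper1.StemSA

open Cfsg.Agent.Lib.Helper1.MatCode

section

variable (D : SAData) {Γ G Y : Type*} [Group Γ] [Group G] [MulAction G Y] (σ : Γ →* G)
    (z : Γ) (Kt : Subgroup Γ) (pt : ℕ → Y) (X : List Γ)

/-- the class of an element of `Kt ∪ z Kt` -/
noncomputable def cls (g : Γ) : ZMod 2 := by
  classical exact if g ∈ Kt then 0 else 1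

/-- membership in `Kt ∪ z Kt` -/
def InL (g : Γ) : Prop := g ∈ Kt ∨ z * g ∈ Kt

theorem cls_eq_zero_iff (g : Γ) : cls Kt g = 0 ↔ g ∈ Kt := by
  unfold cls
  by_cases h : g ∈ Kt
  · simp [h]
  · simp [h]

theorem cls_of_mem {g : Γ} (h : g ∈ Kt) : cls Kt g = 0 := (cls_eq_zero_iff Kt g).mpr h

theorem cls_of_not_mem {g : Γ} (h : g ∉ Kt) : cls Kt g = 1 := by
  unfold cls
  simp [h]

variable (hS : D.chkStruct = true) (H : SAHyp D σ z Kt pt X)
include H

theorem z_comm (g : Γ) : g * z = z * g := Subgroup.mem_center_iff.mp H.z_central g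

theorem cls_mul (g h : Γ) (hg : InL z Kt g) (hh : InL z Kt h) :
    InL z Kt (g * h) ∧ cls Kt (g * h) = cls Kt g + cls Kt h := by
  have hz := z_comm D σ z Kt pt X H
  by_cases h1 : g ∈ Kt
  · by_cases h2 : h ∈ Kt
    · have h3 : g * h ∈ Kt := Kt.mul_mem h1 h2
      exact ⟨Or.inl h3, by rw [cls_of_mem Kt h1, cls_of_mem Kt h2, cls_of_mem Kt h3, add_zero]⟩
    · have h2' : z * h ∈ Kt := hh.resolve_left h2
      have h3 : z * (g * h) ∈ Kt := by
        have e : z * (g * h) = g * (z * h) := by rw [← mul_assoc, ← hz g, mul_assoc]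
        rw [e]; exact Kt.mul_mem h1 h2'
      have h4 : g * h ∉ Kt := by
        intro h5
        apply h2
        have e : h = g⁻¹ * (g * h) := by group
        rw [e]; exact Kt.mul_mem (Kt.inv_mem h1) h5
      exact ⟨Or.inr h3, by rw [cls_of_mem Kt h1, cls_of_not_mem Kt h2, cls_of_not_mem Kt h4, zero_add]⟩
  · have h1' : z * g ∈ Kt := hg.resolve_left h1
    by_cases h2 : h ∈ Kt
    · have h3 : z * (g * h) ∈ Kt := by
        rw [← mul_assoc]; exact Kt.mul_mem h1' h2
      have h4 : g * h ∉ Kt := by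
        intro h5
        apply h1
        have e : g = (g * h) * h⁻¹ := by group
        rw [e]; exact Kt.mul_mem h5 (Kt.inv_mem h2)
      exact ⟨Or.inr h3, by rw [cls_of_not_mem Kt h1, cls_of_mem Kt h2, cls_of_not_mem Kt h4, add_zero]⟩
    · have h2' : z * h ∈ Kt := hh.resolve_left h2
      have h3 : g * h ∈ Kt := by
        have e : g * h = (z * g) * (z * h) := by
          rw [mul_assoc, ← mul_assoc g z h, hz g, mul_assoc z g h, ← mul_assoc z z, H.z_sq, one_mul]
        rw [e]; exact Kt.mul_mem h1' h2'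
      refine ⟨Or.inl h3, ?_⟩
      rw [cls_of_not_mem Kt h1, cls_of_not_mem Kt h2, cls_of_mem Kt h3]
      decide

theorem inL_one : InL z Kt (1 : Γ) := Or.inl Kt.one_mem

theorem inL_z : InL z Kt z := Or.inr (by rw [H.z_sq]; exact Kt.one_mem)

theorem cls_z : cls Kt z = 1 := cls_of_not_mem Kt H.z_not

include hS

/-- the tree lifts move the base point to the points -/
theorem sigma_tt (j : ℕ) (hj : j < D.m) : σ (tt D X j) • pt 0 = pt j := by
  induction j using Nat.strong_induction_on with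
  | _ j ih =>
    by_cases h0 : j = 0
    · subst h0; rw [tt_zero, map_one, one_smul]
    · obtain ⟨h1, h2, h3⟩ := par_ok D hS j (by omega) hj
      rw [tt_succ D X hS j (by omega) hj, map_mul, mul_smul, ih _ h2 (by omega),
        H.pi_act _ h1 _ (by omega), h3]

/-- elements moving `pt j` to `pt j'` give elements of `Kt ∪ z Kt` -/
theorem inL_of_act (g : Γ) (j j' : ℕ) (hj : j < D.m) (hj' : j' < D.m)
    (h : σ g • pt j = pt j') : InL z Kt ((tt D X j')⁻¹ * g * tt D X j) := by
  apply H.stab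
  rw [map_mul, map_mul, map_inv, mul_smul, mul_smul, sigma_tt D σ z Kt pt X hS H j hj, h,
    ← sigma_tt D σ z Kt pt X hS H j' hj', inv_smul_smul]

end

end Cfsg.Agent.Lib.Helper1.StemSA
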