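import Mathlib
import Cfsg.Agent.Lib.Helper1.StemSA3

set_option autoImplicit false

/-! Signed actions: the equations satisfied by the signs. -/

namespace Cfsg.Agent.Lib.Helper1.StemSA

open Cfsg.Agent.Lib.Helper1.MatCode

section

variable (D : SAData) {Γ G Y : Type*} [Group Γ] [Group G] [MulAction G Y] (σ : Γ →* G)
    (z : Γ) (Kt : Subgroup Γ) (pt : ℕ → Y) (X : List Γ)

/-- the sign of the generator `i` at the point `j` -/
noncomputable def lam (i j : ℕ) : ZMod 2 :=
  cls Kt ((tt D X (D.pi i j))⁻¹ * X.getD i 1 * tt D X j)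

/-- the sign of a relation -/
noncomputable def eta (r : ℕ) : ZMod 2 := by
  classical exact
    if wordProd X (D.rels.getD r ([], [])).1 = wordProd X (D.rels.getD r ([], [])).2 then 0 else 1

/-- the values of the unknowns -/
noncomputable def val (b : ℕ) : ZMod 2 :=
  if b < D.k * D.m then lam D Kt X (b / D.m) (b % D.m) else eta D X (b - D.k * D.m)

theorem val_edge (i j : ℕ) (hi : i < D.k) (hj : j < D.m) :
    val D Kt X (i * D.m + j) = lam D Kt X i j := by
  have h1 : i * D.m + j < D.k * D.m := by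
    calc i * D.m + j < i * D.m + D.m := by omega
      _ = (i + 1) * D.m := by ring
      _ ≤ D.k * D.m := Nat.mul_le_mul_right _ hi
  have hm : 0 < D.m := by omega
  unfold val
  rw [if_pos h1]
  have e1 : (i * D.m + j) / D.m = i := by
    rw [Nat.add_comm, Nat.add_mul_div_right _ _ hm, Nat.div_eq_of_lt hj, zero_add]
  have e2 : (i * D.m + j) % D.m = j := by
    rw [Nat.add_comm, Nat.add_mul_mod_self_right, Nat.mod_eq_of_lt hj]
  rw [e1, e2]

theorem val_eta (r : ℕ) : val D Kt X (D.k * D.m + r) = eta D X r := by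
  unfold val
  rw [if_neg (by omega), Nat.add_sub_cancel_left]

variable (hS : D.chkStruct = true) (H : SAHyp D σ z Kt pt X)
include hS H

/-- the word lemma -/
theorem word_lemma (w : List ℕ) (hw : ∀ i ∈ w, i < D.k) (j : ℕ) (hj : j < D.m) :
    D.actW w j < D.m ∧ σ (wordProd X w) • pt j = pt (D.actW w j) ∧
      InL z Kt ((tt D X (D.actW w j))⁻¹ * wordProd X w * tt D X j) ∧
      cls Kt ((tt D X (D.actW w j))⁻¹ * wordProd X w * tt D X j) =
        ((D.edgesW w j).map (val D Kt X)).sum := by
  induction w with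
  | nil =>
    refine ⟨hj, ?_, ?_, ?_⟩
    · rw [wordProd_nil, map_one, one_smul]; rfl
    · rw [SAData.actW_nil, wordProd_nil, mul_one, inv_mul_cancel]
      exact inL_one D σ z Kt pt X H
    · rw [SAData.actW_nil, wordProd_nil, mul_one, inv_mul_cancel, cls_of_mem Kt Kt.one_mem]
      rfl
  | cons i w ih =>
    have hi : i < D.k := hw i (by simp)
    obtain ⟨h1, h2, h3, h4⟩ := ih (fun i' hi' => hw i' (by simp [hi']))
    have h5 : D.pi i (D.actW w j) < D.m := pi_lt D hS i _ hi h1
    have hact : σ (X.getD i 1) • pt (D.actW w j) = pt (D.pi i (D.actW w j)) := H.pi_act i hi _ h1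
    have h6 := inL_of_act D σ z Kt pt X hS H (X.getD i 1) _ _ h1 h5 hact
    have e : (tt D X (D.actW (i :: w) j))⁻¹ * wordProd X (i :: w) * tt D X j =
        ((tt D X (D.pi i (D.actW w j)))⁻¹ * X.getD i 1 * tt D X (D.actW w j)) *
        ((tt D X (D.actW w j))⁻¹ * wordProd X w * tt D X j) := by
      rw [SAData.actW_cons, wordProd_cons]; group
    obtain ⟨h7, h8⟩ := cls_mul D σ z Kt pt X H _ _ h6 h3
    refine ⟨by rw [SAData.actW_cons]; exact h5, ?_, ?_, ?_⟩
    · rw [wordProd_cons, map_mul, mul_smul, h2, hact, SAData.actW_cons]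
    · rw [e]; exact h7
    · rw [e, h8, h4]
      show _ = (((i * D.m + D.actW w j) :: D.edgesW w j).map (val D Kt X)).sum
      rw [List.map_cons, List.sum_cons, val_edge D Kt X i _ hi h1]
      rfl

/-- the edges of a word are unknowns -/
theorem edgesW_lt (w : List ℕ) (hw : ∀ i ∈ w, i < D.k) (j : ℕ) (hj : j < D.m) :
    ∀ b ∈ D.edgesW w j, b < D.k * D.m := by
  induction w with
  | nil => intro b hb; simp [SAData.edgesW] at hb
  | cons i w ih =>
    intro b hb
    have hi : i < D.k := hw i (by simp)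
    have hw' : ∀ i' ∈ w, i' < D.k := fun i' hi' => hw i' (by simp [hi'])
    have h1 := (word_lemma D σ z Kt pt X hS H w hw' j hj).1
    simp only [SAData.edgesW, List.mem_cons] at hb
    rcases hb with rfl | hb
    · calc i * D.m + D.actW w j < i * D.m + D.m := by omega
        _ = (i + 1) * D.m := by ring
        _ ≤ D.k * D.m := Nat.mul_le_mul_right _ hi
    · exact ih hw' b hb

end

end Cfsg.Agent.Lib.Helper1.StemSA
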