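import Mathlib
import Cfsg.Agent.Lib.Helper1.StemSA4

set_option autoImplicit false

/-! Signed actions: the equations hold, and the conclusion. -/

namespace Cfsg.Agent.Lib.Helper1.StemSA

open Cfsg.Agent.Lib.Helper1.MatCode

theorem wordProd_replicate {Γ : Type*} [Group Γ] (X : List Γ) (r o : ℕ) :
    wordProd X (List.replicate o r) = (X.getD r 1) ^ o := by
  induction o with
  | zero => simp [wordProd_nil]
  | succ o ih => rw [List.replicate_succ, wordProd_cons, ih, pow_succ']

section

variable (D : SAData) {Γ G Y : Type*} [Group Γ] [Group G] [MulAction G Y] (σ : Γ →* G)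
    (z : Γ) (Kt : Subgroup Γ) (pt : ℕ → Y) (X : List Γ)

variable (hS : D.chkStruct = true) (H : SAHyp D σ z Kt pt X)
include hS H

theorem z_ne_one : z ≠ 1 := by
  intro h
  apply H.z_not
  rw [h]; exact Kt.one_mem

/-- every valid equation holds for the signs, and its unknowns are in range -/
theorem spec_ok (s : ℕ × ℕ) (hs : D.chkSpec s = true) :
    (∀ b ∈ D.supp s, b < D.n) ∧ ((D.supp s).map (val D Kt X)).sum = 0 := by
  obtain ⟨s1, j⟩ := s
  unfold SAData.chkSpec at hs
  rw [Bool.and_eq_true, decide_eq_true_eq] at hs
  obtain ⟨hj, hs2⟩ := hs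
  have hj : j < D.m := hj
  have hkm : D.k * D.m ≤ D.n := by unfold SAData.n; omega
  cases s1 with
  | zero =>
    have h0 : 0 < j := by simpa using hs2
    obtain ⟨h1, h2, h3⟩ := par_ok D hS j h0 hj
    have hsupp : D.supp (0, j) = [(D.par j).1 * D.m + (D.par j).2] := rfl
    rw [hsupp]
    constructor
    · intro b hb
      rw [List.mem_singleton] at hb
      subst hb
      calc (D.par j).1 * D.m + (D.par j).2 < (D.par j).1 * D.m + D.m := by omega
        _ = ((D.par j).1 + 1) * D.m := by ring
        _ ≤ D.k * D.m := Nat.mul_le_mul_right _ h1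
        _ ≤ D.n := hkm
    · rw [List.map_singleton, List.sum_singleton, val_edge D Kt X _ _ h1 (by omega)]
      unfold lam
      rw [h3, tt_succ D X hS j h0 hj]
      have e : (X.getD (D.par j).1 1 * tt D X (D.par j).2)⁻¹ * X.getD (D.par j).1 1 *
          tt D X (D.par j).2 = 1 := by group
      rw [e]
      exact cls_of_mem Kt Kt.one_mem
  | succ r =>
    have hs2' : r < D.k + D.rels.length ∧
        D.actW (D.relW r).1 j = D.actW (D.relW r).2 j := by
      simpa using hs2
    obtain ⟨hr, hact⟩ := hs2'
    have hsupp : D.supp (r + 1, j) = D.edgesW (D.relW r).1 j ++ D.edgesW (D.relW r).2 j ++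
        (if r < D.k then [] else [D.k * D.m + (r - D.k)]) := rfl
    rw [hsupp]
    by_cases hrk : r < D.k
    · -- a power relation
      have hrel : D.relW r = (List.replicate (D.ords.getD r 0) r, []) := by
        unfold SAData.relW; rw [if_pos hrk]
      rw [hrel] at hact ⊢
      rw [if_pos hrk]
      have hw : ∀ i ∈ List.replicate (D.ords.getD r 0) r, i < D.k := by
        intro i hi
        rw [List.mem_replicate] at hi
        rw [hi.2]; exact hrk
      have hact' : D.actW (List.replicate (D.ords.getD r 0) r) j = j := hact
      obtain ⟨_, _, _, h4⟩ := word_lemma D σ z Kt pt X hS H _ hw j hj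
      constructor
      · intro b hb
        simp only [SAData.edgesW, List.append_nil, List.mem_append, List.not_mem_nil, or_false] at hb
        exact lt_of_lt_of_le (edgesW_lt D σ z Kt pt X hS H _ hw j hj b hb) hkm
      · simp only [SAData.edgesW, List.append_nil]
        rw [← h4, hact', wordProd_replicate, H.pow_one r hrk, mul_one, inv_mul_cancel]
        exact cls_of_mem Kt Kt.one_mem
    · -- a general relation
      have hr' : r - D.k < D.rels.length := by omega
      have hrel : D.relW r = D.rels.getD (r - D.k) ([], []) := by
        unfold SAData.relW; rw [if_neg hrk]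
      have hmem : D.rels.getD (r - D.k) ([], []) ∈ D.rels := by
        rw [List.getD_eq_getElem _ _ hr']; exact List.getElem_mem _
      rw [if_neg hrk]
      rw [hrel] at hact ⊢
      set w := D.rels.getD (r - D.k) ([], []) with hwdef
      obtain ⟨hw1, hw2⟩ := rels_lt D hS w hmem
      obtain ⟨a1, _, a3, a4⟩ := word_lemma D σ z Kt pt X hS H w.1 hw1 j hj
      obtain ⟨_, _, b3, b4⟩ := word_lemma D σ z Kt pt X hS H w.2 hw2 j hj
      constructor
      · intro b hb
        simp only [List.mem_append, List.mem_singleton] at hb
        rcases hb with (hb | hb) | hb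
        · exact lt_of_lt_of_le (edgesW_lt D σ z Kt pt X hS H _ hw1 j hj b hb) hkm
        · exact lt_of_lt_of_le (edgesW_lt D σ z Kt pt X hS H _ hw2 j hj b hb) hkm
        · rw [hb]; unfold SAData.n; omega
      · rw [List.map_append, List.map_append, List.sum_append, List.sum_append, ← a4, ← b4,
          List.map_singleton, List.sum_singleton, val_eta]
        rw [← hact] at b3 ⊢
        have hσ := H.rel_ok w hmem
        have hg : σ (wordProd X w.1 * (wordProd X w.2)⁻¹) = 1 := by
          rw [map_mul, map_inv, hσ, mul_inv_cancel]
        rcases H.ker _ hg with h1 | h1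
        · have heq : wordProd X w.1 = wordProd X w.2 := mul_inv_eq_one.mp h1
          have he : eta D X (r - D.k) = 0 := by
            unfold eta; rw [← hwdef, if_pos heq]
          rw [he, heq, add_zero]
          exact CharTwo.add_self_eq_zero _
        · have heq : wordProd X w.1 = z * wordProd X w.2 := by
            rw [← h1]; group
          have hne : wordProd X w.1 ≠ wordProd X w.2 := by
            intro h2
            rw [h2] at heq
            have : z = 1 := by
              have := mul_right_cancel (b := wordProd X w.2) (a := 1) (c := z)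
                (by rw [one_mul]; exact heq)
              exact this.symm
            exact z_ne_one D σ z Kt pt X hS H this
          have he : eta D X (r - D.k) = 1 := by
            unfold eta; rw [← hwdef, if_neg hne]
          have hz := z_comm D σ z Kt pt X H
          have e : (tt D X (D.actW w.1 j))⁻¹ * wordProd X w.1 * tt D X j =
              z * ((tt D X (D.actW w.1 j))⁻¹ * wordProd X w.2 * tt D X j) := by
            rw [heq, ← mul_assoc, ← mul_assoc, ← mul_assoc, ← hz (tt D X (D.actW w.1 j))⁻¹]
          obtain ⟨_, c2⟩ := cls_mul D σ z Kt pt X H _ _ (inL_z D σ z Kt pt X H) b3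
          rw [e, c2, cls_z D σ z Kt pt X H, he]
          have : ∀ c : ZMod 2, 1 + c + c + 1 = 0 := by decide
          exact this _

end

end Cfsg.Agent.Lib.Helper1.StemSA
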