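import Mathlib
import Cfsg.Agent.Lib.Helper1.StemSA5

set_option autoImplicit false

/-! Signed actions: the conclusion. -/

namespace Cfsg.Agent.Lib.Helper1.StemSA

open Cfsg.Agent.Lib.Helper1.MatCode

section

variable (D : SAData) {Γ G Y : Type*} [Group Γ] [Group G] [MulAction G Y] (σ : Γ →* G)
    (z : Γ) (Kt : Subgroup Γ) (pt : ℕ → Y) (X : List Γ)

variable (hS : D.chkStruct = true) (H : SAHyp D σ z Kt pt X)
include hS H

/-- all signs vanish -/
theorem lam_eq_zero (hC : D.chkSpecs = true) (i j : ℕ) (hi : i < D.k) (hj : j < D.m) :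
    lam D Kt X i j = 0 := by
  unfold SAData.chkSpecs at hC
  rw [Bool.and_eq_true, Bool.and_eq_true, beq_iff_eq, List.all_eq_true] at hC
  obtain ⟨⟨hlen, hall⟩, hinv⟩ := hC
  have hspec : ∀ idx < D.n, D.chkSpec (D.specs.getD idx (0, 0)) = true := by
    intro idx hidx
    rw [← hlen] at hidx
    rw [List.getD_eq_getElem _ _ hidx]
    exact hall _ (List.getElem_mem _)
  have key := StemLin.eq_zero_of_rightInverse D.n (fun idx => D.supp (D.specs.getD idx (0, 0))) D.Bm
    (fun idx hidx => (spec_ok D σ z Kt pt X hS H _ (hspec idx hidx)).1)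
    (fun idx hidx => by
      have := D.chkInv_sound D.specs 0 hinv idx (by rw [hlen]; exact hidx)
      rwa [zero_add] at this)
    (val D Kt X)
    (fun idx hidx => (spec_ok D σ z Kt pt X hS H _ (hspec idx hidx)).2)
  have hb : i * D.m + j < D.n := by
    have : i * D.m + j < D.k * D.m := by
      calc i * D.m + j < i * D.m + D.m := by omega
        _ = (i + 1) * D.m := by ring
        _ ≤ D.k * D.m := Nat.mul_le_mul_right _ hi
    unfold SAData.n; omega
  have := key _ hb
  rwa [val_edge D Kt X i j hi hj] at this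

/-- the contradiction -/
theorem false_of_check [Finite Γ] (hC : D.chkSpecs = true) (hm : 0 < D.m) : False := by
  have hlam := lam_eq_zero D σ z Kt pt X hS H hC
  -- the subgroup of the elements respecting the positive points
  let S : Subgroup Γ :=
    { carrier := {g | ∀ j < D.m, ∃ j' < D.m, σ g • pt j = pt j' ∧
        (tt D X j')⁻¹ * g * tt D X j ∈ Kt}
      one_mem' := by
        intro j hj
        refine ⟨j, hj, by rw [map_one, one_smul], ?_⟩
        rw [mul_one, inv_mul_cancel]; exact Kt.one_mem
      mul_mem' := by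
        intro g h hg hh j hj
        obtain ⟨j', hj', h1, h2⟩ := hh j hj
        obtain ⟨j'', hj'', h3, h4⟩ := hg j' hj'
        refine ⟨j'', hj'', by rw [map_mul, mul_smul, h1, h3], ?_⟩
        have e : (tt D X j'')⁻¹ * (g * h) * tt D X j =
            ((tt D X j'')⁻¹ * g * tt D X j') * ((tt D X j')⁻¹ * h * tt D X j) := by group
        rw [e]; exact Kt.mul_mem h4 h2
      inv_mem' := by
        intro g hg
        -- the inverse is a power
        have hpow : ∀ n : ℕ, ∀ j < D.m, ∃ j' < D.m, σ (g ^ n) • pt j = pt j' ∧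
            (tt D X j')⁻¹ * g ^ n * tt D X j ∈ Kt := by
          intro n
          induction n with
          | zero =>
            intro j hj
            refine ⟨j, hj, by rw [pow_zero, map_one, one_smul], ?_⟩
            rw [pow_zero, mul_one, inv_mul_cancel]; exact Kt.one_mem
          | succ n ih =>
            intro j hj
            obtain ⟨j', hj', h1, h2⟩ := ih j hj
            obtain ⟨j'', hj'', h3, h4⟩ := hg j' hj'
            refine ⟨j'', hj'', by rw [pow_succ', map_mul, mul_smul, h1, h3], ?_⟩
            have e : (tt D X j'')⁻¹ * g ^ (n + 1) * tt D X j =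
                ((tt D X j'')⁻¹ * g * tt D X j') * ((tt D X j')⁻¹ * g ^ n * tt D X j) := by
              rw [pow_succ']; group
            rw [e]; exact Kt.mul_mem h4 h2
        have hinv : g⁻¹ = g ^ (orderOf g - 1) := by
          apply inv_eq_of_mul_eq_one_right
          rw [← pow_succ', Nat.sub_add_cancel (orderOf_pos g), pow_orderOf_eq_one]
        show ∀ j < D.m, _
        rw [hinv]
        exact hpow _ }
  have hgen : ∀ i < D.k, X.getD i 1 ∈ S := by
    intro i hi j hj
    refine ⟨D.pi i j, pi_lt D hS i j hi hj, H.pi_act i hi j hj, ?_⟩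
    exact (cls_eq_zero_iff Kt _).mp (hlam i j hi hj)
  have htop : ∀ g : Γ, g ∈ S := by
    intro g
    have h1 : Subgroup.closure {g | ∃ i < D.k, g = X.getD i 1} ≤ S := by
      rw [Subgroup.closure_le]
      rintro g ⟨i, hi, rfl⟩
      exact hgen i hi
    exact h1 (H.gen g)
  obtain ⟨j', hj', h1, h2⟩ := htop z 0 hm
  rw [H.z_ker, one_smul] at h1
  have h0 : j' = 0 := H.pt_zero j' hj' h1.symm
  rw [h0, tt_zero, inv_one, one_mul, mul_one] at h2
  exact H.z_not h2

end

end Cfsg.Agent.Lib.Helper1.StemSA
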