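import Mathlib
import Cfsg.Agent.Lib.Helper1.StemSA6
import Cfsg.Agent.Lib.Helper1.Stem10

set_option autoImplicit false

/-! Signed actions: no stem extension with kernel of order two. -/

namespace Cfsg.Agent.Lib.Helper1.StemSA

open Cfsg.Agent.Lib.Helper1.MatCode Cfsg.Agent.Lib.Helper1.Stem

universe u v

theorem sigma_wordProd {Γ Δ : Type*} [Group Γ] [Group Δ] (f : Γ →* Δ) (X : List Γ) (gs : List Δ)
    (k : ℕ) (h : ∀ i < k, f (X.getD i 1) = gs.getD i 1) (w : List ℕ) (hw : ∀ i ∈ w, i < k) :
    f (wordProd X w) = wordProd gs w := by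
  induction w with
  | nil => rw [wordProd_nil, wordProd_nil, map_one]
  | cons i w ih =>
    rw [wordProd_cons, wordProd_cons, map_mul, ih (fun i' hi' => hw i' (by simp [hi'])),
      h i (hw i (by simp))]

theorem no_stem_two (D : SAData) (hS : D.chkStruct = true) (hC : D.chkSpecs = true) (hm : 0 < D.m)
    {G : Type v} {Y : Type*} [Group G] [MulAction G Y] (pt : ℕ → Y) (gs : List G)
    (hgen : Subgroup.closure {g | ∃ i < D.k, g = gs.getD i 1} = ⊤)
    (pt_zero : ∀ j < D.m, pt j = pt 0 → j = 0)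
    (pi_act : ∀ i < D.k, ∀ j < D.m, gs.getD i 1 • pt j = pt (D.pi i j))
    (hodd : ∀ i < D.k, Odd (D.ords.getD i 0) ∧ (gs.getD i 1) ^ (D.ords.getD i 0) = 1)
    (hrel : ∀ w ∈ D.rels, wordProd gs w.1 = wordProd gs w.2)
    (hK : commutator (MulAction.stabilizer G (pt 0)) = ⊤)
    (hT : TrivStems.{u} (MulAction.stabilizer G (pt 0)))
    (Γ : Type u) [Group Γ] [Finite Γ] (σ : Γ →* G) (hσ : Cfsg.IsStemExtension σ)
    (hc : Nat.card σ.ker = 2) : False := by
  obtain ⟨z, hzc, hz2, hz1, hzk, hker⟩ := exists_ker_eq_pair σ hσ hc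
  obtain ⟨hs, hcen, hcomm⟩ := hσ
  have hzcomm : ∀ g : Γ, g * z = z * g := Subgroup.mem_center_iff.mp hzc
  set K := MulAction.stabilizer G (pt 0) with hKdef
  set Kt := liftSub σ K with hKt
  have hznot : z ∉ Kt := by
    intro h
    exact hz1 (liftSub_inf_ker σ hs hcen K hK hT z h hzk)
  -- the lifts
  have hlift : ∀ i : ℕ, ∃ x : Γ, σ x = gs.getD i 1 ∧ (i < D.k → x ^ (D.ords.getD i 0) = 1) := by
    intro i
    obtain ⟨a, ha⟩ := hs (gs.getD i 1)
    by_cases hi : i < D.k
    · obtain ⟨⟨c, hc⟩, hpow⟩ := hodd i hi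
      by_cases h1 : a ^ (D.ords.getD i 0) = 1
      · exact ⟨a, ha, fun _ => h1⟩
      · refine ⟨a * z, by rw [map_mul, ha, hzk, mul_one], fun _ => ?_⟩
        have h2 : a ^ (D.ords.getD i 0) = z := by
          have : σ (a ^ (D.ords.getD i 0)) = 1 := by rw [map_pow, ha, hpow]
          exact (hker _ this).resolve_left h1
        rw [(show Commute a z from hzcomm a).mul_pow, h2, ← pow_succ', hc]
        have : 2 * c + 1 + 1 = 2 * (c + 1) := by ring
        rw [this, pow_mul, pow_two, hz2, one_pow]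
    · exact ⟨a, ha, fun h => absurd h hi⟩
  choose xf hxf using hlift
  let X : List Γ := (List.range D.k).map xf
  have hX : ∀ i < D.k, X.getD i 1 = xf i := by
    intro i hi
    have : i < X.length := by simp [X, hi]
    rw [List.getD_eq_getElem _ _ this]
    simp [X]
  have hσX : ∀ i < D.k, σ (X.getD i 1) = gs.getD i 1 := by
    intro i hi
    rw [hX i hi]; exact (hxf i).1
  have H : SAHyp D σ z Kt pt X :=
    { z_central := hzc
      z_sq := hz2
      z_ker := hzk
      ker := hker
      z_not := hznot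
      stab := by
        intro g hg
        have hgK : σ g ∈ K := MulAction.mem_stabilizer_iff.mpr hg
        obtain ⟨c, hck, hgc⟩ := exists_mul_mem_liftSub σ hs K hK g hgK
        rcases hker c (MonoidHom.mem_ker.mp hck) with rfl | rfl
        · left; rwa [mul_one] at hgc
        · right; rwa [← hzcomm g]
      pt_zero := pt_zero
      pi_act := by
        intro i hi j hj
        rw [hσX i hi]; exact pi_act i hi j hj
      pow_one := by
        intro i hi
        rw [hX i hi]; exact (hxf i).2 hi
      rel_ok := by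
        intro w hw
        obtain ⟨hw1, hw2⟩ := rels_lt D hS w hw
        rw [sigma_wordProd σ X gs D.k hσX w.1 hw1, sigma_wordProd σ X gs D.k hσX w.2 hw2]
        exact hrel w hw
      gen := by
        intro g
        have h1 : Subgroup.closure {g | ∃ i < D.k, g = X.getD i 1} = ⊤ := by
          apply closure_eq_top_of_stem σ ⟨hs, hcen, hcomm⟩
          rw [eq_top_iff, ← hgen]
          apply Subgroup.closure_mono
          rintro _ ⟨i, hi, rfl⟩
          exact ⟨X.getD i 1, ⟨i, hi, rfl⟩, hσX i hi⟩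
        rw [h1]; exact Subgroup.mem_top g }
  exact false_of_check D σ z Kt pt X hS H hC hm

end Cfsg.Agent.Lib.Helper1.StemSA
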