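import Mathlib

set_option autoImplicit false

/-! Integer combinations of signed sums over lists of unknowns with values in a commutative group. -/

namespace Cfsg.Agent.Lib.Helper1.StemZLin

open Finset

variable {M : Type*} [AddCommGroup M]

/-- the signed sum of the values over two lists of unknowns -/
def sgnSum (v : ℕ → M) (pos neg : List ℕ) : M := (pos.map v).sum - (neg.map v).sum

/-- the integer coefficient of an unknown -/
def coef (pos neg : List ℕ) (c : ℕ) : ℤ := (pos.count c : ℤ) - (neg.count c : ℤ)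

theorem sum_map_eq (n : ℕ) (v : ℕ → M) (l : List ℕ) (hl : ∀ b ∈ l, b < n) :
    (l.map v).sum = ∑ c ∈ range n, (l.count c : ℤ) • v c := by
  induction l with
  | nil => simp
  | cons b l ih =>
    have hb : b < n := hl b (by simp)
    rw [List.map_cons, List.sum_cons, ih (fun b' hb' => hl b' (by simp [hb']))]
    have e : ∀ c ∈ range n, ((b :: l).count c : ℤ) • v c =
        (l.count c : ℤ) • v c + (if b = c then v c else 0) := by
      intro c _
      rw [List.count_cons]
      by_cases hbc : b = c
      · subst hbc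
        simp [add_smul]
      · have : (b == c) = false := by simpa using hbc
        simp [this, hbc]
    rw [sum_congr rfl e, sum_add_distrib, sum_ite_eq (range n) b v, if_pos (mem_range.mpr hb), add_comm]

theorem sgnSum_eq (n : ℕ) (v : ℕ → M) (pos neg : List ℕ) (hp : ∀ b ∈ pos, b < n)
    (hn : ∀ b ∈ neg, b < n) : sgnSum v pos neg = ∑ c ∈ range n, coef pos neg c • v c := by
  unfold sgnSum coef
  rw [sum_map_eq n v pos hp, sum_map_eq n v neg hn, ← sum_sub_distrib]
  apply sum_congr rfl
  intro c _
  rw [sub_smul]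

/-- an integer combination of vanishing signed sums vanishes -/
theorem combo (n N : ℕ) (pos neg : ℕ → List ℕ) (hp : ∀ s < N, ∀ b ∈ pos s, b < n)
    (hn : ∀ s < N, ∀ b ∈ neg s, b < n) (v : ℕ → M)
    (hE : ∀ s < N, sgnSum v (pos s) (neg s) = 0) (y : ℕ → ℤ) :
    ∑ c ∈ range n, (∑ s ∈ range N, y s * coef (pos s) (neg s) c) • v c = 0 := by
  have h1 : ∀ c ∈ range n, (∑ s ∈ range N, y s * coef (pos s) (neg s) c) • v c =
      ∑ s ∈ range N, y s • (coef (pos s) (neg s) c • v c) := by
    intro c _
    rw [sum_smul]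
    apply sum_congr rfl
    intro s _
    rw [mul_smul]
  rw [sum_congr rfl h1, sum_comm]
  apply sum_eq_zero
  intro s hs
  rw [← smul_sum, ← sgnSum_eq n v (pos s) (neg s) (hp s (mem_range.mp hs)) (hn s (mem_range.mp hs)),
    hE s (mem_range.mp hs), smul_zero]

/-- the conclusion for a combination with the coefficients `d` at `b` and `-e` at `b₀` -/
theorem combo_target (n N : ℕ) (pos neg : ℕ → List ℕ) (hp : ∀ s < N, ∀ b ∈ pos s, b < n)
    (hn : ∀ s < N, ∀ b ∈ neg s, b < n) (v : ℕ → M)
    (hE : ∀ s < N, sgnSum v (pos s) (neg s) = 0) (y : ℕ → ℤ) (b b0 : ℕ) (hb : b < n) (hb0 : b0 < n)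
    (d e : ℤ)
    (hy : ∀ c < n, ∑ s ∈ range N, y s * coef (pos s) (neg s) c =
      (if c = b then d else 0) - (if c = b0 then e else 0)) :
    d • v b = e • v b0 := by
  have h := combo n N pos neg hp hn v hE y
  have h1 : ∀ c ∈ range n, (∑ s ∈ range N, y s * coef (pos s) (neg s) c) • v c =
      (if c = b then d • v c else 0) - (if c = b0 then e • v c else 0) := by
    intro c hc
    rw [hy c (mem_range.mp hc), sub_smul]
    by_cases h1 : c = b <;> by_cases h2 : c = b0 <;> simp [h1, h2]
  rw [sum_congr rfl h1, sum_sub_distrib, sum_ite_eq' (range n) b (fun c => d • v c),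
    sum_ite_eq' (range n) b0 (fun c => e • v c), if_pos (mem_range.mpr hb),
    if_pos (mem_range.mpr hb0), sub_eq_zero] at h
  exact h

/-- in a group of exponent a power of two, odd multiples are injective -/
theorem eq_zero_of_odd_smul (a : ℕ) (h2 : ∀ x : M, (2 ^ a : ℤ) • x = 0) (d : ℤ) (hd : Odd d) (x : M)
    (h : d • x = 0) : x = 0 := by
  have hc : IsCoprime d ((2 : ℤ) ^ a) := by
    apply IsCoprime.pow_right
    rw [Int.isCoprime_iff_gcd_eq_one]
    obtain ⟨t, rfl⟩ := hd
    have : Int.gcd (2 * t + 1) 2 = Int.gcd 1 2 := by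
      rw [Int.gcd_comm, Int.gcd_comm 1 2]
      have := Int.gcd_add_mul_right_right 2 1 t
      rw [add_comm, mul_comm] at this
      exact this
    rw [this]; rfl
  obtain ⟨u, w, huw⟩ := hc
  have : x = (u * d + w * 2 ^ a) • x := by rw [huw, one_smul]
  rw [this, add_smul, mul_smul, mul_smul, h, h2, smul_zero, smul_zero, add_zero]

/-- in a group of exponent a power of two, a relation with an odd coefficient gives membership
in the cyclic subgroup -/
theorem mem_zmultiples_of_odd_smul (a : ℕ) (h2 : ∀ x : M, (2 ^ a : ℤ) • x = 0) (d e : ℤ) (hd : Odd d)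
    (x y : M) (h : d • x = e • y) : x ∈ AddSubgroup.zmultiples y := by
  have hc : IsCoprime d ((2 : ℤ) ^ a) := by
    apply IsCoprime.pow_right
    rw [Int.isCoprime_iff_gcd_eq_one]
    obtain ⟨t, rfl⟩ := hd
    have : Int.gcd (2 * t + 1) 2 = Int.gcd 1 2 := by
      rw [Int.gcd_comm, Int.gcd_comm 1 2]
      have := Int.gcd_add_mul_right_right 2 1 t
      rw [add_comm, mul_comm] at this
      exact this
    rw [this]; rfl
  obtain ⟨u, w, huw⟩ := hc
  have : x = (u * d + w * 2 ^ a) • x := by rw [huw, one_smul]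
  rw [this, add_smul, mul_smul, mul_smul, h, h2, smul_zero, add_zero, ← mul_smul]
  exact AddSubgroup.zsmul_mem_zmultiples y (u * e)

end Cfsg.Agent.Lib.Helper1.StemZLin
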