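import Mathlib
import Cfsg.Agent.Lib.Helper1.StemSA2
import Cfsg.Agent.Lib.Helper1.StemZLin

set_option autoImplicit false

/-! Labelled actions with labels in a commutative group: the integer certificate and its checker. -/

namespace Cfsg.Agent.Lib.Helper1.StemZA

open Cfsg.Agent.Lib.Helper1.MatCode Cfsg.Agent.Lib.Helper1.StemSA Cfsg.Agent.Lib.Helper1.StemZLin
open Finset

/-- the certificate: the equations, their dense integer rows, the combinations `Y`, the
distinguished unknown `b0`, the odd multipliers `dd` and the coefficients `ee` -/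
structure ZACert where
  eqs : List (ℕ × ℕ)
  R : List (List ℤ)
  Y : List (List ℤ)
  b0 : ℕ
  dd : List ℤ
  ee : List ℤ

variable (D : SAData) (C : ZACert)

/-- the unknowns occurring positively in an equation -/
def posL (s : ℕ × ℕ) : List ℕ :=
  match s.1 with
  | 0 => [(D.par s.2).1 * D.m + (D.par s.2).2]
  | r + 1 => D.edgesW (D.relW r).1 s.2

/-- the unknowns occurring negatively in an equation -/
def negL (s : ℕ × ℕ) : List ℕ :=
  match s.1 with
  | 0 => []
  | r + 1 => D.edgesW (D.relW r).2 s.2 ++ (if r < D.k then [] else [D.k * D.m + (r - D.k)])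

/-- the entry of the dense rows -/
def rEntry (s c : ℕ) : ℤ := (C.R.getD s []).getD c 0

/-- the combination of the dense rows with the coefficients `y` -/
def comb (y : List ℤ) (c : ℕ) : ℤ :=
  ((List.range C.eqs.length).map fun s => y.getD s 0 * rEntry C s c).sum

/-- the check of the certificate -/
def chkCert : Bool :=
  C.eqs.all D.chkSpec &&
  (C.eqs.all fun s => ((posL D s).all fun b => decide (b < D.n)) &&
    ((negL D s).all fun b => decide (b < D.n))) &&
  ((List.range C.eqs.length).all fun s => (List.range D.n).all fun c =>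
    rEntry C s c == coef (posL D (C.eqs.getD s (0, 0))) (negL D (C.eqs.getD s (0, 0))) c) &&
  decide (C.b0 < D.n) &&
  ((List.range (D.n + 1)).all fun b => C.dd.getD b 0 % 2 == 1) &&
  ((List.range D.n).all fun b => (List.range D.n).all fun c =>
    comb C (C.Y.getD b []) c ==
      (if c = b then C.dd.getD b 0 else 0) - (if c = C.b0 then C.ee.getD b 0 else 0)) &&
  ((List.range D.n).all fun c =>
    comb C (C.Y.getD D.n []) c == (if c = C.b0 then 2 * C.dd.getD D.n 0 else 0) -
      (if c = C.b0 then 0 else 0))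

theorem sum_list_range {M : Type*} [AddCommMonoid M] (N : ℕ) (f : ℕ → M) :
    ((List.range N).map f).sum = ∑ s ∈ range N, f s := by
  induction N with
  | zero => simp
  | succ N ih => rw [List.range_succ, List.map_append, List.sum_append, ih, sum_range_succ]; simp

section sound

variable {M : Type*} [AddCommGroup M] (v : ℕ → M) (hC : chkCert D C = true)
  (hE : ∀ s ∈ C.eqs, sgnSum v (posL D s) (negL D s) = 0)
include hC hE

omit hE in
theorem cert_facts :
    (∀ s ∈ C.eqs, D.chkSpec s = true) ∧ C.b0 < D.n ∧ (∀ b < D.n + 1, Odd (C.dd.getD b 0)) := by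
  unfold chkCert at hC
  simp only [Bool.and_eq_true, List.all_eq_true, decide_eq_true_eq, List.mem_range, beq_iff_eq] at hC
  obtain ⟨⟨⟨⟨⟨⟨h1, _⟩, _⟩, h4⟩, h5⟩, _⟩, _⟩ := hC
  refine ⟨h1, h4, ?_⟩
  intro b hb
  rw [Int.odd_iff]
  exact h5 b hb

theorem cert_sound (b : ℕ) (hb : b < D.n) :
    C.dd.getD b 0 • v b = C.ee.getD b 0 • v C.b0 := by
  unfold chkCert at hC
  simp only [Bool.and_eq_true, List.all_eq_true, decide_eq_true_eq, List.mem_range, beq_iff_eq] at hC
  obtain ⟨⟨⟨⟨⟨⟨_, h2⟩, h3⟩, h4⟩, _⟩, h6⟩, _⟩ := hC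
  set N := C.eqs.length with hN
  have hmem : ∀ s < N, C.eqs.getD s (0, 0) ∈ C.eqs := by
    intro s hs
    rw [List.getD_eq_getElem _ _ hs]; exact List.getElem_mem _
  apply combo_target D.n N (fun s => posL D (C.eqs.getD s (0, 0))) (fun s => negL D (C.eqs.getD s (0, 0)))
    (fun s hs => (h2 _ (hmem s hs)).1) (fun s hs => (h2 _ (hmem s hs)).2) v
    (fun s hs => hE _ (hmem s hs)) (fun s => (C.Y.getD b []).getD s 0) b C.b0 hb h4
  intro c hc
  have h := h6 b hb c hc
  unfold comb at h
  rw [sum_list_range] at h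
  rw [← h]
  apply sum_congr rfl
  intro s hs
  rw [h3 s (mem_range.mp hs) c hc]

theorem cert_sound_top : (2 * C.dd.getD D.n 0) • v C.b0 = 0 := by
  unfold chkCert at hC
  simp only [Bool.and_eq_true, List.all_eq_true, decide_eq_true_eq, List.mem_range, beq_iff_eq] at hC
  obtain ⟨⟨⟨⟨⟨⟨_, h2⟩, h3⟩, h4⟩, _⟩, _⟩, h7⟩ := hC
  set N := C.eqs.length with hN
  have hmem : ∀ s < N, C.eqs.getD s (0, 0) ∈ C.eqs := by
    intro s hs
    rw [List.getD_eq_getElem _ _ hs]; exact List.getElem_mem _
  have key := combo_target D.n N (fun s => posL D (C.eqs.getD s (0, 0)))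
    (fun s => negL D (C.eqs.getD s (0, 0)))
    (fun s hs => (h2 _ (hmem s hs)).1) (fun s hs => (h2 _ (hmem s hs)).2) v
    (fun s hs => hE _ (hmem s hs)) (fun s => (C.Y.getD D.n []).getD s 0) C.b0 C.b0 h4 h4
    (2 * C.dd.getD D.n 0) 0 (by
      intro c hc
      have h := h7 c hc
      unfold comb at h
      rw [sum_list_range] at h
      rw [← h]
      apply sum_congr rfl
      intro s hs
      rw [h3 s (mem_range.mp hs) c hc])
  rw [key, zero_smul]

end sound

end Cfsg.Agent.Lib.Helper1.StemZA
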