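import Mathlib
import Cfsg.Agent.Lib.Helper1.StemZA1
import Cfsg.Agent.Lib.Helper1.StemSA5

set_option autoImplicit false

/-! Labelled actions with labels in a commutative group: the group side. -/

namespace Cfsg.Agent.Lib.Helper1.StemZA

open Cfsg.Agent.Lib.Helper1.MatCode Cfsg.Agent.Lib.Helper1.StemSA Cfsg.Agent.Lib.Helper1.StemZLin

/-- the hypotheses linking the data to a central extension `σ` of a group acting on a set containing
the points `pt j`, with a map `κ` to a commutative group which is additive on the preimage of the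
stabilizer of `pt 0` -/
structure ZAHyp (D : SAData) {Γ G Y A : Type*} [Group Γ] [Group G] [MulAction G Y] [AddCommGroup A]
    (σ : Γ →* G) (pt : ℕ → Y) (X : List Γ) (κ : Γ → A) : Prop where
  ker_central : σ.ker ≤ Subgroup.center Γ
  pt_zero : ∀ j < D.m, pt j = pt 0 → j = 0
  pi_act : ∀ i < D.k, ∀ j < D.m, σ (X.getD i 1) • pt j = pt (D.pi i j)
  pow_one : ∀ i < D.k, (X.getD i 1) ^ (D.ords.getD i 0) = 1
  rel_ok : ∀ w ∈ D.rels, σ (wordProd X w.1) = σ (wordProd X w.2)
  gen : ∀ g : Γ, g ∈ Subgroup.closure {g | ∃ i < D.k, g = X.getD i 1}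
  kap_mul : ∀ g h : Γ, σ g • pt 0 = pt 0 → σ h • pt 0 = pt 0 → κ (g * h) = κ g + κ h

section

variable (D : SAData) {Γ G Y A : Type*} [Group Γ] [Group G] [MulAction G Y] [AddCommGroup A]
    (σ : Γ →* G) (pt : ℕ → Y) (X : List Γ) (κ : Γ → A)

/-- the label of the generator `i` at the point `j` -/
def lam (i j : ℕ) : A := κ ((tt D X (D.pi i j))⁻¹ * X.getD i 1 * tt D X j)

/-- the label of a relation -/
def eta (r : ℕ) : A :=
  κ (wordProd X (D.rels.getD r ([], [])).1 * (wordProd X (D.rels.getD r ([], [])).2)⁻¹)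

/-- the values of the unknowns -/
def val (b : ℕ) : A :=
  if b < D.k * D.m then lam D X κ (b / D.m) (b % D.m) else eta D X κ (b - D.k * D.m)

theorem val_edge (i j : ℕ) (hi : i < D.k) (hj : j < D.m) :
    val D X κ (i * D.m + j) = lam D X κ i j := by
  have h1 : i * D.m + j < D.k * D.m := by
    calc i * D.m + j < i * D.m + D.m := by omega
      _ = (i + 1) * D.m := by ring
      _ ≤ D.k * D.m := Nat.mul_le_mul_right _ hi
  have hm : 0 < D.m := by omega
  unfold val
  rw [if_pos h1]
  have e1 : (i * D.m + j) / D.m = i := by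
    rw [Nat.add_comm, Nat.add_mul_div_right _ _ hm, Nat.div_eq_of_lt hj, zero_add]
  have e2 : (i * D.m + j) % D.m = j := by
    rw [Nat.add_comm, Nat.add_mul_mod_self_right, Nat.mod_eq_of_lt hj]
  rw [e1, e2]

theorem val_eta (r : ℕ) : val D X κ (D.k * D.m + r) = eta D X κ r := by
  unfold val
  rw [if_neg (by omega), Nat.add_sub_cancel_left]

variable (hS : D.chkStruct = true) (H : ZAHyp D σ pt X κ)
include H

theorem kap_one : κ 1 = 0 := by
  have h := H.kap_mul 1 1 (by rw [map_one, one_smul]) (by rw [map_one, one_smul])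
  rw [mul_one] at h
  have : κ 1 + 0 = κ 1 + κ 1 := by rw [add_zero]; exact h
  exact (add_left_cancel this).symm

include hS

/-- the tree lifts move the base point to the points -/
theorem sigma_tt (j : ℕ) (hj : j < D.m) : σ (tt D X j) • pt 0 = pt j := by
  induction j using Nat.strong_induction_on with
  | _ j ih =>
    by_cases h0 : j = 0
    · subst h0; rw [tt_zero, map_one, one_smul]
    · obtain ⟨h1, h2, h3⟩ := par_ok D hS j (by omega) hj
      rw [tt_succ D X hS j (by omega) hj, map_mul, mul_smul, ih _ h2 (by omega),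
        H.pi_act _ h1 _ (by omega), h3]

/-- elements moving `pt j` to `pt j'` give elements of the preimage of the stabilizer -/
theorem inK_of_act (g : Γ) (j j' : ℕ) (hj : j < D.m) (hj' : j' < D.m)
    (h : σ g • pt j = pt j') : σ ((tt D X j')⁻¹ * g * tt D X j) • pt 0 = pt 0 := by
  rw [map_mul, map_mul, map_inv, mul_smul, mul_smul, sigma_tt D σ pt X κ hS H j hj, h,
    ← sigma_tt D σ pt X κ hS H j' hj', inv_smul_smul]

/-- the word lemma -/
theorem word_lemma (w : List ℕ) (hw : ∀ i ∈ w, i < D.k) (j : ℕ) (hj : j < D.m) :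
    D.actW w j < D.m ∧ σ (wordProd X w) • pt j = pt (D.actW w j) ∧
      κ ((tt D X (D.actW w j))⁻¹ * wordProd X w * tt D X j) =
        ((D.edgesW w j).map (val D X κ)).sum := by
  induction w with
  | nil =>
    refine ⟨hj, ?_, ?_⟩
    · rw [wordProd_nil, map_one, one_smul]; rfl
    · rw [SAData.actW_nil, wordProd_nil, mul_one, inv_mul_cancel, kap_one D σ pt X κ H]
      rfl
  | cons i w ih =>
    have hi : i < D.k := hw i (by simp)
    obtain ⟨h1, h2, h4⟩ := ih (fun i' hi' => hw i' (by simp [hi']))
    have h5 : D.pi i (D.actW w j) < D.m := pi_lt D hS i _ hi h1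
    have hact : σ (X.getD i 1) • pt (D.actW w j) = pt (D.pi i (D.actW w j)) := H.pi_act i hi _ h1
    have h6 := inK_of_act D σ pt X κ hS H (X.getD i 1) _ _ h1 h5 hact
    have h3 := inK_of_act D σ pt X κ hS H (wordProd X w) _ _ hj h1 h2
    have e : (tt D X (D.actW (i :: w) j))⁻¹ * wordProd X (i :: w) * tt D X j =
        ((tt D X (D.pi i (D.actW w j)))⁻¹ * X.getD i 1 * tt D X (D.actW w j)) *
        ((tt D X (D.actW w j))⁻¹ * wordProd X w * tt D X j) := by
      rw [SAData.actW_cons, wordProd_cons]; group
    refine ⟨by rw [SAData.actW_cons]; exact h5, ?_, ?_⟩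
    · rw [wordProd_cons, map_mul, mul_smul, h2, hact, SAData.actW_cons]
    · rw [e, H.kap_mul _ _ h6 h3, h4]
      show _ = (((i * D.m + D.actW w j) :: D.edgesW w j).map (val D X κ)).sum
      rw [List.map_cons, List.sum_cons, val_edge D X κ i _ hi h1]
      rfl

/-- every valid equation holds for the labels -/
theorem spec_ok (s : ℕ × ℕ) (hs : D.chkSpec s = true) :
    sgnSum (val D X κ) (posL D s) (negL D s) = 0 := by
  obtain ⟨s1, j⟩ := s
  unfold SAData.chkSpec at hs
  rw [Bool.and_eq_true, decide_eq_true_eq] at hs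
  obtain ⟨hj, hs2⟩ := hs
  have hj : j < D.m := hj
  cases s1 with
  | zero =>
    have h0 : 0 < j := by simpa using hs2
    obtain ⟨h1, h2, h3⟩ := par_ok D hS j h0 hj
    have hp : posL D (0, j) = [(D.par j).1 * D.m + (D.par j).2] := rfl
    have hn : negL D (0, j) = [] := rfl
    unfold sgnSum
    rw [hp, hn, List.map_singleton, List.sum_singleton, List.map_nil, List.sum_nil, sub_zero,
      val_edge D X κ _ _ h1 (by omega)]
    unfold lam
    rw [h3, tt_succ D X hS j h0 hj]
    have e : (X.getD (D.par j).1 1 * tt D X (D.par j).2)⁻¹ * X.getD (D.par j).1 1 *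
        tt D X (D.par j).2 = 1 := by group
    rw [e]
    exact kap_one D σ pt X κ H
  | succ r =>
    have hs2' : r < D.k + D.rels.length ∧
        D.actW (D.relW r).1 j = D.actW (D.relW r).2 j := by
      simpa using hs2
    obtain ⟨hr, hact⟩ := hs2'
    have hp : posL D (r + 1, j) = D.edgesW (D.relW r).1 j := rfl
    have hn : negL D (r + 1, j) = D.edgesW (D.relW r).2 j ++
        (if r < D.k then [] else [D.k * D.m + (r - D.k)]) := rfl
    unfold sgnSum
    rw [hp, hn]
    by_cases hrk : r < D.k
    · -- a power relation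
      have hrel : D.relW r = (List.replicate (D.ords.getD r 0) r, []) := by
        unfold SAData.relW; rw [if_pos hrk]
      rw [hrel] at hact ⊢
      rw [if_pos hrk]
      have hw : ∀ i ∈ List.replicate (D.ords.getD r 0) r, i < D.k := by
        intro i hi
        rw [List.mem_replicate] at hi
        rw [hi.2]; exact hrk
      have hact' : D.actW (List.replicate (D.ords.getD r 0) r) j = j := hact
      obtain ⟨_, _, h4⟩ := word_lemma D σ pt X κ hS H _ hw j hj
      simp only [SAData.edgesW, List.append_nil, List.map_nil, List.sum_nil, sub_zero]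
      rw [← h4, hact', wordProd_replicate, H.pow_one r hrk, mul_one, inv_mul_cancel]
      exact kap_one D σ pt X κ H
    · -- a general relation
      have hr' : r - D.k < D.rels.length := by omega
      have hrel : D.relW r = D.rels.getD (r - D.k) ([], []) := by
        unfold SAData.relW; rw [if_neg hrk]
      have hmem : D.rels.getD (r - D.k) ([], []) ∈ D.rels := by
        rw [List.getD_eq_getElem _ _ hr']; exact List.getElem_mem _
      rw [if_neg hrk]
      rw [hrel] at hact ⊢
      have heta : eta D X κ (r - D.k) =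
          κ (wordProd X (D.rels.getD (r - D.k) ([], [])).1 *
            (wordProd X (D.rels.getD (r - D.k) ([], [])).2)⁻¹) := rfl
      set w := D.rels.getD (r - D.k) ([], []) with hwdef
      obtain ⟨hw1, hw2⟩ := rels_lt D hS w hmem
      obtain ⟨a1, a2, a4⟩ := word_lemma D σ pt X κ hS H w.1 hw1 j hj
      obtain ⟨b1, b2, b4⟩ := word_lemma D σ pt X κ hS H w.2 hw2 j hj
      rw [List.map_append, List.sum_append, ← a4, ← b4, List.map_singleton, List.sum_singleton,
        val_eta, heta]
      rw [← hact] at b2 b4 ⊢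
      have hσ := H.rel_ok w hmem
      set c := wordProd X w.1 * (wordProd X w.2)⁻¹ with hc
      have hck : σ c = 1 := by
        rw [hc, map_mul, map_inv, hσ, mul_inv_cancel]
      have hcc : ∀ g : Γ, g * c = c * g :=
        Subgroup.mem_center_iff.mp (H.ker_central (MonoidHom.mem_ker.mpr hck))
      have hcK : σ c • pt 0 = pt 0 := by rw [hck, one_smul]
      have h3 := inK_of_act D σ pt X κ hS H (wordProd X w.2) _ _ hj a1 b2
      have e : (tt D X (D.actW w.1 j))⁻¹ * wordProd X w.1 * tt D X j =
          c * ((tt D X (D.actW w.1 j))⁻¹ * wordProd X w.2 * tt D X j) := by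
        have e1 : wordProd X w.1 = c * wordProd X w.2 := by rw [hc]; group
        calc (tt D X (D.actW w.1 j))⁻¹ * wordProd X w.1 * tt D X j
            = ((tt D X (D.actW w.1 j))⁻¹ * c) * wordProd X w.2 * tt D X j := by
              rw [e1]; simp only [mul_assoc]
          _ = (c * (tt D X (D.actW w.1 j))⁻¹) * wordProd X w.2 * tt D X j := by rw [hcc]
          _ = c * ((tt D X (D.actW w.1 j))⁻¹ * wordProd X w.2 * tt D X j) := by
              simp only [mul_assoc]
      rw [e, H.kap_mul _ _ hcK h3]
      abel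

end

end Cfsg.Agent.Lib.Helper1.StemZA
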