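import Mathlib
import Cfsg.Agent.Lib.Helper1.StemZA3
import Cfsg.Agent.Lib.Helper1.StemSA7

set_option autoImplicit false

/-! Labelled actions: a stem extension with kernel a 2-group has kernel of order at most two. -/

namespace Cfsg.Agent.Lib.Helper1.StemZA

open Cfsg.Agent.Lib.Helper1.MatCode Cfsg.Agent.Lib.Helper1.Stem Cfsg.Agent.Lib.Helper1.StemSA
  Cfsg.Agent.Lib.Helper1.StemZLin

universe u v

/-- lifts of elements of odd order along a central extension with kernel a 2-group -/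
theorem exists_lift_pow_eq_one {Γ G : Type*} [Group Γ] [Group G] (σ : Γ →* G)
    (hs : Function.Surjective σ) (a : ℕ) (hk : ∀ c : Γ, σ c = 1 → c ^ 2 ^ a = 1) (g : G) (m : ℕ)
    (hm : Odd m) (hg : g ^ m = 1) : ∃ x : Γ, σ x = g ∧ x ^ m = 1 := by
  by_cases h1 : m = 1
  · subst h1
    rw [pow_one] at hg
    exact ⟨1, by rw [map_one, hg], one_pow _⟩
  have hm1 : 1 < m := by
    obtain ⟨t, rfl⟩ := hm
    omega
  obtain ⟨y, hy⟩ := hs g
  have hcop : Nat.Coprime (2 ^ a) m := by
    apply Nat.Coprime.pow_left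
    rw [Nat.coprime_two_left]
    exact hm
  obtain ⟨t, -, ht⟩ := Nat.exists_mul_mod_eq_one_of_coprime hcop hm1
  refine ⟨y ^ (2 ^ a * t), ?_, ?_⟩
  · rw [map_pow, hy, pow_eq_pow_mod _ hg, ht, pow_one]
  · have h2 : σ (y ^ m) = 1 := by rw [map_pow, hy, hg]
    have h3 := hk _ h2
    calc (y ^ (2 ^ a * t)) ^ m = ((y ^ m) ^ 2 ^ a) ^ t := by
          rw [← pow_mul, ← pow_mul, ← pow_mul]; congr 1; ring
      _ = 1 := by rw [h3, one_pow]

theorem card_ker_le_two (D : SAData) (C : ZACert) (hS : D.chkStruct = true)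
    (hC : chkCert D C = true) (hm : 0 < D.m)
    {G : Type v} {Y : Type*} [Group G] [MulAction G Y] (pt : ℕ → Y) (gs : List G)
    (hgen : Subgroup.closure {g | ∃ i < D.k, g = gs.getD i 1} = ⊤)
    (pt_zero : ∀ j < D.m, pt j = pt 0 → j = 0)
    (pi_act : ∀ i < D.k, ∀ j < D.m, gs.getD i 1 • pt j = pt (D.pi i j))
    (hodd : ∀ i < D.k, Odd (D.ords.getD i 0) ∧ (gs.getD i 1) ^ (D.ords.getD i 0) = 1)
    (hrel : ∀ w ∈ D.rels, wordProd gs w.1 = wordProd gs w.2)
    (hK : commutator (MulAction.stabilizer G (pt 0)) = ⊤)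
    (hT : TrivStems.{u} (MulAction.stabilizer G (pt 0)))
    (Γ : Type u) [Group Γ] [Finite Γ] (σ : Γ →* G) (hσ : Cfsg.IsStemExtension σ)
    (a : ℕ) (hc : Nat.card σ.ker = 2 ^ a) : Nat.card σ.ker ≤ 2 := by
  classical
  obtain ⟨hs, hcen, hcomm⟩ := hσ
  set K := MulAction.stabilizer G (pt 0) with hKdef
  set Kc := K.comap σ with hKc
  have hmemKc : ∀ g : Γ, g ∈ Kc ↔ σ g • pt 0 = pt 0 := by
    intro g
    rw [hKc, Subgroup.mem_comap, hKdef, MulAction.mem_stabilizer_iff]
  have hkpow : ∀ c : Γ, σ c = 1 → c ^ 2 ^ a = 1 := by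
    intro c hc1
    have h1 : (⟨c, MonoidHom.mem_ker.mpr hc1⟩ : σ.ker) ^ Nat.card σ.ker = 1 := pow_card_eq_one'
    rw [hc] at h1
    exact congrArg Subtype.val h1
  -- the map to the abelianization of the preimage
  let κ : Γ → Additive (Abelianization Kc) := fun g =>
    if h : g ∈ Kc then Additive.ofMul (Abelianization.of ⟨g, h⟩) else 0
  have hκ : ∀ (g : Γ) (h : g ∈ Kc), κ g = Additive.ofMul (Abelianization.of ⟨g, h⟩) := by
    intro g h
    simp only [κ, dif_pos h]
  have hlift : ∀ (g : Γ) (hg : g ∈ Kc), ((⟨g, hg⟩ : Kc) ∈ commutator Kc ↔ g ∈ liftSub σ K) := by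
    intro g hg
    unfold liftSub
    rw [← Subgroup.map_subtype_commutator]
    constructor
    · intro h
      exact ⟨⟨g, hg⟩, h, rfl⟩
    · rintro ⟨w, hw, hwg⟩
      have : w = ⟨g, hg⟩ := Subtype.ext hwg
      rw [← this]; exact hw
  have hof1 : ∀ (g : Γ) (hg : g ∈ Kc), Abelianization.of (⟨g, hg⟩ : Kc) = 1 ↔ g ∈ liftSub σ K := by
    intro g hg
    rw [← hlift g hg]
    exact QuotientGroup.eq_one_iff _
  -- the lifts
  have hliftX : ∀ i : ℕ, ∃ x : Γ, σ x = gs.getD i 1 ∧ (i < D.k → x ^ (D.ords.getD i 0) = 1) := by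
    intro i
    by_cases hi : i < D.k
    · obtain ⟨ho, hp⟩ := hodd i hi
      obtain ⟨x, hx1, hx2⟩ := exists_lift_pow_eq_one σ hs a hkpow _ _ ho hp
      exact ⟨x, hx1, fun _ => hx2⟩
    · obtain ⟨x, hx⟩ := hs (gs.getD i 1)
      exact ⟨x, hx, fun h => absurd h hi⟩
  choose xf hxf using hliftX
  let X : List Γ := (List.range D.k).map xf
  have hX : ∀ i < D.k, X.getD i 1 = xf i := by
    intro i hi
    have : i < X.length := by simp [X, hi]
    rw [List.getD_eq_getElem _ _ this]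
    simp [X]
  have hσX : ∀ i < D.k, σ (X.getD i 1) = gs.getD i 1 := by
    intro i hi
    rw [hX i hi]; exact (hxf i).1
  have H : ZAHyp D σ pt X κ :=
    { ker_central := hcen
      pt_zero := pt_zero
      pi_act := by
        intro i hi j hj
        rw [hσX i hi]; exact pi_act i hi j hj
      pow_one := by
        intro i hi
        rw [hX i hi]; exact (hxf i).2 hi
      rel_ok := by
        intro w hw
        obtain ⟨hw1, hw2⟩ := rels_lt D hS w hw
        rw [sigma_wordProd σ X gs D.k hσX w.1 hw1, sigma_wordProd σ X gs D.k hσX w.2 hw2]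
        exact hrel w hw
      gen := by
        intro g
        have h1 : Subgroup.closure {g | ∃ i < D.k, g = X.getD i 1} = ⊤ := by
          apply closure_eq_top_of_stem σ ⟨hs, hcen, hcomm⟩
          rw [eq_top_iff, ← hgen]
          apply Subgroup.closure_mono
          rintro _ ⟨i, hi, rfl⟩
          exact ⟨X.getD i 1, ⟨i, hi, rfl⟩, hσX i hi⟩
        rw [h1]; exact Subgroup.mem_top g
      kap_mul := by
        intro g h hg hh
        have hg' : g ∈ Kc := (hmemKc g).mpr hg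
        have hh' : h ∈ Kc := (hmemKc h).mpr hh
        rw [hκ g hg', hκ h hh', hκ (g * h) (Kc.mul_mem hg' hh'), ← ofMul_mul, ← map_mul]
        rfl }
  -- the exponent
  have h2 : ∀ x : Additive (Abelianization Kc), (2 ^ a : ℤ) • x = 0 := by
    intro x
    obtain ⟨q, rfl⟩ := Additive.ofMul.surjective x
    obtain ⟨⟨g, hg⟩, rfl⟩ := QuotientGroup.mk_surjective q
    obtain ⟨c, hck, hgc⟩ := exists_mul_mem_liftSub σ hs K hK g hg
    have hcK : c ∈ Kc := by
      rw [hmemKc, MonoidHom.mem_ker.mp hck, one_smul]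
    have e1 : Abelianization.of (⟨g, hg⟩ : Kc) * Abelianization.of (⟨c, hcK⟩ : Kc) = 1 := by
      rw [← map_mul]
      exact (hof1 (g * c) (Kc.mul_mem hg hcK)).mpr hgc
    have e2 : Abelianization.of (⟨c, hcK⟩ : Kc) ^ 2 ^ a = 1 := by
      rw [← map_pow]
      have : (⟨c, hcK⟩ : Kc) ^ 2 ^ a = 1 := Subtype.ext (hkpow c (MonoidHom.mem_ker.mp hck))
      rw [this, map_one]
    have e3 : Abelianization.of (⟨g, hg⟩ : Kc) ^ 2 ^ a = 1 := by
      have : Abelianization.of (⟨g, hg⟩ : Kc) = (Abelianization.of (⟨c, hcK⟩ : Kc))⁻¹ :=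
        eq_inv_of_mul_eq_one_left e1
      rw [this, inv_pow, e2, inv_one]
    show (2 ^ a : ℤ) • Additive.ofMul (Abelianization.of (⟨g, hg⟩ : Kc)) = 0
    rw [← ofMul_zpow]
    have : Abelianization.of (⟨g, hg⟩ : Kc) ^ (2 ^ a : ℤ) = 1 := by
      have e4 : ((2 : ℤ) ^ a) = ((2 ^ a : ℕ) : ℤ) := by push_cast; rfl
      rw [e4, zpow_natCast, e3]
    rw [this]; rfl
  obtain ⟨a₀, ha₀, hker⟩ := za_main D σ pt X κ hS H C hC hm a h2
  -- injectivity on the kernel
  have hinj : ∀ c c' : Γ, σ c = 1 → σ c' = 1 → κ c = κ c' → c = c' := by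
    intro c c' h1 h1' he
    have hcK : c ∈ Kc := by rw [hmemKc, h1, one_smul]
    have hcK' : c' ∈ Kc := by rw [hmemKc, h1', one_smul]
    rw [hκ c hcK, hκ c' hcK'] at he
    have he' : Abelianization.of (⟨c, hcK⟩ : Kc) = Abelianization.of (⟨c', hcK'⟩ : Kc) :=
      Additive.ofMul.injective he
    have e1 : Abelianization.of (⟨c⁻¹ * c', Kc.mul_mem (Kc.inv_mem hcK) hcK'⟩ : Kc) = 1 := by
      have : (⟨c⁻¹ * c', Kc.mul_mem (Kc.inv_mem hcK) hcK'⟩ : Kc) =
          (⟨c, hcK⟩ : Kc)⁻¹ * ⟨c', hcK'⟩ := rfl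
      rw [this, map_mul, map_inv, he', inv_mul_cancel]
    have e2 := (hof1 _ _).mp e1
    have e3 := liftSub_inf_ker σ hs hcen K hK hT _ e2 (by rw [map_mul, map_inv, h1, h1', inv_one, one_mul])
    exact inv_mul_eq_one.mp e3
  have hvals : ∀ c : Γ, σ c = 1 → κ c = 0 ∨ κ c = a₀ := by
    intro c h1
    obtain ⟨n, hn⟩ := AddSubgroup.mem_zmultiples_iff.mp (hker c h1)
    rcases Int.emod_two_eq_zero_or_one n with h | h
    · left
      have : n = 2 * (n / 2) := by omega
      rw [← hn, this, mul_comm, mul_smul, ha₀, smul_zero]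
    · right
      have : n = 2 * (n / 2) + 1 := by omega
      rw [← hn, this, add_smul, mul_comm, mul_smul, ha₀, smul_zero, zero_add, one_smul]
  let f : σ.ker → Bool := fun c => decide (κ c.1 = 0)
  have hf : Function.Injective f := by
    intro c c' hcc
    apply Subtype.ext
    have h1 := MonoidHom.mem_ker.mp c.2
    have h1' := MonoidHom.mem_ker.mp c'.2
    apply hinj _ _ h1 h1'
    by_cases h0 : κ c.1 = 0
    · have : f c' = true := by rw [← hcc]; exact decide_eq_true h0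
      rw [h0, of_decide_eq_true this]
    · have : f c' = false := by rw [← hcc]; exact decide_eq_false h0
      have h0' : ¬ κ c'.1 = 0 := of_decide_eq_false this
      rw [(hvals _ h1).resolve_left h0, (hvals _ h1').resolve_left h0']
  have := Nat.card_le_card_of_injective f hf
  have h2' : Nat.card Bool = 2 := by simp
  rwa [h2'] at this

end Cfsg.Agent.Lib.Helper1.StemZA
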