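import Mathlib
import Cfsg.Agent.Lib.Helper1.StemLin
import Cfsg.Agent.Lib.Helper1.StemZLin

set_option autoImplicit false

/-! Values of unknowns in a commutative 2-group: a square system with a right inverse modulo two
and a combination modulo four show that the values lie in a cyclic subgroup of order at most
two. -/

namespace Cfsg.Agent.Lib.Helper1.StemZC

open Finset Cfsg.Agent.Lib.Helper1.StemLin Cfsg.Agent.Lib.Helper1.StemZLin

section f2

variable {M : Type*} [AddCommGroup M]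

/-- a square system of sparse equations with an explicit right inverse modulo two: the values,
which are killed by two, are combinations of the values of the equations -/
theorem val_eq_of_rightInverse (n : ℕ) (supp : ℕ → List ℕ) (Bm : ℕ → ℕ)
    (hsupp : ∀ i < n, ∀ b ∈ supp i, b < n)
    (hchk : ∀ i < n, xorOf Bm (supp i) = 1 <<< i)
    (val : ℕ → M) (h2 : ∀ c < n, (2 : ℤ) • val c = 0) (b : ℕ) (hb : b < n) :
    val b = ∑ i ∈ range n, (if (Bm b).testBit i then ((supp i).map val).sum else 0) := by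
  classical
  let C : Matrix (Fin n) (Fin n) (ZMod 2) := fun i b => (((supp i).count (b : ℕ) : ℕ) : ZMod 2)
  let B : Matrix (Fin n) (Fin n) (ZMod 2) := fun b j => b2z ((Bm b).testBit j)
  have hCB : C * B = 1 := by
    ext i j
    rw [Matrix.mul_apply]
    have h1 := sum_count (n := n) (supp i) (hsupp i i.2) (fun b => b2z ((Bm b).testBit j))
    have h2 : ∑ b : Fin n, C i b * B b j =
        ∑ b : Fin n, (((supp i).count (b : ℕ) : ℕ) : ZMod 2) * b2z ((Bm (b : ℕ)).testBit j) := rfl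
    rw [h2, ← h1, ← testBit_xorOf, hchk i i.2, Nat.one_shiftLeft, Nat.testBit_two_pow]
    rw [Matrix.one_apply]
    by_cases hij : i = j
    · subst hij; simp [b2z]
    · have : ¬ (i : ℕ) = (j : ℕ) := fun h => hij (Fin.ext h)
      simp [b2z, hij, this]
  have hBC : B * C = 1 := mul_eq_one_comm.mp hCB
  -- the integer coefficients
  let Nc : ℕ → ℤ := fun c =>
    ∑ i ∈ range n, (if (Bm b).testBit i then ((supp i).count c : ℤ) else 0)
  have hN : ∀ c < n, ∃ k : ℤ, Nc c = (if b = c then 1 else 0) + 2 * k := by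
    intro c hc
    have h1 := congrFun (congrFun hBC ⟨b, hb⟩) ⟨c, hc⟩
    rw [Matrix.mul_apply, Matrix.one_apply] at h1
    have e : ((Nc c : ℤ) : ZMod 2) = ∑ i : Fin n, B ⟨b, hb⟩ i * C i ⟨c, hc⟩ := by
      simp only [Nc]
      rw [Int.cast_sum, ← Fin.sum_univ_eq_sum_range (fun i =>
        (((if (Bm b).testBit i then ((supp i).count c : ℤ) else 0 : ℤ)) : ZMod 2)) n]
      apply Finset.sum_congr rfl
      intro i _
      simp only [B, C, b2z]
      by_cases hbit : (Bm b).testBit i <;> simp [hbit]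
    have h3 : ((Nc c - (if b = c then 1 else 0) : ℤ) : ZMod 2) = 0 := by
      rw [Int.cast_sub, e, h1]
      by_cases hbc : b = c
      · subst hbc; simp
      · have : ¬ (⟨b, hb⟩ : Fin n) = ⟨c, hc⟩ := fun h => hbc (Fin.mk.inj_iff.mp h)
        simp [hbc, this]
    rw [ZMod.intCast_zmod_eq_zero_iff_dvd] at h3
    obtain ⟨k, hk⟩ := h3
    exact ⟨k, by push_cast at hk; linarith⟩
  have hNv : ∀ c ∈ range n, Nc c • val c = if b = c then val c else 0 := by
    intro c hc
    obtain ⟨k, hk⟩ := hN c (mem_range.mp hc)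
    rw [hk, add_smul, mul_comm, mul_smul, h2 c (mem_range.mp hc), smul_zero, add_zero]
    by_cases hbc : b = c <;> simp [hbc]
  have h5 : ∑ i ∈ range n, (if (Bm b).testBit i then ((supp i).map val).sum else 0) =
      ∑ c ∈ range n, Nc c • val c := by
    have h6 : ∀ i ∈ range n, (if (Bm b).testBit i then ((supp i).map val).sum else 0) =
        ∑ c ∈ range n, (if (Bm b).testBit i then ((supp i).count c : ℤ) else 0) • val c := by
      intro i hi
      by_cases hbit : (Bm b).testBit i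
      · simp only [hbit, if_true]
        exact sum_map_eq n val (supp i) (hsupp i (mem_range.mp hi))
      · simp [hbit]
    rw [sum_congr rfl h6, sum_comm]
    apply sum_congr rfl
    intro c _
    simp only [Nc]
    rw [sum_smul]
  rw [h5, sum_congr rfl hNv, sum_ite_eq (range n) b val, if_pos (mem_range.mpr hb)]

end f2

section mod4

/-- adding one at the position `b` to a vector over the integers modulo four coded by two masks -/
def add1 (s : ℕ × ℕ) (b : ℕ) : ℕ × ℕ := (s.1 ^^^ (1 <<< b), s.2 ^^^ (s.1 &&& (1 <<< b)))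

/-- adding two at the position `b` -/
def add2 (s : ℕ × ℕ) (b : ℕ) : ℕ × ℕ := (s.1, s.2 ^^^ (1 <<< b))

/-- adding `y` at the position `b` -/
def addY (y : ℕ) (s : ℕ × ℕ) (b : ℕ) : ℕ × ℕ :=
  if y % 4 = 0 then s else if y % 4 = 1 then add1 s b else if y % 4 = 2 then add2 s b
  else add2 (add1 s b) b

/-- the coefficient at the position `c` -/
def coefAt (s : ℕ × ℕ) (c : ℕ) : ℤ :=
  (if s.1.testBit c then 1 else 0) + 2 * (if s.2.testBit c then 1 else 0)

theorem testBit_one_shiftLeft (b c : ℕ) : (1 <<< b).testBit c = decide (b = c) := by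
  rw [Nat.one_shiftLeft, Nat.testBit_two_pow]

theorem coefAt_add1 (s : ℕ × ℕ) (b c : ℕ) :
    ∃ k : ℤ, coefAt (add1 s b) c = coefAt s c + (if b = c then 1 else 0) + 4 * k := by
  unfold coefAt add1
  simp only [Nat.testBit_xor, Nat.testBit_and, testBit_one_shiftLeft]
  by_cases hbc : b = c
  · subst hbc
    cases h1 : s.1.testBit b <;> cases h2 : s.2.testBit b
    · exact ⟨0, by simp⟩
    · exact ⟨0, by simp⟩
    · exact ⟨0, by simp⟩
    · exact ⟨-1, by simp⟩
  · exact ⟨0, by simp [hbc]⟩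

theorem coefAt_add2 (s : ℕ × ℕ) (b c : ℕ) :
    ∃ k : ℤ, coefAt (add2 s b) c = coefAt s c + (if b = c then 2 else 0) + 4 * k := by
  unfold coefAt add2
  simp only [Nat.testBit_xor, testBit_one_shiftLeft]
  by_cases hbc : b = c
  · subst hbc
    cases h1 : s.1.testBit b <;> cases h2 : s.2.testBit b
    · exact ⟨0, by simp⟩
    · exact ⟨-1, by simp⟩
    · exact ⟨0, by simp⟩
    · exact ⟨-1, by simp⟩
  · exact ⟨0, by simp [hbc]⟩

theorem coefAt_addY (y : ℕ) (s : ℕ × ℕ) (b c : ℕ) :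
    ∃ k : ℤ, coefAt (addY y s b) c = coefAt s c + (if b = c then (y : ℤ) else 0) + 4 * k := by
  have hy : (y : ℤ) = (y % 4 : ℕ) + 4 * (y / 4 : ℕ) := by
    have := Nat.div_add_mod y 4
    omega
  unfold addY
  by_cases h0 : y % 4 = 0
  · rw [if_pos h0]
    by_cases hbc : b = c
    · exact ⟨-(y / 4 : ℕ), by rw [if_pos hbc, hy, h0]; push_cast; ring⟩
    · exact ⟨0, by simp [hbc]⟩
  rw [if_neg h0]
  by_cases h1 : y % 4 = 1
  · rw [if_pos h1]
    obtain ⟨k, hk⟩ := coefAt_add1 s b c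
    by_cases hbc : b = c
    · exact ⟨k - (y / 4 : ℕ), by rw [hk, if_pos hbc, if_pos hbc, hy, h1]; push_cast; ring⟩
    · exact ⟨k, by rw [hk, if_neg hbc, if_neg hbc]⟩
  rw [if_neg h1]
  by_cases h2 : y % 4 = 2
  · rw [if_pos h2]
    obtain ⟨k, hk⟩ := coefAt_add2 s b c
    by_cases hbc : b = c
    · exact ⟨k - (y / 4 : ℕ), by rw [hk, if_pos hbc, if_pos hbc, hy, h2]; push_cast; ring⟩
    · exact ⟨k, by rw [hk, if_neg hbc, if_neg hbc]⟩
  rw [if_neg h2]
  have h3 : y % 4 = 3 := by omega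
  obtain ⟨k, hk⟩ := coefAt_add1 s b c
  obtain ⟨k', hk'⟩ := coefAt_add2 (add1 s b) b c
  by_cases hbc : b = c
  · exact ⟨k + k' - (y / 4 : ℕ), by
      rw [hk', hk, if_pos hbc, if_pos hbc, if_pos hbc, hy, h3]; push_cast; ring⟩
  · exact ⟨k + k', by rw [hk', hk, if_neg hbc, if_neg hbc, if_neg hbc]; ring⟩

variable {M : Type*} [AddCommGroup M]

/-- the combination of the values coded by a state -/
def phi (n : ℕ) (val : ℕ → M) (s : ℕ × ℕ) : M := ∑ c ∈ range n, coefAt s c • val c

theorem phi_addY (n : ℕ) (val : ℕ → M) (h4 : ∀ c < n, (4 : ℤ) • val c = 0) (y : ℕ) (s : ℕ × ℕ)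
    (b : ℕ) (hb : b < n) : phi n val (addY y s b) = phi n val s + (y : ℤ) • val b := by
  unfold phi
  have h1 : ∀ c ∈ range n, coefAt (addY y s b) c • val c =
      coefAt s c • val c + (if b = c then (y : ℤ) • val c else 0) := by
    intro c hc
    obtain ⟨k, hk⟩ := coefAt_addY y s b c
    rw [hk, add_smul, add_smul, mul_comm, mul_smul, h4 c (mem_range.mp hc), smul_zero, add_zero]
    by_cases hbc : b = c <;> simp [hbc]
  rw [sum_congr rfl h1, sum_add_distrib, sum_ite_eq (range n) b (fun c => (y : ℤ) • val c),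
    if_pos (mem_range.mpr hb)]

/-- adding `y` at the positions of a list -/
def addList (y : ℕ) (s : ℕ × ℕ) (l : List ℕ) : ℕ × ℕ := l.foldl (addY y) s

theorem phi_addList (n : ℕ) (val : ℕ → M) (h4 : ∀ c < n, (4 : ℤ) • val c = 0) (y : ℕ)
    (l : List ℕ) (hl : ∀ b ∈ l, b < n) (s : ℕ × ℕ) :
    phi n val (addList y s l) = phi n val s + (y : ℤ) • (l.map val).sum := by
  induction l generalizing s with
  | nil => simp [addList]
  | cons b l ih =>
    have hb : b < n := hl b (by simp)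
    have : addList y s (b :: l) = addList y (addY y s b) l := rfl
    rw [this, ih (fun b' hb' => hl b' (by simp [hb'])), phi_addY n val h4 y s b hb, List.map_cons,
      List.sum_cons, smul_add, add_assoc]

/-- adding `y` times an equation -/
def addEq (s : ℕ × ℕ) (q : (List ℕ × List ℕ) × ℕ) : ℕ × ℕ :=
  addList ((4 - q.2 % 4) % 4) (addList q.2 s q.1.1) q.1.2

theorem phi_addEq (n : ℕ) (val : ℕ → M) (h4 : ∀ c < n, (4 : ℤ) • val c = 0) (s : ℕ × ℕ)
    (q : (List ℕ × List ℕ) × ℕ) (hp : ∀ b ∈ q.1.1, b < n) (hn : ∀ b ∈ q.1.2, b < n) :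
    phi n val (addEq s q) = phi n val s + (q.2 : ℤ) • sgnSum val q.1.1 q.1.2 := by
  unfold addEq
  rw [phi_addList n val h4 _ _ hn, phi_addList n val h4 _ _ hp]
  have h4' : (4 : ℤ) • (q.1.2.map val).sum = 0 := by
    rw [List.smul_sum]
    apply List.sum_eq_zero
    intro x hx
    rw [List.mem_map] at hx
    obtain ⟨y, hy, rfl⟩ := hx
    rw [List.mem_map] at hy
    obtain ⟨c, hc, rfl⟩ := hy
    exact h4 c (hn c hc)
  have e : (((4 - q.2 % 4) % 4 : ℕ) : ℤ) • (q.1.2.map val).sum = -((q.2 : ℤ) • (q.1.2.map val).sum) := by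
    have h5 : ∃ k : ℤ, (((4 - q.2 % 4) % 4 : ℕ) : ℤ) = -(q.2 : ℤ) + 4 * k := by
      refine ⟨((4 - q.2 % 4) % 4 + q.2 : ℕ) / 4, ?_⟩
      have : ((4 - q.2 % 4) % 4 + q.2) % 4 = 0 := by omega
      have h6 := Nat.div_add_mod ((4 - q.2 % 4) % 4 + q.2) 4
      rw [this, add_zero] at h6
      have h7 : (((4 - q.2 % 4) % 4 + q.2 : ℕ) : ℤ) = 4 * ((((4 - q.2 % 4) % 4 + q.2 : ℕ) / 4 : ℕ) : ℤ) := by
        exact_mod_cast h6.symm
      push_cast at h7 ⊢
      linarith
    obtain ⟨k, hk⟩ := h5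
    rw [hk, add_smul, mul_comm, mul_smul, h4', smul_zero, add_zero, neg_smul]
  rw [e]
  unfold sgnSum
  rw [smul_sub]
  abel

theorem phi_foldl_addEq (n : ℕ) (val : ℕ → M) (h4 : ∀ c < n, (4 : ℤ) • val c = 0)
    (ys : List ((List ℕ × List ℕ) × ℕ))
    (hys : ∀ q ∈ ys, (∀ b ∈ q.1.1, b < n) ∧ (∀ b ∈ q.1.2, b < n) ∧ sgnSum val q.1.1 q.1.2 = 0)
    (s : ℕ × ℕ) : phi n val (ys.foldl addEq s) = phi n val s := by
  induction ys generalizing s with
  | nil => rfl
  | cons q ys ih =>
    obtain ⟨hp, hn, h0⟩ := hys q (by simp)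
    rw [List.foldl_cons, ih (fun q' hq' => hys q' (by simp [hq'])), phi_addEq n val h4 s q hp hn, h0,
      smul_zero, add_zero]

/-- the conclusion of the combination modulo four -/
theorem two_smul_eq_zero_of_comb (n : ℕ) (val : ℕ → M) (h4 : ∀ c < n, (4 : ℤ) • val c = 0)
    (ys : List ((List ℕ × List ℕ) × ℕ))
    (hys : ∀ q ∈ ys, (∀ b ∈ q.1.1, b < n) ∧ (∀ b ∈ q.1.2, b < n) ∧ sgnSum val q.1.1 q.1.2 = 0)
    (b0 : ℕ) (hb0 : b0 < n) (hfin : ys.foldl addEq (0, 0) = (0, 1 <<< b0)) :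
    (2 : ℤ) • val b0 = 0 := by
  have h1 := phi_foldl_addEq n val h4 ys hys (0, 0)
  rw [hfin] at h1
  have h2 : phi n val ((0 : ℕ), (0 : ℕ)) = 0 := by
    unfold phi coefAt
    simp
  have h3 : phi n val ((0 : ℕ), 1 <<< b0) = (2 : ℤ) • val b0 := by
    unfold phi coefAt
    simp only [Nat.zero_testBit, testBit_one_shiftLeft]
    have : ∀ c ∈ range n, ((if false = true then (1 : ℤ) else 0) +
        2 * (if decide (b0 = c) = true then 1 else 0)) • val c =
        if b0 = c then (2 : ℤ) • val c else 0 := by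
      intro c _
      by_cases h : b0 = c <;> simp [h]
    rw [sum_congr rfl this, sum_ite_eq (range n) b0 (fun c => (2 : ℤ) • val c),
      if_pos (mem_range.mpr hb0)]
  rw [← h3, h1, h2]

end mod4

end Cfsg.Agent.Lib.Helper1.StemZC
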