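import Mathlib
import Cfsg.Agent.Lib.Helper1.StemZC1

set_option autoImplicit false

/-! Values of unknowns in a commutative 2-group: the conclusion from the two certificates. -/

namespace Cfsg.Agent.Lib.Helper1.StemZC

open Finset Cfsg.Agent.Lib.Helper1.StemLin Cfsg.Agent.Lib.Helper1.StemZLin

section main

variable {A : Type*} [AddCommGroup A]

/-- the values lie in a cyclic subgroup of order at most two -/
theorem cyclic_two_of_cert (a : ℕ) (h2 : ∀ x : A, (2 ^ a : ℤ) • x = 0) (n : ℕ) (hn : 0 < n)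
    (v : ℕ → A) (E : ℕ → List ℕ × List ℕ) (b0 : ℕ) (hb0 : b0 < n) (Bm : ℕ → ℕ)
    (hE : ∀ i < n - 1, (∀ b ∈ (E i).1, b < n) ∧ (∀ b ∈ (E i).2, b < n) ∧
      sgnSum v (E i).1 (E i).2 = 0)
    (hchk : ∀ i < n - 1, xorOf Bm ((E i).1 ++ (E i).2) = 1 <<< i)
    (hchk0 : Bm b0 = 1 <<< (n - 1))
    (ys : List ((List ℕ × List ℕ) × ℕ))
    (hys : ∀ q ∈ ys, (∀ b ∈ q.1.1, b < n) ∧ (∀ b ∈ q.1.2, b < n) ∧ sgnSum v q.1.1 q.1.2 = 0)
    (hfin : ys.foldl addEq (0, 0) = (0, 1 <<< b0)) :
    (∀ b < n, v b ∈ AddSubgroup.zmultiples (v b0)) ∧ (2 : ℤ) • v b0 = 0 := by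
  -- the subgroup generated by the values
  let A' : AddSubgroup A := AddSubgroup.closure {x | ∃ b < n, x = v b}
  have hvA : ∀ b < n, v b ∈ A' := fun b hb => AddSubgroup.subset_closure ⟨b, hb, rfl⟩
  have hsumA : ∀ l : List ℕ, (∀ b ∈ l, b < n) → (l.map v).sum ∈ A' := by
    intro l hl
    apply AddSubgroup.list_sum_mem
    intro x hx
    rw [List.mem_map] at hx
    obtain ⟨b, hb, rfl⟩ := hx
    exact hvA b (hl b hb)
  let Z : AddSubgroup A := AddSubgroup.zmultiples (v b0)
  -- the first step: modulo two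
  let P : AddSubgroup A :=
    { carrier := {x | ∃ y ∈ A', x - (2 : ℤ) • y ∈ Z}
      zero_mem' := ⟨0, A'.zero_mem, by simp [Z]⟩
      add_mem' := by
        rintro x x' ⟨y, hy, h⟩ ⟨y', hy', h'⟩
        refine ⟨y + y', A'.add_mem hy hy', ?_⟩
        have e : x + x' - (2 : ℤ) • (y + y') = (x - (2 : ℤ) • y) + (x' - (2 : ℤ) • y') := by
          rw [smul_add]; abel
        rw [e]; exact Z.add_mem h h'
      neg_mem' := by
        rintro x ⟨y, hy, h⟩
        refine ⟨-y, A'.neg_mem hy, ?_⟩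
        have e : -x - (2 : ℤ) • (-y) = -(x - (2 : ℤ) • y) := by
          rw [smul_neg]; abel
        rw [e]; exact Z.neg_mem h }
  have hv0P : v b0 ∈ P := ⟨0, A'.zero_mem, by
    rw [smul_zero, sub_zero]; exact AddSubgroup.mem_zmultiples (v b0)⟩
  have h2P : ∀ y ∈ A', (2 : ℤ) • y ∈ P := fun y hy => ⟨y, hy, by rw [sub_self]; exact Z.zero_mem⟩
  have hvP : ∀ b < n, v b ∈ P := by
    intro b hb
    let val : ℕ → A ⧸ P := fun c => QuotientAddGroup.mk (v c)
    let supp : ℕ → List ℕ := fun i => if i < n - 1 then (E i).1 ++ (E i).2 else [b0]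
    have hsupp : ∀ i < n, ∀ c ∈ supp i, c < n := by
      intro i _ c hc
      by_cases h : i < n - 1
      · simp only [supp, if_pos h, List.mem_append] at hc
        rcases hc with hc | hc
        · exact (hE i h).1 c hc
        · exact (hE i h).2.1 c hc
      · simp only [supp, if_neg h, List.mem_singleton] at hc
        rw [hc]; exact hb0
    have hchk' : ∀ i < n, xorOf Bm (supp i) = 1 <<< i := by
      intro i hi
      by_cases h : i < n - 1
      · simp only [supp, if_pos h]; exact hchk i h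
      · have hi' : i = n - 1 := by omega
        simp only [supp, if_neg h]
        rw [hi', ← hchk0]
        simp [xorOf]
    have hval2 : ∀ c < n, (2 : ℤ) • val c = 0 := by
      intro c hc
      show (2 : ℤ) • (QuotientAddGroup.mk (v c) : A ⧸ P) = 0
      rw [← QuotientAddGroup.mk_zsmul, QuotientAddGroup.eq_zero_iff]
      exact h2P _ (hvA c hc)
    have hmap : ∀ l : List ℕ, (l.map val).sum = QuotientAddGroup.mk ((l.map v).sum) := by
      intro l
      induction l with
      | nil => simp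
      | cons c l ih => rw [List.map_cons, List.sum_cons, ih, List.map_cons, List.sum_cons,
          QuotientAddGroup.mk_add]
    have hzero : ∀ i ∈ range n, (if (Bm b).testBit i then ((supp i).map val).sum else 0) = 0 := by
      intro i _
      by_cases hbit : (Bm b).testBit i
      · rw [if_pos hbit, hmap, QuotientAddGroup.eq_zero_iff]
        by_cases h : i < n - 1
        · simp only [supp, if_pos h]
          obtain ⟨hp, hnn, h0⟩ := hE i h
          rw [List.map_append, List.sum_append]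
          have e : ((E i).1.map v).sum + ((E i).2.map v).sum =
              (2 : ℤ) • ((E i).2.map v).sum := by
            unfold sgnSum at h0
            rw [sub_eq_zero] at h0
            rw [h0, two_smul]
          rw [e]
          exact h2P _ (hsumA _ hnn)
        · simp only [supp, if_neg h, List.map_singleton, List.sum_singleton]
          exact hv0P
      · rw [if_neg hbit]
    have key := val_eq_of_rightInverse n supp Bm hsupp hchk' val hval2 b hb
    rw [sum_eq_zero hzero] at key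
    exact (QuotientAddGroup.eq_zero_iff _).mp key
  have hAP : A' ≤ P := by
    rw [AddSubgroup.closure_le]
    rintro x ⟨b, hb, rfl⟩
    exact hvP b hb
  -- the second step: descent
  have hdesc : ∀ t : ℕ, ∀ x ∈ A', ∃ y ∈ A', x - (2 ^ t : ℤ) • y ∈ Z := by
    intro t
    induction t with
    | zero =>
      intro x hx
      exact ⟨x, hx, by rw [pow_zero, one_smul, sub_self]; exact Z.zero_mem⟩
    | succ t ih =>
      intro x hx
      obtain ⟨y, hy, h⟩ := ih x hx
      obtain ⟨y', hy', h'⟩ := hAP hy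
      refine ⟨y', hy', ?_⟩
      have e : x - (2 ^ (t + 1) : ℤ) • y' = (x - (2 ^ t : ℤ) • y) + (2 ^ t : ℤ) • (y - (2 : ℤ) • y') := by
        rw [smul_sub, pow_succ, mul_smul]; abel
      rw [e]
      exact Z.add_mem h (Z.zsmul_mem h' _)
  have hAZ : ∀ x ∈ A', x ∈ Z := by
    intro x hx
    obtain ⟨y, _, h⟩ := hdesc a x hx
    rwa [h2 y, sub_zero] at h
  refine ⟨fun b hb => hAZ _ (hvA b hb), ?_⟩
  -- the third step: modulo four
  let H : AddSubgroup A :=
    { carrier := {x | ∃ y ∈ A', x = (4 : ℤ) • y}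
      zero_mem' := ⟨0, A'.zero_mem, by rw [smul_zero]⟩
      add_mem' := by
        rintro x x' ⟨y, hy, rfl⟩ ⟨y', hy', rfl⟩
        exact ⟨y + y', A'.add_mem hy hy', by rw [smul_add]⟩
      neg_mem' := by
        rintro x ⟨y, hy, rfl⟩
        exact ⟨-y, A'.neg_mem hy, by rw [smul_neg]⟩ }
  let val : ℕ → A ⧸ H := fun c => QuotientAddGroup.mk (v c)
  have hval4 : ∀ c < n, (4 : ℤ) • val c = 0 := by
    intro c hc
    show (4 : ℤ) • (QuotientAddGroup.mk (v c) : A ⧸ H) = 0
    rw [← QuotientAddGroup.mk_zsmul, QuotientAddGroup.eq_zero_iff]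
    exact ⟨v c, hvA c hc, rfl⟩
  have hmap : ∀ l : List ℕ, (l.map val).sum = QuotientAddGroup.mk ((l.map v).sum) := by
    intro l
    induction l with
    | nil => simp
    | cons c l ih => rw [List.map_cons, List.sum_cons, ih, List.map_cons, List.sum_cons,
        QuotientAddGroup.mk_add]
  have hys' : ∀ q ∈ ys, (∀ b ∈ q.1.1, b < n) ∧ (∀ b ∈ q.1.2, b < n) ∧
      sgnSum val q.1.1 q.1.2 = 0 := by
    intro q hq
    obtain ⟨hp, hnn, h0⟩ := hys q hq
    refine ⟨hp, hnn, ?_⟩
    unfold sgnSum at h0 ⊢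
    rw [hmap, hmap, ← QuotientAddGroup.mk_sub, h0]
    rfl
  have h4 := two_smul_eq_zero_of_comb n val hval4 ys hys' b0 hb0 hfin
  have h5 : (2 : ℤ) • v b0 ∈ H := by
    have : (2 : ℤ) • val b0 = QuotientAddGroup.mk ((2 : ℤ) • v b0) := by
      show (2 : ℤ) • (QuotientAddGroup.mk (v b0) : A ⧸ H) = _
      rw [QuotientAddGroup.mk_zsmul]
    rw [this] at h4
    exact (QuotientAddGroup.eq_zero_iff _).mp h4
  obtain ⟨y, hy, hy2⟩ := h5
  obtain ⟨k, hk⟩ := AddSubgroup.mem_zmultiples_iff.mp (hAZ y hy)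
  -- `2 v₀ = 4 k v₀`
  have h6 : (1 - 2 * k) • ((2 : ℤ) • v b0) = 0 := by
    rw [sub_smul, one_smul, mul_smul, smul_comm k (2 : ℤ) (v b0), hk, ← mul_smul, hy2]
    norm_num
  exact eq_zero_of_odd_smul a h2 (1 - 2 * k) ⟨-k, by ring⟩ _ h6

end main

end Cfsg.Agent.Lib.Helper1.StemZC
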