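import Mathlib
import Cfsg.Agent.Lib.Helper1.StemZC2
import Cfsg.Agent.Lib.Helper1.StemZA4

set_option autoImplicit false

/-! Labelled actions with labels in a commutative 2-group: the sparse certificate (a right
inverse modulo two and a combination modulo four) and the group side. -/

namespace Cfsg.Agent.Lib.Helper1.StemZC

open Cfsg.Agent.Lib.Helper1.MatCode Cfsg.Agent.Lib.Helper1.Stem Cfsg.Agent.Lib.Helper1.StemSA
  Cfsg.Agent.Lib.Helper1.StemZLin Cfsg.Agent.Lib.Helper1.StemLin Cfsg.Agent.Lib.Helper1.StemZA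

/-- the certificate: the equations of the square system, the distinguished unknown, the masks of
the right inverse modulo two, the combination modulo four -/
structure ZCCert where
  specs : List (ℕ × ℕ)
  b0 : ℕ
  Bm : ℕ → ℕ
  ys : List ((ℕ × ℕ) × ℕ)

variable (D : SAData) (C : ZCCert)

/-- the unknowns of an equation are within range -/
def chkRangeS (s : ℕ × ℕ) : Bool :=
  ((posL D s).all fun b => decide (b < D.n)) && ((negL D s).all fun b => decide (b < D.n))

/-- the equations from the index `idx` on have the masks as right inverse -/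
def chkInvC : List (ℕ × ℕ) → ℕ → Bool
  | [], _ => true
  | s :: ss, idx => (xorOf C.Bm (posL D s ++ negL D s) == 1 <<< idx) && chkInvC ss (idx + 1)

/-- the check of the certificate -/
def chkCertC : Bool :=
  (C.specs.length + 1 == D.n) && C.specs.all D.chkSpec && C.specs.all (chkRangeS D) &&
  decide (C.b0 < D.n) && chkInvC D C C.specs 0 && (C.Bm C.b0 == 1 <<< (D.n - 1)) &&
  (C.ys.all fun q => D.chkSpec q.1 && chkRangeS D q.1) &&
  ((C.ys.map fun q => ((posL D q.1, negL D q.1), q.2)).foldl addEq (0, 0) == (0, 1 <<< C.b0))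

theorem chkInvC_sound (ss : List (ℕ × ℕ)) (idx : ℕ) (h : chkInvC D C ss idx = true) (i : ℕ)
    (hi : i < ss.length) :
    xorOf C.Bm (posL D (ss.getD i (0, 0)) ++ negL D (ss.getD i (0, 0))) = 1 <<< (idx + i) := by
  induction ss generalizing idx i with
  | nil => simp at hi
  | cons s ss ih =>
    unfold chkInvC at h
    rw [Bool.and_eq_true, beq_iff_eq] at h
    cases i with
    | zero => simpa using h.1
    | succ i =>
      have := ih (idx + 1) h.2 i (by simpa using hi)
      rw [List.getD_cons_succ]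
      rw [this]
      congr 1
      omega

section sound

variable {M : Type*} [AddCommGroup M] (v : ℕ → M) (hC : chkCertC D C = true)
  (hE : ∀ s : ℕ × ℕ, D.chkSpec s = true → sgnSum v (posL D s) (negL D s) = 0)
include hC hE

theorem cert_vals (a : ℕ) (h2 : ∀ x : M, (2 ^ a : ℤ) • x = 0) :
    C.b0 < D.n ∧ (∀ b < D.n, v b ∈ AddSubgroup.zmultiples (v C.b0)) ∧ (2 : ℤ) • v C.b0 = 0 := by
  unfold chkCertC at hC
  simp only [Bool.and_eq_true, List.all_eq_true, decide_eq_true_eq, beq_iff_eq] at hC
  obtain ⟨⟨⟨⟨⟨⟨⟨h1, h2'⟩, h3⟩, h4⟩, h5⟩, h6⟩, h7⟩, h8⟩ := hC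
  have hn : 0 < D.n := by omega
  have hlen : C.specs.length = D.n - 1 := by omega
  have hmem : ∀ i < D.n - 1, C.specs.getD i (0, 0) ∈ C.specs := by
    intro i hi
    rw [List.getD_eq_getElem _ _ (by omega)]; exact List.getElem_mem _
  have hrange : ∀ s : ℕ × ℕ, chkRangeS D s = true →
      (∀ b ∈ posL D s, b < D.n) ∧ (∀ b ∈ negL D s, b < D.n) := by
    intro s hs
    unfold chkRangeS at hs
    simp only [Bool.and_eq_true, List.all_eq_true, decide_eq_true_eq] at hs
    exact hs
  obtain ⟨hv, h2v⟩ := cyclic_two_of_cert a h2 D.n hn v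
    (fun i => (posL D (C.specs.getD i (0, 0)), negL D (C.specs.getD i (0, 0)))) C.b0 h4 C.Bm
    (fun i hi => ⟨(hrange _ (h3 _ (hmem i hi))).1, (hrange _ (h3 _ (hmem i hi))).2,
      hE _ (h2' _ (hmem i hi))⟩)
    (fun i hi => by
      have := chkInvC_sound D C C.specs 0 h5 i (by omega)
      rw [zero_add] at this
      exact this)
    h6
    (C.ys.map fun q => ((posL D q.1, negL D q.1), q.2))
    (by
      intro q hq
      rw [List.mem_map] at hq
      obtain ⟨q', hq', rfl⟩ := hq
      obtain ⟨h9, h10⟩ := h7 q' hq'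
      exact ⟨(hrange _ h10).1, (hrange _ h10).2, hE _ h9⟩)
    h8
  exact ⟨h4, hv, h2v⟩

end sound

section group

variable {Γ G Y A : Type*} [Group Γ] [Group G] [MulAction G Y] [AddCommGroup A]
    (σ : Γ →* G) (pt : ℕ → Y) (X : List Γ) (κ : Γ → A)

variable (hS : D.chkStruct = true) (H : ZAHyp D σ pt X κ)
include hS H

/-- the images of the kernel under `κ` lie in a cyclic subgroup of order at most two -/
theorem zc_main [Finite Γ] (hC : chkCertC D C = true) (hm : 0 < D.m) (a : ℕ)
    (h2 : ∀ x : A, (2 ^ a : ℤ) • x = 0) :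
    ∃ a₀ : A, (2 : ℤ) • a₀ = 0 ∧ ∀ c : Γ, σ c = 1 → κ c ∈ AddSubgroup.zmultiples a₀ := by
  set v := val D X κ with hv
  have hE : ∀ s : ℕ × ℕ, D.chkSpec s = true → sgnSum v (posL D s) (negL D s) = 0 :=
    fun s hs => spec_ok D σ pt X κ hS H s hs
  obtain ⟨hb0, hval, h2v⟩ := cert_vals D C v hC hE a h2
  refine ⟨v C.b0, h2v, ?_⟩
  have hlam : ∀ i < D.k, ∀ j < D.m, lam D X κ i j ∈ AddSubgroup.zmultiples (v C.b0) := by
    intro i hi j hj
    have hb : i * D.m + j < D.n := by
      have : i * D.m + j < D.k * D.m := by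
        calc i * D.m + j < i * D.m + D.m := by omega
          _ = (i + 1) * D.m := by ring
          _ ≤ D.k * D.m := Nat.mul_le_mul_right _ hi
      unfold SAData.n; omega
    have := hval _ hb
    rwa [hv, val_edge D X κ i j hi hj] at this
  set A₀ := AddSubgroup.zmultiples (v C.b0) with hA₀
  let S : Subgroup Γ :=
    { carrier := {g | ∀ j < D.m, ∃ j' < D.m, σ g • pt j = pt j' ∧
        κ ((tt D X j')⁻¹ * g * tt D X j) ∈ A₀}
      one_mem' := by
        intro j hj
        refine ⟨j, hj, by rw [map_one, one_smul], ?_⟩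
        rw [mul_one, inv_mul_cancel, kap_one D σ pt X κ H]; exact A₀.zero_mem
      mul_mem' := by
        intro g h hg hh j hj
        obtain ⟨j', hj', h1, h2'⟩ := hh j hj
        obtain ⟨j'', hj'', h3, h4⟩ := hg j' hj'
        refine ⟨j'', hj'', by rw [map_mul, mul_smul, h1, h3], ?_⟩
        have e : (tt D X j'')⁻¹ * (g * h) * tt D X j =
            ((tt D X j'')⁻¹ * g * tt D X j') * ((tt D X j')⁻¹ * h * tt D X j) := by group
        rw [e, H.kap_mul _ _ (inK_of_act D σ pt X κ hS H g _ _ hj' hj'' h3)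
          (inK_of_act D σ pt X κ hS H h _ _ hj hj' h1)]
        exact A₀.add_mem h4 h2'
      inv_mem' := by
        intro g hg
        have hpow : ∀ n : ℕ, ∀ j < D.m, ∃ j' < D.m, σ (g ^ n) • pt j = pt j' ∧
            κ ((tt D X j')⁻¹ * g ^ n * tt D X j) ∈ A₀ := by
          intro n
          induction n with
          | zero =>
            intro j hj
            refine ⟨j, hj, by rw [pow_zero, map_one, one_smul], ?_⟩
            rw [pow_zero, mul_one, inv_mul_cancel, kap_one D σ pt X κ H]; exact A₀.zero_mem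
          | succ n ih =>
            intro j hj
            obtain ⟨j', hj', h1, h2'⟩ := ih j hj
            obtain ⟨j'', hj'', h3, h4⟩ := hg j' hj'
            refine ⟨j'', hj'', by rw [pow_succ', map_mul, mul_smul, h1, h3], ?_⟩
            have e : (tt D X j'')⁻¹ * g ^ (n + 1) * tt D X j =
                ((tt D X j'')⁻¹ * g * tt D X j') * ((tt D X j')⁻¹ * g ^ n * tt D X j) := by
              rw [pow_succ']; group
            rw [e, H.kap_mul _ _ (inK_of_act D σ pt X κ hS H g _ _ hj' hj'' h3)
              (inK_of_act D σ pt X κ hS H (g ^ n) _ _ hj hj' h1)]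
            exact A₀.add_mem h4 h2'
        have hinv : g⁻¹ = g ^ (orderOf g - 1) := by
          apply inv_eq_of_mul_eq_one_right
          rw [← pow_succ', Nat.sub_add_cancel (orderOf_pos g), pow_orderOf_eq_one]
        show ∀ j < D.m, _
        rw [hinv]
        exact hpow _ }
  have hgen : ∀ i < D.k, X.getD i 1 ∈ S := by
    intro i hi j hj
    exact ⟨D.pi i j, pi_lt D hS i j hi hj, H.pi_act i hi j hj, hlam i hi j hj⟩
  have htop : ∀ g : Γ, g ∈ S := by
    intro g
    have h1 : Subgroup.closure {g | ∃ i < D.k, g = X.getD i 1} ≤ S := by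
      rw [Subgroup.closure_le]
      rintro g ⟨i, hi, rfl⟩
      exact hgen i hi
    exact h1 (H.gen g)
  intro c hc
  obtain ⟨j', hj', h1, h2'⟩ := htop c 0 hm
  rw [hc, one_smul] at h1
  have h0 : j' = 0 := H.pt_zero j' hj' h1.symm
  rw [h0, tt_zero, inv_one, one_mul, mul_one] at h2'
  exact h2'

end group

end Cfsg.Agent.Lib.Helper1.StemZC
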