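import Mathlib
import Cfsg.Agent.Lib.Helper1.StemLin
import Cfsg.Agent.Lib.Helper1.StemZLin

set_option autoImplicit false

/-! Combinations of sparse equations modulo a power of two, computed on vectors packed in one
natural number with digits in base `2 ^ 32`. -/

namespace Cfsg.Agent.Lib.Helper1.StemZD

open Finset Cfsg.Agent.Lib.Helper1.StemLin Cfsg.Agent.Lib.Helper1.StemZLin

/-- the base of the packed vectors -/
def X : ℕ := 2 ^ 32

theorem X_pos : 0 < X := by unfold X; positivity

/-- extraction of the digits of a packed vector -/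
theorem digit_sum (f : ℕ → ℕ) (n : ℕ) (hf : ∀ c < n, f c < X) :
    (∑ i ∈ range n, f i * X ^ i) < X ^ n ∧
      ∀ c < n, (∑ i ∈ range n, f i * X ^ i) / X ^ c % X = f c := by
  induction n with
  | zero => exact ⟨by simp, fun c hc => absurd hc (Nat.not_lt_zero c)⟩
  | succ n ih =>
    obtain ⟨h1, h2⟩ := ih (fun c hc => hf c (by omega))
    have hfn : f n < X := hf n (by omega)
    have hXn : 0 < X ^ n := pow_pos X_pos n
    rw [sum_range_succ]
    constructor
    · calc (∑ i ∈ range n, f i * X ^ i) + f n * X ^ n < X ^ n + f n * X ^ n := by omega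
        _ = (f n + 1) * X ^ n := by ring
        _ ≤ X * X ^ n := Nat.mul_le_mul_right _ (by omega)
        _ = X ^ (n + 1) := by rw [pow_succ']
    · intro c hc
      by_cases hcn : c < n
      · have e : f n * X ^ n = (f n * X ^ (n - c)) * X ^ c := by
          rw [mul_assoc, ← pow_add, Nat.sub_add_cancel (by omega)]
        rw [e, Nat.add_mul_div_right _ _ (pow_pos X_pos c)]
        have e2 : f n * X ^ (n - c) = (f n * X ^ (n - c - 1)) * X := by
          rw [mul_assoc, ← pow_succ, Nat.sub_add_cancel (by omega)]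
        rw [e2, Nat.add_mul_mod_self_right]
        exact h2 c hcn
      · have hcn' : c = n := by omega
        subst hcn'
        rw [Nat.add_mul_div_right _ _ hXn, Nat.div_eq_of_lt h1, zero_add, Nat.mod_eq_of_lt hfn]

/-- the coefficient of the position `c` in a list of contributions -/
def coefF (l : List (ℕ × ℕ)) (c : ℕ) : ℕ := (l.map fun e => if e.1 = c then e.2 else 0).sum

/-- the packed vector of a list of contributions -/
def packSum (l : List (ℕ × ℕ)) : ℕ := (l.map fun e => e.2 * X ^ e.1).sum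

theorem packSum_eq (l : List (ℕ × ℕ)) (n : ℕ) (hl : ∀ e ∈ l, e.1 < n) :
    packSum l = ∑ c ∈ range n, coefF l c * X ^ c := by
  induction l with
  | nil => simp [packSum, coefF]
  | cons e l ih =>
    have he : e.1 < n := hl e (by simp)
    have ih' := ih (fun e' he' => hl e' (by simp [he']))
    unfold packSum coefF at *
    rw [List.map_cons, List.sum_cons, ih']
    simp only [List.map_cons, List.sum_cons, add_mul, sum_add_distrib]
    congr 1
    have : ∀ c ∈ range n, (if e.1 = c then e.2 else 0) * X ^ c =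
        if e.1 = c then e.2 * X ^ e.1 else 0 := by
      intro c _
      by_cases h : e.1 = c
      · subst h; simp
      · simp [h]
    rw [sum_congr rfl this, sum_ite_eq (range n) e.1 (fun _ => e.2 * X ^ e.1),
      if_pos (mem_range.mpr he)]

theorem coefF_le (l : List (ℕ × ℕ)) (c : ℕ) : coefF l c ≤ (l.map fun e => e.2).sum := by
  induction l with
  | nil => simp [coefF]
  | cons e l ih =>
    unfold coefF at *
    simp only [List.map_cons, List.sum_cons]
    by_cases h : e.1 = c
    · rw [if_pos h]; omega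
    · rw [if_neg h]; omega

section sem

variable {M : Type*} [AddCommGroup M]

/-- the combination of the values coded by a list of contributions -/
def semSum (v : ℕ → M) (l : List (ℕ × ℕ)) : M := (l.map fun e => (e.2 : ℤ) • v e.1).sum

theorem semSum_eq (v : ℕ → M) (l : List (ℕ × ℕ)) (n : ℕ) (hl : ∀ e ∈ l, e.1 < n) :
    semSum v l = ∑ c ∈ range n, (coefF l c : ℤ) • v c := by
  induction l with
  | nil => simp [semSum, coefF]
  | cons e l ih =>
    have he : e.1 < n := hl e (by simp)
    have ih' := ih (fun e' he' => hl e' (by simp [he']))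
    unfold semSum coefF at *
    rw [List.map_cons, List.sum_cons, ih']
    simp only [List.map_cons, List.sum_cons, Nat.cast_add, add_smul, sum_add_distrib]
    congr 1
    have : ∀ c ∈ range n, (((if e.1 = c then e.2 else 0 : ℕ) : ℤ)) • v c =
        if e.1 = c then (e.2 : ℤ) • v e.1 else 0 := by
      intro c _
      by_cases h : e.1 = c
      · subst h; simp
      · simp [h]
    rw [sum_congr rfl this, sum_ite_eq (range n) e.1 (fun _ => (e.2 : ℤ) • v e.1),
      if_pos (mem_range.mpr he)]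

theorem semSum_append (v : ℕ → M) (l l' : List (ℕ × ℕ)) :
    semSum v (l ++ l') = semSum v l + semSum v l' := by
  unfold semSum
  rw [List.map_append, List.sum_append]

theorem semSum_map_const (v : ℕ → M) (l : List ℕ) (y : ℕ) :
    semSum v (l.map fun b => (b, y)) = (y : ℤ) • (l.map v).sum := by
  unfold semSum
  rw [List.map_map, List.smul_sum, List.map_map]
  rfl

/-- the contributions of `y` times an equation, modulo `2 ^ s` -/
def eqEntries (s : ℕ) (q : (List ℕ × List ℕ) × ℕ) : List (ℕ × ℕ) :=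
  (q.1.1.map fun b => (b, q.2)) ++ (q.1.2.map fun b => (b, 2 ^ s - q.2))

/-- the contributions of a combination of equations -/
def allEntries (s : ℕ) (ys : List ((List ℕ × List ℕ) × ℕ)) : List (ℕ × ℕ) :=
  ys.flatMap (eqEntries s)

theorem mem_allEntries_lt (s n : ℕ) (ys : List ((List ℕ × List ℕ) × ℕ))
    (hys : ∀ q ∈ ys, (∀ b ∈ q.1.1, b < n) ∧ (∀ b ∈ q.1.2, b < n)) :
    ∀ e ∈ allEntries s ys, e.1 < n := by
  intro e he
  unfold allEntries at he
  rw [List.mem_flatMap] at he
  obtain ⟨q, hq, heq⟩ := he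
  unfold eqEntries at heq
  rw [List.mem_append, List.mem_map, List.mem_map] at heq
  rcases heq with ⟨b, hb, rfl⟩ | ⟨b, hb, rfl⟩
  · exact (hys q hq).1 b hb
  · exact (hys q hq).2 b hb

theorem semSum_eqEntries (s : ℕ) (v : ℕ → M) (q : (List ℕ × List ℕ) × ℕ) (hq : q.2 ≤ 2 ^ s)
    (h0 : sgnSum v q.1.1 q.1.2 = 0) :
    semSum v (eqEntries s q) = ((2 : ℤ) ^ s) • (q.1.2.map v).sum := by
  unfold eqEntries
  rw [semSum_append, semSum_map_const, semSum_map_const]
  unfold sgnSum at h0
  rw [sub_eq_zero] at h0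
  rw [h0, ← add_smul]
  congr 1
  push_cast [hq]
  ring

theorem semSum_allEntries (s n : ℕ) (v : ℕ → M) (A' : AddSubgroup M) (hv : ∀ b < n, v b ∈ A')
    (ys : List ((List ℕ × List ℕ) × ℕ))
    (hys : ∀ q ∈ ys, (∀ b ∈ q.1.1, b < n) ∧ (∀ b ∈ q.1.2, b < n) ∧
      sgnSum v q.1.1 q.1.2 = 0 ∧ q.2 ≤ 2 ^ s) :
    ∃ z ∈ A', semSum v (allEntries s ys) = ((2 : ℤ) ^ s) • z := by
  induction ys with
  | nil => exact ⟨0, A'.zero_mem, by simp [allEntries, semSum]⟩
  | cons q ys ih =>
    obtain ⟨z, hz, hzz⟩ := ih (fun q' hq' => hys q' (by simp [hq']))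
    obtain ⟨_, h2, h3, h4⟩ := hys q (by simp)
    refine ⟨(q.1.2.map v).sum + z, A'.add_mem ?_ hz, ?_⟩
    · apply AddSubgroup.list_sum_mem
      intro x hx
      rw [List.mem_map] at hx
      obtain ⟨b, hb, rfl⟩ := hx
      exact hv b (h2 b hb)
    · unfold allEntries at hzz ⊢
      rw [List.flatMap_cons, semSum_append, hzz, semSum_eqEntries s v q h4 h3, smul_add]

/-- the conclusion of a combination modulo `2 ^ s` equal to `2 ^ e` times a unit vector -/
theorem pow_smul_mem_of_comb (s e n : ℕ) (hs : s ≤ 32) (he : e < s) (v : ℕ → M)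
    (A' : AddSubgroup M) (hv : ∀ b < n, v b ∈ A') (ys : List ((List ℕ × List ℕ) × ℕ))
    (hys : ∀ q ∈ ys, (∀ b ∈ q.1.1, b < n) ∧ (∀ b ∈ q.1.2, b < n) ∧
      sgnSum v q.1.1 q.1.2 = 0 ∧ q.2 ≤ 2 ^ s)
    (b0 : ℕ) (hb0 : b0 < n) (hT : ((allEntries s ys).map fun e => e.2).sum < X)
    (hchk : ∀ c < n, packSum (allEntries s ys) / X ^ c % 2 ^ s = if c = b0 then 2 ^ e else 0) :
    ∃ y ∈ A', ((2 : ℤ) ^ e) • v b0 = ((2 : ℤ) ^ s) • y := by
  set l := allEntries s ys with hl
  have hlt : ∀ e' ∈ l, e'.1 < n :=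
    mem_allEntries_lt s n ys (fun q hq => ⟨(hys q hq).1, (hys q hq).2.1⟩)
  have hcoef : ∀ c < n, coefF l c < X := fun c _ => lt_of_le_of_lt (coefF_le l c) hT
  obtain ⟨_, hdig⟩ := digit_sum (coefF l) n hcoef
  rw [← packSum_eq l n hlt] at hdig
  have hdvd : 2 ^ s ∣ X := by unfold X; exact pow_dvd_pow 2 hs
  have hmod : ∀ c < n, coefF l c % 2 ^ s = if c = b0 then 2 ^ e else 0 := by
    intro c hc
    rw [← hdig c hc, Nat.mod_mod_of_dvd _ hdvd]
    exact hchk c hc
  obtain ⟨z, hz, hzz⟩ := semSum_allEntries s n v A' hv ys hys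
  rw [semSum_eq v l n hlt] at hzz
  -- split the coefficients
  have hsplit : ∀ c ∈ range n, (coefF l c : ℤ) • v c =
      (if c = b0 then ((2 : ℤ) ^ e) • v c else 0) +
        ((2 : ℤ) ^ s) • (((coefF l c / 2 ^ s : ℕ) : ℤ) • v c) := by
    intro c hc
    have h1 := Nat.div_add_mod (coefF l c) (2 ^ s)
    rw [hmod c (mem_range.mp hc)] at h1
    have h2 : (coefF l c : ℤ) = (2 : ℤ) ^ s * ((coefF l c / 2 ^ s : ℕ) : ℤ) +
        (if c = b0 then (2 : ℤ) ^ e else 0) := by
      have h3 : ((2 ^ s * (coefF l c / 2 ^ s) + (if c = b0 then 2 ^ e else 0) : ℕ) : ℤ) =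
          (coefF l c : ℤ) := by rw [h1]
      rw [← h3]
      by_cases hcb : c = b0 <;> simp [hcb]
    rw [h2, add_smul, mul_smul, add_comm]
    by_cases hcb : c = b0 <;> simp [hcb]
  rw [sum_congr rfl hsplit, sum_add_distrib, sum_ite_eq' (range n) b0
    (fun c => ((2 : ℤ) ^ e) • v c), if_pos (mem_range.mpr hb0), ← smul_sum] at hzz
  refine ⟨z - ∑ c ∈ range n, ((coefF l c / 2 ^ s : ℕ) : ℤ) • v c, A'.sub_mem hz ?_, ?_⟩
  · apply AddSubgroup.sum_mem
    intro c hc
    exact A'.zsmul_mem (hv c (mem_range.mp hc)) _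
  · rw [smul_sub, ← hzz]
    abel

end sem

end Cfsg.Agent.Lib.Helper1.StemZD
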