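import Mathlib
import Cfsg.Agent.Lib.Helper1.StemZD1
import Cfsg.Agent.Lib.Helper1.StemZC1
import Cfsg.Agent.Lib.Helper1.StemZA4

set_option autoImplicit false

/-! Values of unknowns in a finite commutative 2-group: a square system with a right inverse
modulo two, whose last rows are unit vectors, shows that the values of the corresponding unknowns
generate; relations modulo a power of two then bound the order of the subgroup generated. -/

namespace Cfsg.Agent.Lib.Helper1.StemZD

open Finset Cfsg.Agent.Lib.Helper1.StemLin Cfsg.Agent.Lib.Helper1.StemZLin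
  Cfsg.Agent.Lib.Helper1.StemZC Cfsg.Agent.Lib.Helper1.StemZA

section card

variable {A : Type*} [AddCommGroup A] [Finite A]

theorem card_sup_le (H K : AddSubgroup A) : Nat.card ↥(H ⊔ K) ≤ Nat.card H * Nat.card K := by
  rw [← Nat.card_prod]
  let f : H × K → ↥(H ⊔ K) := fun p =>
    ⟨p.1.1 + p.2.1, AddSubgroup.add_mem_sup p.1.2 p.2.2⟩
  apply Nat.card_le_card_of_surjective f
  rintro ⟨x, hx⟩
  obtain ⟨y, hy, z, hz, rfl⟩ := AddSubgroup.mem_sup.mp hx
  exact ⟨(⟨y, hy⟩, ⟨z, hz⟩), rfl⟩

theorem card_zmultiples_le (x : A) (e : ℕ) (h : ((2 : ℤ) ^ e) • x = 0) :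
    Nat.card (AddSubgroup.zmultiples x) ≤ 2 ^ e := by
  rw [Nat.card_zmultiples]
  apply Nat.le_of_dvd (by positivity)
  apply addOrderOf_dvd_of_nsmul_eq_zero
  have e4 : ((2 : ℤ) ^ e) = ((2 ^ e : ℕ) : ℤ) := by push_cast; rfl
  rw [e4, natCast_zsmul] at h
  exact h

/-- the order of the subgroup generated by elements killed by powers of two -/
theorem card_closure_le (L : List A) (es : List ℕ) (hlen : es.length = L.length)
    (h : ∀ j < L.length, ((2 : ℤ) ^ es.getD j 0) • L.getD j 0 = 0) :
    Nat.card (AddSubgroup.closure {x | x ∈ L}) ≤ 2 ^ es.sum := by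
  induction L generalizing es with
  | nil =>
    have : ({x | x ∈ ([] : List A)} : Set A) = ∅ := by ext; simp
    rw [this, AddSubgroup.closure_empty]
    simp only [AddSubgroup.card_bot]
    exact Nat.one_le_two_pow
  | cons x L ih =>
    cases es with
    | nil => simp at hlen
    | cons e es =>
      have hset : ({y | y ∈ x :: L} : Set A) = {x} ∪ {y | y ∈ L} := by
        ext y; simp
      rw [hset, AddSubgroup.closure_union, ← AddSubgroup.zmultiples_eq_closure]
      refine (card_sup_le _ _).trans ?_
      rw [List.sum_cons, pow_add]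
      apply Nat.mul_le_mul
      · exact card_zmultiples_le x e (by simpa using h 0 (by simp))
      · apply ih es (by simpa using hlen)
        intro j hj
        have := h (j + 1) (by simpa using hj)
        simpa using this

end card

section main

variable {A : Type*} [AddCommGroup A] [Finite A]

/-- the values generate a subgroup of bounded order -/
theorem card_le_of_cert (a : ℕ) (h2 : ∀ x : A, ((2 : ℤ) ^ a) • x = 0) (n : ℕ) (v : ℕ → A)
    (E : ℕ → List ℕ × List ℕ) (bs : List ℕ) (hr : bs.length ≤ n) (hbs : ∀ b ∈ bs, b < n)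
    (Bm : ℕ → ℕ)
    (hE : ∀ i < n - bs.length, (∀ b ∈ (E i).1, b < n) ∧ (∀ b ∈ (E i).2, b < n) ∧
      sgnSum v (E i).1 (E i).2 = 0)
    (hchk : ∀ i < n - bs.length, xorOf Bm ((E i).1 ++ (E i).2) = 1 <<< i)
    (hchk0 : ∀ j < bs.length, Bm (bs.getD j 0) = 1 <<< (n - bs.length + j))
    (s : ℕ) (es : List ℕ) (hes : es.length = bs.length) (hlt : ∀ e ∈ es, e < s)
    (hrel : ∀ j < bs.length, ∃ y ∈ AddSubgroup.closure {x | ∃ b < n, x = v b},
      ((2 : ℤ) ^ es.getD j 0) • v (bs.getD j 0) = ((2 : ℤ) ^ s) • y) :
    ∃ A₀ : AddSubgroup A, (∀ b < n, v b ∈ A₀) ∧ Nat.card A₀ ≤ 2 ^ es.sum := by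
  set r := bs.length with hrdef
  let A' : AddSubgroup A := AddSubgroup.closure {x | ∃ b < n, x = v b}
  have hvA : ∀ b < n, v b ∈ A' := fun b hb => AddSubgroup.subset_closure ⟨b, hb, rfl⟩
  have hsumA : ∀ l : List ℕ, (∀ b ∈ l, b < n) → (l.map v).sum ∈ A' := by
    intro l hl
    apply AddSubgroup.list_sum_mem
    intro x hx
    rw [List.mem_map] at hx
    obtain ⟨b, hb, rfl⟩ := hx
    exact hvA b (hl b hb)
  let Z : AddSubgroup A := AddSubgroup.closure {x | x ∈ bs.map v}
  have hbsget : ∀ j < r, bs.getD j 0 ∈ bs := by
    intro j hj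
    rw [List.getD_eq_getElem _ _ hj]; exact List.getElem_mem _
  have hvZ : ∀ j < r, v (bs.getD j 0) ∈ Z := by
    intro j hj
    apply AddSubgroup.subset_closure
    exact List.mem_map.mpr ⟨_, hbsget j hj, rfl⟩
  have hZA : Z ≤ A' := by
    rw [AddSubgroup.closure_le]
    intro x hx
    obtain ⟨b, hb, rfl⟩ := List.mem_map.mp hx
    exact hvA b (hbs b hb)
  -- the first step: modulo two
  let P : AddSubgroup A :=
    { carrier := {x | ∃ y ∈ A', x - (2 : ℤ) • y ∈ Z}
      zero_mem' := ⟨0, A'.zero_mem, by simp⟩
      add_mem' := by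
        rintro x x' ⟨y, hy, h⟩ ⟨y', hy', h'⟩
        refine ⟨y + y', A'.add_mem hy hy', ?_⟩
        have e : x + x' - (2 : ℤ) • (y + y') = (x - (2 : ℤ) • y) + (x' - (2 : ℤ) • y') := by
          rw [smul_add]; abel
        rw [e]; exact Z.add_mem h h'
      neg_mem' := by
        rintro x ⟨y, hy, h⟩
        refine ⟨-y, A'.neg_mem hy, ?_⟩
        have e : -x - (2 : ℤ) • (-y) = -(x - (2 : ℤ) • y) := by
          rw [smul_neg]; abel
        rw [e]; exact Z.neg_mem h }
  have hZP : Z ≤ P := fun x hx => ⟨0, A'.zero_mem, by rw [smul_zero, sub_zero]; exact hx⟩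
  have h2P : ∀ y ∈ A', (2 : ℤ) • y ∈ P := fun y hy => ⟨y, hy, by rw [sub_self]; exact Z.zero_mem⟩
  have hvP : ∀ b < n, v b ∈ P := by
    intro b hb
    let val : ℕ → A ⧸ P := fun c => QuotientAddGroup.mk (v c)
    let supp : ℕ → List ℕ := fun i =>
      if i < n - r then (E i).1 ++ (E i).2 else [bs.getD (i - (n - r)) 0]
    have hsupp : ∀ i < n, ∀ c ∈ supp i, c < n := by
      intro i hi c hc
      by_cases h : i < n - r
      · simp only [supp, if_pos h, List.mem_append] at hc
        rcases hc with hc | hc
        · exact (hE i h).1 c hc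
        · exact (hE i h).2.1 c hc
      · simp only [supp, if_neg h, List.mem_singleton] at hc
        rw [hc]; exact hbs _ (hbsget _ (by omega))
    have hchk' : ∀ i < n, xorOf Bm (supp i) = 1 <<< i := by
      intro i hi
      by_cases h : i < n - r
      · simp only [supp, if_pos h]; exact hchk i h
      · simp only [supp, if_neg h]
        have hj : i - (n - r) < r := by omega
        have := hchk0 _ hj
        have e : n - r + (i - (n - r)) = i := by omega
        rw [e] at this
        rw [← this]
        simp [xorOf]
    have hval2 : ∀ c < n, (2 : ℤ) • val c = 0 := by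
      intro c hc
      show (2 : ℤ) • (QuotientAddGroup.mk (v c) : A ⧸ P) = 0
      rw [← QuotientAddGroup.mk_zsmul, QuotientAddGroup.eq_zero_iff]
      exact h2P _ (hvA c hc)
    have hmap : ∀ l : List ℕ, (l.map val).sum = QuotientAddGroup.mk ((l.map v).sum) := by
      intro l
      induction l with
      | nil => simp
      | cons c l ih => rw [List.map_cons, List.sum_cons, ih, List.map_cons, List.sum_cons,
          QuotientAddGroup.mk_add]
    have hzero : ∀ i ∈ range n, (if (Bm b).testBit i then ((supp i).map val).sum else 0) = 0 := by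
      intro i hi
      by_cases hbit : (Bm b).testBit i
      · rw [if_pos hbit, hmap, QuotientAddGroup.eq_zero_iff]
        by_cases h : i < n - r
        · simp only [supp, if_pos h]
          obtain ⟨hp, hnn, h0⟩ := hE i h
          rw [List.map_append, List.sum_append]
          have e : ((E i).1.map v).sum + ((E i).2.map v).sum =
              (2 : ℤ) • ((E i).2.map v).sum := by
            unfold sgnSum at h0
            rw [sub_eq_zero] at h0
            rw [h0, two_smul]
          rw [e]
          exact h2P _ (hsumA _ hnn)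
        · simp only [supp, if_neg h, List.map_singleton, List.sum_singleton]
          exact hZP (hvZ _ (by have := mem_range.mp hi; omega))
      · rw [if_neg hbit]
    have key := val_eq_of_rightInverse n supp Bm hsupp hchk' val hval2 b hb
    rw [sum_eq_zero hzero] at key
    exact (QuotientAddGroup.eq_zero_iff _).mp key
  have hAP : A' ≤ P := by
    rw [AddSubgroup.closure_le]
    rintro x ⟨b, hb, rfl⟩
    exact hvP b hb
  -- the second step: descent
  have hdesc : ∀ t : ℕ, ∀ x ∈ A', ∃ y ∈ A', x - ((2 : ℤ) ^ t) • y ∈ Z := by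
    intro t
    induction t with
    | zero =>
      intro x hx
      exact ⟨x, hx, by rw [pow_zero, one_smul, sub_self]; exact Z.zero_mem⟩
    | succ t ih =>
      intro x hx
      obtain ⟨y, hy, h⟩ := ih x hx
      obtain ⟨y', hy', h'⟩ := hAP hy
      refine ⟨y', hy', ?_⟩
      have e : x - ((2 : ℤ) ^ (t + 1)) • y' =
          (x - ((2 : ℤ) ^ t) • y) + ((2 : ℤ) ^ t) • (y - (2 : ℤ) • y') := by
        rw [smul_sub, pow_succ, mul_smul]; abel
      rw [e]
      exact Z.add_mem h (Z.zsmul_mem h' _)
  have hAZ : ∀ x ∈ A', x ∈ Z := by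
    intro x hx
    obtain ⟨y, _, h⟩ := hdesc a x hx
    rwa [h2 y, sub_zero] at h
  -- the third step: the exponent
  have hes_get : ∀ j < r, es.getD j 0 < s := by
    intro j hj
    apply hlt
    rw [List.getD_eq_getElem _ _ (by omega)]; exact List.getElem_mem _
  have hkill : ∀ m : ℕ, (∀ j < r, es.getD j 0 ≤ m) → m < s → ∀ x ∈ A', ((2 : ℤ) ^ m) • x = 0 := by
    intro m hm hms
    -- every element of `2 ^ m A'` is in `2 ^ (m + 1) A'`
    have hstep : ∀ x ∈ Z, ∃ x' ∈ A', ((2 : ℤ) ^ m) • x = ((2 : ℤ) ^ (m + 1)) • x' := by
      intro x hx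
      induction hx using AddSubgroup.closure_induction with
      | mem x hx =>
        obtain ⟨b, hb, rfl⟩ := List.mem_map.mp hx
        obtain ⟨j, hj, hjb⟩ := List.getElem_of_mem hb
        have hj' : j < r := hj
        have hbj : bs.getD j 0 = b := by rw [List.getD_eq_getElem _ _ hj]; exact hjb
        obtain ⟨y, hy, hyy⟩ := hrel j hj'
        rw [hbj] at hyy
        refine ⟨((2 : ℤ) ^ (m - es.getD j 0 + (s - (m + 1)))) • y, A'.zsmul_mem hy _, ?_⟩
        have e1 : ((2 : ℤ) ^ m) = (2 : ℤ) ^ (m - es.getD j 0) * (2 : ℤ) ^ es.getD j 0 := by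
          rw [← pow_add, Nat.sub_add_cancel (hm j hj')]
        rw [e1, mul_smul, hyy, ← mul_smul, ← mul_smul]
        congr 1
        rw [← pow_add, ← pow_add]
        congr 1
        have := hm j hj'
        omega
      | zero => exact ⟨0, A'.zero_mem, by simp⟩
      | add x y _ _ hx hy =>
        obtain ⟨x', hx', h1⟩ := hx
        obtain ⟨y', hy', h2'⟩ := hy
        exact ⟨x' + y', A'.add_mem hx' hy', by rw [smul_add, smul_add, h1, h2']⟩
      | neg x _ hx =>
        obtain ⟨x', hx', h1⟩ := hx
        exact ⟨-x', A'.neg_mem hx', by rw [smul_neg, smul_neg, h1]⟩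
    have hiter : ∀ t : ℕ, ∀ x ∈ A', ∃ x' ∈ A', ((2 : ℤ) ^ m) • x = ((2 : ℤ) ^ (m + t)) • x' := by
      intro t
      induction t with
      | zero => intro x hx; exact ⟨x, hx, rfl⟩
      | succ t ih =>
        intro x hx
        obtain ⟨x', hx', h1⟩ := ih x hx
        obtain ⟨x'', hx'', h2'⟩ := hstep x' (hAZ x' hx')
        refine ⟨x'', hx'', ?_⟩
        have e : ((2 : ℤ) ^ (m + t)) = (2 : ℤ) ^ t * (2 : ℤ) ^ m := by rw [← pow_add, add_comm]
        rw [h1, e, mul_smul, h2', ← mul_smul, ← pow_add]
        congr 2
        omega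
    intro x hx
    obtain ⟨x', _, h1⟩ := hiter a x hx
    have e : ((2 : ℤ) ^ (m + a)) = (2 : ℤ) ^ m * (2 : ℤ) ^ a := by rw [pow_add]
    rw [h1, e, mul_smul, h2 x', smul_zero]
  -- the maximum of the exponents
  obtain ⟨m, hm1, hm2⟩ : ∃ m, (∀ j < r, es.getD j 0 ≤ m) ∧ (m < s ∨ r = 0) := by
    by_cases hr0 : r = 0
    · exact ⟨0, fun j hj => by omega, Or.inr hr0⟩
    · refine ⟨(List.range r).foldr (fun j acc => max (es.getD j 0) acc) 0, ?_, Or.inl ?_⟩
      · intro j hj
        have : ∀ k : ℕ, j < k → es.getD j 0 ≤
            (List.range k).foldr (fun j acc => max (es.getD j 0) acc) 0 := by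
          intro k hk
          induction k with
          | zero => omega
          | succ k ih =>
            rw [List.range_succ, List.foldr_append]
            simp only [List.foldr_cons, List.foldr_nil]
            by_cases hjk : j = k
            · subst hjk
              have : ∀ (l : List ℕ) (c : ℕ), c ≤ l.foldr (fun j acc => max (es.getD j 0) acc) c := by
                intro l
                induction l with
                | nil => intro c; exact le_rfl
                | cons x l ih' => intro c; simp only [List.foldr_cons]; exact le_trans (ih' c) (le_max_right _ _)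
              exact le_trans (le_max_left _ _) (this _ _)
            · have h3 := ih (by omega)
              have hmono : ∀ (l : List ℕ) (c c' : ℕ), c ≤ c' →
                  l.foldr (fun j acc => max (es.getD j 0) acc) c ≤
                    l.foldr (fun j acc => max (es.getD j 0) acc) c' := by
                intro l
                induction l with
                | nil => intro c c' h; exact h
                | cons x l ih' =>
                  intro c c' h
                  simp only [List.foldr_cons]
                  exact max_le_max le_rfl (ih' c c' h)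
              exact le_trans h3 (hmono _ _ _ (Nat.zero_le _))
        exact this r hj
      · have : ∀ k : ℕ, k ≤ r → 0 < s →
            (List.range k).foldr (fun j acc => max (es.getD j 0) acc) 0 < s := by
          intro k hk hs0
          induction k with
          | zero => simpa using hs0
          | succ k ih =>
            rw [List.range_succ, List.foldr_append]
            simp only [List.foldr_cons, List.foldr_nil]
            have hlt' : ∀ (l : List ℕ) (c : ℕ), c < s → (∀ j ∈ l, j < r) →
                l.foldr (fun j acc => max (es.getD j 0) acc) c < s := by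
              intro l
              induction l with
              | nil => intro c hc _; exact hc
              | cons x l ih' =>
                intro c hc hl
                simp only [List.foldr_cons]
                exact max_lt (hes_get x (hl x (by simp))) (ih' c hc (fun j hj => hl j (by simp [hj])))
            apply hlt'
            · exact max_lt (hes_get k (by omega)) hs0
            · intro j hj
              rw [List.mem_range] at hj
              omega
        have hs0 : 0 < s := by
          have := hes_get 0 (by omega)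
          omega
        exact this r le_rfl hs0
  -- the relations
  have hrel0 : ∀ j < r, ((2 : ℤ) ^ es.getD j 0) • v (bs.getD j 0) = 0 := by
    intro j hj
    rcases hm2 with hms | hr0
    · obtain ⟨y, hy, hyy⟩ := hrel j hj
      rw [hyy]
      have e : ((2 : ℤ) ^ s) = (2 : ℤ) ^ (s - m) * (2 : ℤ) ^ m := by
        rw [← pow_add, Nat.sub_add_cancel (le_of_lt hms)]
      rw [e, mul_smul, hkill m hm1 hms y hy, smul_zero]
    · omega
  refine ⟨Z, fun b hb => hAZ _ (hvA b hb), ?_⟩
  apply card_closure_le (bs.map v) es (by rw [List.length_map]; exact hes)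
  intro j hj
  rw [List.length_map] at hj
  have : (bs.map v).getD j 0 = v (bs.getD j 0) := by
    rw [List.getD_eq_getElem _ _ (by rw [List.length_map]; exact hj), List.getElem_map,
      List.getD_eq_getElem _ _ hj]
  rw [this]
  exact hrel0 j hj

end main

end Cfsg.Agent.Lib.Helper1.StemZD
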