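import Mathlib
import Cfsg.Agent.Lib.Helper1.StemZD2
import Cfsg.Agent.Lib.Helper1.StemZC3

set_option autoImplicit false

/-! Labelled actions with labels in a finite commutative 2-group: the sparse certificate with
several distinguished unknowns (a right inverse modulo two and one combination modulo a power of
two for each distinguished unknown) and the group side. -/

namespace Cfsg.Agent.Lib.Helper1.StemZD

open Cfsg.Agent.Lib.Helper1.MatCode Cfsg.Agent.Lib.Helper1.Stem Cfsg.Agent.Lib.Helper1.StemSA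
  Cfsg.Agent.Lib.Helper1.StemZLin Cfsg.Agent.Lib.Helper1.StemLin Cfsg.Agent.Lib.Helper1.StemZA
  Cfsg.Agent.Lib.Helper1.StemZC

/-- the certificate: the equations of the square system, the distinguished unknowns, the masks of
the right inverse modulo two, the exponent of the modulus, the exponents of the distinguished
unknowns, and a combination for each of them -/
structure ZDCert where
  specs : List (ℕ × ℕ)
  bs : List ℕ
  Bm : ℕ → ℕ
  s : ℕ
  es : List ℕ
  ys : List (List ((ℕ × ℕ) × ℕ))

variable (D : SAData) (C : ZDCert)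

/-- the masks of the distinguished unknowns are the last unit vectors -/
def chkBs (Bm : ℕ → ℕ) : List ℕ → ℕ → Bool
  | [], _ => true
  | b :: bs, idx => (Bm b == 1 <<< idx) && chkBs Bm bs (idx + 1)

theorem chkBs_sound (Bm : ℕ → ℕ) (bs : List ℕ) (idx : ℕ) (h : chkBs Bm bs idx = true) (j : ℕ)
    (hj : j < bs.length) : Bm (bs.getD j 0) = 1 <<< (idx + j) := by
  induction bs generalizing idx j with
  | nil => simp at hj
  | cons b bs ih =>
    unfold chkBs at h
    rw [Bool.and_eq_true, beq_iff_eq] at h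
    cases j with
    | zero => simpa using h.1
    | succ j =>
      have := ih (idx + 1) h.2 j (by simpa using hj)
      rw [List.getD_cons_succ, this]
      congr 1
      omega

/-- the contributions of a combination of equations -/
def entriesOf (s : ℕ) (ys : List ((ℕ × ℕ) × ℕ)) : List (ℕ × ℕ) :=
  allEntries s (ys.map fun q => ((posL D q.1, negL D q.1), q.2))

/-- the check of one combination -/
def chkComb (s : ℕ) (ys : List ((ℕ × ℕ) × ℕ)) (b e : ℕ) : Bool :=
  (ys.all fun q => D.chkSpec q.1 && chkRangeS D q.1 && decide (q.2 ≤ 2 ^ s)) &&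
  decide (((entriesOf D s ys).map fun e => e.2).sum < X) &&
  ((List.range D.n).all fun c =>
    packSum (entriesOf D s ys) / X ^ c % 2 ^ s == if c = b then 2 ^ e else 0)

/-- the check of the certificate -/
def chkCertD : Bool :=
  (C.specs.length + C.bs.length == D.n) && C.specs.all D.chkSpec && C.specs.all (chkRangeS D) &&
  (C.bs.all fun b => decide (b < D.n)) && chkInvC D ⟨C.specs, 0, C.Bm, []⟩ C.specs 0 &&
  chkBs C.Bm C.bs (D.n - C.bs.length) && decide (C.s ≤ 32) && (C.es.length == C.bs.length) &&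
  (C.es.all fun e => decide (e < C.s)) &&
  ((List.range C.bs.length).all fun j =>
    chkComb D C.s (C.ys.getD j []) (C.bs.getD j 0) (C.es.getD j 0))

section sound

variable {M : Type*} [AddCommGroup M] [Finite M] (v : ℕ → M) (hC : chkCertD D C = true)
  (hE : ∀ s : ℕ × ℕ, D.chkSpec s = true → sgnSum v (posL D s) (negL D s) = 0)
include hC hE

theorem cert_vals (a : ℕ) (h2 : ∀ x : M, ((2 : ℤ) ^ a) • x = 0) :
    ∃ A₀ : AddSubgroup M, (∀ b < D.n, v b ∈ A₀) ∧ Nat.card A₀ ≤ 2 ^ C.es.sum := by
  unfold chkCertD at hC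
  simp only [Bool.and_eq_true, List.all_eq_true, decide_eq_true_eq, beq_iff_eq, List.mem_range]
    at hC
  obtain ⟨⟨⟨⟨⟨⟨⟨⟨⟨h1, h2'⟩, h3⟩, h4⟩, h5⟩, h6⟩, h7⟩, h8⟩, h9⟩, h10⟩ := hC
  have hlen : C.specs.length = D.n - C.bs.length := by omega
  have hr : C.bs.length ≤ D.n := by omega
  have hmem : ∀ i < D.n - C.bs.length, C.specs.getD i (0, 0) ∈ C.specs := by
    intro i hi
    rw [List.getD_eq_getElem _ _ (by omega)]; exact List.getElem_mem _
  have hrange : ∀ s : ℕ × ℕ, chkRangeS D s = true →
      (∀ b ∈ posL D s, b < D.n) ∧ (∀ b ∈ negL D s, b < D.n) := by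
    intro s hs
    unfold chkRangeS at hs
    simp only [Bool.and_eq_true, List.all_eq_true, decide_eq_true_eq] at hs
    exact hs
  apply card_le_of_cert a h2 D.n v
    (fun i => (posL D (C.specs.getD i (0, 0)), negL D (C.specs.getD i (0, 0)))) C.bs hr h4 C.Bm
    (fun i hi => ⟨(hrange _ (h3 _ (hmem i hi))).1, (hrange _ (h3 _ (hmem i hi))).2,
      hE _ (h2' _ (hmem i hi))⟩)
    (fun i hi => by
      have := chkInvC_sound D ⟨C.specs, 0, C.Bm, []⟩ C.specs 0 h5 i (by omega)
      rw [zero_add] at this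
      exact this)
    (fun j hj => chkBs_sound C.Bm C.bs _ h6 j hj)
    C.s C.es h8 h9
  intro j hj
  have hb : C.bs.getD j 0 < D.n := by
    apply h4
    rw [List.getD_eq_getElem _ _ hj]; exact List.getElem_mem _
  have he : C.es.getD j 0 < C.s := by
    apply h9
    rw [List.getD_eq_getElem _ _ (by omega)]; exact List.getElem_mem _
  have hcomb := h10 j hj
  unfold chkComb at hcomb
  simp only [Bool.and_eq_true, List.all_eq_true, decide_eq_true_eq, beq_iff_eq, List.mem_range]
    at hcomb
  obtain ⟨⟨hq, hT⟩, hcols⟩ := hcomb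
  apply pow_smul_mem_of_comb C.s (C.es.getD j 0) D.n h7 he v
    (AddSubgroup.closure {x | ∃ b < D.n, x = v b})
    (fun b hb' => AddSubgroup.subset_closure ⟨b, hb', rfl⟩)
    ((C.ys.getD j []).map fun q : (ℕ × ℕ) × ℕ => ((posL D q.1, negL D q.1), q.2)) ?_
    (C.bs.getD j 0) hb hT hcols
  intro q hq'
  rw [List.mem_map] at hq'
  obtain ⟨q', hq'', rfl⟩ := hq'
  obtain ⟨⟨h11, h12⟩, h13⟩ := hq q' hq''
  exact ⟨(hrange _ h12).1, (hrange _ h12).2, hE _ h11, h13⟩

end sound

section group

variable {Γ G Y A : Type*} [Group Γ] [Group G] [MulAction G Y] [AddCommGroup A]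
    (σ : Γ →* G) (pt : ℕ → Y) (X : List Γ) (κ : Γ → A)

variable (hS : D.chkStruct = true) (H : ZAHyp D σ pt X κ)
include hS H

/-- if the labels of the generators lie in a subgroup, so do the images of the kernel -/
theorem kap_mem_of_lam_mem [Finite Γ] (hm : 0 < D.m) (A₀ : AddSubgroup A)
    (hlam : ∀ i < D.k, ∀ j < D.m, lam D X κ i j ∈ A₀) (c : Γ) (hc : σ c = 1) : κ c ∈ A₀ := by
  let S : Subgroup Γ :=
    { carrier := {g | ∀ j < D.m, ∃ j' < D.m, σ g • pt j = pt j' ∧
        κ ((tt D X j')⁻¹ * g * tt D X j) ∈ A₀}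
      one_mem' := by
        intro j hj
        refine ⟨j, hj, by rw [map_one, one_smul], ?_⟩
        rw [mul_one, inv_mul_cancel, kap_one D σ pt X κ H]; exact A₀.zero_mem
      mul_mem' := by
        intro g h hg hh j hj
        obtain ⟨j', hj', h1, h2'⟩ := hh j hj
        obtain ⟨j'', hj'', h3, h4⟩ := hg j' hj'
        refine ⟨j'', hj'', by rw [map_mul, mul_smul, h1, h3], ?_⟩
        have e : (tt D X j'')⁻¹ * (g * h) * tt D X j =
            ((tt D X j'')⁻¹ * g * tt D X j') * ((tt D X j')⁻¹ * h * tt D X j) := by group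
        rw [e, H.kap_mul _ _ (inK_of_act D σ pt X κ hS H g _ _ hj' hj'' h3)
          (inK_of_act D σ pt X κ hS H h _ _ hj hj' h1)]
        exact A₀.add_mem h4 h2'
      inv_mem' := by
        intro g hg
        have hpow : ∀ n : ℕ, ∀ j < D.m, ∃ j' < D.m, σ (g ^ n) • pt j = pt j' ∧
            κ ((tt D X j')⁻¹ * g ^ n * tt D X j) ∈ A₀ := by
          intro n
          induction n with
          | zero =>
            intro j hj
            refine ⟨j, hj, by rw [pow_zero, map_one, one_smul], ?_⟩
            rw [pow_zero, mul_one, inv_mul_cancel, kap_one D σ pt X κ H]; exact A₀.zero_mem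
          | succ n ih =>
            intro j hj
            obtain ⟨j', hj', h1, h2'⟩ := ih j hj
            obtain ⟨j'', hj'', h3, h4⟩ := hg j' hj'
            refine ⟨j'', hj'', by rw [pow_succ', map_mul, mul_smul, h1, h3], ?_⟩
            have e : (tt D X j'')⁻¹ * g ^ (n + 1) * tt D X j =
                ((tt D X j'')⁻¹ * g * tt D X j') * ((tt D X j')⁻¹ * g ^ n * tt D X j) := by
              rw [pow_succ']; group
            rw [e, H.kap_mul _ _ (inK_of_act D σ pt X κ hS H g _ _ hj' hj'' h3)
              (inK_of_act D σ pt X κ hS H (g ^ n) _ _ hj hj' h1)]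
            exact A₀.add_mem h4 h2'
        have hinv : g⁻¹ = g ^ (orderOf g - 1) := by
          apply inv_eq_of_mul_eq_one_right
          rw [← pow_succ', Nat.sub_add_cancel (orderOf_pos g), pow_orderOf_eq_one]
        show ∀ j < D.m, _
        rw [hinv]
        exact hpow _ }
  have hgen : ∀ i < D.k, X.getD i 1 ∈ S := by
    intro i hi j hj
    exact ⟨D.pi i j, pi_lt D hS i j hi hj, H.pi_act i hi j hj, hlam i hi j hj⟩
  have htop : ∀ g : Γ, g ∈ S := by
    intro g
    have h1 : Subgroup.closure {g | ∃ i < D.k, g = X.getD i 1} ≤ S := by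
      rw [Subgroup.closure_le]
      rintro g ⟨i, hi, rfl⟩
      exact hgen i hi
    exact h1 (H.gen g)
  obtain ⟨j', hj', h1, h2'⟩ := htop c 0 hm
  rw [hc, one_smul] at h1
  have h0 : j' = 0 := H.pt_zero j' hj' h1.symm
  rw [h0, tt_zero, inv_one, one_mul, mul_one] at h2'
  exact h2'

/-- the images of the kernel under `κ` lie in a subgroup of bounded order -/
theorem zd_main [Finite Γ] [Finite A] (hC : chkCertD D C = true) (hm : 0 < D.m) (a : ℕ)
    (h2 : ∀ x : A, ((2 : ℤ) ^ a) • x = 0) :
    ∃ A₀ : AddSubgroup A, Nat.card A₀ ≤ 2 ^ C.es.sum ∧ ∀ c : Γ, σ c = 1 → κ c ∈ A₀ := by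
  set v := val D X κ with hv
  have hE : ∀ s : ℕ × ℕ, D.chkSpec s = true → sgnSum v (posL D s) (negL D s) = 0 :=
    fun s hs => spec_ok D σ pt X κ hS H s hs
  obtain ⟨A₀, hval, hcard⟩ := cert_vals D C v hC hE a h2
  refine ⟨A₀, hcard, ?_⟩
  have hlam : ∀ i < D.k, ∀ j < D.m, lam D X κ i j ∈ A₀ := by
    intro i hi j hj
    have hb : i * D.m + j < D.n := by
      have : i * D.m + j < D.k * D.m := by
        calc i * D.m + j < i * D.m + D.m := by omega
          _ = (i + 1) * D.m := by ring
          _ ≤ D.k * D.m := Nat.mul_le_mul_right _ hi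
      unfold SAData.n; omega
    have := hval _ hb
    rwa [hv, val_edge D X κ i j hi hj] at this
  exact kap_mem_of_lam_mem D σ pt X κ hS H hm A₀ hlam

end group

end Cfsg.Agent.Lib.Helper1.StemZD
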