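import Mathlib
import Cfsg.Agent.Lib.Helper1.StemZD3

set_option autoImplicit false
set_option maxRecDepth 100000

/-! The alternating group of degree 8 on its 8 points: the tables and the certificate for the
kernels that are 2-groups. -/

namespace Cfsg.Agent.Lib.Helper1.Alt8

open Cfsg.Agent.Lib.Helper1

def piL : List (List ℕ) := [[1, 2, 0, 3, 4, 5, 6, 7], [0, 2, 3, 4, 5, 6, 7, 1]]
def parL : List (ℕ × ℕ) := [(0, 0), (0, 0), (0, 1), (1, 2), (1, 3), (1, 4), (1, 5), (1, 6)]
def relsL : List (List ℕ × List ℕ) := [([1, 1, 0, 1, 1, 1, 1, 1, 0, 1, 1], [0, 1, 0, 1, 0])]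

/-- the data of the labelled action -/
def D : StemSA.SAData where
  k := 2
  m := 8
  pi := fun i j => (piL.getD i []).getD j 0
  par := fun j => parL.getD j (0, 0)
  ords := [3, 7]
  rels := relsL
  specs := []
  Bm := fun _ => 0

def specsL : List (ℕ × ℕ) := [(0, 1), (0, 2), (0, 3), (0, 4), (0, 5), (0, 6), (0, 7), (1, 0), (1, 3), (1, 4), (1, 5), (1, 6), (1, 7), (2, 0), (2, 1), (3, 0), (3, 1)]

def BmL : List ℕ := [1, 2, 131, 256, 512, 1024, 2048, 4096, 8192, 109186, 4, 8, 16, 32, 64, 125694, 82432]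

/-- the certificate -/
def C : StemZD.ZDCert where
  specs := specsL
  bs := []
  Bm := fun b => BmL.getD b 0
  s := 1
  es := []
  ys := []

end Cfsg.Agent.Lib.Helper1.Alt8
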