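import Mathlib

set_option autoImplicit false

/-! A group acting on a type and preserving the image of an injective map from `Fin n` acts on
`Fin n`; if the image of the action contains the alternating group and the group is not larger,
the group is isomorphic to the alternating group. -/

namespace Cfsg.Agent.Lib.Helper1.StabAlt

open Equiv

section hom

variable {K X : Type*} [Group K] [MulAction K X] {n : ℕ} (ι : Fin n → X)
  (hι : Function.Injective ι) (hinv : ∀ (g : K) (a : Fin n), ∃ a', g • ι a = ι a')

/-- the induced function on the indices -/
noncomputable def idxFun (g : K) (a : Fin n) : Fin n := Classical.choose (hinv g a)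

theorem idxFun_spec (g : K) (a : Fin n) : ι (idxFun ι hinv g a) = g • ι a :=
  (Classical.choose_spec (hinv g a)).symm

include hι in
theorem idxFun_mul (g h : K) (a : Fin n) :
    idxFun ι hinv (g * h) a = idxFun ι hinv g (idxFun ι hinv h a) := by
  apply hι
  rw [idxFun_spec ι hinv, idxFun_spec ι hinv, idxFun_spec ι hinv, mul_smul]

include hι in
theorem idxFun_one (a : Fin n) : idxFun ι hinv 1 a = a := by
  apply hι
  rw [idxFun_spec ι hinv, one_smul]

/-- the induced action on the indices -/
noncomputable def permHom : K →* Perm (Fin n) where
  toFun g :=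
    { toFun := idxFun ι hinv g
      invFun := idxFun ι hinv g⁻¹
      left_inv := fun a => by rw [← idxFun_mul ι hι hinv, inv_mul_cancel, idxFun_one ι hι hinv]
      right_inv := fun a => by rw [← idxFun_mul ι hι hinv, mul_inv_cancel, idxFun_one ι hι hinv] }
  map_one' := by
    apply Equiv.ext
    intro a
    exact idxFun_one ι hι hinv a
  map_mul' g h := by
    apply Equiv.ext
    intro a
    exact idxFun_mul ι hι hinv g h a

theorem permHom_spec (g : K) (a : Fin n) : ι (permHom ι hι hinv g a) = g • ι a :=
  idxFun_spec ι hinv g a

theorem permHom_eq (g : K) (p : Perm (Fin n)) (h : ∀ a, g • ι a = ι (p a)) :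
    permHom ι hι hinv g = p := by
  apply Equiv.ext
  intro a
  apply hι
  rw [permHom_spec ι hι hinv, h]

end hom

/-- a group mapping to the symmetric group with image containing the alternating group, and of
order at most that of the alternating group, is isomorphic to the alternating group -/
theorem equiv_alt_of_hom {K : Type*} [Group K] [Finite K] (n : ℕ) (φ : K →* Perm (Fin n))
    (hle : alternatingGroup (Fin n) ≤ φ.range)
    (hcard : Nat.card K ≤ Nat.card (alternatingGroup (Fin n))) :
    Nonempty (K ≃* alternatingGroup (Fin n)) := by
  have h1 : Nat.card (alternatingGroup (Fin n)) ≤ Nat.card φ.range :=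
    Nat.le_of_dvd Nat.card_pos (Subgroup.card_dvd_of_le hle)
  have h2 : Nat.card φ.ker * Nat.card φ.range = Nat.card K := by
    have := Subgroup.card_mul_index φ.ker
    rw [Subgroup.index_ker] at this
    exact this
  have hkpos : 0 < Nat.card φ.ker := Nat.card_pos
  have h3 : Nat.card φ.range ≤ Nat.card K := by
    rw [← h2]; exact Nat.le_mul_of_pos_left _ hkpos
  have h4 : Nat.card φ.range = Nat.card (alternatingGroup (Fin n)) := by omega
  have hrange : alternatingGroup (Fin n) = φ.range :=
    Subgroup.eq_of_le_of_card_ge hle (by rw [h4])
  have hker : Nat.card φ.ker = 1 := by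
    have h5 : Nat.card φ.range = Nat.card K := by omega
    rw [h5] at h2
    have hK : 0 < Nat.card K := Nat.card_pos
    exact Nat.eq_of_mul_eq_mul_right hK (by rw [h2, one_mul])
  have hinj : Function.Injective φ := by
    rw [← MonoidHom.ker_eq_bot_iff]
    exact Subgroup.card_eq_one.mp hker
  exact ⟨(MonoidHom.ofInjective hinj).trans (MulEquiv.subgroupCongr hrange.symm)⟩

end Cfsg.Agent.Lib.Helper1.StabAlt
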