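import Mathlib
import Cfsg.Agent.Lib.Helper1.Stem7

set_option autoImplicit false

/-! Transport along conjugation between a subgroup of a subgroup and a subgroup of the ambient
group; perfectness along isomorphisms. -/

namespace Cfsg.Agent.Lib.Helper1.Stem

/-- conjugation by `τ` as an isomorphism between a subgroup `L` of a subgroup `M` and a subgroup `H`
of the ambient group -/
def conjEquivSub {P : Type*} [Group P] (M : Subgroup P) (L : Subgroup ↥M) (H : Subgroup P) (τ : P)
    (hM : ∀ k ∈ H, τ * k * τ⁻¹ ∈ M) (h : ∀ g : ↥M, g ∈ L ↔ τ⁻¹ * g.1 * τ ∈ H) : ↥L ≃* ↥H where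
  toFun g := ⟨τ⁻¹ * g.1.1 * τ, (h g.1).mp g.2⟩
  invFun k := ⟨⟨τ * k.1 * τ⁻¹, hM k.1 k.2⟩, by
    rw [h]
    have : τ⁻¹ * (τ * k.1 * τ⁻¹) * τ = k.1 := by group
    simp only [this]
    exact k.2⟩
  left_inv := by
    intro g
    apply Subtype.ext
    apply Subtype.ext
    simp only
    group
  right_inv := by
    intro k
    apply Subtype.ext
    simp only
    group
  map_mul' := by
    intro a b
    apply Subtype.ext
    simp only [Subgroup.coe_mul]
    group

/-- perfectness is invariant under isomorphisms -/
theorem commutator_eq_top_of_equiv {A B : Type*} [Group A] [Group B] (e : A ≃* B)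
    (h : commutator A = ⊤) : commutator B = ⊤ := by
  have h1 : Subgroup.map e.toMonoidHom (⊤ : Subgroup A) = ⊤ := by
    rw [← MonoidHom.range_eq_map, MonoidHom.range_eq_top]
    exact e.surjective
  rw [commutator_def, ← h1, ← Subgroup.map_commutator, ← commutator_def, h]

end Cfsg.Agent.Lib.Helper1.Stem
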