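import Mathlib
import Cfsg.Agent.Lib.Helper1.StemZA1

set_option autoImplicit false

/-! Labelled actions with labels in a commutative group of exponent a power of a prime `p`:
the integer certificate and its checker. -/

namespace Cfsg.Agent.Lib.Helper1.StemZB

open Cfsg.Agent.Lib.Helper1.MatCode Cfsg.Agent.Lib.Helper1.StemSA Cfsg.Agent.Lib.Helper1.StemZLin
  Cfsg.Agent.Lib.Helper1.StemZA
open Finset

variable (D : SAData) (C : ZACert)

/-- the check of the certificate for the prime `p` and the bound `p ^ e` -/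
def chkCertP (p e : ℕ) : Bool :=
  C.eqs.all D.chkSpec &&
  (C.eqs.all fun s => ((posL D s).all fun b => decide (b < D.n)) &&
    ((negL D s).all fun b => decide (b < D.n))) &&
  ((List.range C.eqs.length).all fun s => (List.range D.n).all fun c =>
    rEntry C s c == coef (posL D (C.eqs.getD s (0, 0))) (negL D (C.eqs.getD s (0, 0))) c) &&
  decide (C.b0 < D.n) &&
  ((List.range (D.n + 1)).all fun b => Nat.gcd (C.dd.getD b 0).natAbs p == 1) &&
  ((List.range D.n).all fun b => (List.range D.n).all fun c =>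
    comb C (C.Y.getD b []) c ==
      (if c = b then C.dd.getD b 0 else 0) - (if c = C.b0 then C.ee.getD b 0 else 0)) &&
  ((List.range D.n).all fun c =>
    comb C (C.Y.getD D.n []) c == (if c = C.b0 then (p : ℤ) ^ e * C.dd.getD D.n 0 else 0) -
      (if c = C.b0 then 0 else 0))

section sound

variable {M : Type*} [AddCommGroup M] (v : ℕ → M) (p e : ℕ) (hC : chkCertP D C p e = true)
  (hE : ∀ s ∈ C.eqs, sgnSum v (posL D s) (negL D s) = 0)
include hC hE

omit hE in
theorem cert_facts :
    (∀ s ∈ C.eqs, D.chkSpec s = true) ∧ C.b0 < D.n ∧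
      (∀ b < D.n + 1, IsCoprime (C.dd.getD b 0) (p : ℤ)) := by
  unfold chkCertP at hC
  simp only [Bool.and_eq_true, List.all_eq_true, decide_eq_true_eq, List.mem_range, beq_iff_eq] at hC
  obtain ⟨⟨⟨⟨⟨⟨h1, _⟩, _⟩, h4⟩, h5⟩, _⟩, _⟩ := hC
  refine ⟨h1, h4, ?_⟩
  intro b hb
  rw [Int.isCoprime_iff_gcd_eq_one]
  have := h5 b hb
  rw [Int.gcd_def]
  simpa using this

theorem cert_sound (b : ℕ) (hb : b < D.n) :
    C.dd.getD b 0 • v b = C.ee.getD b 0 • v C.b0 := by
  unfold chkCertP at hC
  simp only [Bool.and_eq_true, List.all_eq_true, decide_eq_true_eq, List.mem_range, beq_iff_eq] at hC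
  obtain ⟨⟨⟨⟨⟨⟨_, h2⟩, h3⟩, h4⟩, _⟩, h6⟩, _⟩ := hC
  set N := C.eqs.length with hN
  have hmem : ∀ s < N, C.eqs.getD s (0, 0) ∈ C.eqs := by
    intro s hs
    rw [List.getD_eq_getElem _ _ hs]; exact List.getElem_mem _
  apply combo_target D.n N (fun s => posL D (C.eqs.getD s (0, 0))) (fun s => negL D (C.eqs.getD s (0, 0)))
    (fun s hs => (h2 _ (hmem s hs)).1) (fun s hs => (h2 _ (hmem s hs)).2) v
    (fun s hs => hE _ (hmem s hs)) (fun s => (C.Y.getD b []).getD s 0) b C.b0 hb h4
  intro c hc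
  have h := h6 b hb c hc
  unfold comb at h
  rw [sum_list_range] at h
  rw [← h]
  apply sum_congr rfl
  intro s hs
  rw [h3 s (mem_range.mp hs) c hc]

theorem cert_sound_top : ((p : ℤ) ^ e * C.dd.getD D.n 0) • v C.b0 = 0 := by
  unfold chkCertP at hC
  simp only [Bool.and_eq_true, List.all_eq_true, decide_eq_true_eq, List.mem_range, beq_iff_eq] at hC
  obtain ⟨⟨⟨⟨⟨⟨_, h2⟩, h3⟩, h4⟩, _⟩, _⟩, h7⟩ := hC
  set N := C.eqs.length with hN
  have hmem : ∀ s < N, C.eqs.getD s (0, 0) ∈ C.eqs := by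
    intro s hs
    rw [List.getD_eq_getElem _ _ hs]; exact List.getElem_mem _
  have key := combo_target D.n N (fun s => posL D (C.eqs.getD s (0, 0)))
    (fun s => negL D (C.eqs.getD s (0, 0)))
    (fun s hs => (h2 _ (hmem s hs)).1) (fun s hs => (h2 _ (hmem s hs)).2) v
    (fun s hs => hE _ (hmem s hs)) (fun s => (C.Y.getD D.n []).getD s 0) C.b0 C.b0 h4 h4
    ((p : ℤ) ^ e * C.dd.getD D.n 0) 0 (by
      intro c hc
      have h := h7 c hc
      unfold comb at h
      rw [sum_list_range] at h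
      rw [← h]
      apply sum_congr rfl
      intro s hs
      rw [h3 s (mem_range.mp hs) c hc])
  rw [key, zero_smul]

end sound

section coprime

variable {M : Type*} [AddCommGroup M]

/-- in a group of exponent a power of `p`, multiples prime to `p` are injective -/
theorem eq_zero_of_coprime_smul (p a : ℕ) (h2 : ∀ x : M, ((p : ℤ) ^ a) • x = 0) (d : ℤ)
    (hd : IsCoprime d (p : ℤ)) (x : M) (h : d • x = 0) : x = 0 := by
  obtain ⟨u, w, huw⟩ := hd.pow_right (n := a)
  have : x = (u * d + w * (p : ℤ) ^ a) • x := by rw [huw, one_smul]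
  rw [this, add_smul, mul_smul, mul_smul, h, h2, smul_zero, smul_zero, add_zero]

/-- in a group of exponent a power of `p`, a relation with a coefficient prime to `p` gives
membership in the cyclic subgroup -/
theorem mem_zmultiples_of_coprime_smul (p a : ℕ) (h2 : ∀ x : M, ((p : ℤ) ^ a) • x = 0) (d e : ℤ)
    (hd : IsCoprime d (p : ℤ)) (x y : M) (h : d • x = e • y) : x ∈ AddSubgroup.zmultiples y := by
  obtain ⟨u, w, huw⟩ := hd.pow_right (n := a)
  have : x = (u * d + w * (p : ℤ) ^ a) • x := by rw [huw, one_smul]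
  rw [this, add_smul, mul_smul, mul_smul, h, h2, smul_zero, add_zero, ← mul_smul]
  exact AddSubgroup.zsmul_mem_zmultiples y (u * e)

end coprime

end Cfsg.Agent.Lib.Helper1.StemZB
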