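import Mathlib
import Cfsg.Agent.Lib.Helper1.StemZA2
import Cfsg.Agent.Lib.Helper1.StemZB1

set_option autoImplicit false

/-! Labelled actions with labels in a commutative group of prime power exponent: the conclusion. -/

namespace Cfsg.Agent.Lib.Helper1.StemZB

open Cfsg.Agent.Lib.Helper1.MatCode Cfsg.Agent.Lib.Helper1.StemSA Cfsg.Agent.Lib.Helper1.StemZLin
  Cfsg.Agent.Lib.Helper1.StemZA

section

variable (D : SAData) {Γ G Y A : Type*} [Group Γ] [Group G] [MulAction G Y] [AddCommGroup A]
    (σ : Γ →* G) (pt : ℕ → Y) (X : List Γ) (κ : Γ → A)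

variable (hS : D.chkStruct = true) (H : ZAHyp D σ pt X κ)
include hS H

/-- the images of the kernel under `κ` lie in a cyclic subgroup of order dividing `p ^ e` -/
theorem zb_main [Finite Γ] (C : ZACert) (p e : ℕ) (hC : chkCertP D C p e = true) (hm : 0 < D.m)
    (a : ℕ) (h2 : ∀ x : A, ((p : ℤ) ^ a) • x = 0) :
    ∃ a₀ : A, ((p : ℤ) ^ e) • a₀ = 0 ∧ ∀ c : Γ, σ c = 1 → κ c ∈ AddSubgroup.zmultiples a₀ := by
  set v := val D X κ with hv
  obtain ⟨hspec, hb0, hodd⟩ := cert_facts D C p e hC
  have hE : ∀ s ∈ C.eqs, sgnSum v (posL D s) (negL D s) = 0 :=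
    fun s hs => spec_ok D σ pt X κ hS H s (hspec s hs)
  refine ⟨v C.b0, ?_, ?_⟩
  · have h1 := cert_sound_top D C v p e hC hE
    rw [mul_comm, mul_smul] at h1
    exact eq_zero_of_coprime_smul p a h2 _ (hodd D.n (by omega)) _ h1
  have hval : ∀ b < D.n, v b ∈ AddSubgroup.zmultiples (v C.b0) := by
    intro b hb
    exact mem_zmultiples_of_coprime_smul p a h2 _ _ (hodd b (by omega)) _ _
      (cert_sound D C v p e hC hE b hb)
  have hlam : ∀ i < D.k, ∀ j < D.m, lam D X κ i j ∈ AddSubgroup.zmultiples (v C.b0) := by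
    intro i hi j hj
    have hb : i * D.m + j < D.n := by
      have : i * D.m + j < D.k * D.m := by
        calc i * D.m + j < i * D.m + D.m := by omega
          _ = (i + 1) * D.m := by ring
          _ ≤ D.k * D.m := Nat.mul_le_mul_right _ hi
      unfold SAData.n; omega
    have := hval _ hb
    rwa [hv, val_edge D X κ i j hi hj] at this
  set A₀ := AddSubgroup.zmultiples (v C.b0) with hA₀
  -- the subgroup of the elements with all labels in the cyclic subgroup
  let S : Subgroup Γ :=
    { carrier := {g | ∀ j < D.m, ∃ j' < D.m, σ g • pt j = pt j' ∧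
        κ ((tt D X j')⁻¹ * g * tt D X j) ∈ A₀}
      one_mem' := by
        intro j hj
        refine ⟨j, hj, by rw [map_one, one_smul], ?_⟩
        rw [mul_one, inv_mul_cancel, kap_one D σ pt X κ H]; exact A₀.zero_mem
      mul_mem' := by
        intro g h hg hh j hj
        obtain ⟨j', hj', h1, h2'⟩ := hh j hj
        obtain ⟨j'', hj'', h3, h4⟩ := hg j' hj'
        refine ⟨j'', hj'', by rw [map_mul, mul_smul, h1, h3], ?_⟩
        have e : (tt D X j'')⁻¹ * (g * h) * tt D X j =
            ((tt D X j'')⁻¹ * g * tt D X j') * ((tt D X j')⁻¹ * h * tt D X j) := by group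
        rw [e, H.kap_mul _ _ (inK_of_act D σ pt X κ hS H g _ _ hj' hj'' h3)
          (inK_of_act D σ pt X κ hS H h _ _ hj hj' h1)]
        exact A₀.add_mem h4 h2'
      inv_mem' := by
        intro g hg
        have hpow : ∀ n : ℕ, ∀ j < D.m, ∃ j' < D.m, σ (g ^ n) • pt j = pt j' ∧
            κ ((tt D X j')⁻¹ * g ^ n * tt D X j) ∈ A₀ := by
          intro n
          induction n with
          | zero =>
            intro j hj
            refine ⟨j, hj, by rw [pow_zero, map_one, one_smul], ?_⟩
            rw [pow_zero, mul_one, inv_mul_cancel, kap_one D σ pt X κ H]; exact A₀.zero_mem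
          | succ n ih =>
            intro j hj
            obtain ⟨j', hj', h1, h2'⟩ := ih j hj
            obtain ⟨j'', hj'', h3, h4⟩ := hg j' hj'
            refine ⟨j'', hj'', by rw [pow_succ', map_mul, mul_smul, h1, h3], ?_⟩
            have e : (tt D X j'')⁻¹ * g ^ (n + 1) * tt D X j =
                ((tt D X j'')⁻¹ * g * tt D X j') * ((tt D X j')⁻¹ * g ^ n * tt D X j) := by
              rw [pow_succ']; group
            rw [e, H.kap_mul _ _ (inK_of_act D σ pt X κ hS H g _ _ hj' hj'' h3)
              (inK_of_act D σ pt X κ hS H (g ^ n) _ _ hj hj' h1)]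
            exact A₀.add_mem h4 h2'
        have hinv : g⁻¹ = g ^ (orderOf g - 1) := by
          apply inv_eq_of_mul_eq_one_right
          rw [← pow_succ', Nat.sub_add_cancel (orderOf_pos g), pow_orderOf_eq_one]
        show ∀ j < D.m, _
        rw [hinv]
        exact hpow _ }
  have hgen : ∀ i < D.k, X.getD i 1 ∈ S := by
    intro i hi j hj
    exact ⟨D.pi i j, pi_lt D hS i j hi hj, H.pi_act i hi j hj, hlam i hi j hj⟩
  have htop : ∀ g : Γ, g ∈ S := by
    intro g
    have h1 : Subgroup.closure {g | ∃ i < D.k, g = X.getD i 1} ≤ S := by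
      rw [Subgroup.closure_le]
      rintro g ⟨i, hi, rfl⟩
      exact hgen i hi
    exact h1 (H.gen g)
  intro c hc
  obtain ⟨j', hj', h1, h2'⟩ := htop c 0 hm
  rw [hc, one_smul] at h1
  have h0 : j' = 0 := H.pt_zero j' hj' h1.symm
  rw [h0, tt_zero, inv_one, one_mul, mul_one] at h2'
  exact h2'

end

end Cfsg.Agent.Lib.Helper1.StemZB
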