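import Mathlib
import Cfsg.Agent.Lib.Helper1.StemZB2
import Cfsg.Agent.Lib.Helper1.StemSA7

set_option autoImplicit false

/-! Labelled actions: a stem extension with kernel a `p`-group, over a group with a point
stabilizer of order prime to `p`, has a cyclic kernel of order dividing `p ^ e`. -/

namespace Cfsg.Agent.Lib.Helper1.StemZB

open Cfsg.Agent.Lib.Helper1.MatCode Cfsg.Agent.Lib.Helper1.Stem Cfsg.Agent.Lib.Helper1.StemSA
  Cfsg.Agent.Lib.Helper1.StemZLin Cfsg.Agent.Lib.Helper1.StemZA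

universe u v

/-- lifts of elements of order prime to `p` along a central extension with kernel a `p`-group -/
theorem exists_lift_pow_eq_one {Γ G : Type*} [Group Γ] [Group G] (σ : Γ →* G)
    (hs : Function.Surjective σ) (p a : ℕ) (hk : ∀ c : Γ, σ c = 1 → c ^ p ^ a = 1) (g : G) (m : ℕ)
    (hm : Nat.Coprime m p) (hg : g ^ m = 1) : ∃ x : Γ, σ x = g ∧ x ^ m = 1 := by
  by_cases h0 : m = 0
  · subst h0
    obtain ⟨y, hy⟩ := hs g
    exact ⟨y, hy, pow_zero _⟩
  by_cases h1 : m = 1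
  · subst h1
    rw [pow_one] at hg
    exact ⟨1, by rw [map_one, hg], one_pow _⟩
  have hm1 : 1 < m := by omega
  obtain ⟨y, hy⟩ := hs g
  have hcop : Nat.Coprime (p ^ a) m := (Nat.Coprime.pow_left a hm.symm)
  obtain ⟨t, -, ht⟩ := Nat.exists_mul_mod_eq_one_of_coprime hcop hm1
  refine ⟨y ^ (p ^ a * t), ?_, ?_⟩
  · rw [map_pow, hy, pow_eq_pow_mod _ hg, ht, pow_one]
  · have h2 : σ (y ^ m) = 1 := by rw [map_pow, hy, hg]
    have h3 := hk _ h2
    calc (y ^ (p ^ a * t)) ^ m = ((y ^ m) ^ p ^ a) ^ t := by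
          rw [← pow_mul, ← pow_mul, ← pow_mul]; congr 1; ring
      _ = 1 := by rw [h3, one_pow]

/-- the power by the index of a central subgroup is multiplicative (the transfer) -/
theorem pow_index_mul {Δ : Type*} [Group Δ] (Z : Subgroup Δ) (hZ : Z ≤ Subgroup.center Δ)
    [Z.FiniteIndex] (g h : Δ) : (g * h) ^ Z.index = g ^ Z.index * h ^ Z.index := by
  letI : CommGroup Z :=
    { (inferInstance : Group Z) with
      mul_comm := fun a b => Subtype.ext (Subgroup.mem_center_iff.mp (hZ b.2) a.1) }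
  have key : ∀ x : Δ, ∀ (k : ℕ) (g₀ : Δ), g₀⁻¹ * x ^ k * g₀ ∈ Z → g₀⁻¹ * x ^ k * g₀ = x ^ k := by
    intro x k g₀ hk
    have hc := Subgroup.mem_center_iff.mp (hZ hk) g₀
    have : g₀ * (g₀⁻¹ * x ^ k * g₀) = x ^ k * g₀ := by group
    rw [hc] at this
    exact mul_right_cancel this
  have hT : ∀ x : Δ, ((MonoidHom.transfer (MonoidHom.id Z) x : Z) : Δ) = x ^ Z.index := by
    intro x
    rw [MonoidHom.transfer_eq_pow (MonoidHom.id Z) x (key x)]
    rfl
  rw [← hT, map_mul, Subgroup.coe_mul, hT, hT]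

theorem ker_cyclic_of_cert (p e : ℕ) (hp : p.Prime) (D : SAData) (C : ZACert)
    (hS : D.chkStruct = true) (hC : chkCertP D C p e = true) (hm : 0 < D.m)
    {G : Type v} {Y : Type*} [Group G] [Finite G] [MulAction G Y] (pt : ℕ → Y) (gs : List G)
    (hgen : Subgroup.closure {g | ∃ i < D.k, g = gs.getD i 1} = ⊤)
    (pt_zero : ∀ j < D.m, pt j = pt 0 → j = 0)
    (pi_act : ∀ i < D.k, ∀ j < D.m, gs.getD i 1 • pt j = pt (D.pi i j))
    (hord : ∀ i < D.k, Nat.Coprime (D.ords.getD i 0) p ∧ (gs.getD i 1) ^ (D.ords.getD i 0) = 1)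
    (hrel : ∀ w ∈ D.rels, wordProd gs w.1 = wordProd gs w.2)
    (hK : Nat.Coprime (Nat.card (MulAction.stabilizer G (pt 0))) p)
    (Γ : Type u) [Group Γ] [Finite Γ] (σ : Γ →* G) (hσ : Cfsg.IsStemExtension σ)
    (a : ℕ) (hc : Nat.card σ.ker = p ^ a) :
    ∃ z : Γ, σ z = 1 ∧ z ^ p ^ e = 1 ∧ ∀ c : Γ, σ c = 1 → c ∈ Subgroup.zpowers z := by
  classical
  obtain ⟨hs, hcen, hcomm⟩ := hσ
  set K := MulAction.stabilizer G (pt 0) with hKdef
  set Kc := K.comap σ with hKc
  set n := Nat.card K with hn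
  have hmemKc : ∀ g : Γ, g ∈ Kc ↔ σ g • pt 0 = pt 0 := by
    intro g
    rw [hKc, Subgroup.mem_comap, hKdef, MulAction.mem_stabilizer_iff]
  have hkpow : ∀ c : Γ, σ c = 1 → c ^ p ^ a = 1 := by
    intro c hc1
    have h1 : (⟨c, MonoidHom.mem_ker.mpr hc1⟩ : σ.ker) ^ Nat.card σ.ker = 1 := pow_card_eq_one'
    rw [hc] at h1
    exact congrArg Subtype.val h1
  letI : CommGroup σ.ker :=
    { (inferInstance : Group σ.ker) with
      mul_comm := fun x y => Subtype.ext (Subgroup.mem_center_iff.mp (hcen y.2) x.1) }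
  -- powers by the order of the stabilizer
  have hpowker : ∀ g : Γ, g ∈ Kc → g ^ n ∈ σ.ker := by
    intro g hg
    rw [MonoidHom.mem_ker, map_pow]
    have h1 : (⟨σ g, hg⟩ : K) ^ Nat.card K = 1 := pow_card_eq_one'
    exact congrArg Subtype.val h1
  -- the index of the kernel in the preimage
  let f : Kc →* G := σ.comp Kc.subtype
  have hfker : f.ker = σ.ker.subgroupOf Kc := by
    ext x
    rw [MonoidHom.mem_ker, Subgroup.mem_subgroupOf, MonoidHom.mem_ker]
    rfl
  have hfrange : f.range = K := by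
    ext x
    constructor
    · rintro ⟨y, rfl⟩
      exact y.2
    · intro hx
      obtain ⟨y, rfl⟩ := hs x
      exact ⟨⟨y, hx⟩, rfl⟩
  have hidx : (σ.ker.subgroupOf Kc).index = n := by
    rw [← hfker, Subgroup.index_ker, hfrange]
  haveI : (σ.ker.subgroupOf Kc).FiniteIndex := ⟨by rw [hidx]; exact Nat.card_pos.ne'⟩
  have hZcen : σ.ker.subgroupOf Kc ≤ Subgroup.center Kc := by
    intro x hx
    rw [Subgroup.mem_subgroupOf] at hx
    rw [Subgroup.mem_center_iff]
    intro y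
    exact Subtype.ext (Subgroup.mem_center_iff.mp (hcen hx) y.1)
  have hmul : ∀ g h : Γ, g ∈ Kc → h ∈ Kc → (g * h) ^ n = g ^ n * h ^ n := by
    intro g h hg hh
    have := pow_index_mul (σ.ker.subgroupOf Kc) hZcen ⟨g, hg⟩ ⟨h, hh⟩
    rw [hidx] at this
    exact congrArg Subtype.val this
  -- the map to the kernel
  let κ : Γ → Additive σ.ker := fun g =>
    if h : g ∈ Kc then Additive.ofMul ⟨g ^ n, hpowker g h⟩ else 0
  have hκ : ∀ (g : Γ) (h : g ∈ Kc), κ g = Additive.ofMul ⟨g ^ n, hpowker g h⟩ := by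
    intro g h
    simp only [κ, dif_pos h]
  -- the lifts
  have hliftX : ∀ i : ℕ, ∃ x : Γ, σ x = gs.getD i 1 ∧ (i < D.k → x ^ (D.ords.getD i 0) = 1) := by
    intro i
    by_cases hi : i < D.k
    · obtain ⟨ho, hpw⟩ := hord i hi
      obtain ⟨x, hx1, hx2⟩ := exists_lift_pow_eq_one σ hs p a hkpow _ _ ho hpw
      exact ⟨x, hx1, fun _ => hx2⟩
    · obtain ⟨x, hx⟩ := hs (gs.getD i 1)
      exact ⟨x, hx, fun h => absurd h hi⟩
  choose xf hxf using hliftX
  let X : List Γ := (List.range D.k).map xf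
  have hX : ∀ i < D.k, X.getD i 1 = xf i := by
    intro i hi
    have : i < X.length := by simp [X, hi]
    rw [List.getD_eq_getElem _ _ this]
    simp [X]
  have hσX : ∀ i < D.k, σ (X.getD i 1) = gs.getD i 1 := by
    intro i hi
    rw [hX i hi]; exact (hxf i).1
  have H : ZAHyp D σ pt X κ :=
    { ker_central := hcen
      pt_zero := pt_zero
      pi_act := by
        intro i hi j hj
        rw [hσX i hi]; exact pi_act i hi j hj
      pow_one := by
        intro i hi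
        rw [hX i hi]; exact (hxf i).2 hi
      rel_ok := by
        intro w hw
        obtain ⟨hw1, hw2⟩ := rels_lt D hS w hw
        rw [sigma_wordProd σ X gs D.k hσX w.1 hw1, sigma_wordProd σ X gs D.k hσX w.2 hw2]
        exact hrel w hw
      gen := by
        intro g
        have h1 : Subgroup.closure {g | ∃ i < D.k, g = X.getD i 1} = ⊤ := by
          apply closure_eq_top_of_stem σ ⟨hs, hcen, hcomm⟩
          rw [eq_top_iff, ← hgen]
          apply Subgroup.closure_mono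
          rintro _ ⟨i, hi, rfl⟩
          exact ⟨X.getD i 1, ⟨i, hi, rfl⟩, hσX i hi⟩
        rw [h1]; exact Subgroup.mem_top g
      kap_mul := by
        intro g h hg hh
        have hg' : g ∈ Kc := (hmemKc g).mpr hg
        have hh' : h ∈ Kc := (hmemKc h).mpr hh
        rw [hκ g hg', hκ h hh', hκ (g * h) (Kc.mul_mem hg' hh'), ← ofMul_mul]
        congr 1
        exact Subtype.ext (hmul g h hg' hh') }
  -- the exponent
  have h2 : ∀ x : Additive σ.ker, ((p : ℤ) ^ a) • x = 0 := by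
    intro x
    obtain ⟨q, rfl⟩ := Additive.ofMul.surjective x
    rw [← ofMul_zpow]
    have e4 : ((p : ℤ) ^ a) = ((p ^ a : ℕ) : ℤ) := by push_cast; rfl
    have : q ^ ((p : ℤ) ^ a) = 1 := by
      rw [e4, zpow_natCast]
      exact Subtype.ext (hkpow q.1 (MonoidHom.mem_ker.mp q.2))
    rw [this]; rfl
  obtain ⟨a₀, ha₀, hker⟩ := zb_main D σ pt X κ hS H C p e hC hm a h2
  refine ⟨(Additive.toMul a₀ : σ.ker).1, MonoidHom.mem_ker.mp (Additive.toMul a₀ : σ.ker).2, ?_, ?_⟩
  · have h1 : (Additive.toMul a₀ : σ.ker) ^ ((p : ℤ) ^ e) = 1 := by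
      have := congrArg Additive.toMul ha₀
      rwa [toMul_zsmul, toMul_zero] at this
    have e4 : ((p : ℤ) ^ e) = ((p ^ e : ℕ) : ℤ) := by push_cast; rfl
    rw [e4, zpow_natCast] at h1
    exact congrArg Subtype.val h1
  · intro c hc1
    have hcK : c ∈ Kc := by rw [hmemKc, hc1, one_smul]
    obtain ⟨t, ht⟩ := AddSubgroup.mem_zmultiples_iff.mp (hker c hc1)
    rw [hκ c hcK] at ht
    -- `c ^ n` is a power of the generator
    have h3 : c ^ n = ((Additive.toMul a₀ : σ.ker).1) ^ t := by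
      have := congrArg Additive.toMul ht
      rw [toMul_zsmul, toMul_ofMul] at this
      have := congrArg Subtype.val this
      rw [Subgroup.coe_zpow] at this
      exact this.symm
    -- invert the power
    have hcop : Nat.Coprime n (p ^ a) := Nat.Coprime.pow_right a hK
    have hcpa : c ^ p ^ a = 1 := hkpow c hc1
    obtain ⟨u, w, huw⟩ : ∃ u w : ℤ, (n : ℤ) * u + ((p ^ a : ℕ) : ℤ) * w = 1 := by
      have := Int.isCoprime_iff_gcd_eq_one.mpr (by
        rw [Int.gcd_natCast_natCast]; exact hcop : Int.gcd (n : ℤ) ((p ^ a : ℕ) : ℤ) = 1)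
      obtain ⟨u, w, h⟩ := this
      exact ⟨u, w, by rw [← h]; ring⟩
    have h4 : c = (c ^ n) ^ u := by
      calc c = c ^ (1 : ℤ) := (zpow_one c).symm
        _ = c ^ ((n : ℤ) * u + ((p ^ a : ℕ) : ℤ) * w) := by rw [huw]
        _ = (c ^ n) ^ u * (c ^ (p ^ a)) ^ w := by
          rw [zpow_add, zpow_mul, zpow_mul, zpow_natCast, zpow_natCast]
        _ = (c ^ n) ^ u := by rw [hcpa, one_zpow, mul_one]
    rw [h4, h3, ← zpow_mul]
    exact Subgroup.zpow_mem_zpowers _ _

/-- the order of the kernel divides `p ^ e` -/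
theorem card_ker_dvd_of_cert (p e : ℕ) (hp : p.Prime) (D : SAData) (C : ZACert)
    (hS : D.chkStruct = true) (hC : chkCertP D C p e = true) (hm : 0 < D.m)
    {G : Type v} {Y : Type*} [Group G] [Finite G] [MulAction G Y] (pt : ℕ → Y) (gs : List G)
    (hgen : Subgroup.closure {g | ∃ i < D.k, g = gs.getD i 1} = ⊤)
    (pt_zero : ∀ j < D.m, pt j = pt 0 → j = 0)
    (pi_act : ∀ i < D.k, ∀ j < D.m, gs.getD i 1 • pt j = pt (D.pi i j))
    (hord : ∀ i < D.k, Nat.Coprime (D.ords.getD i 0) p ∧ (gs.getD i 1) ^ (D.ords.getD i 0) = 1)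
    (hrel : ∀ w ∈ D.rels, wordProd gs w.1 = wordProd gs w.2)
    (hK : Nat.Coprime (Nat.card (MulAction.stabilizer G (pt 0))) p)
    (Γ : Type u) [Group Γ] [Finite Γ] (σ : Γ →* G) (hσ : Cfsg.IsStemExtension σ)
    (a : ℕ) (hc : Nat.card σ.ker = p ^ a) : IsCyclic σ.ker ∧ Nat.card σ.ker ∣ p ^ e := by
  obtain ⟨z, hz1, hz2, hz3⟩ := ker_cyclic_of_cert p e hp D C hS hC hm pt gs hgen pt_zero pi_act hord
    hrel hK Γ σ hσ a hc
  have hzk : z ∈ σ.ker := MonoidHom.mem_ker.mpr hz1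
  have hgenz : ∀ x : σ.ker, x ∈ Subgroup.zpowers (⟨z, hzk⟩ : σ.ker) := by
    intro x
    obtain ⟨t, ht⟩ := Subgroup.mem_zpowers_iff.mp (hz3 x.1 (MonoidHom.mem_ker.mp x.2))
    exact Subgroup.mem_zpowers_iff.mpr ⟨t, Subtype.ext (by rw [Subgroup.coe_zpow]; exact ht)⟩
  refine ⟨⟨⟨z, hzk⟩, hgenz⟩, ?_⟩
  have h1 : Nat.card σ.ker = orderOf (⟨z, hzk⟩ : σ.ker) := by
    rw [← Nat.card_zpowers]
    have : Subgroup.zpowers (⟨z, hzk⟩ : σ.ker) = ⊤ := by
      rw [eq_top_iff]; intro x _; exact hgenz x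
    rw [this, Subgroup.card_top]
  rw [h1, ← Subgroup.orderOf_coe]
  exact orderOf_dvd_of_pow_eq_one hz2

end Cfsg.Agent.Lib.Helper1.StemZB
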