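import Mathlib
import Cfsg.Agent.Lib.Helper1.StemZB3

set_option autoImplicit false

/-! Labelled actions: the hypotheses on the quotient from a faithful action. -/

namespace Cfsg.Agent.Lib.Helper1.StemZB

open Cfsg.Agent.Lib.Helper1.MatCode Cfsg.Agent.Lib.Helper1.Stem Cfsg.Agent.Lib.Helper1.StemSA
  Cfsg.Agent.Lib.Helper1.StemZLin Cfsg.Agent.Lib.Helper1.StemZA

section

variable (D : SAData) (hS : D.chkStruct = true) {G Y : Type*} [Group G] [MulAction G Y]
  (pt : ℕ → Y) (gs : List G)
  (pi_act : ∀ i < D.k, ∀ j < D.m, gs.getD i 1 • pt j = pt (D.pi i j))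
include hS pi_act

/-- the action of a word on the points -/
theorem smul_wordProd (w : List ℕ) (hw : ∀ i ∈ w, i < D.k) (j : ℕ) (hj : j < D.m) :
    D.actW w j < D.m ∧ wordProd gs w • pt j = pt (D.actW w j) := by
  induction w with
  | nil => exact ⟨hj, by rw [wordProd_nil, one_smul]; rfl⟩
  | cons i w ih =>
    have hi : i < D.k := hw i (by simp)
    obtain ⟨h1, h2⟩ := ih (fun i' hi' => hw i' (by simp [hi']))
    refine ⟨by rw [SAData.actW_cons]; exact pi_lt D hS i _ hi h1, ?_⟩
    rw [wordProd_cons, mul_smul, h2, pi_act i hi _ h1, SAData.actW_cons]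

/-- two words acting in the same way on the points are equal, for a faithful action on the
points -/
theorem wordProd_eq_of_actW [FaithfulSMul G Y] (hsurj : ∀ y : Y, ∃ j < D.m, pt j = y)
    (w w' : List ℕ) (hw : ∀ i ∈ w, i < D.k) (hw' : ∀ i ∈ w', i < D.k)
    (h : ∀ j < D.m, D.actW w j = D.actW w' j) : wordProd gs w = wordProd gs w' := by
  apply FaithfulSMul.eq_of_smul_eq_smul (α := Y)
  intro y
  obtain ⟨j, hj, rfl⟩ := hsurj y
  rw [(smul_wordProd D hS pt gs pi_act w hw j hj).2, (smul_wordProd D hS pt gs pi_act w' hw' j hj).2,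
    h j hj]

/-- every point is reached from the base point by the group generated by the generators -/
theorem exists_mem_closure_smul (j : ℕ) (hj : j < D.m) :
    ∃ h ∈ Subgroup.closure {g | ∃ i < D.k, g = gs.getD i 1}, h • pt 0 = pt j := by
  induction j using Nat.strong_induction_on with
  | _ j ih =>
    by_cases h0 : j = 0
    · subst h0
      exact ⟨1, Subgroup.one_mem _, one_smul _ _⟩
    · obtain ⟨h1, h2, h3⟩ := par_ok D hS j (by omega) hj
      obtain ⟨h, hh, hact⟩ := ih _ h2 (by omega)
      refine ⟨gs.getD (D.par j).1 1 * h, Subgroup.mul_mem _ (Subgroup.subset_closure ⟨_, h1, rfl⟩) hh, ?_⟩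
      rw [mul_smul, hact, pi_act _ h1 _ (by omega), h3]

end

/-- the check that the relations hold on the points and that the powers act trivially -/
def chkAct (D : SAData) : Bool :=
  (D.rels.all fun w => (List.range D.m).all fun j => D.actW w.1 j == D.actW w.2 j) &&
  ((List.range D.k).all fun i => (List.range D.m).all fun j =>
    D.actW (List.replicate (D.ords.getD i 0) i) j == j)

section

variable (D : SAData) (hS : D.chkStruct = true) (hA : chkAct D = true)
  {G Y : Type*} [Group G] [MulAction G Y] [FaithfulSMul G Y]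
  (pt : ℕ → Y) (gs : List G)
  (pi_act : ∀ i < D.k, ∀ j < D.m, gs.getD i 1 • pt j = pt (D.pi i j))
  (hsurj : ∀ y : Y, ∃ j < D.m, pt j = y)
include hS hA pi_act hsurj

theorem hrel_of_chkAct (w : List ℕ × List ℕ) (hw : w ∈ D.rels) :
    wordProd gs w.1 = wordProd gs w.2 := by
  unfold chkAct at hA
  simp only [Bool.and_eq_true, List.all_eq_true, List.mem_range, beq_iff_eq] at hA
  obtain ⟨hw1, hw2⟩ := rels_lt D hS w hw
  exact wordProd_eq_of_actW D hS pt gs pi_act hsurj w.1 w.2 hw1 hw2 (hA.1 w hw)

theorem pow_of_chkAct (i : ℕ) (hi : i < D.k) : (gs.getD i 1) ^ (D.ords.getD i 0) = 1 := by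
  unfold chkAct at hA
  simp only [Bool.and_eq_true, List.all_eq_true, List.mem_range, beq_iff_eq] at hA
  have h := wordProd_eq_of_actW D hS pt gs pi_act hsurj (List.replicate (D.ords.getD i 0) i) []
    (by intro i' hi'; rw [List.mem_replicate] at hi'; rw [hi'.2]; exact hi) (by simp)
    (fun j hj => by rw [hA.2 i hi j hj]; rfl)
  rwa [wordProd_replicate, wordProd_nil] at h

end

end Cfsg.Agent.Lib.Helper1.StemZB
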