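import Mathlib
import Cfsg.Agent.Lib.Helper1.StemZB4

/-!
# The orbit of the base point of a labelled action, and the order of its stabilizer
-/

set_option autoImplicit false

namespace Cfsg.Agent.Lib.Helper1.StemOrb

open Cfsg.Agent.Lib.Helper1.MatCode Cfsg.Agent.Lib.Helper1.StemSA

section

variable (D : SAData) (hS : D.chkStruct = true) {G Y : Type*} [Group G] [Finite G] [MulAction G Y]
  (pt : ℕ → Y) (gs : List G)
  (hgen : Subgroup.closure {g | ∃ i < D.k, g = gs.getD i 1} = ⊤)
  (pi_act : ∀ i < D.k, ∀ j < D.m, gs.getD i 1 • pt j = pt (D.pi i j))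
include hS hgen pi_act

/-- every element of the group permutes the points -/
theorem smul_pt (g : G) (j : ℕ) (hj : j < D.m) : ∃ j' < D.m, g • pt j = pt j' := by
  let S : Subgroup G :=
    { carrier := {g | ∀ j < D.m, ∃ j' < D.m, g • pt j = pt j'}
      one_mem' := fun j hj => ⟨j, hj, one_smul _ _⟩
      mul_mem' := by
        intro g h hg hh j hj
        obtain ⟨j', hj', h1⟩ := hh j hj
        obtain ⟨j'', hj'', h2⟩ := hg j' hj'
        exact ⟨j'', hj'', by rw [mul_smul, h1, h2]⟩
      inv_mem' := by
        intro g hg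
        have hpow : ∀ n : ℕ, ∀ j < D.m, ∃ j' < D.m, g ^ n • pt j = pt j' := by
          intro n
          induction n with
          | zero => exact fun j hj => ⟨j, hj, by rw [pow_zero, one_smul]⟩
          | succ n ih =>
            intro j hj
            obtain ⟨j', hj', h1⟩ := ih j hj
            obtain ⟨j'', hj'', h2⟩ := hg j' hj'
            exact ⟨j'', hj'', by rw [pow_succ', mul_smul, h1, h2]⟩
        have hinv : g⁻¹ = g ^ (orderOf g - 1) := by
          apply inv_eq_of_mul_eq_one_right
          rw [← pow_succ', Nat.sub_add_cancel (orderOf_pos g), pow_orderOf_eq_one]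
        show ∀ j < D.m, _
        rw [hinv]
        exact hpow _ }
  have h1 : Subgroup.closure {g | ∃ i < D.k, g = gs.getD i 1} ≤ S := by
    rw [Subgroup.closure_le]
    rintro g ⟨i, hi, rfl⟩ j hj
    exact ⟨D.pi i j, pi_lt D hS i j hi hj, pi_act i hi j hj⟩
  rw [hgen] at h1
  exact h1 (Subgroup.mem_top g) j hj

theorem orbit_eq (hm : 0 < D.m) :
    MulAction.orbit G (pt 0) = pt '' (↑(Finset.range D.m) : Set ℕ) := by
  ext y
  constructor
  · rintro ⟨g, rfl⟩
    obtain ⟨j', hj', h⟩ := smul_pt D hS pt gs hgen pi_act g 0 hm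
    exact ⟨j', Finset.mem_coe.mpr (Finset.mem_range.mpr hj'), h.symm⟩
  · rintro ⟨j, hj, rfl⟩
    obtain ⟨h, _, hact⟩ := StemZB.exists_mem_closure_smul D hS pt gs pi_act j
      (Finset.mem_range.mp (Finset.mem_coe.mp hj))
    exact ⟨h, hact⟩

/-- the order of the stabilizer of the base point -/
theorem card_stabilizer_mul (hm : 0 < D.m)
    (pt_inj : ∀ j < D.m, ∀ j' < D.m, pt j = pt j' → j = j') :
    Nat.card (MulAction.stabilizer G (pt 0)) * D.m = Nat.card G := by
  have h1 := Subgroup.card_mul_index (MulAction.stabilizer G (pt 0))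
  rw [MulAction.index_stabilizer, orbit_eq D hS pt gs hgen pi_act hm] at h1
  have h3 : (pt '' (↑(Finset.range D.m) : Set ℕ)).ncard = D.m := by
    have hinj : Set.InjOn pt (↑(Finset.range D.m) : Set ℕ) := by
      intro j hj j' hj' h
      exact pt_inj j (Finset.mem_range.mp (Finset.mem_coe.mp hj)) j'
        (Finset.mem_range.mp (Finset.mem_coe.mp hj')) h
    rw [hinj.ncard_image, Set.ncard_coe_finset, Finset.card_range]
  rw [h3] at h1
  exact h1

end

end Cfsg.Agent.Lib.Helper1.StemOrb
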