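import Mathlib
import Cfsg.Agent.Lib.Helper1.StemZC3

set_option autoImplicit false

/-! Labelled actions: a stem extension with kernel a 2-group has kernel of order at most twice
the bound for the stem extensions of the stabilizer of a point, when that stabilizer is
perfect. -/

namespace Cfsg.Agent.Lib.Helper1.StemZC

open Cfsg.Agent.Lib.Helper1.MatCode Cfsg.Agent.Lib.Helper1.Stem Cfsg.Agent.Lib.Helper1.StemSA
  Cfsg.Agent.Lib.Helper1.StemZLin Cfsg.Agent.Lib.Helper1.StemZA

universe u v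

theorem card_ker_le_two_mul (D : SAData) (C : ZCCert) (hS : D.chkStruct = true)
    (hC : chkCertC D C = true) (hm : 0 < D.m)
    {G : Type v} {Y : Type*} [Group G] [MulAction G Y] (pt : ℕ → Y) (gs : List G)
    (hgen : Subgroup.closure {g | ∃ i < D.k, g = gs.getD i 1} = ⊤)
    (pt_zero : ∀ j < D.m, pt j = pt 0 → j = 0)
    (pi_act : ∀ i < D.k, ∀ j < D.m, gs.getD i 1 • pt j = pt (D.pi i j))
    (hodd : ∀ i < D.k, Odd (D.ords.getD i 0) ∧ (gs.getD i 1) ^ (D.ords.getD i 0) = 1)
    (hrel : ∀ w ∈ D.rels, wordProd gs w.1 = wordProd gs w.2)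
    (hK : commutator (MulAction.stabilizer G (pt 0)) = ⊤) (t : ℕ)
    (hT : ∀ (Γ' : Type u) [Group Γ'] [Finite Γ'] (σ' : Γ' →* MulAction.stabilizer G (pt 0)),
      Cfsg.IsStemExtension σ' → IsPGroup 2 σ'.ker → Nat.card σ'.ker ≤ t)
    (Γ : Type u) [Group Γ] [Finite Γ] (σ : Γ →* G) (hσ : Cfsg.IsStemExtension σ)
    (a : ℕ) (hc : Nat.card σ.ker = 2 ^ a) : Nat.card σ.ker ≤ 2 * t := by
  classical
  obtain ⟨hs, hcen, hcomm⟩ := hσ
  set K := MulAction.stabilizer G (pt 0) with hKdef
  set Kc := K.comap σ with hKc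
  have hmemKc : ∀ g : Γ, g ∈ Kc ↔ σ g • pt 0 = pt 0 := by
    intro g
    rw [hKc, Subgroup.mem_comap, hKdef, MulAction.mem_stabilizer_iff]
  have hkpow : ∀ c : Γ, σ c = 1 → c ^ 2 ^ a = 1 := by
    intro c hc1
    have h1 : (⟨c, MonoidHom.mem_ker.mpr hc1⟩ : σ.ker) ^ Nat.card σ.ker = 1 := pow_card_eq_one'
    rw [hc] at h1
    exact congrArg Subtype.val h1
  let κ : Γ → Additive (Abelianization Kc) := fun g =>
    if h : g ∈ Kc then Additive.ofMul (Abelianization.of ⟨g, h⟩) else 0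
  have hκ : ∀ (g : Γ) (h : g ∈ Kc), κ g = Additive.ofMul (Abelianization.of ⟨g, h⟩) := by
    intro g h
    simp only [κ, dif_pos h]
  have hlift : ∀ (g : Γ) (hg : g ∈ Kc), ((⟨g, hg⟩ : Kc) ∈ commutator Kc ↔ g ∈ liftSub σ K) := by
    intro g hg
    unfold liftSub
    rw [← Subgroup.map_subtype_commutator]
    constructor
    · intro h
      exact ⟨⟨g, hg⟩, h, rfl⟩
    · rintro ⟨w, hw, hwg⟩
      have : w = ⟨g, hg⟩ := Subtype.ext hwg
      rw [← this]; exact hw
  have hof1 : ∀ (g : Γ) (hg : g ∈ Kc), Abelianization.of (⟨g, hg⟩ : Kc) = 1 ↔ g ∈ liftSub σ K := by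
    intro g hg
    rw [← hlift g hg]
    exact QuotientGroup.eq_one_iff _
  have hliftX : ∀ i : ℕ, ∃ x : Γ, σ x = gs.getD i 1 ∧ (i < D.k → x ^ (D.ords.getD i 0) = 1) := by
    intro i
    by_cases hi : i < D.k
    · obtain ⟨ho, hp⟩ := hodd i hi
      obtain ⟨x, hx1, hx2⟩ := exists_lift_pow_eq_one σ hs a hkpow _ _ ho hp
      exact ⟨x, hx1, fun _ => hx2⟩
    · obtain ⟨x, hx⟩ := hs (gs.getD i 1)
      exact ⟨x, hx, fun h => absurd h hi⟩
  choose xf hxf using hliftX
  let X : List Γ := (List.range D.k).map xf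
  have hX : ∀ i < D.k, X.getD i 1 = xf i := by
    intro i hi
    have : i < X.length := by simp [X, hi]
    rw [List.getD_eq_getElem _ _ this]
    simp [X]
  have hσX : ∀ i < D.k, σ (X.getD i 1) = gs.getD i 1 := by
    intro i hi
    rw [hX i hi]; exact (hxf i).1
  have H : ZAHyp D σ pt X κ :=
    { ker_central := hcen
      pt_zero := pt_zero
      pi_act := by
        intro i hi j hj
        rw [hσX i hi]; exact pi_act i hi j hj
      pow_one := by
        intro i hi
        rw [hX i hi]; exact (hxf i).2 hi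
      rel_ok := by
        intro w hw
        obtain ⟨hw1, hw2⟩ := rels_lt D hS w hw
        rw [sigma_wordProd σ X gs D.k hσX w.1 hw1, sigma_wordProd σ X gs D.k hσX w.2 hw2]
        exact hrel w hw
      gen := by
        intro g
        have h1 : Subgroup.closure {g | ∃ i < D.k, g = X.getD i 1} = ⊤ := by
          apply closure_eq_top_of_stem σ ⟨hs, hcen, hcomm⟩
          rw [eq_top_iff, ← hgen]
          apply Subgroup.closure_mono
          rintro _ ⟨i, hi, rfl⟩
          exact ⟨X.getD i 1, ⟨i, hi, rfl⟩, hσX i hi⟩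
        rw [h1]; exact Subgroup.mem_top g
      kap_mul := by
        intro g h hg hh
        have hg' : g ∈ Kc := (hmemKc g).mpr hg
        have hh' : h ∈ Kc := (hmemKc h).mpr hh
        rw [hκ g hg', hκ h hh', hκ (g * h) (Kc.mul_mem hg' hh'), ← ofMul_mul, ← map_mul]
        rfl }
  have h2 : ∀ x : Additive (Abelianization Kc), (2 ^ a : ℤ) • x = 0 := by
    intro x
    obtain ⟨q, rfl⟩ := Additive.ofMul.surjective x
    obtain ⟨⟨g, hg⟩, rfl⟩ := QuotientGroup.mk_surjective q
    obtain ⟨c, hck, hgc⟩ := exists_mul_mem_liftSub σ hs K hK g hg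
    have hcK : c ∈ Kc := by
      rw [hmemKc, MonoidHom.mem_ker.mp hck, one_smul]
    have e1 : Abelianization.of (⟨g, hg⟩ : Kc) * Abelianization.of (⟨c, hcK⟩ : Kc) = 1 := by
      rw [← map_mul]
      exact (hof1 (g * c) (Kc.mul_mem hg hcK)).mpr hgc
    have e2 : Abelianization.of (⟨c, hcK⟩ : Kc) ^ 2 ^ a = 1 := by
      rw [← map_pow]
      have : (⟨c, hcK⟩ : Kc) ^ 2 ^ a = 1 := Subtype.ext (hkpow c (MonoidHom.mem_ker.mp hck))
      rw [this, map_one]
    have e3 : Abelianization.of (⟨g, hg⟩ : Kc) ^ 2 ^ a = 1 := by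
      have : Abelianization.of (⟨g, hg⟩ : Kc) = (Abelianization.of (⟨c, hcK⟩ : Kc))⁻¹ :=
        eq_inv_of_mul_eq_one_left e1
      rw [this, inv_pow, e2, inv_one]
    show (2 ^ a : ℤ) • Additive.ofMul (Abelianization.of (⟨g, hg⟩ : Kc)) = 0
    rw [← ofMul_zpow]
    have : Abelianization.of (⟨g, hg⟩ : Kc) ^ (2 ^ a : ℤ) = 1 := by
      have e4 : ((2 : ℤ) ^ a) = ((2 ^ a : ℕ) : ℤ) := by push_cast; rfl
      rw [e4, zpow_natCast, e3]
    rw [this]; rfl
  obtain ⟨a₀, ha₀, hker⟩ := zc_main D C σ pt X κ hS H hC hm a h2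
  -- elements of the kernel with the same image differ by an element of the lift
  have hdiff : ∀ c c' : Γ, σ c = 1 → σ c' = 1 → κ c = κ c' → c * c'⁻¹ ∈ liftSub σ K := by
    intro c c' h1 h1' he
    have hcK : c ∈ Kc := by rw [hmemKc, h1, one_smul]
    have hcK' : c' ∈ Kc := by rw [hmemKc, h1', one_smul]
    rw [hκ c hcK, hκ c' hcK'] at he
    have he' : Abelianization.of (⟨c, hcK⟩ : Kc) = Abelianization.of (⟨c', hcK'⟩ : Kc) :=
      Additive.ofMul.injective he
    have e1 : Abelianization.of (⟨c * c'⁻¹, Kc.mul_mem hcK (Kc.inv_mem hcK')⟩ : Kc) = 1 := by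
      have : (⟨c * c'⁻¹, Kc.mul_mem hcK (Kc.inv_mem hcK')⟩ : Kc) =
          (⟨c, hcK⟩ : Kc) * (⟨c', hcK'⟩ : Kc)⁻¹ := rfl
      rw [this, map_mul, map_inv, he', mul_inv_cancel]
    exact (hof1 _ _).mp e1
  have hvals : ∀ c : Γ, σ c = 1 → κ c = 0 ∨ κ c = a₀ := by
    intro c h1
    obtain ⟨n, hn⟩ := AddSubgroup.mem_zmultiples_iff.mp (hker c h1)
    rcases Int.emod_two_eq_zero_or_one n with h | h
    · left
      have : n = 2 * (n / 2) := by omega
      rw [← hn, this, mul_comm, mul_smul, ha₀, smul_zero]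
    · right
      have : n = 2 * (n / 2) + 1 := by omega
      rw [← hn, this, add_smul, mul_comm, mul_smul, ha₀, smul_zero, zero_add, one_smul]
  -- the stem extension of the stabilizer
  have hstem := liftHom_isStem σ hs hcen K hK
  have hpk : IsPGroup 2 (liftHom σ K).ker := by
    intro x
    refine ⟨a, ?_⟩
    apply Subtype.ext
    apply Subtype.ext
    have hx : σ (x.1 : Γ) = 1 := by
      have := x.2
      rw [MonoidHom.mem_ker] at this
      exact congrArg Subtype.val this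
    exact hkpow _ hx
  have hcard := hT (liftSub σ K) (liftHom σ K) hstem hpk
  -- the counting
  let f : σ.ker → Bool := fun c => decide (κ c.1 = 0)
  have hbase : ∀ bb : Bool, ∃ c₀ : σ.ker, (∃ c : σ.ker, f c = bb) → f c₀ = bb := by
    intro bb
    by_cases h : ∃ c : σ.ker, f c = bb
    · obtain ⟨c, hc'⟩ := h
      exact ⟨c, fun _ => hc'⟩
    · exact ⟨1, fun h' => absurd h' h⟩
  choose base hbase' using hbase
  have hsame : ∀ c : σ.ker, κ c.1 = κ (base (f c)).1 := by
    intro c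
    have h1 := MonoidHom.mem_ker.mp c.2
    have h1' := MonoidHom.mem_ker.mp (base (f c)).2
    have hb : f (base (f c)) = f c := hbase' (f c) ⟨c, rfl⟩
    by_cases h0 : κ c.1 = 0
    · have hfc : f c = true := decide_eq_true h0
      have hb2 : f (base (f c)) = true := hb.trans hfc
      have h0' : κ (base (f c)).1 = 0 := of_decide_eq_true hb2
      rw [h0, h0']
    · have hfc : f c = false := decide_eq_false h0
      have hb2 : f (base (f c)) = false := hb.trans hfc
      have h0' : ¬ κ (base (f c)).1 = 0 := of_decide_eq_false hb2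
      rw [(hvals _ h1).resolve_left h0, (hvals _ h1').resolve_left h0']
  let g : σ.ker → Bool × (liftHom σ K).ker := fun c =>
    (f c, ⟨⟨c.1 * (base (f c)).1⁻¹, hdiff _ _ (MonoidHom.mem_ker.mp c.2)
      (MonoidHom.mem_ker.mp (base (f c)).2) (hsame c)⟩, by
      rw [MonoidHom.mem_ker]
      apply Subtype.ext
      show σ (c.1 * (base (f c)).1⁻¹) = 1
      rw [map_mul, map_inv, MonoidHom.mem_ker.mp c.2, MonoidHom.mem_ker.mp (base (f c)).2,
        inv_one, mul_one]⟩)
  have hg : Function.Injective g := by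
    intro c c' hcc
    have h1 : f c = f c' := congrArg Prod.fst hcc
    have h2' : c.1 * (base (f c)).1⁻¹ = c'.1 * (base (f c')).1⁻¹ := by
      have := congrArg (fun q : Bool × (liftHom σ K).ker => ((q.2 : liftSub σ K) : Γ)) hcc
      exact this
    rw [h1] at h2'
    exact Subtype.ext (mul_right_cancel h2')
  have h3 := Nat.card_le_card_of_injective g hg
  rw [Nat.card_prod] at h3
  have h4 : Nat.card Bool = 2 := by simp
  rw [h4] at h3
  exact h3.trans (Nat.mul_le_mul_left 2 hcard)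

end Cfsg.Agent.Lib.Helper1.StemZC
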