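import Mathlib
import Cfsg.Agent.Lib.Helper1.Alt8D
import Cfsg.Agent.Lib.Helper1.StemZD4
import Cfsg.Agent.Lib.Helper1.StemOrb
import Cfsg.Agent.Lib.Helper1.StabAlt
import Cfsg.Agent.Lib.Helper1.A7UB
import Cfsg.Agent.Lib.Helper1.Stem14
import Cfsg.Agent.Lib.Helper1.Stem12

/-!
# The stem extensions of the alternating group of degree 8 with kernel a 2-group
-/

set_option autoImplicit false
set_option maxRecDepth 100000

namespace Cfsg.Agent.Lib.Helper1.Alt8

open Equiv Cfsg.Agent.Lib.Helper1.PermList Cfsg.Agent.Lib.Helper1.Stem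
  Cfsg.Agent.Lib.Helper1.MatCode Cfsg.Agent.Lib.Helper1.StemSA

universe u

def p3 : Perm (Fin 8) :=
  permOfNat 8 (fun x => [1,2,0,3,4,5,6,7].getD x 0) (fun x => [2,0,1,3,4,5,6,7].getD x 0)
    (by decide)

def p7 : Perm (Fin 8) :=
  permOfNat 8 (fun x => [0,2,3,4,5,6,7,1].getD x 0) (fun x => [0,7,1,2,3,4,5,6].getD x 0)
    (by decide)

theorem p3_sign : Perm.sign p3 = 1 := by decide
theorem p7_sign : Perm.sign p7 = 1 := by decide

/-- the group -/
abbrev A8 := alternatingGroup (Fin 8)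

/-- a cycle of length 3 -/
def c3 : A8 := ⟨p3, Perm.mem_alternatingGroup.mpr p3_sign⟩
/-- a cycle of length 7 -/
def c7 : A8 := ⟨p7, Perm.mem_alternatingGroup.mpr p7_sign⟩

/-- the generators -/
abbrev GG : List A8 := [c3, c7]

theorem eq_of_val_pbeq (g h : A8) (e : pbeq (g : Perm (Fin 8)) (h : Perm (Fin 8)) = true) :
    g = h :=
  Subtype.ext (eq_of_pbeq _ _ e)

theorem p3_eq : p3 = swap 0 2 * swap 0 1 := by
  apply eq_of_pbeq
  decide +kernel

theorem p3_three : p3.IsThreeCycle := by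
  rw [p3_eq]
  exact Perm.isThreeCycle_swap_mul_swap_same (by decide) (by decide) (by decide)

theorem move_chk : ∀ x : Fin 8, x ≠ 0 → ∃ k : Fin 7, (p7 ^ k.val) x = 1 ∧ (p7 ^ k.val) 0 = 0 := by
  decide +kernel

theorem alt_le_closure :
    alternatingGroup (Fin 8) ≤ Subgroup.closure ({p3, p7} : Set (Perm (Fin 8))) := by
  set H := Subgroup.closure ({p3, p7} : Set (Perm (Fin 8))) with hH
  have h3 : p3 ∈ H := Subgroup.subset_closure (by simp)
  have h7 : p7 ∈ H := Subgroup.subset_closure (by simp)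
  have hp30 : p3⁻¹ 1 = 0 := by decide +kernel
  have key : ∀ a b : Fin 8, a ≠ b → ∃ g : H, g • a = 0 ∧ g • b = 1 := by
    intro a b hab
    -- move `a` to `0`
    obtain ⟨g1, hg1, hg1a⟩ : ∃ g1 : Perm (Fin 8), g1 ∈ H ∧ g1 a = 0 := by
      by_cases ha : a = 0
      · exact ⟨1, H.one_mem, by rw [ha]; rfl⟩
      · obtain ⟨k, hk, _⟩ := move_chk a ha
        refine ⟨p3⁻¹ * p7 ^ k.val, H.mul_mem (H.inv_mem h3) (H.pow_mem h7 _), ?_⟩
        rw [Perm.mul_apply, hk, hp30]
    have hb' : g1 b ≠ 0 := by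
      intro h
      rw [← hg1a] at h
      exact hab (g1.injective h).symm
    obtain ⟨k, hk, hk0⟩ := move_chk (g1 b) hb'
    refine ⟨⟨p7 ^ k.val * g1, H.mul_mem (H.pow_mem h7 _) hg1⟩, ?_, ?_⟩
    · show (p7 ^ k.val * g1) a = 0
      rw [Perm.mul_apply, hg1a, hk0]
    · show (p7 ^ k.val * g1) b = 1
      rw [Perm.mul_apply, hk]
  have h2t : MulAction.IsMultiplyPretransitive H (Fin 8) 2 := by
    rw [MulAction.is_two_pretransitive_iff]
    intro a b c d hab hcd
    obtain ⟨u, hu1, hu2⟩ := key a b hab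
    obtain ⟨v, hv1, hv2⟩ := key c d hcd
    refine ⟨v⁻¹ * u, ?_, ?_⟩
    · rw [mul_smul, hu1, inv_smul_eq_iff, hv1]
    · rw [mul_smul, hu2, inv_smul_eq_iff, hv2]
  have hprim : MulAction.IsPreprimitive H (Fin 8) :=
    MulAction.isPreprimitive_of_is_two_pretransitive h2t
  exact Equiv.Perm.alternatingGroup_le_of_isPreprimitive_of_isThreeCycle_mem hprim p3_three h3

theorem hgen : Subgroup.closure {g | ∃ i < D.k, g = GG.getD i 1} = ⊤ := by
  rw [eq_top_iff]
  intro g _
  have h1 : (g : Perm (Fin 8)) ∈ Subgroup.closure ({p3, p7} : Set (Perm (Fin 8))) :=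
    alt_le_closure g.2
  have h2 : Subgroup.closure ({p3, p7} : Set (Perm (Fin 8))) =
      (Subgroup.closure {g : A8 | ∃ i < D.k, g = GG.getD i 1}).map (alternatingGroup (Fin 8)).subtype := by
    rw [MonoidHom.map_closure]
    congr 1
    ext x
    constructor
    · intro hx
      simp only [Set.mem_insert_iff, Set.mem_singleton_iff] at hx
      rcases hx with rfl | rfl
      · exact ⟨c3, ⟨0, by decide, rfl⟩, rfl⟩
      · exact ⟨c7, ⟨1, by decide, rfl⟩, rfl⟩
    · rintro ⟨y, ⟨i, hi, rfl⟩, rfl⟩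
      have hi' : i < 2 := hi
      interval_cases i
      · left; rfl
      · right; rfl
  rw [h2] at h1
  obtain ⟨y, hy, hyg⟩ := h1
  have : y = g := Subtype.ext hyg
  rw [← this]; exact hy

/-- the points -/
def pt (j : ℕ) : Fin 8 := Fin.ofNat 8 j

theorem chk_struct : D.chkStruct = true := by decide +kernel

theorem chk_cert : StemZD.chkCertD D C = true := by decide +kernel

theorem pi_act : ∀ i < D.k, ∀ j < D.m, GG.getD i 1 • pt j = pt (D.pi i j) := by
  intro i hi j hj
  have hi' : i < 2 := hi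
  have hj' : j < 8 := hj
  interval_cases i <;> interval_cases j <;> rfl

theorem pt_inj : ∀ j < D.m, ∀ j' < D.m, pt j = pt j' → j = j' := by
  intro j hj j' hj' h
  have hj2 : j < 8 := hj
  have hj2' : j' < 8 := hj'
  have := congrArg Fin.val h
  simp only [pt, Fin.ofNat, Nat.mod_eq_of_lt hj2, Nat.mod_eq_of_lt hj2'] at this
  exact this

theorem pt_zero (j : ℕ) (hj : j < D.m) (h : pt j = pt 0) : j = 0 := pt_inj j hj 0 (by decide) h

theorem c3_pow : c3 ^ 3 = 1 := by
  apply eq_of_val_pbeq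
  decide +kernel

theorem c7_pow : c7 ^ 7 = 1 := by
  apply eq_of_val_pbeq
  decide +kernel

theorem hodd (i : ℕ) (hi : i < D.k) :
    Odd (D.ords.getD i 0) ∧ (GG.getD i 1) ^ (D.ords.getD i 0) = 1 := by
  have hi' : i < 2 := hi
  interval_cases i
  · exact ⟨by decide, c3_pow⟩
  · exact ⟨by decide, c7_pow⟩

theorem hrel : ∀ w ∈ D.rels, wordProd GG w.1 = wordProd GG w.2 := by
  intro w hw
  have hw' : w ∈ relsL := hw
  simp only [relsL, List.mem_cons, List.not_mem_nil, or_false] at hw'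
  subst hw'
  apply eq_of_val_pbeq
  decide +kernel

theorem card_alt : Nat.card A8 = 20160 := by
  show Nat.card (alternatingGroup (Fin 8)) = 20160
  have h := two_mul_nat_card_alternatingGroup (α := Fin 8)
  rw [Nat.card_eq_fintype_card (α := Perm (Fin 8)), Fintype.card_perm, Fintype.card_fin] at h
  have : Nat.factorial 8 = 40320 := by decide
  omega

/-- the stabilizer of a point -/
abbrev K : Subgroup A8 := MulAction.stabilizer A8 (pt 0)

theorem card_K : Nat.card ↥K = 2520 := by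
  have h := StemOrb.card_stabilizer_mul D chk_struct pt GG hgen pi_act (by decide) pt_inj
  rw [card_alt] at h
  have h' : Nat.card ↥K * 8 = 20160 := h
  omega

theorem K_fix (g : K) : (g : A8).1 0 = 0 := g.2

theorem hinv (g : K) (a : Fin 7) : ∃ a', g • Fin.succ a = Fin.succ a' := by
  have h1 : (g : A8).1 (Fin.succ a) ≠ 0 := by
    intro h
    rw [← K_fix g] at h
    exact Fin.succ_ne_zero a ((g : A8).1.injective h)
  obtain ⟨a', ha'⟩ := Fin.exists_succ_eq.mpr h1
  exact ⟨a', ha'.symm⟩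

/-- the action of the stabilizer on the other points -/
noncomputable def ψ : K →* Perm (Fin 7) :=
  StabAlt.permHom (K := K) (X := Fin 8) Fin.succ (Fin.succ_injective 7) hinv

theorem ψ_spec (g : K) (a : Fin 7) : Fin.succ (ψ g a) = (g : A8).1 (Fin.succ a) :=
  StabAlt.permHom_spec Fin.succ (Fin.succ_injective 7) hinv g a

theorem ψ_injective : Function.Injective ψ := by
  rw [← MonoidHom.ker_eq_bot_iff, eq_bot_iff]
  intro g hg
  rw [MonoidHom.mem_ker] at hg
  rw [Subgroup.mem_bot]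
  apply Subtype.ext
  apply Subtype.ext
  apply Equiv.ext
  intro x
  show (g : A8).1 x = x
  rcases Fin.eq_zero_or_eq_succ x with rfl | ⟨a, rfl⟩
  · exact K_fix g
  · rw [← ψ_spec, hg]; rfl

/-- the stabilizer of a point is the alternating group of degree 7 -/
theorem nonempty_stabEquiv : Nonempty (K ≃* alternatingGroup (Fin 7)) := by
  have hr : Nat.card ψ.range = 2520 := by
    rw [← card_K]
    exact (Nat.card_congr (MonoidHom.ofInjective ψ_injective).toEquiv).symm
  have hidx : ψ.range.index = 2 := by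
    have h := Subgroup.card_mul_index ψ.range
    rw [hr, Nat.card_perm, Nat.card_eq_fintype_card, Fintype.card_fin] at h
    have : Nat.factorial 7 = 5040 := by decide
    omega
  have hrange : ψ.range = alternatingGroup (Fin 7) :=
    Equiv.Perm.eq_alternatingGroup_of_index_eq_two hidx
  exact ⟨(MonoidHom.ofInjective ψ_injective).trans (MulEquiv.subgroupCongr hrange)⟩

/-- the isomorphism -/
noncomputable def stabEquiv : K ≃* alternatingGroup (Fin 7) := nonempty_stabEquiv.some

theorem stab_perfect : commutator ↥(MulAction.stabilizer A8 (pt 0)) = ⊤ :=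
  commutator_eq_top_of_equiv stabEquiv.symm
    (commutator_alternatingGroup_eq_top (by rw [Nat.card_eq_fintype_card, Fintype.card_fin]; norm_num))

theorem stab_bound (Γ' : Type u) [Group Γ'] [Finite Γ'] (σ' : Γ' →* ↥K)
    (hσ' : Cfsg.IsStemExtension σ') (hp : IsPGroup 2 σ'.ker) : Nat.card σ'.ker ≤ 2 := by
  have h1 := isStem_comp_equiv (MulEquiv.refl Γ') stabEquiv σ' hσ'
  obtain ⟨_, hd⟩ := A7UB.hub Γ' _ h1
  have e2 := kerEquiv (MulEquiv.refl Γ') stabEquiv σ'
  rw [Nat.card_congr e2.toEquiv] at hd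
  obtain ⟨a, ha⟩ := IsPGroup.iff_card.mp hp
  rw [ha] at hd ⊢
  have h3 : (2 : ℕ) ^ a ∣ 2 := by
    have hcop : Nat.Coprime (2 ^ a) 3 := Nat.Coprime.pow_left a (by norm_num)
    exact hcop.dvd_of_dvd_mul_right (by simpa using hd)
  exact Nat.le_of_dvd (by norm_num) h3

/-- a stem extension of the group whose kernel is a 2-group has a kernel of order at most 2 -/
theorem card_ker_le_two (Γ : Type u) [Group Γ] [Finite Γ] (σ : Γ →* A8)
    (hσ : Cfsg.IsStemExtension σ) (hp : IsPGroup 2 σ.ker) : Nat.card σ.ker ≤ 2 := by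
  obtain ⟨a, ha⟩ := IsPGroup.iff_card.mp hp
  have h := StemZD.card_ker_le_pow_mul D C chk_struct chk_cert (by decide) pt GG hgen pt_zero pi_act
    hodd hrel stab_perfect 2 stab_bound Γ σ hσ a ha
  have e : C.es.sum = 0 := rfl
  rw [e] at h
  simpa using h

end Cfsg.Agent.Lib.Helper1.Alt8
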