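import Mathlib

set_option autoImplicit false
set_option linter.unusedSectionVars false

namespace Cfsg.Agent.Lib.Helper1

section WordLength
variable {W : Type*} [Group W]

/-- Words in the alphabet `S`. -/
def IsWord (S : Set W) (l : List W) : Prop := ∀ x ∈ l, x ∈ S

theorem isWord_nil (S : Set W) : IsWord S [] := fun _ h => absurd h (List.not_mem_nil)

theorem isWord_cons {S : Set W} {s : W} {l : List W} (hs : s ∈ S) (hl : IsWord S l) :
    IsWord S (s :: l) := by
  intro x hx
  rcases List.mem_cons.1 hx with rfl | h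
  · exact hs
  · exact hl x h

theorem isWord_append {S : Set W} {l l' : List W} (hl : IsWord S l) (hl' : IsWord S l') :
    IsWord S (l ++ l') := by
  intro x hx
  rcases List.mem_append.1 hx with h | h
  · exact hl x h
  · exact hl' x h

theorem isWord_of_cons {S : Set W} {s : W} {l : List W} (h : IsWord S (s :: l)) :
    s ∈ S ∧ IsWord S l :=
  ⟨h s (List.mem_cons_self), fun x hx => h x (List.mem_cons_of_mem _ hx)⟩

theorem isWord_take {S : Set W} {l : List W} (h : IsWord S l) (j : ℕ) : IsWord S (l.take j) :=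
  fun x hx => h x (List.mem_of_mem_take hx)

theorem isWord_drop {S : Set W} {l : List W} (h : IsWord S l) (j : ℕ) : IsWord S (l.drop j) :=
  fun x hx => h x (List.mem_of_mem_drop hx)

theorem isWord_reverse {S : Set W} {l : List W} (h : IsWord S l) : IsWord S l.reverse :=
  fun x hx => h x (List.mem_reverse.1 hx)

theorem isWord_mono {S S' : Set W} (hSS : S ⊆ S') {l : List W} (h : IsWord S l) : IsWord S' l :=
  fun x hx => hSS (h x hx)

/-- The word length of `w` with respect to `S`. -/
noncomputable def wlen (S : Set W) (w : W) : ℕ :=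
  sInf {k | ∃ l : List W, IsWord S l ∧ l.length = k ∧ l.prod = w}

theorem wlen_le_of_word {S : Set W} {l : List W} (hl : IsWord S l) : wlen S l.prod ≤ l.length :=
  Nat.sInf_le ⟨l, hl, rfl, rfl⟩

theorem wlen_one (S : Set W) : wlen S 1 = 0 := by
  have := wlen_le_of_word (isWord_nil S)
  simpa using this

/-- A set of involutions. -/
def IsInvolSet (S : Set W) : Prop := ∀ s ∈ S, s * s = 1

theorem IsInvolSet.inv_eq {S : Set W} (hS : IsInvolSet S) {s : W} (hs : s ∈ S) : s⁻¹ = s :=
  inv_eq_of_mul_eq_one_left (hS s hs)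

theorem prod_reverse_of_invol {S : Set W} (hS : IsInvolSet S) {l : List W} (hl : IsWord S l) :
    l.reverse.prod = l.prod⁻¹ := by
  induction l with
  | nil => simp
  | cons a l ih =>
    obtain ⟨ha, hl'⟩ := isWord_of_cons hl
    rw [List.reverse_cons, List.prod_append, ih hl', List.prod_cons, List.prod_cons, List.prod_nil,
      mul_one, mul_inv_rev, hS.inv_eq ha]

theorem mem_closure_iff_exists_word {S : Set W} (hS : IsInvolSet S) (w : W) :
    w ∈ Subgroup.closure S ↔ ∃ l : List W, IsWord S l ∧ l.prod = w := by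
  constructor
  · intro hw
    induction hw using Subgroup.closure_induction_left with
    | one => exact ⟨[], isWord_nil S, rfl⟩
    | mul_left x hx y _ ih =>
      obtain ⟨l, hl, rfl⟩ := ih
      exact ⟨x :: l, isWord_cons hx hl, List.prod_cons⟩
    | inv_mul_cancel x hx y _ ih =>
      obtain ⟨l, hl, rfl⟩ := ih
      rw [hS.inv_eq hx]
      exact ⟨x :: l, isWord_cons hx hl, List.prod_cons⟩
  · rintro ⟨l, hl, rfl⟩
    exact Subgroup.list_prod_mem _ fun x hx => Subgroup.subset_closure (hl x hx)

variable {S : Set W}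

theorem exists_reduced_word (hS : IsInvolSet S) {w : W} (hw : w ∈ Subgroup.closure S) :
    ∃ l : List W, IsWord S l ∧ l.length = wlen S w ∧ l.prod = w := by
  obtain ⟨l, hl, hlw⟩ := (mem_closure_iff_exists_word hS w).1 hw
  have hne : {k | ∃ l : List W, IsWord S l ∧ l.length = k ∧ l.prod = w}.Nonempty :=
    ⟨l.length, l, hl, rfl, hlw⟩
  exact Nat.sInf_mem hne

theorem wlen_eq_zero_iff (hS : IsInvolSet S) {w : W} (hw : w ∈ Subgroup.closure S) :
    wlen S w = 0 ↔ w = 1 := by
  constructor
  · intro h
    obtain ⟨l, _, hlen, rfl⟩ := exists_reduced_word hS hw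
    rw [h] at hlen
    rw [List.length_eq_zero_iff.1 hlen]
    rfl
  · rintro rfl
    exact wlen_one S

theorem wlen_mul_le_add (hS : IsInvolSet S) {a b : W} (ha : a ∈ Subgroup.closure S)
    (hb : b ∈ Subgroup.closure S) : wlen S (a * b) ≤ wlen S a + wlen S b := by
  obtain ⟨l, hl, hlen, rfl⟩ := exists_reduced_word hS ha
  obtain ⟨l', hl', hlen', rfl⟩ := exists_reduced_word hS hb
  rw [← hlen, ← hlen', ← List.length_append, ← List.prod_append]
  exact wlen_le_of_word (isWord_append hl hl')

theorem wlen_inv (hS : IsInvolSet S) {w : W} (hw : w ∈ Subgroup.closure S) :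
    wlen S w⁻¹ = wlen S w := by
  have key : ∀ v : W, v ∈ Subgroup.closure S → wlen S v⁻¹ ≤ wlen S v := by
    intro v hv
    obtain ⟨l, hl, hlen, rfl⟩ := exists_reduced_word hS hv
    rw [← prod_reverse_of_invol hS hl, ← hlen, ← List.length_reverse]
    exact wlen_le_of_word (isWord_reverse hl)
  apply le_antisymm (key w hw)
  have := key w⁻¹ (Subgroup.inv_mem _ hw)
  rwa [inv_inv] at this

theorem wlen_le_one {s : W} (hs : s ∈ S) : wlen S s ≤ 1 := by
  have := wlen_le_of_word (S := S) (l := [s]) (by intro x hx; simp at hx; rw [hx]; exact hs)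
  simpa using this

theorem wlen_mul_left_le (hS : IsInvolSet S) {s w : W} (hs : s ∈ S) (hw : w ∈ Subgroup.closure S) :
    wlen S (s * w) ≤ wlen S w + 1 := by
  have := wlen_mul_le_add hS (Subgroup.subset_closure hs) hw
  have h1 := wlen_le_one hs
  omega

theorem wlen_le_mul_left (hS : IsInvolSet S) {s w : W} (hs : s ∈ S) (hw : w ∈ Subgroup.closure S) :
    wlen S w ≤ wlen S (s * w) + 1 := by
  have h1 := wlen_mul_left_le hS hs (Subgroup.mul_mem _ (Subgroup.subset_closure hs) hw)
  rwa [← mul_assoc, hS s hs, one_mul] at h1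

theorem wlen_mul_right_le (hS : IsInvolSet S) {s w : W} (hs : s ∈ S) (hw : w ∈ Subgroup.closure S) :
    wlen S (w * s) ≤ wlen S w + 1 := by
  have := wlen_mul_le_add hS hw (Subgroup.subset_closure hs)
  have h1 := wlen_le_one hs
  omega

theorem wlen_le_mul_right (hS : IsInvolSet S) {s w : W} (hs : s ∈ S) (hw : w ∈ Subgroup.closure S) :
    wlen S w ≤ wlen S (w * s) + 1 := by
  have h1 := wlen_mul_right_le hS hs (Subgroup.mul_mem _ hw (Subgroup.subset_closure hs))
  rwa [mul_assoc, hS s hs, mul_one] at h1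

theorem exists_left_descent (hS : IsInvolSet S) {w : W} (hw : w ∈ Subgroup.closure S) {m : ℕ}
    (hm : wlen S w = m + 1) :
    ∃ s ∈ S, ∃ w' : W, w' ∈ Subgroup.closure S ∧ w = s * w' ∧ wlen S w' = m := by
  obtain ⟨l, hl, hlen, hprod⟩ := exists_reduced_word hS hw
  rw [hm] at hlen
  match l, hl, hlen, hprod with
  | [], _, hlen, _ => simp at hlen
  | s :: l', hl, hlen, hprod =>
    obtain ⟨hs, hl'⟩ := isWord_of_cons hl
    have hw' : l'.prod ∈ Subgroup.closure S :=
      Subgroup.list_prod_mem _ fun x hx => Subgroup.subset_closure (hl' x hx)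
    refine ⟨s, hs, l'.prod, hw', by rw [← hprod, List.prod_cons], ?_⟩
    have h1 : wlen S l'.prod ≤ m := by
      have := wlen_le_of_word hl'
      simp only [List.length_cons] at hlen
      omega
    have h2 : wlen S w ≤ wlen S l'.prod + 1 := by
      rw [← hprod, List.prod_cons]
      exact wlen_mul_left_le hS hs hw'
    omega

theorem exists_right_descent (hS : IsInvolSet S) {w : W} (hw : w ∈ Subgroup.closure S) {m : ℕ}
    (hm : wlen S w = m + 1) :
    ∃ t ∈ S, ∃ w' : W, w' ∈ Subgroup.closure S ∧ w = w' * t ∧ wlen S w' = m := by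
  have hw' := Subgroup.inv_mem _ hw
  have hm' : wlen S w⁻¹ = m + 1 := by rw [wlen_inv hS hw, hm]
  obtain ⟨s, hs, v, hv, hwv, hvm⟩ := exists_left_descent hS hw' hm'
  refine ⟨s, hs, v⁻¹, Subgroup.inv_mem _ hv, ?_, by rw [wlen_inv hS hv, hvm]⟩
  have : w = (s * v)⁻¹ := by rw [← hwv, inv_inv]
  rw [this, mul_inv_rev, hS.inv_eq hs]

/-- Prefixes of reduced words are reduced. -/
theorem wlen_take_of_reduced (hS : IsInvolSet S) {l : List W} (hl : IsWord S l)
    (hred : wlen S l.prod = l.length) (j : ℕ) (hj : j ≤ l.length) :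
    wlen S (l.take j).prod = j := by
  have h1 : wlen S (l.take j).prod ≤ j := by
    have := wlen_le_of_word (isWord_take hl j)
    rwa [List.length_take, min_eq_left hj] at this
  have h2 : wlen S (l.drop j).prod ≤ l.length - j := by
    have := wlen_le_of_word (isWord_drop hl j)
    rwa [List.length_drop] at this
  have hmem : ∀ l' : List W, IsWord S l' → l'.prod ∈ Subgroup.closure S := fun l' hl' =>
    Subgroup.list_prod_mem _ fun x hx => Subgroup.subset_closure (hl' x hx)
  have h3 : wlen S l.prod ≤ wlen S (l.take j).prod + wlen S (l.drop j).prod := by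
    conv_lhs => rw [← List.take_append_drop j l, List.prod_append]
    exact wlen_mul_le_add hS (hmem _ (isWord_take hl j)) (hmem _ (isWord_drop hl j))
  omega

end WordLength

end Cfsg.Agent.Lib.Helper1
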