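import Mathlib
import Cfsg.Agent.Lib.Helper1.WordLen

set_option autoImplicit false

namespace Cfsg.Agent.Lib.Helper1

open DoubleCoset

/-- Abstract data of a Tits system: a subgroup `B` of `G`, a group `W` generated by a set `S`
of involutions, and the double cosets `C w`. -/
structure TitsData (G W : Type*) [Group G] [Group W] where
  B : Subgroup G
  S : Set W
  C : W → Set G
  C_one : C 1 = (B : Set G)
  C_inv : ∀ w x, x ∈ C w → x⁻¹ ∈ C w⁻¹
  C_dc : ∀ w, ∀ x ∈ C w, C w = doubleCoset x (B : Set G) B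
  C_nonempty : ∀ w, (C w).Nonempty
  S_invol : IsInvolSet S
  S_gen : Subgroup.closure S = ⊤
  mul_sub : ∀ s ∈ S, ∀ w, ∀ x ∈ C s, ∀ y ∈ C w, x * y ∈ C (s * w) ∪ C w
  not_sub : ∀ s ∈ S, ∃ x ∈ C s, ∃ y ∈ C s, x * y ∉ B
  one_mem : ∀ w, (1 : G) ∈ C w → w = 1
  C_mul : ∀ w w', ∃ x ∈ C w, ∃ y ∈ C w', x * y ∈ C (w * w')
  cover : ∀ g : G, ∃ w, g ∈ C w

namespace TitsData

variable {G W : Type*} [Group G] [Group W] (D : TitsData G W)

theorem mem_closure (w : W) : w ∈ Subgroup.closure D.S := by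
  rw [D.S_gen]; exact Subgroup.mem_top w

theorem mul_mem_C {w : W} {x : G} (hx : x ∈ D.C w) {b b' : G} (hb : b ∈ D.B) (hb' : b' ∈ D.B) :
    b * x * b' ∈ D.C w := by
  rw [D.C_dc w x hx]
  exact mem_doubleCoset.2 ⟨b, hb, b', hb', rfl⟩

theorem left_mul_mem_C {w : W} {x : G} (hx : x ∈ D.C w) {b : G} (hb : b ∈ D.B) :
    b * x ∈ D.C w := by
  have := D.mul_mem_C hx hb D.B.one_mem
  rwa [mul_one] at this

theorem right_mul_mem_C {w : W} {x : G} (hx : x ∈ D.C w) {b : G} (hb : b ∈ D.B) :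
    x * b ∈ D.C w := by
  have := D.mul_mem_C hx D.B.one_mem hb
  rwa [one_mul] at this

theorem exists_eq_mul {w : W} {x y : G} (hx : x ∈ D.C w) (hy : y ∈ D.C w) :
    ∃ b ∈ D.B, ∃ b' ∈ D.B, y = b * x * b' := by
  rw [D.C_dc w x hx] at hy
  exact mem_doubleCoset.1 hy

theorem C_eq_of_mem {w w' : W} {x : G} (hx : x ∈ D.C w) (hx' : x ∈ D.C w') : D.C w = D.C w' := by
  rw [D.C_dc w x hx, D.C_dc w' x hx']

theorem mem_C_one {x : G} : x ∈ D.C 1 ↔ x ∈ D.B := by
  rw [D.C_one]; rfl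

theorem eq_one_of_mem_B {w : W} {x : G} (hx : x ∈ D.C w) (hxB : x ∈ D.B) : w = 1 := by
  apply D.one_mem
  have := D.left_mul_mem_C hx (D.B.inv_mem hxB)
  rwa [inv_mul_cancel] at this

theorem C_subset_of_mem {w : W} {x : G} (hx : x ∈ D.C w) {M : Subgroup G} (hM : D.B ≤ M)
    (hxM : x ∈ M) : D.C w ⊆ M := by
  intro y hy
  obtain ⟨b, hb, b', hb', rfl⟩ := D.exists_eq_mul hx hy
  exact M.mul_mem (M.mul_mem (hM hb) hxM) (hM hb')

theorem inv_mem_C {s : W} (hs : s ∈ D.S) {x : G} (hx : x ∈ D.C s) : x⁻¹ ∈ D.C s := by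
  have := D.C_inv s x hx
  rwa [D.S_invol.inv_eq hs] at this

theorem mul_sub_right {t : W} (ht : t ∈ D.S) (w : W) {x y : G} (hx : x ∈ D.C w) (hy : y ∈ D.C t) :
    x * y ∈ D.C (w * t) ∪ D.C w := by
  have h1 := D.mul_sub t ht w⁻¹ y⁻¹ (D.inv_mem_C ht hy) x⁻¹ (D.C_inv w x hx)
  rcases h1 with h | h
  · left
    have := D.C_inv _ _ h
    simp only [mul_inv_rev, inv_inv] at this
    rwa [D.S_invol.inv_eq ht] at this
  · right
    have := D.C_inv _ _ h
    simp only [mul_inv_rev, inv_inv] at this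
    exact this

/-- Every element of `C (w w')` is a product. -/
theorem exists_mul_of_mem {w w' : W} {z : G} (hz : z ∈ D.C (w * w')) :
    ∃ x ∈ D.C w, ∃ y ∈ D.C w', z = x * y := by
  obtain ⟨x₀, hx₀, y₀, hy₀, h⟩ := D.C_mul w w'
  obtain ⟨b, hb, b', hb', rfl⟩ := D.exists_eq_mul h hz
  exact ⟨b * x₀, D.left_mul_mem_C hx₀ hb, y₀ * b', D.right_mul_mem_C hy₀ hb', by group⟩

theorem ne_one_of_mem_S {s : W} (hs : s ∈ D.S) : s ≠ 1 := by
  rintro rfl
  obtain ⟨x, hx, y, hy, hxy⟩ := D.not_sub 1 hs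
  rw [D.mem_C_one] at hx hy
  exact hxy (D.B.mul_mem hx hy)

theorem not_mem_B_of_mem_S {s : W} (hs : s ∈ D.S) {x : G} (hx : x ∈ D.C s) : x ∉ D.B :=
  fun h => D.ne_one_of_mem_S hs (D.eq_one_of_mem_B hx h)

theorem wlen_S {s : W} (hs : s ∈ D.S) : wlen D.S s = 1 := by
  have h1 := wlen_le_one (S := D.S) hs
  have h2 : wlen D.S s ≠ 0 := fun h =>
    D.ne_one_of_mem_S hs ((wlen_eq_zero_iff D.S_invol (D.mem_closure s)).1 h)
  omega

/-- The rank one relation: `C s C s` meets `C s`. -/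
theorem rank_one {s : W} (hs : s ∈ D.S) : ∃ x ∈ D.C s, ∃ y ∈ D.C s, x * y ∈ D.C s := by
  obtain ⟨x, hx, y, hy, hxy⟩ := D.not_sub s hs
  refine ⟨x, hx, y, hy, ?_⟩
  rcases D.mul_sub s hs s x hx y hy with h | h
  · rw [D.S_invol s hs, D.mem_C_one] at h
    exact absurd h hxy
  · exact h

/-- Uniqueness in the Bruhat decomposition. -/
theorem C_injective_aux : ∀ k : ℕ, ∀ w w' : W, wlen D.S w = k → k ≤ wlen D.S w' →
    D.C w = D.C w' → w = w' := by
  intro k
  induction k using Nat.strong_induction_on with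
  | _ k ih =>
  intro w w' hk hkw' hC
  rcases Nat.eq_zero_or_pos k with h0 | hpos
  · rw [h0] at hk
    have hw1 : w = 1 := (wlen_eq_zero_iff D.S_invol (D.mem_closure w)).1 hk
    rw [hw1] at hC ⊢
    symm
    apply D.one_mem
    rw [← hC, D.mem_C_one]
    exact D.B.one_mem
  · obtain ⟨m, rfl⟩ : ∃ m, k = m + 1 := ⟨k - 1, by omega⟩
    obtain ⟨s, hs, w'', -, hww'', hm⟩ := exists_left_descent D.S_invol (D.mem_closure w) hk
    -- C w'' ⊆ C s * C w'
    obtain ⟨z, hz⟩ := D.C_nonempty w''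
    have hw''eq : w'' = s * w := by rw [hww'', ← mul_assoc, D.S_invol s hs, one_mul]
    have hz' : z ∈ D.C (s * w) := by rw [← hw''eq]; exact hz
    obtain ⟨x, hx, y, hy, rfl⟩ := D.exists_mul_of_mem hz'
    rw [hC] at hy
    rcases D.mul_sub s hs w' x hx y hy with h | h
    · -- C w'' = C (s w')
      have hCeq : D.C w'' = D.C (s * w') := D.C_eq_of_mem hz h
      have hlen : m ≤ wlen D.S (s * w') := by
        have := wlen_le_mul_left D.S_invol hs (D.mem_closure w')
        omega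
      have := ih m (by omega) w'' (s * w') hm hlen hCeq
      rw [hww'', this, ← mul_assoc, D.S_invol s hs, one_mul]
    · -- C w'' = C w' : impossible
      have hCeq : D.C w'' = D.C w' := D.C_eq_of_mem hz h
      have := ih m (by omega) w'' w' hm (by omega) hCeq
      rw [this] at hm
      omega

theorem C_injective {w w' : W} (h : D.C w = D.C w') : w = w' := by
  rcases le_total (wlen D.S w) (wlen D.S w') with hle | hle
  · exact D.C_injective_aux _ w w' rfl hle h
  · exact (D.C_injective_aux _ w' w rfl hle h.symm).symm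

theorem eq_of_mem_of_mem {w w' : W} {x : G} (hx : x ∈ D.C w) (hx' : x ∈ D.C w') : w = w' :=
  D.C_injective (D.C_eq_of_mem hx hx')

/-- If left multiplication by `s` does not shorten `w`, then `C s C w ⊆ C (s w)`. -/
theorem mul_sub_of_le_aux : ∀ m : ℕ, ∀ (s : W), s ∈ D.S → ∀ w : W, wlen D.S w = m →
    wlen D.S w ≤ wlen D.S (s * w) → ∀ x ∈ D.C s, ∀ y ∈ D.C w, x * y ∈ D.C (s * w) := by
  intro m
  induction m with
  | zero =>
    intro s hs w hw _ x hx y hy
    have hw1 : w = 1 := (wlen_eq_zero_iff D.S_invol (D.mem_closure w)).1 hw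
    subst hw1
    rw [mul_one]
    rw [D.mem_C_one] at hy
    exact D.right_mul_mem_C hx hy
  | succ m ih =>
    intro s hs w hw hle x hx y hy
    obtain ⟨t, ht, w', -, hww', hm⟩ := exists_right_descent D.S_invol (D.mem_closure w) hw
    have hle' : wlen D.S w' ≤ wlen D.S (s * w') := by
      by_contra hlt
      push Not at hlt
      have h1 : wlen D.S (s * w) ≤ wlen D.S (s * w') + 1 := by
        rw [hww', ← mul_assoc]
        exact wlen_mul_right_le D.S_invol ht (D.mem_closure _)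
      omega
    have hIH := ih s hs w' hm hle'
    rcases D.mul_sub s hs w x hx y hy with h | h
    · exact h
    · exfalso
      have hy' : y ∈ D.C (w' * t) := by rw [← hww']; exact hy
      obtain ⟨y', hy'', z, hz, rfl⟩ := D.exists_mul_of_mem hy'
      have h1 : x * y' ∈ D.C (s * w') := hIH x hx y' hy''
      have h2 : x * y' = (x * (y' * z)) * z⁻¹ := by group
      have h3 : x * y' ∈ D.C (w * t) ∪ D.C w := by
        rw [h2]
        exact D.mul_sub_right ht w h (D.inv_mem_C ht hz)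
      have hwt : w * t = w' := by rw [hww', mul_assoc, D.S_invol t ht, mul_one]
      rw [hwt] at h3
      rcases h3 with h4 | h4
      · -- s w' = w'
        have := D.eq_of_mem_of_mem h1 h4
        have hs1 : s = 1 := by
          have := congrArg (· * w'⁻¹) this
          simpa using this
        exact D.ne_one_of_mem_S hs hs1
      · -- s w' = w
        have h5 := D.eq_of_mem_of_mem h1 h4
        have h6 : s * w = w' := by rw [← h5, ← mul_assoc, D.S_invol s hs, one_mul]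
        rw [h6] at hle
        omega

theorem mul_sub_of_le {s : W} (hs : s ∈ D.S) {w : W} (hle : wlen D.S w ≤ wlen D.S (s * w))
    {x y : G} (hx : x ∈ D.C s) (hy : y ∈ D.C w) : x * y ∈ D.C (s * w) :=
  D.mul_sub_of_le_aux _ s hs w rfl hle x hx y hy

/-- If left multiplication by `s` does not lengthen `w`, then `C s C w` meets `C w`. -/
theorem exists_mul_mem_of_le {s : W} (hs : s ∈ D.S) {w : W} (hle : wlen D.S (s * w) ≤ wlen D.S w) :
    ∃ x ∈ D.C s, ∃ y ∈ D.C w, x * y ∈ D.C w := by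
  obtain ⟨x, hx, x', hx', hxx'⟩ := D.rank_one hs
  obtain ⟨y, hy⟩ := D.C_nonempty (s * w)
  have hssw : s * (s * w) = w := by rw [← mul_assoc, D.S_invol s hs, one_mul]
  have hle' : wlen D.S (s * w) ≤ wlen D.S (s * (s * w)) := by rw [hssw]; exact hle
  have h1 : x' * y ∈ D.C w := by
    have := D.mul_sub_of_le hs hle' hx' hy
    rwa [hssw] at this
  have h2 : (x * x') * y ∈ D.C w := by
    have := D.mul_sub_of_le hs hle' hxx' hy
    rwa [hssw] at this
  exact ⟨x, hx, x' * y, h1, by rw [← mul_assoc]; exact h2⟩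

end TitsData

end Cfsg.Agent.Lib.Helper1
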