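import Mathlib
import Cfsg.Agent.Lib.Helper1.Tits1

set_option autoImplicit false

namespace Cfsg.Agent.Lib.Helper1

open DoubleCoset

namespace TitsData

variable {G W : Type*} [Group G] [Group W] (D : TitsData G W)

/-- The exchange condition. -/
theorem exchange {l : List W} (hl : IsWord D.S l) (hred : wlen D.S l.prod = l.length) {s : W}
    (hs : s ∈ D.S) (hle : wlen D.S (s * l.prod) ≤ l.length) :
    ∃ i, ∃ hi : i < l.length, s * (l.take i).prod = (l.take i).prod * l[i] := by
  classical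
  let Q : ℕ → Prop := fun j => j ≤ l.length ∧ wlen D.S (s * (l.take j).prod) ≤ j
  have hQ : ∃ j, Q j := ⟨l.length, le_rfl, by rw [List.take_length]; exact hle⟩
  set j := Nat.find hQ with hj
  have hjQ : Q j := Nat.find_spec hQ
  have hj0 : j ≠ 0 := by
    intro h0
    have := hjQ.2
    rw [h0, List.take_zero, List.prod_nil, mul_one, D.wlen_S hs] at this
    omega
  obtain ⟨i, hi⟩ : ∃ i, j = i + 1 := ⟨j - 1, by omega⟩
  have hil : i < l.length := by have := hjQ.1; omega
  have hnQ : ¬ Q i := Nat.find_min hQ (by omega)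
  refine ⟨i, hil, ?_⟩
  set v := (l.take i).prod with hv
  have htake : l.take (i + 1) = l.take i ++ [l[i]] := (List.take_append_getElem hil).symm
  have hvj : (l.take (i + 1)).prod = v * l[i] := by
    rw [htake, List.prod_append, List.prod_singleton]
  have hlenv : wlen D.S v = i := wlen_take_of_reduced D.S_invol hl hred i hil.le
  have hlenvj : wlen D.S (v * l[i]) = i + 1 := by
    rw [← hvj]; exact wlen_take_of_reduced D.S_invol hl hred (i + 1) hil
  have ht : l[i] ∈ D.S := hl _ (List.getElem_mem hil)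
  have h1 : wlen D.S v ≤ wlen D.S (s * v) := by
    by_contra hlt
    push Not at hlt
    have h7 : wlen D.S (s * v) ≤ i := by omega
    exact hnQ ⟨hil.le, h7⟩
  have h2 : wlen D.S (s * (v * l[i])) ≤ wlen D.S (v * l[i]) := by
    have := hjQ.2
    rw [hi, hvj] at this
    omega
  obtain ⟨x, hx, y, hy, hxy⟩ := D.exists_mul_mem_of_le hs h2
  obtain ⟨y', hy', z, hz, rfl⟩ := D.exists_mul_of_mem hy
  have h3 : x * y' ∈ D.C (s * v) := D.mul_sub_of_le hs h1 hx hy'
  have h4 : x * y' * z ∈ D.C (s * v * l[i]) ∪ D.C (s * v) := D.mul_sub_right ht (s * v) h3 hz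
  rw [← mul_assoc] at hxy
  rcases h4 with h5 | h5
  · exfalso
    have := D.eq_of_mem_of_mem h5 hxy
    have hs1 : s = 1 := by
      have h6 := congrArg (· * (v * l[i])⁻¹) this
      simp only [mul_assoc] at h6
      simpa using h6
    exact D.ne_one_of_mem_S hs hs1
  · exact D.eq_of_mem_of_mem h5 hxy

/-- A non-reduced word can be shortened without leaving its alphabet. -/
theorem exists_shorter {J : Set W} (hJ : J ⊆ D.S) :
    ∀ l : List W, IsWord J l → wlen D.S l.prod < l.length →
      ∃ l' : List W, IsWord J l' ∧ l'.length < l.length ∧ l'.prod = l.prod := by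
  intro l
  induction l with
  | nil => intro _ h; simp at h
  | cons t l ih =>
    intro hl hlt
    obtain ⟨htJ, hlJ⟩ := isWord_of_cons hl
    have ht : t ∈ D.S := hJ htJ
    have hlS : IsWord D.S l := isWord_mono hJ hlJ
    by_cases hred : wlen D.S l.prod < l.length
    · obtain ⟨l', hl', hlen, hprod⟩ := ih hlJ hred
      refine ⟨t :: l', isWord_cons htJ hl', ?_, ?_⟩
      · simp only [List.length_cons]; omega
      · rw [List.prod_cons, List.prod_cons, hprod]
    · have hred' : wlen D.S l.prod = l.length := by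
        have := wlen_le_of_word hlS
        omega
      have hle : wlen D.S (t * l.prod) ≤ l.length := by
        rw [List.prod_cons, List.length_cons] at hlt
        omega
      obtain ⟨i, hi, hex⟩ := D.exchange hlS hred' ht hle
      refine ⟨l.take i ++ l.drop (i + 1), isWord_append (isWord_take hlJ i) (isWord_drop hlJ (i + 1)),
        ?_, ?_⟩
      · rw [List.length_append, List.length_take, List.length_drop, List.length_cons]
        omega
      · have hsplit : l.prod = (l.take i).prod * l[i] * (l.drop (i + 1)).prod := by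
          conv_lhs => rw [← List.take_append_drop (i + 1) l]
          rw [List.prod_append, ← List.take_append_getElem hi, List.prod_append, List.prod_singleton]
        have hti : l[i] ∈ D.S := hlS _ (List.getElem_mem hi)
        rw [List.prod_cons, List.prod_append, hsplit, ← mul_assoc, ← mul_assoc, hex, mul_assoc _ l[i] l[i],
          D.S_invol _ hti, mul_one]

/-- Elements of a standard parabolic subgroup of `W` have reduced words in its generators. -/
theorem exists_reduced_word_in {J : Set W} (hJ : J ⊆ D.S) {w : W} (hw : w ∈ Subgroup.closure J) :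
    ∃ l : List W, IsWord J l ∧ l.length = wlen D.S w ∧ l.prod = w := by
  have hJinv : IsInvolSet J := fun s hs => D.S_invol s (hJ hs)
  obtain ⟨l, hl, hlw⟩ := (mem_closure_iff_exists_word hJinv w).1 hw
  have key : ∀ n : ℕ, ∀ l : List W, l.length = n → IsWord J l → l.prod = w →
      ∃ l' : List W, IsWord J l' ∧ l'.length = wlen D.S w ∧ l'.prod = w := by
    intro n
    induction n using Nat.strong_induction_on with
    | _ n ih =>
    intro l hn hl hlw
    by_cases hred : wlen D.S l.prod < l.length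
    · obtain ⟨l', hl', hlen, hprod⟩ := D.exists_shorter hJ l hl hred
      exact ih l'.length (by omega) l' rfl hl' (by rw [hprod, hlw])
    · refine ⟨l, hl, ?_, hlw⟩
      have := wlen_le_of_word (isWord_mono hJ hl)
      rw [hlw] at this hred
      omega
  exact key l.length l rfl hl hlw

/-- A distinguished generator lying in a standard parabolic subgroup of `W` is one of its
generators. -/
theorem mem_of_mem_closure {J : Set W} (hJ : J ⊆ D.S) {s : W} (hs : s ∈ D.S)
    (hsJ : s ∈ Subgroup.closure J) : s ∈ J := by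
  obtain ⟨l, hl, hlen, hprod⟩ := D.exists_reduced_word_in hJ hsJ
  rw [D.wlen_S hs] at hlen
  match l, hl, hlen, hprod with
  | [a], hl, _, hprod =>
    rw [List.prod_singleton] at hprod
    rw [← hprod]
    exact hl a (List.mem_singleton.2 rfl)

theorem mul_mem_aux {J : Set W} (hJ : J ⊆ D.S) : ∀ l : List W, IsWord J l → ∀ g ∈ D.C l.prod,
    ∀ w' ∈ Subgroup.closure J, ∀ g' ∈ D.C w', ∃ w'' ∈ Subgroup.closure J, g * g' ∈ D.C w'' := by
  intro l
  induction l with
  | nil =>
    intro _ g hg w' hw' g' hg'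
    rw [List.prod_nil, D.mem_C_one] at hg
    exact ⟨w', hw', D.left_mul_mem_C hg' hg⟩
  | cons t l ih =>
    intro hl g hg w' hw' g' hg'
    obtain ⟨htJ, hlJ⟩ := isWord_of_cons hl
    rw [List.prod_cons] at hg
    obtain ⟨x, hx, y, hy, rfl⟩ := D.exists_mul_of_mem hg
    obtain ⟨w'', hw'', h⟩ := ih hlJ y hy w' hw' g' hg'
    rw [mul_assoc]
    rcases D.mul_sub t (hJ htJ) w'' x hx (y * g') h with h1 | h1
    · exact ⟨t * w'', Subgroup.mul_mem _ (Subgroup.subset_closure htJ) hw'', h1⟩
    · exact ⟨w'', hw'', h1⟩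

/-- The union of the double cosets indexed by a standard parabolic subgroup of `W`. -/
def par (J : Set W) (hJ : J ⊆ D.S) : Subgroup G where
  carrier := {g | ∃ w ∈ Subgroup.closure J, g ∈ D.C w}
  one_mem' := ⟨1, Subgroup.one_mem _, by rw [D.mem_C_one]; exact D.B.one_mem⟩
  inv_mem' := by
    rintro g ⟨w, hw, hg⟩
    exact ⟨w⁻¹, Subgroup.inv_mem _ hw, D.C_inv w g hg⟩
  mul_mem' := by
    rintro g g' ⟨w, hw, hg⟩ ⟨w', hw', hg'⟩
    have hJinv : IsInvolSet J := fun s hs => D.S_invol s (hJ hs)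
    obtain ⟨l, hl, rfl⟩ := (mem_closure_iff_exists_word hJinv w).1 hw
    exact D.mul_mem_aux hJ l hl g hg w' hw' g' hg'

theorem mem_par {J : Set W} (hJ : J ⊆ D.S) {g : G} :
    g ∈ D.par J hJ ↔ ∃ w ∈ Subgroup.closure J, g ∈ D.C w := Iff.rfl

theorem B_le_par {J : Set W} (hJ : J ⊆ D.S) : D.B ≤ D.par J hJ := by
  intro b hb
  exact ⟨1, Subgroup.one_mem _, by rw [D.mem_C_one]; exact hb⟩

theorem C_subset_par {J : Set W} (hJ : J ⊆ D.S) {w : W} (hw : w ∈ Subgroup.closure J) :
    D.C w ⊆ D.par J hJ := fun _ hg => ⟨w, hw, hg⟩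

/-- A distinguished double coset meeting a standard parabolic subgroup belongs to its type. -/
theorem mem_of_mem_par {J : Set W} (hJ : J ⊆ D.S) {s : W} (hs : s ∈ D.S) {x : G} (hx : x ∈ D.C s)
    (hxJ : x ∈ D.par J hJ) : s ∈ J := by
  obtain ⟨w, hw, hxw⟩ := hxJ
  have := D.eq_of_mem_of_mem hx hxw
  rw [← this] at hw
  exact D.mem_of_mem_closure hJ hs hw

/-- Every subgroup containing `B` is a standard parabolic subgroup. -/
theorem eq_par_of_le (M : Subgroup G) (hM : D.B ≤ M) :
    M = D.par {s | s ∈ D.S ∧ D.C s ⊆ M} (fun _ h => h.1) := by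
  set J : Set W := {s | s ∈ D.S ∧ D.C s ⊆ M} with hJdef
  have hJ : J ⊆ D.S := fun _ h => h.1
  apply le_antisymm
  · -- every element of M lies in some C w with w in the closure of J
    have key : ∀ m : ℕ, ∀ w : W, wlen D.S w = m → (∃ g ∈ D.C w, g ∈ M) → w ∈ Subgroup.closure J := by
      intro m
      induction m with
      | zero =>
        intro w hw _
        rw [(wlen_eq_zero_iff D.S_invol (D.mem_closure w)).1 hw]
        exact Subgroup.one_mem _
      | succ m ih =>
        intro w hw hex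
        obtain ⟨g, hg, hgM⟩ := hex
        have hCw : D.C w ⊆ M := D.C_subset_of_mem hg hM hgM
        obtain ⟨s, hs, w', -, hww', hm⟩ := exists_left_descent D.S_invol (D.mem_closure w) hw
        have hsw : s * w = w' := by rw [hww', ← mul_assoc, D.S_invol s hs, one_mul]
        have hle : wlen D.S (s * w) ≤ wlen D.S w := by rw [hsw]; omega
        obtain ⟨x, hx, y, hy, hxy⟩ := D.exists_mul_mem_of_le hs hle
        have hxM : x ∈ M := by
          have h1 : x = (x * y) * y⁻¹ := by group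
          rw [h1]
          exact M.mul_mem (hCw hxy) (M.inv_mem (hCw hy))
        have hsJ : s ∈ J := ⟨hs, D.C_subset_of_mem hx hM hxM⟩
        -- C w' ⊆ M
        obtain ⟨z, hz⟩ := D.C_nonempty w'
        have hz' : z ∈ D.C (s * w) := by rw [hsw]; exact hz
        obtain ⟨a, ha, b, hb, rfl⟩ := D.exists_mul_of_mem hz'
        have habM : a * b ∈ M := M.mul_mem (hsJ.2 ha) (hCw hb)
        have hw' := ih w' hm ⟨a * b, hz, habM⟩
        rw [hww']
        exact Subgroup.mul_mem _ (Subgroup.subset_closure hsJ) hw'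
    intro g hg
    obtain ⟨w, hw⟩ := D.cover g
    exact ⟨w, key _ w rfl ⟨g, hw, hg⟩, hw⟩
  · -- the parabolic is generated by subsets of M
    rintro g ⟨w, hw, hg⟩
    have hJinv : IsInvolSet J := fun s hs => D.S_invol s (hJ hs)
    obtain ⟨l, hl, rfl⟩ := (mem_closure_iff_exists_word hJinv w).1 hw
    clear hw
    induction l generalizing g with
    | nil =>
      rw [List.prod_nil, D.mem_C_one] at hg
      exact hM hg
    | cons t l ih =>
      obtain ⟨htJ, hlJ⟩ := isWord_of_cons hl
      rw [List.prod_cons] at hg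
      obtain ⟨x, hx, y, hy, rfl⟩ := D.exists_mul_of_mem hg
      exact M.mul_mem (htJ.2 hx) (ih hlJ hy)

theorem par_le_par_iff {J K : Set W} (hJ : J ⊆ D.S) (hK : K ⊆ D.S) :
    D.par J hJ ≤ D.par K hK ↔ J ⊆ K := by
  constructor
  · intro h s hs
    obtain ⟨x, hx⟩ := D.C_nonempty s
    exact D.mem_of_mem_par hK (hJ hs) hx (h (D.C_subset_par hJ (Subgroup.subset_closure hs) hx))
  · rintro h g ⟨w, hw, hg⟩
    exact ⟨w, Subgroup.closure_mono h hw, hg⟩

theorem par_injective {J K : Set W} (hJ : J ⊆ D.S) (hK : K ⊆ D.S) (h : D.par J hJ = D.par K hK) :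
    J = K :=
  Set.Subset.antisymm ((D.par_le_par_iff hJ hK).1 h.le) ((D.par_le_par_iff hK hJ).1 h.ge)

/-- The type of a subgroup containing `B`. -/
theorem type_par {J : Set W} (hJ : J ⊆ D.S) :
    {s | s ∈ D.S ∧ D.C s ⊆ D.par J hJ} = J := by
  ext s
  constructor
  · rintro ⟨hs, hC⟩
    obtain ⟨x, hx⟩ := D.C_nonempty s
    exact D.mem_of_mem_par hJ hs hx (hC hx)
  · intro hs
    exact ⟨hJ hs, D.C_subset_par hJ (Subgroup.subset_closure hs)⟩

theorem par_inf {J K : Set W} (hJ : J ⊆ D.S) (hK : K ⊆ D.S) :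
    D.par J hJ ⊓ D.par K hK = D.par (J ∩ K) (fun _ h => hJ h.1) := by
  have h1 := D.eq_par_of_le (D.par J hJ ⊓ D.par K hK) (le_inf (D.B_le_par hJ) (D.B_le_par hK))
  have h2 : {s | s ∈ D.S ∧ D.C s ⊆ ((D.par J hJ ⊓ D.par K hK : Subgroup G) : Set G)} = J ∩ K := by
    ext s
    constructor
    · rintro ⟨hs, hC⟩
      obtain ⟨x, hx⟩ := D.C_nonempty s
      have := hC hx
      exact ⟨D.mem_of_mem_par hJ hs hx this.1, D.mem_of_mem_par hK hs hx this.2⟩
    · rintro ⟨hsJ, hsK⟩
      refine ⟨hJ hsJ, fun x hx => ⟨?_, ?_⟩⟩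
      · exact D.C_subset_par hJ (Subgroup.subset_closure hsJ) hx
      · exact D.C_subset_par hK (Subgroup.subset_closure hsK) hx
  rw [h1]
  congr 1

/-- If `M ≥ B` contains the conjugate `g B g⁻¹`, then it contains `g`. -/
theorem mem_of_conj_le (M : Subgroup G) (hM : D.B ≤ M) : ∀ m : ℕ, ∀ w : W, wlen D.S w = m →
    ∀ g ∈ D.C w, (∀ b ∈ D.B, g * b * g⁻¹ ∈ M) → g ∈ M := by
  intro m
  induction m with
  | zero =>
    intro w hw g hg _
    rw [(wlen_eq_zero_iff D.S_invol (D.mem_closure w)).1 hw, D.mem_C_one] at hg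
    exact hM hg
  | succ m ih =>
    intro w hw g hg hconj
    obtain ⟨s, hs, w', -, hww', hm⟩ := exists_left_descent D.S_invol (D.mem_closure w) hw
    have hsw : s * w = w' := by rw [hww', ← mul_assoc, D.S_invol s hs, one_mul]
    have hle : wlen D.S (s * w) ≤ wlen D.S w := by rw [hsw]; omega
    obtain ⟨x, hx, y, hy, hxy⟩ := D.exists_mul_mem_of_le hs hle
    obtain ⟨b₁, hb₁, b₂, hb₂, rfl⟩ := D.exists_eq_mul hg hy
    obtain ⟨b₃, hb₃, b₄, hb₄, h34⟩ := D.exists_eq_mul hg hxy
    have hxM : x ∈ M := by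
      have h1 : x = b₃ * (g * (b₄ * b₂⁻¹) * g⁻¹) * b₁⁻¹ := by
        have : x = (x * (b₁ * g * b₂)) * (b₁ * g * b₂)⁻¹ := by group
        rw [this, h34]; group
      rw [h1]
      exact M.mul_mem (M.mul_mem (hM hb₃) (hconj _ (D.B.mul_mem hb₄ (D.B.inv_mem hb₂))))
        (M.inv_mem (hM hb₁))
    have hCs : D.C s ⊆ M := D.C_subset_of_mem hx hM hxM
    -- choose representatives with x₀ y₀ in C w
    obtain ⟨x₀, hx₀, y₀, hy₀, h0⟩ := D.C_mul s w'
    rw [← hww'] at h0
    obtain ⟨c, hc, c', hc', hg0⟩ := D.exists_eq_mul h0 hg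
    -- y₀ B y₀⁻¹ ⊆ M
    have hy₀M : y₀ ∈ M := by
      apply ih w' hm y₀ hy₀
      intro b hb
      have hgeq : y₀ = x₀⁻¹ * c⁻¹ * g * c'⁻¹ := by rw [hg0]; group
      have h2 : y₀ * b * y₀⁻¹ = x₀⁻¹ * c⁻¹ * (g * (c'⁻¹ * b * c') * g⁻¹) * c * x₀ := by
        rw [hgeq]; group
      rw [h2]
      have hin : c'⁻¹ * b * c' ∈ D.B := D.B.mul_mem (D.B.mul_mem (D.B.inv_mem hc') hb) hc'
      exact M.mul_mem (M.mul_mem (M.mul_mem (M.mul_mem (M.inv_mem (hCs hx₀)) (M.inv_mem (hM hc)))
        (hconj _ hin)) (hM hc)) (hCs hx₀)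
    rw [hg0]
    exact M.mul_mem (M.mul_mem (hM hc) (M.mul_mem (hCs hx₀) hy₀M)) (hM hc')

theorem mem_of_conj_le' (M : Subgroup G) (hM : D.B ≤ M) (g : G)
    (hconj : ∀ b ∈ D.B, g * b * g⁻¹ ∈ M) : g ∈ M := by
  obtain ⟨w, hw⟩ := D.cover g
  exact D.mem_of_conj_le M hM _ w rfl g hw hconj

end TitsData

end Cfsg.Agent.Lib.Helper1
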