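import Mathlib
import Cfsg.Prelude.Def_LieExceptional
import Cfsg.Agent.Lib.Helper1.Tits2

set_option autoImplicit false

namespace Cfsg.Agent.Lib.Helper1

open DoubleCoset

section BN

variable {G : Type*} [Group G] (P : Cfsg.BNPair G)

/-- `B ⊓ N` as a subgroup of `N`. -/
abbrev bnT : Subgroup P.N := (P.B ⊓ P.N).subgroupOf P.N

theorem mem_bnT {n : P.N} : n ∈ bnT P ↔ (n : G) ∈ P.B := by
  rw [Subgroup.mem_subgroupOf, Subgroup.mem_inf]
  exact ⟨fun h => h.1, fun h => ⟨h, n.2⟩⟩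

instance bnT_normal : (bnT P).Normal := by
  refine ⟨fun t ht n => ?_⟩
  rw [mem_bnT] at ht ⊢
  exact P.conj_mem n n.2 t ⟨ht, t.2⟩

/-- The Weyl group. -/
abbrev bnW : Type _ := P.N ⧸ bnT P

/-- The projection onto the Weyl group. -/
abbrev bnπ : P.N →* bnW P := QuotientGroup.mk' (bnT P)

theorem bnπ_surjective : Function.Surjective (bnπ P) := QuotientGroup.mk'_surjective _

theorem bnπ_eq_one_iff {n : P.N} : bnπ P n = 1 ↔ (n : G) ∈ P.B := by
  rw [← mem_bnT]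
  exact QuotientGroup.eq_one_iff n

theorem bnπ_eq_iff {n n' : P.N} : bnπ P n = bnπ P n' ↔ (n : G)⁻¹ * n' ∈ P.B := by
  rw [show ((n : G)⁻¹ * n' : G) = ((n⁻¹ * n' : P.N) : G) from rfl, ← mem_bnT]
  exact QuotientGroup.eq

theorem S_mem_N {s : G} (hs : s ∈ P.S) : s ∈ P.N := P.subset hs

theorem sq_mem_B {s : G} (hs : s ∈ P.S) : s * s ∈ P.B := P.sq_mem s hs

theorem S_inv_eq {s : G} (hs : s ∈ P.S) : ∃ t ∈ P.B, s⁻¹ = s * t :=
  ⟨(s * s)⁻¹, P.B.inv_mem (P.sq_mem s hs), by group⟩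

/-- The distinguished generators of the Weyl group. -/
def bnS : Set (bnW P) := Set.range fun s : P.S => bnπ P ⟨(s : G), P.subset s.2⟩

theorem mem_bnS {w : bnW P} : w ∈ bnS P ↔ ∃ s, ∃ hs : s ∈ P.S, bnπ P ⟨s, P.subset hs⟩ = w := by
  constructor
  · rintro ⟨s, rfl⟩
    exact ⟨s.1, s.2, rfl⟩
  · rintro ⟨s, hs, rfl⟩
    exact ⟨⟨s, hs⟩, rfl⟩

/-- The double coset attached to an element of the Weyl group. -/
def bnC (w : bnW P) : Set G := {g | ∃ n : P.N, bnπ P n = w ∧ g ∈ doubleCoset (n : G) (P.B : Set G) P.B}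

theorem dc_eq_of_bnπ_eq {n n' : P.N} (h : bnπ P n = bnπ P n') :
    doubleCoset (n' : G) (P.B : Set G) P.B = doubleCoset (n : G) (P.B : Set G) P.B := by
  apply doubleCoset_eq_of_mem
  rw [bnπ_eq_iff] at h
  refine mem_doubleCoset.2 ⟨1, P.B.one_mem, (n : G)⁻¹ * n', h, ?_⟩
  group

theorem bnC_π (n : P.N) : bnC P (bnπ P n) = doubleCoset (n : G) (P.B : Set G) P.B := by
  ext g
  constructor
  · rintro ⟨n', hn', hg⟩
    rwa [dc_eq_of_bnπ_eq P hn'.symm] at hg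
  · intro hg
    exact ⟨n, rfl, hg⟩

theorem mem_bnC_π {n : P.N} {g : G} :
    g ∈ bnC P (bnπ P n) ↔ ∃ b ∈ P.B, ∃ b' ∈ P.B, g = b * n * b' := by
  rw [bnC_π]
  exact mem_doubleCoset

theorem closure_B_S : Subgroup.closure ((P.B : Set G) ∪ P.S) = ⊤ := by
  rw [eq_top_iff, ← P.sup_eq_top]
  apply sup_le
  · intro x hx
    exact Subgroup.subset_closure (Or.inl hx)
  · conv_lhs => rw [← P.closure_sup]
    apply sup_le
    · exact Subgroup.closure_mono Set.subset_union_right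
    · intro x hx
      exact Subgroup.subset_closure (Or.inl hx.1)

/-- Bruhat decomposition, existence. -/
theorem bruhat_exists (g : G) : ∃ n : P.N, g ∈ doubleCoset (n : G) (P.B : Set G) P.B := by
  have hg : g ∈ Subgroup.closure ((P.B : Set G) ∪ P.S) := by rw [closure_B_S]; exact Subgroup.mem_top g
  have hstep : ∀ s ∈ P.S, ∀ y : G, (∃ n : P.N, y ∈ doubleCoset (n : G) (P.B : Set G) P.B) →
      ∃ n : P.N, s * y ∈ doubleCoset (n : G) (P.B : Set G) P.B := by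
    rintro s hs y ⟨n, hy⟩
    obtain ⟨b, hb, b', hb', rfl⟩ := mem_doubleCoset.1 hy
    rcases P.mul_mem_union s hs n n.2 b hb with h | h
    · obtain ⟨c, hc, c', hc', h1⟩ := mem_doubleCoset.1 h
      refine ⟨⟨s, P.subset hs⟩ * n, mem_doubleCoset.2 ⟨c, hc, c' * b', P.B.mul_mem hc' hb', ?_⟩⟩
      have : s * (b * ↑n * b') = (s * b * n) * b' := by group
      rw [this, h1]
      simp only [Subgroup.coe_mul, mul_assoc]
    · obtain ⟨c, hc, c', hc', h1⟩ := mem_doubleCoset.1 h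
      refine ⟨n, mem_doubleCoset.2 ⟨c, hc, c' * b', P.B.mul_mem hc' hb', ?_⟩⟩
      have : s * (b * ↑n * b') = (s * b * n) * b' := by group
      rw [this, h1]
      simp only [mul_assoc]
  induction hg using Subgroup.closure_induction_left with
  | one => exact ⟨1, mem_doubleCoset.2 ⟨1, P.B.one_mem, 1, P.B.one_mem, by simp⟩⟩
  | mul_left x hx y _ ih =>
    rcases hx with hx | hx
    · obtain ⟨n, hy⟩ := ih
      obtain ⟨b, hb, b', hb', rfl⟩ := mem_doubleCoset.1 hy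
      exact ⟨n, mem_doubleCoset.2 ⟨x * b, P.B.mul_mem hx hb, b', hb', by group⟩⟩
    · exact hstep x hx y ih
  | inv_mul_cancel x hx y _ ih =>
    rcases hx with hx | hx
    · obtain ⟨n, hy⟩ := ih
      obtain ⟨b, hb, b', hb', rfl⟩ := mem_doubleCoset.1 hy
      exact ⟨n, mem_doubleCoset.2 ⟨x⁻¹ * b, P.B.mul_mem (P.B.inv_mem hx) hb, b', hb', by group⟩⟩
    · obtain ⟨t, ht, hxt⟩ := S_inv_eq P hx
      rw [hxt, mul_assoc]
      apply hstep x hx
      obtain ⟨n, hy⟩ := ih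
      obtain ⟨b, hb, b', hb', rfl⟩ := mem_doubleCoset.1 hy
      exact ⟨n, mem_doubleCoset.2 ⟨t * b, P.B.mul_mem ht hb, b', hb', by group⟩⟩

theorem bnS_gen : Subgroup.closure (bnS P) = ⊤ := by
  rw [eq_top_iff]
  intro w _
  obtain ⟨n, rfl⟩ := bnπ_surjective P w
  have hn : (n : G) ∈ Subgroup.closure (P.S ∪ ((P.B ⊓ P.N : Subgroup G) : Set G)) := by
    rw [Subgroup.closure_union, Subgroup.closure_eq, P.closure_sup]
    exact n.2
  have key : ∀ g : G, g ∈ Subgroup.closure (P.S ∪ ((P.B ⊓ P.N : Subgroup G) : Set G)) →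
      ∃ hg : g ∈ P.N, bnπ P ⟨g, hg⟩ ∈ Subgroup.closure (bnS P) := by
    intro g hg
    induction hg using Subgroup.closure_induction with
    | mem x hx =>
      rcases hx with hx | hx
      · exact ⟨P.subset hx, Subgroup.subset_closure ((mem_bnS P).2 ⟨x, hx, rfl⟩)⟩
      · refine ⟨hx.2, ?_⟩
        have : bnπ P ⟨x, hx.2⟩ = 1 := (bnπ_eq_one_iff P).2 hx.1
        rw [this]
        exact Subgroup.one_mem _
    | one => exact ⟨P.N.one_mem, by
        have : (⟨1, P.N.one_mem⟩ : P.N) = 1 := rfl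
        rw [this, map_one]; exact Subgroup.one_mem _⟩
    | mul x y _ _ ihx ihy =>
      obtain ⟨hx, hx'⟩ := ihx
      obtain ⟨hy, hy'⟩ := ihy
      refine ⟨P.N.mul_mem hx hy, ?_⟩
      have : (⟨x * y, P.N.mul_mem hx hy⟩ : P.N) = ⟨x, hx⟩ * ⟨y, hy⟩ := rfl
      rw [this, map_mul]
      exact Subgroup.mul_mem _ hx' hy'
    | inv x _ ih =>
      obtain ⟨hx, hx'⟩ := ih
      refine ⟨P.N.inv_mem hx, ?_⟩
      have : (⟨x⁻¹, P.N.inv_mem hx⟩ : P.N) = ⟨x, hx⟩⁻¹ := rfl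
      rw [this, map_inv]
      exact Subgroup.inv_mem _ hx'
  obtain ⟨_, h⟩ := key n hn
  exact h

/-- The Tits data attached to a (B,N)-pair. -/
noncomputable def bnData : TitsData G (bnW P) where
  B := P.B
  S := bnS P
  C := bnC P
  C_one := by
    ext g
    have : (1 : bnW P) = bnπ P 1 := (map_one _).symm
    rw [this, mem_bnC_π]
    constructor
    · rintro ⟨b, hb, b', hb', rfl⟩
      exact P.B.mul_mem (P.B.mul_mem hb P.B.one_mem) hb'
    · intro hg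
      exact ⟨g, hg, 1, P.B.one_mem, by simp⟩
  C_inv := by
    intro w x hx
    obtain ⟨n, rfl⟩ := bnπ_surjective P w
    rw [← map_inv, mem_bnC_π]
    obtain ⟨b, hb, b', hb', rfl⟩ := (mem_bnC_π P).1 hx
    exact ⟨b'⁻¹, P.B.inv_mem hb', b⁻¹, P.B.inv_mem hb, by simp [mul_assoc]⟩
  C_dc := by
    intro w x hx
    obtain ⟨n, rfl⟩ := bnπ_surjective P w
    rw [bnC_π] at hx ⊢
    exact (doubleCoset_eq_of_mem hx).symm
  C_nonempty := by
    intro w
    obtain ⟨n, rfl⟩ := bnπ_surjective P w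
    exact ⟨n, (mem_bnC_π P).2 ⟨1, P.B.one_mem, 1, P.B.one_mem, by simp⟩⟩
  S_invol := by
    intro w hw
    obtain ⟨s, hs, rfl⟩ := (mem_bnS P).1 hw
    rw [← map_mul, bnπ_eq_one_iff]
    exact P.sq_mem s hs
  S_gen := bnS_gen P
  mul_sub := by
    intro w hw w' x hx y hy
    obtain ⟨s, hs, rfl⟩ := (mem_bnS P).1 hw
    obtain ⟨n, rfl⟩ := bnπ_surjective P w'
    obtain ⟨b, hb, b', hb', rfl⟩ := (mem_bnC_π P).1 hx
    obtain ⟨c, hc, c', hc', rfl⟩ := (mem_bnC_π P).1 hy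
    have h := P.mul_mem_union s hs n n.2 (b' * c) (P.B.mul_mem hb' hc)
    have heq : b * (⟨s, P.subset hs⟩ : P.N) * b' * (c * n * c') = b * (s * (b' * c) * n) * c' := by
      simp only [mul_assoc]
    rw [heq, ← map_mul]
    rcases h with h | h
    · left
      obtain ⟨d, hd, d', hd', h1⟩ := mem_doubleCoset.1 h
      rw [mem_bnC_π]
      refine ⟨b * d, P.B.mul_mem hb hd, d' * c', P.B.mul_mem hd' hc', ?_⟩
      rw [h1]
      simp only [Subgroup.coe_mul, mul_assoc]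
    · right
      obtain ⟨d, hd, d', hd', h1⟩ := mem_doubleCoset.1 h
      rw [mem_bnC_π]
      refine ⟨b * d, P.B.mul_mem hb hd, d' * c', P.B.mul_mem hd' hc', ?_⟩
      rw [h1]
      simp only [mul_assoc]
  not_sub := by
    intro w hw
    obtain ⟨s, hs, rfl⟩ := (mem_bnS P).1 hw
    by_contra hcon
    push Not at hcon
    have hsC : ∀ b ∈ P.B, ∀ b' ∈ P.B, b * s * b' ∈ bnC P (bnπ P ⟨s, P.subset hs⟩) := by
      intro b hb b' hb'
      exact (mem_bnC_π P).2 ⟨b, hb, b', hb', rfl⟩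
    have hsbs : ∀ b ∈ P.B, s * b * s ∈ P.B := by
      intro b hb
      have h1 := hcon (1 * s * 1) (hsC 1 P.B.one_mem 1 P.B.one_mem) (b * s * 1)
        (hsC b hb 1 P.B.one_mem)
      have h2 : 1 * s * 1 * (b * s * 1) = s * b * s := by group
      rwa [h2] at h1
    apply P.conj_ne s hs
    ext g
    constructor
    · rintro ⟨b, hb, rfl⟩
      exact hsbs b hb
    · intro hg
      obtain ⟨t, ht, hst⟩ := S_inv_eq P hs
      refine ⟨s⁻¹ * g * s⁻¹, ?_, by group⟩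
      have h3 : s⁻¹ * g * s⁻¹ = (s * (t * g) * s) * t := by rw [hst]; group
      rw [SetLike.mem_coe, h3]
      exact P.B.mul_mem (hsbs _ (P.B.mul_mem ht hg)) ht
  one_mem := by
    intro w hw
    obtain ⟨n, rfl⟩ := bnπ_surjective P w
    obtain ⟨b, hb, b', hb', h⟩ := (mem_bnC_π P).1 hw
    rw [bnπ_eq_one_iff]
    have : (n : G) = b⁻¹ * b'⁻¹ := by
      have h1 : (n : G) = b⁻¹ * (b * n * b') * b'⁻¹ := by group
      rw [h1, ← h]; group
    rw [this]
    exact P.B.mul_mem (P.B.inv_mem hb) (P.B.inv_mem hb')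
  C_mul := by
    intro w w'
    obtain ⟨n, rfl⟩ := bnπ_surjective P w
    obtain ⟨n', rfl⟩ := bnπ_surjective P w'
    refine ⟨n, (mem_bnC_π P).2 ⟨1, P.B.one_mem, 1, P.B.one_mem, by simp⟩,
      n', (mem_bnC_π P).2 ⟨1, P.B.one_mem, 1, P.B.one_mem, by simp⟩, ?_⟩
    rw [← map_mul, mem_bnC_π]
    exact ⟨1, P.B.one_mem, 1, P.B.one_mem, by simp⟩
  cover := by
    intro g
    obtain ⟨n, hn⟩ := bruhat_exists P g
    exact ⟨bnπ P n, n, rfl, hn⟩

end BN

end Cfsg.Agent.Lib.Helper1
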