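import Mathlib
import Cfsg.Agent.Lib.Helper1.BNInst

set_option autoImplicit false

namespace Cfsg.Agent.Lib.Helper1

open DoubleCoset

section BN

variable {G : Type*} [Group G] (P : Cfsg.BNPair G)

/-- The image in the Weyl group of a set of distinguished representatives. -/
def bnImg (J : Set G) : Set (bnW P) :=
  {w | ∃ s ∈ J, ∃ hs : s ∈ P.S, bnπ P ⟨s, P.subset hs⟩ = w}

theorem bnImg_subset (J : Set G) : bnImg P J ⊆ (bnData P).S := by
  rintro w ⟨s, _, hs, rfl⟩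
  exact (mem_bnS P).2 ⟨s, hs, rfl⟩

theorem mem_bnImg_iff {J : Set G} (hJ : J ⊆ P.S) {s : G} (hs : s ∈ P.S) :
    bnπ P ⟨s, P.subset hs⟩ ∈ bnImg P J ↔ s ∈ J := by
  constructor
  · rintro ⟨s', hs'J, hs', h⟩
    have h1 : s'⁻¹ * s ∈ P.B := (bnπ_eq_iff P).1 h
    have := P.inj s' hs' s hs h1
    rw [← this]; exact hs'J
  · intro h
    exact ⟨s, h, hs, rfl⟩

theorem bnImg_mono {J K : Set G} (h : J ⊆ K) : bnImg P J ⊆ bnImg P K := by
  rintro w ⟨s, hsJ, hs, rfl⟩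
  exact ⟨s, h hsJ, hs, rfl⟩

theorem bnImg_injective {J K : Set G} (hJ : J ⊆ P.S) (hK : K ⊆ P.S) (h : bnImg P J ⊆ bnImg P K) :
    J ⊆ K := by
  intro s hs
  have h1 : bnπ P ⟨s, P.subset (hJ hs)⟩ ∈ bnImg P J := (mem_bnImg_iff P hJ (hJ hs)).2 hs
  exact (mem_bnImg_iff P hK (hJ hs)).1 (h h1)

theorem bnImg_inter {J K : Set G} (hJ : J ⊆ P.S) (hK : K ⊆ P.S) :
    bnImg P (J ∩ K) = bnImg P J ∩ bnImg P K := by
  ext w
  constructor
  · rintro ⟨s, ⟨hsJ, hsK⟩, hs, rfl⟩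
    exact ⟨⟨s, hsJ, hs, rfl⟩, ⟨s, hsK, hs, rfl⟩⟩
  · rintro ⟨⟨s, hsJ, hs, rfl⟩, h2⟩
    exact ⟨s, ⟨hsJ, (mem_bnImg_iff P hK hs).1 h2⟩, hs, rfl⟩

/-- Elements of the closure of `bnImg J` lift to the closure of `J`. -/
theorem exists_lift_of_mem_closure {J : Set G} (hJ : J ⊆ P.S) {w : bnW P}
    (hw : w ∈ Subgroup.closure (bnImg P J)) :
    ∃ n : P.N, (n : G) ∈ Subgroup.closure J ∧ bnπ P n = w := by
  induction hw using Subgroup.closure_induction with
  | mem x hx =>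
    obtain ⟨s, hsJ, hs, rfl⟩ := hx
    exact ⟨⟨s, P.subset hs⟩, Subgroup.subset_closure hsJ, rfl⟩
  | one => exact ⟨1, Subgroup.one_mem _, map_one _⟩
  | mul x y _ _ ihx ihy =>
    obtain ⟨n, hn, rfl⟩ := ihx
    obtain ⟨n', hn', rfl⟩ := ihy
    exact ⟨n * n', Subgroup.mul_mem _ hn hn', map_mul _ _ _⟩
  | inv x _ ih =>
    obtain ⟨n, hn, rfl⟩ := ih
    exact ⟨n⁻¹, Subgroup.inv_mem _ hn, map_inv _ _⟩

theorem closure_le_N {J : Set G} (hJ : J ⊆ P.S) : Subgroup.closure J ≤ P.N := by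
  rw [Subgroup.closure_le]
  exact fun s hs => P.subset (hJ hs)

theorem bnπ_mem_closure {J : Set G} (hJ : J ⊆ P.S) {n : G} (hn : n ∈ Subgroup.closure J) :
    bnπ P ⟨n, closure_le_N P hJ hn⟩ ∈ Subgroup.closure (bnImg P J) := by
  have key : ∀ g : G, g ∈ Subgroup.closure J →
      ∃ hg : g ∈ P.N, bnπ P ⟨g, hg⟩ ∈ Subgroup.closure (bnImg P J) := by
    intro g hg
    induction hg using Subgroup.closure_induction with
    | mem x hx =>
      exact ⟨P.subset (hJ hx), Subgroup.subset_closure ⟨x, hx, hJ hx, rfl⟩⟩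
    | one => exact ⟨P.N.one_mem, by
        have : (⟨1, P.N.one_mem⟩ : P.N) = 1 := rfl
        rw [this, map_one]; exact Subgroup.one_mem _⟩
    | mul x y _ _ ihx ihy =>
      obtain ⟨hx, hx'⟩ := ihx
      obtain ⟨hy, hy'⟩ := ihy
      refine ⟨P.N.mul_mem hx hy, ?_⟩
      have : (⟨x * y, P.N.mul_mem hx hy⟩ : P.N) = ⟨x, hx⟩ * ⟨y, hy⟩ := rfl
      rw [this, map_mul]
      exact Subgroup.mul_mem _ hx' hy'
    | inv x _ ih =>
      obtain ⟨hx, hx'⟩ := ih
      refine ⟨P.N.inv_mem hx, ?_⟩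
      have : (⟨x⁻¹, P.N.inv_mem hx⟩ : P.N) = ⟨x, hx⟩⁻¹ := rfl
      rw [this, map_inv]
      exact Subgroup.inv_mem _ hx'
  obtain ⟨_, h⟩ := key n hn
  exact h

/-- Membership in a standard parabolic subgroup. -/
theorem mem_parabolic_iff {J : Set G} (hJ : J ⊆ P.S) (g : G) :
    g ∈ P.parabolic J ↔
      ∃ n ∈ Subgroup.closure J, g ∈ doubleCoset n (P.B : Set G) P.B := by
  constructor
  · intro hg
    -- the right-hand side is the carrier of the abstract parabolic subgroup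
    have hle : P.parabolic J ≤ (bnData P).par (bnImg P J) (bnImg_subset P J) := by
      apply sup_le
      · exact (bnData P).B_le_par _
      · rw [Subgroup.closure_le]
        intro s hs
        refine ⟨bnπ P ⟨s, P.subset (hJ hs)⟩, Subgroup.subset_closure ⟨s, hs, hJ hs, rfl⟩, ?_⟩
        exact (mem_bnC_π P).2 ⟨1, P.B.one_mem, 1, P.B.one_mem, by simp⟩
    obtain ⟨w, hw, hgw⟩ := hle hg
    obtain ⟨n, hn, rfl⟩ := exists_lift_of_mem_closure P hJ hw
    refine ⟨n, hn, ?_⟩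
    have : g ∈ bnC P (bnπ P n) := hgw
    rwa [bnC_π] at this
  · rintro ⟨n, hn, hg⟩
    obtain ⟨b, hb, b', hb', rfl⟩ := mem_doubleCoset.1 hg
    have hB : P.B ≤ P.parabolic J := le_sup_left
    have hJ' : Subgroup.closure J ≤ P.parabolic J := le_sup_right
    exact Subgroup.mul_mem _ (Subgroup.mul_mem _ (hB hb) (hJ' hn)) (hB hb')

theorem parabolic_eq_par {J : Set G} (hJ : J ⊆ P.S) :
    P.parabolic J = (bnData P).par (bnImg P J) (bnImg_subset P J) := by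
  ext g
  rw [mem_parabolic_iff P hJ]
  constructor
  · rintro ⟨n, hn, hg⟩
    refine ⟨bnπ P ⟨n, closure_le_N P hJ hn⟩, bnπ_mem_closure P hJ hn, ?_⟩
    change g ∈ bnC P (bnπ P ⟨n, closure_le_N P hJ hn⟩)
    rw [bnC_π]
    exact hg
  · rintro ⟨w, hw, hgw⟩
    obtain ⟨n, hn, rfl⟩ := exists_lift_of_mem_closure P hJ hw
    refine ⟨n, hn, ?_⟩
    have : g ∈ bnC P (bnπ P n) := hgw
    rwa [bnC_π] at this

theorem B_le_parabolic (J : Set G) : P.B ≤ P.parabolic J := le_sup_left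

/-- A distinguished representative lying in a standard parabolic subgroup belongs to its type. -/
theorem mem_of_mem_parabolic {J : Set G} (hJ : J ⊆ P.S) {s : G} (hs : s ∈ P.S)
    (h : s ∈ P.parabolic J) : s ∈ J := by
  rw [parabolic_eq_par P hJ] at h
  have hsC : s ∈ (bnData P).C (bnπ P ⟨s, P.subset hs⟩) :=
    (mem_bnC_π P).2 ⟨1, P.B.one_mem, 1, P.B.one_mem, by simp⟩
  have := (bnData P).mem_of_mem_par (bnImg_subset P J) ((mem_bnS P).2 ⟨s, hs, rfl⟩) hsC h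
  exact (mem_bnImg_iff P hJ hs).1 this

/-- Every subgroup containing `B` is the standard parabolic subgroup of its type. -/
theorem eq_parabolic_of_le (M : Subgroup G) (hM : P.B ≤ M) :
    M = P.parabolic {s | s ∈ P.S ∧ s ∈ M} := by
  have hJ : {s | s ∈ P.S ∧ s ∈ M} ⊆ P.S := fun _ h => h.1
  rw [parabolic_eq_par P hJ]
  have h1 := (bnData P).eq_par_of_le M hM
  have h2 : {s | s ∈ (bnData P).S ∧ (bnData P).C s ⊆ M} = bnImg P {s | s ∈ P.S ∧ s ∈ M} := by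
    ext w
    constructor
    · rintro ⟨hw, hC⟩
      obtain ⟨s, hs, rfl⟩ := (mem_bnS P).1 hw
      refine ⟨s, ⟨hs, ?_⟩, hs, rfl⟩
      apply hC
      exact (mem_bnC_π P).2 ⟨1, P.B.one_mem, 1, P.B.one_mem, by simp⟩
    · rintro ⟨s, ⟨hs, hsM⟩, hs', rfl⟩
      refine ⟨(mem_bnS P).2 ⟨s, hs, rfl⟩, ?_⟩
      intro g hg
      obtain ⟨b, hb, b', hb', rfl⟩ := (mem_bnC_π P).1 hg
      exact M.mul_mem (M.mul_mem (hM hb) hsM) (hM hb')
  conv_lhs => rw [h1]
  congr 1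

theorem parabolic_le_iff {J K : Set G} (hJ : J ⊆ P.S) (hK : K ⊆ P.S) :
    P.parabolic J ≤ P.parabolic K ↔ J ⊆ K := by
  constructor
  · intro h s hs
    apply mem_of_mem_parabolic P hK (hJ hs)
    apply h
    have : Subgroup.closure J ≤ P.parabolic J := le_sup_right
    exact this (Subgroup.subset_closure hs)
  · intro h
    exact sup_le_sup_left (Subgroup.closure_mono h) _

/-- An element conjugating `B` into a subgroup containing `B` lies in that subgroup. -/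
theorem mem_of_conj_mem (M : Subgroup G) (hM : P.B ≤ M) (g : G)
    (hconj : ∀ b ∈ P.B, g * b * g⁻¹ ∈ M) : g ∈ M :=
  (bnData P).mem_of_conj_le' M hM g hconj

end BN

end Cfsg.Agent.Lib.Helper1
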