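import Mathlib
import Cfsg.Prelude.Def_Characters

set_option autoImplicit false

namespace Cfsg.Agent.Lib.Helper1

open scoped ComplexConjugate

section
variable {G : Type*} [Group G]

theorem extendByZero_coe (H : Subgroup G) (θ : H → ℂ) (h : H) :
    Cfsg.extendByZero H θ (h : G) = θ h := by
  unfold Cfsg.extendByZero
  exact Subtype.val_injective.extend_apply θ 0 h

theorem extendByZero_of_mem (H : Subgroup G) (θ : H → ℂ) {g : G} (hg : g ∈ H) :
    Cfsg.extendByZero H θ g = θ ⟨g, hg⟩ :=
  extendByZero_coe H θ ⟨g, hg⟩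

theorem extendByZero_of_notMem (H : Subgroup G) (θ : H → ℂ) {g : G} (hg : g ∉ H) :
    Cfsg.extendByZero H θ g = 0 := by
  unfold Cfsg.extendByZero
  rw [Function.extend_apply']
  · rfl
  · rintro ⟨a, rfl⟩
    exact hg a.2

/-- Summing (extension by zero) times `f` over `G` is summing over `H`. -/
theorem sum_extendByZero_mul [Fintype G] (H : Subgroup G) [Fintype H] (θ : H → ℂ) (f : G → ℂ) :
    ∑ g : G, Cfsg.extendByZero H θ g * f g = ∑ h : H, θ h * f h := by
  classical
  rw [← Finset.sum_subset (Finset.subset_univ (Finset.univ.map ⟨((↑) : H → G), Subtype.val_injective⟩))]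
  · rw [Finset.sum_map]
    refine Finset.sum_congr rfl fun h _ => ?_
    simp [extendByZero_coe]
  · intro g _ hg
    have : g ∉ H := by
      intro hgH
      apply hg
      simp only [Finset.mem_map, Finset.mem_univ, true_and, Function.Embedding.coeFn_mk]
      exact ⟨⟨g, hgH⟩, rfl⟩
    rw [extendByZero_of_notMem H θ this, zero_mul]

theorem sum_extendByZero [Fintype G] (H : Subgroup G) [Fintype H] (θ : H → ℂ) :
    ∑ g : G, Cfsg.extendByZero H θ g = ∑ h : H, θ h := by
  have := sum_extendByZero_mul H θ (fun _ => 1)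
  simpa using this

/-- Sums over the group are invariant under conjugation of the variable. -/
theorem sum_conj_inv_mul [Fintype G] (F : G → ℂ) (x : G) :
    ∑ g : G, F (x⁻¹ * g * x) = ∑ g : G, F g := by
  have := Equiv.sum_comp (MulAut.conj x⁻¹).toEquiv F
  simpa [MulAut.conj_apply] using this

theorem sum_conj_mul_inv [Fintype G] (F : G → ℂ) (x : G) :
    ∑ g : G, F (x * g * x⁻¹) = ∑ g : G, F g := by
  have := Equiv.sum_comp (MulAut.conj x).toEquiv F
  simpa [MulAut.conj_apply] using this

theorem indFun_apply [Fintype G] (H : Subgroup G) (θ : H → ℂ) (g : G) :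
    Cfsg.indFun H θ g = (Nat.card H : ℂ)⁻¹ * ∑ x : G, Cfsg.extendByZero H θ (x⁻¹ * g * x) := rfl

/-- An induced function is a class function. -/
theorem indFun_isClassFunction [Fintype G] (H : Subgroup G) (θ : H → ℂ) :
    Cfsg.IsClassFunction G (Cfsg.indFun H θ) := by
  intro g h
  rw [indFun_apply, indFun_apply]
  congr 1
  have := Equiv.sum_comp (Equiv.mulLeft h⁻¹) (fun x : G => Cfsg.extendByZero H θ (x⁻¹ * g * x))
  rw [← this]
  refine Finset.sum_congr rfl fun x _ => ?_
  simp only [Equiv.coe_mulLeft]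
  congr 1
  group

end

end Cfsg.Agent.Lib.Helper1
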