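import Mathlib
import Cfsg.Prelude.Def_Characters
import Cfsg.Agent.Lib.Helper1.IndFun

/-!
# Unfolding an induced function from a subgroup of a subgroup
-/

set_option autoImplicit false

namespace Cfsg.Agent.Lib.Helper1.BPJp

open Cfsg Cfsg.Agent.Lib.Helper1

universe u

variable {G : Type u} [Group G] [Fintype G] [DecidableEq G]

open Classical in
theorem weighted_indFun {R Q : Subgroup G} [Fintype Q] (hRQ : R ≤ Q) (Φ : G → ℂ) (u : Q) :
    (Nat.card R : ℂ)⁻¹ * ∑ y : G,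
        (if y ∈ Q ∧ y⁻¹ * (u : G) * y ∈ R then Φ (y⁻¹ * (u : G) * y) else 0) =
      indFun (R.subgroupOf Q) (fun v : R.subgroupOf Q => Φ ((v : Q) : G)) u := by
  rw [indFun_apply]
  have hcard : Nat.card (R.subgroupOf Q) = Nat.card R :=
    Nat.card_congr (Subgroup.subgroupOfEquivOfLe hRQ).toEquiv
  rw [hcard]
  congr 1
  have h0 : ∀ y : G, (if y ∈ Q ∧ y⁻¹ * (u : G) * y ∈ R then Φ (y⁻¹ * (u : G) * y) else 0) =
      if y ∈ Q then (if y⁻¹ * (u : G) * y ∈ R then Φ (y⁻¹ * (u : G) * y) else 0) else 0 := by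
    intro y
    by_cases h : y ∈ Q <;> simp [h]
  simp_rw [h0]
  rw [← Finset.sum_filter]
  have h1 : ∑ y ∈ Finset.univ.filter (fun y : G => y ∈ Q),
      (if y⁻¹ * (u : G) * y ∈ R then Φ (y⁻¹ * (u : G) * y) else 0) =
      ∑ x : Q, (if (x : G)⁻¹ * (u : G) * (x : G) ∈ R then Φ ((x : G)⁻¹ * (u : G) * (x : G))
        else 0) := by
    refine Finset.sum_subtype (Finset.univ.filter (fun y : G => y ∈ Q)) ?_
      (fun y => if y⁻¹ * (u : G) * y ∈ R then Φ (y⁻¹ * (u : G) * y) else 0)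
    intro x
    simp
  rw [h1]
  apply Finset.sum_congr rfl
  intro x _
  have hco : ((x⁻¹ * u * x : Q) : G) = (x : G)⁻¹ * (u : G) * (x : G) := by
    simp
  by_cases h : (x : G)⁻¹ * (u : G) * (x : G) ∈ R
  · rw [if_pos h]
    have hm : x⁻¹ * u * x ∈ R.subgroupOf Q := by
      rw [Subgroup.mem_subgroupOf, hco]
      exact h
    rw [extendByZero_of_mem _ _ hm]
    simp only
    rw [hco]
  · rw [if_neg h]
    have hm : x⁻¹ * u * x ∉ R.subgroupOf Q := by
      rw [Subgroup.mem_subgroupOf, hco]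
      exact h
    rw [extendByZero_of_notMem _ _ hm]

end Cfsg.Agent.Lib.Helper1.BPJp
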