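import Mathlib
import Cfsg.Prelude.Def_Characters
import Cfsg.Agent.Lib.Helper4.Characters

set_option autoImplicit false

namespace Cfsg.Agent.Lib.Helper1

open scoped ComplexConjugate
open Cfsg.Agent.Lib.Helper4

universe u v

section Transport

variable {G : Type u} [Group G] {V : Type v} [AddCommGroup V] [Module ℂ V]
  {W : Type*} [AddCommGroup W] [Module ℂ W]

/-- Transport of a representation along a linear equivalence. -/
noncomputable def conjRep (ρ : Representation ℂ G V) (e : V ≃ₗ[ℂ] W) : Representation ℂ G W where
  toFun g := e.conj (ρ g)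
  map_one' := by
    rw [map_one]
    exact (LinearEquiv.conjRingEquiv e).map_one
  map_mul' a b := by
    rw [map_mul]
    exact (LinearEquiv.conjRingEquiv e).map_mul _ _

theorem conjRep_apply (ρ : Representation ℂ G V) (e : V ≃ₗ[ℂ] W) (g : G) (w : W) :
    conjRep ρ e g w = e (ρ g (e.symm w)) := rfl

/-- The transported representation is equivalent to the original one. -/
noncomputable def conjRepEquiv (ρ : Representation ℂ G V) (e : V ≃ₗ[ℂ] W) :
    ρ.Equiv (conjRep ρ e) :=
  Representation.Equiv.mk e (by
    intro g
    ext v
    simp [conjRep_apply])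

/-- Irreducibility is invariant under equivalence. -/
theorem isIrreducible_of_equiv {ρ : Representation ℂ G V} {σ : Representation ℂ G W}
    (φ : ρ.Equiv σ) (h : ρ.IsIrreducible) : σ.IsIrreducible := by
  have hsm : IsSimpleModule (MonoidAlgebra ℂ G) ρ.asModule :=
    (Representation.irreducible_iff_isSimpleModule_asModule ρ).1 h
  rw [Representation.irreducible_iff_isSimpleModule_asModule]
  -- a `ℂ[G]`-linear equivalence between the modules
  let f : ρ.asModule →ₗ[MonoidAlgebra ℂ G] σ.asModule :=
    Representation.IntertwiningMap.equivLinearMapAsModule ρ σ φ.toIntertwiningMap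
  let g : σ.asModule →ₗ[MonoidAlgebra ℂ G] ρ.asModule :=
    Representation.IntertwiningMap.equivLinearMapAsModule σ ρ φ.symm.toIntertwiningMap
  have hfg : ∀ x, f (g x) = x := fun x => φ.apply_symm_apply x
  have hgf : ∀ x, g (f x) = x := fun x => φ.symm_apply_apply x
  let E : ρ.asModule ≃ₗ[MonoidAlgebra ℂ G] σ.asModule :=
    { f with
      invFun := g
      left_inv := hgf
      right_inv := hfg }
  exact IsSimpleModule.congr E.symm

variable [FiniteDimensional ℂ V]

/-- The character of any finite-dimensional representation is a character in the sense of `Cfsg`. -/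
theorem isCharacter_character (ρ : Representation ℂ G V) : Cfsg.IsCharacter G ρ.character := by
  let b := Module.finBasis ℂ V
  let e : V ≃ₗ[ℂ] (Fin (Module.finrank ℂ V) → ℂ) := b.equivFun
  exact ⟨Module.finrank ℂ V, conjRep ρ e, (Representation.char_iso (conjRepEquiv ρ e)).symm⟩

/-- The character of any finite-dimensional irreducible representation is an irreducible
character in the sense of `Cfsg`. -/
theorem isIrrCharacter_character (ρ : Representation ℂ G V) [h : ρ.IsIrreducible] :
    Cfsg.IsIrrCharacter G ρ.character := by
  let b := Module.finBasis ℂ V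
  let e : V ≃ₗ[ℂ] (Fin (Module.finrank ℂ V) → ℂ) := b.equivFun
  exact ⟨Module.finrank ℂ V, conjRep ρ e, isIrreducible_of_equiv (conjRepEquiv ρ e) h,
    (Representation.char_iso (conjRepEquiv ρ e)).symm⟩

end Transport

end Cfsg.Agent.Lib.Helper1
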