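import Mathlib
import Cfsg.Prelude.Def_Characters
import Cfsg.Agent.Lib.Helper4.Characters
import Cfsg.Agent.Lib.Helper1.CharFound1

set_option autoImplicit false

namespace Cfsg.Agent.Lib.Helper1

open scoped ComplexConjugate
open Cfsg.Agent.Lib.Helper4

universe u v

section Operator

variable {G : Type u} [Group G] [Fintype G] {V : Type v} [AddCommGroup V] [Module ℂ V]

/-- The operator `∑ g, f g • ρ g` attached to a function on the group. -/
noncomputable def opSum (ρ : Representation ℂ G V) (f : G → ℂ) : V →ₗ[ℂ] V := ∑ g, f g • ρ g

theorem opSum_apply (ρ : Representation ℂ G V) (f : G → ℂ) (v : V) :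
    opSum ρ f v = ∑ g, f g • ρ g v := by
  unfold opSum
  simp [LinearMap.sum_apply]

/-- For a class function the operator commutes with the group action. -/
theorem opSum_comm (ρ : Representation ℂ G V) (f : G → ℂ) (hf : Cfsg.IsClassFunction G f) (h : G) :
    opSum ρ f ∘ₗ ρ h = ρ h ∘ₗ opSum ρ f := by
  ext v
  simp only [LinearMap.comp_apply, opSum_apply, map_sum, map_smul]
  rw [← Equiv.sum_comp (MulAut.conj h).toEquiv]
  refine Finset.sum_congr rfl fun g _ => ?_
  simp only [MulEquiv.toEquiv_eq_coe, EquivLike.coe_coe, MulAut.conj_apply]
  rw [hf g h, ← Module.End.mul_apply, ← map_mul, ← Module.End.mul_apply, ← map_mul]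
  congr 3
  group

/-- The operator of a class function, as an intertwining map. -/
noncomputable def opSumIntertwining (ρ : Representation ℂ G V) (f : G → ℂ)
    (hf : Cfsg.IsClassFunction G f) : Representation.IntertwiningMap ρ ρ where
  toLinearMap := opSum ρ f
  isIntertwining' := opSum_comm ρ f hf

theorem trace_opSum [FiniteDimensional ℂ V] (ρ : Representation ℂ G V) (f : G → ℂ) :
    LinearMap.trace ℂ V (opSum ρ f) = ∑ g, f g * ρ.character g := by
  unfold opSum Representation.character
  simp [map_sum]

/-- Schur: for an irreducible representation, the operator of a class function against which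
the character sums to zero vanishes. -/
theorem opSum_eq_zero_of_irreducible [FiniteDimensional ℂ V] (ρ : Representation ℂ G V)
    [hirr : ρ.IsIrreducible] (f : G → ℂ) (hf : Cfsg.IsClassFunction G f)
    (h0 : ∑ g, f g * ρ.character g = 0) : opSum ρ f = 0 := by
  obtain ⟨c, hc⟩ := (Representation.IsIrreducible.algebraMap_intertwiningMap_bijective_of_isAlgClosed
    (ρ := ρ)).2 (opSumIntertwining ρ f hf)
  have hc' : opSum ρ f = c • LinearMap.id := by
    have := congrArg Representation.IntertwiningMap.toLinearMap hc
    rw [Representation.IntertwiningMap.algebraMap_apply] at this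
    exact this.symm
  have hnt : Nontrivial V := by
    by_contra h
    rw [not_nontrivial_iff_subsingleton] at h
    have : (⊥ : Subrepresentation ρ) = ⊤ := by
      apply Subrepresentation.toSubmodule_injective
      exact Subsingleton.elim _ _
    exact bot_ne_top this
  have hn : (Module.finrank ℂ V : ℂ) ≠ 0 :=
    Nat.cast_ne_zero.2 (Module.finrank_pos (R := ℂ) (M := V)).ne'
  have htr := trace_opSum ρ f
  rw [h0, hc', map_smul, LinearMap.trace_id, smul_eq_mul] at htr
  have : c = 0 := (mul_eq_zero.1 htr).resolve_right hn
  rw [hc', this, zero_smul]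

theorem opSum_subrep (ρ : Representation ℂ G V) (f : G → ℂ) (S : Subrepresentation ρ)
    (s : S.toSubmodule) : opSum ρ f (s : V) = ((opSum S.toRepresentation f s : S.toSubmodule) : V) := by
  rw [opSum_apply, opSum_apply, Submodule.coe_sum]
  refine Finset.sum_congr rfl fun g _ => ?_
  rfl

/-- If a class function `f` has `∑ f g χ g = 0` for all irreducible characters, then its operator
vanishes in every finite-dimensional representation. -/
theorem opSum_eq_zero_aux (f : G → ℂ) (hf : Cfsg.IsClassFunction G f)
    (horth : ∀ χ : G → ℂ, Cfsg.IsIrrCharacter G χ → ∑ g, f g * χ g = 0) :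
    ∀ (n : ℕ) (V : Type v) [AddCommGroup V] [Module ℂ V] [FiniteDimensional ℂ V]
      (ρ : Representation ℂ G V), Module.finrank ℂ V = n → opSum ρ f = 0 := by
  intro n
  induction n using Nat.strong_induction_on with
  | _ n ih =>
    intro V _ _ _ ρ hn
    have : NeZero (Nat.card G : ℂ) := ⟨Nat.cast_ne_zero.2 Nat.card_pos.ne'⟩
    by_cases hirr : ρ.IsIrreducible
    · exact opSum_eq_zero_of_irreducible ρ f hf (horth _ (isIrrCharacter_character ρ))
    · by_cases hsub : Subsingleton V
      · ext v
        exact Subsingleton.elim _ _
      · rw [not_subsingleton_iff_nontrivial] at hsub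
        have hex : ∃ S : Subrepresentation ρ, S ≠ ⊥ ∧ S ≠ ⊤ := by
          by_contra hne
          push Not at hne
          apply hirr
          refine { exists_pair_ne := ⟨⊥, ⊤, ?_⟩, eq_bot_or_eq_top := ?_ }
          · intro hbt
            have h1 := congrArg Subrepresentation.toSubmodule hbt
            exact bot_ne_top h1
          · intro S
            by_cases hS : S = ⊥
            · exact Or.inl hS
            · exact Or.inr (hne S hS)
        obtain ⟨S, hSbot, hStop⟩ := hex
        obtain ⟨S', hcompl⟩ := exists_isCompl S
        have hS'top : S' ≠ ⊤ := by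
          intro h
          apply hSbot
          have := hcompl.inf_eq_bot
          rwa [h, inf_top_eq] at this
        have hlt : ∀ T : Subrepresentation ρ, T ≠ ⊤ →
            Module.finrank ℂ T.toSubmodule < n := by
          intro T hT
          rw [← hn]
          apply Submodule.finrank_lt
          intro h
          apply hT
          exact Subrepresentation.toSubmodule_injective h
        have h1 := ih _ (hlt S hStop) S.toSubmodule S.toRepresentation rfl
        have h2 := ih _ (hlt S' hS'top) S'.toSubmodule S'.toRepresentation rfl
        ext v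
        have hv : v ∈ S.toSubmodule ⊔ S'.toSubmodule := by
          have := congrArg Subrepresentation.toSubmodule hcompl.sup_eq_top
          rw [Subrepresentation.toSubmodule_sup] at this
          rw [this]
          exact Submodule.mem_top
        obtain ⟨s, hs, s', hs', rfl⟩ := Submodule.mem_sup.1 hv
        rw [map_add, opSum_subrep ρ f S ⟨s, hs⟩, opSum_subrep ρ f S' ⟨s', hs'⟩, h1, h2]
        simp

end Operator

end Cfsg.Agent.Lib.Helper1
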