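import Mathlib
import Cfsg.Prelude.Def_Characters
import Cfsg.Agent.Lib.Helper4.Characters
import Cfsg.Agent.Lib.Helper1.CharFound2

set_option autoImplicit false

namespace Cfsg.Agent.Lib.Helper1

open scoped ComplexConjugate
open Cfsg.Agent.Lib.Helper4

universe u

section Completeness

variable {G : Type u} [Group G] [Fintype G]

/-- Completeness: a class function orthogonal to all irreducible characters vanishes. -/
theorem eq_zero_of_orth (ψ : G → ℂ) (hψ : Cfsg.IsClassFunction G ψ)
    (horth : ∀ χ : G → ℂ, Cfsg.IsIrrCharacter G χ → Cfsg.classInner χ ψ = 0) : ψ = 0 := by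
  classical
  have hG0 : (Nat.card G : ℂ) ≠ 0 := Nat.cast_ne_zero.2 Nat.card_pos.ne'
  let f : G → ℂ := fun g => conj (ψ g)
  have hf : Cfsg.IsClassFunction G f := fun g h => by
    show conj (ψ (h * g * h⁻¹)) = conj (ψ g)
    rw [hψ g h]
  have hforth : ∀ χ : G → ℂ, Cfsg.IsIrrCharacter G χ → ∑ g, f g * χ g = 0 := by
    intro χ hχ
    have h := horth χ hχ
    rw [classInner_def] at h
    have h2 := (mul_eq_zero.1 h).resolve_left (inv_ne_zero hG0)
    rw [← h2]
    refine Finset.sum_congr rfl fun g _ => ?_
    show conj (ψ g) * χ g = _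
    ring
  have h0 := opSum_eq_zero_aux f hf hforth _ (MonoidAlgebra ℂ G) (Representation.leftRegular ℂ G) rfl
  have h1 : opSum (Representation.leftRegular ℂ G) f (MonoidAlgebra.single 1 1) = 0 := by
    rw [h0]; rfl
  rw [opSum_apply] at h1
  funext g
  have h2 := congrArg (fun x : MonoidAlgebra ℂ G => (MonoidAlgebra.basis G ℂ).repr x g) h1
  simp only [Representation.ofMulAction_single, smul_eq_mul, mul_one, map_sum, map_smul,
    map_zero] at h2
  have h3 : conj (ψ g) = 0 := by
    rw [Finsupp.coe_zero, Pi.zero_apply] at h2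
    rw [← h2]
    simp only [Finsupp.coe_finsetSum, Finsupp.coe_smul, Finset.sum_apply, Pi.smul_apply, smul_eq_mul]
    rw [Finset.sum_eq_single g]
    · simp [MonoidAlgebra.basis, f]
    · intro b _ hb
      simp [MonoidAlgebra.basis, hb]
    · intro h; exact absurd (Finset.mem_univ g) h
  simpa using h3

end Completeness

end Cfsg.Agent.Lib.Helper1

namespace Cfsg.Agent.Lib.Helper1

open scoped ComplexConjugate
open Cfsg.Agent.Lib.Helper4

universe u

section Expansion

variable {G : Type u} [Group G]

theorem irr_linearIndependent [Finite G] :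
    LinearIndependent ℂ (fun χ : Cfsg.IrrCharacter G => (χ : G → ℂ)) := by
  classical
  have : Fintype G := Fintype.ofFinite G
  rw [linearIndependent_iff']
  intro s c hsum ψ hψ
  have h := congrArg (fun f => Cfsg.classInner f (ψ : G → ℂ)) hsum
  simp only [classInner_sum_left, classInner_smul_left, classInner_zero_left] at h
  rw [Finset.sum_eq_single ψ] at h
  · rw [classInner_irr_self ψ.2, mul_one] at h
    exact h
  · intro χ _ hne
    rw [classInner_irr_ne χ.2 ψ.2 (fun h => hne (Subtype.ext h)), mul_zero]
  · intro h'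
    exact absurd hψ h'

instance irr_finite [Finite G] : Finite (Cfsg.IrrCharacter G) :=
  (irr_linearIndependent (G := G)).finite

theorem isClassFunction_irr {χ : G → ℂ} (h : Cfsg.IsIrrCharacter G χ) : Cfsg.IsClassFunction G χ :=
  isClassFunction_of_isCharacter (isCharacter_of_irr h)

theorem isClassFunction_sum {ι : Type*} (s : Finset ι) (f : ι → G → ℂ)
    (h : ∀ i ∈ s, Cfsg.IsClassFunction G (f i)) : Cfsg.IsClassFunction G (∑ i ∈ s, f i) := by
  intro g x
  simp only [Finset.sum_apply]
  exact Finset.sum_congr rfl fun i hi => h i hi g x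

theorem isClassFunction_smul (c : ℂ) {f : G → ℂ} (h : Cfsg.IsClassFunction G f) :
    Cfsg.IsClassFunction G (c • f) := by
  intro g x
  simp only [Pi.smul_apply]
  rw [h g x]

theorem isClassFunction_sub {f₁ f₂ : G → ℂ} (h₁ : Cfsg.IsClassFunction G f₁)
    (h₂ : Cfsg.IsClassFunction G f₂) : Cfsg.IsClassFunction G (f₁ - f₂) := by
  intro g x
  simp only [Pi.sub_apply]
  rw [h₁ g x, h₂ g x]

/-- Expansion of a class function in terms of the irreducible characters (finite sum form). -/
theorem class_function_expansion [Fintype G] [Fintype (Cfsg.IrrCharacter G)] (ψ : G → ℂ)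
    (hψ : Cfsg.IsClassFunction G ψ) :
    ψ = ∑ χ : Cfsg.IrrCharacter G, Cfsg.classInner ψ χ • (χ : G → ℂ) := by
  classical
  rw [← sub_eq_zero]
  apply eq_zero_of_orth
  · apply isClassFunction_sub hψ
    apply isClassFunction_sum
    intro χ _
    exact isClassFunction_smul _ (isClassFunction_irr χ.2)
  · intro χ' hχ'
    apply classInner_eq_zero_symm
    rw [classInner_sub_left, classInner_sum_left]
    simp only [classInner_smul_left]
    rw [Finset.sum_eq_single (⟨χ', hχ'⟩ : Cfsg.IrrCharacter G)]
    · rw [classInner_irr_self hχ', mul_one, sub_self]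
    · intro χ _ hne
      rw [classInner_irr_ne χ.2 hχ' (fun h => hne (Subtype.ext h)), mul_zero]
    · intro h; exact absurd (Finset.mem_univ _) h

end Expansion

end Cfsg.Agent.Lib.Helper1
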