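import Mathlib
import Cfsg.Prelude.Def_Characters
import Cfsg.Agent.Lib.Helper4.Characters
import Cfsg.Agent.Lib.Helper1.CharFound3

set_option autoImplicit false

namespace Cfsg.Agent.Lib.Helper1

open scoped ComplexConjugate
open Cfsg.Agent.Lib.Helper4

universe u

section Count

variable {G : Type u} [Group G]

/-- Pulling back functions on conjugacy classes to the group. -/
noncomputable def classPullback (G : Type u) [Group G] : (ConjClasses G → ℂ) →ₗ[ℂ] (G → ℂ) :=
  LinearMap.funLeft ℂ ℂ (ConjClasses.mk : G → ConjClasses G)

theorem classPullback_injective : Function.Injective (classPullback G) :=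
  LinearMap.funLeft_injective_of_surjective ℂ ℂ _ ConjClasses.mk_surjective

theorem mem_range_classPullback_iff (ψ : G → ℂ) :
    ψ ∈ LinearMap.range (classPullback G) ↔ Cfsg.IsClassFunction G ψ := by
  constructor
  · rintro ⟨F, rfl⟩ g h
    show F (ConjClasses.mk (h * g * h⁻¹)) = F (ConjClasses.mk g)
    congr 1
    rw [ConjClasses.mk_eq_mk_iff_isConj, isConj_comm, isConj_iff]
    exact ⟨h, rfl⟩
  · intro hψ
    refine ⟨fun c => ψ (Quotient.out c), ?_⟩
    funext g
    show ψ (Quotient.out (ConjClasses.mk g)) = ψ g
    have h1 : ConjClasses.mk (Quotient.out (ConjClasses.mk g)) = ConjClasses.mk g :=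
      Quotient.out_eq _
    rw [ConjClasses.mk_eq_mk_iff_isConj, isConj_comm, isConj_iff] at h1
    obtain ⟨c, hc⟩ := h1
    rw [← hc, hψ g c]

/-- The number of irreducible characters equals the number of conjugacy classes. -/
theorem card_irr_eq_card_conjClasses [Finite G] :
    Nat.card (Cfsg.IrrCharacter G) = Nat.card (ConjClasses G) := by
  classical
  have : Fintype G := Fintype.ofFinite G
  have : Fintype (Cfsg.IrrCharacter G) := Fintype.ofFinite _
  have : Fintype (ConjClasses G) := Fintype.ofFinite _
  have hspan : Submodule.span ℂ (Set.range (fun χ : Cfsg.IrrCharacter G => (χ : G → ℂ)))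
      = LinearMap.range (classPullback G) := by
    apply le_antisymm
    · rw [Submodule.span_le]
      rintro _ ⟨χ, rfl⟩
      exact (mem_range_classPullback_iff _).2 (isClassFunction_irr χ.2)
    · intro ψ hψ
      rw [mem_range_classPullback_iff] at hψ
      rw [class_function_expansion ψ hψ]
      apply Submodule.sum_mem
      intro χ _
      exact Submodule.smul_mem _ _ (Submodule.subset_span ⟨χ, rfl⟩)
  have h1 := finrank_span_eq_card (irr_linearIndependent (G := G))
  rw [hspan, LinearMap.finrank_range_of_inj classPullback_injective,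
    Module.finrank_fintype_fun_eq_card] at h1
  rw [Nat.card_eq_fintype_card, Nat.card_eq_fintype_card, h1]

end Count

end Cfsg.Agent.Lib.Helper1
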