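import Mathlib

set_option autoImplicit false
set_option linter.style.haveILetI false

namespace Cfsg.Agent.Lib.Helper1

section ConjCount

variable {G : Type*} [Group G]

theorem conj_eq_conj_iff (t a b : G) :
    a * t * a⁻¹ = b * t * b⁻¹ ↔ a⁻¹ * b ∈ Subgroup.centralizer ({t} : Set G) := by
  rw [Subgroup.mem_centralizer_singleton_iff]
  constructor
  · intro h
    calc a⁻¹ * b * t = a⁻¹ * (b * t * b⁻¹) * b := by group
      _ = a⁻¹ * (a * t * a⁻¹) * b := by rw [h]
      _ = t * (a⁻¹ * b) := by group
  · intro h
    calc a * t * a⁻¹ = a * (t * (a⁻¹ * b)) * b⁻¹ := by group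
      _ = a * (a⁻¹ * b * t) * b⁻¹ := by rw [h]
      _ = b * t * b⁻¹ := by group

/-- The class equation for one class: `|t^G| * |C(t)| = |G|`. -/
theorem card_isConj_mul_card_centralizer [Finite G] (t : G) :
    Nat.card {v : G // IsConj t v} * Nat.card (Subgroup.centralizer ({t} : Set G)) =
      Nat.card G := by
  rw [Subgroup.card_eq_card_quotient_mul_card_subgroup (Subgroup.centralizer ({t} : Set G))]
  congr 1
  symm
  apply Nat.card_congr
  let f : G ⧸ Subgroup.centralizer ({t} : Set G) → {v : G // IsConj t v} := fun q =>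
    Quotient.liftOn' q (fun g => (⟨g * t * g⁻¹, isConj_iff.mpr ⟨g, rfl⟩⟩ : {v : G // IsConj t v}))
      (by
        intro a b hab
        rw [QuotientGroup.leftRel_apply] at hab
        apply Subtype.ext
        exact (conj_eq_conj_iff t a b).mpr hab)
  refine Equiv.ofBijective f ⟨?_, ?_⟩
  · intro p q
    induction p using QuotientGroup.induction_on with
    | H a =>
      induction q using QuotientGroup.induction_on with
      | H b =>
        intro h
        have h' : a * t * a⁻¹ = b * t * b⁻¹ := congrArg Subtype.val h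
        rw [QuotientGroup.eq]
        exact (conj_eq_conj_iff t a b).mp h'
  · rintro ⟨v, hv⟩
    obtain ⟨g, hg⟩ := isConj_iff.mp hv
    exact ⟨(g : G ⧸ Subgroup.centralizer ({t} : Set G)), Subtype.ext hg⟩

end ConjCount

end Cfsg.Agent.Lib.Helper1
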