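import Mathlib
import Cfsg.Prelude.Def_Characters
import Cfsg.Agent.Lib.Helper4.Characters
import Cfsg.Agent.Lib.Helper1.CharFound4
import Cfsg.Agent.Lib.Helper1.ConjCount

set_option autoImplicit false

namespace Cfsg.Agent.Lib.Helper1

open scoped ComplexConjugate
open Cfsg.Agent.Lib.Helper4

universe u

section Column

variable {G : Type u} [Group G] [Fintype G]

open Classical in
/-- The indicator function of the conjugacy class of `g`. -/
noncomputable def classIndicator (g : G) : G → ℂ := fun x => if IsConj g x then 1 else 0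

theorem classIndicator_isClassFunction (g : G) : Cfsg.IsClassFunction G (classIndicator g) := by
  intro x h
  unfold classIndicator
  have : IsConj g (h * x * h⁻¹) ↔ IsConj g x := by
    constructor
    · intro hc
      exact hc.trans (isConj_iff.2 ⟨h⁻¹, by group⟩)
    · intro hc
      exact hc.trans (isConj_iff.2 ⟨h, rfl⟩)
  by_cases hc : IsConj g x
  · rw [if_pos hc, if_pos (this.2 hc)]
  · rw [if_neg hc, if_neg (fun h' => hc (this.1 h'))]

/-- The inner product of a class indicator with a class function. -/
theorem classInner_classIndicator (g : G) (χ : G → ℂ) (hχ : Cfsg.IsClassFunction G χ) :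
    Cfsg.classInner (classIndicator g) χ
      = (Nat.card (Subgroup.centralizer ({g} : Set G)) : ℂ)⁻¹ * conj (χ g) := by
  classical
  have hG0 : (Nat.card G : ℂ) ≠ 0 := Nat.cast_ne_zero.2 Nat.card_pos.ne'
  have hC0 : (Nat.card (Subgroup.centralizer ({g} : Set G)) : ℂ) ≠ 0 :=
    Nat.cast_ne_zero.2 Nat.card_pos.ne'
  rw [classInner_def]
  have h1 : ∀ x : G, classIndicator g x * conj (χ x)
      = if IsConj g x then conj (χ g) else 0 := by
    intro x
    unfold classIndicator
    split_ifs with h
    · obtain ⟨c, hc⟩ := isConj_iff.1 h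
      rw [one_mul, ← hc, hχ g c]
    · rw [zero_mul]
  rw [Finset.sum_congr rfl fun x _ => h1 x, Finset.sum_ite, Finset.sum_const, Finset.sum_const_zero,
    add_zero, nsmul_eq_mul]
  have hc : (Finset.univ.filter (fun x : G => IsConj g x)).card = Nat.card {v : G // IsConj g v} :=
    (Nat.subtype_card _ (by simp)).symm
  rw [hc]
  have := card_isConj_mul_card_centralizer g
  have h2 : (Nat.card {v : G // IsConj g v} : ℂ)
      * (Nat.card (Subgroup.centralizer ({g} : Set G)) : ℂ) = (Nat.card G : ℂ) := by
    exact_mod_cast this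
  rw [← h2]
  have hK0 : (Nat.card {v : G // IsConj g v} : ℂ) ≠ 0 := by
    intro h
    rw [h, zero_mul] at h2
    exact hG0 h2.symm
  field_simp

/-- Column orthogonality (Fintype form). -/
theorem column_orthogonality [Fintype (Cfsg.IrrCharacter G)] (g h : G) :
    ∑ χ : Cfsg.IrrCharacter G, (χ : G → ℂ) h * conj ((χ : G → ℂ) g)
      = (Nat.card (Subgroup.centralizer ({g} : Set G)) : ℂ) * classIndicator g h := by
  have hC0 : (Nat.card (Subgroup.centralizer ({g} : Set G)) : ℂ) ≠ 0 :=
    Nat.cast_ne_zero.2 Nat.card_pos.ne'
  have hexp := class_function_expansion (classIndicator g) (classIndicator_isClassFunction g)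
  have h1 := congrFun hexp h
  rw [Finset.sum_apply] at h1
  simp only [Pi.smul_apply, smul_eq_mul] at h1
  rw [h1, Finset.mul_sum]
  refine Finset.sum_congr rfl fun χ _ => ?_
  rw [classInner_classIndicator g _ (isClassFunction_irr χ.2)]
  field_simp

end Column

end Cfsg.Agent.Lib.Helper1
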