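import Mathlib
import Cfsg.Prelude.Def_Characters
import Cfsg.Agent.Lib.Helper4.Characters
import Cfsg.Agent.Lib.Helper1.CharFound5

set_option autoImplicit false

namespace Cfsg.Agent.Lib.Helper1

open scoped ComplexConjugate
open Cfsg.Agent.Lib.Helper4

universe u v

section Integral

variable {G : Type u} [Group G] [Fintype G] {V : Type v} [AddCommGroup V] [Module ℂ V]

/-- An integral combination of the operators `ρ g` is integral over `ℤ`. -/
theorem isIntegral_opSum_int (ρ : Representation ℂ G V) (f : G → ℤ) :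
    IsIntegral ℤ (opSum ρ (fun g => (f g : ℂ))) := by
  classical
  let L : MonoidAlgebra ℤ G →ₐ[ℤ] Module.End ℂ V := MonoidAlgebra.lift ℤ (Module.End ℂ V) G ρ
  let z : MonoidAlgebra ℤ G := ∑ g : G, MonoidAlgebra.single g (f g)
  have hz : L z = opSum ρ (fun g => (f g : ℂ)) := by
    unfold opSum
    simp only [z, L, map_sum, MonoidAlgebra.lift_single]
    refine Finset.sum_congr rfl fun g _ => ?_
    rw [Int.cast_smul_eq_zsmul]
  rw [← hz]
  exact IsIntegral.map L (IsIntegral.of_finite ℤ z)

variable [FiniteDimensional ℂ V]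

omit [Fintype G] [FiniteDimensional ℂ V] in
theorem nontrivial_of_irreducible (ρ : Representation ℂ G V) [ρ.IsIrreducible] : Nontrivial V := by
  by_contra h
  rw [not_nontrivial_iff_subsingleton] at h
  have : (⊥ : Subrepresentation ρ) = ⊤ := by
    apply Subrepresentation.toSubmodule_injective
    exact Subsingleton.elim _ _
  exact bot_ne_top this

omit [Fintype G] in
theorem finrank_ne_zero_of_irreducible (ρ : Representation ℂ G V) [ρ.IsIrreducible] :
    (Module.finrank ℂ V : ℂ) ≠ 0 := by
  have := nontrivial_of_irreducible ρ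
  exact Nat.cast_ne_zero.2 (Module.finrank_pos (R := ℂ) (M := V)).ne'

/-- Schur: the operator of a class function acts on an irreducible representation as the scalar
`(∑ f g χ g) / χ 1`. -/
theorem opSum_eq_smul_id (ρ : Representation ℂ G V) [ρ.IsIrreducible] (f : G → ℂ)
    (hf : Cfsg.IsClassFunction G f) :
    opSum ρ f = ((∑ g, f g * ρ.character g) / (Module.finrank ℂ V : ℂ)) • LinearMap.id := by
  obtain ⟨c, hc⟩ := (Representation.IsIrreducible.algebraMap_intertwiningMap_bijective_of_isAlgClosed
    (ρ := ρ)).2 (opSumIntertwining ρ f hf)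
  have hc' : opSum ρ f = c • LinearMap.id := by
    have := congrArg Representation.IntertwiningMap.toLinearMap hc
    rw [Representation.IntertwiningMap.algebraMap_apply] at this
    exact this.symm
  have hn := finrank_ne_zero_of_irreducible ρ
  have htr := trace_opSum ρ f
  rw [hc', map_smul, LinearMap.trace_id, smul_eq_mul] at htr
  rw [hc', ← htr]
  congr 1
  field_simp

/-- The central character value `(∑ f g χ g) / χ 1` of an integer-valued class function is an
algebraic integer. -/
theorem isIntegral_central_character (ρ : Representation ℂ G V) [ρ.IsIrreducible] (f : G → ℤ)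
    (hf : Cfsg.IsClassFunction G (fun g => (f g : ℂ))) :
    IsIntegral ℤ ((∑ g, (f g : ℂ) * ρ.character g) / (Module.finrank ℂ V : ℂ)) := by
  have := nontrivial_of_irreducible ρ
  have h1 := isIntegral_opSum_int ρ f
  rw [opSum_eq_smul_id ρ _ hf] at h1
  have h2 : (((∑ g, (f g : ℂ) * ρ.character g) / (Module.finrank ℂ V : ℂ)) • LinearMap.id
      : Module.End ℂ V) = algebraMap ℂ (Module.End ℂ V)
        ((∑ g, (f g : ℂ) * ρ.character g) / (Module.finrank ℂ V : ℂ)) := by
    rw [Algebra.algebraMap_eq_smul_one]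
    rfl
  rw [h2] at h1
  exact (isIntegral_algebraMap_iff (FaithfulSMul.algebraMap_injective ℂ (Module.End ℂ V))).1 h1

end Integral

end Cfsg.Agent.Lib.Helper1

namespace Cfsg.Agent.Lib.Helper1

/-- If the complex number `a / b` (with `a b : ℕ`, `b ≠ 0`) is an algebraic integer then `b ∣ a`. -/
theorem nat_dvd_of_isIntegral_div (a b : ℕ) (hb : b ≠ 0) (h : IsIntegral ℤ ((a : ℂ) / (b : ℂ))) :
    b ∣ a := by
  have h1 : ((a : ℂ) / (b : ℂ)) = algebraMap ℚ ℂ ((a : ℚ) / (b : ℚ)) := by
    simp
  rw [h1, isIntegral_algebraMap_iff (algebraMap ℚ ℂ).injective] at h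
  obtain ⟨m, hm⟩ := IsIntegrallyClosed.isIntegral_iff.1 h
  have hbQ : (b : ℚ) ≠ 0 := Nat.cast_ne_zero.2 hb
  have h2 : (a : ℚ) = (m : ℚ) * (b : ℚ) := by
    have : (algebraMap ℤ ℚ m) = (m : ℚ) := rfl
    rw [this] at hm
    rw [hm]
    field_simp
  have h3 : (a : ℤ) = m * (b : ℤ) := by exact_mod_cast h2
  have h4 : (b : ℤ) ∣ (a : ℤ) := ⟨m, by rw [h3, mul_comm]⟩
  exact Int.natCast_dvd_natCast.1 h4

end Cfsg.Agent.Lib.Helper1
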