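import Mathlib

set_option autoImplicit false

namespace Cfsg.Agent.Lib.Helper1

open Polynomial

section Multiset

/-- A multiset of complex numbers of real part at most one, whose real parts sum to the cardinality,
consists of numbers of real part one. -/
theorem multiset_re_eq_one (m : Multiset ℂ) (h1 : ∀ x ∈ m, x.re ≤ 1) :
    (m.map Complex.re).sum ≤ Multiset.card m ∧
      ((m.map Complex.re).sum = Multiset.card m → ∀ x ∈ m, x.re = 1) := by
  induction m using Multiset.induction_on with
  | empty => simp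
  | cons a s ih =>
    have ha : a.re ≤ 1 := h1 a (Multiset.mem_cons_self a s)
    have hs : ∀ x ∈ s, x.re ≤ 1 := fun x hx => h1 x (Multiset.mem_cons_of_mem hx)
    obtain ⟨ih1, ih2⟩ := ih hs
    simp only [Multiset.map_cons, Multiset.sum_cons, Multiset.card_cons, Nat.cast_add, Nat.cast_one]
    refine ⟨by linarith, ?_⟩
    intro heq x hx
    have hae : a.re = 1 := by linarith
    have hse : (s.map Complex.re).sum = Multiset.card s := by linarith
    rcases Multiset.mem_cons.1 hx with rfl | hx
    · exact hae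
    · exact ih2 hse x hx

/-- A multiset of complex numbers of norm one whose sum is its cardinality consists of ones. -/
theorem multiset_eq_one_of_sum_eq_card (m : Multiset ℂ) (h1 : ∀ x ∈ m, ‖x‖ = 1)
    (hsum : m.sum = (Multiset.card m : ℂ)) : ∀ x ∈ m, x = 1 := by
  have hre : ∀ x ∈ m, x.re ≤ 1 := fun x hx => (Complex.re_le_norm x).trans (h1 x hx).le
  have hsum' : (m.map Complex.re).sum = Multiset.card m := by
    have := congrArg Complex.re hsum
    rw [Complex.natCast_re] at this
    rw [← this]
    exact (map_multiset_sum Complex.reAddGroupHom m).symm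
  intro x hx
  have hx1 := (multiset_re_eq_one m hre).2 hsum' x hx
  have hn := h1 x hx
  have hsq : ‖x‖ ^ 2 = x.re ^ 2 + x.im ^ 2 := by
    rw [Complex.sq_norm, Complex.normSq_apply]; ring
  rw [hn, hx1] at hsq
  have him : x.im = 0 := by nlinarith
  apply Complex.ext <;> simp [hx1, him]

end Multiset

section Rep

variable {G : Type*} [Group G] [Finite G] {V : Type*} [AddCommGroup V] [Module ℂ V]

omit [Finite G] in
theorem rep_pow_orderOf (ρ : Representation ℂ G V) (g : G) : (ρ g) ^ orderOf g = 1 := by
  rw [← map_pow, pow_orderOf_eq_one, map_one]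

omit [Finite G] in
theorem eigenvalue_pow_orderOf (ρ : Representation ℂ G V) (g : G) (μ : ℂ)
    (h : Module.End.HasEigenvalue (ρ g) μ) : μ ^ orderOf g = 1 := by
  obtain ⟨v, hv⟩ := h.exists_hasEigenvector
  have h1 : ((ρ g) ^ orderOf g) v = μ ^ orderOf g • v := by
    have := hv.pow_apply (orderOf g)
    exact this
  rw [rep_pow_orderOf, Module.End.one_apply] at h1
  have h2 : (μ ^ orderOf g - 1) • v = 0 := by rw [sub_smul, one_smul, ← h1, sub_self]
  rcases smul_eq_zero.1 h2 with h3 | h3
  · exact sub_eq_zero.1 h3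
  · exact absurd h3 hv.2

theorem norm_eq_one_of_pow_eq_one {μ : ℂ} {n : ℕ} (hn : n ≠ 0) (h : μ ^ n = 1) : ‖μ‖ = 1 :=
  Complex.norm_eq_one_of_pow_eq_one h hn

theorem rep_isSemisimple (ρ : Representation ℂ G V) (g : G) :
    Module.End.IsSemisimple (ρ g) := by
  have hn : orderOf g ≠ 0 := (orderOf_pos g).ne'
  have hsep : (X ^ orderOf g - 1 : ℂ[X]).Separable :=
    X_pow_sub_one_separable_iff.2 (Nat.cast_ne_zero.2 hn)
  apply Module.End.isSemisimple_of_squarefree_aeval_eq_zero hsep.squarefree
  simp [rep_pow_orderOf]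

variable [FiniteDimensional ℂ V]

theorem charpoly_roots_pow (ρ : Representation ℂ G V) (g : G) :
    ∀ μ ∈ (ρ g).charpoly.roots, μ ^ orderOf g = 1 := by
  intro μ hμ
  have hroot : (ρ g).charpoly.IsRoot μ := (Polynomial.mem_roots'.1 hμ).2
  exact eigenvalue_pow_orderOf ρ g μ ((Module.End.hasEigenvalue_iff_isRoot_charpoly _ _).2 hroot)

theorem charpoly_roots_norm (ρ : Representation ℂ G V) (g : G) :
    ∀ μ ∈ (ρ g).charpoly.roots, ‖μ‖ = 1 := fun μ hμ =>
  norm_eq_one_of_pow_eq_one (orderOf_pos g).ne' (charpoly_roots_pow ρ g μ hμ)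

omit [Finite G] in
theorem character_eq_sum_roots (ρ : Representation ℂ G V) (g : G) :
    ρ.character g = (ρ g).charpoly.roots.sum :=
  Module.End.trace_eq_sum_roots_charpoly_of_splits (IsAlgClosed.splits _)

omit [Finite G] in
theorem card_charpoly_roots (ρ : Representation ℂ G V) (g : G) :
    Multiset.card (ρ g).charpoly.roots = Module.finrank ℂ V := by
  rw [Polynomial.splits_iff_card_roots.1 (IsAlgClosed.splits _), LinearMap.charpoly_natDegree]

/-- A semisimple endomorphism all of whose eigenvalues equal `ω` is `ω • id`. -/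
theorem eq_smul_id_of_eigenvalues {f : Module.End ℂ V} (hf : f.IsSemisimple) (ω : ℂ)
    (h : ∀ μ : ℂ, f.HasEigenvalue μ → μ = ω) : f = ω • (LinearMap.id : V →ₗ[ℂ] V) := by
  have htop := hf.iSup_eigenspace_eq_top
  have hω : f.eigenspace ω = ⊤ := by
    rw [← htop]
    refine le_antisymm (le_iSup _ ω) (iSup_le fun μ => ?_)
    by_cases hμ : f.HasEigenvalue μ
    · rw [h μ hμ]
    · have : f.eigenspace μ = ⊥ := by
        by_contra hne
        exact hμ hne
      rw [this]
      exact bot_le
  ext v
  have hv : v ∈ f.eigenspace ω := hω ▸ Submodule.mem_top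
  rw [Module.End.mem_eigenspace_iff] at hv
  simpa using hv

end Rep

end Cfsg.Agent.Lib.Helper1
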