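import Mathlib
import Cfsg.Prelude.Def_Characters

set_option autoImplicit false

namespace Cfsg.Agent.Lib.Helper1

section
variable {G : Type*} [Group G]

/-- A representation on a one-dimensional space is irreducible. -/
theorem irreducible_of_finrank_eq_one {V : Type*} [AddCommGroup V] [Module ℂ V]
    (ρ : Representation ℂ G V) (h : Module.finrank ℂ V = 1) : ρ.IsIrreducible := by
  have hs : IsSimpleModule ℂ V := isSimpleModule_iff_finrank_eq_one.2 h
  have hnt : Nontrivial V := Module.nontrivial_of_finrank_pos (R := ℂ) (by omega)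
  refine { exists_pair_ne := ⟨⊥, ⊤, ?_⟩, eq_bot_or_eq_top := ?_ }
  · intro hbt
    have := congrArg Subrepresentation.toSubmodule hbt
    exact bot_ne_top this
  · intro S
    rcases eq_bot_or_eq_top S.toSubmodule with h1 | h1
    · left; exact Subrepresentation.toSubmodule_injective h1
    · right; exact Subrepresentation.toSubmodule_injective h1

/-- The one-dimensional representation attached to a homomorphism to `ℂˣ`. -/
noncomputable def linRep (φ : G →* ℂˣ) : Representation ℂ G (Fin 1 → ℂ) where
  toFun g := (φ g : ℂ) • LinearMap.id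
  map_one' := by simp; rfl
  map_mul' a b := by
    ext v
    simp [mul_smul]
    ring

theorem linRep_character (φ : G →* ℂˣ) (g : G) : (linRep φ).character g = (φ g : ℂ) := by
  unfold Representation.character
  show LinearMap.trace ℂ (Fin 1 → ℂ) ((φ g : ℂ) • LinearMap.id) = _
  rw [map_smul, LinearMap.trace_id]
  simp

theorem isIrrCharacter_of_hom (φ : G →* ℂˣ) : Cfsg.IsIrrCharacter G (fun g => (φ g : ℂ)) := by
  refine ⟨1, linRep φ, irreducible_of_finrank_eq_one _ (by simp), ?_⟩
  funext g
  exact linRep_character φ g

/-- The character of a representation on `Fin 1 → ℂ` is multiplicative. -/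
theorem character_mul_of_dim_one (ρ : Representation ℂ G (Fin 1 → ℂ)) (g h : G) :
    ρ.character (g * h) = ρ.character g * ρ.character h := by
  have key : ∀ x : G, ρ.character x = (LinearMap.toMatrix' (ρ x)) 0 0 := by
    intro x
    unfold Representation.character
    rw [LinearMap.trace_eq_matrix_trace ℂ (Pi.basisFun ℂ (Fin 1)), Matrix.trace_fin_one]
    rfl
  rw [key, key, key, map_mul, Module.End.mul_eq_comp, LinearMap.toMatrix'_comp, Matrix.mul_apply]
  simp

/-- An irreducible character of degree one is (the coercion of) a homomorphism to `ℂˣ`. -/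
theorem exists_hom_of_isIrrCharacter {χ : G → ℂ} (hχ : Cfsg.IsIrrCharacter G χ) (h1 : χ 1 = 1) :
    ∃ φ : G →* ℂˣ, χ = fun g => (φ g : ℂ) := by
  obtain ⟨n, ρ, _, rfl⟩ := hχ
  have hn : n = 1 := by
    rw [Representation.char_one] at h1
    simpa using h1
  subst hn
  let ψ : G →* ℂ :=
    { toFun := ρ.character
      map_one' := h1
      map_mul' := character_mul_of_dim_one ρ }
  refine ⟨ψ.toHomUnits, ?_⟩
  funext g
  rfl

end

end Cfsg.Agent.Lib.Helper1
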