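import Mathlib
import Cfsg.Prelude.Def_Characters
import Cfsg.Agent.Lib.Helper4.Characters
import Cfsg.Agent.Lib.Helper1.CharFound5

set_option autoImplicit false

namespace Cfsg.Agent.Lib.Helper1

open scoped ComplexConjugate
open Cfsg.Agent.Lib.Helper4

universe u

section Closure

variable {G : Type u} [Group G]

theorem isCharacter_zero : Cfsg.IsCharacter G (0 : G → ℂ) := by
  refine ⟨0, 1, ?_⟩
  funext g
  unfold Representation.character
  have h0 : ((1 : Representation ℂ G (Fin 0 → ℂ)) g) = 0 := by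
    apply LinearMap.ext
    intro v
    exact Subsingleton.elim _ _
  rw [h0, map_zero]
  rfl

theorem isCharacter_add {ψ φ : G → ℂ} (hψ : Cfsg.IsCharacter G ψ) (hφ : Cfsg.IsCharacter G φ) :
    Cfsg.IsCharacter G (ψ + φ) := by
  obtain ⟨n, ρ, rfl⟩ := hψ
  obtain ⟨m, σ, rfl⟩ := hφ
  have h := isCharacter_character (ρ.prod σ)
  have h2 : (ρ.prod σ).character = ρ.character + σ.character := by
    funext g
    unfold Representation.character
    exact LinearMap.trace_prodMap' (ρ g) (σ g)
  rwa [h2] at h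

theorem isCharacter_nsmul {ψ : G → ℂ} (hψ : Cfsg.IsCharacter G ψ) (m : ℕ) :
    Cfsg.IsCharacter G ((m : ℂ) • ψ) := by
  induction m with
  | zero => simpa using isCharacter_zero
  | succ k ih =>
    have : ((k + 1 : ℕ) : ℂ) • ψ = (k : ℂ) • ψ + ψ := by
      rw [Nat.cast_succ, add_smul, one_smul]
    rw [this]
    exact isCharacter_add ih hψ

theorem isCharacter_sum {ι : Type*} (s : Finset ι) (f : ι → G → ℂ)
    (h : ∀ i ∈ s, Cfsg.IsCharacter G (f i)) : Cfsg.IsCharacter G (∑ i ∈ s, f i) := by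
  classical
  induction s using Finset.induction_on with
  | empty => simpa using isCharacter_zero
  | insert i s hi ih =>
    rw [Finset.sum_insert hi]
    exact isCharacter_add (h i (Finset.mem_insert_self i s))
      (ih fun j hj => h j (Finset.mem_insert_of_mem hj))

variable [Fintype G]

/-- The inner product of two characters is a natural number. -/
theorem classInner_char_nat {ψ χ : G → ℂ} (hψ : Cfsg.IsCharacter G ψ)
    (hχ : Cfsg.IsCharacter G χ) : ∃ m : ℕ, Cfsg.classInner ψ χ = m := by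
  obtain ⟨n, σ, rfl⟩ := hψ
  obtain ⟨k, ρ, rfl⟩ := hχ
  have hG0 : (Nat.card G : ℂ) ≠ 0 := Nat.cast_ne_zero.2 Nat.card_pos.ne'
  have : Invertible (Nat.card G : ℂ) := invertibleOfNonzero hG0
  refine ⟨Module.finrank ℂ (Representation.IntertwiningMap ρ σ), ?_⟩
  rw [← Representation.card_inv_mul_sum_char_mul_char_eq_finrank ρ σ, classInner_def]
  congr 1
  refine Finset.sum_congr rfl fun g _ => ?_
  rw [character_inv]

/-- The multiplicity of an irreducible character in a character is a natural number. -/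
theorem classInner_char_irr_nat {ψ χ : G → ℂ} (hψ : Cfsg.IsCharacter G ψ)
    (hχ : Cfsg.IsIrrCharacter G χ) : ∃ m : ℕ, Cfsg.classInner ψ χ = m :=
  classInner_char_nat hψ (isCharacter_of_irr hχ)

/-- A class function all of whose multiplicities are natural numbers is a character. -/
theorem isCharacter_of_nat_mult (ψ : G → ℂ) (hψ : Cfsg.IsClassFunction G ψ)
    (h : ∀ χ : G → ℂ, Cfsg.IsIrrCharacter G χ → ∃ m : ℕ, Cfsg.classInner ψ χ = m) :
    Cfsg.IsCharacter G ψ := by
  classical
  have : Fintype (Cfsg.IrrCharacter G) := Fintype.ofFinite _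
  rw [class_function_expansion ψ hψ]
  apply isCharacter_sum
  intro χ _
  obtain ⟨m, hm⟩ := h χ χ.2
  rw [hm]
  exact isCharacter_nsmul (isCharacter_of_irr χ.2) m

/-- Parseval: the inner product of two class functions in terms of their multiplicities. -/
theorem classInner_eq_sum_mult [Fintype (Cfsg.IrrCharacter G)] (ψ φ : G → ℂ)
    (hψ : Cfsg.IsClassFunction G ψ) :
    Cfsg.classInner ψ φ = ∑ χ : Cfsg.IrrCharacter G,
      Cfsg.classInner ψ χ * Cfsg.classInner (χ : G → ℂ) φ := by
  conv_lhs => rw [class_function_expansion ψ hψ]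
  rw [classInner_sum_left]
  refine Finset.sum_congr rfl fun χ _ => ?_
  rw [classInner_smul_left]

/-- A character of norm one is irreducible. -/
theorem isIrrCharacter_of_norm_one {ψ : G → ℂ} (hψ : Cfsg.IsCharacter G ψ)
    (h1 : Cfsg.classInner ψ ψ = 1) : Cfsg.IsIrrCharacter G ψ := by
  classical
  have : Fintype (Cfsg.IrrCharacter G) := Fintype.ofFinite _
  have hcf := isClassFunction_of_isCharacter hψ
  have hm : ∀ χ : Cfsg.IrrCharacter G, ∃ m : ℕ, Cfsg.classInner ψ χ = m :=
    fun χ => classInner_char_irr_nat hψ χ.2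
  choose m hm using hm
  have hpars := classInner_eq_sum_mult ψ ψ hcf
  have h2 : ∀ χ : Cfsg.IrrCharacter G, Cfsg.classInner (χ : G → ℂ) ψ = m χ := by
    intro χ
    rw [← classInner_conj_symm, hm χ, Complex.conj_natCast]
  rw [h1] at hpars
  simp only [hm, h2] at hpars
  have h3 : ∑ χ : Cfsg.IrrCharacter G, m χ * m χ = 1 := by
    have : ((∑ χ : Cfsg.IrrCharacter G, m χ * m χ : ℕ) : ℂ) = 1 := by
      rw [hpars]; push_cast; rfl
    exact_mod_cast this
  -- exactly one multiplicity is one
  have hex : ∃ χ₀ : Cfsg.IrrCharacter G, m χ₀ ≠ 0 := by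
    by_contra hne
    push Not at hne
    simp [hne] at h3
  obtain ⟨χ₀, hχ₀⟩ := hex
  have hle : ∀ χ : Cfsg.IrrCharacter G, χ ≠ χ₀ → m χ = 0 := by
    intro χ hne
    by_contra hχ
    have h4 : m χ₀ * m χ₀ + m χ * m χ ≤ ∑ χ : Cfsg.IrrCharacter G, m χ * m χ := by
      rw [← Finset.sum_pair (f := fun χ => m χ * m χ) hne.symm]
      exact Finset.sum_le_sum_of_subset (Finset.subset_univ _)
    have h5 : 1 ≤ m χ₀ * m χ₀ := Nat.one_le_iff_ne_zero.2 (Nat.mul_ne_zero hχ₀ hχ₀)
    have h6 : 1 ≤ m χ * m χ := Nat.one_le_iff_ne_zero.2 (Nat.mul_ne_zero hχ hχ)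
    omega
  have h7 : m χ₀ = 1 := by
    rw [Finset.sum_eq_single χ₀ (fun χ _ hne => by rw [hle χ hne]; rfl) (fun h => absurd (Finset.mem_univ _) h)] at h3
    exact Nat.eq_one_of_mul_eq_one_left h3
  have hexp := class_function_expansion ψ hcf
  rw [Finset.sum_eq_single χ₀ (fun χ _ hne => by rw [hm, hle χ hne]; simp)
    (fun h => absurd (Finset.mem_univ _) h), hm, h7] at hexp
  rw [hexp]
  simpa using χ₀.2

end Closure

end Cfsg.Agent.Lib.Helper1
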