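import Mathlib
import Cfsg.Prelude.Def_Characters
import Cfsg.Agent.Lib.Helper4.Characters
import Cfsg.Agent.Lib.Helper1.CharFound6

set_option autoImplicit false

namespace Cfsg.Agent.Lib.Helper1

open scoped ComplexConjugate
open Cfsg.Agent.Lib.Helper4

universe u

section Comp

variable {G : Type u} [Group G] {H : Type*} [Group H] {V : Type*} [AddCommGroup V] [Module ℂ V]

/-- Composing an irreducible representation with a surjective homomorphism gives an irreducible
representation. -/
theorem isIrreducible_comp_surjective (ρ : Representation ℂ G V) (hρ : ρ.IsIrreducible)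
    (φ : H →* G) (hφ : Function.Surjective φ) :
    Representation.IsIrreducible (ρ.comp φ : Representation ℂ H V) := by
  have hnt : Nontrivial V := by
    by_contra h
    rw [not_nontrivial_iff_subsingleton] at h
    have : (⊥ : Subrepresentation ρ) = ⊤ := by
      apply Subrepresentation.toSubmodule_injective
      exact Subsingleton.elim _ _
    exact bot_ne_top this
  refine { exists_pair_ne := ⟨⊥, ⊤, ?_⟩, eq_bot_or_eq_top := ?_ }
  · intro hbt
    have h1 := congrArg Subrepresentation.toSubmodule hbt
    exact bot_ne_top h1
  · intro S
    let S' : Subrepresentation ρ :=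
      { toSubmodule := S.toSubmodule
        apply_mem_toSubmodule := by
          intro g v hv
          obtain ⟨h, rfl⟩ := hφ g
          exact S.apply_mem_toSubmodule h hv }
    rcases eq_bot_or_eq_top S' with h | h
    · left
      apply Subrepresentation.toSubmodule_injective
      have h1 : S'.toSubmodule = (⊥ : Subrepresentation ρ).toSubmodule :=
        congrArg Subrepresentation.toSubmodule h
      exact h1
    · right
      apply Subrepresentation.toSubmodule_injective
      have h1 : S'.toSubmodule = (⊤ : Subrepresentation ρ).toSubmodule :=
        congrArg Subrepresentation.toSubmodule h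
      exact h1

/-- Precomposing an irreducible character with a group isomorphism gives an irreducible character. -/
theorem isIrrCharacter_comp_mulEquiv {H : Type u} [Group H] {χ : G → ℂ}
    (hχ : Cfsg.IsIrrCharacter G χ) (e : H ≃* G) : Cfsg.IsIrrCharacter H (fun h => χ (e h)) := by
  obtain ⟨n, ρ, hirr, rfl⟩ := hχ
  exact ⟨n, ρ.comp e.toMonoidHom, isIrreducible_comp_surjective ρ hirr e.toMonoidHom e.surjective, rfl⟩

theorem isCharacter_comp_hom {H : Type u} [Group H] {χ : G → ℂ}
    (hχ : Cfsg.IsCharacter G χ) (e : H →* G) : Cfsg.IsCharacter H (fun h => χ (e h)) := by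
  obtain ⟨n, ρ, rfl⟩ := hχ
  exact ⟨n, ρ.comp e, rfl⟩

end Comp

end Cfsg.Agent.Lib.Helper1
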