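import Mathlib
import Cfsg.Prelude.Def_Characters
import Cfsg.Agent.Lib.Helper4.Characters
import Cfsg.Agent.Lib.Helper1.CharFound7
import Cfsg.Agent.S0135
import Cfsg.Agent.S0145

set_option autoImplicit false

namespace Cfsg.Agent.Lib.Helper1

open scoped ComplexConjugate
open Cfsg.Agent.Lib.Helper4

universe u

section Dual

variable {G : Type u} [Group G] [Fintype G]

omit [Fintype G] in
/-- `g ↦ χ g⁻¹` is a character. -/
theorem isCharacter_inv_comp {χ : G → ℂ} (hχ : Cfsg.IsCharacter G χ) :
    Cfsg.IsCharacter G (fun g => χ g⁻¹) := by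
  obtain ⟨n, ρ, rfl⟩ := hχ
  have h := isCharacter_character ρ.dual
  have h2 : ρ.dual.character = fun g => ρ.character g⁻¹ := by
    funext g
    exact Representation.char_dual ρ g
  rwa [h2] at h

/-- `g ↦ χ g⁻¹` is an irreducible character when `χ` is. -/
theorem isIrrCharacter_inv_comp {χ : G → ℂ} (hχ : Cfsg.IsIrrCharacter G χ) :
    Cfsg.IsIrrCharacter G (fun g => χ g⁻¹) := by
  apply isIrrCharacter_of_norm_one (isCharacter_inv_comp (isCharacter_of_irr hχ))
  rw [← classInner_irr_self hχ, classInner_def, classInner_def]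
  congr 1
  exact Equiv.sum_comp (Equiv.inv G) (fun g => χ g * conj (χ g))

/-- The complex conjugate of an irreducible character is irreducible. -/
theorem isIrrCharacter_conj {χ : G → ℂ} (hχ : Cfsg.IsIrrCharacter G χ) :
    Cfsg.IsIrrCharacter G (fun g => conj (χ g)) := by
  have h := isIrrCharacter_inv_comp hχ
  have h2 : (fun g => χ g⁻¹) = fun g => conj (χ g) := by
    funext g
    exact isCharacter_inv (isCharacter_of_irr hχ) g
  rwa [h2] at h

end Dual

section Centralizer

variable {G : Type u} [Group G] [Finite G]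

theorem card_centralizer_eq_of_isConj {a b : G} (h : IsConj a b) :
    Nat.card (Subgroup.centralizer ({a} : Set G)) = Nat.card (Subgroup.centralizer ({b} : Set G)) := by
  have h1 := card_isConj_mul_card_centralizer a
  have h2 := card_isConj_mul_card_centralizer b
  have h3 : Nat.card {v : G // IsConj a v} = Nat.card {v : G // IsConj b v} := by
    apply Nat.card_congr
    refine Equiv.subtypeEquivRight fun v => ?_
    exact ⟨fun h' => h.symm.trans h', fun h' => h.trans h'⟩
  rw [h3, ← h2] at h1
  have hpos : 0 < Nat.card {v : G // IsConj b v} := by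
    have : Nonempty {v : G // IsConj b v} := ⟨⟨b, IsConj.refl b⟩⟩
    exact Nat.card_pos
  exact Nat.eq_of_mul_eq_mul_left hpos h1

end Centralizer

section BrauerPerm

variable {G : Type u} [Group G] [Fintype G]

open Classical in
/-- Generic Brauer permutation lemma: if `β : G → G` is such that `χ ∘ β` is an irreducible
character for every irreducible character `χ`, the number of irreducible characters fixed by `β`
equals the number of conjugacy classes whose representative `x` has `β x` conjugate to `x`. -/
theorem brauer_perm_generic [Fintype (Cfsg.IrrCharacter G)] [Fintype (ConjClasses G)] (β : G → G)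
    (hβ : ∀ χ : G → ℂ, Cfsg.IsIrrCharacter G χ → Cfsg.IsIrrCharacter G (fun g => χ (β g))) :
    ((Finset.univ.filter (fun χ : Cfsg.IrrCharacter G =>
        (fun g => (χ : G → ℂ) (β g)) = (χ : G → ℂ))).card : ℂ)
      = ((Finset.univ.filter (fun c : ConjClasses G =>
        IsConj (β (Quotient.out c)) (Quotient.out c))).card : ℂ) := by
  have hG0 : (Nat.card G : ℂ) ≠ 0 := Nat.cast_ne_zero.2 Nat.card_pos.ne'
  -- left side as a sum of inner products
  have hL : ((Finset.univ.filter (fun χ : Cfsg.IrrCharacter G =>
        (fun g => (χ : G → ℂ) (β g)) = (χ : G → ℂ))).card : ℂ)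
      = ∑ χ : Cfsg.IrrCharacter G, Cfsg.classInner (fun g => (χ : G → ℂ) (β g)) (χ : G → ℂ) := by
    rw [Finset.card_filter]
    push_cast
    refine Finset.sum_congr rfl fun χ _ => ?_
    rw [classInner_irr (hβ _ χ.2) χ.2]
  rw [hL]
  -- the class function F
  let F : G → ℂ := fun g => (Nat.card G : ℂ)⁻¹ *
    ∑ χ : Cfsg.IrrCharacter G, (χ : G → ℂ) (β g) * conj ((χ : G → ℂ) g)
  have hF : Cfsg.IsClassFunction G F := by
    intro g h
    simp only [F]
    congr 1
    refine Finset.sum_congr rfl fun χ _ => ?_
    have h1 : (χ : G → ℂ) (β (h * g * h⁻¹)) = (χ : G → ℂ) (β g) :=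
      isClassFunction_irr (hβ _ χ.2) g h
    rw [h1, isClassFunction_irr χ.2 g h]
  have hsum : ∑ χ : Cfsg.IrrCharacter G, Cfsg.classInner (fun g => (χ : G → ℂ) (β g)) (χ : G → ℂ)
      = ∑ g : G, F g := by
    simp only [classInner_def, F]
    rw [← Finset.mul_sum, ← Finset.mul_sum, Finset.sum_comm]
  rw [hsum, Cfsg.Agent.S0135.sum_by_classes F hF, Finset.card_filter]
  push_cast
  refine Finset.sum_congr rfl fun c _ => ?_
  simp only [F]
  rw [Cfsg.Agent.S0145.column']
  unfold classIndicator
  split_ifs with hc
  · have h1 := card_centralizer_eq_of_isConj hc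
    have h2 := (Subgroup.centralizer ({Quotient.out c} : Set G)).card_mul_index
    have h3 : (Nat.card (Subgroup.centralizer ({Quotient.out c} : Set G)) : ℂ) *
        ((Subgroup.centralizer ({Quotient.out c} : Set G)).index : ℂ) = (Nat.card G : ℂ) := by
      exact_mod_cast h2
    rw [h1, mul_one, ← h3]
    have hC0 : (Nat.card (Subgroup.centralizer ({Quotient.out c} : Set G)) : ℂ) ≠ 0 :=
      Nat.cast_ne_zero.2 Nat.card_pos.ne'
    have hI0 : ((Subgroup.centralizer ({Quotient.out c} : Set G)).index : ℂ) ≠ 0 := by
      intro h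
      rw [h, mul_zero] at h3
      exact hG0 h3.symm
    field_simp
  · simp

end BrauerPerm

end Cfsg.Agent.Lib.Helper1
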