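import Mathlib
import Cfsg.Prelude.Def_Characters
import Cfsg.Agent.Lib.Helper1.CharFound7
import Cfsg.Agent.Lib.Helper1.IndFun
import Cfsg.Agent.Lib.Helper4.CharTools
import Cfsg.Agent.S0146
import Cfsg.Agent.S0147
import Cfsg.Agent.S0148
import Cfsg.Agent.S0170
import Cfsg.Agent.S0174
import Cfsg.Agent.S0193
import Cfsg.Agent.S0194

set_option autoImplicit false

namespace Cfsg.Agent.Lib.Helper1

open Cfsg.Agent.Lib.Helper4 Cfsg.Agent.S0193 Cfsg.Agent.S0194
open scoped ComplexConjugate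

section Linear
variable {G : Type*} [Group G]

theorem extendByZero_smul (H : Subgroup G) (c : ℂ) (θ : H → ℂ) (x : G) :
    Cfsg.extendByZero H (c • θ) x = c * Cfsg.extendByZero H θ x := by
  by_cases hx : x ∈ H
  · rw [extendByZero_of_mem _ _ hx, extendByZero_of_mem _ _ hx]
    rfl
  · rw [extendByZero_of_notMem _ _ hx, extendByZero_of_notMem _ _ hx, mul_zero]

theorem extendByZero_add (H : Subgroup G) (θ₁ θ₂ : H → ℂ) (x : G) :
    Cfsg.extendByZero H (θ₁ + θ₂) x = Cfsg.extendByZero H θ₁ x + Cfsg.extendByZero H θ₂ x := by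
  by_cases hx : x ∈ H
  · rw [extendByZero_of_mem _ _ hx, extendByZero_of_mem _ _ hx, extendByZero_of_mem _ _ hx]
    rfl
  · rw [extendByZero_of_notMem _ _ hx, extendByZero_of_notMem _ _ hx,
      extendByZero_of_notMem _ _ hx, add_zero]

variable [Fintype G]

theorem indFun_smul (H : Subgroup G) (c : ℂ) (θ : H → ℂ) :
    Cfsg.indFun H (c • θ) = c • Cfsg.indFun H θ := by
  funext g
  rw [Pi.smul_apply, indFun_apply, indFun_apply, smul_eq_mul, mul_left_comm]
  congr 1
  rw [Finset.mul_sum]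
  exact Finset.sum_congr rfl fun x _ => extendByZero_smul H c θ _

theorem indFun_add (H : Subgroup G) (θ₁ θ₂ : H → ℂ) :
    Cfsg.indFun H (θ₁ + θ₂) = Cfsg.indFun H θ₁ + Cfsg.indFun H θ₂ := by
  funext g
  rw [Pi.add_apply, indFun_apply, indFun_apply, indFun_apply, ← mul_add, ← Finset.sum_add_distrib]
  congr 1
  exact Finset.sum_congr rfl fun x _ => extendByZero_add H θ₁ θ₂ _

theorem indFun_zero (H : Subgroup G) : Cfsg.indFun H (0 : H → ℂ) = 0 := by
  have := indFun_smul H 0 (0 : H → ℂ)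
  simpa using this

theorem indFun_sum (H : Subgroup G) {ι : Type*} (s : Finset ι) (f : ι → H → ℂ) :
    Cfsg.indFun H (∑ i ∈ s, f i) = ∑ i ∈ s, Cfsg.indFun H (f i) := by
  classical
  induction s using Finset.induction_on with
  | empty => simpa using indFun_zero H
  | insert a s ha ih => rw [Finset.sum_insert ha, Finset.sum_insert ha, indFun_add, ih]

/-- Positive definiteness of the inner product. -/
theorem eq_zero_of_classInner_self_eq_zero {f : G → ℂ} (h : Cfsg.classInner f f = 0) (g : G) :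
    f g = 0 := by
  have hG0 : (Nat.card G : ℂ) ≠ 0 := Nat.cast_ne_zero.2 Nat.card_pos.ne'
  rw [classInner_def] at h
  have h1 : ∑ x : G, f x * conj (f x) = 0 := by
    rcases mul_eq_zero.1 h with h | h
    · exact absurd (inv_eq_zero.1 h) hG0
    · exact h
  have h2 : ∑ x : G, Complex.normSq (f x) = 0 := by
    have : ((∑ x : G, Complex.normSq (f x) : ℝ) : ℂ) = 0 := by
      rw [← h1]
      push_cast
      exact Finset.sum_congr rfl fun x _ => (Complex.mul_conj (f x)).symm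
    exact_mod_cast this
  have h3 := (Finset.sum_eq_zero_iff_of_nonneg (fun x _ => Complex.normSq_nonneg (f x))).1 h2 g
    (Finset.mem_univ g)
  exact Complex.normSq_eq_zero.1 h3

end Linear

section Inertia
variable {G : Type*} [Group G] (N : Subgroup G) [hN : N.Normal]

/-- The inertia subgroup of a function on a normal subgroup. -/
def inertia (θ : N → ℂ) : Subgroup G where
  carrier := {g | conjFun N θ g = θ}
  mul_mem' := by
    intro a b ha hb
    simp only [Set.mem_ofPred_eq] at *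
    rw [← conjFun_mul, ha, hb]
  one_mem' := conjFun_one N θ
  inv_mem' := by
    intro a ha
    simp only [Set.mem_ofPred_eq] at *
    conv_lhs => rw [← ha]
    rw [conjFun_mul, mul_inv_cancel, conjFun_one]

theorem mem_inertia {θ : N → ℂ} {g : G} : g ∈ inertia N θ ↔ conjFun N θ g = θ := Iff.rfl

theorem le_inertia {θ : N → ℂ} (hθ : Cfsg.IsClassFunction N θ) : N ≤ inertia N θ := by
  intro n hn
  rw [mem_inertia]
  funext h
  have := hθ h ⟨n, hn⟩
  rw [← this]
  rfl

end Inertia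

section Correspondence
variable {G : Type*} [Group G] [Fintype G] (N : Subgroup G) [hN : N.Normal] [Fintype N]

/-- Clifford correspondence (existence): an irreducible character of `G` lying over `θ` is
induced from an irreducible character of the inertia group whose restriction to `N` is a
multiple of `θ`. -/
theorem clifford_correspondence (θ : N → ℂ) (hθ : Cfsg.IsIrrCharacter N θ) (χ : G → ℂ)
    (hχ : Cfsg.IsIrrCharacter G χ) (hconst : Cfsg.classInner (fun n : N => χ n) θ ≠ 0)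
    (T : Subgroup G) (hT : T = inertia N θ) (hNT : N ≤ T) :
    ∃ ψ : T → ℂ, Cfsg.IsIrrCharacter T ψ ∧ χ = Cfsg.indFun T ψ ∧
      ∃ c : ℂ, ∀ n : N, ψ ⟨n, hNT n.2⟩ = c * θ n := by
  classical
  have : Fintype T := Fintype.ofFinite T
  have : Fintype (Cfsg.IrrCharacter T) := Fintype.ofFinite _
  set N' : Subgroup T := N.subgroupOf T with hN'
  have hN'n : N'.Normal := inferInstance
  have : Fintype N' := Fintype.ofFinite _
  let e : N' ≃* N := Subgroup.subgroupOfEquivOfLe hNT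
  set θ' : N' → ℂ := fun x => θ ⟨((x : T) : G), Subgroup.mem_subgroupOf.mp x.2⟩ with hθ'
  have hθ'irr : Cfsg.IsIrrCharacter N' θ' := isIrrCharacter_comp_mulEquiv hθ e
  set Θ : T → ℂ := Cfsg.indFun N' θ' with hΘ
  have hΘc : Cfsg.IsCharacter T Θ := Cfsg.Agent.S0148.result N' θ' (isCharacter_of_irr hθ'irr)
  have htrans : Cfsg.indFun T Θ = Cfsg.indFun N θ := Cfsg.Agent.S0147.result N T hNT θ
  have hcardN : Nat.card N' = Nat.card N := Nat.card_congr e.toEquiv
  have hN0 : (Nat.card N : ℂ) ≠ 0 := Nat.cast_ne_zero.2 Nat.card_pos.ne'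
  -- every element of T fixes θ'
  have hfix : ∀ (t : T) (h : N'), θ' ⟨t * h * t⁻¹, hN'n.conj_mem h h.2 t⟩ = θ' h := by
    intro t h
    have ht : conjFun N θ (t : G) = θ := by
      have h1 : (t : G) ∈ inertia N θ := by rw [← hT]; exact t.2
      exact h1
    exact congrFun ht (e h)
  have hnormT : (Nat.card N : ℂ) * Cfsg.classInner Θ Θ = Nat.card T := by
    have := Cfsg.Agent.S0193.result N' θ' hθ'irr
    rw [hcardN] at this
    rw [this]
    congr 1
    exact Nat.card_congr (Equiv.subtypeUnivEquiv hfix)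
  have hnormG : (Nat.card N : ℂ) * Cfsg.classInner (Cfsg.indFun N θ) (Cfsg.indFun N θ)
      = Nat.card T := by
    rw [Cfsg.Agent.S0193.result N θ hθ]
    congr 1
    apply Nat.card_congr
    refine Equiv.subtypeEquivRight fun g => ?_
    rw [hT, mem_inertia]
    constructor
    · intro h
      funext x
      exact h x
    · intro h x
      exact congrFun h x
  -- multiplicities
  have hm : ∀ ψ : Cfsg.IrrCharacter T, ∃ m : ℕ, Cfsg.classInner Θ (ψ : T → ℂ) = m :=
    fun ψ => classInner_char_irr_nat hΘc ψ.2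
  choose m hm using hm
  have hexp : Θ = ∑ ψ : Cfsg.IrrCharacter T, (m ψ : ℂ) • (ψ : T → ℂ) := by
    have := class_function_expansion Θ (isClassFunction_of_isCharacter hΘc)
    rw [Finset.sum_congr rfl (fun ψ _ => by rw [hm ψ])] at this
    exact this
  have hΦexp : Cfsg.indFun N θ
      = ∑ ψ : Cfsg.IrrCharacter T, (m ψ : ℂ) • Cfsg.indFun T (ψ : T → ℂ) := by
    rw [← htrans]
    conv_lhs => rw [hexp]
    rw [indFun_sum]
    exact Finset.sum_congr rfl fun ψ _ => indFun_smul T _ _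
  have hIc : ∀ ψ : Cfsg.IrrCharacter T, Cfsg.IsCharacter G (Cfsg.indFun T (ψ : T → ℂ)) :=
    fun ψ => Cfsg.Agent.S0148.result T ψ (isCharacter_of_irr ψ.2)
  have ha : ∀ ψ ψ' : Cfsg.IrrCharacter T, ∃ a : ℕ,
      Cfsg.classInner (Cfsg.indFun T (ψ : T → ℂ)) (Cfsg.indFun T (ψ' : T → ℂ)) = a :=
    fun ψ ψ' => classInner_char_nat (hIc ψ) (hIc ψ')
  choose a ha using ha
  have ha1 : ∀ ψ : Cfsg.IrrCharacter T, 1 ≤ a ψ ψ := by
    intro ψ
    by_contra hlt
    have h0 : a ψ ψ = 0 := by omega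
    have h1 := ha ψ ψ
    rw [h0, Nat.cast_zero] at h1
    have h2 := eq_zero_of_classInner_self_eq_zero h1 1
    rw [Cfsg.Agent.S0170.indFun_one] at h2
    obtain ⟨k, hk0, hk⟩ := irr_apply_one_pos ψ.2
    rw [hk] at h2
    have hT0 : (Nat.card T : ℂ) ≠ 0 := Nat.cast_ne_zero.2 Nat.card_pos.ne'
    have hG0 : (Nat.card G : ℂ) ≠ 0 := Nat.cast_ne_zero.2 Nat.card_pos.ne'
    have hk0' : (k : ℂ) ≠ 0 := Nat.cast_ne_zero.2 hk0.ne'
    exact mul_ne_zero (inv_ne_zero hT0) (mul_ne_zero hG0 hk0') h2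
  -- norm computations
  have hΘnorm : Cfsg.classInner Θ Θ = ((∑ ψ : Cfsg.IrrCharacter T, m ψ * m ψ : ℕ) : ℂ) := by
    rw [classInner_eq_sum_mult Θ Θ (isClassFunction_of_isCharacter hΘc)]
    push_cast
    refine Finset.sum_congr rfl fun ψ _ => ?_
    rw [← classInner_conj_symm (Θ) (ψ : T → ℂ), hm]
    simp
  have hΦnorm : Cfsg.classInner (Cfsg.indFun N θ) (Cfsg.indFun N θ)
      = ((∑ ψ : Cfsg.IrrCharacter T, ∑ ψ' : Cfsg.IrrCharacter T, m ψ * m ψ' * a ψ ψ' : ℕ) : ℂ) := by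
    rw [hΦexp, classInner_sum_left]
    push_cast
    refine Finset.sum_congr rfl fun ψ _ => ?_
    rw [classInner_smul_left, classInner_sum_right, Finset.mul_sum]
    refine Finset.sum_congr rfl fun ψ' _ => ?_
    rw [classInner_smul_right, ha]
    simp
    ring
  have hsumeq : ∑ ψ : Cfsg.IrrCharacter T, m ψ * m ψ
      = ∑ ψ : Cfsg.IrrCharacter T, ∑ ψ' : Cfsg.IrrCharacter T, m ψ * m ψ' * a ψ ψ' := by
    have h1 : (Nat.card N : ℂ) * ((∑ ψ : Cfsg.IrrCharacter T, m ψ * m ψ : ℕ) : ℂ)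
        = (Nat.card N : ℂ) * ((∑ ψ : Cfsg.IrrCharacter T, ∑ ψ' : Cfsg.IrrCharacter T,
            m ψ * m ψ' * a ψ ψ' : ℕ) : ℂ) := by
      rw [← hΘnorm, ← hΦnorm, hnormT, hnormG]
    have h2 := mul_left_cancel₀ hN0 h1
    exact_mod_cast h2
  have hle : ∀ ψ ∈ (Finset.univ : Finset (Cfsg.IrrCharacter T)),
      m ψ * m ψ ≤ ∑ ψ' : Cfsg.IrrCharacter T, m ψ * m ψ' * a ψ ψ' := by
    intro ψ _
    calc m ψ * m ψ ≤ m ψ * m ψ * a ψ ψ := Nat.le_mul_of_pos_right _ (ha1 ψ)
      _ ≤ _ := Finset.single_le_sum (f := fun ψ' => m ψ * m ψ' * a ψ ψ')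
          (fun _ _ => Nat.zero_le _) (Finset.mem_univ ψ)
  have hkey : ∀ ψ : Cfsg.IrrCharacter T, m ψ ≠ 0 → a ψ ψ = 1 := by
    intro ψ hmψ
    have h1 := (Finset.sum_eq_sum_iff_of_le hle).1 hsumeq ψ (Finset.mem_univ ψ)
    have h2 : m ψ * m ψ * a ψ ψ ≤ m ψ * m ψ :=
      (Finset.single_le_sum (f := fun ψ' => m ψ * m ψ' * a ψ ψ')
          (fun _ _ => Nat.zero_le _) (Finset.mem_univ ψ)).trans_eq h1.symm
    have h3 : 0 < m ψ * m ψ := Nat.mul_pos (Nat.pos_of_ne_zero hmψ) (Nat.pos_of_ne_zero hmψ)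
    have h4 : a ψ ψ ≤ 1 := by
      by_contra hgt
      push Not at hgt
      have : m ψ * m ψ * 2 ≤ m ψ * m ψ * a ψ ψ := Nat.mul_le_mul_left _ hgt
      omega
    have := ha1 ψ
    omega
  -- χ is a constituent of the induced character
  have hχΦ : Cfsg.classInner (Cfsg.indFun N θ) χ ≠ 0 := by
    rw [Cfsg.Agent.S0146.result N θ χ (isClassFunction_irr hχ), ← classInner_conj_symm]
    simpa using hconst
  rw [hΦexp, classInner_sum_left] at hχΦ
  obtain ⟨ψ, _, hψ⟩ := Finset.exists_ne_zero_of_sum_ne_zero hχΦ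
  rw [classInner_smul_left] at hψ
  have hmψ : m ψ ≠ 0 := by
    intro h
    rw [h] at hψ
    simp at hψ
  have hIψ : Cfsg.classInner (Cfsg.indFun T (ψ : T → ℂ)) χ ≠ 0 := right_ne_zero_of_mul hψ
  have hIirr : Cfsg.IsIrrCharacter G (Cfsg.indFun T (ψ : T → ℂ)) := by
    apply isIrrCharacter_of_norm_one (hIc ψ)
    rw [ha, hkey ψ hmψ]
    simp
  have hχeq : χ = Cfsg.indFun T (ψ : T → ℂ) := by
    by_contra hne
    exact hIψ (classInner_irr_ne hIirr hχ (Ne.symm hne))
  refine ⟨ψ, ψ.2, hχeq, ?_⟩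
  -- restriction of ψ to N
  have hconst' : Cfsg.classInner (fun n : N' => (ψ : T → ℂ) n) θ' ≠ 0 := by
    have h1 := hm ψ
    rw [hΘ, Cfsg.Agent.S0146.result N' θ' _ (isClassFunction_irr ψ.2)] at h1
    rw [← classInner_conj_symm, h1]
    simpa using hmψ
  have hcl := Cfsg.Agent.S0174.result N' hN'n (ψ : T → ℂ) ψ.2 θ' hθ'irr hconst'
  have hset : {φ : N' → ℂ | ∃ t : T, φ = fun n : N' => θ' ⟨t * n * t⁻¹, hN'n.conj_mem n n.2 t⟩}
      = {θ'} := by
    ext φ
    simp only [Set.mem_ofPred_eq, Set.mem_singleton_iff]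
    constructor
    · rintro ⟨t, rfl⟩
      funext n
      exact hfix t n
    · rintro rfl
      exact ⟨1, by funext n; exact (hfix 1 n).symm⟩
  rw [hset, finsum_mem_singleton] at hcl
  refine ⟨Cfsg.classInner (fun n : N' => (ψ : T → ℂ) n) θ', fun n => ?_⟩
  have := congrFun hcl ⟨⟨n, hNT n.2⟩, Subgroup.mem_subgroupOf.2 n.2⟩
  simpa using this

end Correspondence

end Cfsg.Agent.Lib.Helper1
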