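import Mathlib
import Cfsg.Prelude.Def_Characters
import Cfsg.Agent.Lib.Helper4.Characters
import Cfsg.Agent.Lib.Helper1.CharInt

set_option autoImplicit false

namespace Cfsg.Agent.Lib.Helper1

open scoped ComplexConjugate
open Cfsg.Agent.Lib.Helper4

section Center

variable {G : Type*} [Group G] {V : Type*} [AddCommGroup V] [Module ℂ V] [FiniteDimensional ℂ V]

/-- Schur: an operator commuting with an irreducible representation is a scalar. -/
theorem scalar_of_commute (ρ : Representation ℂ G V) [ρ.IsIrreducible] (T : V →ₗ[ℂ] V)
    (hT : ∀ g : G, T ∘ₗ ρ g = ρ g ∘ₗ T) : ∃ c : ℂ, T = c • LinearMap.id := by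
  let I : Representation.IntertwiningMap ρ ρ := { toLinearMap := T, isIntertwining' := hT }
  obtain ⟨c, hc⟩ := (Representation.IsIrreducible.algebraMap_intertwiningMap_bijective_of_isAlgClosed
    (ρ := ρ)).2 I
  refine ⟨c, ?_⟩
  have := congrArg Representation.IntertwiningMap.toLinearMap hc
  rw [Representation.IntertwiningMap.algebraMap_apply] at this
  exact this.symm

/-- A central element acts as a scalar in an irreducible representation. -/
theorem central_scalar (ρ : Representation ℂ G V) [ρ.IsIrreducible] {z : G}
    (hz : z ∈ Subgroup.center G) : ∃ c : ℂ, ρ z = c • LinearMap.id := by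
  apply scalar_of_commute ρ
  intro g
  have : z * g = g * z := (Subgroup.mem_center_iff.1 hz g).symm
  rw [← Module.End.mul_eq_comp, ← Module.End.mul_eq_comp, ← map_mul, ← map_mul, this]

/-- The scalar by which a central element acts, as a homomorphism. -/
theorem central_eq_char (ρ : Representation ℂ G V) [ρ.IsIrreducible] {z : G}
    (hz : z ∈ Subgroup.center G) :
    ρ z = (ρ.character z / (Module.finrank ℂ V : ℂ)) • LinearMap.id := by
  obtain ⟨c, hc⟩ := central_scalar ρ hz
  have hn := finrank_ne_zero_of_irreducible ρ
  have : ρ.character z = c * (Module.finrank ℂ V : ℂ) := by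
    unfold Representation.character
    rw [hc, map_smul, LinearMap.trace_id, smul_eq_mul]
  rw [this, mul_div_assoc, div_self hn, mul_one, hc]

/-- The central character of an irreducible representation. -/
noncomputable def centralHom (ρ : Representation ℂ G V) [ρ.IsIrreducible] :
    Subgroup.center G →* ℂ where
  toFun z := ρ.character z / (Module.finrank ℂ V : ℂ)
  map_one' := by
    have hn := finrank_ne_zero_of_irreducible ρ
    change ρ.character (1 : G) / _ = 1
    rw [Representation.char_one, div_self hn]
  map_mul' a b := by
    have hn := finrank_ne_zero_of_irreducible ρ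
    have := nontrivial_of_irreducible ρ
    have ha := central_eq_char ρ a.2
    have hb := central_eq_char ρ b.2
    have hab := central_eq_char ρ (a * b).2
    have h1 : ρ ((a * b : Subgroup.center G) : G) = ρ (a : G) * ρ (b : G) := by
      rw [← map_mul]; rfl
    rw [hab, ha, hb, smul_mul_smul_comm, Module.End.mul_eq_comp, LinearMap.id_comp] at h1
    obtain ⟨v, hv⟩ := exists_ne (0 : V)
    have h2 := LinearMap.congr_fun h1 v
    simp only [LinearMap.smul_apply, LinearMap.id_apply] at h2
    exact smul_left_injective ℂ hv h2

theorem centralHom_apply (ρ : Representation ℂ G V) [ρ.IsIrreducible] (z : Subgroup.center G) :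
    centralHom ρ z = ρ.character z / (Module.finrank ℂ V : ℂ) := rfl

theorem rho_central (ρ : Representation ℂ G V) [ρ.IsIrreducible] (z : Subgroup.center G) :
    ρ z = centralHom ρ z • LinearMap.id := central_eq_char ρ z.2

/-- For a faithful irreducible representation the central character is injective. -/
theorem centralHom_injective (ρ : Representation ℂ G V) [ρ.IsIrreducible]
    (hinj : Function.Injective ρ) : Function.Injective (centralHom ρ) := by
  intro a b hab
  apply Subtype.ext
  apply hinj
  rw [rho_central ρ a, rho_central ρ b, hab]

/-- The centre of a finite group with a faithful irreducible representation is cyclic. -/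
theorem isCyclic_center_of_faithful [Finite G] (ρ : Representation ℂ G V) [ρ.IsIrreducible]
    (hinj : Function.Injective ρ) : IsCyclic (Subgroup.center G) :=
  isCyclic_of_injective_ringHom (centralHom ρ) (centralHom_injective ρ hinj)

end Center

end Cfsg.Agent.Lib.Helper1
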