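import Mathlib

set_option autoImplicit false

namespace Cfsg.Agent.Lib.Helper1

open MulAction

/-- Summing an invariant function over a finite set acted on by a group: group by orbits. -/
theorem sum_eq_sum_orbits {Γ X : Type*} [Group Γ] [MulAction Γ X] [Fintype X]
    {M : Type*} [AddCommMonoid M] (F : X → M) (hF : ∀ (γ : Γ) (x : X), F (γ • x) = F x)
    [Fintype (orbitRel.Quotient Γ X)] :
    ∑ x, F x = ∑ q : orbitRel.Quotient Γ X, Nat.card (orbit Γ q.out) • F q.out := by
  classical
  rw [← Finset.sum_fiberwise Finset.univ (fun x : X => (Quotient.mk'' x : orbitRel.Quotient Γ X)) F]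
  refine Finset.sum_congr rfl fun q _ => ?_
  have h1 : ∀ x ∈ Finset.univ.filter (fun x : X => (Quotient.mk'' x : orbitRel.Quotient Γ X) = q),
      F x = F q.out := by
    intro x hx
    rw [Finset.mem_filter] at hx
    have h2 : (Quotient.mk'' x : orbitRel.Quotient Γ X) = Quotient.mk'' q.out := by
      rw [hx.2, Quotient.out_eq']
    rw [Quotient.eq'', orbitRel_apply, mem_orbit_iff] at h2
    obtain ⟨γ, hγ⟩ := h2
    rw [← hγ, hF]
  rw [Finset.sum_congr rfl h1, Finset.sum_const]
  congr 1
  rw [Nat.card_eq_fintype_card, Fintype.card_subtype]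
  congr 1
  ext x
  simp only [Finset.mem_filter, Finset.mem_univ, true_and]
  rw [← orbitRel_apply, ← Quotient.eq'', Quotient.out_eq']

end Cfsg.Agent.Lib.Helper1
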