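import Mathlib
import Cfsg.Prelude.Def_Characters
import Cfsg.Prelude.Def_Blocks
import Cfsg.Prelude.Def_BlockRank
import Cfsg.Prelude.Def_BrauerPairs
import Cfsg.Agent.Lib.Helper8.BPS0
import Cfsg.Agent.Lib.Helper8.PairConj2
import Cfsg.Agent.Lib.Helper8.PairStabConj
import Cfsg.Agent.Lib.Helper8.BlockPairs6
import Cfsg.Agent.S4658

/-!
# The weight of a subsection below a conjugate of a Brauer pair
-/

set_option autoImplicit false
set_option linter.unusedSectionVars false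

namespace Cfsg.Agent.Lib.Helper1.BPW

open Cfsg Cfsg.Agent.Lib.Helper8 Cfsg.Agent.Lib.Helper8.BPS
open scoped ComplexConjugate

universe u

variable {M : Ideal AlgInt} {p : ℕ} {G : Type u} [Group G] [Fintype G] [DecidableEq G]

/-- transport of `IsBrauerPairOf` along an equality of pairs -/
theorem isBrauerPairOf_of_eq {B : Set (IrrCharacter G)} {a b : BrauerPairIdx G} (h : a = b)
    (ha : IsBrauerPairOf p M B a.1 a.2) : IsBrauerPairOf p M B b.1 b.2 := by
  subst h
  exact ha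

theorem starWeight_eq_of_subpairLE [Fact p.Prime] (hM : IsPModular p M) {B : Set (IrrCharacter G)}
    {D : Subgroup G} {eD : Set (IrrCharacter ↥(Subgroup.centralizer (D : Set G)))}
    (hmax : IsMaximalBrauerPair p M B D eD) {η : D → ℂ} {w : StarWeight G}
    (hw : IsStarWeight p M B D eD η w) {R : Subgroup G}
    {e : Set (IrrCharacter ↥(Subgroup.centralizer (R : Set G)))}
    (hRe : IsBrauerPairOf p M B R e) {g : G}
    (hg : SubpairLE p M (R.map (MulAut.conj g).toMonoidHom) (conjBlock R g e) D eD)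
    {u y : G} (hu : ∃ k : ℕ, orderOf u = p ^ k) (hy : y⁻¹ * u * y ∈ R)
    {b : Set (IrrCharacter ↥(cent u))}
    (hb : SubpairLE p M (Subgroup.zpowers u) b (R.map (MulAut.conj y).toMonoidHom)
      (conjBlock R y e)) :
    IsBrauerPairOf p M B (Subgroup.zpowers u) b ∧
      ∃ h : g * (y⁻¹ * u * y) * g⁻¹ ∈ D, w u b = η ⟨g * (y⁻¹ * u * y) * g⁻¹, h⟩ := by
  have hRy : IsBrauerPairOf p M B (R.map (MulAut.conj y).toMonoidHom) (conjBlock R y e) :=
    isBrauerPairOf_conj y hRe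
  have hub0 : IsBrauerPair p M (Subgroup.zpowers u) b :=
    subpairRel_isBrauerPair (a := ⟨Subgroup.zpowers u, b⟩)
      (b := ⟨R.map (MulAut.conj y).toMonoidHom, conjBlock R y e⟩) hb hRy.1
  have hub : IsBrauerPairOf p M B (Subgroup.zpowers u) b :=
    (Cfsg.Agent.S4658.result p M hM _ _ _ _ hRy.1 hub0 hb B hRy.2.1).mp hRy
  refine ⟨hub, ?_⟩
  have h1 : Relation.ReflTransGen (NormalSubpairRel p M)
      (pairConj (g * y⁻¹) ⟨Subgroup.zpowers u, b⟩)
      (pairConj (g * y⁻¹) ⟨R.map (MulAut.conj y).toMonoidHom, conjBlock R y e⟩) :=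
    subpairRel_pairConj (g * y⁻¹) hb
  have h2 : pairConj (g * y⁻¹) ⟨R.map (MulAut.conj y).toMonoidHom, conjBlock R y e⟩ =
      pairConj g ⟨R, e⟩ := by
    have h := pairConj_mul (g * y⁻¹) y (⟨R, e⟩ : BrauerPairIdx G)
    rw [inv_mul_cancel_right] at h
    exact h.symm
  rw [h2] at h1
  have h3 : SubpairLE p M ((Subgroup.zpowers u).map (MulAut.conj (g * y⁻¹)).toMonoidHom)
      (conjBlock (Subgroup.zpowers u) (g * y⁻¹) b) D eD := h1.trans hg
  have hmem : (g * y⁻¹) * u * (g * y⁻¹)⁻¹ ∈ D := by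
    apply subpairLE_le h3
    exact ⟨u, Subgroup.mem_zpowers u, rfl⟩
  have hw' := hw u b hu hub (g * y⁻¹) hmem h3
  have heq : g * (y⁻¹ * u * y) * g⁻¹ = (g * y⁻¹) * u * (g * y⁻¹)⁻¹ := by group
  refine ⟨heq ▸ hmem, ?_⟩
  rw [hw']
  congr 1
  exact Subtype.ext heq.symm

theorem not_isBrauerPairOf_of_subpairLE [Fact p.Prime] (hM : IsPModular p M)
    {B : Set (IrrCharacter G)} (hB : IsPBlock M B) {R : Subgroup G}
    {e : Set (IrrCharacter ↥(Subgroup.centralizer (R : Set G)))} (hRe : IsBrauerPair p M R e)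
    (hnot : ¬ IsBrauerPairOf p M B R e) {u y : G} {b : Set (IrrCharacter ↥(cent u))}
    (hb : SubpairLE p M (Subgroup.zpowers u) b (R.map (MulAut.conj y).toMonoidHom)
      (conjBlock R y e)) :
    ¬ IsBrauerPairOf p M B (Subgroup.zpowers u) b := by
  intro hub
  apply hnot
  have hRy0 : IsBrauerPair p M (R.map (MulAut.conj y).toMonoidHom) (conjBlock R y e) :=
    isBrauerPair_conj y hRe
  have hRy : IsBrauerPairOf p M B (R.map (MulAut.conj y).toMonoidHom) (conjBlock R y e) :=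
    (Cfsg.Agent.S4658.result p M hM _ _ _ _ hRy0 hub.1 hb B hB).mpr hub
  have hback := isBrauerPairOf_conj y⁻¹ hRy
  have h2 : pairConj y⁻¹ (pairConj y (⟨R, e⟩ : BrauerPairIdx G)) = ⟨R, e⟩ := by
    rw [← pairConj_mul, inv_mul_cancel, pairConj_one]
  exact isBrauerPairOf_of_eq h2 hback

end Cfsg.Agent.Lib.Helper1.BPW
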