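import Mathlib

set_option autoImplicit false

namespace Cfsg.Agent.Lib.Helper1

open Polynomial

section Cyclo

variable (n : ℕ) [NeZero n] {K : Type*} [Field K] [CharZero K] [IsCyclotomicExtension {n} ℚ K]
  (ι : K →+* ℂ)

/-- Every complex `n`-th root of unity comes from the cyclotomic field. -/
theorem exists_preimage_of_pow_eq_one (c : ℂ) (hc : c ^ n = 1) :
    ∃ z : K, z ^ n = 1 ∧ ι z = c := by
  have hζ := IsCyclotomicExtension.zeta_spec n ℚ K
  have hζ' : IsPrimitiveRoot (ι (IsCyclotomicExtension.zeta n ℚ K)) n :=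
    hζ.map_of_injective ι.injective
  obtain ⟨i, _, hi⟩ := hζ'.eq_pow_of_pow_eq_one hc
  refine ⟨IsCyclotomicExtension.zeta n ℚ K ^ i, ?_, ?_⟩
  · rw [← pow_mul, mul_comm, pow_mul, hζ.pow_eq_one, one_pow]
  · rw [map_pow, hi]

/-- Every automorphism of the cyclotomic field raises roots of unity to a fixed power coprime
to `n`. -/
theorem aut_pow (σ : K ≃ₐ[ℚ] K) :
    ∃ k : ℕ, k.Coprime n ∧ ∀ z : K, z ^ n = 1 → σ z = z ^ k := by
  have hζ := IsCyclotomicExtension.zeta_spec n ℚ K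
  set ζ := IsCyclotomicExtension.zeta n ℚ K with hζdef
  have hσζ : IsPrimitiveRoot (σ ζ) n := hζ.map_of_injective σ.injective
  obtain ⟨k, _, hk⟩ := hζ.eq_pow_of_pow_eq_one hσζ.pow_eq_one
  refine ⟨k, ?_, ?_⟩
  · rw [← hζ.pow_iff_coprime (NeZero.pos n), hk]
    exact hσζ
  · intro z hz
    obtain ⟨i, _, rfl⟩ := hζ.eq_pow_of_pow_eq_one hz
    rw [map_pow, ← hk, ← pow_mul, ← pow_mul, mul_comm]

/-- Every power map coprime to `n` is realised by an automorphism. -/
theorem exists_aut_pow (k : ℕ) (hk : k.Coprime n) :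
    ∃ σ : K ≃ₐ[ℚ] K, ∀ z : K, z ^ n = 1 → σ z = z ^ k := by
  have hζ := IsCyclotomicExtension.zeta_spec n ℚ K
  have hμ := hζ.pow_of_coprime k hk
  have hirr : Irreducible (cyclotomic n ℚ) := cyclotomic.irreducible_rat (NeZero.pos n)
  refine ⟨IsCyclotomicExtension.fromZetaAut hμ hirr, ?_⟩
  intro z hz
  obtain ⟨i, _, rfl⟩ := hζ.eq_pow_of_pow_eq_one hz
  rw [map_pow, IsCyclotomicExtension.fromZetaAut_spec, ← pow_mul, ← pow_mul, mul_comm]

include n in
/-- The product of the absolute values of the conjugates of a nonzero algebraic integer is at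
least one. -/
theorem one_le_prod_norm [Fintype (K ≃ₐ[ℚ] K)] (x : K) (hx : IsIntegral ℤ x) (hx0 : x ≠ 0) :
    1 ≤ ∏ σ : K ≃ₐ[ℚ] K, ‖ι (σ x)‖ := by
  have hfd : FiniteDimensional ℚ K := IsCyclotomicExtension.finiteDimensional {n} ℚ K
  have hgal : IsGalois ℚ K := IsCyclotomicExtension.isGalois {n} ℚ K
  have h1 := Algebra.norm_eq_prod_automorphisms ℚ x
  have h2 : IsIntegral ℤ (Algebra.norm ℚ x) := Algebra.isIntegral_norm ℚ hx
  obtain ⟨m, hm⟩ := IsIntegrallyClosed.isIntegral_iff.1 h2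
  have hm0 : m ≠ 0 := by
    rintro rfl
    have : Algebra.norm ℚ x = 0 := by rw [← hm]; simp
    exact hx0 (Algebra.norm_eq_zero_iff.1 this)
  have h3 : ι (algebraMap ℚ K (Algebra.norm ℚ x)) = ∏ σ : K ≃ₐ[ℚ] K, ι (σ x) := by
    rw [h1, map_prod]
    refine Finset.prod_congr ?_ fun σ _ => rfl
    ext σ; simp
  have h4 : ι (algebraMap ℚ K (Algebra.norm ℚ x)) = (m : ℂ) := by
    rw [← hm]
    simp
  rw [h4] at h3
  rw [← norm_prod, ← h3]
  have : (1 : ℝ) ≤ |(m : ℝ)| := by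
    have : (1 : ℤ) ≤ |m| := Int.one_le_abs hm0
    exact_mod_cast this
  simpa using this

end Cyclo

end Cfsg.Agent.Lib.Helper1
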