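import Mathlib
import Cfsg.Prelude.Def_Characters
import Cfsg.Agent.Lib.Helper4.Characters
import Cfsg.Agent.Lib.Helper1.CharFound8
import Cfsg.Agent.Lib.Helper1.LinearChar
import Cfsg.Agent.Lib.Helper1.CycloGalois
import Cfsg.Agent.S0148
import Cfsg.Agent.S0187

set_option autoImplicit false

namespace Cfsg.Agent.Lib.Helper1

open Polynomial
open Cfsg.Agent.Lib.Helper4

section CycloChar

variable (n : ℕ) [NeZero n] {K : Type*} [Field K] [CharZero K] [IsCyclotomicExtension {n} ℚ K]
  (ι : K →+* ℂ)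

/-- Power sums: the values of a character on the powers of `g` are power sums of roots of
unity with natural multiplicities. -/
theorem character_pow_eq_sum {G : Type*} [Group G] [Finite G] {χ : G → ℂ}
    (hχ : Cfsg.IsCharacter G χ) (g : G) :
    ∃ (ι' : Type) (_ : Fintype ι') (m : ι' → ℕ) (c : ι' → ℂ),
      (∀ j, c j ^ orderOf g = 1) ∧ ∀ k : ℕ, χ (g ^ k) = ∑ j, (m j : ℂ) * c j ^ k := by
  classical
  set C := Subgroup.zpowers g with hC
  have : Fintype C := Fintype.ofFinite C
  have : Fintype (Cfsg.IrrCharacter C) := Fintype.ofFinite _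
  have hχC : Cfsg.IsCharacter C (fun h : C => χ h) := Cfsg.Agent.S0148.isCharacter_restrict C hχ
  have hexp := class_function_expansion _ (isClassFunction_of_isCharacter hχC)
  have hm : ∀ ψ : Cfsg.IrrCharacter C, ∃ m : ℕ, Cfsg.classInner (fun h : C => χ h) ψ = m :=
    fun ψ => classInner_char_irr_nat hχC ψ.2
  choose m hm using hm
  have hcomm : ∀ a b : C, a * b = b * a := fun a b => (IsMulCommutative.is_comm (M := C)).comm a b
  have hlin := (Cfsg.Agent.S0187.result (G := C)).1 hcomm
  have hφ : ∀ ψ : Cfsg.IrrCharacter C, ∃ φ : C →* ℂˣ, (ψ : C → ℂ) = fun h => (φ h : ℂ) :=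
    fun ψ => exists_hom_of_isIrrCharacter ψ.2 (hlin ψ)
  choose φ hφ using hφ
  let gC : C := ⟨g, Subgroup.mem_zpowers g⟩
  let e := Fintype.equivFin (Cfsg.IrrCharacter C)
  refine ⟨Fin (Fintype.card (Cfsg.IrrCharacter C)), inferInstance, fun j => m (e.symm j),
    fun j => (φ (e.symm j) gC : ℂ), ?_, ?_⟩
  · intro j
    rw [← Units.val_pow_eq_pow_val, ← map_pow]
    have : gC ^ orderOf g = 1 := by
      apply Subtype.ext
      simp [gC, pow_orderOf_eq_one]
    rw [this, map_one, Units.val_one]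
  · intro k
    have h1 := congrFun hexp (gC ^ k)
    rw [Finset.sum_apply] at h1
    have h2 : ((gC ^ k : C) : G) = g ^ k := by simp [gC]
    rw [h2] at h1
    rw [h1, ← Equiv.sum_comp e.symm]
    refine Finset.sum_congr rfl fun j _ => ?_
    rw [Pi.smul_apply, smul_eq_mul, hm, hφ (e.symm j)]
    simp only [map_pow, Units.val_pow_eq_pow_val]

/-- The values of a character on the powers of an element with `g ^ n = 1` are the images of
the Galois conjugates of a single algebraic integer of the `n`-th cyclotomic field. -/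
theorem exists_cyclo_of_character {G : Type*} [Group G] [Finite G] {χ : G → ℂ}
    (hχ : Cfsg.IsCharacter G χ) (g : G) (hg : g ^ n = 1) :
    ∃ x : K, IsIntegral ℤ x ∧ ∀ (σ : K ≃ₐ[ℚ] K) (k : ℕ),
      (∀ z : K, z ^ n = 1 → σ z = z ^ k) → ι (σ x) = χ (g ^ k) := by
  classical
  obtain ⟨ι', _, m, c, hc, hsum⟩ := character_pow_eq_sum hχ g
  have hdvd : orderOf g ∣ n := orderOf_dvd_of_pow_eq_one hg
  have hc' : ∀ j, c j ^ n = 1 := by
    intro j
    obtain ⟨d, rfl⟩ := hdvd
    rw [pow_mul, hc j, one_pow]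
  have hz : ∀ j, ∃ z : K, z ^ n = 1 ∧ ι z = c j := fun j => exists_preimage_of_pow_eq_one n ι _ (hc' j)
  choose z hz1 hz2 using hz
  refine ⟨∑ j, (m j : K) * z j, ?_, ?_⟩
  · refine IsIntegral.sum _ fun j _ => IsIntegral.mul ?_ ?_
    · exact isIntegral_algebraMap (R := ℤ) (x := (m j : ℤ)) |> fun h => by simpa using h
    · exact IsIntegral.of_pow (NeZero.pos n) (by rw [hz1 j]; exact isIntegral_one)
  · intro σ k hσ
    rw [hsum k, map_sum, map_sum]
    refine Finset.sum_congr rfl fun j _ => ?_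
    rw [map_mul, map_mul, map_natCast, map_natCast, hσ (z j) (hz1 j), map_pow, hz2 j]

end CycloChar

end Cfsg.Agent.Lib.Helper1
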