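import Mathlib
import Cfsg.Prelude.Def_Characters
import Cfsg.Agent.Lib.Helper4.Characters
import Cfsg.Agent.Lib.Helper4.CharTools
import Cfsg.Agent.Lib.Helper1.CycloChar
import Cfsg.Agent.Lib.Helper1.LinearChar
import Cfsg.Agent.Lib.Helper1.CharFound7
import Cfsg.Agent.S0139
import Cfsg.Agent.S0188

/-!
# Simple groups of order 7920: generic character lemmas (part a)

Sums of a character over a cyclic subgroup, kernels of characters in simple groups, linear
characters of perfect groups.
-/

set_option autoImplicit false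

namespace Cfsg.Agent.Lib.Helper1.O7920

open Cfsg Cfsg.Agent.Lib.Helper1 Cfsg.Agent.Lib.Helper4
open scoped ComplexConjugate

universe u

section Cyc

variable {G : Type u} [Group G] [Finite G]

/-- the geometric sum of a root of unity -/
theorem geom_sum_root {c : ℂ} {n : ℕ} (hc : c ^ n = 1) :
    ∑ k ∈ Finset.range n, c ^ k = if c = 1 then (n : ℂ) else 0 := by
  by_cases h : c = 1
  · rw [if_pos h, h]
    simp
  · rw [if_neg h, geom_sum_eq h, hc, sub_self, zero_div]

/-- The sum of a character over the powers of an element is the order times the multiplicity of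
the eigenvalue one. -/
theorem cyc_sum {χ : G → ℂ} (hχ : IsCharacter G χ) (g : G) :
    ∃ a d : ℕ, ∑ k ∈ Finset.range (orderOf g), χ (g ^ k) = (orderOf g : ℂ) * a ∧ χ 1 = d ∧
      a ≤ d ∧ (a = d → χ g = χ 1) := by
  classical
  obtain ⟨ι', _, m, c, hc, hsum⟩ := character_pow_eq_sum hχ g
  refine ⟨∑ j ∈ Finset.univ.filter (fun j => c j = 1), m j, ∑ j, m j, ?_, ?_, ?_, ?_⟩
  · rw [Finset.sum_congr rfl (fun k _ => hsum k), Finset.sum_comm]
    have h1 : ∀ j, ∑ k ∈ Finset.range (orderOf g), (m j : ℂ) * c j ^ k =
        if c j = 1 then (orderOf g : ℂ) * m j else 0 := by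
      intro j
      rw [← Finset.mul_sum, geom_sum_root (hc j)]
      split_ifs
      · ring
      · ring
    rw [Finset.sum_congr rfl (fun j _ => h1 j), ← Finset.sum_filter, Nat.cast_sum, Finset.mul_sum]
  · have h0 := hsum 0
    rw [pow_zero] at h0
    rw [h0, Nat.cast_sum]
    refine Finset.sum_congr rfl fun j _ => ?_
    rw [pow_zero, mul_one]
  · exact Finset.sum_le_sum_of_subset (Finset.filter_subset _ _)
  · intro h
    have h2 : ∀ j, c j ≠ 1 → m j = 0 := by
      intro j hj
      by_contra hm
      have hlt : ∑ j ∈ Finset.univ.filter (fun j => c j = 1), m j < ∑ j, m j := by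
        apply Finset.sum_lt_sum_of_subset (Finset.filter_subset _ _) (Finset.mem_univ j)
        · rw [Finset.mem_filter]
          exact fun h' => hj h'.2
        · exact Nat.pos_of_ne_zero hm
        · intro _ _ _
          exact Nat.zero_le _
      omega
    have h1 := hsum 1
    have h0 := hsum 0
    rw [pow_one] at h1
    rw [pow_zero] at h0
    rw [h1, h0]
    refine Finset.sum_congr rfl fun j _ => ?_
    by_cases hj : c j = 1
    · rw [hj, one_pow, one_pow]
    · rw [h2 j hj]
      simp

end Cyc

section Ker

variable {G : Type u} [Group G] [Finite G]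

/-- the kernel of a character is a normal subgroup -/
theorem exists_ker {χ : G → ℂ} (hχ : IsCharacter G χ) :
    ∃ L : Subgroup G, L.Normal ∧ ∀ g : G, g ∈ L ↔ χ g = χ 1 := by
  obtain ⟨n, ρ, rfl⟩ := hχ
  refine ⟨MonoidHom.ker ρ, MonoidHom.normal_ker ρ, ?_⟩
  intro g
  rw [MonoidHom.mem_ker, Representation.char_one]
  have := Cfsg.Agent.S0139.result ρ g
  rw [this]
  rfl

/-- in a simple group, a character taking its degree at a non-identity element is constant -/
theorem const_of_apply_eq [IsSimpleGroup G] {χ : G → ℂ} (hχ : IsCharacter G χ) {y : G}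
    (hy : y ≠ 1) (h : χ y = χ 1) (g : G) : χ g = χ 1 := by
  obtain ⟨L, hL, hmem⟩ := exists_ker hχ
  rcases hL.eq_bot_or_eq_top with h1 | h1
  · have : y ∈ L := (hmem y).2 h
    rw [h1, Subgroup.mem_bot] at this
    exact absurd this hy
  · rw [← hmem, h1]
    exact Subgroup.mem_top g

omit [Finite G] in
theorem isCharacter_mul {φ ψ : G → ℂ} (hφ : IsCharacter G φ) (hψ : IsCharacter G ψ) :
    IsCharacter G (fun g => φ g * ψ g) := by
  have h1 := Cfsg.Agent.S0188.isCharacter_prod hφ hψ
  exact isCharacter_comp_hom h1 (MonoidHom.prod (MonoidHom.id G) (MonoidHom.id G))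

end Ker

section Simple

variable {G : Type u} [Group G] [Fintype G]

/-- In a simple group, an irreducible character of degree at least two whose value at `y` has
square the square of the degree forces `y = 1`. -/
theorem eq_one_of_sq_eq [IsSimpleGroup G] {χ : G → ℂ} (hχ : IsIrrCharacter G χ) {d : ℕ}
    (hd : χ 1 = d) (hd2 : 2 ≤ d) {y : G} (h : χ y * χ y = χ 1 * χ 1) : y = 1 := by
  by_contra hy
  have hc := isCharacter_of_irr hχ
  have hsq := isCharacter_mul hc hc
  have hconst := const_of_apply_eq hsq hy h
  have h1 := sum_norm_sq_irr hχ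
  have h2 : ∀ g : G, ‖χ g‖ ^ 2 = (d : ℝ) ^ 2 := by
    intro g
    have h3 : χ g * χ g = χ 1 * χ 1 := hconst g
    have h4 : ‖χ g * χ g‖ = ‖χ 1 * χ 1‖ := by rw [h3]
    rw [norm_mul, norm_mul, hd, Complex.norm_natCast] at h4
    rw [sq, sq]
    exact h4
  rw [Finset.sum_congr rfl (fun g _ => h2 g), Finset.sum_const, Finset.card_univ, nsmul_eq_mul,
    Nat.card_eq_fintype_card] at h1
  have hG : (0 : ℝ) < Fintype.card G := by exact_mod_cast Fintype.card_pos
  have h5 : ((d : ℝ)) ^ 2 = 1 := by
    have := mul_right_cancel₀ hG.ne' (show (d : ℝ) ^ 2 * (Fintype.card G : ℝ) =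
      1 * (Fintype.card G : ℝ) by rw [one_mul, mul_comm]; exact h1)
    exact this
  have h6 : (2 : ℝ) ≤ d := by exact_mod_cast hd2
  nlinarith

omit [Fintype G] in
/-- the commutator subgroup of a simple group that is not of prime order is everything -/
theorem commutator_eq_top [IsSimpleGroup G] (hnp : ¬ (Nat.card G).Prime) :
    commutator G = ⊤ := by
  rcases (inferInstance : (commutator G).Normal).eq_bot_or_eq_top with h | h
  · exfalso
    have hcomm : ∀ a b : G, a * b = b * a := by
      intro a b
      have : a * b * a⁻¹ * b⁻¹ ∈ commutator G := by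
        have h' := Subgroup.commutator_mem_commutator (Subgroup.mem_top a) (Subgroup.mem_top b)
        rw [commutatorElement_def] at h'
        exact h'
      rw [h, Subgroup.mem_bot] at this
      calc a * b = (a * b * a⁻¹ * b⁻¹) * (b * a) := by group
        _ = b * a := by rw [this, one_mul]
    let _ : CommGroup G := { (inferInstance : Group G) with mul_comm := hcomm }
    exact hnp (IsSimpleGroup.prime_card (α := G))
  · exact h

omit [Fintype G] in
/-- an irreducible character of degree one of a perfect group is trivial -/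
theorem linear_eq_one (hperf : commutator G = ⊤) {χ : G → ℂ} (hχ : IsIrrCharacter G χ)
    (h1 : χ 1 = 1) (g : G) : χ g = 1 := by
  obtain ⟨f, rfl⟩ := exists_hom_of_isIrrCharacter hχ h1
  have h2 : commutator G ≤ f.ker := by
    rw [commutator_def, Subgroup.commutator_le]
    intro a _ b _
    rw [MonoidHom.mem_ker, map_commutatorElement]
    exact commutatorElement_eq_one_iff_commute.2 (Commute.all _ _)
  have : f g = 1 := by
    apply h2
    rw [hperf]
    exact Subgroup.mem_top g
  show ((f g : ℂˣ) : ℂ) = 1
  rw [this, Units.val_one]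

end Simple

end Cfsg.Agent.Lib.Helper1.O7920
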