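import Mathlib
import Cfsg.Prelude.Def_Blocks
import Cfsg.Prelude.Def_BlockRank
import Cfsg.Agent.Lib.Helper8.Sub10
import Cfsg.Agent.Lib.Helper8.KR6
import Cfsg.Agent.Lib.Helper8.BlockUnion
import Cfsg.Agent.Lib.Helper8.BlockFirstMain3
import Cfsg.Agent.Lib.Helper8.PairFull
import Cfsg.Agent.Lib.Helper1.CharFound5
import Cfsg.Agent.Lib.Helper1.CharFound8
import Cfsg.Agent.Lib.Helper1.ConjCount
import Cfsg.Agent.S4733

/-!
# Counting glue for the blocks of defect one (pieces H2, H3, H4 for helper8)
-/

set_option autoImplicit false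

namespace Cfsg.Agent.Lib.Helper1

open Cfsg Cfsg.Agent.Lib.Helper8
open scoped ComplexConjugate
open scoped Pointwise

universe u

namespace D1H

section

variable {G : Type u} [Group G] [Fintype G]

/-- the sum of a class function against the centralizer orders, class by class -/
theorem sum_card_centralizer_mul [Fintype (ConjClasses G)] (f : G → ℂ)
    (hf : ∀ x y : G, IsConj x y → f x = f y) :
    ∑ x : G, (Nat.card (Subgroup.centralizer ({x} : Set G)) : ℂ) * f x =
      (Nat.card G : ℂ) * ∑ c : ConjClasses G, f (Quotient.out c) := by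
  classical
  rw [← Finset.sum_fiberwise (Finset.univ : Finset G) (ConjClasses.mk : G → ConjClasses G),
    Finset.mul_sum]
  refine Finset.sum_congr rfl fun c _ => ?_
  have hc : ConjClasses.mk (Quotient.out c) = c := Quotient.out_eq c
  set r : G := Quotient.out c with hr
  have h1 : ∀ x ∈ Finset.univ.filter (fun x : G => ConjClasses.mk x = c),
      (Nat.card (Subgroup.centralizer ({x} : Set G)) : ℂ) * f x =
        (Nat.card (Subgroup.centralizer ({r} : Set G)) : ℂ) * f r := by
    intro x hx
    rw [Finset.mem_filter] at hx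
    have hxr : IsConj x r := by
      rw [← ConjClasses.mk_eq_mk_iff_isConj, hx.2, hc]
    rw [card_centralizer_eq_of_isConj hxr, hf x r hxr]
  rw [Finset.sum_congr rfl h1, Finset.sum_const, nsmul_eq_mul, ← mul_assoc]
  congr 1
  have h2 := card_isConj_mul_card_centralizer r
  have h3 : (Finset.univ.filter (fun x : G => ConjClasses.mk x = c)).card =
      Nat.card {v : G // IsConj r v} := by
    rw [Nat.card_eq_fintype_card, Fintype.card_subtype]
    congr 1
    ext x
    simp only [Finset.mem_filter, Finset.mem_univ, true_and]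
    rw [← hc, ConjClasses.mk_eq_mk_iff_isConj, isConj_comm]
  rw [h3, ← h2]
  push_cast
  ring

omit [Fintype G] in
theorem orderOf_eq_of_isConj {x y : G} (h : IsConj x y) : orderOf x = orderOf y := by
  obtain ⟨c, rfl⟩ := isConj_iff.1 h
  have := (MulAut.conj c).orderOf_eq x
  rw [MulAut.conj_apply] at this
  exact this.symm

omit [Fintype G] in
/-- the union of all blocks is everything -/
theorem unionOf_isPBlock {M : Ideal AlgInt} (hM : M.IsPrime) :
    KR.unionOf (G := G) (IsPBlock M) = Set.univ := by
  ext χ
  simp only [Set.mem_univ, iff_true]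
  exact ⟨blockOf M (χ : G → ℂ), sameBlock_refl hM.ne_top _, χ, rfl⟩

/-- the sum of all the `p`-regular ranks of the blocks is the rank of the full character table on
the `p`-regular classes -/
theorem sum_blockRank {M : Ideal AlgInt} {p : ℕ} [Fact p.Prime] (hM : IsPModular p M) :
    ∑ B ∈ blocksFinset M G, blockRank p B = blockRank p (Set.univ : Set (IrrCharacter G)) := by
  classical
  have hMp := isPModular_isPrime hM
  have h1 := KR.blockRank_unionOf (G := G) hM (P := IsPBlock M) (fun β h => h)
  rw [unionOf_isPBlock hMp] at h1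
  rw [h1]
  have hfin : ({β | IsPBlock M β} : Set (Set (IrrCharacter G))).Finite :=
    finite_setOf_isPBlock (M := M)
  rw [finsum_mem_eq_finite_toFinset_sum _ hfin]
  apply Finset.sum_congr _ (fun _ _ => rfl)
  ext β
  rw [mem_blocksFinset, Set.Finite.mem_toFinset]
  rfl

end

/-- two subgroups of order `p` of a group whose order is not divisible by `p²` are conjugate -/
theorem exists_conj_of_card_eq {G : Type u} [Group G] [Finite G] {p : ℕ} [Fact p.Prime]
    (hsq : ¬ p ^ 2 ∣ Nat.card G) {D E : Subgroup G} (hD : Nat.card D = p) (hE : Nat.card E = p) :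
    ∃ g : G, E = D.map (MulAut.conj g).toMonoidHom := by
  have hp : p.Prime := Fact.out
  have hdvd : p ∣ Nat.card G := hD ▸ Subgroup.card_subgroup_dvd_card D
  have hG0 : Nat.card G ≠ 0 := Nat.card_pos.ne'
  have hfac : (Nat.card G).factorization p = 1 := by
    have h1 : 1 ≤ (Nat.card G).factorization p :=
      (hp.dvd_iff_one_le_factorization hG0).1 hdvd
    have h2 : ¬ 2 ≤ (Nat.card G).factorization p := by
      intro h2
      exact hsq ((hp.pow_dvd_iff_le_factorization hG0).2 h2)
    omega
  let P : Sylow p G := Sylow.ofCard D (by rw [hD, hfac, pow_one])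
  let Q : Sylow p G := Sylow.ofCard E (by rw [hE, hfac, pow_one])
  obtain ⟨g, hg⟩ := MulAction.exists_smul_eq G P Q
  refine ⟨g, ?_⟩
  have h3 : (Q : Subgroup G) = MulAut.conj g • (P : Subgroup G) := by
    rw [← hg]
    rfl
  have hP : (P : Subgroup G) = D := rfl
  have hQ : (Q : Subgroup G) = E := rfl
  rw [hP, hQ] at h3
  rw [h3]
  ext y
  rw [Subgroup.mem_map]
  constructor
  · intro hy
    rw [Subgroup.mem_pointwise_smul_iff_inv_smul_mem] at hy
    refine ⟨_, hy, ?_⟩
    simp only [MulAut.smul_def, MulEquiv.coe_toMonoidHom, MulAut.conj_apply, MulAut.conj_inv_apply]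
    group
  · rintro ⟨z, hz, rfl⟩
    rw [Subgroup.mem_pointwise_smul_iff_inv_smul_mem]
    have h4 : (MulAut.conj g)⁻¹ • ((MulAut.conj g).toMonoidHom z) = z := by
      simp only [MulAut.smul_def, MulEquiv.coe_toMonoidHom, MulAut.conj_apply,
        MulAut.conj_inv_apply]
      group
    rw [h4]
    exact hz

end D1H

/-- (H2) the number of `p`-regular classes is the sum of the ranks of the blocks. -/
theorem d1h_exists_reps {G : Type u} [Group G] [Fintype G] {M : Ideal AlgInt} {p : ℕ}
    [Fact p.Prime] (hM : IsPModular p M) :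
    ∃ R : Finset G, (∀ g : G, ¬ p ∣ orderOf g → ∃ r ∈ R, IsConj g r) ∧
      R.card = ∑ B ∈ blocksFinset M G, blockRank p B := by
  classical
  have : Fintype (IrrCharacter G) := Fintype.ofFinite _
  have hMp := isPModular_isPrime hM
  have hG0 : (Nat.card G : ℂ) ≠ 0 := Nat.cast_ne_zero.2 Nat.card_pos.ne'
  let Cp : Finset (ConjClasses G) :=
    Finset.univ.filter (fun c => ¬ p ∣ orderOf (Quotient.out c))
  have hout : Function.Injective (fun c : ConjClasses G => (Quotient.out c : G)) :=
    Quotient.out_injective
  refine ⟨Cp.image (fun c : ConjClasses G => (Quotient.out c : G)), ?_, ?_⟩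
  · intro g hg
    have hconj : IsConj g (Quotient.out (ConjClasses.mk g)) := by
      rw [← ConjClasses.mk_eq_mk_iff_isConj]
      exact (Quotient.out_eq _).symm
    refine ⟨Quotient.out (ConjClasses.mk g), ?_, hconj⟩
    rw [Finset.mem_image]
    refine ⟨ConjClasses.mk g, ?_, rfl⟩
    rw [Finset.mem_filter]
    refine ⟨Finset.mem_univ _, ?_⟩
    rw [← D1H.orderOf_eq_of_isConj hconj]
    exact hg
  · rw [Finset.card_image_of_injective _ hout, D1H.sum_blockRank hM]
    apply Nat.cast_injective (R := ℂ)
    apply mul_left_cancel₀ hG0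
    rw [KR.card_mul_blockRank_closed hM (B := Set.univ) (fun _ _ ψ _ => Set.mem_univ ψ)]
    have h2 : ∀ x : G, ∑ᶠ χ ∈ (Set.univ : Set (IrrCharacter G)),
        pRegularPart p (χ : G → ℂ) x * (χ : G → ℂ) x⁻¹ =
        (Nat.card (Subgroup.centralizer ({x} : Set G)) : ℂ) *
          (if ¬ p ∣ orderOf x then (1 : ℂ) else 0) := by
      intro x
      rw [finsum_mem_univ, finsum_eq_sum_of_fintype]
      by_cases hx : p ∣ orderOf x
      · rw [if_neg (not_not.2 hx), mul_zero]
        apply Finset.sum_eq_zero
        intro χ _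
        rw [pRegularPart_of_dvd _ hx, zero_mul]
      · rw [if_pos hx, mul_one]
        have h3 := column_orthogonality x x
        have h4 : classIndicator x x = 1 := by
          unfold classIndicator
          rw [if_pos (IsConj.refl x)]
        rw [h4, mul_one] at h3
        rw [← h3]
        refine Finset.sum_congr rfl fun χ _ => ?_
        rw [pRegularPart_of_not_dvd _ hx,
          Cfsg.Agent.Lib.Helper4.isCharacter_inv (Cfsg.Agent.Lib.Helper4.isCharacter_of_irr χ.2)]
    rw [Finset.sum_congr rfl (fun x _ => h2 x)]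
    rw [D1H.sum_card_centralizer_mul (fun x => if ¬ p ∣ orderOf x then (1 : ℂ) else 0)
      (fun x y h => by rw [D1H.orderOf_eq_of_isConj h])]
    congr 1
    rw [Finset.sum_boole]
  
/-- (H3) blocks of defect zero inject into the characters of defect zero, and have rank one. -/
theorem d1h_defect_zero {G : Type u} [Group G] [Fintype G] {M : Ideal AlgInt} {p : ℕ}
    [Fact p.Prime] (hM : IsPModular p M) :
    (∀ B ∈ blocksFinset M G, blockDefect p B = 0 → blockRank p B = 1) ∧
    ((blocksFinset M G).filter (fun B => blockDefect p B = 0)).card ≤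
      Nat.card {χ : IrrCharacter G //
        MemLocalRing M ((χ : G → ℂ) 1 / (Fintype.card G : ℂ))} := by
  classical
  have : Fintype (IrrCharacter G) := Fintype.ofFinite _
  have hMp := isPModular_isPrime hM
  constructor
  · intro B hB h0
    rw [mem_blocksFinset] at hB
    exact (((Cfsg.Agent.S4733.result p M hM B hB).2.1).1 h0).2
  · have key : ∀ B ∈ (blocksFinset M G).filter (fun B => blockDefect p B = 0),
        ∃ χ : IrrCharacter G, B = {χ} ∧
          MemLocalRing M ((χ : G → ℂ) 1 / (Fintype.card G : ℂ)) := by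
      intro B hB
      rw [Finset.mem_filter, mem_blocksFinset] at hB
      obtain ⟨hB, h0⟩ := hB
      have h1 := ((((Cfsg.Agent.S4733.result p M hM B hB).2.1).1 h0)).1
      rw [Nat.card_eq_one_iff_exists] at h1
      obtain ⟨⟨χ, hχ⟩, hall⟩ := h1
      have hBs : B = {χ} := by
        ext ψ
        rw [Set.mem_singleton_iff]
        constructor
        · intro hψ
          exact congrArg Subtype.val (hall ⟨ψ, hψ⟩)
        · rintro rfl
          exact hχ
      refine ⟨χ, hBs, ?_⟩
      have h2 : blockOf M (χ : G → ℂ) = {χ} := by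
        rw [← hBs]
        exact (eq_blockOf_of_mem hMp hB hχ).symm
      have h3 := not_dvd_of_blockOf_eq_singleton hM χ h2
      obtain ⟨h4, h5⟩ := irr_apply_one_eq_charDegree χ.2
      obtain ⟨k, hk⟩ := charDegree_dvd_card χ.2
      have hk' : Nat.card G / charDegree (χ : G → ℂ) = k := by
        rw [hk]
        exact Nat.mul_div_cancel_left k h5
      rw [hk'] at h3
      have hd0 : (charDegree (χ : G → ℂ) : ℂ) ≠ 0 := Nat.cast_ne_zero.2 h5.ne'
      have hk0 : (k : ℂ) ≠ 0 := by
        intro h0'
        have : k = 0 := by exact_mod_cast h0'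
        rw [this] at h3
        exact h3 (dvd_zero p)
      have h6 : (χ : G → ℂ) 1 / (Fintype.card G : ℂ) = ((k : ℂ))⁻¹ := by
        rw [← Nat.card_eq_fintype_card, hk, h4]
        push_cast
        field_simp
      rw [h6]
      exact memLocalRing_inv_natCast hM h3
    have hsub : (blocksFinset M G).filter (fun B => blockDefect p B = 0) ⊆
        (Finset.univ.filter (fun χ : IrrCharacter G =>
          MemLocalRing M ((χ : G → ℂ) 1 / (Fintype.card G : ℂ)))).image
            (fun χ => ({χ} : Set (IrrCharacter G))) := by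
      intro B hB
      obtain ⟨χ, h1, h2⟩ := key B hB
      rw [Finset.mem_image]
      refine ⟨χ, ?_, h1.symm⟩
      rw [Finset.mem_filter]
      exact ⟨Finset.mem_univ _, h2⟩
    rw [Nat.card_eq_fintype_card, Fintype.card_subtype]
    exact (Finset.card_le_card hsub).trans Finset.card_image_le

/-- (H4) if `p²` does not divide `|G|` and `x` has order `p`, every block has defect zero or
defect group `⟨x⟩`. -/
theorem d1h_defect_zero_or {G : Type u} [Group G] [Fintype G] {M : Ideal AlgInt} {p : ℕ}
    [Fact p.Prime] (hM : IsPModular p M) {x : G} (hx : orderOf x = p)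
    (hsq : ¬ p ^ 2 ∣ Nat.card G) {B : Set (IrrCharacter G)} (hB : IsPBlock M B) :
    blockDefect p B = 0 ∨ IsDefectGroup p M B (Subgroup.zpowers x) := by
  have hMp := isPModular_isPrime hM
  obtain ⟨D, hD⟩ := exists_isDefectGroup (p := p) hMp hB
  have hcard := card_of_isDefectGroup hM hB hD
  by_cases h0 : blockDefect p B = 0
  · left; exact h0
  right
  have hdvd : p ^ blockDefect p B ∣ Nat.card G := hcard ▸ Subgroup.card_subgroup_dvd_card D
  have hd1 : blockDefect p B = 1 := by
    by_contra h1
    have h2 : 2 ≤ blockDefect p B := by omega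
    exact hsq ((pow_dvd_pow p h2).trans hdvd)
  rw [hd1, pow_one] at hcard
  have hx' : Nat.card (Subgroup.zpowers x) = p := by rw [Nat.card_zpowers, hx]
  obtain ⟨g, hg⟩ := D1H.exists_conj_of_card_eq hsq hcard hx'
  rw [hg]
  exact isDefectGroup_map_conj hD g

end Cfsg.Agent.Lib.Helper1
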