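import Mathlib
import Cfsg.Prelude.Def_Characters
import Cfsg.Agent.Lib.Helper4.Characters
import Cfsg.Agent.Lib.Helper1.CycloChar
import Cfsg.Agent.S0137

set_option autoImplicit false

namespace Cfsg.Agent.Lib.Helper1

open Polynomial
open Cfsg.Agent.Lib.Helper4

/-- The value of a character is bounded by its degree. -/
theorem isCharacter_norm_le {G : Type*} [Group G] [Finite G] {χ : G → ℂ}
    (hχ : Cfsg.IsCharacter G χ) : ∃ d : ℕ, χ 1 = d ∧ ∀ h : G, ‖χ h‖ ≤ d := by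
  obtain ⟨n, ρ, rfl⟩ := hχ
  refine ⟨n, by rw [Representation.char_one]; simp, fun h => ?_⟩
  have := Cfsg.Agent.S0137.result ρ h
  simpa using this

/-- If `χ g / χ 1` is an algebraic integer then `χ g = 0` or `|χ g| = χ 1`. -/
theorem character_eq_zero_or_norm_eq {G : Type*} [Group G] [Finite G] {χ : G → ℂ}
    (hχ : Cfsg.IsCharacter G χ) (g : G) (d : ℕ) (hd : χ 1 = d) (hd0 : d ≠ 0)
    (hint : IsIntegral ℤ (χ g / (d : ℂ))) : χ g = 0 ∨ ‖χ g‖ = d := by
  classical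
  obtain ⟨d', hd', hbound⟩ := isCharacter_norm_le hχ
  have hdd : d' = d := by
    have : (d' : ℂ) = d := by rw [← hd', hd]
    exact_mod_cast this
  subst hdd
  set N := Nat.card G with hN
  have hN0 : NeZero N := ⟨Nat.card_pos.ne'⟩
  let K := CyclotomicField N ℚ
  have hcyc : IsCyclotomicExtension {N} ℚ K :=
    CyclotomicField.instIsCyclotomicExtensionSingletonNatSetOfCharZero N ℚ
  let ι : K →+* ℂ := ((IsAlgClosed.lift : K →ₐ[ℚ] ℂ) : K →+* ℂ)
  have hgN : g ^ N = 1 := pow_card_eq_one'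
  obtain ⟨x, hxint, hx⟩ := exists_cyclo_of_character N ι hχ g hgN
  have hfd : FiniteDimensional ℚ K := IsCyclotomicExtension.finiteDimensional {N} ℚ K
  have hx1 : ι x = χ g := by
    have := hx 1 1 (fun z _ => by simp)
    simpa using this
  have hdK : (d' : K) ≠ 0 := Nat.cast_ne_zero.2 hd0
  have hdC : (d' : ℂ) ≠ 0 := Nat.cast_ne_zero.2 hd0
  set α := x / (d' : K) with hα
  have hια : ∀ σ : K ≃ₐ[ℚ] K, ι (σ α) = ι (σ x) / (d' : ℂ) := by
    intro σ
    rw [hα, map_div₀, map_div₀, map_natCast, map_natCast]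
  have hαint : IsIntegral ℤ α := by
    have h1 : IsIntegral ℤ (ι.toIntAlgHom α) := by
      change IsIntegral ℤ (ι α)
      have := hια 1
      simp only [AlgEquiv.one_apply] at this
      rw [this, hx1]
      exact hint
    exact (isIntegral_algHom_iff ι.toIntAlgHom ι.injective).1 h1
  by_cases hα0 : α = 0
  · left
    rw [← hx1]
    have : x = 0 := by
      rw [hα, div_eq_zero_iff] at hα0
      exact hα0.resolve_right hdK
    rw [this, map_zero]
  · right
    have hprod := one_le_prod_norm N ι α hαint hα0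
    have hle : ∀ σ : K ≃ₐ[ℚ] K, ‖ι (σ α)‖ ≤ 1 := by
      intro σ
      obtain ⟨k, _, hk⟩ := aut_pow N σ
      rw [hια σ, hx σ k hk, norm_div, Complex.norm_natCast]
      rw [div_le_one (by exact_mod_cast Nat.pos_of_ne_zero hd0)]
      exact hbound _
    have h1 : ∏ σ : K ≃ₐ[ℚ] K, ‖ι (σ α)‖ ≤ ‖ι ((1 : K ≃ₐ[ℚ] K) α)‖ := by
      rw [← Finset.mul_prod_erase Finset.univ _ (Finset.mem_univ (1 : K ≃ₐ[ℚ] K))]
      have h2 : ∏ σ ∈ Finset.univ.erase (1 : K ≃ₐ[ℚ] K), ‖ι (σ α)‖ ≤ 1 :=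
        Finset.prod_le_one (fun σ _ => norm_nonneg _) (fun σ _ => hle σ)
      calc ‖ι ((1 : K ≃ₐ[ℚ] K) α)‖ * ∏ σ ∈ Finset.univ.erase (1 : K ≃ₐ[ℚ] K), ‖ι (σ α)‖
          ≤ ‖ι ((1 : K ≃ₐ[ℚ] K) α)‖ * 1 := by
            exact mul_le_mul_of_nonneg_left h2 (norm_nonneg _)
        _ = _ := mul_one _
    have h3 : ‖ι ((1 : K ≃ₐ[ℚ] K) α)‖ = 1 := le_antisymm (hle 1) (hprod.trans h1)
    rw [hια 1, AlgEquiv.one_apply, hx1, norm_div, Complex.norm_natCast] at h3
    rw [div_eq_one_iff_eq (by exact_mod_cast hd0)] at h3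
    exact h3

end Cfsg.Agent.Lib.Helper1
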