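import Mathlib
import Cfsg.Prelude.Def_Blocks
import Cfsg.Prelude.Def_BlockRank
import Cfsg.Agent.Lib.Helper8.DO18
import Cfsg.Agent.Lib.Helper8.DO12
import Cfsg.Agent.Lib.Helper8.BlockPairMax
import Cfsg.Agent.Lib.Helper8.BlockUnion
import Cfsg.Agent.Lib.Helper8.TildeBlock
import Cfsg.Agent.Lib.Helper1.D1H
import Cfsg.Agent.S0187

/-!
# Simple groups of order 7920: generic block lemmas (part b)

* characters of defect zero vanish on `p`-singular elements;
* if a Sylow subgroup of prime order is self-centralizing, every irreducible character of degree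
  prime to `p` lies in the principal block.
-/

set_option autoImplicit false

namespace Cfsg.Agent.Lib.Helper1.O7920

open Cfsg Cfsg.Agent.Lib.Helper8 Cfsg.Agent.Lib.Helper1 Cfsg.Agent.Lib.Helper4

universe u

section

variable {G : Type u} [Group G] [Fintype G]

/-- a character of `p`-defect zero vanishes on the `p`-singular elements -/
theorem vanish_of_defect_zero (p : ℕ) [Fact p.Prime] (χ : IrrCharacter G)
    (h : ¬ p ∣ Nat.card G / charDegree (χ : G → ℂ)) {g : G} (hg : p ∣ orderOf g) :
    (χ : G → ℂ) g = 0 := by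
  obtain ⟨M, hM⟩ := exists_isPModular p
  exact irr_eq_zero_of_singleton_block hM χ (blockOf_eq_singleton_of_not_dvd hM χ h) hg

/-- If `x` of prime order `p` generates its own centralizer and `p²` does not divide `|G|`, the
principal block contains every irreducible character of degree prime to `p`. -/
theorem mem_principal_of_self_centralizing (p : ℕ) [Fact p.Prime] {M : Ideal AlgInt}
    (hM : IsPModular p M) {x : G} (hx : orderOf x = p) (hsq : ¬ p ^ 2 ∣ Nat.card G)
    (hself : ∀ t : G, t * x = x * t → t ∈ Subgroup.zpowers x)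
    (χ : IrrCharacter G) (hχ : ¬ p ∣ charDegree (χ : G → ℂ)) : χ ∈ principalBlock M G := by
  classical
  have hp : p.Prime := Fact.out
  have hMp := isPModular_isPrime hM
  set B := blockOf M (χ : G → ℂ) with hBdef
  have hB : IsPBlock M B := ⟨χ, rfl⟩
  have hχB : χ ∈ B := sameBlock_refl hMp.ne_top _
  have hdiv : p ∣ Nat.card G := by
    rw [← hx]
    exact orderOf_dvd_natCard x
  have hdef : blockDefect p B ≠ 0 := by
    unfold blockDefect
    have h1 : sInf ((fun ψ : IrrCharacter G => (charDegree (ψ : G → ℂ)).factorization p) '' B)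
        = 0 := by
      rw [Nat.sInf_eq_zero]
      left
      exact ⟨χ, hχB, Nat.factorization_eq_zero_of_not_dvd hχ⟩
    rw [h1, Nat.sub_zero]
    exact (hp.factorization_pos_of_dvd Nat.card_pos.ne' hdiv).ne'
  have hBP : IsDefectGroup p M B (Subgroup.zpowers x) := by
    rcases d1h_defect_zero_or hM hx hsq hB with h | h
    · exact absurd h hdef
    · exact h
  have : Fintype (Subgroup.centralizer ((Subgroup.zpowers x : Subgroup G) : Set G)) :=
    Fintype.ofFinite _
  set C := Subgroup.centralizer ((Subgroup.zpowers x : Subgroup G) : Set G) with hC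
  have base : D1Base p M x C := ⟨hM, hx, hsq, d1_mem_centralizer_zpowers x⟩
  obtain ⟨b, θ, ctx⟩ := base.exists_ctx hB hBP
  have hcomm : ∀ a c : C, a * c = c * a := by
    intro a c
    have ha : (a : G) ∈ Subgroup.zpowers x := hself a ((base.hC a).1 a.2)
    have hc : (c : G) ∈ Subgroup.zpowers x := hself c ((base.hC c).1 c.2)
    obtain ⟨i, hi⟩ := Subgroup.mem_zpowers_iff.1 ha
    obtain ⟨j, hj⟩ := Subgroup.mem_zpowers_iff.1 hc
    apply Subtype.ext
    push_cast
    rw [← hi, ← hj, ← zpow_add, ← zpow_add, add_comm]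
  have hθ1 : (θ : C → ℂ) 1 = 1 := (Cfsg.Agent.S0187.result (G := C)).1 hcomm θ
  have hθ : (θ : C → ℂ) = fun _ => (1 : ℂ) := by
    funext c
    rw [ctx.hθP c (hself c ((base.hC c).1 c.2)), hθ1]
  have hb : b = principalBlock M C := by
    rw [eq_blockOf_of_mem hMp ctx.hind.1 ctx.hθ, hθ]
    rfl
  have ctx0 := d1_principal_ctx (M := M) hM hx hsq
  have h1 := ctx.hind
  rw [hb] at h1
  have h2 : B = principalBlock M G := isInducedBlock_unique hMp C h1 ctx0.hind
  rw [← h2]
  exact hχB

end

end Cfsg.Agent.Lib.Helper1.O7920
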