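import Mathlib

/-!
# Simple groups of order 7920: generic group-theoretic lemmas (part c)

Burnside's transfer theorem in simple groups, the order of the normalizer of a Sylow subgroup,
self-centralizing elements of prime order.
-/

set_option autoImplicit false

namespace Cfsg.Agent.Lib.Helper1.O7920

universe u

section

variable {G : Type u} [Group G] [Finite G]

/-- In a simple group whose order is divisible by `p` but is not `p`, the normalizer of a Sylow
`p`-subgroup is not contained in its centralizer (Burnside). -/
theorem not_normalizer_le_centralizer [IsSimpleGroup G] {p : ℕ} [Fact p.Prime] (P : Sylow p G)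
    (hdiv : p ∣ Nat.card G) (hne : Nat.card G ≠ Nat.card (P : Subgroup G)) :
    ¬ Subgroup.normalizer ((P : Subgroup G) : Set G) ≤
      Subgroup.centralizer ((P : Subgroup G) : Set G) := by
  intro hP
  have hcomp := MonoidHom.ker_transferSylow_isComplement' P hP
  have hnorm : (MonoidHom.transferSylow P hP).ker.Normal := MonoidHom.normal_ker _
  have hcard := hcomp.card_mul_card
  rcases hnorm.eq_bot_or_eq_top with h | h
  · rw [h, Subgroup.card_bot, one_mul] at hcard
    exact hne hcard.symm
  · rw [h, Subgroup.card_top] at hcard
    have hG : 0 < Nat.card G := Nat.card_pos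
    have h1 : Nat.card (P : Subgroup G) = 1 := by
      have := Nat.eq_of_mul_eq_mul_left hG (hcard.trans (mul_one _).symm)
      exact this
    have h2 := P.card_eq_multiplicity
    have hp : p.Prime := Fact.out
    have h3 : 1 ≤ (Nat.card G).factorization p :=
      (hp.dvd_iff_one_le_factorization Nat.card_pos.ne').1 hdiv
    rw [h1] at h2
    have h4 : p ^ 1 ≤ p ^ (Nat.card G).factorization p := Nat.pow_le_pow_right hp.pos h3
    rw [pow_one, ← h2] at h4
    exact absurd h4 (by have := hp.two_le; omega)

omit [Finite G] in
/-- the order of a subgroup in terms of a relative index -/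
theorem relIndex_mul_card' {C N : Subgroup G} (h : C ≤ N) :
    C.relIndex N * Nat.card C = Nat.card N := by
  rw [Subgroup.relIndex, mul_comm]
  have h1 := Subgroup.card_mul_index (C.subgroupOf N)
  rw [← h1]
  congr 1
  exact (Nat.card_congr (Subgroup.subgroupOfEquivOfLe h).toEquiv).symm

/-- The number of Sylow subgroups times the order of a normalizer is the group order. -/
theorem card_sylow_mul_card_normalizer {p : ℕ} [Fact p.Prime] (P : Sylow p G) :
    Nat.card (Sylow p G) * Nat.card (Subgroup.normalizer ((P : Subgroup G) : Set G)) =
      Nat.card G := by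
  rw [P.card_eq_index_normalizer, mul_comm]
  exact Subgroup.card_mul_index _

/-- If `x` has prime order `p`, `p²` does not divide `|G|`, and no element of prime order other
than `p` commutes with `x`, then the centralizer of `x` is `⟨x⟩`. -/
theorem mem_zpowers_of_comm {p : ℕ} [Fact p.Prime] {x : G} (hx : orderOf x = p)
    (hsq : ¬ p ^ 2 ∣ Nat.card G)
    (hno : ∀ (q : ℕ) (y : G), q.Prime → q ≠ p → orderOf y = q → y * x = x * y → False)
    (t : G) (ht : t * x = x * t) : t ∈ Subgroup.zpowers x := by
  classical
  have hp : p.Prime := Fact.out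
  set C := Subgroup.centralizer ({x} : Set G) with hC
  have hxC : Subgroup.zpowers x ≤ C := by
    rw [Subgroup.zpowers_le, Subgroup.mem_centralizer_singleton_iff]
  have htC : t ∈ C := by
    rw [Subgroup.mem_centralizer_singleton_iff]
    exact ht
  have hcardz : Nat.card (Subgroup.zpowers x) = p := by rw [Nat.card_zpowers, hx]
  have hdvd1 : p ∣ Nat.card C := by
    rw [← hcardz]
    exact Subgroup.card_dvd_of_le hxC
  obtain ⟨k, hk⟩ := hdvd1
  have hk1 : k = 1 := by
    by_contra hne
    have hk0 : k ≠ 0 := by
      rintro rfl
      rw [mul_zero] at hk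
      exact Nat.card_pos.ne' hk
    obtain ⟨q, hq, hqk⟩ := Nat.exists_prime_and_dvd hne
    have hqp : q ≠ p := by
      rintro rfl
      apply hsq
      have h1 : q * q ∣ Nat.card C := by
        rw [hk]
        exact Nat.mul_dvd_mul_left q hqk
      rw [sq]
      exact h1.trans (Subgroup.card_subgroup_dvd_card C)
    have : Fact q.Prime := ⟨hq⟩
    have hqC : q ∣ Nat.card C := by
      rw [hk]
      exact hqk.mul_left p
    obtain ⟨y, hy⟩ := exists_prime_orderOf_dvd_card' q hqC
    have hy' : orderOf (y : G) = q := by rw [Subgroup.orderOf_coe, hy]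
    have hyx : (y : G) * x = x * y :=
      Subgroup.mem_centralizer_singleton_iff.1 y.2
    exact hno q (y : G) hq hqp hy' hyx
  rw [hk1, mul_one] at hk
  have heq : Subgroup.zpowers x = C := by
    apply Subgroup.eq_of_le_of_card_ge hxC
    rw [hcardz, hk]
  rw [heq]
  exact htC

end

end Cfsg.Agent.Lib.Helper1.O7920
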