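import Mathlib

/-!
# Simple groups of order 7920: the arithmetic of the degrees (part d)

Everything here is about a finite index type `ι` (the irreducible characters), a degree function
`D : ι → ℕ` and finsets `X`, `Y` with signs (the non-exceptional and the exceptional characters of
a principal block of defect one).
-/

set_option autoImplicit false
set_option linter.unusedSectionVars false

namespace Cfsg.Agent.Lib.Helper1.O7920

open Finset

section Fiber

variable {ι : Type*} {M : Type*} [AddCommMonoid M]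

/-- a sum over a finset on which `D` takes three values -/
theorem sum_three (S : Finset ι) (D : ι → ℕ) (a b c : ℕ) (hab : a ≠ b) (hac : a ≠ c)
    (hbc : b ≠ c) (hD : ∀ χ ∈ S, D χ = a ∨ D χ = b ∨ D χ = c) (f : ι → M) :
    ∑ χ ∈ S, f χ = ∑ χ ∈ S.filter (fun χ => D χ = a), f χ +
      ∑ χ ∈ S.filter (fun χ => D χ = b), f χ + ∑ χ ∈ S.filter (fun χ => D χ = c), f χ := by
  have hmaps : ∀ χ ∈ S, D χ ∈ ({a, b, c} : Finset ℕ) := by
    intro χ hχ
    simp only [mem_insert, mem_singleton]
    exact hD χ hχ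
  rw [← sum_fiberwise_of_maps_to hmaps f]
  rw [sum_insert (by simp [hab, hac]), sum_insert (by simp [hbc]), sum_singleton, add_assoc]

/-- a sum over a finset on which `D` takes four values -/
theorem sum_four (S : Finset ι) (D : ι → ℕ) (a b c d : ℕ) (hab : a ≠ b) (hac : a ≠ c)
    (had : a ≠ d) (hbc : b ≠ c) (hbd : b ≠ d) (hcd : c ≠ d)
    (hD : ∀ χ ∈ S, D χ = a ∨ D χ = b ∨ D χ = c ∨ D χ = d) (f : ι → M) :
    ∑ χ ∈ S, f χ = ∑ χ ∈ S.filter (fun χ => D χ = a), f χ +
      ∑ χ ∈ S.filter (fun χ => D χ = b), f χ + ∑ χ ∈ S.filter (fun χ => D χ = c), f χ +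
      ∑ χ ∈ S.filter (fun χ => D χ = d), f χ := by
  have hmaps : ∀ χ ∈ S, D χ ∈ ({a, b, c, d} : Finset ℕ) := by
    intro χ hχ
    simp only [mem_insert, mem_singleton]
    exact hD χ hχ
  rw [← sum_fiberwise_of_maps_to hmaps f]
  rw [sum_insert (by simp [hab, hac, had]), sum_insert (by simp [hbc, hbd]),
    sum_insert (by simp [hcd]), sum_singleton, add_assoc, add_assoc]

/-- a sum of a function depending only on `D` over a fibre -/
theorem sum_fiber_const (S : Finset ι) (D : ι → ℕ) (a : ℕ) (f : ι → M) (v : M)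
    (hf : ∀ χ ∈ S, D χ = a → f χ = v) :
    ∑ χ ∈ S.filter (fun χ => D χ = a), f χ = (S.filter (fun χ => D χ = a)).card • v := by
  rw [← sum_const]
  refine sum_congr rfl fun χ hχ => ?_
  rw [mem_filter] at hχ
  exact hf χ hχ.1 hχ.2

end Fiber

section Divisors

theorem deg11_pm1 {d : ℕ} (h1 : d ∣ 7920) (h2 : d ≤ 88) (h3 : d % 11 = 1 ∨ d % 11 = 10) :
    d = 1 ∨ d = 10 ∨ d = 12 ∨ d = 45 := by
  have h0 : 0 < d := Nat.pos_of_dvd_of_pos h1 (by norm_num)
  interval_cases d <;> omega

theorem deg11_pm5 {d : ℕ} (h1 : d ∣ 7920) (h2 : d ≤ 88) (h3 : d % 11 = 5 ∨ d % 11 = 6) :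
    d = 5 ∨ d = 16 ∨ d = 60 ∨ d = 6 ∨ d = 72 := by
  have h0 : 0 < d := Nat.pos_of_dvd_of_pos h1 (by norm_num)
  interval_cases d <;> omega

theorem deg11_pm2 {d : ℕ} (h1 : d ∣ 7920) (h2 : d ≤ 88) (h3 : d % 11 = 2 ∨ d % 11 = 9) :
    d = 2 ∨ d = 24 ∨ d = 9 ∨ d = 20 := by
  have h0 : 0 < d := Nat.pos_of_dvd_of_pos h1 (by norm_num)
  interval_cases d <;> omega

theorem deg_mul11 {d : ℕ} (h1 : d ∣ 7920) (h2 : d ≤ 88) (h3 : 11 ∣ d) :
    d = 11 ∨ d = 22 ∨ d = 33 ∨ d = 44 ∨ d = 55 ∨ d = 66 ∨ d = 88 := by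
  have h0 : 0 < d := Nat.pos_of_dvd_of_pos h1 (by norm_num)
  interval_cases d <;> omega

end Divisors


section Data

variable {ι : Type*} [Fintype ι] [DecidableEq ι]

/-- the global data on the degrees of a simple group of order 7920 -/
structure DegData (D : ι → ℕ) (t0 : ι) : Prop where
  dvd : ∀ χ, D χ ∣ 7920
  sumsq : ∑ χ, D χ ^ 2 = 7920
  one : D t0 = 1
  uniq : ∀ χ, D χ = 1 → χ = t0

/-- the data of a principal block of defect one for the prime `p` with index `f` -/
structure BlockData (D : ι → ℕ) (p f : ℕ) (X Y : Finset ι) (εX : ι → ℤ) (ε : ℤ) : Prop where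
  disj : Disjoint X Y
  cardX : X.card = f
  cardY : Y.card = (p - 1) / f
  signX : ∀ χ ∈ X, (εX χ = 1 ∨ εX χ = -1) ∧ (D χ : ℤ) ≡ εX χ [ZMOD p]
  signY : ε = 1 ∨ ε = -1
  degY : ∀ θ ∈ Y, (D θ : ℤ) ≡ ε * f [ZMOD p]
  eqY : ∀ θ ∈ Y, ∀ θ' ∈ Y, D θ = D θ'
  eqn : ∀ θ ∈ Y, ε * D θ = ∑ χ ∈ X, εX χ * D χ

variable {D : ι → ℕ} {t0 : ι}

theorem DegData.pos (dd : DegData D t0) (χ : ι) : 0 < D χ :=
  Nat.pos_of_dvd_of_pos (dd.dvd χ) (by norm_num)

theorem DegData.sum_sq_le (dd : DegData D t0) (S : Finset ι) : ∑ χ ∈ S, D χ ^ 2 ≤ 7920 := by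
  rw [← dd.sumsq]
  exact sum_le_sum_of_subset (subset_univ S)

theorem DegData.le88 (dd : DegData D t0) (χ : ι) : D χ ≤ 88 := by
  have h1 := dd.sum_sq_le {χ}
  rw [sum_singleton] at h1
  nlinarith

/-- a nontrivial character together with the trivial one -/
theorem DegData.le88' (dd : DegData D t0) {χ : ι} (hχ : χ ≠ t0) : D χ ^ 2 + 1 ≤ 7920 := by
  have h1 := dd.sum_sq_le {χ, t0}
  rw [sum_pair hχ, dd.one] at h1
  omega

variable {f : ℕ} {X Y : Finset ι} {εX : ι → ℤ} {ε : ℤ}

/-- the members of `X` for the prime 11 -/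
theorem BlockData.memX11 (dd : DegData D t0) (bd : BlockData D 11 f X Y εX ε) {χ : ι}
    (hχ : χ ∈ X) :
    (D χ = 1 ∧ εX χ = 1) ∨ (D χ = 10 ∧ εX χ = -1) ∨ (D χ = 12 ∧ εX χ = 1) ∨
      (D χ = 45 ∧ εX χ = 1) := by
  obtain ⟨hs, hm⟩ := bd.signX χ hχ
  have h1 := dd.dvd χ
  have h2 := dd.le88 χ
  unfold Int.ModEq at hm
  rcases hs with h | h
  · rw [h] at hm
    have h3 : D χ % 11 = 1 := by omega
    rcases deg11_pm1 h1 h2 (Or.inl h3) with h4 | h4 | h4 | h4
    · exact Or.inl ⟨h4, h⟩
    · omega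
    · exact Or.inr (Or.inr (Or.inl ⟨h4, h⟩))
    · exact Or.inr (Or.inr (Or.inr ⟨h4, h⟩))
  · rw [h] at hm
    have h3 : D χ % 11 = 10 := by omega
    rcases deg11_pm1 h1 h2 (Or.inr h3) with h4 | h4 | h4 | h4
    · omega
    · exact Or.inr (Or.inl ⟨h4, h⟩)
    · omega
    · omega


/-- counts on a set of nontrivial members of `X`, for the prime 11 -/
theorem BlockData.counts11 (dd : DegData D t0) (bd : BlockData D 11 f X Y εX ε) (S : Finset ι)
    (hS : S ⊆ X) (hS0 : t0 ∉ S) :
    (S.filter (fun χ => D χ = 12)).card + (S.filter (fun χ => D χ = 45)).card +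
        (S.filter (fun χ => D χ = 10)).card = S.card ∧
      ∑ χ ∈ S, εX χ * D χ = 12 * ((S.filter (fun χ => D χ = 12)).card : ℤ) +
        45 * ((S.filter (fun χ => D χ = 45)).card : ℤ) -
        10 * ((S.filter (fun χ => D χ = 10)).card : ℤ) ∧
      ∑ χ ∈ S, D χ ^ 2 = 144 * (S.filter (fun χ => D χ = 12)).card +
        2025 * (S.filter (fun χ => D χ = 45)).card + 100 * (S.filter (fun χ => D χ = 10)).card := by
  have hmem : ∀ χ ∈ S, (D χ = 12 ∧ εX χ = 1) ∨ (D χ = 45 ∧ εX χ = 1) ∨ (D χ = 10 ∧ εX χ = -1) := by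
    intro χ hχ
    rcases bd.memX11 dd (hS hχ) with h | h | h | h
    · exfalso
      apply hS0
      rw [← dd.uniq χ h.1]
      exact hχ
    · exact Or.inr (Or.inr h)
    · exact Or.inl h
    · exact Or.inr (Or.inl h)
  have hD : ∀ χ ∈ S, D χ = 12 ∨ D χ = 45 ∨ D χ = 10 := by
    intro χ hχ
    rcases hmem χ hχ with h | h | h
    · exact Or.inl h.1
    · exact Or.inr (Or.inl h.1)
    · exact Or.inr (Or.inr h.1)
  refine ⟨?_, ?_, ?_⟩
  · have h1 := sum_three S D 12 45 10 (by norm_num) (by norm_num) (by norm_num) hD (fun _ => 1)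
    simp only [sum_const, smul_eq_mul, mul_one] at h1
    exact h1.symm
  · rw [sum_three S D 12 45 10 (by norm_num) (by norm_num) (by norm_num) hD]
    rw [sum_fiber_const S D 12 _ (12 : ℤ), sum_fiber_const S D 45 _ (45 : ℤ),
      sum_fiber_const S D 10 _ (-10 : ℤ)]
    · simp only [nsmul_eq_mul]
      ring
    · intro χ hχ h
      rcases hmem χ hχ with h' | h' | h'
      · omega
      · omega
      · rw [h'.2, h]
        norm_num
    · intro χ hχ h
      rcases hmem χ hχ with h' | h' | h'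
      · omega
      · rw [h'.2, h]
        norm_num
      · omega
    · intro χ hχ h
      rcases hmem χ hχ with h' | h' | h'
      · rw [h'.2, h]
        norm_num
      · omega
      · omega
  · rw [sum_three S D 12 45 10 (by norm_num) (by norm_num) (by norm_num) hD]
    rw [sum_fiber_const S D 12 _ (144 : ℕ), sum_fiber_const S D 45 _ (2025 : ℕ),
      sum_fiber_const S D 10 _ (100 : ℕ)]
    · simp only [smul_eq_mul]
      ring
    · intro χ _ h
      rw [h]
      norm_num
    · intro χ _ h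
      rw [h]
      norm_num
    · intro χ _ h
      rw [h]
      norm_num


theorem BlockData.sign_t0 (dd : DegData D t0) (bd : BlockData D 11 f X Y εX ε) (h : t0 ∈ X) :
    εX t0 = 1 := by
  rcases bd.memX11 dd h with h' | h' | h' | h'
  · exact h'.2
  · have := dd.one
    omega
  · have := dd.one
    omega
  · have := dd.one
    omega

/-- the equation of the block when the trivial character is not exceptional -/
theorem BlockData.eqn11 (dd : DegData D t0) (bd : BlockData D 11 f X Y εX ε) (h : t0 ∈ X)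
    {θ : ι} (hθ : θ ∈ Y) :
    ε * D θ = 1 + (12 * (((X.erase t0).filter (fun χ => D χ = 12)).card : ℤ) +
        45 * (((X.erase t0).filter (fun χ => D χ = 45)).card : ℤ) -
        10 * (((X.erase t0).filter (fun χ => D χ = 10)).card : ℤ)) := by
  have h1 := bd.eqn θ hθ
  rw [← add_sum_erase X _ h, bd.sign_t0 dd h, dd.one] at h1
  rw [h1, (bd.counts11 dd (X.erase t0) (erase_subset _ _) (notMem_erase _ _)).2.1]
  norm_num

/-- **The principal 11-block contains a non-exceptional character of degree 10.** -/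
theorem BlockData.main11 (dd : DegData D t0) (bd : BlockData D 11 f X Y εX ε)
    (hf : f = 2 ∨ f = 5 ∨ f = 10) (ht0 : t0 ∈ X ∪ Y) : ∃ χ ∈ X, D χ = 10 ∧ εX χ = -1 := by
  have key : ∀ S : Finset ι, S ⊆ X → 0 < (S.filter (fun χ => D χ = 10)).card →
      ∃ χ ∈ X, D χ = 10 ∧ εX χ = -1 := by
    intro S hS hpos
    obtain ⟨χ, hχ⟩ := card_pos.1 hpos
    rw [mem_filter] at hχ
    refine ⟨χ, hS hχ.1, hχ.2, ?_⟩
    rcases bd.memX11 dd (hS hχ.1) with h | h | h | h
    · omega
    · exact h.2
    · omega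
    · omega
  rw [mem_union] at ht0
  rcases ht0 with h0 | h0
  · -- the trivial character is non-exceptional
    apply key (X.erase t0) (erase_subset _ _)
    have hYne : Y.Nonempty := by
      rw [← card_pos, bd.cardY]
      rcases hf with rfl | rfl | rfl <;> norm_num
    obtain ⟨θ, hθ⟩ := hYne
    have h1 := bd.eqn11 dd h0 hθ
    have h2 := (bd.counts11 dd (X.erase t0) (erase_subset _ _) (notMem_erase _ _)).1
    rw [card_erase_of_mem h0, bd.cardX] at h2
    have h3 := dd.le88 θ
    have h4 := dd.dvd θ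
    have h5 := dd.pos θ
    by_contra hc
    have hc0 : ((X.erase t0).filter (fun χ => D χ = 10)).card = 0 := by omega
    rw [hc0] at h1 h2
    set a := ((X.erase t0).filter (fun χ => D χ = 12)).card with ha
    set b := ((X.erase t0).filter (fun χ => D χ = 45)).card with hb
    set t := D θ with ht
    rcases bd.signY with hε | hε
    · rw [hε] at h1
      rcases hf with rfl | rfl | rfl
      · have : t = 13 ∨ t = 46 := by omega
        rcases this with h | h <;> rw [h] at h4 <;> omega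
      · have : t = 49 ∨ t = 82 := by omega
        rcases this with h | h <;> rw [h] at h4 <;> omega
      · omega
    · rw [hε] at h1
      omega
  · -- the trivial character is exceptional
    apply key X (Subset.refl _)
    have h1 := bd.eqn t0 h0
    have hX0 : t0 ∉ X := fun h => (disjoint_left.1 bd.disj h) h0
    obtain ⟨h2, h3, _⟩ := bd.counts11 dd X (Subset.refl _) hX0
    rw [bd.cardX] at h2
    rw [h3, dd.one] at h1
    by_contra hc
    have hc0 : (X.filter (fun χ => D χ = 10)).card = 0 := by omega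
    rw [hc0] at h1 h2
    rcases bd.signY with hε | hε <;> rw [hε] at h1 <;> rcases hf with rfl | rfl | rfl <;> omega

/-- **The two possibilities for the principal 11-block when `f = 5`.** -/
theorem BlockData.five11 (dd : DegData D t0) (bd : BlockData D 11 5 X Y εX ε)
    (ht0 : t0 ∈ X ∪ Y) :
    t0 ∈ X ∧ ε = 1 ∧
      (((∀ θ ∈ Y, D θ = 5) ∧ ((X.erase t0).filter (fun χ => D χ = 12)).card = 2 ∧
          ((X.erase t0).filter (fun χ => D χ = 45)).card = 0 ∧
          ((X.erase t0).filter (fun χ => D χ = 10)).card = 2) ∨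
        ((∀ θ ∈ Y, D θ = 16) ∧ ((X.erase t0).filter (fun χ => D χ = 12)).card = 0 ∧
          ((X.erase t0).filter (fun χ => D χ = 45)).card = 1 ∧
          ((X.erase t0).filter (fun χ => D χ = 10)).card = 3)) := by
  have hcY : Y.card = 2 := by
    rw [bd.cardY]
  have h0 : t0 ∈ X := by
    rw [mem_union] at ht0
    rcases ht0 with h | h
    · exact h
    · exfalso
      have hsub : Y ⊆ {t0} := by
        intro θ hθ
        rw [mem_singleton]
        apply dd.uniq
        rw [bd.eqY θ hθ t0 h, dd.one]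
      have := card_le_card hsub
      rw [hcY, card_singleton] at this
      omega
  obtain ⟨θ, hθ⟩ : Y.Nonempty := by
    rw [← card_pos, hcY]
    norm_num
  have h1 := bd.eqn11 dd h0 hθ
  obtain ⟨h2, _, h2sq⟩ := bd.counts11 dd (X.erase t0) (erase_subset _ _) (notMem_erase _ _)
  rw [card_erase_of_mem h0, bd.cardX] at h2
  have h3 := dd.le88 θ
  have h4 := dd.dvd θ
  have h5 := dd.pos θ
  -- the sum of the squares
  have hsq : 2 * (D θ * D θ) + 1 + ∑ χ ∈ X.erase t0, D χ ^ 2 ≤ 7920 := by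
    have h6 := dd.sum_sq_le (X ∪ Y)
    rw [sum_union bd.disj, ← add_sum_erase X _ h0, dd.one] at h6
    have h7 : ∑ χ ∈ Y, D χ ^ 2 = 2 * (D θ * D θ) := by
      rw [sum_congr rfl (fun χ hχ => by rw [bd.eqY χ hχ θ hθ]), sum_const, hcY, smul_eq_mul, sq]
    rw [h7] at h6
    omega
  rw [h2sq] at hsq
  have hmod := bd.degY θ hθ
  unfold Int.ModEq at hmod
  have hYall : ∀ n, D θ = n → ∀ θ' ∈ Y, D θ' = n := by
    intro n hn θ' hθ'
    rw [bd.eqY θ' hθ' θ hθ, hn]
  set a := ((X.erase t0).filter (fun χ => D χ = 12)).card with ha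
  set b := ((X.erase t0).filter (fun χ => D χ = 45)).card with hb
  set c := ((X.erase t0).filter (fun χ => D χ = 10)).card with hc
  have hmod' : D θ % 11 = 5 ∨ D θ % 11 = 6 := by
    rcases bd.signY with hε | hε <;> rw [hε] at hmod <;> omega
  refine ⟨h0, ?_⟩
  rcases deg11_pm5 h4 h3 hmod' with ht | ht | ht | ht | ht <;> rw [ht] at h1 hsq hmod <;>
    rcases bd.signY with hε | hε <;> rw [hε] at h1 hmod
  · refine ⟨hε, Or.inl ⟨hYall 5 ht, ?_, ?_, ?_⟩⟩ <;> omega
  · omega
  · refine ⟨hε, Or.inr ⟨hYall 16 ht, ?_, ?_, ?_⟩⟩ <;> omega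
  · omega
  · omega
  · omega
  · omega
  · omega
  · omega
  · omega


section Five

variable {X5 Y5 : Finset ι} {εX5 : ι → ℤ} {ε5 : ℤ}

/-- the signed degrees of the principal 5-block (with `f = 4`) sum to zero -/
theorem BlockData.signed5 (bd : BlockData D 5 4 X5 Y5 εX5 ε5) :
    ∃ s : ι → ℤ, (∀ χ ∈ X5 ∪ Y5, (D χ % 5 = 1 ∧ s χ = D χ) ∨ (D χ % 5 = 4 ∧ s χ = -(D χ : ℤ))) ∧
      ∑ χ ∈ X5 ∪ Y5, s χ = 0 := by
  have hcY : Y5.card = 1 := by
    rw [bd.cardY]
  obtain ⟨θ, hθ⟩ := card_eq_one.1 hcY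
  have hθY : θ ∈ Y5 := by
    rw [hθ]
    exact mem_singleton_self θ
  refine ⟨fun χ => if χ ∈ X5 then εX5 χ * D χ else -(ε5 * D χ), ?_, ?_⟩
  · intro χ hχ
    rw [mem_union] at hχ
    by_cases hX : χ ∈ X5
    · simp only [if_pos hX]
      obtain ⟨hs, hm⟩ := bd.signX χ hX
      unfold Int.ModEq at hm
      rcases hs with h | h <;> rw [h] at hm ⊢
      · left
        constructor
        · omega
        · ring
      · right
        constructor
        · omega
        · ring
    · simp only [if_neg hX]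
      have hY : χ ∈ Y5 := hχ.resolve_left hX
      have hm := bd.degY χ hY
      unfold Int.ModEq at hm
      rcases bd.signY with h | h <;> rw [h] at hm ⊢
      · right
        constructor
        · omega
        · ring
      · left
        constructor
        · omega
        · ring
  · rw [sum_union bd.disj]
    have h1 : ∑ χ ∈ X5, (if χ ∈ X5 then εX5 χ * D χ else -(ε5 * D χ)) =
        ∑ χ ∈ X5, εX5 χ * D χ := sum_congr rfl fun χ hχ => by rw [if_pos hχ]
    have h2 : ∑ χ ∈ Y5, (if χ ∈ X5 then εX5 χ * D χ else -(ε5 * D χ)) = -(ε5 * D θ) := by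
      rw [hθ, sum_singleton, if_neg]
      intro h
      exact (disjoint_left.1 bd.disj h) hθY
    rw [h1, h2, ← bd.eqn θ hθY]
    ring

/-- **Case L is impossible**: with degrees `1, 5, 10, 12` or multiples of 11 available there is no
principal 5-block with `f = 4`. -/
theorem caseL_false (dd : DegData D t0) (bd : BlockData D 5 4 X5 Y5 εX5 ε5)
    (ht0 : t0 ∈ X5 ∪ Y5)
    (havail : ∀ χ, D χ = 1 ∨ D χ = 5 ∨ D χ = 10 ∨ D χ = 12 ∨ 11 ∣ D χ) : False := by
  obtain ⟨s, hs, hsum⟩ := bd.signed5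
  rw [← add_sum_erase _ _ ht0] at hsum
  have h1 : s t0 = 1 := by
    rcases hs t0 ht0 with h | h
    · rw [h.2, dd.one]
      norm_num
    · have := dd.one
      omega
  have h2 : (11 : ℤ) ∣ ∑ χ ∈ (X5 ∪ Y5).erase t0, s χ := by
    apply dvd_sum
    intro χ hχ
    rw [mem_erase] at hχ
    have h3 : 11 ∣ D χ := by
      rcases havail χ with h | h | h | h | h
      · exact absurd (dd.uniq χ h) hχ.1
      · rcases hs χ hχ.2 with h' | h' <;> omega
      · rcases hs χ hχ.2 with h' | h' <;> omega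
      · rcases hs χ hχ.2 with h' | h' <;> omega
      · exact h
    have h4 : (11 : ℤ) ∣ (D χ : ℤ) := by exact_mod_cast h3
    rcases hs χ hχ.2 with h' | h'
    · rw [h'.2]
      exact h4
    · rw [h'.2]
      exact (dvd_neg).2 h4
  rw [h1] at hsum
  omega

/-- **Case M**: the principal 5-block consists of the degrees `1, 16, 16, 11, 44`. -/
theorem caseM_counts (dd : DegData D t0) (bd : BlockData D 5 4 X5 Y5 εX5 ε5)
    (ht0 : t0 ∈ X5 ∪ Y5)
    (havail : ∀ χ, D χ = 1 ∨ D χ = 10 ∨ D χ = 16 ∨ D χ = 45 ∨ 11 ∣ D χ) :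
    (∀ χ ∈ X5 ∪ Y5, D χ = 1 ∨ D χ = 16 ∨ D χ = 11 ∨ D χ = 44) ∧
      ((X5 ∪ Y5).filter (fun χ => D χ = 11)).card = 1 ∧
      ((X5 ∪ Y5).filter (fun χ => D χ = 44)).card = 1 := by
  obtain ⟨s, hs, hsum⟩ := bd.signed5
  rw [← add_sum_erase _ _ ht0] at hsum
  have h1 : s t0 = 1 := by
    rcases hs t0 ht0 with h | h
    · rw [h.2, dd.one]
      norm_num
    · have := dd.one
      omega
  set S := (X5 ∪ Y5).erase t0 with hS
  have hcard : S.card = 4 := by
    rw [hS, card_erase_of_mem ht0, card_union_of_disjoint bd.disj, bd.cardX, bd.cardY]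
  have hmem : ∀ χ ∈ S, (D χ = 16 ∧ s χ = 16) ∨ (D χ = 11 ∧ s χ = 11) ∨ (D χ = 44 ∧ s χ = -44) ∨
      (D χ = 66 ∧ s χ = 66) := by
    intro χ hχ
    rw [hS, mem_erase] at hχ
    have h88 := dd.le88 χ
    have hdvd := dd.dvd χ
    rcases havail χ with h | h | h | h | h
    · exact absurd (dd.uniq χ h) hχ.1
    · rcases hs χ hχ.2 with h' | h' <;> omega
    · rcases hs χ hχ.2 with h' | h'
      · left
        refine ⟨h, ?_⟩
        rw [h'.2, h]
        norm_num
      · omega
    · rcases hs χ hχ.2 with h' | h' <;> omega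
    · rcases deg_mul11 hdvd h88 h with h | h | h | h | h | h | h <;>
        rcases hs χ hχ.2 with h' | h'
      · right; left
        refine ⟨h, ?_⟩
        rw [h'.2, h]
        norm_num
      all_goals omega
  have hD : ∀ χ ∈ S, D χ = 16 ∨ D χ = 11 ∨ D χ = 44 ∨ D χ = 66 := by
    intro χ hχ
    rcases hmem χ hχ with h | h | h | h
    · exact Or.inl h.1
    · exact Or.inr (Or.inl h.1)
    · exact Or.inr (Or.inr (Or.inl h.1))
    · exact Or.inr (Or.inr (Or.inr h.1))
  have hc := sum_four S D 16 11 44 66 (by norm_num) (by norm_num) (by norm_num) (by norm_num)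
    (by norm_num) (by norm_num) hD (fun _ => 1)
  simp only [sum_const, smul_eq_mul, mul_one] at hc
  rw [hcard] at hc
  have hs4 := sum_four S D 16 11 44 66 (by norm_num) (by norm_num) (by norm_num) (by norm_num)
    (by norm_num) (by norm_num) hD s
  rw [sum_fiber_const S D 16 s (16 : ℤ), sum_fiber_const S D 11 s (11 : ℤ),
    sum_fiber_const S D 44 s (-44 : ℤ), sum_fiber_const S D 66 s (66 : ℤ)] at hs4
  · simp only [nsmul_eq_mul] at hs4
    rw [hs4, h1] at hsum
    set a := (S.filter (fun χ => D χ = 16)).card with ha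
    set b := (S.filter (fun χ => D χ = 11)).card with hb
    set c := (S.filter (fun χ => D χ = 44)).card with hc'
    set d := (S.filter (fun χ => D χ = 66)).card with hd
    have hb1 : b = 1 := by omega
    have hc1 : c = 1 := by omega
    have hd0 : d = 0 := by omega
    have hfilt : ∀ n, n ≠ 1 → (X5 ∪ Y5).filter (fun χ => D χ = n) = S.filter (fun χ => D χ = n) := by
      intro n hn
      ext χ
      rw [mem_filter, mem_filter, hS, mem_erase]
      constructor
      · rintro ⟨h1, h2⟩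
        refine ⟨⟨?_, h1⟩, h2⟩
        rintro rfl
        rw [dd.one] at h2
        exact hn h2.symm
      · rintro ⟨⟨_, h1⟩, h2⟩
        exact ⟨h1, h2⟩
    refine ⟨?_, ?_, ?_⟩
    · intro χ hχ
      by_cases h0 : χ = t0
      · left
        rw [h0, dd.one]
      · have hχS : χ ∈ S := by
          rw [hS, mem_erase]
          exact ⟨h0, hχ⟩
        rcases hmem χ hχS with h | h | h | h
        · exact Or.inr (Or.inl h.1)
        · exact Or.inr (Or.inr (Or.inl h.1))
        · exact Or.inr (Or.inr (Or.inr h.1))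
        · exfalso
          have : 0 < d := by
            rw [hd, card_pos]
            exact ⟨χ, mem_filter.2 ⟨hχS, h.1⟩⟩
          omega
    · rw [hfilt 11 (by norm_num)]
      exact hb1
    · rw [hfilt 44 (by norm_num)]
      exact hc1
  · intro χ hχ h
    rcases hmem χ hχ with h' | h' | h' | h' <;> omega
  · intro χ hχ h
    rcases hmem χ hχ with h' | h' | h' | h' <;> omega
  · intro χ hχ h
    rcases hmem χ hχ with h' | h' | h' | h' <;> omega
  · intro χ hχ h
    rcases hmem χ hχ with h' | h' | h' | h' <;> omega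

end Five


/-- **The final count.** -/
theorem final_count (dd : DegData D t0) (B0 B5 : Finset ι)
    (h0mem : ∀ χ ∈ B0, D χ = 1 ∨ D χ = 10 ∨ D χ = 45 ∨ D χ = 16)
    (h0out : ∀ χ, χ ∉ B0 → 11 ∣ D χ)
    (h0_10 : (B0.filter (fun χ => D χ = 10)).card = 3)
    (h0_45 : (B0.filter (fun χ => D χ = 45)).card = 1)
    (h0_16 : (B0.filter (fun χ => D χ = 16)).card = 2)
    (h5mem : ∀ χ ∈ B5, D χ = 1 ∨ D χ = 16 ∨ D χ = 11 ∨ D χ = 44)
    (h5out : ∀ χ, χ ∉ B5 → 5 ∣ D χ)
    (h5_11 : (B5.filter (fun χ => D χ = 11)).card = 1)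
    (h5_44 : (B5.filter (fun χ => D χ = 44)).card = 1) :
    Fintype.card ι = 10 ∧ ∀ n : ℕ, (univ.filter (fun χ : ι => D χ = n)).card =
      (if n = 1 ∨ n = 11 ∨ n = 44 ∨ n = 45 ∨ n = 55 then 1 else if n = 10 then 3
        else if n = 16 then 2 else 0) := by
  have hall : ∀ χ : ι, D χ = 1 ∨ D χ = 10 ∨ D χ = 45 ∨ D χ = 16 ∨ D χ = 11 ∨ D χ = 44 ∨
      D χ = 55 := by
    intro χ
    by_cases h0 : χ ∈ B0
    · rcases h0mem χ h0 with h | h | h | h
      · exact Or.inl h
      · exact Or.inr (Or.inl h)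
      · exact Or.inr (Or.inr (Or.inl h))
      · exact Or.inr (Or.inr (Or.inr (Or.inl h)))
    · have h11 := h0out χ h0
      by_cases h5 : χ ∈ B5
      · rcases h5mem χ h5 with h | h | h | h
        · omega
        · omega
        · exact Or.inr (Or.inr (Or.inr (Or.inr (Or.inl h))))
        · exact Or.inr (Or.inr (Or.inr (Or.inr (Or.inr (Or.inl h)))))
      · have h5' := h5out χ h5
        rcases deg_mul11 (dd.dvd χ) (dd.le88 χ) h11 with h | h | h | h | h | h | h <;> omega
  have hN1 : (univ.filter (fun χ : ι => D χ = 1)).card = 1 := by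
    rw [card_eq_one]
    refine ⟨t0, ?_⟩
    ext χ
    rw [mem_filter, mem_singleton]
    constructor
    · rintro ⟨_, h⟩
      exact dd.uniq χ h
    · rintro rfl
      exact ⟨mem_univ _, dd.one⟩
  have hfilt0 : ∀ n, ¬ 11 ∣ n → univ.filter (fun χ : ι => D χ = n) = B0.filter (fun χ => D χ = n) := by
    intro n hn
    ext χ
    rw [mem_filter, mem_filter]
    constructor
    · rintro ⟨_, h⟩
      refine ⟨?_, h⟩
      by_contra h0
      exact hn (h ▸ h0out χ h0)
    · rintro ⟨_, h⟩
      exact ⟨mem_univ _, h⟩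
  have hfilt5 : ∀ n, ¬ 5 ∣ n → univ.filter (fun χ : ι => D χ = n) = B5.filter (fun χ => D χ = n) := by
    intro n hn
    ext χ
    rw [mem_filter, mem_filter]
    constructor
    · rintro ⟨_, h⟩
      refine ⟨?_, h⟩
      by_contra h0
      exact hn (h ▸ h5out χ h0)
    · rintro ⟨_, h⟩
      exact ⟨mem_univ _, h⟩
  have hN10 : (univ.filter (fun χ : ι => D χ = 10)).card = 3 := by
    rw [hfilt0 10 (by norm_num), h0_10]
  have hN45 : (univ.filter (fun χ : ι => D χ = 45)).card = 1 := by
    rw [hfilt0 45 (by norm_num), h0_45]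
  have hN16 : (univ.filter (fun χ : ι => D χ = 16)).card = 2 := by
    rw [hfilt0 16 (by norm_num), h0_16]
  have hN11 : (univ.filter (fun χ : ι => D χ = 11)).card = 1 := by
    rw [hfilt5 11 (by norm_num), h5_11]
  have hN44 : (univ.filter (fun χ : ι => D χ = 44)).card = 1 := by
    rw [hfilt5 44 (by norm_num), h5_44]
  have hmaps : ∀ χ ∈ (univ : Finset ι), D χ ∈ ({1, 10, 45, 16, 11, 44, 55} : Finset ℕ) := by
    intro χ _
    simp only [mem_insert, mem_singleton]
    exact hall χ
  have hsq := dd.sumsq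
  rw [← sum_fiberwise_of_maps_to hmaps (fun χ => D χ ^ 2)] at hsq
  rw [sum_insert (by decide), sum_insert (by decide), sum_insert (by decide),
    sum_insert (by decide), sum_insert (by decide), sum_insert (by decide), sum_singleton] at hsq
  rw [sum_fiber_const univ D 1 _ (1 : ℕ) (fun χ _ h => by rw [h]; norm_num),
    sum_fiber_const univ D 10 _ (100 : ℕ) (fun χ _ h => by rw [h]; norm_num),
    sum_fiber_const univ D 45 _ (2025 : ℕ) (fun χ _ h => by rw [h]; norm_num),
    sum_fiber_const univ D 16 _ (256 : ℕ) (fun χ _ h => by rw [h]; norm_num),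
    sum_fiber_const univ D 11 _ (121 : ℕ) (fun χ _ h => by rw [h]; norm_num),
    sum_fiber_const univ D 44 _ (1936 : ℕ) (fun χ _ h => by rw [h]; norm_num),
    sum_fiber_const univ D 55 _ (3025 : ℕ) (fun χ _ h => by rw [h]; norm_num)] at hsq
  rw [hN1, hN10, hN45, hN16, hN11, hN44] at hsq
  simp only [smul_eq_mul] at hsq
  have hN55 : (univ.filter (fun χ : ι => D χ = 55)).card = 1 := by omega
  constructor
  · have hc : (univ : Finset ι).card = ∑ χ ∈ (univ : Finset ι), 1 := by simp
    rw [← card_univ, hc, ← sum_fiberwise_of_maps_to hmaps (fun _ => 1)]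
    rw [sum_insert (by decide), sum_insert (by decide), sum_insert (by decide),
      sum_insert (by decide), sum_insert (by decide), sum_insert (by decide), sum_singleton]
    simp only [sum_const, smul_eq_mul, mul_one]
    omega
  · intro n
    by_cases h1 : n = 1
    · rw [h1, hN1]; simp
    by_cases h10 : n = 10
    · rw [h10, hN10]; simp
    by_cases h45 : n = 45
    · rw [h45, hN45]; simp
    by_cases h16 : n = 16
    · rw [h16, hN16]; simp
    by_cases h11 : n = 11
    · rw [h11, hN11]; simp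
    by_cases h44 : n = 44
    · rw [h44, hN44]; simp
    by_cases h55 : n = 55
    · rw [h55, hN55]; simp
    have hempty : univ.filter (fun χ : ι => D χ = n) = ∅ := by
      rw [filter_eq_empty_iff]
      intro χ _ h
      rcases hall χ with h' | h' | h' | h' | h' | h' | h' <;> omega
    rw [hempty, card_empty]
    simp [h1, h10, h45, h16, h11, h44, h55]


end Data

end Cfsg.Agent.Lib.Helper1.O7920
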