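import Mathlib
import Cfsg.Prelude.Def_Blocks
import Cfsg.Prelude.Def_BlockRank
import Cfsg.Agent.Lib.Helper8.DO18
import Cfsg.Agent.Lib.Helper8.PC6
import Cfsg.Agent.Lib.Helper8.Deflation
import Cfsg.Agent.Lib.Helper1.O7920a
import Cfsg.Agent.Lib.Helper1.O7920b
import Cfsg.Agent.Lib.Helper1.O7920c
import Cfsg.Agent.Lib.Helper1.O7920d

/-!
# Simple groups of order 7920: from the block theory to the arithmetic (part e)
-/

set_option autoImplicit false
set_option linter.unusedSectionVars false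

namespace Cfsg.Agent.Lib.Helper1.O7920

open Cfsg Cfsg.Agent.Lib.Helper8 Cfsg.Agent.Lib.Helper1 Cfsg.Agent.Lib.Helper4
open scoped ComplexConjugate

universe u

section Sums

/-- splitting a sum over `range (p * q)` into the multiples of `p` and the rest -/
theorem sum_range_mul (p q : ℕ) (hp : 0 < p) (F : ℕ → ℂ) :
    ∑ k ∈ Finset.range (p * q), F k = ∑ l ∈ Finset.range q, F (p * l) +
      ∑ k ∈ (Finset.range (p * q)).filter (fun k => ¬ p ∣ k), F k := by
  classical
  rw [← Finset.sum_filter_add_sum_filter_not (Finset.range (p * q)) (fun k => p ∣ k)]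
  congr 1
  have h1 : (Finset.range (p * q)).filter (fun k => p ∣ k) =
      (Finset.range q).image (fun l => p * l) := by
    ext k
    rw [Finset.mem_filter, Finset.mem_range, Finset.mem_image]
    constructor
    · rintro ⟨h2, ⟨l, rfl⟩⟩
      exact ⟨l, Finset.mem_range.2 (Nat.lt_of_mul_lt_mul_left h2), rfl⟩
    · rintro ⟨l, hl, rfl⟩
      exact ⟨Nat.mul_lt_mul_of_pos_left (Finset.mem_range.1 hl) hp, dvd_mul_right p l⟩
  rw [h1, Finset.sum_image]
  intro a _ b _ h
  exact Nat.eq_of_mul_eq_mul_left hp h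

theorem card_filter_not_dvd (p q : ℕ) (hp : 0 < p) :
    ((Finset.range (p * q)).filter (fun k => ¬ p ∣ k)).card = p * q - q := by
  classical
  have h0 := Finset.card_filter_add_card_filter_not (s := Finset.range (p * q))
    (p := fun k => p ∣ k)
  have h1 : (Finset.range (p * q)).filter (fun k => p ∣ k) =
      (Finset.range q).image (fun l => p * l) := by
    ext k
    rw [Finset.mem_filter, Finset.mem_range, Finset.mem_image]
    constructor
    · rintro ⟨h2, ⟨l, rfl⟩⟩
      exact ⟨l, Finset.mem_range.2 (Nat.lt_of_mul_lt_mul_left h2), rfl⟩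
    · rintro ⟨l, hl, rfl⟩
      exact ⟨Nat.mul_lt_mul_of_pos_left (Finset.mem_range.1 hl) hp, dvd_mul_right p l⟩
  rw [h1, Finset.card_image_of_injective _ (fun a b h => Nat.eq_of_mul_eq_mul_left hp h),
    Finset.card_range, Finset.card_range] at h0
  omega

end Sums


section Values

variable {G : Type u} [Group G] [Fintype G]

/-- **The centralizer trick.** If a faithful irreducible character of degree 10 takes the value `-1`
at all `x^k y` (`y` an 11-regular element commuting with `x`, `11 ∤ k`), then no element of prime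
order `q ≠ 11` commutes with `x`. -/
theorem no_comm_of_neg_one [IsSimpleGroup G] {x : G} (hx : orderOf x = 11) {χ : G → ℂ}
    (hχ : IsIrrCharacter G χ) (h10 : χ 1 = 10)
    (hval : ∀ k : ℕ, ¬ 11 ∣ k → ∀ y : G, y * x = x * y → ¬ 11 ∣ orderOf y →
      χ (x ^ k * y) = -1)
    (q : ℕ) (y : G) (hq : q.Prime) (hq11 : q ≠ 11) (hy : orderOf y = q) (hyx : y * x = x * y) :
    False := by
  classical
  have hc := isCharacter_of_irr hχ
  have hcomm : Commute x y := hyx.symm
  have hcop11 : Nat.Coprime q 11 := (Nat.coprime_primes hq (by norm_num)).2 hq11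
  have hcop : Nat.Coprime (orderOf x) (orderOf y) := by
    rw [hx, hy]
    exact hcop11.symm
  have hord : orderOf (x * y) = 11 * q := by
    rw [hcomm.orderOf_mul_eq_mul_orderOf_of_coprime hcop, hx, hy]
  obtain ⟨a, d, hsum, hd, _, _⟩ := cyc_sum hc (x * y)
  rw [hord] at hsum
  have hy' : orderOf (y ^ 11) = q := by
    rw [Nat.Coprime.orderOf_pow (by rw [hy]; exact hcop11), hy]
  obtain ⟨a', d', hsum', hd', hle', himp'⟩ := cyc_sum hc (y ^ 11)
  rw [hy'] at hsum'
  have hdd : d' = 10 := by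
    rw [h10] at hd'
    exact_mod_cast hd'.symm
  rw [sum_range_mul 11 q (by norm_num)] at hsum
  have h1 : ∀ l : ℕ, χ ((x * y) ^ (11 * l)) = χ ((y ^ 11) ^ l) := by
    intro l
    rw [hcomm.mul_pow, pow_mul x, ← hx, pow_orderOf_eq_one, one_pow, one_mul, pow_mul]
  have h2 : ∀ k ∈ (Finset.range (11 * q)).filter (fun k => ¬ 11 ∣ k),
      χ ((x * y) ^ k) = -1 := by
    intro k hk
    rw [Finset.mem_filter] at hk
    rw [hcomm.mul_pow]
    apply hval k hk.2 (y ^ k)
    · exact (hcomm.symm.pow_left k).eq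
    · intro h
      have h3 : orderOf (y ^ k) ∣ q := hy ▸ orderOf_pow_dvd k
      have h4 : 11 ∣ q := h.trans h3
      exact hq11 ((Nat.prime_dvd_prime_iff_eq (by norm_num) hq).1 h4).symm
  rw [Finset.sum_congr rfl (fun l _ => h1 l), hsum', Finset.sum_congr rfl h2, Finset.sum_const,
    card_filter_not_dvd 11 q (by norm_num)] at hsum
  have h10q : 11 * q - q = 10 * q := by omega
  rw [h10q, nsmul_eq_mul] at hsum
  have hnat : q * a' = 11 * q * a + 10 * q := by
    have : ((q * a' : ℕ) : ℂ) = ((11 * q * a + 10 * q : ℕ) : ℂ) := by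
      push_cast at hsum ⊢
      linear_combination hsum
    exact_mod_cast this
  have hq0 : 0 < q := hq.pos
  have h5 : a' = 11 * a + 10 := by
    have : q * a' = q * (11 * a + 10) := by
      rw [hnat]
      ring
    exact Nat.eq_of_mul_eq_mul_left hq0 this
  have h6 : a' = d' := by omega
  have h7 := himp' h6
  have h8 : y ^ 11 = 1 :=
    eq_one_of_sq_eq hχ (d := 10) (by rw [h10]; norm_num) (by norm_num) (by rw [h7])
  rw [h8, orderOf_one] at hy'
  exact hq.one_lt.ne hy'

/-- **Values of characters of 5-defect zero at involutions centralizing an element of order 5.** -/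
theorem value_at_invol_of_defect_zero (χ : IrrCharacter G)
    (h0 : ¬ 5 ∣ Nat.card G / charDegree (χ : G → ℂ)) {r y : G} (hr : orderOf r = 5)
    (hy : orderOf y = 2) (hyr : y * r = r * y) :
    ∃ a d : ℕ, (χ : G → ℂ) 1 = d ∧ (χ : G → ℂ) y = 10 * (a : ℂ) - d ∧ 5 * a ≤ d := by
  classical
  have : Fact (Nat.Prime 5) := ⟨by norm_num⟩
  have hc := isCharacter_of_irr χ.2
  have hcomm : Commute r y := hyr.symm
  have hcop : Nat.Coprime (orderOf r) (orderOf y) := by
    rw [hr, hy]
    norm_num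
  have hord : orderOf (r * y) = 5 * 2 := by
    rw [hcomm.orderOf_mul_eq_mul_orderOf_of_coprime hcop, hr, hy]
  obtain ⟨a, d, hsum, hd, _, _⟩ := cyc_sum hc (r * y)
  rw [hord] at hsum
  obtain ⟨a', d', hsum', hd', hle', _⟩ := cyc_sum hc y
  rw [hy] at hsum'
  have hdd : d' = d := by
    rw [hd] at hd'
    exact_mod_cast hd'.symm
  rw [sum_range_mul 5 2 (by norm_num)] at hsum
  have h2 : ∀ k ∈ (Finset.range (5 * 2)).filter (fun k => ¬ 5 ∣ k),
      (χ : G → ℂ) ((r * y) ^ k) = 0 := by
    intro k hk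
    rw [Finset.mem_filter] at hk
    apply vanish_of_defect_zero 5 χ h0
    have hk0 : k ≠ 0 := by
      rintro rfl
      exact hk.2 (dvd_zero 5)
    rw [orderOf_pow' _ hk0, hord]
    have hg1 : Nat.gcd (5 * 2) k ∣ 5 * 2 := Nat.gcd_dvd_left _ _
    have hg2 : Nat.gcd (5 * 2) k ∣ k := Nat.gcd_dvd_right _ _
    have hg3 : Nat.gcd (5 * 2) k ≤ 10 := Nat.le_of_dvd (by norm_num) hg1
    have hg4 : 0 < Nat.gcd (5 * 2) k := Nat.gcd_pos_of_pos_left _ (by norm_num)
    have hk5 := hk.2
    generalize Nat.gcd (5 * 2) k = e at hg1 hg2 hg3 hg4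
    interval_cases e <;> omega
  rw [Finset.sum_congr rfl h2, Finset.sum_const, smul_zero, add_zero, Finset.sum_range_succ,
    Finset.sum_range_one, mul_zero, pow_zero, mul_one, hcomm.mul_pow] at hsum
  have hr5 : r ^ 5 = 1 := by rw [← hr, pow_orderOf_eq_one]
  have hy5 : y ^ 5 = y := by
    have hy2 : y ^ 2 = 1 := by rw [← hy, pow_orderOf_eq_one]
    calc y ^ 5 = (y ^ 2) ^ 2 * y := by group
      _ = y := by rw [hy2, one_pow, one_mul]
  rw [hr5, hy5, one_mul] at hsum
  rw [Finset.sum_range_succ, Finset.sum_range_one, pow_zero, pow_one] at hsum'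
  refine ⟨a, d, hd, ?_, ?_⟩
  · rw [hd] at hsum
    push_cast at hsum
    linear_combination hsum
  · have : ((2 * a' : ℕ) : ℂ) = ((10 * a : ℕ) : ℂ) := by
      push_cast at hsum hsum' ⊢
      linear_combination hsum - hsum'
    have h3 : 2 * a' = 10 * a := by exact_mod_cast this
    omega

end Values


section Bridge

variable {G : Type u} [Group G] [Fintype G]

/-- the degree of an irreducible character, as a natural number -/
noncomputable abbrev deg (χ : IrrCharacter G) : ℕ := charDegree (χ : G → ℂ)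

theorem deg_cast (χ : IrrCharacter G) : (χ : G → ℂ) 1 = (deg χ : ℂ) :=
  (irr_apply_one_eq_charDegree χ.2).1

/-- the global data of a simple group of order 7920 -/
theorem degData [IsSimpleGroup G] (hG : Nat.card G = 7920) [Fintype (IrrCharacter G)]
    [DecidableEq (IrrCharacter G)] : DegData (deg (G := G)) (trivIrr G) := by
  have hperf : commutator G = ⊤ := commutator_eq_top (by rw [hG]; norm_num)
  refine ⟨?_, ?_, ?_, ?_⟩
  · intro χ
    have := charDegree_dvd_card χ.2
    rw [hG] at this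
    exact this
  · have := sum_charDegree_sq G
    rw [hG] at this
    exact this
  · have h1 := deg_cast (trivIrr G)
    rw [trivIrr_apply] at h1
    exact_mod_cast h1.symm
  · intro χ h
    have h1 : (χ : G → ℂ) 1 = 1 := by
      rw [deg_cast, h]
      norm_num
    apply Subtype.ext
    funext g
    rw [linear_eq_one hperf χ.2 h1 g, trivIrr_apply]

/-- **From the principal block to the arithmetic data.** -/
theorem exists_blockData [Fintype (IrrCharacter G)] [DecidableEq (IrrCharacter G)] (p : ℕ)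
    [Fact p.Prime] {M : Ideal AlgInt} (hM : IsPModular p M) {x : G} (hx : orderOf x = p)
    (hsq : ¬ p ^ 2 ∣ Nat.card G) :
    ∃ (f : ℕ) (X Y : Finset (IrrCharacter G)) (εX : IrrCharacter G → ℤ) (ε : ℤ),
      (Subgroup.centralizer ((Subgroup.zpowers x : Subgroup G) : Set G)).relIndex
        (Subgroup.normalizer ((Subgroup.zpowers x : Subgroup G) : Set G)) = f ∧ f ∣ p - 1 ∧
      BlockData (deg (G := G)) p f X Y εX ε ∧ (∀ χ, χ ∈ X ∪ Y ↔ χ ∈ principalBlock M G) ∧
      (∀ χ ∈ X, ∀ k : ℕ, ¬ p ∣ k → ∀ y : G, y * x = x * y → ¬ p ∣ orderOf y →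
        (χ : G → ℂ) (x ^ k * y) = (εX χ : ℂ)) ∧
      (∀ θ ∈ Y, ∀ g : G, ¬ p ∣ orderOf g →
        (ε : ℂ) * (θ : G → ℂ) g = ∑ χ ∈ X, (εX χ : ℂ) * (χ : G → ℂ) g) := by
  classical
  have hp : p.Prime := Fact.out
  have : Fintype (Subgroup.centralizer ((Subgroup.zpowers x : Subgroup G) : Set G)) :=
    Fintype.ofFinite _
  obtain ⟨_, Xs, Ys, hB, hdisj, hcX, hcY, εX, ε, hX, hε, hYdeg, hYeq, hYrel⟩ :=
    d1_principal p M hM (Subgroup.zpowers x) x hx rfl hsq _ rfl
  have ctx := d1_principal_ctx (M := M) hM hx hsq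
  have hfdvd : (Subgroup.centralizer ((Subgroup.zpowers x : Subgroup G) : Set G)).relIndex
      (Subgroup.normalizer ((Subgroup.zpowers x : Subgroup G) : Set G)) ∣ p - 1 := by
    have h1 := ctx.e_dvd
    rw [ctx.e_eq_of_triv] at h1
    exact h1
  have hp1 : ¬ p ∣ orderOf (1 : G) := by
    rw [orderOf_one]
    exact fun h => hp.one_lt.ne' (Nat.dvd_one.1 h)
  refine ⟨_, Xs.toFinset, Ys.toFinset, εX, ε, rfl, hfdvd, ⟨?_, ?_, ?_, ?_, hε, ?_, ?_, ?_⟩,
    ?_, ?_, ?_⟩
  · exact Set.disjoint_toFinset.2 hdisj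
  · rw [Set.toFinset_card, ← Nat.card_eq_fintype_card, hcX]
  · rw [Set.toFinset_card, ← Nat.card_eq_fintype_card, hcY]
  · intro χ hχ
    rw [Set.mem_toFinset] at hχ
    exact ⟨(hX χ hχ).1, (hX χ hχ).2.1⟩
  · intro θ hθ
    rw [Set.mem_toFinset] at hθ
    exact hYdeg θ hθ
  · intro θ hθ θ' hθ'
    rw [Set.mem_toFinset] at hθ hθ'
    have h1 := hYeq θ hθ θ' hθ' 1 hp1
    unfold deg charDegree
    rw [h1]
  · intro θ hθ
    rw [Set.mem_toFinset] at hθ
    have h1 := hYrel θ hθ 1 hp1
    rw [finsum_mem_eq_toFinset_sum, deg_cast] at h1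
    have h2 : ∑ χ ∈ Xs.toFinset, (εX χ : ℂ) * (χ : G → ℂ) 1 =
        ∑ χ ∈ Xs.toFinset, (εX χ : ℂ) * (deg χ : ℂ) :=
      Finset.sum_congr rfl fun χ _ => by rw [deg_cast]
    rw [h2] at h1
    exact_mod_cast h1
  · intro χ
    rw [Finset.mem_union, Set.mem_toFinset, Set.mem_toFinset, hB, Set.mem_union]
  · intro χ hχ k hk y hyx hy
    rw [Set.mem_toFinset] at hχ
    apply (hX χ hχ).2.2 (x ^ k) (Subgroup.pow_mem _ (Subgroup.mem_zpowers x) k) _ y
      ((d1_mem_centralizer_zpowers x y).2 hyx) hy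
    intro h
    apply hk
    rw [← hx]
    exact orderOf_dvd_of_pow_eq_one h
  · intro θ hθ g hg
    rw [Set.mem_toFinset] at hθ
    rw [hYrel θ hθ g hg, finsum_mem_eq_toFinset_sum]

end Bridge

end Cfsg.Agent.Lib.Helper1.O7920
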