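import Mathlib
import Cfsg.Prelude.Def_Blocks
import Cfsg.Prelude.Def_BlockRank
import Cfsg.Agent.Lib.Helper1.O7920e

/-!
# Simple groups of order 7920: the prime 11 (part f)
-/

set_option autoImplicit false
set_option linter.unusedSectionVars false

namespace Cfsg.Agent.Lib.Helper1.O7920

open Cfsg Cfsg.Agent.Lib.Helper8 Cfsg.Agent.Lib.Helper1 Cfsg.Agent.Lib.Helper4
open scoped ComplexConjugate

universe u

theorem factorization_eq_one {n p : ℕ} (hp : p.Prime) (hn : n ≠ 0) (h1 : p ∣ n)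
    (h2 : ¬ p ^ 2 ∣ n) : n.factorization p = 1 := by
  have h3 : 1 ≤ n.factorization p := (hp.dvd_iff_one_le_factorization hn).1 h1
  have h4 : ¬ 2 ≤ n.factorization p := fun h => h2 ((hp.pow_dvd_iff_le_factorization hn).2 h)
  omega

section

variable {G : Type u} [Group G] [Fintype G]

/-- the centralizer of a self-centralizing element -/
theorem centralizer_eq_zpowers {x : G} (hself : ∀ t : G, t * x = x * t → t ∈ Subgroup.zpowers x) :
    Subgroup.centralizer ((Subgroup.zpowers x : Subgroup G) : Set G) = Subgroup.zpowers x := by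
  ext t
  rw [d1_mem_centralizer_zpowers]
  constructor
  · exact hself t
  · intro ht
    obtain ⟨i, rfl⟩ := Subgroup.mem_zpowers_iff.1 ht
    exact (Commute.zpow_left (Commute.refl x) i).eq

/-- the Sylow subgroup generated by an element of prime order when `p²` does not divide `|G|` -/
theorem exists_sylow_zpowers {p : ℕ} [Fact p.Prime] {x : G} (hx : orderOf x = p)
    (hsq : ¬ p ^ 2 ∣ Nat.card G) : ∃ P : Sylow p G, (P : Subgroup G) = Subgroup.zpowers x := by
  have hp : p.Prime := Fact.out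
  have hdiv : p ∣ Nat.card G := by
    rw [← hx]
    exact orderOf_dvd_natCard x
  have hfac := factorization_eq_one hp Nat.card_pos.ne' hdiv hsq
  exact ⟨Sylow.ofCard (Subgroup.zpowers x) (by rw [Nat.card_zpowers, hx, hfac, pow_one]), rfl⟩

/-- the Sylow equation: `n_p * f * |C| = |G|`, `n_p ≡ 1 (mod p)` -/
theorem sylow_equation {p : ℕ} [Fact p.Prime] {x : G} (hx : orderOf x = p)
    (hsq : ¬ p ^ 2 ∣ Nat.card G) :
    ∃ n : ℕ, n % p = 1 ∧ n * ((Subgroup.centralizer ((Subgroup.zpowers x : Subgroup G) : Set G)).relIndex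
        (Subgroup.normalizer ((Subgroup.zpowers x : Subgroup G) : Set G)) *
      Nat.card (Subgroup.centralizer ((Subgroup.zpowers x : Subgroup G) : Set G))) = Nat.card G := by
  have hp : p.Prime := Fact.out
  obtain ⟨P, hP⟩ := exists_sylow_zpowers hx hsq
  refine ⟨Nat.card (Sylow p G), ?_, ?_⟩
  · have h1 := card_sylow_modEq_one p G
    unfold Nat.ModEq at h1
    rw [h1, Nat.mod_eq_of_lt hp.one_lt]
  · rw [relIndex_mul_card' (Subgroup.centralizer_le_normalizer _), ← hP]
    exact card_sylow_mul_card_normalizer P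

/-- Burnside: the index `f` is not one in a simple group -/
theorem relIndex_ne_one [IsSimpleGroup G] {p : ℕ} [Fact p.Prime] {x : G} (hx : orderOf x = p)
    (hsq : ¬ p ^ 2 ∣ Nat.card G) (hne : Nat.card G ≠ p) :
    (Subgroup.centralizer ((Subgroup.zpowers x : Subgroup G) : Set G)).relIndex
      (Subgroup.normalizer ((Subgroup.zpowers x : Subgroup G) : Set G)) ≠ 1 := by
  intro h
  rw [Subgroup.relIndex_eq_one] at h
  obtain ⟨P, hP⟩ := exists_sylow_zpowers hx hsq
  have hdiv : p ∣ Nat.card G := by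
    rw [← hx]
    exact orderOf_dvd_natCard x
  apply not_normalizer_le_centralizer P hdiv
  · rw [hP, Nat.card_zpowers, hx]
    exact hne
  · rw [hP]
    exact h


variable [IsSimpleGroup G] [Fintype (IrrCharacter G)] [DecidableEq (IrrCharacter G)]

/-- **The prime 11**: elements of order 11 are self-centralizing, `|N : C| = 5`, and the principal
block is described by `BlockData` with `f = 5`. -/
theorem eleven_data (hG : Nat.card G = 7920) {M : Ideal AlgInt} (hM : IsPModular 11 M) {x : G}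
    (hx : orderOf x = 11) :
    (∀ t : G, t * x = x * t → t ∈ Subgroup.zpowers x) ∧
    ∃ (X Y : Finset (IrrCharacter G)) (εX : IrrCharacter G → ℤ) (ε : ℤ),
      BlockData (deg (G := G)) 11 5 X Y εX ε ∧ (∀ χ, χ ∈ X ∪ Y ↔ χ ∈ principalBlock M G) ∧
      (∀ θ ∈ Y, ∀ g : G, ¬ 11 ∣ orderOf g →
        (ε : ℂ) * (θ : G → ℂ) g = ∑ χ ∈ X, (εX χ : ℂ) * (χ : G → ℂ) g) := by
  have : Fact (Nat.Prime 11) := ⟨by norm_num⟩
  have hMp := isPModular_isPrime hM
  have hsq : ¬ 11 ^ 2 ∣ Nat.card G := by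
    rw [hG]
    norm_num
  obtain ⟨f, X, Y, εX, ε, hf, hfdvd, bd, hmem, hval, hrel⟩ := exists_blockData 11 hM hx hsq
  have dd := degData hG
  have ht0 : trivIrr G ∈ X ∪ Y := (hmem _).2 (trivIrr_mem_principalBlock hMp.ne_top)
  have hf1 : f ≠ 1 := by
    rw [← hf]
    exact relIndex_ne_one hx hsq (by rw [hG]; norm_num)
  have hf' : f = 2 ∨ f = 5 ∨ f = 10 := by
    have h1 : f ∣ 10 := hfdvd
    have h2 : f ≤ 10 := Nat.le_of_dvd (by norm_num) h1
    have h3 : 0 < f := Nat.pos_of_dvd_of_pos h1 (by norm_num)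
    interval_cases f <;> omega
  obtain ⟨χ, hχX, hχ10, hχε⟩ := bd.main11 dd hf' ht0
  have hχ1 : (χ : G → ℂ) 1 = 10 := by
    rw [deg_cast, hχ10]
    norm_num
  have hself : ∀ t : G, t * x = x * t → t ∈ Subgroup.zpowers x := by
    apply mem_zpowers_of_comm hx hsq
    intro q y hq hq11 hy hyx
    apply no_comm_of_neg_one hx χ.2 hχ1 _ q y hq hq11 hy hyx
    intro k hk y' hy'x hy'
    rw [hval χ hχX k hk y' hy'x hy', hχε]
    norm_num
  refine ⟨hself, ?_⟩
  have hf5 : f = 5 := by
    obtain ⟨n, hn1, hn2⟩ := sylow_equation hx hsq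
    rw [hf, centralizer_eq_zpowers hself, Nat.card_zpowers, hx, hG] at hn2
    rcases hf' with h | h | h <;> rw [h] at hn2 <;> omega
  subst hf5
  exact ⟨X, Y, εX, ε, bd, hmem, hrel⟩

end

end Cfsg.Agent.Lib.Helper1.O7920
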