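import Mathlib
import Cfsg.Agent.Lib.Helper1.O7920f

/-!
# Brauer–Reynolds (`|G| < p³`): group-theoretic preliminaries
-/

set_option autoImplicit false
set_option linter.unusedSectionVars false

namespace Cfsg.Agent.Lib.Helper1.BR

open Cfsg Cfsg.Agent.Lib.Helper8 Cfsg.Agent.Lib.Helper1 Cfsg.Agent.Lib.Helper4
open Cfsg.Agent.Lib.Helper1.O7920

universe u

section

variable {G : Type u} [Group G] [Finite G] [IsSimpleGroup G]

theorem not_prime_card (hG : ¬ IsCyclic G) : ¬ (Nat.card G).Prime := by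
  intro h
  have : Fact (Nat.card G).Prime := ⟨h⟩
  exact hG (isCyclic_of_prime_card rfl)

theorem comm_false (hG : ¬ IsCyclic G) (h : ∀ a b : G, a * b = b * a) : False := by
  let _ : CommGroup G := { (inferInstance : Group G) with mul_comm := h }
  exact not_prime_card hG (IsSimpleGroup.prime_card (α := G))

theorem sylow_not_normal (hG : ¬ IsCyclic G) {p : ℕ} [Fact p.Prime] (hdvd : p ∣ Nat.card G)
    (P : Sylow p G) : ¬ (P : Subgroup G).Normal := by
  intro hn
  rcases hn.eq_bot_or_eq_top with h | h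
  · exact P.ne_bot_of_dvd_card hdvd h
  · have hpg : IsPGroup p G := by
      have h1 := P.card_eq_multiplicity
      rw [h, Subgroup.card_top] at h1
      exact IsPGroup.of_card h1
    have := hpg.isNilpotent
    have hsolv : Group.IsSolvable G := inferInstance
    exact comm_false hG (IsSimpleGroup.comm_iff_isSolvable.2 hsolv)

theorem card_sylow_ne_one (hG : ¬ IsCyclic G) {p : ℕ} [Fact p.Prime] (hdvd : p ∣ Nat.card G) :
    Nat.card (Sylow p G) ≠ 1 := by
  intro h
  obtain ⟨P⟩ : Nonempty (Sylow p G) := inferInstance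
  apply sylow_not_normal hG hdvd P
  rw [P.card_eq_index_normalizer, Subgroup.index_eq_one] at h
  exact Subgroup.normalizer_eq_top_iff.1 h

/-- the number of Sylow subgroups is `1 + n p` with `n ≥ 1` -/
theorem exists_card_sylow (hG : ¬ IsCyclic G) {p : ℕ} [Fact p.Prime] (hdvd : p ∣ Nat.card G) :
    ∃ n : ℕ, 1 ≤ n ∧ Nat.card (Sylow p G) = 1 + n * p := by
  have hp : p.Prime := Fact.out
  have h1 := card_sylow_modEq_one p G
  have h2 := card_sylow_ne_one hG hdvd
  have h3 : 0 < Nat.card (Sylow p G) := Nat.card_pos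
  have h4 : Nat.card (Sylow p G) % p = 1 := by
    unfold Nat.ModEq at h1
    rw [h1, Nat.mod_eq_of_lt hp.one_lt]
  refine ⟨Nat.card (Sylow p G) / p, ?_, ?_⟩
  · by_contra hcon
    have h5 : Nat.card (Sylow p G) / p = 0 := by
      push Not at hcon
      exact Nat.lt_one_iff.1 hcon
    have h6 := Nat.div_add_mod (Nat.card (Sylow p G)) p
    rw [h5, h4] at h6
    omega
  · have h6 := Nat.div_add_mod (Nat.card (Sylow p G)) p
    rw [h4] at h6
    rw [mul_comm] at h6
    omega

/-- `p²` does not divide the order -/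
theorem not_sq_dvd (hG : ¬ IsCyclic G) {p : ℕ} [Fact p.Prime] (hdvd : p ∣ Nat.card G)
    (hbig : Nat.card G < p ^ 3) : ¬ p ^ 2 ∣ Nat.card G := by
  have hp : p.Prime := Fact.out
  intro hsq
  obtain ⟨P⟩ : Nonempty (Sylow p G) := inferInstance
  obtain ⟨n, hn1, hn⟩ := exists_card_sylow hG hdvd
  have h1 := card_sylow_mul_card_normalizer P
  have h2 : p ^ 2 ∣ Nat.card (P : Subgroup G) := by
    rw [P.card_eq_multiplicity]
    exact pow_dvd_pow p ((hp.pow_dvd_iff_le_factorization Nat.card_pos.ne').1 hsq)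
  have h3 : Nat.card (P : Subgroup G) ∣
      Nat.card (Subgroup.normalizer ((P : Subgroup G) : Set G)) :=
    Subgroup.card_dvd_of_le Subgroup.le_normalizer
  have h4 : p ^ 2 ≤ Nat.card (Subgroup.normalizer ((P : Subgroup G) : Set G)) :=
    Nat.le_of_dvd Nat.card_pos (h2.trans h3)
  rw [hn] at h1
  have h5 : (1 + n * p) * p ^ 2 ≤ Nat.card G := by
    rw [← h1]
    exact Nat.mul_le_mul_left _ h4
  have h6 : p ^ 3 ≤ (1 + n * p) * p ^ 2 := by
    have : p ≤ 1 + n * p := by nlinarith
    calc p ^ 3 = p * p ^ 2 := by ring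
      _ ≤ (1 + n * p) * p ^ 2 := Nat.mul_le_mul_right _ this
  omega

/-- **The numerical set-up.** -/
theorem setup (hG : ¬ IsCyclic G) {p : ℕ} [Fact p.Prime] (hdvd : p ∣ Nat.card G)
    (hbig : Nat.card G < p ^ 3) {x : G} (hx : orderOf x = p) :
    ∃ q k n : ℕ, 2 ≤ q ∧ 1 ≤ k ∧ 1 ≤ n ∧
      (Subgroup.centralizer ((Subgroup.zpowers x : Subgroup G) : Set G)).relIndex
        (Subgroup.normalizer ((Subgroup.zpowers x : Subgroup G) : Set G)) = q ∧
      Nat.card (Subgroup.centralizer ((Subgroup.zpowers x : Subgroup G) : Set G)) = p * k ∧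
      Nat.card (Sylow p G) = 1 + n * p ∧
      Nat.card G = (1 + n * p) * p * (q * k) ∧ q * k * n ≤ p - 1 := by
  classical
  have hp : p.Prime := Fact.out
  have : Fintype G := Fintype.ofFinite G
  have hsq := not_sq_dvd hG hdvd hbig
  have hne : Nat.card G ≠ p := fun h => not_prime_card hG (h ▸ hp)
  obtain ⟨n, hn1, hn⟩ := exists_card_sylow hG hdvd
  obtain ⟨P, hP⟩ := exists_sylow_zpowers hx hsq
  have h1 := card_sylow_mul_card_normalizer P
  rw [hP, ← relIndex_mul_card' (Subgroup.centralizer_le_normalizer _), hn] at h1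
  have hq1 := relIndex_ne_one hx hsq hne
  set q := (Subgroup.centralizer ((Subgroup.zpowers x : Subgroup G) : Set G)).relIndex
        (Subgroup.normalizer ((Subgroup.zpowers x : Subgroup G) : Set G)) with hq
  have hq0 : q ≠ 0 := by
    intro h0
    rw [h0, zero_mul, mul_zero] at h1
    exact Nat.card_pos.ne' h1.symm
  have hzC : Subgroup.zpowers x ≤
      Subgroup.centralizer ((Subgroup.zpowers x : Subgroup G) : Set G) := by
    intro t ht
    rw [d1_mem_centralizer_zpowers]
    obtain ⟨i, rfl⟩ := Subgroup.mem_zpowers_iff.1 ht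
    exact (Commute.zpow_left (Commute.refl x) i).eq
  have hpC : p ∣ Nat.card (Subgroup.centralizer ((Subgroup.zpowers x : Subgroup G) : Set G)) := by
    have := Subgroup.card_dvd_of_le hzC
    rwa [Nat.card_zpowers, hx] at this
  obtain ⟨k, hk⟩ := hpC
  have hk1 : 1 ≤ k := by
    rcases Nat.eq_zero_or_pos k with h0 | h0
    · rw [h0, mul_zero] at hk
      exact absurd hk Nat.card_pos.ne'
    · exact h0
  rw [hk] at h1
  have hcard : Nat.card G = (1 + n * p) * p * (q * k) := by
    rw [← h1]
    ring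
  refine ⟨q, k, n, by omega, hk1, hn1, rfl, hk, hn, hcard, ?_⟩
  rw [hcard] at hbig
  have h2 : q * k * n < p := by
    by_contra hcon
    push Not at hcon
    have : p ^ 3 ≤ (1 + n * p) * p * (q * k) := by
      calc p ^ 3 = p * p * p := by ring
        _ ≤ (q * k * n) * p * p := by
          apply Nat.mul_le_mul_right
          exact Nat.mul_le_mul_right _ hcon
        _ ≤ (1 + n * p) * p * (q * k) := by nlinarith
    omega
  omega

end

end Cfsg.Agent.Lib.Helper1.BR
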