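import Mathlib
import Cfsg.Agent.Lib.Helper1.O7920d

/-!
# Brauer–Reynolds (`|G| < p³`): the arithmetic of the principal block
-/

set_option autoImplicit false
set_option linter.unusedSectionVars false

namespace Cfsg.Agent.Lib.Helper1.BR

open Cfsg.Agent.Lib.Helper1.O7920


/-- degrees `≡ 1 (mod p)` dividing `w (1 + n p)` -/
theorem deg_one_mod {p w n D : ℕ} (hp : 2 ≤ p) (hw : 1 ≤ w) (hn : 1 ≤ n) (hwn : w * n ≤ p - 1)
    (hD : D ∣ w * (1 + n * p)) (hmod : D % p = 1) : D = 1 ∨ D = 1 + n * p := by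
  obtain ⟨D', hD'⟩ := hD
  obtain ⟨a, ha⟩ : ∃ a, D = p * a + 1 := ⟨D / p, by have := Nat.div_add_mod D p; omega⟩
  have hwp : w < p := by
    have : w * 1 ≤ w * n := Nat.mul_le_mul_left _ hn
    omega
  rcases Nat.eq_zero_or_pos a with h0 | h0
  · left
    rw [ha, h0, mul_zero]
  · right
    have hDp : p ≤ D := by nlinarith
    have hD'lt : D' < p := by
      by_contra hcon
      push Not at hcon
      have h1 : p * p ≤ D * D' := Nat.mul_le_mul hDp hcon
      have h2 : w * n * p ≤ (p - 1) * p := Nat.mul_le_mul_right _ hwn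
      have h3 : (p - 1) * p + p = p * p := by
        have : p - 1 + 1 = p := by omega
        nlinarith
      nlinarith
    have hkey : ((D' : ℤ) - w) = p * ((w : ℤ) * n - a * D') := by
      have : ((w * (1 + n * p) : ℕ) : ℤ) = ((D * D' : ℕ) : ℤ) := by rw [hD']
      rw [ha] at this
      push_cast at this
      linarith
    have hzero : (D' : ℤ) - w = 0 := by
      apply Int.eq_zero_of_abs_lt_dvd (m := (p : ℤ)) ⟨_, hkey⟩
      rw [abs_lt]
      constructor <;> omega
    have hD'w : D' = w := by omega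
    rw [hD'w] at hD'
    have := Nat.eq_of_mul_eq_mul_left hw (by rw [hD']; ring : w * (1 + n * p) = w * D)
    exact this.symm

/-- degrees `≡ -1 (mod p)` dividing `w (1 + n p)` -/
theorem deg_neg_one_mod {p w n D : ℕ} (hp : 3 ≤ p) (hw : 1 ≤ w) (hn : 2 ≤ n)
    (hwn : w * n ≤ p - 1) (hD : D ∣ w * (1 + n * p)) (hmod : D % p = p - 1) :
    D = p - 1 ∧ w * (n + 1) = p - 1 := by
  obtain ⟨D', hD'⟩ := hD
  obtain ⟨b, hb1, hb⟩ : ∃ b, 1 ≤ b ∧ D + 1 = p * b :=
    ⟨D / p + 1, Nat.le_add_left 1 _, by have := Nat.div_add_mod D p; rw [mul_add]; omega⟩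
  have hD'pos : 1 ≤ D' := by
    rcases Nat.eq_zero_or_pos D' with h | h
    · rw [h, mul_zero] at hD'
      have : 0 < w * (1 + n * p) := by positivity
      omega
    · exact h
  have hDz : (D : ℤ) = p * b - 1 := by
    have : ((D + 1 : ℕ) : ℤ) = ((p * b : ℕ) : ℤ) := by rw [hb]
    push_cast at this
    linarith
  have hprod : (w : ℤ) * (1 + n * p) = (p * b - 1) * D' := by
    have : ((w * (1 + n * p) : ℕ) : ℤ) = ((D * D' : ℕ) : ℤ) := by rw [hD']
    push_cast at this
    rw [hDz] at this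
    exact this
  -- D' + w = p * c
  obtain ⟨c, hc⟩ : ∃ c : ℤ, (D' : ℤ) + w = p * c := ⟨(b : ℤ) * D' - w * n, by linarith⟩
  have hc1 : 1 ≤ c := by
    by_contra hcon
    push Not at hcon
    have h1 : c ≤ 0 := by omega
    have h2 : (p : ℤ) * c ≤ 0 := by
      have : (0 : ℤ) ≤ p := by positivity
      nlinarith
    omega
  have hwn' : (w : ℤ) * n ≤ p - 1 := by
    have : ((w * n : ℕ) : ℤ) ≤ ((p - 1 : ℕ) : ℤ) := by exact_mod_cast hwn
    push_cast at this
    have h3 : ((p - 1 : ℕ) : ℤ) = (p : ℤ) - 1 := by omega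
    linarith
  have hp' : (3 : ℤ) ≤ p := by exact_mod_cast hp
  have hw' : (1 : ℤ) ≤ w := by exact_mod_cast hw
  have hn' : (2 : ℤ) ≤ n := by exact_mod_cast hn
  have hb' : (1 : ℤ) ≤ b := by exact_mod_cast hb1
  have hD'' : (1 : ℤ) ≤ D' := by exact_mod_cast hD'pos
  -- main identity: p b c = b w + c + w n
  have hmain : (p : ℤ) * b * c = b * w + c + w * n := by
    have hD'eq : (D' : ℤ) = p * c - w := by linarith
    rw [hD'eq] at hprod
    have h1 : (p : ℤ) * (p * b * c - b * w - c - w * n) = 0 := by linarith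
    rcases mul_eq_zero.1 h1 with h | h
    · omega
    · linarith
  have h2w : 2 * (w : ℤ) ≤ p - 1 := by nlinarith
  have hb_eq : b = 1 := by
    by_contra hcon
    have hb2 : (2 : ℤ) ≤ b := by
      have : 2 ≤ b := by omega
      exact_mod_cast this
    -- b (p c - w) - c = w n ≤ p - 1
    have hD'eq : (D' : ℤ) = p * c - w := by linarith
    have h3 : (b : ℤ) * D' ≥ 2 * D' := by nlinarith
    have h4 : (b : ℤ) * D' - c = w * n := by rw [hD'eq]; linarith
    have h5 : (2 * (p : ℤ) - 1) * c ≥ 2 * p - 1 := by nlinarith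
    nlinarith
  have hbz : (b : ℤ) = 1 := by exact_mod_cast hb_eq
  rw [hbz] at hmain
  have h3 : ((p : ℤ) - 1) * c = w * (n + 1) := by linarith
  have hc_eq : c = 1 := by
    by_contra hcon
    have hc2 : 2 ≤ c := by omega
    nlinarith
  rw [hc_eq] at h3
  constructor
  · rw [hb_eq] at hb
    omega
  · have h3 : (w : ℤ) * (n + 1) = p - 1 := by linarith
    have h4 : ((w * (n + 1) : ℕ) : ℤ) = ((p - 1 : ℕ) : ℤ) := by
      push_cast
      have : ((p - 1 : ℕ) : ℤ) = (p : ℤ) - 1 := by omega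
      rw [this]
      linarith
    exact_mod_cast h4



theorem int_dvd_of_prime {p q : ℕ} (hp : p.Prime) (hq1 : 1 ≤ q) (hqp : q < p) {z : ℤ}
    (h : (p : ℤ) ∣ q * z) : (p : ℤ) ∣ z := by
  have hp' : Prime (p : ℤ) := Nat.prime_iff_prime_int.1 hp
  rcases hp'.dvd_or_dvd h with h1 | h1
  · exfalso
    have h2 : p ∣ q := by exact_mod_cast h1
    have := Nat.le_of_dvd (by omega) h2
    omega
  · exact h1

/-- degrees `≡ q (mod p)` dividing `q k (1 + n p)` -/
theorem deg_q_mod {p q k n f : ℕ} (hp : p.Prime) (hq : 1 ≤ q) (hk : 1 ≤ k) (hn : 1 ≤ n)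
    (hwn : q * k * n ≤ p - 1) (hf : f ∣ q * k * (1 + n * p)) (hmod : f % p = q) :
    f = q ∨ f = q * (1 + n * p) := by
  obtain ⟨f', hf'⟩ := hf
  have hp2 := hp.two_le
  obtain ⟨a, ha⟩ : ∃ a, f = p * a + q := ⟨f / p, by have := Nat.div_add_mod f p; omega⟩
  have hqk : q * k < p := by
    have : q * k * 1 ≤ q * k * n := Nat.mul_le_mul_left _ hn
    omega
  have hqp : q < p := by
    have : q * 1 ≤ q * k := Nat.mul_le_mul_left _ hk
    omega
  have hkp : k < p := by
    have : 1 * k ≤ q * k := Nat.mul_le_mul_right _ hq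
    omega
  rcases Nat.eq_zero_or_pos a with h0 | h0
  · left
    rw [ha, h0, mul_zero, zero_add]
  · right
    have hfp : p ≤ f := by nlinarith
    have hf'lt : f' < p := by
      by_contra hcon
      push Not at hcon
      have h1 : p * p ≤ f * f' := Nat.mul_le_mul hfp hcon
      have h2 : q * k * n * p ≤ (p - 1) * p := Nat.mul_le_mul_right _ hwn
      have h3 : (p - 1) * p + p = p * p := by
        have : p - 1 + 1 = p := by omega
        nlinarith
      nlinarith
    have hkey : (q : ℤ) * ((f' : ℤ) - k) = p * ((q : ℤ) * k * n - a * f') := by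
      have : ((q * k * (1 + n * p) : ℕ) : ℤ) = ((f * f' : ℕ) : ℤ) := by rw [hf']
      rw [ha] at this
      push_cast at this
      linarith
    have hdvd : (p : ℤ) ∣ (f' : ℤ) - k := int_dvd_of_prime hp hq hqp ⟨_, hkey⟩
    have hzero : (f' : ℤ) - k = 0 := by
      apply Int.eq_zero_of_abs_lt_dvd hdvd
      rw [abs_lt]
      constructor <;> omega
    have hf'k : f' = k := by omega
    rw [hf'k] at hf'
    have h5 : k * (q * (1 + n * p)) = k * f := by rw [mul_comm k f, ← hf']; ring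
    exact (Nat.eq_of_mul_eq_mul_left hk h5).symm

/-- degrees `≡ -q (mod p)` dividing `q k (1 + n p)` -/
theorem deg_neg_q_mod {p q k n f : ℕ} (hp : p.Prime) (hq : 2 ≤ q) (hk : 1 ≤ k) (hn : 2 ≤ n)
    (hwn : q * k * n ≤ p - 1) (hf : f ∣ q * k * (1 + n * p)) (hmod : f % p = p - q) :
    f = p - q ∧ ∃ c : ℤ, 1 ≤ c ∧ (p : ℤ) * c = q * k * n + k + q * c := by
  obtain ⟨f', hf'⟩ := hf
  have hp2 := hp.two_le
  have hqk : 2 * (q * k) ≤ p - 1 := by
    have : q * k * 2 ≤ q * k * n := Nat.mul_le_mul_left _ hn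
    omega
  have hqp : q < p := by
    have : q * 1 ≤ q * k := Nat.mul_le_mul_left _ hk
    omega
  obtain ⟨b, hb1, hb⟩ : ∃ b, 1 ≤ b ∧ f + q = p * b :=
    ⟨f / p + 1, Nat.le_add_left 1 _, by have := Nat.div_add_mod f p; rw [mul_add]; omega⟩
  have hf'pos : 1 ≤ f' := by
    rcases Nat.eq_zero_or_pos f' with h | h
    · rw [h, mul_zero] at hf'
      have : 0 < q * k * (1 + n * p) := by positivity
      omega
    · exact h
  have hfz : (f : ℤ) = p * b - q := by
    have : ((f + q : ℕ) : ℤ) = ((p * b : ℕ) : ℤ) := by rw [hb]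
    push_cast at this
    linarith
  have hprod : (q : ℤ) * k * (1 + n * p) = (p * b - q) * f' := by
    have : ((q * k * (1 + n * p) : ℕ) : ℤ) = ((f * f' : ℕ) : ℤ) := by rw [hf']
    push_cast at this
    rw [hfz] at this
    exact this
  have hkey : (q : ℤ) * ((f' : ℤ) + k) = p * ((b : ℤ) * f' - q * k * n) := by linarith
  obtain ⟨c, hc⟩ : (p : ℤ) ∣ (f' : ℤ) + k := int_dvd_of_prime hp (by omega) hqp ⟨_, hkey⟩
  have hc1 : 1 ≤ c := by
    by_contra hcon
    push Not at hcon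
    have h1 : c ≤ 0 := by omega
    have h2 : (p : ℤ) * c ≤ 0 := by
      have : (0 : ℤ) ≤ p := by positivity
      nlinarith
    omega
  have hwn' : (q : ℤ) * k * n ≤ p - 1 := by
    have : ((q * k * n : ℕ) : ℤ) ≤ ((p - 1 : ℕ) : ℤ) := by exact_mod_cast hwn
    push_cast at this
    have h3 : ((p - 1 : ℕ) : ℤ) = (p : ℤ) - 1 := by omega
    linarith
  have hqk' : 2 * ((q : ℤ) * k) ≤ p - 1 := by
    have : ((2 * (q * k) : ℕ) : ℤ) ≤ ((p - 1 : ℕ) : ℤ) := by exact_mod_cast hqk
    push_cast at this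
    have h3 : ((p - 1 : ℕ) : ℤ) = (p : ℤ) - 1 := by omega
    linarith
  have hp' : (2 : ℤ) ≤ p := by exact_mod_cast hp2
  have hq' : (2 : ℤ) ≤ q := by exact_mod_cast hq
  have hk' : (1 : ℤ) ≤ k := by exact_mod_cast hk
  have hn' : (2 : ℤ) ≤ n := by exact_mod_cast hn
  have hb' : (1 : ℤ) ≤ b := by exact_mod_cast hb1
  have hf'' : (1 : ℤ) ≤ f' := by exact_mod_cast hf'pos
  have hf'eq : (f' : ℤ) = p * c - k := by linarith
  have hmain : (p : ℤ) * b * c = b * k + q * c + q * k * n := by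
    rw [hf'eq] at hprod
    have h1 : (p : ℤ) * (p * b * c - b * k - q * c - q * k * n) = 0 := by linarith
    rcases mul_eq_zero.1 h1 with h | h
    · omega
    · linarith
  -- q + 2 k ≤ p
  have hqp' : (q : ℤ) < p := by exact_mod_cast hqp
  have hq2k : (q : ℤ) + 2 * k ≤ p := by
    nlinarith [mul_nonneg (sub_nonneg.2 hq') (sub_nonneg.2 hk')]
  have hb_eq : b = 1 := by
    by_contra hcon
    have hb2 : (2 : ℤ) ≤ b := by
      have : 2 ≤ b := by omega
      exact_mod_cast this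
    have h3 : 2 * (f' : ℤ) ≤ (b : ℤ) * f' :=
      mul_le_mul_of_nonneg_right hb2 (by linarith)
    have h4 : (b : ℤ) * f' - q * c = q * k * n := by rw [hf'eq]; linarith
    have h5 : (2 * (p : ℤ) - q) * 1 ≤ (2 * (p : ℤ) - q) * c :=
      mul_le_mul_of_nonneg_left hc1 (by linarith)
    have h6 : (2 * (p : ℤ) - q) * c = 2 * (p * c) - q * c := by ring
    linarith
  have hbz : (b : ℤ) = 1 := by exact_mod_cast hb_eq
  rw [hbz] at hmain
  constructor
  · rw [hb_eq] at hb
    omega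
  · exact ⟨c, hc1, by linarith⟩

/-- `k = 1` -/
theorem k_eq_one {p q k n : ℕ} (hq : 2 ≤ q) (hk : 1 ≤ k) (hw : q * k * (n + 1) = p - 1)
    (hp : 2 ≤ p) {c : ℤ} (hc1 : 1 ≤ c) (hc : (p : ℤ) * c = q * k * n + k + q * c) : k = 1 := by
  have hw' : (q : ℤ) * k * (n + 1) = p - 1 := by
    have : ((q * k * (n + 1) : ℕ) : ℤ) = ((p - 1 : ℕ) : ℤ) := by rw [hw]
    push_cast at this
    have h3 : ((p - 1 : ℕ) : ℤ) = (p : ℤ) - 1 := by omega
    linarith
  have hq' : (2 : ℤ) ≤ q := by exact_mod_cast hq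
  have hk' : (1 : ℤ) ≤ k := by exact_mod_cast hk
  have hqp : (q : ℤ) < p := by
    have h5 : q ≤ q * k * (n + 1) := by
      rw [mul_assoc]
      exact Nat.le_mul_of_pos_right q (by positivity)
    have h6 : q < p := by omega
    exact_mod_cast h6
  have h1 : ((p : ℤ) - q) * (c - 1) = -(((q : ℤ) - 1) * (k - 1)) := by linarith
  have h2 : 0 ≤ ((p : ℤ) - q) * (c - 1) := by
    apply mul_nonneg <;> omega
  have h3 : 0 ≤ ((q : ℤ) - 1) * (k - 1) := by
    apply mul_nonneg <;> omega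
  have h4 : ((q : ℤ) - 1) * (k - 1) = 0 := by omega
  rcases mul_eq_zero.1 h4 with h | h
  · omega
  · omega


section Structure

variable {ι : Type*} [Fintype ι] [DecidableEq ι] {D : ι → ℕ} {t0 : ι}
variable {X Y : Finset ι} {εX : ι → ℤ} {ε : ℤ}

theorem mod_of_modEq {p D r : ℕ} (hr : r < p) (h : (D : ℤ) ≡ (r : ℤ) [ZMOD p]) : D % p = r := by
  have h1 : D ≡ r [MOD p] := Int.natCast_modEq_iff.1 h
  unfold Nat.ModEq at h1
  rw [h1, Nat.mod_eq_of_lt hr]

theorem mod_of_modEq_neg {p D s : ℕ} (hs : 1 ≤ s) (hsp : s ≤ p)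
    (h : (D : ℤ) ≡ -(s : ℤ) [ZMOD p]) : D % p = p - s := by
  apply mod_of_modEq (by omega)
  have h2 : ((p - s : ℕ) : ℤ) = -(s : ℤ) + p := by
    rw [Nat.cast_sub hsp]
    ring
  rw [h2]
  exact h.trans (Int.add_emod_right _ _).symm

theorem sum_split {M : Type*} [AddCommMonoid M] (S : Finset ι) (P : ι → Prop) [DecidablePred P]
    (g : ι → M) (a b : M) (h1 : ∀ χ ∈ S, P χ → g χ = a) (h2 : ∀ χ ∈ S, ¬ P χ → g χ = b) :
    ∑ χ ∈ S, g χ = (S.filter P).card • a + (S.filter (fun χ => ¬ P χ)).card • b := by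
  rw [← Finset.sum_filter_add_sum_filter_not S P]
  congr 1
  · rw [Finset.sum_congr rfl (fun χ hχ => h1 χ (Finset.mem_filter.1 hχ).1
      (Finset.mem_filter.1 hχ).2), Finset.sum_const]
  · rw [Finset.sum_congr rfl (fun χ hχ => h2 χ (Finset.mem_filter.1 hχ).1
      (Finset.mem_filter.1 hχ).2), Finset.sum_const]

/-- **The structure of the principal block when `n ≥ 2`.** -/
theorem br_structure {p q k n : ℕ} (hp : p.Prime) (hq2 : 2 ≤ q) (hqd : q ∣ p - 1)
    (hk : 1 ≤ k) (hn : 2 ≤ n) (hwn : q * k * n ≤ p - 1)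
    (bd : BlockData D p q X Y εX ε)
    (hdvd : ∀ χ ∈ X ∪ Y, D χ ∣ q * k * (1 + n * p))
    (ht0 : t0 ∈ X ∪ Y) (hD0 : D t0 = 1) (huniq : ∀ χ, D χ = 1 → χ = t0)
    (hbrauer : ∀ θ, θ ≠ t0 → p ≤ 2 * D θ + 1) :
    k = 1 ∧ ε = -1 ∧ t0 ∈ X ∧ εX t0 = 1 ∧ (∀ θ ∈ Y, D θ = p - q) ∧
      (∀ χ ∈ X, χ ≠ t0 → (εX χ = 1 ∧ D χ = 1 + n * p) ∨ (εX χ = -1 ∧ D χ = p - 1)) ∧
      q * (n + 1) = p - 1 ∧
      ((X.erase t0).filter (fun χ => εX χ = 1)).card * (n + 1) + 2 = q := by
  have hp2 := hp.two_le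
  have hqk1 : 1 ≤ q * k := Nat.mul_pos (by omega) hk
  have hqkn4 : 2 * 1 * 2 ≤ q * k * n := Nat.mul_le_mul (Nat.mul_le_mul hq2 hk) hn
  have hp5 : 5 ≤ p := by omega
  have hqkn1 : q * k * 1 ≤ q * k * n := Nat.mul_le_mul_left _ (by omega)
  have hq_le : q * 1 ≤ q * k := Nat.mul_le_mul_left _ hk
  have hqp : q < p := by omega
  have h2qk : q * k * 2 ≤ q * k * n := Nat.mul_le_mul_left _ hn
  -- membership analysis
  have hX : ∀ χ ∈ X, (εX χ = 1 ∧ (D χ = 1 ∨ D χ = 1 + n * p)) ∨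
      (εX χ = -1 ∧ D χ = p - 1 ∧ q * k * (n + 1) = p - 1) := by
    intro χ hχ
    obtain ⟨hs, hm⟩ := bd.signX χ hχ
    have hd := hdvd χ (Finset.mem_union_left _ hχ)
    rcases hs with h | h
    · left
      rw [h] at hm
      have h3 : D χ % p = 1 := mod_of_modEq (by omega) (by exact_mod_cast hm)
      exact ⟨h, deg_one_mod hp2 hqk1 (by omega) hwn hd h3⟩
    · right
      rw [h] at hm
      have h3 : D χ % p = p - 1 := mod_of_modEq_neg (le_refl 1) (by omega) (by exact_mod_cast hm)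
      obtain ⟨h4, h5⟩ := deg_neg_one_mod (by omega) hqk1 hn hwn hd h3
      exact ⟨h, h4, h5⟩
  have ht0X : t0 ∈ X := by
    rcases Finset.mem_union.1 ht0 with h | h
    · exact h
    · exfalso
      have h1 := bd.degY t0 h
      rw [hD0] at h1
      rcases bd.signY with he | he
      · rw [he, one_mul] at h1
        have h2 : q % p = 1 := mod_of_modEq (by omega) (by exact_mod_cast h1.symm)
        rw [Nat.mod_eq_of_lt hqp] at h2
        omega
      · rw [he] at h1
        have h2 : 1 % p = p - q := mod_of_modEq_neg (by omega) (by omega)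
          (by rw [neg_one_mul] at h1; exact_mod_cast h1)
        rw [Nat.mod_eq_of_lt (by omega)] at h2
        omega
  have hε0 : εX t0 = 1 := by
    obtain ⟨hs, hm⟩ := bd.signX t0 ht0X
    rcases hs with h | h
    · exact h
    · exfalso
      rw [h, hD0] at hm
      have h2 : 1 % p = p - 1 := mod_of_modEq_neg (le_refl 1) (by omega) (by exact_mod_cast hm)
      rw [Nat.mod_eq_of_lt (by omega)] at h2
      omega
  have hX' : ∀ χ ∈ X, χ ≠ t0 → (εX χ = 1 ∧ D χ = 1 + n * p) ∨ (εX χ = -1 ∧ D χ = p - 1) := by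
    intro χ hχ hne
    rcases hX χ hχ with ⟨h1, h2 | h2⟩ | ⟨h1, h2, -⟩
    · exact absurd (huniq χ h2) hne
    · exact Or.inl ⟨h1, h2⟩
    · exact Or.inr ⟨h1, h2⟩
  set B := ((X.erase t0).filter (fun χ => εX χ = 1)).card with hB
  set C := ((X.erase t0).filter (fun χ => ¬ εX χ = 1)).card with hC
  have hBC : B + C = q - 1 := by
    rw [hB, hC, Finset.card_filter_add_card_filter_not, Finset.card_erase_of_mem ht0X,
      bd.cardX]
  have hsum : ∑ χ ∈ X, εX χ * D χ = 1 + (B : ℤ) * (1 + n * p) - (C : ℤ) * (p - 1) := by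
    rw [← Finset.add_sum_erase X _ ht0X, hε0, hD0]
    rw [sum_split (X.erase t0) (fun χ => εX χ = 1) (fun χ => εX χ * (D χ : ℤ))
      ((1 + n * p : ℕ) : ℤ) (-((p - 1 : ℕ) : ℤ))]
    · rw [← hB, ← hC]
      have h3 : ((p - 1 : ℕ) : ℤ) = (p : ℤ) - 1 := by omega
      rw [h3]
      push_cast
      simp only [nsmul_eq_mul]
      ring
    · intro χ hχ hP
      have hχX := Finset.mem_of_mem_erase hχ
      have hne := Finset.ne_of_mem_erase hχ
      rcases hX' χ hχX hne with ⟨h1, h2⟩ | ⟨h1, h2⟩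
      · rw [h1, h2, one_mul]
      · rw [h1] at hP
        norm_num at hP
    · intro χ hχ hP
      have hχX := Finset.mem_of_mem_erase hχ
      have hne := Finset.ne_of_mem_erase hχ
      rcases hX' χ hχX hne with ⟨h1, h2⟩ | ⟨h1, h2⟩
      · exact absurd h1 hP
      · rw [h1, h2]
        ring
  -- existence of a member with sign `-1` when `C ≥ 1`
  have hCpos : 1 ≤ C → q * k * (n + 1) = p - 1 := by
    intro h1
    have h2 : 0 < ((X.erase t0).filter (fun χ => ¬ εX χ = 1)).card := by rw [← hC]; omega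
    obtain ⟨χ, hχ⟩ := Finset.card_pos.1 h2
    obtain ⟨hχ1, hχ2⟩ := Finset.mem_filter.1 hχ
    rcases hX χ (Finset.mem_of_mem_erase hχ1) with ⟨h3, -⟩ | ⟨-, -, h3⟩
    · exact absurd h3 hχ2
    · exact h3
  -- the set `Y`
  have hYcard : 1 ≤ Y.card := by
    rw [bd.cardY]
    apply Nat.div_pos _ (by omega)
    exact Nat.le_of_dvd (by omega) hqd
  obtain ⟨θ0, hθ0⟩ := Finset.card_pos.1 hYcard
  have hθ0ne : θ0 ≠ t0 := by
    rintro rfl
    exact (Finset.disjoint_left.1 bd.disj ht0X) hθ0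
  have heqn := bd.eqn θ0 hθ0
  rw [hsum] at heqn
  have hd0 := hdvd θ0 (Finset.mem_union_right _ hθ0)
  have hdeg0 := bd.degY θ0 hθ0
  have hpz : (5 : ℤ) ≤ p := by exact_mod_cast hp5
  have hqz : (2 : ℤ) ≤ q := by exact_mod_cast hq2
  have hnz : (2 : ℤ) ≤ n := by exact_mod_cast hn
  have hBz : (0 : ℤ) ≤ B := by positivity
  have hCz : (0 : ℤ) ≤ C := by positivity
  have hBCz : (B : ℤ) + C = q - 1 := by
    have : ((B + C : ℕ) : ℤ) = ((q - 1 : ℕ) : ℤ) := by rw [hBC]
    push_cast at this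
    have h3 : ((q - 1 : ℕ) : ℤ) = (q : ℤ) - 1 := by omega
    linarith
  rcases bd.signY with he | he
  · -- ε = 1 is impossible
    exfalso
    rw [he, one_mul] at hdeg0 heqn
    have h2 : D θ0 % p = q := mod_of_modEq hqp hdeg0
    rcases deg_q_mod hp (by omega) hk (by omega) hwn hd0 h2 with h3 | h3
    · -- degree q: Brauer's bound
      have h4 := hbrauer θ0 hθ0ne
      rw [h3] at h4
      have hk1 : k = 1 := by
        have h5 : q * k ≤ q * 1 := by omega
        have := Nat.le_of_mul_le_mul_left h5 (by omega)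
        omega
      subst hk1
      have hn2 : n = 2 := by
        have h5 : q * 1 * n ≤ q * 1 * 2 := by omega
        have := Nat.le_of_mul_le_mul_left h5 (by omega)
        omega
      subst hn2
      have hpq : p - 1 = 2 * q := by omega
      have hC0 : C = 0 := by
        by_contra hcon
        have := hCpos (by omega)
        omega
      have hBq : (B : ℤ) = q - 1 := by
        rw [hC0] at hBCz
        push_cast at hBCz
        linarith
      rw [hC0, h3, hBq] at heqn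
      push_cast at heqn
      have h6 : ((q : ℤ) - 1) * (2 * p) = 0 := by linarith
      rcases mul_eq_zero.1 h6 with h | h <;> omega
    · -- degree q (1 + n p)
      rw [h3] at heqn
      push_cast at heqn
      have h4 : (B : ℤ) * (1 + n * p) ≤ (q - 1) * (1 + n * p) := by
        apply mul_le_mul_of_nonneg_right (by linarith) (by positivity)
      have h5 : 0 ≤ (C : ℤ) * (p - 1) := mul_nonneg hCz (by linarith)
      have h6 : (0 : ℤ) < n * p := by positivity
      nlinarith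
  · -- ε = -1
    rw [he] at hdeg0 heqn
    have h2 : D θ0 % p = p - q := mod_of_modEq_neg (by omega) (by omega)
      (by rw [neg_one_mul] at hdeg0; exact hdeg0)
    obtain ⟨h3, c, hc1, hc⟩ := deg_neg_q_mod hp hq2 hk hn hwn hd0 h2
    rw [h3] at heqn
    have hpq : ((p - q : ℕ) : ℤ) = (p : ℤ) - q := by omega
    rw [hpq] at heqn
    have hC1 : 1 ≤ C := by
      by_contra hcon
      have hC0 : C = 0 := by omega
      rw [hC0] at heqn
      push_cast at heqn
      have h5 : 0 ≤ (B : ℤ) * (1 + n * p) := mul_nonneg hBz (by positivity)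
      have : (q : ℤ) < p := by exact_mod_cast hqp
      linarith
    have hw := hCpos hC1
    have hk1 : k = 1 := k_eq_one hq2 hk hw hp2 hc1 hc
    subst hk1
    rw [mul_one] at hw
    have hBn : (p : ℤ) * ((B : ℤ) * (n + 1) + 2 - q) = 0 := by
      have hCeq : (C : ℤ) = q - 1 - B := by linarith
      rw [hCeq] at heqn
      linarith
    have hBn' : (B : ℤ) * (n + 1) + 2 = q := by
      rcases mul_eq_zero.1 hBn with h | h
      · omega
      · linarith
    refine ⟨rfl, he, ht0X, hε0, ?_, hX', hw, by exact_mod_cast hBn'⟩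
    intro θ hθ
    rw [bd.eqY θ hθ θ0 hθ0, h3]

end Structure

end Cfsg.Agent.Lib.Helper1.BR
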