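import Mathlib
import Cfsg.Prelude.Def_Blocks
import Cfsg.Prelude.Def_BlockRank
import Cfsg.Agent.Lib.Helper8.Sub10
import Cfsg.Agent.Lib.Helper8.BlockRank
import Cfsg.Agent.Lib.Helper8.BlockMinMax
import Cfsg.Agent.Lib.Helper4.GaloisTwist
import Cfsg.Agent.Lib.Helper1.CycloChar

/-!
# Galois conjugation and blocks of defect one (pieces G-a .. G-f for helper8)
-/

set_option autoImplicit false

namespace Cfsg.Agent.Lib.Helper1

open Cfsg Cfsg.Agent.Lib.Helper8
open scoped ComplexConjugate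

universe u

namespace D1G

/-- an automorphism fixing a primitive `n`-th root of unity fixes all `n`-th roots of unity -/
theorem fix_of_pow_eq_one (σ : ℂ ≃+* ℂ) {n : ℕ} (hn : n ≠ 0)
    (hσ : σ (Complex.exp (2 * Real.pi * Complex.I / (n : ℕ))) =
      Complex.exp (2 * Real.pi * Complex.I / (n : ℕ))) {c : ℂ} (hc : c ^ n = 1) : σ c = c := by
  have : NeZero n := ⟨hn⟩
  obtain ⟨i, _, rfl⟩ := (Complex.isPrimitiveRoot_exp n hn).eq_pow_of_pow_eq_one hc
  rw [map_pow, hσ]

/-- the `p'`-part of the group order -/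
theorem ordCompl_facts {G : Type u} [Group G] [Finite G] (p : ℕ) [Fact p.Prime] :
    (Nat.card G / p ^ (Nat.card G).factorization p) ≠ 0 ∧
      p.Coprime (Nat.card G / p ^ (Nat.card G).factorization p) ∧
      ∀ g : G, ¬ p ∣ orderOf g → orderOf g ∣ Nat.card G / p ^ (Nat.card G).factorization p := by
  have hp : p.Prime := Fact.out
  have hG0 : Nat.card G ≠ 0 := Nat.card_pos.ne'
  refine ⟨(Nat.ordCompl_pos p hG0).ne', Nat.coprime_ordCompl hp hG0, ?_⟩
  intro g hg
  have h1 : orderOf g ∣ Nat.card G := orderOf_dvd_natCard g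
  rw [← Nat.ordProj_mul_ordCompl_eq_self (Nat.card G) p] at h1
  have h2 : (orderOf g).Coprime (p ^ (Nat.card G).factorization p) :=
    Nat.Coprime.pow_right _ ((Nat.Prime.coprime_iff_not_dvd hp).2 hg).symm
  exact h2.dvd_of_dvd_mul_left h1

theorem pow_eq_pow_of_modEq {c : ℂ} {n a b : ℕ} (hc : c ^ n = 1) (h : a ≡ b [MOD n]) :
    c ^ a = c ^ b := by
  have h1 : ∀ k : ℕ, c ^ k = c ^ (k % n) := by
    intro k
    conv_lhs => rw [← Nat.mod_add_div k n, pow_add, pow_mul, hc, one_pow, mul_one]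
  rw [h1 a, h1 b, h]

end D1G

/-- (G-a) an automorphism fixing the `g'`-th roots of unity (`g'` the `p'`-part of `|G|`) fixes
the values of characters at `p`-regular elements. -/
theorem d1g_fix_pRegular {G : Type u} [Group G] [Finite G] (p : ℕ) [Fact p.Prime] (σ : ℂ ≃+* ℂ)
    (hσ : σ (Complex.exp (2 * Real.pi * Complex.I /
        ((Nat.card G / p ^ (Nat.card G).factorization p) : ℕ))) =
      Complex.exp (2 * Real.pi * Complex.I /
        ((Nat.card G / p ^ (Nat.card G).factorization p) : ℕ)))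
    (χ : IrrCharacter G) {g : G} (hg : ¬ p ∣ orderOf g) :
    σ ((χ : G → ℂ) g) = (χ : G → ℂ) g := by
  classical
  have : Fintype G := Fintype.ofFinite G
  obtain ⟨h0, _, hdvd⟩ := D1G.ordCompl_facts (G := G) p
  obtain ⟨ι', _, mult, c, hc, hsum⟩ :=
    character_pow_eq_sum (Cfsg.Agent.Lib.Helper4.isCharacter_of_irr χ.2) g
  have h1 := hsum 1
  rw [pow_one] at h1
  rw [h1, map_sum]
  refine Finset.sum_congr rfl fun j _ => ?_
  rw [map_mul, map_natCast, pow_one]
  congr 1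
  apply D1G.fix_of_pow_eq_one σ h0 hσ
  obtain ⟨d, hd⟩ := hdvd g hg
  rw [hd, pow_mul, hc j, one_pow]

/-- (G-c) such a Galois conjugate of a member of a `p`-block lies in the same block. -/
theorem d1g_twist_mem_block {G : Type u} [Group G] [Finite G] (p : ℕ) [Fact p.Prime]
    {M : Ideal AlgInt} (hM : IsPModular p M) {B : Set (IrrCharacter G)} (hB : IsPBlock M B)
    (σ : ℂ ≃+* ℂ)
    (hσ : σ (Complex.exp (2 * Real.pi * Complex.I /
        ((Nat.card G / p ^ (Nat.card G).factorization p) : ℕ))) =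
      Complex.exp (2 * Real.pi * Complex.I /
        ((Nat.card G / p ^ (Nat.card G).factorization p) : ℕ)))
    {χ ψ : IrrCharacter G} (hχ : χ ∈ B) (hψ : (ψ : G → ℂ) = fun g => σ ((χ : G → ℂ) g)) :
    ψ ∈ B := by
  classical
  have : Fintype G := Fintype.ofFinite G
  have hMp := isPModular_isPrime hM
  have hBeq := eq_blockOf_of_mem hMp hB hχ
  by_contra hψB
  have hns : ¬ SameBlock M (χ : G → ℂ) (ψ : G → ℂ) := by
    intro h
    apply hψB
    rw [hBeq]
    exact h
  have h1 := classInner_pRegularPart_eq_zero hM hns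
  unfold classInner at h1
  have hG0 : (Nat.card G : ℂ) ≠ 0 := Nat.cast_ne_zero.2 Nat.card_pos.ne'
  have h2 : ∑ g : G, pRegularPart p (χ : G → ℂ) g * conj ((ψ : G → ℂ) g) = 0 := by
    rcases mul_eq_zero.1 h1 with h | h
    · exact absurd (inv_eq_zero.1 h) hG0
    · exact h
  have h3 : ∀ g : G, pRegularPart p (χ : G → ℂ) g * conj ((ψ : G → ℂ) g) =
      ((Complex.normSq (pRegularPart p (χ : G → ℂ) g) : ℝ) : ℂ) := by
    intro g
    by_cases hg : p ∣ orderOf g
    · rw [pRegularPart_of_dvd _ hg, zero_mul, map_zero, Complex.ofReal_zero]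
    · rw [pRegularPart_of_not_dvd _ hg, hψ]
      show (χ : G → ℂ) g * conj (σ ((χ : G → ℂ) g)) = _
      rw [d1g_fix_pRegular p σ hσ χ hg, Complex.mul_conj]
  rw [Finset.sum_congr rfl (fun g _ => h3 g), ← Complex.ofReal_sum, Complex.ofReal_eq_zero] at h2
  have h4 := (Finset.sum_eq_zero_iff_of_nonneg (fun g _ => Complex.normSq_nonneg _)).1 h2 1
    (Finset.mem_univ _)
  rw [Complex.normSq_eq_zero, pRegularPart_of_not_dvd _ (by
    rw [orderOf_one]
    exact (Fact.out : p.Prime).one_lt.ne' ∘ Nat.dvd_one.1)] at h4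
  obtain ⟨n, hn, h5⟩ := Cfsg.Agent.Lib.Helper4.irr_apply_one_pos χ.2
  rw [h5] at h4
  have : n = 0 := by exact_mod_cast h4
  omega

/-- (G-d) every power map on the `p`-th roots of unity is realized by an automorphism fixing the
`g'`-th roots of unity. -/
theorem d1g_exists_pow {G : Type u} [Group G] [Finite G] (p : ℕ) [Fact p.Prime] (j : ℕ)
    (hj : ¬ p ∣ j) :
    ∃ σ : ℂ ≃+* ℂ, σ (Complex.exp (2 * Real.pi * Complex.I /
        ((Nat.card G / p ^ (Nat.card G).factorization p) : ℕ))) =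
      Complex.exp (2 * Real.pi * Complex.I /
        ((Nat.card G / p ^ (Nat.card G).factorization p) : ℕ)) ∧
      ∀ ζ : ℂ, ζ ^ p = 1 → σ ζ = ζ ^ j := by
  have hp : p.Prime := Fact.out
  obtain ⟨h0, hcop, _⟩ := D1G.ordCompl_facts (G := G) p
  set g' : ℕ := Nat.card G / p ^ (Nat.card G).factorization p with hg'
  obtain ⟨m, hm1, hm2⟩ := Nat.chineseRemainder hcop j 1
  have hmp : m.Coprime p := by
    have h1 : Nat.gcd m p = Nat.gcd j p := hm1.gcd_eq
    have h2 : Nat.gcd j p = 1 := ((Nat.Prime.coprime_iff_not_dvd hp).2 hj).symm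
    exact h1.trans h2
  have hmg : m.Coprime g' := by
    have h1 : Nat.gcd m g' = Nat.gcd 1 g' := hm2.gcd_eq
    rw [Nat.gcd_one_left] at h1
    exact h1
  have hn0 : p * g' ≠ 0 := mul_ne_zero hp.ne_zero h0
  have : NeZero (p * g') := ⟨hn0⟩
  obtain ⟨τ, hτ⟩ := Cfsg.Agent.Lib.Helper4.exists_complex_aut_pow (p * g') m
    (Nat.Coprime.mul_right hmp hmg)
  refine ⟨τ, ?_, ?_⟩
  · have hz : (Complex.exp (2 * Real.pi * Complex.I / (g' : ℕ))) ^ g' = 1 :=
      (Complex.isPrimitiveRoot_exp g' h0).pow_eq_one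
    have hz' : (Complex.exp (2 * Real.pi * Complex.I / (g' : ℕ))) ^ (p * g') = 1 := by
      rw [Nat.mul_comm p g', pow_mul, hz, one_pow]
    rw [hτ _ hz', D1G.pow_eq_pow_of_modEq hz hm2, pow_one]
  · intro ζ hζ
    have hζ' : ζ ^ (p * g') = 1 := by rw [pow_mul, hζ, one_pow]
    rw [hτ _ hζ', D1G.pow_eq_pow_of_modEq hζ hm1]

/-- (G-e) every automorphism acts on the `p`-th roots of unity as a power map. -/
theorem d1g_pow_of_aut (p : ℕ) [Fact p.Prime] (σ : ℂ ≃+* ℂ) :
    ∃ j : ℕ, ¬ p ∣ j ∧ ∀ ζ : ℂ, ζ ^ p = 1 → σ ζ = ζ ^ j := by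
  have hp : p.Prime := Fact.out
  have : NeZero p := ⟨hp.ne_zero⟩
  have hprim := Complex.isPrimitiveRoot_exp p hp.ne_zero
  set z : ℂ := Complex.exp (2 * Real.pi * Complex.I / (p : ℕ)) with hz
  have hprim' : IsPrimitiveRoot (σ z) p := hprim.map_of_injective σ.injective
  obtain ⟨j, _, hj⟩ := hprim.eq_pow_of_pow_eq_one hprim'.pow_eq_one
  refine ⟨j, ?_, ?_⟩
  · rw [← hj] at hprim'
    have h1 := (hprim.pow_iff_coprime hp.pos j).1 hprim'
    exact (Nat.Prime.coprime_iff_not_dvd hp).1 h1.symm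
  · intro ζ hζ
    obtain ⟨i, _, rfl⟩ := hprim.eq_pow_of_pow_eq_one hζ
    rw [map_pow, ← hj, ← pow_mul, ← pow_mul, mul_comm]

/-- (G-f) the Galois conjugate of an irreducible character, as an irreducible character -/
theorem d1g_exists_twist {G : Type u} [Group G] [Finite G] (σ : ℂ ≃+* ℂ) (χ : IrrCharacter G) :
    ∃ ψ : IrrCharacter G, (ψ : G → ℂ) = fun g => σ ((χ : G → ℂ) g) := by
  classical
  have : Fintype G := Fintype.ofFinite G
  exact ⟨⟨fun g => σ ((χ : G → ℂ) g),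
    Cfsg.Agent.Lib.Helper4.isIrrCharacter_twist (σ : ℂ →+* ℂ) χ.2⟩, rfl⟩

end Cfsg.Agent.Lib.Helper1
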