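import Mathlib
import Cfsg.Agent.Lib.Helper1.BR1
import Cfsg.Agent.Lib.Helper1.BR3
import Cfsg.Agent.S4503

/-!
# Brauer–Reynolds (`|G| < p³`): the principal block when `n_p ≥ 1 + 2p`
-/

set_option autoImplicit false
set_option linter.unusedSectionVars false

namespace Cfsg.Agent.Lib.Helper1.BR

open Cfsg Cfsg.Agent.Lib.Helper8 Cfsg.Agent.Lib.Helper1 Cfsg.Agent.Lib.Helper4
open Cfsg.Agent.Lib.Helper1.O7920
open scoped ComplexConjugate

universe u

theorem not_dvd_of_modEq {p D : ℕ} {e : ℤ} (h : (D : ℤ) ≡ e [ZMOD p]) (he0 : e ≠ 0)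
    (he : |e| < p) : ¬ p ∣ D := by
  intro hd
  apply he0
  apply Int.eq_zero_of_abs_lt_dvd (m := (p : ℤ)) _ he
  have h1 : (p : ℤ) ∣ e - D := h.dvd
  have h2 : (p : ℤ) ∣ D := by exact_mod_cast hd
  have h3 := dvd_add h1 h2
  rwa [sub_add_cancel] at h3

section

variable {G : Type u} [Group G] [Fintype G] [IsSimpleGroup G]

/-- a non-trivial irreducible character of a simple group is faithful -/
theorem faithful_of_ne_triv (θ : IrrCharacter G) (hθ : θ ≠ trivIrr G) (g : G)
    (h : (θ : G → ℂ) g = (θ : G → ℂ) 1) : g = 1 := by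
  by_contra hg
  have hconst := const_of_apply_eq (isCharacter_of_irr θ.2) hg h
  have h0 := classInner_irr_ne θ.2 (trivIrr G).2 (fun h => hθ (Subtype.ext h))
  unfold classInner at h0
  have h1 : ∑ g : G, (θ : G → ℂ) g * conj ((trivIrr G : G → ℂ) g) =
      (Fintype.card G : ℂ) * (θ : G → ℂ) 1 := by
    rw [Finset.sum_congr rfl (fun g _ => by rw [hconst g, trivIrr_apply, map_one, mul_one])]
    rw [Finset.sum_const, Finset.card_univ, nsmul_eq_mul]
  rw [h1] at h0
  have hdeg := irr_apply_one_eq_charDegree θ.2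
  have hne : (θ : G → ℂ) 1 ≠ 0 := by
    rw [hdeg.1]
    exact_mod_cast hdeg.2.ne'
  have hcard : (Nat.card G : ℂ) ≠ 0 := by exact_mod_cast Nat.card_pos.ne'
  have hcard' : (Fintype.card G : ℂ) ≠ 0 := by exact_mod_cast Fintype.card_pos.ne'
  rcases mul_eq_zero.1 h0 with h | h
  · exact inv_ne_zero hcard h
  · rcases mul_eq_zero.1 h with h | h
    · exact hcard' h
    · exact hne h

variable [Fintype (IrrCharacter G)] [DecidableEq (IrrCharacter G)]

/-- the data of the principal `p`-block in the Brauer–Reynolds situation with `n ≥ 2` -/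
structure BRData (p n q : ℕ) (M : Ideal AlgInt) (x : G) (X Y : Finset (IrrCharacter G))
    (εX : IrrCharacter G → ℤ) : Prop where
  hq2 : 2 ≤ q
  hqn : q * (n + 1) = p - 1
  hcard : Nat.card G = (1 + n * p) * p * q
  hself : ∀ t : G, t * x = x * t → t ∈ Subgroup.zpowers x
  bd : BlockData (deg (G := G)) p q X Y εX (-1)
  hmem : ∀ χ, χ ∈ X ∪ Y ↔ χ ∈ principalBlock M G
  ht0 : trivIrr G ∈ X
  hε0 : εX (trivIrr G) = 1
  hY : ∀ θ ∈ Y, deg θ = p - q
  hX : ∀ χ ∈ X, χ ≠ trivIrr G →
    (εX χ = 1 ∧ deg χ = 1 + n * p) ∨ (εX χ = -1 ∧ deg χ = p - 1)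
  hB : ((X.erase (trivIrr G)).filter (fun χ => εX χ = 1)).card * (n + 1) + 2 = q
  hval : ∀ χ ∈ X, ∀ k : ℕ, ¬ p ∣ k → (χ : G → ℂ) (x ^ k) = (εX χ : ℂ)
  hrel : ∀ θ ∈ Y, ∀ g : G, ¬ p ∣ orderOf g →
    -(θ : G → ℂ) g = ∑ χ ∈ X, (εX χ : ℂ) * (χ : G → ℂ) g

/-- **The principal block when `n ≥ 2`.** -/
theorem exists_brData (hG : ¬ IsCyclic G) {p : ℕ} [Fact p.Prime] (hdvd : p ∣ Nat.card G)
    (hbig : Nat.card G < p ^ 3) {n : ℕ} (hn2 : 2 ≤ n) (hnp : Nat.card (Sylow p G) = 1 + n * p)
    {M : Ideal AlgInt} (hM : IsPModular p M) {x : G} (hx : orderOf x = p) :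
    ∃ (q : ℕ) (X Y : Finset (IrrCharacter G)) (εX : IrrCharacter G → ℤ),
      BRData p n q M x X Y εX := by
  classical
  have hp : p.Prime := Fact.out
  have hMp := isPModular_isPrime hM
  have hsq := not_sq_dvd hG hdvd hbig
  have hnpc := not_prime_card hG
  obtain ⟨q, k, n', hq2, hk1, hn'1, hq, hCk, hn', hcard, hwn⟩ := setup hG hdvd hbig hx
  have hnn' : n' = n := by
    rw [hnp] at hn'
    have h1 : n * p = n' * p := by omega
    exact (Nat.eq_of_mul_eq_mul_right hp.pos h1).symm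
  subst hnn'
  obtain ⟨f, X, Y, εX, ε, hf, hfdvd, bd, hmem, hval, hrel⟩ := exists_blockData p hM hx hsq
  have hfq : f = q := hf.symm.trans hq
  subst hfq
  have hperf : commutator G = ⊤ := commutator_eq_top hnpc
  have ht0 : trivIrr G ∈ X ∪ Y := (hmem _).2 (trivIrr_mem_principalBlock hMp.ne_top)
  have hD0 : deg (trivIrr G) = 1 := by
    have h1 := deg_cast (trivIrr G)
    rw [trivIrr_apply] at h1
    exact_mod_cast h1.symm
  have huniq : ∀ χ : IrrCharacter G, deg χ = 1 → χ = trivIrr G := by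
    intro χ h
    have h1 : (χ : G → ℂ) 1 = 1 := by
      rw [deg_cast, h]
      norm_num
    apply Subtype.ext
    funext g
    rw [linear_eq_one hperf χ.2 h1 g, trivIrr_apply]
  have hqk1 : 1 ≤ f * k := Nat.mul_pos (by omega) hk1
  have hqkn1 : f * k * 1 ≤ f * k * n' := Nat.mul_le_mul_left _ (by omega)
  have hq_le : f * 1 ≤ f * k := Nat.mul_le_mul_left _ hk1
  have hqp : f < p := by omega
  have hdeg_dvd : ∀ χ ∈ X ∪ Y, deg χ ∣ f * k * (1 + n' * p) := by
    intro χ hχ
    have h1 : deg χ ∣ Nat.card G := charDegree_dvd_card χ.2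
    rw [hcard] at h1
    have h2 : ¬ p ∣ deg χ := by
      rcases Finset.mem_union.1 hχ with h | h
      · obtain ⟨hs, hm⟩ := bd.signX χ h
        apply not_dvd_of_modEq hm
        · rcases hs with h | h <;> rw [h] <;> norm_num
        · have hp1 : (1 : ℤ) < p := by exact_mod_cast hp.one_lt
          rcases hs with h | h <;> rw [h] <;> simpa using hp1
      · have hm := bd.degY χ h
        have hfz : (0 : ℤ) < f := by
          have : 0 < f := by omega
          exact_mod_cast this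
        have hfp : (f : ℤ) < p := by exact_mod_cast hqp
        apply not_dvd_of_modEq hm
        · rcases bd.signY with h | h <;> rw [h] <;> simp <;> omega
        · rcases bd.signY with h | h <;> rw [h]
          · rw [one_mul, abs_of_pos hfz]
            exact hfp
          · rw [neg_one_mul, abs_neg, abs_of_pos hfz]
            exact hfp
    have hcop : Nat.Coprime (deg χ) p :=
      Nat.Coprime.symm ((Nat.Prime.coprime_iff_not_dvd hp).2 h2)
    have h3 : deg χ ∣ p * (f * k * (1 + n' * p)) := by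
      have h4 : (1 + n' * p) * p * (f * k) = p * (f * k * (1 + n' * p)) := by ring
      rw [← h4]
      exact h1
    exact hcop.dvd_of_dvd_mul_left h3
  have hbrauer : ∀ θ : IrrCharacter G, θ ≠ trivIrr G → p ≤ 2 * deg θ + 1 := by
    intro θ hθ
    apply Cfsg.Agent.S4503.result p hp hdvd hsq _ θ (isCharacter_of_irr θ.2)
      (faithful_of_ne_triv θ hθ)
    intro H hH
    rcases hH.eq_bot_or_eq_top with h | h
    · rw [h, Subgroup.card_bot]
      exact hp.one_lt.ne
    · rw [h, Subgroup.card_top]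
      intro h2
      exact hnpc (h2 ▸ hp)
  obtain ⟨hk1', hε, ht0X, hε0, hYdeg, hXdeg, hqn, hB⟩ :=
    br_structure hp hq2 hfdvd hk1 hn2 hwn bd hdeg_dvd ht0 hD0 huniq hbrauer
  subst hk1'
  subst hε
  have hself : ∀ t : G, t * x = x * t → t ∈ Subgroup.zpowers x := by
    intro t ht
    have hzC : Subgroup.zpowers x ≤
        Subgroup.centralizer ((Subgroup.zpowers x : Subgroup G) : Set G) := by
      intro t ht
      rw [d1_mem_centralizer_zpowers]
      obtain ⟨i, rfl⟩ := Subgroup.mem_zpowers_iff.1 ht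
      exact (Commute.zpow_left (Commute.refl x) i).eq
    have heq : Subgroup.zpowers x =
        Subgroup.centralizer ((Subgroup.zpowers x : Subgroup G) : Set G) := by
      apply Subgroup.eq_of_le_of_card_ge hzC
      rw [hCk, Nat.card_zpowers, hx, mul_one]
    rw [heq, d1_mem_centralizer_zpowers]
    exact ht
  have hp1 : ¬ p ∣ orderOf (1 : G) := by
    rw [orderOf_one]
    exact fun h => hp.one_lt.ne' (Nat.dvd_one.1 h)
  refine ⟨f, X, Y, εX, ⟨hq2, hqn, ?_, hself, bd, hmem, ht0X, hε0, hYdeg, hXdeg, hB, ?_, ?_⟩⟩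
  · rw [hcard, mul_one]
  · intro χ hχ k hk
    have h1 := hval χ hχ k hk 1 (by rw [one_mul, mul_one]) hp1
    rwa [mul_one] at h1
  · intro θ hθ g hg
    have h1 := hrel θ hθ g hg
    rw [← h1]
    push_cast
    ring

end

end Cfsg.Agent.Lib.Helper1.BR
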