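import Mathlib
import Cfsg.Agent.Lib.Helper1.BR3

/-!
# Brauer–Reynolds (`|G| < p³`): more arithmetic (coprimality, the sum of the degrees)
-/

set_option autoImplicit false
set_option linter.unusedSectionVars false

namespace Cfsg.Agent.Lib.Helper1.BR

open Cfsg.Agent.Lib.Helper1.O7920

/-- the basic identities between `p`, `q`, `n` -/
theorem ar_basic {p q n : ℕ} (hp : 1 ≤ p) (hqn : q * (n + 1) = p - 1) :
    p = q * (n + 1) + 1 ∧ p - q = q * n + 1 ∧ p - 1 = q * (n + 1) ∧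
      1 + n * p = (n + 1) * (q * n + 1) := by
  have h1 : p = q * (n + 1) + 1 := by omega
  refine ⟨h1, ?_, hqn.symm, ?_⟩
  · rw [h1, Nat.mul_succ]
    omega
  · rw [h1]
    ring

/-- no prime divides both `q n + 1 = p - q` and one of `p`, `q`, `n + 1` -/
theorem no_common_prime {q n B r : ℕ} (hr : r.Prime) (hB : B * (n + 1) + 2 = q)
    (h1 : r ∣ q * n + 1) (h2 : r ∣ q * (n + 1) + 1 ∨ r ∣ q ∨ r ∣ n + 1) : False := by
  have hr1 : ¬ r ∣ 1 := fun h => hr.one_lt.ne' (Nat.dvd_one.1 h)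
  have hq : r ∣ q → False := by
    intro h
    exact hr1 ((Nat.dvd_add_right (dvd_mul_of_dvd_left h n)).1 h1)
  rcases h2 with h | h | h
  · apply hq
    have h3 : q * (n + 1) + 1 = (q * n + 1) + q := by ring
    rw [h3] at h
    exact (Nat.dvd_add_right h1).1 h
  · exact hq h
  · apply hr1
    have h3 : (q * n + 1) + 1 = (n + 1) * (B * n + 2) := by
      rw [← hB]
      ring
    have h4 : r ∣ (q * n + 1) + 1 := by
      rw [h3]
      exact dvd_mul_of_dvd_left h _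
    exact (Nat.dvd_add_right h1).1 h4

section Sum

variable {ι : Type*} [Fintype ι] [DecidableEq ι] {D : ι → ℕ} {t0 : ι}
variable {X Y : Finset ι} {εX : ι → ℤ}

/-- the key polynomial inequality -/
theorem poly_ineq (b m R1 R2 : ℕ)
    (hR : (((1 + b) * ((2 + m) + 1) + 2) * ((2 + m) + 1) + 1) * R1 ≤ R2)
    (hS : 1 + (1 + b) * (((2 + m) + 1) * (((1 + b) * ((2 + m) + 1) + 2) * (2 + m) + 1)) ^ 2 +
      ((1 + b) * (2 + m) + 1) * (((1 + b) * ((2 + m) + 1) + 2) * ((2 + m) + 1)) ^ 2 +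
      ((2 + m) + 1) * (((1 + b) * ((2 + m) + 1) + 2) * (2 + m) + 1) ^ 2 + R2 =
      (((2 + m) + 1) * (((1 + b) * ((2 + m) + 1) + 2) * (2 + m) + 1)) *
        ((((1 + b) * ((2 + m) + 1) + 2) * ((2 + m) + 1) + 1)) * ((1 + b) * ((2 + m) + 1) + 2)) :
    1 + (1 + b) * (((2 + m) + 1) * (((1 + b) * ((2 + m) + 1) + 2) * (2 + m) + 1)) +
      ((1 + b) * (2 + m) + 1) * (((1 + b) * ((2 + m) + 1) + 2) * ((2 + m) + 1)) +
      ((2 + m) + 1) * (((1 + b) * ((2 + m) + 1) + 2) * (2 + m) + 1) + R1 <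
      1 + (((1 + b) * ((2 + m) + 1) + 2) * ((2 + m) + 1) + 1) *
        (((1 + b) * ((2 + m) + 1) + 2) * (2 + m) + 1) := by
  set p := ((1 + b) * ((2 + m) + 1) + 2) * ((2 + m) + 1) + 1 with hp
  have hp0 : 0 < p := by positivity
  apply Nat.lt_of_mul_lt_mul_left (a := p)
  have key : p * (1 + p * (((1 + b) * ((2 + m) + 1) + 2) * (2 + m) + 1)) +
      (1 + (1 + b) * (((2 + m) + 1) * (((1 + b) * ((2 + m) + 1) + 2) * (2 + m) + 1)) ^ 2 +
      ((1 + b) * (2 + m) + 1) * (((1 + b) * ((2 + m) + 1) + 2) * ((2 + m) + 1)) ^ 2 +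
      ((2 + m) + 1) * (((1 + b) * ((2 + m) + 1) + 2) * (2 + m) + 1) ^ 2) =
      p * (1 + (1 + b) * (((2 + m) + 1) * (((1 + b) * ((2 + m) + 1) + 2) * (2 + m) + 1)) +
      ((1 + b) * (2 + m) + 1) * (((1 + b) * ((2 + m) + 1) + 2) * ((2 + m) + 1)) +
      ((2 + m) + 1) * (((1 + b) * ((2 + m) + 1) + 2) * (2 + m) + 1)) +
      (((2 + m) + 1) * (((1 + b) * ((2 + m) + 1) + 2) * (2 + m) + 1)) * p *
        ((1 + b) * ((2 + m) + 1) + 2) +
      p * (33 + 65*m^1 + 42*m^2 + 11*m^3 + 1*m^4 + 51*b^1 + 104*b^1*m^1 + 71*b^1*m^2 +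
        20*b^1*m^3 + 2*b^1*m^4 + 18*b^2 + 39*b^2*m^1 + 29*b^2*m^2 + 9*b^2*m^3 + 1*b^2*m^4) := by
    rw [hp]
    ring
  have hF : 0 < p * (33 + 65*m^1 + 42*m^2 + 11*m^3 + 1*m^4 + 51*b^1 + 104*b^1*m^1 + 71*b^1*m^2 +
        20*b^1*m^3 + 2*b^1*m^4 + 18*b^2 + 39*b^2*m^1 + 29*b^2*m^2 + 9*b^2*m^3 + 1*b^2*m^4) := by
    positivity
  rw [mul_add p _ R1]
  linarith

theorem sum_bound_numeric {p q n B C S1 S2 R1 R2 : ℕ} (hp_eq : p = q * (n + 1) + 1)
    (hq : B * (n + 1) + 2 = q) (hC : C = B * n + 1) (hB1 : 1 ≤ B) (hn : 2 ≤ n)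
    (hS1 : S1 = 1 + B * ((n + 1) * (q * n + 1)) + C * (q * (n + 1)) + (n + 1) * (q * n + 1))
    (hS2 : S2 = 1 + B * ((n + 1) * (q * n + 1)) ^ 2 + C * (q * (n + 1)) ^ 2 +
      (n + 1) * (q * n + 1) ^ 2)
    (hR : p * R1 ≤ R2) (hsum : S2 + R2 = ((n + 1) * (q * n + 1)) * p * q) :
    S1 + R1 < 1 + p * (q * n + 1) := by
  obtain ⟨b, rfl⟩ : ∃ b, B = 1 + b := ⟨B - 1, by omega⟩
  obtain ⟨m, rfl⟩ : ∃ m, n = 2 + m := ⟨n - 2, by omega⟩
  subst hq
  subst hp_eq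
  subst hC
  subst hS1
  subst hS2
  exact poly_ineq b m R1 R2 hR hsum

/-- **The sum of all degrees is small when `B ≥ 1`.** -/
theorem br_sum_bound {p q n : ℕ} (hp1 : 1 ≤ p) (hn : 2 ≤ n) (hqn : q * (n + 1) = p - 1)
    (hq2 : 2 ≤ q) (bd : BlockData D p q X Y εX (-1)) (ht0 : t0 ∈ X) (hD0 : D t0 = 1)
    (hY : ∀ θ ∈ Y, D θ = p - q)
    (hX : ∀ χ ∈ X, χ ≠ t0 → (εX χ = 1 ∧ D χ = 1 + n * p) ∨ (εX χ = -1 ∧ D χ = p - 1))
    (hB : ((X.erase t0).filter (fun χ => εX χ = 1)).card * (n + 1) + 2 = q)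
    (hB1 : 1 ≤ ((X.erase t0).filter (fun χ => εX χ = 1)).card)
    (hsumsq : ∑ χ, D χ ^ 2 = (1 + n * p) * p * q)
    (hrest : ∀ χ, χ ∉ X ∪ Y → p ∣ D χ) :
    ∑ χ, D χ < 1 + p * (q * n + 1) := by
  obtain ⟨hp_eq, hpq, hp1', hu⟩ := ar_basic hp1 hqn
  have hBC : ((X.erase t0).filter (fun χ => εX χ = 1)).card +
      ((X.erase t0).filter (fun χ => ¬ εX χ = 1)).card = q - 1 := by
    rw [Finset.card_filter_add_card_filter_not, Finset.card_erase_of_mem ht0, bd.cardX]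
  have hsplit : ∀ F : ℕ → ℕ, ∑ χ ∈ X, F (D χ) = F 1 +
      ((X.erase t0).filter (fun χ => εX χ = 1)).card * F ((n + 1) * (q * n + 1)) +
      ((X.erase t0).filter (fun χ => ¬ εX χ = 1)).card * F (q * (n + 1)) := by
    intro F
    rw [← Finset.add_sum_erase X _ ht0, hD0]
    rw [sum_split (X.erase t0) (fun χ => εX χ = 1) (fun χ => F (D χ))
      (F ((n + 1) * (q * n + 1))) (F (q * (n + 1)))]
    · simp only [smul_eq_mul]
      ring
    · intro χ hχ hP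
      rcases hX χ (Finset.mem_of_mem_erase hχ) (Finset.ne_of_mem_erase hχ) with ⟨h1, h2⟩ | ⟨h1, h2⟩
      · rw [h2, hu]
      · rw [h1] at hP
        norm_num at hP
    · intro χ hχ hP
      rcases hX χ (Finset.mem_of_mem_erase hχ) (Finset.ne_of_mem_erase hχ) with ⟨h1, h2⟩ | ⟨h1, h2⟩
      · exact absurd h1 hP
      · rw [h2, hp1']
  have hYcard : Y.card = n + 1 := by
    rw [bd.cardY, ← hqn]
    exact Nat.mul_div_cancel_left _ (by omega)
  have hsplitY : ∀ F : ℕ → ℕ, ∑ θ ∈ Y, F (D θ) = (n + 1) * F (q * n + 1) := by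
    intro F
    rw [Finset.sum_congr rfl (fun θ hθ => by rw [hY θ hθ, hpq]), Finset.sum_const, smul_eq_mul,
      hYcard]
  have hR : p * ∑ χ ∈ (X ∪ Y)ᶜ, D χ ≤ ∑ χ ∈ (X ∪ Y)ᶜ, D χ ^ 2 := by
    rw [Finset.mul_sum]
    apply Finset.sum_le_sum
    intro χ hχ
    obtain ⟨c, hc⟩ := hrest χ (Finset.mem_compl.1 hχ)
    rw [hc]
    calc p * (p * c) = p * p * c := by ring
      _ ≤ p * p * (c * c) := Nat.mul_le_mul_left _ (Nat.le_mul_self c)
      _ = (p * c) ^ 2 := by ring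
  have h1 := Finset.sum_add_sum_compl (X ∪ Y) D
  have h2 := Finset.sum_add_sum_compl (X ∪ Y) (fun χ => D χ ^ 2)
  rw [hsumsq, Finset.sum_union bd.disj, hsplit (fun d => d ^ 2), hsplitY (fun d => d ^ 2), hu] at h2
  rw [Finset.sum_union bd.disj, hsplit (fun d => d), hsplitY (fun d => d)] at h1
  rw [← h1]
  have hCeq : ((X.erase t0).filter (fun χ => ¬ εX χ = 1)).card =
      ((X.erase t0).filter (fun χ => εX χ = 1)).card * n + 1 := by
    have h3 : ((X.erase t0).filter (fun χ => εX χ = 1)).card * (n + 1) =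
        ((X.erase t0).filter (fun χ => εX χ = 1)).card * n +
          ((X.erase t0).filter (fun χ => εX χ = 1)).card := Nat.mul_succ _ n
    clear h1 h2 hR hsplit hsplitY
    omega
  exact sum_bound_numeric hp_eq hB hCeq hB1 hn rfl (by simp only [one_pow]) hR h2

end Sum

end Cfsg.Agent.Lib.Helper1.BR
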