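import Mathlib
import Cfsg.Agent.Lib.Helper1.BR4
import Cfsg.Agent.Lib.Helper1.BR5
import Cfsg.Agent.Lib.Helper1.ConjCount
import Cfsg.Agent.S0158
import Cfsg.Agent.S0159

/-!
# Brauer–Reynolds (`|G| < p³`): involutions and the Frobenius–Schur count
-/

set_option autoImplicit false
set_option linter.unusedSectionVars false

namespace Cfsg.Agent.Lib.Helper1.BR

open Cfsg Cfsg.Agent.Lib.Helper8 Cfsg.Agent.Lib.Helper1 Cfsg.Agent.Lib.Helper4
open Cfsg.Agent.Lib.Helper1.O7920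
open scoped ComplexConjugate

universe u

section FS

variable {G : Type u} [Group G] [Fintype G]

/-- Frobenius–Schur: the number of solutions of `s * s = 1` is at most the sum of the degrees -/
theorem card_sq_eq_one_le [Fintype (IrrCharacter G)] :
    Nat.card {s : G // s * s = 1} ≤ ∑ χ : IrrCharacter G, deg χ := by
  have h1 := Cfsg.Agent.S0159.result (G := G)
  rw [finsum_eq_sum_of_fintype] at h1
  have hν : ∀ χ : IrrCharacter G, ∃ e : ℤ, e ≤ 1 ∧
      ((Nat.card G : ℂ)⁻¹ * ∑ s : G, (χ : G → ℂ) (s * s)) = (e : ℂ) := by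
    intro χ
    obtain ⟨n, ρ, hirr, hρ⟩ := χ.2
    have h2 := (Cfsg.Agent.S0158.result ρ).1
    rw [hρ] at h2
    rcases h2 with h | h | h
    · exact ⟨0, by norm_num, by rw [h]; norm_num⟩
    · exact ⟨1, le_refl _, by rw [h]; norm_num⟩
    · exact ⟨-1, by norm_num, by rw [h]; norm_num⟩
  choose e he1 he using hν
  have h2 : ((Nat.card {s : G // s * s = 1} : ℤ) : ℂ) =
      ((∑ χ : IrrCharacter G, e χ * (deg χ : ℤ) : ℤ) : ℂ) := by
    push_cast
    rw [h1]
    apply Finset.sum_congr rfl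
    intro χ _
    rw [he χ, deg_cast]
  have h3 : (Nat.card {s : G // s * s = 1} : ℤ) = ∑ χ, e χ * (deg χ : ℤ) := by
    exact_mod_cast h2
  have h4 : ∑ χ : IrrCharacter G, e χ * (deg χ : ℤ) ≤ ∑ χ : IrrCharacter G, (deg χ : ℤ) := by
    apply Finset.sum_le_sum
    intro χ _
    have h5 : (0 : ℤ) ≤ deg χ := by positivity
    nlinarith [he1 χ]
  have h5 : (Nat.card {s : G // s * s = 1} : ℤ) ≤ ((∑ χ : IrrCharacter G, deg χ : ℕ) : ℤ) := by
    push_cast
    linarith
  exact_mod_cast h5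

omit [Fintype G] in
/-- an involution class gives many solutions of `t * t = 1` -/
theorem card_conj_add_one_le [Finite G] {s : G} (hs : orderOf s = 2) :
    Nat.card {v : G // IsConj s v} + 1 ≤ Nat.card {t : G // t * t = 1} := by
  classical
  have hs1 : s ≠ 1 := by
    rintro rfl
    rw [orderOf_one] at hs
    omega
  have hss : s * s = 1 := by
    have := pow_orderOf_eq_one s
    rwa [hs, sq] at this
  have h1 : (1 : G) ∉ {v : G | IsConj s v} := by
    intro h
    exact hs1 (isConj_one_left.1 h)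
  have h2 : insert (1 : G) {v : G | IsConj s v} ⊆ {t : G | t * t = 1} := by
    intro t ht
    rcases Set.mem_insert_iff.1 ht with rfl | ht
    · simp
    · obtain ⟨c, rfl⟩ := isConj_iff.1 ht
      show c * s * c⁻¹ * (c * s * c⁻¹) = 1
      calc c * s * c⁻¹ * (c * s * c⁻¹) = c * (s * s) * c⁻¹ := by group
        _ = 1 := by rw [hss, mul_one, mul_inv_cancel]
  have h3 := Set.ncard_le_ncard h2 (Set.toFinite _)
  rw [Set.ncard_insert_of_notMem h1 (Set.toFinite _)] at h3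
  exact h3

end FS

section Data

variable {G : Type u} [Group G] [Fintype G] [IsSimpleGroup G]
variable [Fintype (IrrCharacter G)] [DecidableEq (IrrCharacter G)]
variable {p n q : ℕ} [Fact p.Prime] {M : Ideal AlgInt} {x : G}
variable {X Y : Finset (IrrCharacter G)} {εX : IrrCharacter G → ℤ}

theorem BRData.p_ge (h : BRData p n q M x X Y εX) (hn2 : 2 ≤ n) : 7 ≤ p := by
  have h1 := h.hqn
  have h2 := h.hq2
  have h3 : 2 * (2 + 1) ≤ q * (n + 1) := Nat.mul_le_mul h2 (by omega)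
  omega

theorem BRData.arith (h : BRData p n q M x X Y εX) (hn2 : 2 ≤ n) :
    p = q * (n + 1) + 1 ∧ p - q = q * n + 1 ∧ p - 1 = q * (n + 1) ∧
      1 + n * p = (n + 1) * (q * n + 1) :=
  ar_basic (by have := h.p_ge hn2; omega) h.hqn

theorem BRData.card_eq (h : BRData p n q M x X Y εX) (hn2 : 2 ≤ n) :
    Nat.card G = p * (q * (n + 1)) * (q * n + 1) := by
  obtain ⟨-, -, -, h4⟩ := h.arith hn2
  rw [h.hcard, h4]
  ring

theorem BRData.two_dvd (h : BRData p n q M x X Y εX) (hn2 : 2 ≤ n) : 2 ∣ q * (n + 1) := by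
  have hp : p.Prime := Fact.out
  have h7 := h.p_ge hn2
  rw [h.hqn]
  rcases hp.eq_two_or_odd with h2 | h2
  · omega
  · omega

/-- a prime dividing `q (n + 1) = p - 1` does not divide `p (q n + 1)` -/
theorem BRData.not_dvd_of_dvd_pred (h : BRData p n q M x X Y εX) (hn2 : 2 ≤ n) {r : ℕ}
    (hr : r.Prime) (hr1 : r ∣ q * (n + 1)) : ¬ r ∣ p * (q * n + 1) := by
  have hp : p.Prime := Fact.out
  obtain ⟨h1, -, h3, -⟩ := h.arith hn2
  intro h5
  rcases (Nat.Prime.dvd_mul hr).1 h5 with h6 | h6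
  · have h7 : r = p := (Nat.prime_dvd_prime_iff_eq hr hp).1 h6
    rw [h7, ← h3] at hr1
    have := Nat.le_of_dvd (by have := h.p_ge hn2; omega) hr1
    have := hp.two_le
    omega
  · rcases (Nat.Prime.dvd_mul hr).1 hr1 with h7 | h7
    · exact no_common_prime hr h.hB h6 (Or.inr (Or.inl h7))
    · exact no_common_prime hr h.hB h6 (Or.inr (Or.inr h7))

/-- a prime dividing `q n + 1 = p - q` does not divide `p q (n + 1)` -/
theorem BRData.not_dvd_of_dvd_sub (h : BRData p n q M x X Y εX) (hn2 : 2 ≤ n) {r : ℕ}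
    (hr : r.Prime) (hr1 : r ∣ q * n + 1) : ¬ r ∣ p * (q * (n + 1)) := by
  obtain ⟨h1, -, -, -⟩ := h.arith hn2
  intro h5
  rcases (Nat.Prime.dvd_mul hr).1 h5 with h6 | h6
  · rw [h1] at h6
    exact no_common_prime hr h.hB hr1 (Or.inl h6)
  · rcases (Nat.Prime.dvd_mul hr).1 h6 with h7 | h7
    · exact no_common_prime hr h.hB hr1 (Or.inr (Or.inl h7))
    · exact no_common_prime hr h.hB hr1 (Or.inr (Or.inr h7))

theorem BRData.vanish_neg (h : BRData p n q M x X Y εX) (hn2 : 2 ≤ n) {χ : IrrCharacter G}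
    (hχ : χ ∈ X) (hne : χ ≠ trivIrr G) (hε : εX χ = -1) {g : G} {r : ℕ} (hr : r.Prime)
    (hr1 : r ∣ q * (n + 1)) (hrg : r ∣ orderOf g) : (χ : G → ℂ) g = 0 := by
  have : Fact r.Prime := ⟨hr⟩
  obtain ⟨-, -, h3, -⟩ := h.arith hn2
  have hdeg : deg χ = q * (n + 1) := by
    rcases h.hX χ hχ hne with ⟨h1, -⟩ | ⟨-, h2⟩
    · rw [hε] at h1
      norm_num at h1
    · rw [h2, h3]
  apply vanish_of_defect_zero r χ _ hrg
  have hpos : 0 < q * (n + 1) := Nat.mul_pos (by have := h.hq2; omega) (by omega)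
  have hdiv : Nat.card G / charDegree (χ : G → ℂ) = p * (q * n + 1) := by
    apply Nat.div_eq_of_eq_mul_left (by rw [show charDegree (χ : G → ℂ) = deg χ from rfl, hdeg]; exact hpos)
    rw [show charDegree (χ : G → ℂ) = deg χ from rfl, hdeg, h.card_eq hn2]
    ring
  rw [hdiv]
  exact h.not_dvd_of_dvd_pred hn2 hr hr1

theorem BRData.vanish_pos (h : BRData p n q M x X Y εX) (hn2 : 2 ≤ n) {χ : IrrCharacter G}
    (hχ : χ ∈ X) (hne : χ ≠ trivIrr G) (hε : εX χ = 1) {g : G} {r : ℕ} (hr : r.Prime)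
    (hr1 : r ∣ q * n + 1) (hrg : r ∣ orderOf g) : (χ : G → ℂ) g = 0 := by
  have : Fact r.Prime := ⟨hr⟩
  obtain ⟨-, -, -, h4⟩ := h.arith hn2
  have hdeg : deg χ = (n + 1) * (q * n + 1) := by
    rcases h.hX χ hχ hne with ⟨-, h2⟩ | ⟨h1, -⟩
    · rw [h2, h4]
    · rw [hε] at h1
      norm_num at h1
  apply vanish_of_defect_zero r χ _ hrg
  have hpos : 0 < (n + 1) * (q * n + 1) := Nat.mul_pos (by omega) (by omega)
  have hdiv : Nat.card G / charDegree (χ : G → ℂ) = p * q := by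
    apply Nat.div_eq_of_eq_mul_left (by rw [show charDegree (χ : G → ℂ) = deg χ from rfl, hdeg]; exact hpos)
    rw [show charDegree (χ : G → ℂ) = deg χ from rfl, hdeg, h.card_eq hn2]
    ring
  rw [hdiv]
  intro h5
  exact h.not_dvd_of_dvd_sub hn2 hr hr1 (by
    rw [← mul_assoc]
    exact dvd_mul_of_dvd_left h5 _)

theorem BRData.vanish_Y (h : BRData p n q M x X Y εX) (hn2 : 2 ≤ n) {θ : IrrCharacter G}
    (hθ : θ ∈ Y) {g : G} {r : ℕ} (hr : r.Prime)
    (hr1 : r ∣ q * n + 1) (hrg : r ∣ orderOf g) : (θ : G → ℂ) g = 0 := by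
  have : Fact r.Prime := ⟨hr⟩
  obtain ⟨-, h2, -, -⟩ := h.arith hn2
  have hdeg : deg θ = q * n + 1 := by rw [h.hY θ hθ, h2]
  apply vanish_of_defect_zero r θ _ hrg
  have hdiv : Nat.card G / charDegree (θ : G → ℂ) = p * (q * (n + 1)) := by
    apply Nat.div_eq_of_eq_mul_left (by rw [show charDegree (θ : G → ℂ) = deg θ from rfl, hdeg]; omega)
    rw [show charDegree (θ : G → ℂ) = deg θ from rfl, hdeg, h.card_eq hn2]
  rw [hdiv]
  exact h.not_dvd_of_dvd_sub hn2 hr hr1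

theorem BRData.exists_mem_Y (h : BRData p n q M x X Y εX) (hn2 : 2 ≤ n) : ∃ θ, θ ∈ Y := by
  have h1 : Y.card = n + 1 := by
    rw [h.bd.cardY, ← h.hqn]
    exact Nat.mul_div_cancel_left _ (by have := h.hq2; omega)
  exact Finset.card_pos.1 (by omega)

/-- no `p`-regular element has order divisible by a prime divisor of `p - q` and by a prime
divisor of `p - 1` -/
theorem BRData.no_mixed (h : BRData p n q M x X Y εX) (hn2 : 2 ≤ n) {g : G} {r r' : ℕ}
    (hr : r.Prime) (hr' : r'.Prime) (h1 : r ∣ q * n + 1) (h1' : r' ∣ q * (n + 1))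
    (hrg : r ∣ orderOf g) (hr'g : r' ∣ orderOf g) (hreg : ¬ p ∣ orderOf g) : False := by
  obtain ⟨θ, hθ⟩ := h.exists_mem_Y hn2
  have h2 := h.hrel θ hθ g hreg
  rw [h.vanish_Y hn2 hθ hr h1 hrg, neg_zero, ← Finset.add_sum_erase X _ h.ht0, h.hε0,
    trivIrr_apply] at h2
  have h3 : ∑ χ ∈ X.erase (trivIrr G), (εX χ : ℂ) * (χ : G → ℂ) g = 0 := by
    apply Finset.sum_eq_zero
    intro χ hχ
    have hχX := Finset.mem_of_mem_erase hχ
    have hne := Finset.ne_of_mem_erase hχ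
    rcases h.hX χ hχX hne with ⟨h4, -⟩ | ⟨h4, -⟩
    · rw [h.vanish_pos hn2 hχX hne h4 hr h1 hrg, mul_zero]
    · rw [h.vanish_neg hn2 hχX hne h4 hr' h1' hr'g, mul_zero]
  rw [h3] at h2
  norm_num at h2

end Data

end Cfsg.Agent.Lib.Helper1.BR
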