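import Mathlib
import Cfsg.Agent.Lib.Helper1.BR6

/-!
# Brauer–Reynolds (`|G| < p³`): the centralizer of an involution, and `B = 0`
-/

set_option autoImplicit false
set_option linter.unusedSectionVars false

namespace Cfsg.Agent.Lib.Helper1.BR

open Cfsg Cfsg.Agent.Lib.Helper8 Cfsg.Agent.Lib.Helper1 Cfsg.Agent.Lib.Helper4
open Cfsg.Agent.Lib.Helper1.O7920
open scoped ComplexConjugate

universe u

section

variable {G : Type u} [Group G] [Fintype G]

/-- if the elements of order `p` are self-centralizing, the `p`-singular elements have order `p` -/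
theorem orderOf_eq_of_dvd {p : ℕ}
    (hselfall : ∀ y : G, orderOf y = p → ∀ t : G, t * y = y * t → t ∈ Subgroup.zpowers y)
    {g : G} (hg : p ∣ orderOf g) : orderOf g = p := by
  have ho : orderOf g ≠ 0 := (orderOf_pos g).ne'
  have hy : orderOf (g ^ (orderOf g / p)) = p := orderOf_pow_orderOf_div ho hg
  have hmem := hselfall _ hy g (by rw [← pow_succ, ← pow_succ'])
  have h1 : orderOf g ∣ orderOf (g ^ (orderOf g / p)) := orderOf_dvd_of_mem_zpowers hmem
  rw [hy] at h1
  exact Nat.dvd_antisymm h1 hg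

variable [IsSimpleGroup G]
variable [Fintype (IrrCharacter G)] [DecidableEq (IrrCharacter G)]
variable {p n q : ℕ} [Fact p.Prime] {M : Ideal AlgInt} {x : G}
variable {X Y : Finset (IrrCharacter G)} {εX : IrrCharacter G → ℤ}

/-- the centralizer of an involution has order dividing `p - 1` -/
theorem BRData.card_centralizer_dvd (h : BRData p n q M x X Y εX) (hn2 : 2 ≤ n)
    (hselfall : ∀ y : G, orderOf y = p → ∀ t : G, t * y = y * t → t ∈ Subgroup.zpowers y)
    {s : G} (hs : orderOf s = 2) :
    Nat.card (Subgroup.centralizer ({s} : Set G)) ∣ q * (n + 1) := by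
  have hp : p.Prime := Fact.out
  have h7 := h.p_ge hn2
  obtain ⟨ha1, ha2, -, -⟩ := h.arith hn2
  have hdvd : Nat.card (Subgroup.centralizer ({s} : Set G)) ∣
      (q * (n + 1)) * (p * (q * n + 1)) := by
    have h1 := Subgroup.card_subgroup_dvd_card (Subgroup.centralizer ({s} : Set G))
    rw [h.card_eq hn2] at h1
    have h2 : (q * (n + 1)) * (p * (q * n + 1)) = p * (q * (n + 1)) * (q * n + 1) := by ring
    rw [h2]
    exact h1
  apply Nat.Coprime.dvd_of_dvd_mul_right _ hdvd
  apply Nat.coprime_of_dvd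
  intro r hr hrc hrb
  have : Fact r.Prime := ⟨hr⟩
  obtain ⟨y, hy⟩ := exists_prime_orderOf_dvd_card'
    (G := Subgroup.centralizer ({s} : Set G)) r hrc
  have hyG : orderOf (y : G) = r := by rw [Subgroup.orderOf_coe, hy]
  have hcomm : (y : G) * s = s * (y : G) := Subgroup.mem_centralizer_singleton_iff.1 y.2
  rcases (Nat.Prime.dvd_mul hr).1 hrb with h6 | h6
  · have hrp : r = p := (Nat.prime_dvd_prime_iff_eq hr hp).1 h6
    rw [hrp] at hyG
    have hmem := hselfall _ hyG s hcomm.symm
    have h8 := orderOf_dvd_of_mem_zpowers hmem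
    rw [hs, hyG] at h8
    have h9 := (Nat.prime_dvd_prime_iff_eq Nat.prime_two hp).1 h8
    omega
  · have hr2 : r ≠ 2 := by
      rintro rfl
      exact h.not_dvd_of_dvd_pred hn2 Nat.prime_two (h.two_dvd hn2) (dvd_mul_of_dvd_right h6 p)
    have hcop : Nat.Coprime (orderOf s) (orderOf (y : G)) := by
      rw [hs, hyG]
      exact (Nat.coprime_primes Nat.prime_two hr).2 (Ne.symm hr2)
    have hc : Commute s (y : G) := hcomm.symm
    have ho : orderOf (s * (y : G)) = 2 * r := by
      rw [hc.orderOf_mul_eq_mul_orderOf_of_coprime hcop, hs, hyG]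
    apply h.no_mixed hn2 (g := s * (y : G)) hr Nat.prime_two h6 (h.two_dvd hn2)
      (by rw [ho]; exact dvd_mul_left r 2) (by rw [ho]; exact dvd_mul_right 2 r)
    rw [ho]
    intro hp2r
    rcases (Nat.Prime.dvd_mul hp).1 hp2r with h8 | h8
    · have h9 := (Nat.prime_dvd_prime_iff_eq hp Nat.prime_two).1 h8
      omega
    · have hpr := (Nat.prime_dvd_prime_iff_eq hp hr).1 h8
      rw [← hpr, ← ha2] at h6
      have hq2 := h.hq2
      have hqp : q < p := by
        have : q * 1 ≤ q * (n + 1) := Nat.mul_le_mul_left _ (by omega)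
        omega
      have := Nat.le_of_dvd (by omega) h6
      omega

/-- **`B = 0`**: the Frobenius–Schur count excludes characters of degree `1 + n p` -/
theorem BRData.B_eq_zero (h : BRData p n q M x X Y εX) (hn2 : 2 ≤ n) (hM : IsPModular p M)
    (hx : orderOf x = p) (hsq : ¬ p ^ 2 ∣ Nat.card G)
    (hselfall : ∀ y : G, orderOf y = p → ∀ t : G, t * y = y * t → t ∈ Subgroup.zpowers y) :
    ((X.erase (trivIrr G)).filter (fun χ => εX χ = 1)).card = 0 := by
  by_contra hB0
  have hB1 : 1 ≤ ((X.erase (trivIrr G)).filter (fun χ => εX χ = 1)).card :=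
    Nat.one_le_iff_ne_zero.2 hB0
  have hp : p.Prime := Fact.out
  have h7 := h.p_ge hn2
  have hD0 : deg (trivIrr G) = 1 := by
    have h1 := deg_cast (trivIrr G)
    rw [trivIrr_apply] at h1
    exact_mod_cast h1.symm
  have hrest : ∀ χ : IrrCharacter G, χ ∉ X ∪ Y → p ∣ deg χ := by
    intro χ hχ
    by_contra hnd
    exact hχ ((h.hmem χ).2 (mem_principal_of_self_centralizing p hM hx hsq h.hself χ hnd))
  have hsum := br_sum_bound (D := deg (G := G)) (t0 := trivIrr G) (by omega) hn2 h.hqn h.hq2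
    h.bd h.ht0 hD0 h.hY h.hX h.hB hB1 (by rw [sum_charDegree_sq G, h.hcard]) hrest
  have h2G : 2 ∣ Nat.card G := by
    rw [h.card_eq hn2]
    exact dvd_mul_of_dvd_left (dvd_mul_of_dvd_right (h.two_dvd hn2) p) _
  have : Fact (Nat.Prime 2) := ⟨Nat.prime_two⟩
  obtain ⟨s, hs⟩ := exists_prime_orderOf_dvd_card' (G := G) 2 h2G
  have hC := h.card_centralizer_dvd hn2 hselfall hs
  have hcl := card_isConj_mul_card_centralizer s
  have hpos : 0 < q * (n + 1) := Nat.mul_pos (by have := h.hq2; omega) (by omega)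
  have hle : Nat.card (Subgroup.centralizer ({s} : Set G)) ≤ q * (n + 1) := Nat.le_of_dvd hpos hC
  have hclge : p * (q * n + 1) ≤ Nat.card {v : G // IsConj s v} := by
    by_contra hlt
    push Not at hlt
    have h3 : Nat.card {v : G // IsConj s v} * Nat.card (Subgroup.centralizer ({s} : Set G)) <
        p * (q * n + 1) * (q * (n + 1)) := Nat.mul_lt_mul_of_lt_of_le hlt hle hpos
    rw [hcl, h.card_eq hn2] at h3
    have h4 : p * (q * (n + 1)) * (q * n + 1) = p * (q * n + 1) * (q * (n + 1)) := by ring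
    omega
  have h1 := card_conj_add_one_le hs
  have h2 := card_sq_eq_one_le (G := G)
  omega

end

end Cfsg.Agent.Lib.Helper1.BR
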