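import Mathlib

set_option autoImplicit false

namespace Cfsg.Agent.Lib.Helper1

section InvPair

variable {G : Type*} [Group G] {x y : G}

theorem inv_eq_self_of_mul_self (hx : x * x = 1) : x⁻¹ = x :=
  inv_eq_of_mul_eq_one_left hx

theorem mul_self_of_orderOf_two (hx : orderOf x = 2) : x * x = 1 := by
  rw [← pow_two, ← hx, pow_orderOf_eq_one]

theorem ne_one_of_orderOf_two (hx : orderOf x = 2) : x ≠ 1 := by
  intro h; rw [h, orderOf_one] at hx; omega

theorem orderOf_two_of_mul_self (hx : x * x = 1) (h1 : x ≠ 1) : orderOf x = 2 := by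
  rw [orderOf_eq_prime_iff]
  exact ⟨by rw [pow_two, hx], h1⟩

theorem invpair_conj (hx : x * x = 1) (hy : y * y = 1) : x * (x * y) * x⁻¹ = (x * y)⁻¹ := by
  rw [mul_inv_rev, inv_eq_self_of_mul_self hx, inv_eq_self_of_mul_self hy, ← mul_assoc, hx, one_mul]

theorem invpair_conj_zpow (hx : x * x = 1) (hy : y * y = 1) (k : ℤ) :
    x * (x * y) ^ k * x⁻¹ = (x * y) ^ (-k) := by
  rw [← conj_zpow, invpair_conj hx hy, inv_zpow, zpow_neg]

theorem invpair_x_mul_zpow (hx : x * x = 1) (hy : y * y = 1) (k : ℤ) :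
    x * (x * y) ^ k = (x * y) ^ (-k) * x := by
  rw [← invpair_conj_zpow hx hy, inv_mul_cancel_right]

theorem invpair_y_eq (hy : y * y = 1) : y = (x * y) ^ (-1 : ℤ) * x := by
  rw [zpow_neg, zpow_one, mul_inv_rev, inv_mul_cancel_right, inv_eq_self_of_mul_self hy]

theorem invpair_mem_closure_iff (hx : x * x = 1) (hy : y * y = 1) (d : G) :
    d ∈ Subgroup.closure ({x, y} : Set G) ↔
      ∃ k : ℤ, d = (x * y) ^ k ∨ d = (x * y) ^ k * x := by
  have hxm : x ∈ Subgroup.closure ({x, y} : Set G) := Subgroup.subset_closure (by simp)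
  have hym : y ∈ Subgroup.closure ({x, y} : Set G) := Subgroup.subset_closure (by simp)
  constructor
  · intro hd
    induction hd using Subgroup.closure_induction with
    | mem z hz =>
      rcases hz with rfl | hz
      · exact ⟨0, Or.inr (by simp)⟩
      · rw [Set.mem_singleton_iff] at hz
        subst hz
        exact ⟨-1, Or.inr (invpair_y_eq hy)⟩
    | one => exact ⟨0, Or.inl (by simp)⟩
    | mul a b _ _ ha hb =>
      obtain ⟨j, rfl | rfl⟩ := ha <;> obtain ⟨k, rfl | rfl⟩ := hb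
      · exact ⟨j + k, Or.inl (zpow_add _ _ _).symm⟩
      · exact ⟨j + k, Or.inr (by rw [zpow_add, mul_assoc])⟩
      · refine ⟨j - k, Or.inr ?_⟩
        rw [mul_assoc, invpair_x_mul_zpow hx hy, ← mul_assoc, ← zpow_add, sub_eq_add_neg]
      · refine ⟨j - k, Or.inl ?_⟩
        rw [mul_assoc, ← mul_assoc x, invpair_x_mul_zpow hx hy, mul_assoc _ x x, hx, mul_one,
          ← zpow_add, sub_eq_add_neg]
    | inv a _ ha =>
      obtain ⟨k, rfl | rfl⟩ := ha
      · exact ⟨-k, Or.inl (zpow_neg _ _).symm⟩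
      · refine ⟨k, Or.inr ?_⟩
        rw [mul_inv_rev, inv_eq_self_of_mul_self hx, ← zpow_neg, invpair_x_mul_zpow hx hy, neg_neg]
  · rintro ⟨k, rfl | rfl⟩
    · exact Subgroup.zpow_mem _ (Subgroup.mul_mem _ hxm hym) k
    · exact Subgroup.mul_mem _ (Subgroup.zpow_mem _ (Subgroup.mul_mem _ hxm hym) k) hxm

theorem invpair_zpow_conj_x (hx : x * x = 1) (hy : y * y = 1) (k : ℤ) :
    (x * y) ^ k * x * ((x * y) ^ k)⁻¹ = (x * y) ^ (2 * k) * x := by
  rw [← zpow_neg, mul_assoc, invpair_x_mul_zpow hx hy, neg_neg, ← mul_assoc, ← zpow_add, two_mul]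

/-- Conjugating `x` by an element of `⟨x, y⟩` gives `(xy)^(2k) x`. -/
theorem invpair_conj_x (hx : x * x = 1) (hy : y * y = 1) (d : G)
    (hd : d ∈ Subgroup.closure ({x, y} : Set G)) :
    ∃ k : ℤ, d * x * d⁻¹ = (x * y) ^ (2 * k) * x := by
  obtain ⟨k, rfl | rfl⟩ := (invpair_mem_closure_iff hx hy d).mp hd
  · exact ⟨k, invpair_zpow_conj_x hx hy k⟩
  · refine ⟨k, ?_⟩
    rw [← invpair_zpow_conj_x hx hy k, mul_inv_rev, inv_eq_self_of_mul_self hx]
    simp only [mul_assoc]
    rw [← mul_assoc x x, hx, one_mul]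

theorem invpair_sq_refl (hx : x * x = 1) (hy : y * y = 1) (k : ℤ) :
    ((x * y) ^ k * x) * ((x * y) ^ k * x) = 1 := by
  rw [mul_assoc, ← mul_assoc x, invpair_x_mul_zpow hx hy, mul_assoc _ x x, hx, mul_one,
    ← zpow_add, add_neg_cancel, zpow_zero]

/-- If `x`, `y` are involutions then `x` is not a power of `x * y`. -/
theorem invpair_x_notMem_zpowers (hx : orderOf x = 2) (hy : orderOf y = 2) :
    x ∉ Subgroup.zpowers (x * y) := by
  have hx2 := mul_self_of_orderOf_two hx
  have hy2 := mul_self_of_orderOf_two hy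
  rintro ⟨k, hk⟩
  replace hk : (x * y) ^ k = x := hk
  -- x commutes with x * y
  have hc : Commute x (x * y) := by
    have hc' : Commute ((x * y) ^ k) (x * y) := (Commute.refl (x * y)).zpow_left k
    rwa [hk] at hc'
  have h1 : x * (x * y) * x⁻¹ = x * y := by
    rw [hc.eq, mul_inv_cancel_right]
  rw [invpair_conj hx2 hy2, mul_inv_rev, inv_eq_self_of_mul_self hx2,
    inv_eq_self_of_mul_self hy2] at h1
  -- y * x = x * y; so (x*y)^2 = 1
  have h2 : (x * y) * (x * y) = 1 := by
    nth_rewrite 1 [← h1]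
    rw [mul_assoc, ← mul_assoc x, hx2, one_mul, hy2]
  -- k even or odd
  rcases Int.even_or_odd k with ⟨j, hj⟩ | ⟨j, hj⟩
  · have : (x * y) ^ k = 1 := by
      rw [hj, ← two_mul, zpow_mul, zpow_two, h2, one_zpow]
    rw [this] at hk
    exact ne_one_of_orderOf_two hx hk.symm
  · have : (x * y) ^ k = x * y := by
      rw [hj, zpow_add, zpow_mul, zpow_two, h2, one_zpow, one_mul, zpow_one]
    rw [this] at hk
    have : y = 1 := by
      have := congrArg (fun z => x⁻¹ * z) hk
      simpa using this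
    exact ne_one_of_orderOf_two hy this

end InvPair

end Cfsg.Agent.Lib.Helper1

namespace Cfsg.Agent.Lib.Helper1

section InvPair2

variable {G : Type*} [Group G] {x y : G}

/-- The central involution `z = (xy)^(n/2)` when `n = orderOf (xy)` is even. -/
theorem invpair_half_pow (hx : x * x = 1) (hy : y * y = 1) (m : ℕ) (hm : orderOf (x * y) = m + m)
    (hpos : 0 < m) :
    orderOf ((x * y) ^ m) = 2 ∧ Commute ((x * y) ^ m) x ∧ Commute ((x * y) ^ m) y := by
  have hzz : (x * y) ^ m * (x * y) ^ m = 1 := by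
    rw [← pow_add, ← hm, pow_orderOf_eq_one]
  have hz1 : (x * y) ^ m ≠ 1 := by
    apply pow_ne_one_of_lt_orderOf (by omega)
    omega
  have hcx : Commute ((x * y) ^ m) x := by
    have h1 := invpair_x_mul_zpow hx hy (m : ℤ)
    have h2 : (x * y) ^ (-(m : ℤ)) = (x * y) ^ m := by
      rw [zpow_neg, zpow_natCast]
      exact inv_eq_of_mul_eq_one_left hzz
    rw [h2, zpow_natCast] at h1
    exact h1.symm
  refine ⟨orderOf_two_of_mul_self hzz hz1, hcx, ?_⟩
  have hy' : y = (x * y)⁻¹ * x := by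
    have := invpair_y_eq (x := x) hy
    rwa [zpow_neg, zpow_one] at this
  have hcc : Commute ((x * y) ^ m) (x * y)⁻¹ := ((Commute.refl (x * y)).pow_left m).inv_right
  have := hcc.mul_right hcx
  rwa [← hy'] at this

end InvPair2

end Cfsg.Agent.Lib.Helper1
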