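import Mathlib
import Cfsg.Prelude.Def_Involutions
import Cfsg.Agent.Lib.Helper1.InvPair

set_option autoImplicit false
set_option linter.style.haveILetI false

namespace Cfsg.Agent.Lib.Helper1

section StrEmb

variable {G : Type*} [Group G]

theorem mem_map_conj_iff (H : Subgroup G) (g x : G) :
    x ∈ H.map (MulAut.conj g).toMonoidHom ↔ g⁻¹ * x * g ∈ H := by
  constructor
  · rintro ⟨h, hh, rfl⟩
    simp only [MulEquiv.coe_toMonoidHom, MulAut.conj_apply]
    have : g⁻¹ * (g * h * g⁻¹) * g = h := by group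
    rw [this]; exact hh
  · intro h
    refine ⟨g⁻¹ * x * g, h, ?_⟩
    simp only [MulEquiv.coe_toMonoidHom, MulAut.conj_apply]
    group

theorem even_card_iff_exists_involution [Finite G] (K : Subgroup G) :
    Even (Nat.card K) ↔ ∃ t ∈ K, orderOf t = 2 := by
  haveI : Fact (Nat.Prime 2) := ⟨Nat.prime_two⟩
  constructor
  · intro h
    obtain ⟨t, ht⟩ := exists_prime_orderOf_dvd_card' (G := K) 2 h.two_dvd
    exact ⟨t.1, t.2, by rw [← ht]; exact (Subgroup.orderOf_coe t)⟩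
  · rintro ⟨t, htK, ht⟩
    rw [even_iff_two_dvd, ← ht, ← Subgroup.orderOf_mk t htK]
    exact orderOf_dvd_natCard _

theorem stronglyEmbedded_iff [Finite G] (H : Subgroup G) :
    Cfsg.IsStronglyEmbedded H ↔ H ≠ ⊤ ∧ Even (Nat.card H) ∧
      ∀ g : G, (∃ t ∈ H, orderOf t = 2 ∧ g⁻¹ * t * g ∈ H) → g ∈ H := by
  unfold Cfsg.IsStronglyEmbedded
  refine and_congr Iff.rfl (and_congr Iff.rfl ?_)
  refine forall_congr' fun g => ?_
  rw [← Nat.not_even_iff_odd, even_card_iff_exists_involution]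
  constructor
  · rintro h ⟨t, ht, hto, htg⟩
    by_contra hg
    exact h hg ⟨t, ⟨ht, (mem_map_conj_iff H g t).mpr htg⟩, hto⟩
  · intro h hg
    rintro ⟨t, ⟨ht, htg⟩, hto⟩
    exact hg (h ⟨t, ht, hto, (mem_map_conj_iff H g t).mp htg⟩)

end StrEmb

end Cfsg.Agent.Lib.Helper1
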