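import Mathlib

set_option autoImplicit false

namespace Cfsg.Agent.Lib.Helper1

open Matrix
open scoped LinearAlgebra.Projectivization MatrixGroups

variable {F : Type*} [Field F]

/-- The `2 × 2` determinant of two vectors. -/
def dt (v w : Fin 2 → F) : F := v 0 * w 1 - v 1 * w 0

/-- Distinct points of the projective line have independent representatives. -/
theorem dt_ne_zero_of_ne {p q : ℙ F (Fin 2 → F)} (h : p ≠ q) : dt p.rep q.rep ≠ 0 := by
  intro hdet
  apply h
  rw [← Projectivization.mk_rep p, ← Projectivization.mk_rep q, Projectivization.mk_eq_mk_iff']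
  have hv := p.rep_nonzero
  have hw := q.rep_nonzero
  set v := p.rep
  set w := q.rep
  have hdet' : v 0 * w 1 = v 1 * w 0 := sub_eq_zero.1 hdet
  by_cases hw0 : w 0 = 0
  · have hw1 : w 1 ≠ 0 := by
      intro h1; apply hw; ext i; fin_cases i <;> simp [hw0, h1]
    have hv0 : v 0 = 0 := by
      rw [hw0, mul_zero] at hdet'
      exact (mul_eq_zero.1 hdet').resolve_right hw1
    refine ⟨v 1 / w 1, ?_⟩
    ext i
    fin_cases i
    · simp [hw0, hv0]
    · simp [hw1]
  · refine ⟨v 0 / w 0, ?_⟩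
    ext i
    fin_cases i
    · simp [hw0]
    · simp only [Pi.smul_apply, smul_eq_mul]
      field_simp
      rw [mul_comm (w 0)]
      exact hdet'

/-- Cramer's identity in the plane. -/
theorem cramer2 (v₀ v₁ v₂ : Fin 2 → F) :
    dt v₂ v₁ • v₀ + dt v₀ v₂ • v₁ = dt v₀ v₁ • v₂ := by
  ext i
  fin_cases i <;> simp [dt] <;> ring

/-- the standard points of the projective line -/
noncomputable def pt0 : ℙ F (Fin 2 → F) :=
  Projectivization.mk F (![1, 0] : Fin 2 → F) (by intro h; simpa using congrFun h 0)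

noncomputable def pt1 : ℙ F (Fin 2 → F) :=
  Projectivization.mk F (![0, 1] : Fin 2 → F) (by intro h; simpa using congrFun h 1)

noncomputable def pt2 : ℙ F (Fin 2 → F) :=
  Projectivization.mk F (![1, 1] : Fin 2 → F) (by intro h; simpa using congrFun h 0)

/-- Any three distinct points are the image of the standard frame. -/
theorem exists_frame (p₀ p₁ p₂ : ℙ F (Fin 2 → F)) (h01 : p₀ ≠ p₁) (h02 : p₀ ≠ p₂) (h12 : p₁ ≠ p₂) :
    ∃ g : GL (Fin 2) F, (ProjGenLinGroup.mk g : PGL(Fin 2, F)) • (pt0 : ℙ F (Fin 2 → F)) = p₀ ∧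
      (ProjGenLinGroup.mk g : PGL(Fin 2, F)) • (pt1 : ℙ F (Fin 2 → F)) = p₁ ∧
      (ProjGenLinGroup.mk g : PGL(Fin 2, F)) • (pt2 : ℙ F (Fin 2 → F)) = p₂ := by
  set v₀ := p₀.rep with hv₀
  set v₁ := p₁.rep with hv₁
  set v₂ := p₂.rep with hv₂
  have hD : dt v₀ v₁ ≠ 0 := dt_ne_zero_of_ne h01
  have hα : dt v₂ v₁ ≠ 0 := dt_ne_zero_of_ne h12.symm
  have hβ : dt v₀ v₂ ≠ 0 := dt_ne_zero_of_ne h02
  set α := dt v₂ v₁
  set β := dt v₀ v₂
  let A : Matrix (Fin 2) (Fin 2) F := !![α * v₀ 0, β * v₁ 0; α * v₀ 1, β * v₁ 1]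
  have hA : A.det ≠ 0 := by
    have : A.det = α * β * dt v₀ v₁ := by
      rw [Matrix.det_fin_two_of]; simp only [dt]; ring
    rw [this]
    exact mul_ne_zero (mul_ne_zero hα hβ) hD
  refine ⟨GeneralLinearGroup.mkOfDetNeZero A hA, ?_, ?_, ?_⟩
  · rw [← Projectivization.mk_rep p₀]
    unfold pt0
    rw [Projectivization.PGL.mk_smul_mk, Projectivization.mk_eq_mk_iff']
    refine ⟨α, ?_⟩
    ext i
    fin_cases i <;> simp [Units.smul_def, GeneralLinearGroup.mkOfDetNeZero, A, Matrix.mulVec, dotProduct, hv₀]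
  · rw [← Projectivization.mk_rep p₁]
    unfold pt1
    rw [Projectivization.PGL.mk_smul_mk, Projectivization.mk_eq_mk_iff']
    refine ⟨β, ?_⟩
    ext i
    fin_cases i <;> simp [Units.smul_def, GeneralLinearGroup.mkOfDetNeZero, A, Matrix.mulVec, dotProduct, hv₁]
  · rw [← Projectivization.mk_rep p₂]
    unfold pt2
    rw [Projectivization.PGL.mk_smul_mk, Projectivization.mk_eq_mk_iff']
    refine ⟨dt v₀ v₁, ?_⟩
    rw [← hv₂, ← cramer2 v₀ v₁ v₂]
    ext i
    fin_cases i <;> simp [Units.smul_def, GeneralLinearGroup.mkOfDetNeZero, A, Matrix.mulVec, dotProduct] <;> rfl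

end Cfsg.Agent.Lib.Helper1

namespace Cfsg.Agent.Lib.Helper1

open Matrix
open scoped LinearAlgebra.Projectivization MatrixGroups

variable {F : Type*} [Field F]

/-- the standard frame as a function on `Fin 3` -/
noncomputable def stdFrame : Fin 3 → ℙ F (Fin 2 → F) := ![pt0, pt1, pt2]

theorem exists_frame' (x : Fin 3 ↪ ℙ F (Fin 2 → F)) :
    ∃ g : PGL(Fin 2, F), ∀ i, g • (stdFrame i : ℙ F (Fin 2 → F)) = x i := by
  obtain ⟨g, h0, h1, h2⟩ := exists_frame (x 0) (x 1) (x 2)
    (fun h => by simpa using x.injective h) (fun h => by simpa using x.injective h)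
    (fun h => by simpa using x.injective h)
  refine ⟨ProjGenLinGroup.mk g, ?_⟩
  intro i
  fin_cases i
  · exact h0
  · exact h1
  · exact h2

/-- `PGL_2(F)` is `3`-transitive on the projective line. -/
theorem pgl2_three_pretransitive :
    MulAction.IsMultiplyPretransitive (PGL(Fin 2, F)) (ℙ F (Fin 2 → F)) 3 := by
  rw [MulAction.isMultiplyPretransitive_iff]
  intro x y
  obtain ⟨gx, hx⟩ := exists_frame' x
  obtain ⟨gy, hy⟩ := exists_frame' y
  refine ⟨gy * gx⁻¹, ?_⟩
  ext i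
  rw [Function.Embedding.smul_apply, ← hx i, ← hy i, mul_smul, inv_smul_smul]

/-- An element of `PGL_2(F)` fixing the standard frame is trivial. -/
theorem pgl2_fix_frame (g : PGL(Fin 2, F)) (h0 : g • (pt0 : ℙ F (Fin 2 → F)) = pt0)
    (h1 : g • (pt1 : ℙ F (Fin 2 → F)) = pt1) (h2 : g • (pt2 : ℙ F (Fin 2 → F)) = pt2) : g = 1 := by
  induction g using Matrix.ProjGenLinGroup.induction_on with | mk A =>
  unfold pt0 at h0
  unfold pt1 at h1
  unfold pt2 at h2
  rw [Projectivization.PGL.mk_smul_mk, Projectivization.mk_eq_mk_iff'] at h0 h1 h2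
  obtain ⟨a, ha⟩ := h0
  obtain ⟨b, hb⟩ := h1
  obtain ⟨c, hc⟩ := h2
  have ha0 := congrFun ha 0
  have ha1 := congrFun ha 1
  have hb0 := congrFun hb 0
  have hb1 := congrFun hb 1
  have hc0 := congrFun hc 0
  have hc1 := congrFun hc 1
  simp [Units.smul_def, Matrix.mulVec, dotProduct] at ha0 ha1 hb0 hb1 hc0 hc1
  -- A = a • 1
  have ha_ne : a ≠ 0 := by
    intro h
    have hdet : (A : Matrix (Fin 2) (Fin 2) F).det ≠ 0 := by
      have := A.isUnit.map (Matrix.detMonoidHom (R := F) (n := Fin 2))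
      simpa using this.ne_zero
    apply hdet
    rw [Matrix.det_fin_two, ← ha0, ← ha1, h]; ring
  have hab : a = b := by
    have : a = c := by rw [hc0, ← ha0, ← hb0, add_zero]
    rw [this, hc1, ← ha1, ← hb1, zero_add]
  have hA : A = GeneralLinearGroup.scalar (Fin 2) (Units.mk0 a ha_ne) := by
    apply GeneralLinearGroup.ext
    intro i j
    fin_cases i <;> fin_cases j <;> simp [GeneralLinearGroup.scalar, ← ha0, ← ha1, ← hb0, hab, hb1]
  rw [hA]
  exact ProjGenLinGroup.mk_scalar _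

/-- `PGL_2(F)` acts sharply on triples of distinct points. -/
theorem pgl2_sharp (g : PGL(Fin 2, F)) (a b c : ℙ F (Fin 2 → F)) (hab : a ≠ b) (hac : a ≠ c)
    (hbc : b ≠ c) (ha : g • a = a) (hb : g • b = b) (hc : g • c = c) : g = 1 := by
  obtain ⟨h, h0, h1, h2⟩ := exists_frame a b c hab hac hbc
  set k : PGL(Fin 2, F) := ProjGenLinGroup.mk h with hk
  have key : k⁻¹ * g * k = 1 := by
    apply pgl2_fix_frame
    · rw [mul_smul, mul_smul, h0, ha, ← h0, inv_smul_smul]
    · rw [mul_smul, mul_smul, h1, hb, ← h1, inv_smul_smul]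
    · rw [mul_smul, mul_smul, h2, hc, ← h2, inv_smul_smul]
  have : g = k * (k⁻¹ * g * k) * k⁻¹ := by group
  rw [this, key]; group

end Cfsg.Agent.Lib.Helper1

namespace Cfsg.Agent.Lib.Helper1

open Matrix
open scoped LinearAlgebra.Projectivization MatrixGroups

variable {F : Type*} [Field F]

/-- The action of `SL_2` on the projective line factors through `PGL_2`. -/
theorem toPGL_smul (s : SpecialLinearGroup (Fin 2) F) (p : ℙ F (Fin 2 → F)) :
    (SpecialLinearGroup.toPGL s : PGL(Fin 2, F)) • p = s • p := by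
  induction p using Projectivization.ind with | _ v hv =>
  rfl

/-- If every unit is a square, `SL_2 → PGL_2` is surjective. -/
theorem toPGL_surjective_of_squares (h : ∀ r : Fˣ, ∃ k : Fˣ, k ^ 2 = r) :
    Function.Surjective (SpecialLinearGroup.toPGL : SpecialLinearGroup (Fin 2) F →* PGL(Fin 2, F)) := by
  intro g
  obtain ⟨x, hx⟩ := ProjectiveSpecialLinearGroup.toPGL_surj_of_roots (n := Fin 2) (R := F)
    (by simpa using h) g
  obtain ⟨s, rfl⟩ := QuotientGroup.mk_surjective x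
  exact ⟨s, hx⟩

/-- In characteristic `2` (finite field), `SL_2` is `3`-transitive on the projective line. -/
theorem sl2_three_pretransitive_of_char_two [Finite F] (hF : ringChar F = 2) :
    MulAction.IsMultiplyPretransitive (SpecialLinearGroup (Fin 2) F) (ℙ F (Fin 2 → F)) 3 := by
  rw [MulAction.isMultiplyPretransitive_iff]
  intro x y
  obtain ⟨g, hg⟩ := (MulAction.isMultiplyPretransitive_iff.1
    (pgl2_three_pretransitive (F := F))) x y
  have hsq : ∀ r : Fˣ, ∃ k : Fˣ, k ^ 2 = r := by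
    intro r
    obtain ⟨k, hk⟩ := FiniteField.isSquare_of_char_two hF (r : F)
    have hk0 : k ≠ 0 := by
      rintro rfl
      simp at hk
    exact ⟨Units.mk0 k hk0, Units.ext (by simp [pow_two, hk])⟩
  obtain ⟨s, rfl⟩ := toPGL_surjective_of_squares hsq g
  refine ⟨s, ?_⟩
  ext i
  rw [Function.Embedding.smul_apply, ← toPGL_smul, ← hg, Function.Embedding.smul_apply]

end Cfsg.Agent.Lib.Helper1

namespace Cfsg.Agent.Lib.Helper1

open Matrix
open scoped LinearAlgebra.Projectivization MatrixGroups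

/-- a triple of distinct elements as an embedding of `Fin 3` -/
def emb3 {α : Type*} (a b c : α) (hab : a ≠ b) (hac : a ≠ c) (hbc : b ≠ c) : Fin 3 ↪ α :=
  ⟨![a, b, c], by
    intro i j h
    fin_cases i <;> fin_cases j <;> first | rfl | (exfalso; simp at h; first | exact hab h | exact hac h | exact hbc h | exact hab h.symm | exact hac h.symm | exact hbc h.symm)⟩

variable {F : Type*} [Field F]

/-- point `[a : b]` of the projective line -/
noncomputable def ptOf (a b : F) (h : a ≠ 0 ∨ b ≠ 0) : ℙ F (Fin 2 → F) :=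
  Projectivization.mk F (![a, b] : Fin 2 → F) (by
    intro h0
    rcases h with h | h
    · exact h (by simpa using congrFun h0 0)
    · exact h (by simpa using congrFun h0 1))

theorem cross_of_ptOf_eq {a b c d : F} {h1 : a ≠ 0 ∨ b ≠ 0} {h2 : c ≠ 0 ∨ d ≠ 0}
    (h : ptOf a b h1 = ptOf c d h2) : a * d = b * c := by
  unfold ptOf at h
  rw [Projectivization.mk_eq_mk_iff'] at h
  obtain ⟨k, hk⟩ := h
  have h0 := congrFun hk 0
  have h1 := congrFun hk 1
  simp at h0 h1
  rw [← h0, ← h1]; ring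

theorem smul_ptOf (g : SpecialLinearGroup (Fin 2) F) (a b : F) (h : a ≠ 0 ∨ b ≠ 0) :
    ∃ h', g • ptOf a b h = ptOf (g 0 0 * a + g 0 1 * b) (g 1 0 * a + g 1 1 * b) h' := by
  have hne : (![g 0 0 * a + g 0 1 * b, g 1 0 * a + g 1 1 * b] : Fin 2 → F) ≠ 0 := by
    have h1 : (![g 0 0 * a + g 0 1 * b, g 1 0 * a + g 1 1 * b] : Fin 2 → F) = g • ![a, b] := by
      ext i
      fin_cases i <;> simp [Matrix.SpecialLinearGroup.smul_def, Matrix.mulVec, dotProduct]
    rw [h1]
    rw [smul_ne_zero_iff_ne]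
    intro h0
    rcases h with h | h
    · exact h (by simpa using congrFun h0 0)
    · exact h (by simpa using congrFun h0 1)
  have h' : g 0 0 * a + g 0 1 * b ≠ 0 ∨ g 1 0 * a + g 1 1 * b ≠ 0 := by
    by_contra hcon
    push Not at hcon
    apply hne
    ext i
    fin_cases i <;> simp [hcon.1, hcon.2]
  refine ⟨h', ?_⟩
  unfold ptOf
  rw [Projectivization.smul_mk]
  congr 1
  ext i
  fin_cases i <;> simp [Matrix.SpecialLinearGroup.smul_def, Matrix.mulVec, dotProduct]

/-- In odd characteristic, `SL_2(q)` is not `3`-transitive on the projective line. -/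
theorem not_sl2_three_pretransitive [Finite F] (hF : ringChar F ≠ 2) :
    ¬ MulAction.IsMultiplyPretransitive (SpecialLinearGroup (Fin 2) F) (ℙ F (Fin 2 → F)) 3 := by
  intro h
  obtain ⟨n, hn⟩ := FiniteField.exists_nonsquare hF
  have hn0 : n ≠ 0 := by
    rintro rfl
    exact hn ⟨0, by simp⟩
  set p0 : ℙ F (Fin 2 → F) := ptOf 1 0 (Or.inl one_ne_zero) with hp0
  set p1 : ℙ F (Fin 2 → F) := ptOf 0 1 (Or.inr one_ne_zero) with hp1
  set p2 : ℙ F (Fin 2 → F) := ptOf 1 1 (Or.inl one_ne_zero) with hp2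
  set pn : ℙ F (Fin 2 → F) := ptOf n 1 (Or.inl hn0) with hpn
  have h01 : p0 ≠ p1 := fun h => by simpa using cross_of_ptOf_eq h
  have h02 : p0 ≠ p2 := fun h => by simpa using cross_of_ptOf_eq h
  have h12 : p1 ≠ p2 := fun h => by simpa using cross_of_ptOf_eq h
  have h0n : p0 ≠ pn := fun h => by simpa using cross_of_ptOf_eq h
  have h1n : p1 ≠ pn := fun h => by
    have := cross_of_ptOf_eq h
    simp at this
    exact hn0 this.symm
  obtain ⟨g, hg⟩ := (MulAction.isMultiplyPretransitive_iff.1 h)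
    (emb3 p0 p1 p2 h01 h02 h12) (emb3 p0 p1 pn h01 h0n h1n)
  have e0 : g • p0 = p0 := by
    have h1 : (g • emb3 p0 p1 p2 h01 h02 h12) 0 = (emb3 p0 p1 pn h01 h0n h1n) 0 := by rw [hg]
    rw [Function.Embedding.smul_apply] at h1
    exact h1
  have e1 : g • p1 = p1 := by
    have h1 : (g • emb3 p0 p1 p2 h01 h02 h12) 1 = (emb3 p0 p1 pn h01 h0n h1n) 1 := by rw [hg]
    rw [Function.Embedding.smul_apply] at h1
    exact h1
  have e2 : g • p2 = pn := by
    have h1 : (g • emb3 p0 p1 p2 h01 h02 h12) 2 = (emb3 p0 p1 pn h01 h0n h1n) 2 := by rw [hg]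
    rw [Function.Embedding.smul_apply] at h1
    exact h1
  obtain ⟨_, f0⟩ := smul_ptOf g 1 0 (Or.inl one_ne_zero)
  obtain ⟨_, f1⟩ := smul_ptOf g 0 1 (Or.inr one_ne_zero)
  obtain ⟨_, f2⟩ := smul_ptOf g 1 1 (Or.inl one_ne_zero)
  rw [← hp0, e0] at f0
  rw [← hp1, e1] at f1
  rw [← hp2, e2] at f2
  have c0 := cross_of_ptOf_eq f0
  have c1 := cross_of_ptOf_eq f1
  have c2 := cross_of_ptOf_eq f2
  simp at c0 c1 c2
  have hdet := g.2
  rw [Matrix.det_fin_two] at hdet
  have g10 : (g : Matrix (Fin 2) (Fin 2) F) 1 0 = 0 := c0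
  have g01 : (g : Matrix (Fin 2) (Fin 2) F) 0 1 = 0 := c1.symm
  rw [g10, g01, mul_zero, sub_zero] at hdet
  rw [g10, g01, add_zero, zero_add] at c2
  -- n = g00 * ... 
  have hd : (g : Matrix (Fin 2) (Fin 2) F) 1 1 ≠ 0 := by
    intro h0; rw [h0, mul_zero] at hdet; exact zero_ne_one hdet
  apply hn
  refine ⟨(g : Matrix (Fin 2) (Fin 2) F) 0 0, ?_⟩
  linear_combination (-n) * hdet + (g : Matrix (Fin 2) (Fin 2) F) 0 0 * c2

end Cfsg.Agent.Lib.Helper1
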