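import Mathlib
import Cfsg.Agent.Lib.Helper1.BR7
import Cfsg.Agent.S1230

/-!
# Brauer–Reynolds (`|G| < p³`): the case `B = 0`, `G ≅ PSL₂(2^m)` with `p = 2^m + 1`
-/

set_option autoImplicit false
set_option linter.unusedSectionVars false

namespace Cfsg.Agent.Lib.Helper1.BR

open Cfsg Cfsg.Agent.Lib.Helper8 Cfsg.Agent.Lib.Helper1 Cfsg.Agent.Lib.Helper4
open Cfsg.Agent.Lib.Helper1.O7920
open scoped ComplexConjugate Pointwise

universe u

section

variable {G : Type u} [Group G] [Fintype G]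

/-- elements of order `p` are conjugate to powers of a fixed one -/
theorem conj_pow_of_orderOf {p : ℕ} [Fact p.Prime] (hsq : ¬ p ^ 2 ∣ Nat.card G) {x : G}
    (hx : orderOf x = p) {g : G} (hg : orderOf g = p) :
    ∃ (c : G) (k : ℕ), ¬ p ∣ k ∧ g = c * x ^ k * c⁻¹ := by
  have hp : p.Prime := Fact.out
  obtain ⟨P, hP⟩ := exists_sylow_zpowers hx hsq
  obtain ⟨Q, hQ⟩ := exists_sylow_zpowers hg hsq
  obtain ⟨c, hc⟩ := MulAction.exists_smul_eq G P Q
  have h3 : (Q : Subgroup G) = MulAut.conj c • (P : Subgroup G) := by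
    rw [← hc]
    rfl
  have hgQ : g ∈ (Q : Subgroup G) := by
    rw [hQ]
    exact Subgroup.mem_zpowers g
  rw [h3, hP, Subgroup.mem_pointwise_smul_iff_inv_smul_mem] at hgQ
  have h4 : (MulAut.conj c)⁻¹ • g = c⁻¹ * g * c := by
    simp only [MulAut.smul_def, MulAut.conj_inv_apply]
  rw [h4, ← mem_powers_iff_mem_zpowers, Submonoid.mem_powers_iff] at hgQ
  obtain ⟨k, hk⟩ := hgQ
  refine ⟨c, k, ?_, ?_⟩
  · intro hpk
    rw [← hx, orderOf_dvd_iff_pow_eq_one] at hpk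
    rw [hpk] at hk
    have hg1 : g = 1 := by
      have : g = c * (c⁻¹ * g * c) * c⁻¹ := by group
      rw [this, ← hk]
      group
    rw [hg1, orderOf_one] at hg
    have := hp.one_lt
    omega
  · rw [hk]
    group

variable [IsSimpleGroup G]
variable [Fintype (IrrCharacter G)] [DecidableEq (IrrCharacter G)]
variable {p n q : ℕ} [Fact p.Prime] {M : Ideal AlgInt} {x : G}
variable {X Y : Finset (IrrCharacter G)} {εX : IrrCharacter G → ℤ}

/-- the character of degree `p - 1` and its values -/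
theorem BRData.exists_chi (h : BRData p n q M x X Y εX) (hn2 : 2 ≤ n)
    (hB0 : ((X.erase (trivIrr G)).filter (fun χ => εX χ = 1)).card = 0)
    (hx : orderOf x = p) (hsq : ¬ p ^ 2 ∣ Nat.card G)
    (hselfall : ∀ y : G, orderOf y = p → ∀ t : G, t * y = y * t → t ∈ Subgroup.zpowers y) :
    q = 2 ∧ ∃ χ : IrrCharacter G, (χ : G → ℂ) 1 = ((q * (n + 1) : ℕ) : ℂ) ∧
      (∀ g : G, (∃ r, r.Prime ∧ r ∣ q * (n + 1) ∧ r ∣ orderOf g) → (χ : G → ℂ) g = 0) ∧
      (∀ g : G, p ∣ orderOf g → (χ : G → ℂ) g = -1) ∧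
      (∀ g : G, g ≠ 1 → ¬ p ∣ orderOf g →
        (¬ ∃ r, r.Prime ∧ r ∣ q * (n + 1) ∧ r ∣ orderOf g) → (χ : G → ℂ) g = 1) := by
  have hp : p.Prime := Fact.out
  have hq : q = 2 := by
    have := h.hB
    rw [hB0] at this
    omega
  have hXc : (X.erase (trivIrr G)).card = 1 := by
    rw [Finset.card_erase_of_mem h.ht0, h.bd.cardX, hq]
  obtain ⟨χ, hχ⟩ := Finset.card_eq_one.1 hXc
  have hχmem : χ ∈ X.erase (trivIrr G) := by
    rw [hχ]
    exact Finset.mem_singleton_self χ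
  have hχX := Finset.mem_of_mem_erase hχmem
  have hne := Finset.ne_of_mem_erase hχmem
  have hε : εX χ = -1 := by
    rcases h.hX χ hχX hne with ⟨h1, -⟩ | ⟨h1, -⟩
    · exfalso
      have h2 : χ ∈ (X.erase (trivIrr G)).filter (fun χ => εX χ = 1) :=
        Finset.mem_filter.2 ⟨hχmem, h1⟩
      have := Finset.card_pos.2 ⟨χ, h2⟩
      omega
    · exact h1
  obtain ⟨-, -, ha3, -⟩ := h.arith hn2
  have hdeg : deg χ = q * (n + 1) := by
    rcases h.hX χ hχX hne with ⟨h1, -⟩ | ⟨-, h2⟩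
    · rw [hε] at h1
      norm_num at h1
    · rw [h2, ha3]
  have hsumX : ∀ F : IrrCharacter G → ℂ, ∑ ψ ∈ X, F ψ = F (trivIrr G) + F χ := by
    intro F
    rw [← Finset.add_sum_erase X _ h.ht0, hχ, Finset.sum_singleton]
  obtain ⟨θ, hθ⟩ := h.exists_mem_Y hn2
  refine ⟨hq, χ, ?_, ?_, ?_, ?_⟩
  · rw [deg_cast, hdeg]
  · rintro g ⟨r, hr, hr1, hrg⟩
    exact h.vanish_neg hn2 hχX hne hε hr hr1 hrg
  · intro g hg
    obtain ⟨c, k, hk, rfl⟩ := conj_pow_of_orderOf hsq hx (orderOf_eq_of_dvd hselfall hg)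
    rw [isClassFunction_irr χ.2 (x ^ k) c, h.hval χ hχX k hk, hε]
    norm_num
  · intro g hg1 hgp hgE
    have hne1 : orderOf g ≠ 1 := fun h => hg1 (orderOf_eq_one_iff.1 h)
    obtain ⟨r, hr, hrg⟩ := Nat.exists_prime_and_dvd hne1
    have hrG : r ∣ Nat.card G := hrg.trans (orderOf_dvd_natCard g)
    rw [h.card_eq hn2] at hrG
    have hr3 : r ∣ q * n + 1 := by
      rcases (Nat.Prime.dvd_mul hr).1 hrG with h5 | h5
      · rcases (Nat.Prime.dvd_mul hr).1 h5 with h6 | h6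
        · exfalso
          have hrp : r = p := (Nat.prime_dvd_prime_iff_eq hr hp).1 h6
          exact hgp (hrp ▸ hrg)
        · exact absurd ⟨r, hr, h6, hrg⟩ hgE
      · exact h5
    have h2 := h.hrel θ hθ g hgp
    rw [h.vanish_Y hn2 hθ hr hr3 hrg, neg_zero, hsumX, h.hε0, hε, trivIrr_apply] at h2
    push_cast at h2
    linear_combination h2

end

end Cfsg.Agent.Lib.Helper1.BR
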