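import Mathlib
import Cfsg.Agent.Lib.Helper1.BR8

/-!
# Brauer–Reynolds (`|G| < p³`): the case `B = 0`, continued
-/

set_option autoImplicit false
set_option linter.unusedSectionVars false

namespace Cfsg.Agent.Lib.Helper1.BR

open Cfsg Cfsg.Agent.Lib.Helper8 Cfsg.Agent.Lib.Helper1 Cfsg.Agent.Lib.Helper4
open Cfsg.Agent.Lib.Helper1.O7920
open scoped ComplexConjugate Pointwise

universe u

section

variable {G : Type u} [Group G] [Fintype G] [IsSimpleGroup G]
variable [Fintype (IrrCharacter G)] [DecidableEq (IrrCharacter G)]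
variable {p n q : ℕ} [Fact p.Prime] {M : Ideal AlgInt} {x : G}
variable {X Y : Finset (IrrCharacter G)} {εX : IrrCharacter G → ℤ}

/-- the number of elements whose order is not prime to `p - 1` -/
theorem BRData.card_E (h : BRData p n q M x X Y εX) (hn2 : 2 ≤ n)
    (hB0 : ((X.erase (trivIrr G)).filter (fun χ => εX χ = 1)).card = 0)
    (hx : orderOf x = p) (hsq : ¬ p ^ 2 ∣ Nat.card G)
    (hselfall : ∀ y : G, orderOf y = p → ∀ t : G, t * y = y * t → t ∈ Subgroup.zpowers y) :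
    Nat.card {g : G // ∃ r, r.Prime ∧ r ∣ q * (n + 1) ∧ r ∣ orderOf g} = p * (q * n + 1) := by
  classical
  obtain ⟨hq, χ, hχ1, hχ2, hχ3, hχ4⟩ := h.exists_chi hn2 hB0 hx hsq hselfall
  obtain ⟨ha1, ha2, ha3, ha4⟩ := h.arith hn2
  have hinner := classInner_irr_self χ.2
  unfold classInner at hinner
  have hGne : (Nat.card G : ℂ) ≠ 0 := by exact_mod_cast Nat.card_pos.ne'
  have hsum : ∑ g : G, (χ : G → ℂ) g * conj ((χ : G → ℂ) g) = (Nat.card G : ℂ) :=
    ((inv_mul_eq_one₀ hGne).1 hinner).symm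
  have hpt : ∀ g : G, 1 - (χ : G → ℂ) g * conj ((χ : G → ℂ) g) =
      (if g = 1 then (1 - ((q * (n + 1) : ℕ) : ℂ) * ((q * (n + 1) : ℕ) : ℂ)) else 0) +
      (if (∃ r, r.Prime ∧ r ∣ q * (n + 1) ∧ r ∣ orderOf g) then (1 : ℂ) else 0) := by
    intro g
    by_cases hg1 : g = 1
    · subst hg1
      have hE1 : ¬ ∃ r, r.Prime ∧ r ∣ q * (n + 1) ∧ r ∣ orderOf (1 : G) := by
        rintro ⟨r, hr, -, hr1⟩
        rw [orderOf_one] at hr1
        exact hr.one_lt.ne' (Nat.dvd_one.1 hr1)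
      rw [if_pos rfl, if_neg hE1, hχ1, map_natCast, add_zero]
    · rw [if_neg hg1, zero_add]
      by_cases hgE : ∃ r, r.Prime ∧ r ∣ q * (n + 1) ∧ r ∣ orderOf g
      · rw [if_pos hgE, hχ2 g hgE]
        simp
      · rw [if_neg hgE]
        by_cases hgp : p ∣ orderOf g
        · rw [hχ3 g hgp]
          simp
        · rw [hχ4 g hg1 hgp hgE]
          simp
  have hsum2 : ∑ g : G, (1 - (χ : G → ℂ) g * conj ((χ : G → ℂ) g)) = 0 := by
    rw [Finset.sum_sub_distrib, hsum, Finset.sum_const, Finset.card_univ,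
      ← Nat.card_eq_fintype_card]
    simp
  rw [Finset.sum_congr rfl (fun g _ => hpt g), Finset.sum_add_distrib, Finset.sum_ite_eq'] at hsum2
  simp only [Finset.mem_univ, if_true] at hsum2
  rw [Finset.sum_boole] at hsum2
  rw [Nat.card_eq_fintype_card, Fintype.card_subtype]
  have h5 : ((Finset.univ.filter fun g : G =>
      ∃ r, r.Prime ∧ r ∣ q * (n + 1) ∧ r ∣ orderOf g).card : ℂ) =
      ((p * (q * n + 1) : ℕ) : ℂ) := by
    have h6 : ((p * (q * n + 1) : ℕ) : ℂ) =
        ((q * (n + 1) : ℕ) : ℂ) * ((q * (n + 1) : ℕ) : ℂ) - 1 := by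
      rw [ha1, hq]
      push_cast
      ring
    rw [h6]
    linear_combination hsum2
  exact_mod_cast h5

/-- every element whose order is not prime to `p - 1` is conjugate to any given involution -/
theorem BRData.isConj_of_E (h : BRData p n q M x X Y εX) (hn2 : 2 ≤ n)
    (hB0 : ((X.erase (trivIrr G)).filter (fun χ => εX χ = 1)).card = 0)
    (hx : orderOf x = p) (hsq : ¬ p ^ 2 ∣ Nat.card G)
    (hselfall : ∀ y : G, orderOf y = p → ∀ t : G, t * y = y * t → t ∈ Subgroup.zpowers y)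
    {s : G} (hs : orderOf s = 2) {g : G}
    (hg : ∃ r, r.Prime ∧ r ∣ q * (n + 1) ∧ r ∣ orderOf g) : IsConj s g := by
  classical
  have h1 := card_isConj_mul_card_centralizer s
  have h2 := h.card_centralizer_dvd hn2 hselfall hs
  have h3 := h.card_E hn2 hB0 hx hsq hselfall
  have hconj : ∀ v : G, IsConj s v → ∃ r, r.Prime ∧ r ∣ q * (n + 1) ∧ r ∣ orderOf v := by
    intro v hv
    obtain ⟨c, rfl⟩ := isConj_iff.1 hv
    have := (MulAut.conj c).orderOf_eq s
    rw [MulAut.conj_apply] at this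
    exact ⟨2, Nat.prime_two, h.two_dvd hn2, by rw [this, hs]⟩
  let f : {v : G // IsConj s v} →
      {g : G // ∃ r, r.Prime ∧ r ∣ q * (n + 1) ∧ r ∣ orderOf g} := fun v => ⟨v.1, hconj v.1 v.2⟩
  have hf : Function.Injective f := by
    intro a b hab
    apply Subtype.ext
    have h4 : (f a).1 = (f b).1 := by rw [hab]
    exact h4
  have hpos : 0 < q * (n + 1) := Nat.mul_pos (by have := h.hq2; omega) (by omega)
  have hle : Nat.card {g : G // ∃ r, r.Prime ∧ r ∣ q * (n + 1) ∧ r ∣ orderOf g} ≤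
      Nat.card {v : G // IsConj s v} := by
    rw [h3]
    have hC : Nat.card (Subgroup.centralizer ({s} : Set G)) ≤ q * (n + 1) :=
      Nat.le_of_dvd hpos h2
    by_contra hlt
    push Not at hlt
    have h5 : Nat.card {v : G // IsConj s v} * Nat.card (Subgroup.centralizer ({s} : Set G)) <
        p * (q * n + 1) * (q * (n + 1)) := Nat.mul_lt_mul_of_lt_of_le hlt hC hpos
    rw [h1, h.card_eq hn2] at h5
    have h6 : p * (q * (n + 1)) * (q * n + 1) = p * (q * n + 1) * (q * (n + 1)) := by ring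
    omega
  obtain ⟨v, hv⟩ := (hf.bijective_of_nat_card_le hle).2 ⟨g, hg⟩
  have hvg : v.1 = g := congrArg Subtype.val hv
  rw [← hvg]
  exact v.2

/-- every element whose order is not prime to `p - 1` is an involution -/
theorem BRData.orderOf_eq_two_of_E (h : BRData p n q M x X Y εX) (hn2 : 2 ≤ n)
    (hB0 : ((X.erase (trivIrr G)).filter (fun χ => εX χ = 1)).card = 0)
    (hx : orderOf x = p) (hsq : ¬ p ^ 2 ∣ Nat.card G)
    (hselfall : ∀ y : G, orderOf y = p → ∀ t : G, t * y = y * t → t ∈ Subgroup.zpowers y)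
    {g : G} (hg : ∃ r, r.Prime ∧ r ∣ q * (n + 1) ∧ r ∣ orderOf g) : orderOf g = 2 := by
  have h2G : 2 ∣ Nat.card G := by
    rw [h.card_eq hn2]
    exact dvd_mul_of_dvd_left (dvd_mul_of_dvd_right (h.two_dvd hn2) p) _
  have : Fact (Nat.Prime 2) := ⟨Nat.prime_two⟩
  obtain ⟨s, hs⟩ := exists_prime_orderOf_dvd_card' (G := G) 2 h2G
  obtain ⟨c, hc⟩ := isConj_iff.1 (h.isConj_of_E hn2 hB0 hx hsq hselfall hs hg)
  have := (MulAut.conj c).orderOf_eq s
  rw [MulAut.conj_apply, hc, hs] at this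
  exact this

/-- `p - 1` is a power of two -/
theorem BRData.exists_two_pow (h : BRData p n q M x X Y εX) (hn2 : 2 ≤ n)
    (hB0 : ((X.erase (trivIrr G)).filter (fun χ => εX χ = 1)).card = 0)
    (hx : orderOf x = p) (hsq : ¬ p ^ 2 ∣ Nat.card G)
    (hselfall : ∀ y : G, orderOf y = p → ∀ t : G, t * y = y * t → t ∈ Subgroup.zpowers y) :
    ∃ m : ℕ, q * (n + 1) = 2 ^ m := by
  have hpos : 0 < q * (n + 1) := Nat.mul_pos (by have := h.hq2; omega) (by omega)
  refine ⟨_, Nat.eq_prime_pow_of_unique_prime_dvd hpos.ne' ?_⟩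
  intro r hr hr1
  have : Fact r.Prime := ⟨hr⟩
  have hrG : r ∣ Nat.card G := by
    rw [h.card_eq hn2]
    exact dvd_mul_of_dvd_left (dvd_mul_of_dvd_right hr1 p) _
  obtain ⟨g, hg⟩ := exists_prime_orderOf_dvd_card' (G := G) r hrG
  have := h.orderOf_eq_two_of_E hn2 hB0 hx hsq hselfall (g := g) ⟨r, hr, hr1, by rw [hg]⟩
  rw [← hg, this]

end

end Cfsg.Agent.Lib.Helper1.BR
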