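import Mathlib
import Cfsg.Agent.Lib.Helper1.BR9

/-!
# Brauer–Reynolds (`|G| < p³`): the case `n ≥ 2` gives `PSL₂(2^m)` with `p = 2^m + 1`
-/

set_option autoImplicit false
set_option linter.unusedSectionVars false

namespace Cfsg.Agent.Lib.Helper1.BR

open Cfsg Cfsg.Agent.Lib.Helper8 Cfsg.Agent.Lib.Helper1 Cfsg.Agent.Lib.Helper4
open Cfsg.Agent.Lib.Helper1.O7920
open scoped ComplexConjugate Pointwise

universe u

section

variable {G : Type u} [Group G] [Fintype G] [IsSimpleGroup G]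
variable [Fintype (IrrCharacter G)] [DecidableEq (IrrCharacter G)]
variable {p n q : ℕ} [Fact p.Prime] {M : Ideal AlgInt} {x : G}
variable {X Y : Finset (IrrCharacter G)} {εX : IrrCharacter G → ℤ}

/-- the centralizer of an involution is elementary abelian -/
theorem BRData.centralizer_invol (h : BRData p n q M x X Y εX) (hn2 : 2 ≤ n)
    (hB0 : ((X.erase (trivIrr G)).filter (fun χ => εX χ = 1)).card = 0)
    (hx : orderOf x = p) (hsq : ¬ p ^ 2 ∣ Nat.card G)
    (hselfall : ∀ y : G, orderOf y = p → ∀ t : G, t * y = y * t → t ∈ Subgroup.zpowers y)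
    {t : G} (ht : orderOf t = 2) :
    IsMulCommutative (Subgroup.centralizer ({t} : Set G)) ∧
      ∀ c ∈ Subgroup.centralizer ({t} : Set G), c ^ 2 = 1 := by
  have hsqr : ∀ c ∈ Subgroup.centralizer ({t} : Set G), c ^ 2 = 1 := by
    intro c hc
    have hcomm : Commute t c := (Subgroup.mem_centralizer_singleton_iff.1 hc).symm
    by_cases h2 : 2 ∣ orderOf c
    · rw [← h.orderOf_eq_two_of_E hn2 hB0 hx hsq hselfall
        (g := c) ⟨2, Nat.prime_two, h.two_dvd hn2, h2⟩, pow_orderOf_eq_one]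
    · have hcop : Nat.Coprime (orderOf t) (orderOf c) := by
        rw [ht]
        exact (Nat.Prime.coprime_iff_not_dvd Nat.prime_two).2 h2
      have ho : orderOf (t * c) = 2 * orderOf c := by
        rw [hcomm.orderOf_mul_eq_mul_orderOf_of_coprime hcop, ht]
      have h3 := h.orderOf_eq_two_of_E hn2 hB0 hx hsq hselfall
        (g := t * c) ⟨2, Nat.prime_two, h.two_dvd hn2, by rw [ho]; exact dvd_mul_right 2 _⟩
      rw [ho] at h3
      have h4 : orderOf c = 1 := by omega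
      rw [orderOf_eq_one_iff.1 h4, one_pow]
  refine ⟨⟨⟨fun a b => ?_⟩⟩, hsqr⟩
  apply Subtype.ext
  have ha := hsqr a.1 a.2
  have hb := hsqr b.1 b.2
  have hab := hsqr (a.1 * b.1) (mul_mem a.2 b.2)
  rw [Subgroup.coe_mul, Subgroup.coe_mul]
  rw [sq] at ha hb hab
  calc a.1 * b.1 = a.1 * (a.1 * b.1 * (a.1 * b.1)) * b.1 := by rw [hab, mul_one]
    _ = a.1 * a.1 * (b.1 * a.1) * (b.1 * b.1) := by group
    _ = b.1 * a.1 := by rw [ha, hb, one_mul, mul_one]

/-- **`G ≅ PSL₂(2^m)` with `p = 2^m + 1`.** -/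
theorem BRData.exists_equiv_psl (h : BRData p n q M x X Y εX) (hn2 : 2 ≤ n)
    (hB0 : ((X.erase (trivIrr G)).filter (fun χ => εX χ = 1)).card = 0)
    (hx : orderOf x = p) (hsq : ¬ p ^ 2 ∣ Nat.card G)
    (hselfall : ∀ y : G, orderOf y = p → ∀ t : G, t * y = y * t → t ∈ Subgroup.zpowers y) :
    ∃ (m : ℕ) (F : Type) (_ : Field F) (_ : Fintype F), Fintype.card F = 2 ^ m ∧
      p = 2 ^ m + 1 ∧ 3 < p ∧
      Nonempty (G ≃* Matrix.ProjectiveSpecialLinearGroup (Fin 2) F) := by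
  obtain ⟨m, hm⟩ := h.exists_two_pow hn2 hB0 hx hsq hselfall
  obtain ⟨ha1, ha2, ha3, ha4⟩ := h.arith hn2
  have h7 := h.p_ge hn2
  have : Fact (Nat.Prime 2) := ⟨Nat.prime_two⟩
  obtain ⟨T⟩ := (inferInstance : Nonempty (Sylow 2 G))
  have hodd : ¬ 2 ∣ p * (q * n + 1) :=
    h.not_dvd_of_dvd_pred hn2 Nat.prime_two (h.two_dvd hn2)
  have hpos : 0 < p * (q * n + 1) := Nat.mul_pos (by omega) (by omega)
  have hT : Nat.card T = 2 ^ m := by
    have h1 := T.card_eq_multiplicity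
    have h2 : (Nat.card G).factorization 2 = m := by
      rw [h.card_eq hn2, hm]
      have h3 : p * 2 ^ m * (q * n + 1) = 2 ^ m * (p * (q * n + 1)) := by ring
      rw [h3, Nat.factorization_mul (by positivity) hpos.ne',
        Nat.Prime.factorization_pow Nat.prime_two]
      simp [Nat.factorization_eq_zero_of_not_dvd hodd]
    rw [h2] at h1
    exact h1
  have hm2 : 2 ≤ m := by
    by_contra hcon
    have hm1 : m ≤ 1 := by omega
    have : 2 ^ m ≤ 2 ^ 1 := Nat.pow_le_pow_right (by norm_num) hm1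
    omega
  have hnc : ¬ IsCyclic (T : Subgroup G) := by
    intro hcyc
    obtain ⟨g, hg⟩ := IsCyclic.exists_ofOrder_eq_natCard (α := (T : Subgroup G))
    rw [hT] at hg
    have hg' : orderOf (g : G) = 2 ^ m := by rw [Subgroup.orderOf_coe, hg]
    have h3 := h.orderOf_eq_two_of_E hn2 hB0 hx hsq hselfall (g := (g : G))
      ⟨2, Nat.prime_two, h.two_dvd hn2, by rw [hg']; exact dvd_pow_self 2 (by omega)⟩
    rw [hg'] at h3
    have : 2 ^ 2 ≤ 2 ^ m := Nat.pow_le_pow_right (by norm_num) hm2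
    omega
  have hnn : ¬ (T : Subgroup G).Normal := by
    intro hnorm
    rcases hnorm.eq_bot_or_eq_top with h1 | h1
    · have h2 : Nat.card (T : Subgroup G) = 1 := by rw [h1, Subgroup.card_bot]
      have : 2 ^ 2 ≤ 2 ^ m := Nat.pow_le_pow_right (by norm_num) hm2
      omega
    · have h2 : Nat.card (T : Subgroup G) = Nat.card G := by rw [h1, Subgroup.card_top]
      rw [hT, h.card_eq hn2, hm] at h2
      have h3 : p * 2 ^ m * (q * n + 1) = 2 ^ m * (p * (q * n + 1)) := by ring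
      rw [h3] at h2
      have h4 : 2 ^ m * 1 = 2 ^ m * (p * (q * n + 1)) := by rw [mul_one]; exact h2
      have h5 := Nat.eq_of_mul_eq_mul_left (by positivity) h4
      have : p * 1 ≤ p * (q * n + 1) := Nat.mul_le_mul_left _ (by omega)
      omega
  obtain ⟨F, hF1, hF2, hcard, he⟩ := Cfsg.Agent.S1230.result T hnc hnn
    (fun t ht => h.centralizer_invol hn2 hB0 hx hsq hselfall ht)
  refine ⟨m, F, hF1, hF2, by rw [hcard, hT], ?_, by omega, he⟩
  rw [ha1, hm]

end

section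

variable {G : Type u} [Group G] [Fintype G] [IsSimpleGroup G]

/-- **The case `n_p ≥ 1 + 2p`.** -/
theorem case_two (hG : ¬ IsCyclic G) {p : ℕ} [Fact p.Prime] (hdvd : p ∣ Nat.card G)
    (hbig : Nat.card G < p ^ 3) {n : ℕ} (hn2 : 2 ≤ n) (hnp : Nat.card (Sylow p G) = 1 + n * p) :
    ∃ (m : ℕ) (F : Type) (_ : Field F) (_ : Fintype F), Fintype.card F = 2 ^ m ∧
      p = 2 ^ m + 1 ∧ 3 < p ∧
      Nonempty (G ≃* Matrix.ProjectiveSpecialLinearGroup (Fin 2) F) := by
  classical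
  have : Fintype (IrrCharacter G) := Fintype.ofFinite _
  obtain ⟨M, hM⟩ := exists_isPModular p
  obtain ⟨x, hx⟩ := exists_prime_orderOf_dvd_card' (G := G) p hdvd
  have hsq := not_sq_dvd hG hdvd hbig
  obtain ⟨q, X, Y, εX, h⟩ := exists_brData hG hdvd hbig hn2 hnp hM hx
  have hselfall : ∀ y : G, orderOf y = p → ∀ t : G, t * y = y * t → t ∈ Subgroup.zpowers y := by
    intro y hy
    obtain ⟨q', X', Y', εX', h'⟩ := exists_brData hG hdvd hbig hn2 hnp hM hy
    exact h'.hself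
  have hB0 := h.B_eq_zero hn2 hM hx hsq hselfall
  exact h.exists_equiv_psl hn2 hB0 hx hsq hselfall

end

end Cfsg.Agent.Lib.Helper1.BR
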