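import Mathlib

set_option autoImplicit false

namespace Cfsg.Agent.Lib.Helper1.SylowSimple

open Subgroup

variable {G : Type*} [Group G] [Finite G]

theorem card_sylow_eq_prime {p : ℕ} [Fact p.Prime] (P P' : Sylow p G) :
    Nat.card (P' : Subgroup G) = Nat.card (P : Subgroup G) := by
  rw [Sylow.card_eq_multiplicity, Sylow.card_eq_multiplicity]

/-- all Sylow normalizers have the same order -/
theorem card_normalizer_eq_of_sylow {p : ℕ} [Fact p.Prime] (P P' : Sylow p G) :
    Nat.card (normalizer ((P' : Subgroup G) : Set G)) = Nat.card (normalizer ((P : Subgroup G) : Set G)) := by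
  have h1 : Nat.card (Sylow p G) = (normalizer ((P : Subgroup G) : Set G)).index :=
    Sylow.card_eq_index_normalizer P
  have h2 : Nat.card (Sylow p G) = (normalizer ((P' : Subgroup G) : Set G)).index :=
    Sylow.card_eq_index_normalizer P'
  have h3 := Subgroup.index_mul_card (normalizer ((P : Subgroup G) : Set G))
  have h4 := Subgroup.index_mul_card (normalizer ((P' : Subgroup G) : Set G))
  rw [← h1] at h3
  rw [← h2, ← h3] at h4
  have hpos : 0 < Nat.card (Sylow p G) := Nat.card_pos
  exact Nat.eq_of_mul_eq_mul_left hpos h4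

/-- the N/C theorem for a Sylow subgroup of prime order, with Sylow's congruence -/
theorem normalizer_numerics {p : ℕ} [hp : Fact p.Prime] (P : Sylow p G)
    (hP : Nat.card (P : Subgroup G) = p) :
    ∃ k, k ∣ p - 1 ∧
      Nat.card (normalizer ((P : Subgroup G) : Set G)) = Nat.card (centralizer ((P : Subgroup G) : Set G)) * k ∧
      Nat.card (normalizer ((P : Subgroup G) : Set G)) ∣ Nat.card G ∧
      (Nat.card G / Nat.card (normalizer ((P : Subgroup G) : Set G))) % p = 1 := by
  have hcyc : IsCyclic (P : Subgroup G) := isCyclic_of_prime_card hP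
  have key := card_dvd_of_injective _
    (QuotientGroup.kerLift_injective (P : Subgroup G).normalizerMonoidHom)
  rw [normalizerMonoidHom_ker, IsCyclic.card_mulAut, hP, Nat.totient_prime hp.out] at key
  have hCN : centralizer ((P : Subgroup G) : Set G) ≤ normalizer ((P : Subgroup G) : Set G) := by
    intro g hg
    rw [mem_normalizer_iff]
    intro x
    constructor
    · intro hx
      have := hg x hx
      rw [show g * x * g⁻¹ = x from by rw [← this]; group]
      exact hx
    · intro hx
      have h1 : g⁻¹ ∈ centralizer ((P : Subgroup G) : Set G) := inv_mem hg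
      have := h1 _ hx
      have h2 : x = g⁻¹ * (g * x * g⁻¹) * g := by group
      rw [h2, ← this]
      simpa using hx
  refine ⟨Nat.card (↥(normalizer ((P : Subgroup G) : Set G)) ⧸
      (centralizer ((P : Subgroup G) : Set G)).subgroupOf (normalizer ((P : Subgroup G) : Set G))), key, ?_, ?_, ?_⟩
  · rw [Subgroup.card_eq_card_quotient_mul_card_subgroup
      ((centralizer ((P : Subgroup G) : Set G)).subgroupOf (normalizer ((P : Subgroup G) : Set G))),
      Nat.card_congr (Subgroup.subgroupOfEquivOfLe hCN).toEquiv, mul_comm]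
  · exact Subgroup.card_subgroup_dvd_card _
  · have h1 : Nat.card (Sylow p G) = (normalizer ((P : Subgroup G) : Set G)).index :=
      Sylow.card_eq_index_normalizer P
    have h2 := Subgroup.index_mul_card (normalizer ((P : Subgroup G) : Set G))
    have h3 : Nat.card G / Nat.card (normalizer ((P : Subgroup G) : Set G)) = (normalizer ((P : Subgroup G) : Set G)).index := by
      rw [← h2, Nat.mul_div_cancel _ Nat.card_pos]
    rw [h3, ← h1]
    have h4 := card_sylow_modEq_one p G
    unfold Nat.ModEq at h4
    rw [h4]
    exact Nat.mod_eq_of_lt hp.out.one_lt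

/-- a subgroup between `P` and a group of order `p * r` -/
theorem card_between {p r : ℕ} (hr : r.Prime) {A B C : Subgroup G} (hAB : A ≤ B) (hBC : B ≤ C)
    (hA : Nat.card A = p) (hp : 0 < p) (hC : Nat.card C = p * r) :
    B = A ∨ B = C := by
  have h1 : Nat.card A ∣ Nat.card B := Subgroup.card_dvd_of_le hAB
  have h2 : Nat.card B ∣ Nat.card C := Subgroup.card_dvd_of_le hBC
  rw [hA] at h1
  rw [hC] at h2
  obtain ⟨k, hk⟩ := h1
  rw [hk] at h2
  have h3 : k ∣ r := Nat.dvd_of_mul_dvd_mul_left hp h2
  rcases (Nat.dvd_prime hr).mp h3 with h | h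
  · left
    symm
    apply Subgroup.eq_of_le_of_card_ge hAB
    rw [hk, h, hA, mul_one]
  · right
    apply Subgroup.eq_of_le_of_card_ge hBC
    rw [hk, h, hC]

/-- the main simplicity criterion -/
theorem isSimpleGroup_of_sylow [hnt : Nontrivial G] {p : ℕ} [hp : Fact p.Prime] (P : Sylow p G)
    (hP : Nat.card (P : Subgroup G) = p) {r : ℕ} (hr : r.Prime)
    (hN : Nat.card (normalizer ((P : Subgroup G) : Set G)) = p * r) (hG : Nat.card G ≠ p * r)
    (h1 : ∀ N : Subgroup G, N.Normal → N ≠ ⊥ → p ∣ Nat.card N) : IsSimpleGroup G := by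
  refine ⟨fun N hNn => ?_⟩
  by_cases hbot : N = ⊥
  · exact Or.inl hbot
  right
  have hpN : p ∣ Nat.card N := h1 N hNn hbot
  obtain ⟨x, hx⟩ := exists_prime_orderOf_dvd_card' p hpN
  have hQ : IsPGroup p (zpowers (x : G)) := by
    apply IsPGroup.of_card (n := 1)
    rw [Nat.card_zpowers, pow_one, Subgroup.orderOf_coe, hx]
  obtain ⟨P', hQP'⟩ := hQ.exists_le_sylow
  have hP' : Nat.card (P' : Subgroup G) = p := by rw [card_sylow_eq_prime P P', hP]
  have hQeq : zpowers (x : G) = (P' : Subgroup G) := by
    apply Subgroup.eq_of_le_of_card_ge hQP'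
    rw [hP', Nat.card_zpowers, Subgroup.orderOf_coe, hx]
  have hP'N : (P' : Subgroup G) ≤ N := by
    rw [← hQeq, Subgroup.zpowers_le]
    exact x.2
  have hN' : Nat.card (normalizer ((P' : Subgroup G) : Set G)) = p * r := by
    rw [card_normalizer_eq_of_sylow P P', hN]
  rcases card_between hr (A := (P' : Subgroup G)) (B := N ⊓ normalizer ((P' : Subgroup G) : Set G))
    (C := normalizer ((P' : Subgroup G) : Set G)) (le_inf hP'N le_normalizer) inf_le_right hP'
    hp.out.pos hN' with hM | hM
  · -- the normalizer of `P'` in `N` is `P'`: Burnside's transfer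
    exfalso
    have hcomm : IsMulCommutative (P' : Subgroup G) := by
      have := isCyclic_of_prime_card hP'
      exact ⟨⟨fun a b => (IsCyclic.commGroup (α := (P' : Subgroup G))).mul_comm a b⟩⟩
    set P'' : Sylow p N := P'.subtype hP'N with hP''
    have hnorm : normalizer ((P'' : Subgroup N) : Set N) = (P'' : Subgroup N) := by
      rw [hP'', Sylow.coe_subtype, ← subgroupOf_normalizer_eq hP'N]
      rw [← Subgroup.inf_subgroupOf_right, inf_comm, hM]
    have hcomm'' : IsMulCommutative (P'' : Subgroup N) := by
      rw [hP'', Sylow.coe_subtype]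
      refine ⟨⟨fun a b => ?_⟩⟩
      apply Subtype.ext
      apply Subtype.ext
      have := hcomm.is_comm.comm ⟨a.1.1, a.2⟩ ⟨b.1.1, b.2⟩
      have h2 : (a.1.1 : G) * b.1.1 = b.1.1 * a.1.1 := congrArg Subtype.val this
      exact h2
    have hle : normalizer ((P'' : Subgroup N) : Set N) ≤ centralizer ((P'' : Subgroup N) : Set N) := by
      rw [hnorm]
      exact Subgroup.le_centralizer _
    have hcompl := MonoidHom.ker_transferSylow_isComplement' P'' hle
    set K := (MonoidHom.transferSylow P'' hle).ker with hK
    have hKn : K.Normal := MonoidHom.normal_ker _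
    have hcardP'' : Nat.card (P'' : Subgroup N) = p := by
      rw [hP'', Sylow.coe_subtype,
        Nat.card_congr (Subgroup.subgroupOfEquivOfLe hP'N).toEquiv, hP']
    have hKcard : Nat.card K * p = Nat.card N := by
      rw [← hcardP'']; exact hcompl.card_mul_card
    have hKp : ¬ p ∣ Nat.card K := by
      have h2 := P''.not_dvd_index
      have h3 := Subgroup.index_mul_card (P'' : Subgroup N)
      rw [hcardP'', ← hKcard] at h3
      have h4 : (P'' : Subgroup N).index = Nat.card K :=
        Nat.eq_of_mul_eq_mul_right hp.out.pos h3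
      rwa [h4] at h2
    -- the image of `K` in `G` is normal
    have hchar : ∀ y : N, y ∈ K ↔ y ^ Nat.card K = 1 := by
      intro y
      constructor
      · intro hy
        have := pow_card_eq_one' (G := K) (x := ⟨y, hy⟩)
        exact congrArg Subtype.val this
      · intro hy
        rw [← QuotientGroup.eq_one_iff (N := K) y]
        have hq : Nat.card (N ⧸ K) = p := by
          have := Subgroup.card_eq_card_quotient_mul_card_subgroup K
          rw [← hKcard, mul_comm] at this
          exact (Nat.eq_of_mul_eq_mul_right Nat.card_pos this).symm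
        have h5 : ((y : N ⧸ K)) ^ p = 1 := by
          rw [← hq]; exact pow_card_eq_one'
        have h6 : ((y : N ⧸ K)) ^ Nat.card K = 1 := by
          rw [← QuotientGroup.mk_pow, hy]; rfl
        have hcop : Nat.Coprime p (Nat.card K) :=
          (Nat.Prime.coprime_iff_not_dvd hp.out).mpr hKp
        have h7 := orderOf_dvd_of_pow_eq_one h5
        have h8 := orderOf_dvd_of_pow_eq_one h6
        have h9 : orderOf (y : N ⧸ K) = 1 :=
          Nat.eq_one_of_dvd_coprimes hcop h7 h8
        exact orderOf_eq_one_iff.mp h9
    have hK₁n : (K.map N.subtype).Normal := by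
      refine ⟨fun y hy g => ?_⟩
      rw [Subgroup.mem_map] at hy ⊢
      obtain ⟨z, hz, rfl⟩ := hy
      refine ⟨⟨g * z * g⁻¹, hNn.conj_mem _ z.2 g⟩, ?_, rfl⟩
      rw [hchar] at hz ⊢
      apply Subtype.ext
      have h10 : ((z : G)) ^ Nat.card K = 1 := by
        have := congrArg Subtype.val hz
        simpa using this
      show (g * z * g⁻¹) ^ Nat.card K = 1
      rw [conj_pow, h10]
      group
    have hK₁bot : K.map N.subtype = ⊥ := by
      by_contra hne
      have := h1 _ hK₁n hne
      rw [Subgroup.card_map_of_injective N.subtype_injective] at this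
      exact hKp this
    have hKbot : K = ⊥ := by
      rw [eq_bot_iff]
      intro y hy
      have : (y : G) ∈ K.map N.subtype := ⟨y, hy, rfl⟩
      rw [hK₁bot, Subgroup.mem_bot] at this
      rw [Subgroup.mem_bot]
      exact Subtype.ext this
    rw [hKbot, Subgroup.card_bot, one_mul] at hKcard
    have hNP' : (P' : Subgroup G) = N := by
      apply Subgroup.eq_of_le_of_card_ge hP'N
      rw [hP', ← hKcard]
    have hPn : (P' : Subgroup G).Normal := by rw [hNP']; exact hNn
    have htop : normalizer ((P' : Subgroup G) : Set G) = ⊤ := normalizer_eq_top_iff.mpr hPn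
    apply hG
    rw [← hN', htop, Subgroup.card_top]
  · -- the normalizer of `P'` lies in `N`: Frattini
    have hle : normalizer ((P' : Subgroup G) : Set G) ≤ N := by
      rw [← hM]; exact inf_le_left
    have h2 : normalizer ((P' : Subgroup G) : Set G) ⊔ N = ⊤ :=
      Sylow.normalizer_sup_eq_top' P' hP'N
    rw [sup_of_le_right hle] at h2
    exact h2

end Cfsg.Agent.Lib.Helper1.SylowSimple
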