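import Mathlib

set_option autoImplicit false

namespace Cfsg.Agent.Lib.Helper1

open Matrix

section
variable {n : Type*} [Fintype n] [DecidableEq n] {F : Type*} [Field F]

/-- `SL n F` is the kernel of the determinant on `GL n F`. -/
theorem range_toGL_eq_ker_det :
    (SpecialLinearGroup.toGL : SpecialLinearGroup n F →* GL n F).range
      = (GeneralLinearGroup.det : GL n F →* Fˣ).ker := by
  ext x
  rw [MonoidHom.mem_range, MonoidHom.mem_ker]
  constructor
  · rintro ⟨y, rfl⟩
    exact SpecialLinearGroup.coeToGL_det y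
  · intro hx
    have hdet : (x : Matrix n n F).det = 1 := by
      have := congrArg Units.val hx
      simpa using this
    exact ⟨⟨x, hdet⟩, Units.ext rfl⟩

/-- `|GL n F| = |SL n F| * |Fˣ|` for nonempty `n`. -/
theorem card_GL_eq_card_SL_mul [Nonempty n] [Finite F] :
    Nat.card (GL n F) = Nat.card (SpecialLinearGroup n F) * Nat.card Fˣ := by
  have h1 := (GeneralLinearGroup.det : GL n F →* Fˣ).ker.card_mul_index
  rw [Subgroup.index_ker, MonoidHom.range_eq_top.2 GeneralLinearGroup.det_surjective,
    Nat.card_congr (Subgroup.topEquiv (G := Fˣ)).toEquiv, ← range_toGL_eq_ker_det] at h1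
  rw [← h1]
  congr 1
  exact (Nat.card_congr (MonoidHom.ofInjective
    (SpecialLinearGroup.toGL_injective (n := n) (R := F))).toEquiv).symm

end

/-- `(q-1) |SL_n(q)| = |GL_n(q)|`. -/
theorem card_SL_field {F : Type*} [Field F] [Fintype F] (n : ℕ) (hn : 1 ≤ n) :
    (Fintype.card F - 1) * Nat.card (SpecialLinearGroup (Fin n) F)
      = ∏ i : Fin n, (Fintype.card F ^ n - Fintype.card F ^ (i : ℕ)) := by
  have : Nonempty (Fin n) := ⟨⟨0, hn⟩⟩
  rw [← Matrix.card_GL_field, card_GL_eq_card_SL_mul, Nat.card_units, mul_comm]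
  simp [Nat.card_eq_fintype_card]

end Cfsg.Agent.Lib.Helper1

namespace Cfsg.Agent.Lib.Helper1

open Matrix

/-- The number of `k`-th roots of unity in a finite field with `q` elements is `gcd (q-1) k`. -/
theorem card_rootsOfUnity_field {F : Type*} [Field F] [Fintype F] (k : ℕ) :
    Nat.card (rootsOfUnity k F) = Nat.gcd (Fintype.card F - 1) k := by
  have h : rootsOfUnity k F = (powMonoidHom k : Fˣ →* Fˣ).ker := by
    ext x
    simp [MonoidHom.mem_ker]
  rw [h, IsCyclic.card_powMonoidHom_ker, Nat.card_units]
  simp [Nat.card_eq_fintype_card]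

/-- The centre of `SL_n(q)` has order `gcd(n, q-1)`. -/
theorem card_center_SL_field {F : Type*} [Field F] [Fintype F] (n : ℕ) (hn : 1 ≤ n) :
    Nat.card (Subgroup.center (SpecialLinearGroup (Fin n) F)) = Nat.gcd n (Fintype.card F - 1) := by
  rw [Nat.card_congr (SpecialLinearGroup.center_equiv_rootsOfUnity (n := Fin n) (R := F)).toEquiv,
    card_rootsOfUnity_field, Fintype.card_fin, max_eq_left hn, Nat.gcd_comm]

/-- `gcd(n,q-1) (q-1) |PSL_n(q)| = |GL_n(q)|`. -/
theorem card_PSL_field {F : Type*} [Field F] [Fintype F] (n : ℕ) (hn : 1 ≤ n) :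
    Nat.gcd n (Fintype.card F - 1) * ((Fintype.card F - 1) *
      Nat.card (ProjectiveSpecialLinearGroup (Fin n) F))
      = ∏ i : Fin n, (Fintype.card F ^ n - Fintype.card F ^ (i : ℕ)) := by
  rw [← card_SL_field n hn, ← card_center_SL_field n hn,
    ← (Subgroup.center (SpecialLinearGroup (Fin n) F)).card_mul_index, Subgroup.index]
  ring

end Cfsg.Agent.Lib.Helper1

namespace Cfsg.Agent.Lib.Helper1

open Matrix

theorem scalar_injective {n : Type*} [Fintype n] [DecidableEq n] [Nonempty n] {F : Type*} [Field F] :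
    Function.Injective (GeneralLinearGroup.scalar n : Fˣ →* GL n F) := by
  intro a b h
  obtain ⟨i⟩ := ‹Nonempty n›
  have h1 := congrArg (fun g : GL n F => (g : Matrix n n F) i i) h
  simp only [GeneralLinearGroup.coe_scalar, Matrix.scalar_apply, Matrix.diagonal_apply_eq] at h1
  exact Units.ext h1

/-- The centre of `GL_n(F)` has the cardinality of `Fˣ` for nonempty `n`. -/
theorem card_center_GL {n : Type*} [Fintype n] [DecidableEq n] [Nonempty n] {F : Type*} [Field F] :
    Nat.card (Subgroup.center (GL n F)) = Nat.card Fˣ := by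
  rw [GeneralLinearGroup.center_eq_range_scalar]
  exact (Nat.card_congr (MonoidHom.ofInjective (scalar_injective (n := n) (F := F))).toEquiv).symm

/-- `|PGL_n(F)| = |SL_n(F)|` over a finite field. -/
theorem card_PGL_eq_card_SL {n : Type*} [Fintype n] [DecidableEq n] {F : Type*} [Field F]
    [Finite F] : Nat.card (ProjGenLinGroup n F) = Nat.card (SpecialLinearGroup n F) := by
  rcases isEmpty_or_nonempty n with hn | hn
  · have h1 : Subsingleton (GL n F) := by
      constructor
      intro a b
      apply Units.ext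
      exact Subsingleton.elim _ _
    have h2 : Subsingleton (SpecialLinearGroup n F) := by
      constructor
      intro a b
      apply Subtype.ext
      exact Subsingleton.elim _ _
    have h3 : Subsingleton (ProjGenLinGroup n F) := by
      constructor
      intro a b
      obtain ⟨a', rfl⟩ := ProjGenLinGroup.mk_surjective a
      obtain ⟨b', rfl⟩ := ProjGenLinGroup.mk_surjective b
      rw [Subsingleton.elim a' b']
    rw [Nat.card_unique, Nat.card_unique]
  · have h1 : Nat.card (ProjGenLinGroup n F) = (Subgroup.center (GL n F)).index := rfl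
    have h2 := (Subgroup.center (GL n F)).card_mul_index
    rw [card_center_GL, card_GL_eq_card_SL_mul, mul_comm] at h2
    have h3 : Nat.card Fˣ ≠ 0 := Nat.card_pos.ne'
    rw [h1]
    exact Nat.eq_of_mul_eq_mul_right (Nat.pos_of_ne_zero h3) h2

end Cfsg.Agent.Lib.Helper1
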