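import Mathlib
import Cfsg.Agent.Lib.Helper1.SLCard

set_option autoImplicit false

namespace Cfsg.Agent.Lib.Helper1

open Matrix
open scoped LinearAlgebra.Projectivization

variable {L : Type*} [Field L]

/-- A finite subgroup of `SL_2(L)` with two independent common eigenvectors is cyclic. -/
theorem isCyclic_of_two_eigenvectors (H : Subgroup (SpecialLinearGroup (Fin 2) L)) [Finite H]
    (v w : Fin 2 → L) (hdet : v 0 * w 1 - v 1 * w 0 ≠ 0)
    (hv : ∀ g ∈ H, ∃ c : L, (g : Matrix (Fin 2) (Fin 2) L) *ᵥ v = c • v)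
    (hw : ∀ g ∈ H, ∃ d : L, (g : Matrix (Fin 2) (Fin 2) L) *ᵥ w = d • w) : IsCyclic H := by
  classical
  set M : Matrix (Fin 2) (Fin 2) L := !![v 0, w 0; v 1, w 1] with hM
  have hMdet : M.det = v 0 * w 1 - v 1 * w 0 := by rw [hM, Matrix.det_fin_two_of]; ring
  have hu : IsUnit M.det := by rw [hMdet]; exact isUnit_iff_ne_zero.2 hdet
  have hNM : M⁻¹ * M = 1 := Matrix.nonsing_inv_mul M hu
  have hMN : M * M⁻¹ = 1 := Matrix.mul_nonsing_inv M hu
  have hdiag : ∀ g ∈ H, ∃ c d : L,
      M⁻¹ * (g : Matrix (Fin 2) (Fin 2) L) * M = diagonal ![c, d] ∧ c * d = 1 := by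
    intro g hg
    obtain ⟨c, hc⟩ := hv g hg
    obtain ⟨d, hd⟩ := hw g hg
    have h1 : (g : Matrix (Fin 2) (Fin 2) L) * M = M * diagonal ![c, d] := by
      ext i j
      have hci := congrFun hc i
      have hdi := congrFun hd i
      simp only [Matrix.mulVec, dotProduct, Fin.sum_univ_two, Pi.smul_apply, smul_eq_mul] at hci hdi
      fin_cases j
      · simp only [hM, Matrix.mul_apply, Fin.sum_univ_two, Matrix.diagonal_apply]
        simp
        fin_cases i <;> simpa [mul_comm] using hci
      · simp only [hM, Matrix.mul_apply, Fin.sum_univ_two, Matrix.diagonal_apply]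
        simp
        fin_cases i <;> simpa [mul_comm] using hdi
    have h2 : M⁻¹ * (g : Matrix (Fin 2) (Fin 2) L) * M = diagonal ![c, d] := by
      rw [Matrix.mul_assoc, h1, ← Matrix.mul_assoc, hNM, Matrix.one_mul]
    refine ⟨c, d, h2, ?_⟩
    have h3 := congrArg Matrix.det h2
    rw [Matrix.det_mul, Matrix.det_mul, g.2, mul_one, ← Matrix.det_mul, hNM, Matrix.det_one,
      Matrix.det_diagonal, Fin.prod_univ_two] at h3
    simpa using h3.symm
  let χ : H →* L :=
    { toFun := fun g => (M⁻¹ * ((g : SpecialLinearGroup (Fin 2) L) : Matrix (Fin 2) (Fin 2) L) * M) 0 0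
      map_one' := by
        simp [hNM]
      map_mul' := by
        intro g h
        obtain ⟨c, d, h1, -⟩ := hdiag g.1 g.2
        obtain ⟨c', d', h2, -⟩ := hdiag h.1 h.2
        have h3 : M⁻¹ * (((g * h : H) : SpecialLinearGroup (Fin 2) L) : Matrix (Fin 2) (Fin 2) L) * M =
            (M⁻¹ * ((g : SpecialLinearGroup (Fin 2) L) : Matrix (Fin 2) (Fin 2) L) * M) *
            (M⁻¹ * ((h : SpecialLinearGroup (Fin 2) L) : Matrix (Fin 2) (Fin 2) L) * M) := by
          rw [Subgroup.coe_mul, Matrix.SpecialLinearGroup.coe_mul]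
          calc M⁻¹ * ((g : SpecialLinearGroup (Fin 2) L).1 * (h : SpecialLinearGroup (Fin 2) L).1) * M
              = M⁻¹ * (g : SpecialLinearGroup (Fin 2) L).1 * 1 * (h : SpecialLinearGroup (Fin 2) L).1 * M := by
                simp only [Matrix.mul_one, Matrix.mul_assoc]
            _ = _ := by rw [← hMN]; simp only [Matrix.mul_assoc]
        rw [h3, h1, h2, Matrix.diagonal_mul_diagonal]
        simp }
  have hinj : Function.Injective χ := by
    rw [injective_iff_map_eq_one]
    intro g hg
    obtain ⟨c, d, h1, hcd⟩ := hdiag g.1 g.2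
    have hc : c = 1 := by
      have : χ g = c := by
        change (M⁻¹ * ((g : SpecialLinearGroup (Fin 2) L) : Matrix (Fin 2) (Fin 2) L) * M) 0 0 = c
        rw [h1]; simp
      rw [← this]; exact hg
    have hd : d = 1 := by rw [hc, one_mul] at hcd; exact hcd
    have h2 : M⁻¹ * ((g : SpecialLinearGroup (Fin 2) L) : Matrix (Fin 2) (Fin 2) L) * M = 1 := by
      rw [h1, hc, hd]
      ext i j
      fin_cases i <;> fin_cases j <;> simp
    have h3 : ((g : SpecialLinearGroup (Fin 2) L) : Matrix (Fin 2) (Fin 2) L) = 1 := by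
      calc ((g : SpecialLinearGroup (Fin 2) L) : Matrix (Fin 2) (Fin 2) L)
          = (M * M⁻¹) * (g : SpecialLinearGroup (Fin 2) L).1 * (M * M⁻¹) := by
            rw [hMN, Matrix.one_mul, Matrix.mul_one]
        _ = M * (M⁻¹ * (g : SpecialLinearGroup (Fin 2) L).1 * M) * M⁻¹ := by
            simp only [Matrix.mul_assoc]
        _ = 1 := by rw [h2, Matrix.mul_one, hMN]
    exact Subtype.ext (Subtype.ext h3)
  exact isCyclic_of_injective_ringHom χ hinj

end Cfsg.Agent.Lib.Helper1

namespace Cfsg.Agent.Lib.Helper1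

open Matrix
open scoped LinearAlgebra.Projectivization

variable {L : Type*} [Field L]

/-- A finite subgroup of `SL_2(L)` fixing two distinct points of the projective line is cyclic. -/
theorem isCyclic_of_two_fixed_points (H : Subgroup (SpecialLinearGroup (Fin 2) L)) [Finite H]
    (p₁ p₂ : ℙ L (Fin 2 → L)) (hne : p₁ ≠ p₂)
    (h₁ : ∀ g ∈ H, g • p₁ = p₁) (h₂ : ∀ g ∈ H, g • p₂ = p₂) : IsCyclic H := by
  have key : ∀ (p : ℙ L (Fin 2 → L)) (g : SpecialLinearGroup (Fin 2) L), g • p = p →
      ∃ c : L, (g : Matrix (Fin 2) (Fin 2) L) *ᵥ p.rep = c • p.rep := by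
    intro p g hg
    have h := hg
    conv at h => lhs; rw [← Projectivization.mk_rep p]
    conv at h => rhs; rw [← Projectivization.mk_rep p]
    rw [Projectivization.smul_mk, Projectivization.mk_eq_mk_iff'] at h
    obtain ⟨a, ha⟩ := h
    exact ⟨a, ha.symm⟩
  apply isCyclic_of_two_eigenvectors H p₁.rep p₂.rep ?_ (fun g hg => key p₁ g (h₁ g hg))
    (fun g hg => key p₂ g (h₂ g hg))
  intro hdet
  apply hne
  rw [← Projectivization.mk_rep p₁, ← Projectivization.mk_rep p₂, Projectivization.mk_eq_mk_iff']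
  have hv := p₁.rep_nonzero
  have hw := p₂.rep_nonzero
  set v := p₁.rep
  set w := p₂.rep
  have hdet' : v 0 * w 1 = v 1 * w 0 := sub_eq_zero.1 hdet
  by_cases hw0 : w 0 = 0
  · have hw1 : w 1 ≠ 0 := by
      intro h1; apply hw; ext i; fin_cases i <;> simp [hw0, h1]
    have hv0 : v 0 = 0 := by
      rw [hw0, mul_zero] at hdet'
      exact (mul_eq_zero.1 hdet').resolve_right hw1
    refine ⟨v 1 / w 1, ?_⟩
    ext i
    fin_cases i
    · simp [hw0, hv0]
    · simp [hw1]
  · refine ⟨v 0 / w 0, ?_⟩
    ext i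
    fin_cases i
    · simp [hw0]
    · simp only [Pi.smul_apply, smul_eq_mul]
      field_simp
      rw [mul_comm (w 0)]
      exact hdet'

end Cfsg.Agent.Lib.Helper1

namespace Cfsg.Agent.Lib.Helper1

open Matrix
open scoped LinearAlgebra.Projectivization

/-- `|SL_2(q)| = q (q^2 - 1)`. -/
theorem card_SL2 {F : Type*} [Field F] [Fintype F] : Nat.card (SpecialLinearGroup (Fin 2) F) =
    Fintype.card F * (Fintype.card F ^ 2 - 1) := by
  have h := card_SL_field (F := F) 2 (by norm_num)
  rw [Fin.prod_univ_two] at h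
  simp only [Fin.val_zero, Fin.val_one, pow_zero, pow_one] at h
  have hq : 1 < Fintype.card F := Fintype.one_lt_card
  have h1 : Fintype.card F ^ 2 - Fintype.card F = Fintype.card F * (Fintype.card F - 1) := by
    rw [Nat.mul_sub, mul_one, pow_two]
  rw [h1] at h
  have h2 : (Fintype.card F - 1) * Nat.card (SpecialLinearGroup (Fin 2) F) =
      (Fintype.card F - 1) * (Fintype.card F * (Fintype.card F ^ 2 - 1)) := by
    rw [h]; ring
  exact Nat.eq_of_mul_eq_mul_left (by omega) h2

/-- For an odd prime `r` different from the characteristic, the Sylow `r`-subgroups of `SL_2(q)`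
are cyclic. -/
theorem sylow_odd_SL2_cyclic {F : Type*} [Field F] [Fintype F] (p : ℕ) [Fact p.Prime] [CharP F p]
    (r : ℕ) [Fact r.Prime] (hr : r ≠ 2) (hrp : r ≠ p)
    (R : Sylow r (SpecialLinearGroup (Fin 2) F)) :
    IsCyclic (R : Subgroup (SpecialLinearGroup (Fin 2) F)) := by
  classical
  have hrprime : r.Prime := Fact.out
  have hpprime : p.Prime := Fact.out
  by_cases hdvd : r ∣ Nat.card (SpecialLinearGroup (Fin 2) F)
  · -- the quadratic extension
    let L := FiniteField.Extension F p 2
    have hLcard : Nat.card L = Fintype.card F ^ 2 := by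
      rw [FiniteField.natCard_extension, Nat.card_eq_fintype_card]
    let ι : SpecialLinearGroup (Fin 2) F →* SpecialLinearGroup (Fin 2) L :=
      Matrix.SpecialLinearGroup.map (algebraMap F L)
    have hι : Function.Injective ι := by
      intro a b hab
      ext i j
      have h1 := congrArg (fun A : SpecialLinearGroup (Fin 2) L => (A : Matrix (Fin 2) (Fin 2) L) i j) hab
      simp only [ι, Matrix.SpecialLinearGroup.map_apply_coe, RingHom.mapMatrix_apply, Matrix.map_apply] at h1
      exact (algebraMap F L).injective h1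
    set R' := (R : Subgroup (SpecialLinearGroup (Fin 2) F)).map ι with hR'
    have e : (R : Subgroup (SpecialLinearGroup (Fin 2) F)) ≃* R' :=
      Subgroup.equivMapOfInjective _ ι hι
    suffices h : IsCyclic R' from isCyclic_of_surjective e.symm e.symm.surjective
    have hfinR' : Finite R' := Finite.of_equiv _ e.toEquiv
    have hP : IsPGroup r R' := R.isPGroup'.map ι
    -- r ∣ q^2 - 1
    obtain ⟨n, -, hq⟩ := FiniteField.card F p
    have hq2 : r ∣ Fintype.card F ^ 2 - 1 := by
      rw [card_SL2] at hdvd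
      rcases (Nat.Prime.dvd_mul hrprime).1 hdvd with h | h
      · exfalso
        rw [hq] at h
        have := hrprime.dvd_of_dvd_pow h
        exact hrp ((Nat.prime_dvd_prime_iff_eq hrprime hpprime).1 this)
      · exact h
    have hcardP : Nat.card (ℙ L (Fin 2 → L)) = Fintype.card F ^ 2 + 1 := by
      rw [Projectivization.card_of_finrank_two L (Fin 2 → L) (by simp), hLcard]
    have hfix := hP.card_modEq_card_fixedPoints (ℙ L (Fin 2 → L))
    rw [hcardP] at hfix
    have hr3 : 3 ≤ r := by
      have := hrprime.two_le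
      omega
    have hfix2 : 2 ≤ Nat.card (MulAction.fixedPoints R' (ℙ L (Fin 2 → L))) := by
      by_contra hlt
      push Not at hlt
      have hq1 : 1 ≤ Fintype.card F ^ 2 := Nat.one_le_pow _ _ Fintype.card_pos
      obtain ⟨k, hk⟩ := hq2
      have h1 : Fintype.card F ^ 2 + 1 = r * k + 2 := by omega
      rw [h1] at hfix
      have h2 : (r * k + 2) % r = 2 := by
        rw [Nat.mul_add_mod]; exact Nat.mod_eq_of_lt (by omega)
      unfold Nat.ModEq at hfix
      rw [h2] at hfix
      have h3 : Nat.card (MulAction.fixedPoints R' (ℙ L (Fin 2 → L))) % r =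
          Nat.card (MulAction.fixedPoints R' (ℙ L (Fin 2 → L))) := Nat.mod_eq_of_lt (by omega)
      omega
    have hnt : Nontrivial (MulAction.fixedPoints R' (ℙ L (Fin 2 → L))) := by
      rw [← Finite.one_lt_card_iff_nontrivial]
      omega
    obtain ⟨⟨p₁, hp₁⟩, ⟨p₂, hp₂⟩, hne⟩ := exists_pair_ne (MulAction.fixedPoints R' (ℙ L (Fin 2 → L)))
    refine isCyclic_of_two_fixed_points R' p₁ p₂ (fun h => hne (Subtype.ext h)) ?_ ?_
    · intro g hg
      exact hp₁ ⟨g, hg⟩
    · intro g hg
      exact hp₂ ⟨g, hg⟩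
  · -- trivial Sylow subgroup
    have hcard : Nat.card (R : Subgroup (SpecialLinearGroup (Fin 2) F)) = 1 := by
      rw [Sylow.card_eq_multiplicity, Nat.factorization_eq_zero_of_not_dvd hdvd, pow_zero]
    have hbot : (R : Subgroup (SpecialLinearGroup (Fin 2) F)) = ⊥ := Subgroup.card_eq_one.1 hcard
    rw [hbot]
    infer_instance

end Cfsg.Agent.Lib.Helper1
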