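import Mathlib

set_option autoImplicit false
set_option linter.unusedSimpArgs false

namespace Cfsg.Agent.Lib.Helper1

open Matrix Matrix.SpecialLinearGroup
open scoped commutatorElement

variable {F : Type*} [Field F] {ι : Type*} [DecidableEq ι] [Fintype ι]

/-- `diag(a, a⁻¹)` in positions `i, j` is a product of six transvections. -/
theorem diag2n_decompose {i j : ι} (hij : i ≠ j) (a : F) (ha : a ≠ 0) :
    diag2n hij a ha = transvection hij a * transvection hij.symm (-a⁻¹) * transvection hij a *
      transvection hij (-1) * transvection hij.symm 1 * transvection hij (-1) := by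
  apply Subtype.ext
  simp only [coe_mul, transvection_coe, diag2n_coe]
  simp only [mul_add, add_mul, mul_one, one_mul, single_mul_single_same,
    single_mul_single_of_ne _ _ _ _ hij, single_mul_single_of_ne _ _ _ _ hij.symm, add_zero]
  ext k l
  simp only [diagonal_apply, Matrix.add_apply, one_apply, single_apply]
  have hji : j ≠ i := hij.symm
  by_cases hki : k = i
  · subst hki
    by_cases hlk : l = k
    · subst hlk
      simp [hij, hji, ha]
    · by_cases hlj : l = j
      · subst hlj
        simp [hij, hji, ha, hlk, Ne.symm hlk]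
      · simp [hij, hji, ha, hlk, Ne.symm hlk, hlj, Ne.symm hlj]
  · by_cases hkj : k = j
    · subst hkj
      by_cases hlk : l = k
      · subst hlk
        simp [hij, hji, ha]
      · by_cases hli : l = i
        · subst hli
          simp [hij, hji, ha, hlk, Ne.symm hlk]
        · simp [hij, hji, ha, hlk, Ne.symm hlk, hli, Ne.symm hli]
    · simp [hki, hkj, Ne.symm hki, Ne.symm hkj]

/-- Induction principle: `SL_n(F)` is generated by transvections. -/
theorem transvection_induction_n [Nontrivial ι] (P : SpecialLinearGroup ι F → Prop)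
    (htransvec : ∀ (i j : ι) (h : i ≠ j) (c : F), P (transvection h c))
    (hmul : ∀ A B, P A → P B → P (A * B)) (A : SpecialLinearGroup ι F) : P A := by
  refine diagonal_transvection_induction' P _ (fun i j hij c hc ↦ ?_) htransvec hmul
  rw [diag2n_decompose hij c hc]
  refine hmul _ _ (hmul _ _ (hmul _ _ (hmul _ _ (hmul _ _ ?_ ?_) ?_) ?_) ?_) ?_
  all_goals exact htransvec _ _ _ _

/-- A subgroup containing all transvections is everything. -/
theorem eq_top_of_transvection_mem [Nontrivial ι] (H : Subgroup (SpecialLinearGroup ι F))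
    (h : ∀ (i j : ι) (hij : i ≠ j) (c : F), transvection hij c ∈ H) : H = ⊤ :=
  le_antisymm le_top fun A _ => transvection_induction_n (fun A => A ∈ H) h (fun _ _ => H.mul_mem) A

/-- `T_ij(c) = [T_ik(c), T_kj(1)]` for pairwise distinct `i, j, k`. -/
theorem transvection_eq_commutator {i j k : ι} (hij : i ≠ j) (hik : i ≠ k) (hkj : k ≠ j) (c : F) :
    (transvection hij c : SpecialLinearGroup ι F) = ⁅transvection hik c, transvection hkj 1⁆ := by
  rw [commutatorElement_def, transvection_inv, transvection_inv]
  apply Subtype.ext
  simp only [coe_mul, transvection_coe]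
  simp only [mul_add, add_mul, mul_one, one_mul, single_mul_single_same,
    single_mul_single_of_ne _ _ _ _ hij, single_mul_single_of_ne _ _ _ _ hij.symm,
    single_mul_single_of_ne _ _ _ _ hik, single_mul_single_of_ne _ _ _ _ hik.symm,
    single_mul_single_of_ne _ _ _ _ hkj, single_mul_single_of_ne _ _ _ _ hkj.symm, add_zero,
    zero_add, mul_zero, zero_mul]
  ext a b
  simp only [Matrix.add_apply, one_apply, single_apply]
  split_ifs <;> ring

end Cfsg.Agent.Lib.Helper1

namespace Cfsg.Agent.Lib.Helper1

open Matrix Matrix.SpecialLinearGroup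
open scoped commutatorElement

/-- In `Fin n` with `3 ≤ n` there is a third index. -/
theorem exists_third {n : ℕ} (hn : 3 ≤ n) (i j : Fin n) : ∃ k : Fin n, k ≠ i ∧ k ≠ j := by
  by_contra h
  push Not at h
  have hsub : (Finset.univ : Finset (Fin n)) ⊆ {i, j} := by
    intro k _
    by_cases hk : k = i
    · simp [hk]
    · simp [h k hk]
  have h1 := Finset.card_le_card hsub
  have h2 : ({i, j} : Finset (Fin n)).card ≤ 2 := Finset.card_le_two
  rw [Finset.card_univ, Fintype.card_fin] at h1
  omega

/-- `SL_n(F)` is perfect for `n ≥ 3`. -/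
theorem commutator_SL_eq_top {F : Type*} [Field F] (n : ℕ) (hn : 3 ≤ n) :
    commutator (SpecialLinearGroup (Fin n) F) = ⊤ := by
  have : Nontrivial (Fin n) := Fin.nontrivial_iff_two_le.2 (by omega)
  apply eq_top_of_transvection_mem
  intro i j hij c
  obtain ⟨k, hki, hkj⟩ := exists_third hn i j
  rw [transvection_eq_commutator hij hki.symm hkj c]
  exact Subgroup.commutator_mem_commutator (Subgroup.mem_top _) (Subgroup.mem_top _)

end Cfsg.Agent.Lib.Helper1
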