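import Mathlib
import Cfsg.Agent.Lib.Helper1.BR1
import Cfsg.Agent.Lib.Helper2.S3T34

/-!
# Brauer–Reynolds (`|G| < p³`): the case of `p + 1` Sylow subgroups
-/

set_option autoImplicit false
set_option linter.unusedSectionVars false

namespace Cfsg.Agent.Lib.Helper1.BR

open MulAction Cfsg.Agent.Lib.Helper2.S3T

universe u

/-- a non-trivial homomorphism from `PGL₂(K)` to an abelian group, `|K| = p` odd -/
theorem exists_pgl_hom {K : Type} [Field K] [Fintype K] {p : ℕ} (hK : Fintype.card K = p)
    (hp3 : 3 ≤ p) (hodd : p % 2 = 1) :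
    ∃ (f : Matrix.ProjGenLinGroup (Fin 2) K →* Kˣ) (g : Matrix.ProjGenLinGroup (Fin 2) K),
      f g ≠ 1 := by
  classical
  let φ : GL (Fin 2) K →* Kˣ :=
    (powMonoidHom ((p - 1) / 2)).comp Matrix.GeneralLinearGroup.det
  have hcu : Fintype.card Kˣ = p - 1 := by rw [Fintype.card_units, hK]
  have hle : Subgroup.center (GL (Fin 2) K) ≤ φ.ker := by
    rw [Matrix.GeneralLinearGroup.center_eq_range_scalar]
    rintro _ ⟨u, rfl⟩
    rw [MonoidHom.mem_ker]
    show (Matrix.GeneralLinearGroup.det (Matrix.GeneralLinearGroup.scalar (Fin 2) u)) ^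
      ((p - 1) / 2) = 1
    rw [Matrix.GeneralLinearGroup.det_scalar, Fintype.card_fin, ← pow_mul]
    have h2 : 2 * ((p - 1) / 2) = p - 1 := by omega
    rw [h2, ← hcu]
    exact pow_card_eq_one
  obtain ⟨a, ha⟩ := IsCyclic.exists_generator (α := Kˣ)
  have hoa : orderOf a = p - 1 := by
    rw [orderOf_eq_card_of_forall_mem_zpowers ha, Nat.card_eq_fintype_card, hcu]
  obtain ⟨A, hA⟩ := Matrix.GeneralLinearGroup.det_surjective (n := Fin 2) a
  refine ⟨QuotientGroup.lift (Subgroup.center (GL (Fin 2) K)) φ hle,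
    Matrix.ProjGenLinGroup.mk A, ?_⟩
  show φ A ≠ 1
  show (Matrix.GeneralLinearGroup.det A) ^ ((p - 1) / 2) ≠ 1
  rw [hA]
  apply pow_ne_one_of_lt_orderOf
  · omega
  · rw [hoa]
    omega

variable {G : Type u} [Group G] [Finite G] [IsSimpleGroup G]

/-- **The case `n_p = p + 1`.** -/
theorem case_one (hG : ¬ IsCyclic G) {p : ℕ} [Fact p.Prime] (hdvd : p ∣ Nat.card G)
    (hn : Nat.card (Sylow p G) = p + 1) {d : ℕ} (hcard : Nat.card G = (p + 1) * p * d)
    (hd : d < p) (hd2 : 2 ≤ d) :
    ∃ (K : Type) (_ : Field K) (_ : Fintype K), Fintype.card K = p ∧ 3 < p ∧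
      Nonempty (G ≃* Matrix.ProjectiveSpecialLinearGroup (Fin 2) K) := by
  classical
  have hp : p.Prime := Fact.out
  have : Fintype (Sylow p G) := Fintype.ofFinite _
  have hcardΩ : Fintype.card (Sylow p G) = p + 1 := by rw [← Nat.card_eq_fintype_card, hn]
  have faith : ∀ g : G, (∀ P : Sylow p G, g • P = P) → g = 1 := by
    have hKn : (MulAction.toPermHom G (Sylow p G)).ker.Normal := MonoidHom.normal_ker _
    intro g hg
    have hgK : g ∈ (MulAction.toPermHom G (Sylow p G)).ker := by
      rw [MonoidHom.mem_ker]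
      exact Equiv.ext (fun P => hg P)
    rcases hKn.eq_bot_or_eq_top with h | h
    · rw [h, Subgroup.mem_bot] at hgK
      exact hgK
    · exfalso
      obtain ⟨P⟩ : Nonempty (Sylow p G) := inferInstance
      apply sylow_not_normal hG hdvd P
      rw [← Subgroup.normalizer_eq_top_iff, eq_top_iff]
      intro t _
      have htK : t ∈ (MulAction.toPermHom G (Sylow p G)).ker := by
        rw [h]
        exact Subgroup.mem_top t
      have h2 : t • P = P := by
        have h3 := MonoidHom.mem_ker.1 htK
        have h4 := congrArg (fun σ : Equiv.Perm (Sylow p G) => σ P) h3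
        exact h4
      exact Sylow.smul_eq_iff_mem_normalizer.1 h2
  obtain ⟨a, b, hab⟩ := Fintype.exists_pair_of_one_lt_card
    (by omega : 1 < Fintype.card (Sylow p G))
  obtain ⟨F, P⟩ := exists_pd faith hp hcardΩ hcard hd a
  have hH : Nat.card ↥(stabilizer G a ⊓ stabilizer G b : Subgroup G) = d := by
    have h1 := card_stab_of_transitive (G := G) a
    rw [P.card_stab (Ne.symm hab), hcardΩ, hcard] at h1
    have hpos : 0 < (p + 1) * p := Nat.mul_pos (Nat.succ_pos p) hp.pos
    apply Nat.eq_of_mul_eq_mul_left hpos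
    rw [← h1]
    ring
  have hnoreg : ∀ N : Subgroup G, N.Normal → IsPretransitive N (Sylow p G) →
      ∃ x : Sylow p G, stabilizer N x ≠ ⊥ := by
    intro N hN hNt
    rcases hN.eq_bot_or_eq_top with h | h
    · exfalso
      obtain ⟨n, hn⟩ := hNt.exists_smul_eq a b
      have h0 : ∀ t : G, t ∈ N → t = 1 := by
        intro t ht
        rw [h, Subgroup.mem_bot] at ht
        exact ht
      have h1 : (n : G) = 1 := h0 n n.2
      apply hab
      rw [← hn]
      show a = (n : G) • a
      rw [h1, one_smul]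
    · by_contra hcon
      push Not at hcon
      have h1 : stabilizer G a = ⊥ := by
        rw [eq_bot_iff]
        intro t ht
        have htN : t ∈ N := by
          rw [h]
          exact Subgroup.mem_top t
        have h2 : (⟨t, htN⟩ : N) ∈ stabilizer N a := by
          rw [mem_stabilizer_iff]
          exact mem_stabilizer_iff.1 ht
        rw [hcon a, Subgroup.mem_bot] at h2
        rw [Subgroup.mem_bot]
        exact congrArg Subtype.val h2
      have h2 := card_stab_of_transitive (G := G) a
      rw [h1, Subgroup.card_bot, one_mul, hcardΩ, hcard] at h2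
      have h3 : 2 ≤ p := hp.two_le
      have h4 : 2 * 2 ≤ p * d := Nat.mul_le_mul h3 hd2
      rw [mul_assoc] at h2
      have h5 : (p + 1) * 1 = (p + 1) * (p * d) := by rw [mul_one]; exact h2
      have h6 := Nat.eq_of_mul_eq_mul_left (Nat.succ_pos p) h5
      omega
  have hodd : p % 2 = 1 := by
    rcases hp.eq_two_or_odd with h | h
    · omega
    · exact h
  rcases P.caseB' hab hnoreg with ⟨he, K, i1, i2, hK, ⟨e⟩⟩ | ⟨he, K, i1, i2, hK, ⟨e⟩⟩
  · exfalso
    obtain ⟨f, g, hfg⟩ := exists_pgl_hom hK (by omega) hodd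
    have hKn : (f.comp e.toMonoidHom).ker.Normal := MonoidHom.normal_ker _
    rcases hKn.eq_bot_or_eq_top with h | h
    · apply comm_false hG
      intro x y
      have hinj := (MonoidHom.ker_eq_bot_iff _).1 h
      apply hinj
      rw [map_mul, map_mul, mul_comm]
    · apply hfg
      have h1 : e.symm g ∈ (f.comp e.toMonoidHom).ker := by
        rw [h]
        exact Subgroup.mem_top _
      rw [MonoidHom.mem_ker] at h1
      have h2 : (f.comp e.toMonoidHom) (e.symm g) = f g := by
        show f (e (e.symm g)) = f g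
        rw [MulEquiv.apply_symm_apply]
      rw [← h2, h1]
  · rw [hH] at he
    exact ⟨K, i1, i2, hK, by omega, ⟨e⟩⟩

end Cfsg.Agent.Lib.Helper1.BR
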