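import Mathlib
import Cfsg.Agent.Lib.Helper1.InvPair

set_option autoImplicit false

namespace Cfsg.Agent.Lib.Helper1

section BrauerFowler

variable {G : Type*} [Group G]

/-- The extended centralizer of `x`: elements conjugating `x` to `x` or `x⁻¹`. -/
def cstar (x : G) : Subgroup G where
  carrier := {g | g * x * g⁻¹ = x ∨ g * x * g⁻¹ = x⁻¹}
  one_mem' := by simp
  mul_mem' := by
    intro a b ha hb
    simp only [Set.mem_ofPred_eq] at *
    have e : a * b * x * (a * b)⁻¹ = a * (b * x * b⁻¹) * a⁻¹ := by group
    have e' : a * x⁻¹ * a⁻¹ = (a * x * a⁻¹)⁻¹ := by group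
    rw [e]
    rcases hb with hb | hb <;> rcases ha with ha | ha
    · left; rw [hb, ha]
    · right; rw [hb, ha]
    · right; rw [hb, e', ha]
    · left; rw [hb, e', ha, inv_inv]
  inv_mem' := by
    intro a ha
    simp only [Set.mem_ofPred_eq] at *
    rcases ha with ha | ha
    · left
      calc a⁻¹ * x * a⁻¹⁻¹ = a⁻¹ * (a * x * a⁻¹) * a := by rw [ha, inv_inv]
        _ = x := by group
    · right
      calc a⁻¹ * x * a⁻¹⁻¹ = (a⁻¹ * x⁻¹ * a)⁻¹ := by group
        _ = (a⁻¹ * (a * x * a⁻¹) * a)⁻¹ := by rw [ha]
        _ = x⁻¹ := by group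

theorem mem_cstar (x g : G) : g ∈ cstar x ↔ g * x * g⁻¹ = x ∨ g * x * g⁻¹ = x⁻¹ := Iff.rfl

theorem card_centralizer_eq_filter [Fintype G] [DecidableEq G] (x : G) :
    Nat.card (Subgroup.centralizer ({x} : Set G)) =
      (Finset.univ.filter (fun g : G => g * x * g⁻¹ = x)).card := by
  classical
  rw [Nat.card_eq_fintype_card, Fintype.card_subtype]
  congr 1
  ext g
  simp only [Finset.mem_filter, Finset.mem_univ, true_and, Subgroup.mem_centralizer_singleton_iff]
  constructor
  · intro h; rw [h, mul_inv_cancel_right]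
  · intro h
    calc g * x = g * x * g⁻¹ * g := by group
      _ = x * g := by rw [h]

theorem card_inverters_eq [Fintype G] [DecidableEq G] (x s : G) (hs : s * x * s⁻¹ = x⁻¹) :
    (Finset.univ.filter (fun g : G => g * x * g⁻¹ = x⁻¹)).card =
      (Finset.univ.filter (fun g : G => g * x * g⁻¹ = x)).card := by
  symm
  apply Finset.card_nbij' (fun g => s * g) (fun g => s⁻¹ * g)
  · intro g hg
    simp only [Finset.coe_filter, Finset.mem_univ, true_and, Set.mem_ofPred_eq] at hg ⊢
    calc s * g * x * (s * g)⁻¹ = s * (g * x * g⁻¹) * s⁻¹ := by group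
      _ = x⁻¹ := by rw [hg, hs]
  · intro g hg
    simp only [Finset.coe_filter, Finset.mem_univ, true_and, Set.mem_ofPred_eq] at hg ⊢
    have hs' : s⁻¹ * x⁻¹ * s = x := by
      rw [← hs]; group
    calc s⁻¹ * g * x * (s⁻¹ * g)⁻¹ = s⁻¹ * (g * x * g⁻¹) * s := by group
      _ = x := by rw [hg, hs']
  · intro g _; simp
  · intro g _; simp

theorem card_cstar [Fintype G] [DecidableEq G] (x s : G) (hs : s * x * s⁻¹ = x⁻¹)
    (hx : x ≠ x⁻¹) :
    Nat.card (cstar x) = 2 * Nat.card (Subgroup.centralizer ({x} : Set G)) := by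
  classical
  have h1 : Nat.card (cstar x) =
      (Finset.univ.filter (fun g : G => g * x * g⁻¹ = x ∨ g * x * g⁻¹ = x⁻¹)).card := by
    rw [Nat.card_eq_fintype_card, Fintype.card_subtype]
    apply congrArg Finset.card
    ext g
    simp [mem_cstar]
  rw [h1, Finset.filter_or, Finset.card_union_of_disjoint, card_inverters_eq x s hs,
    card_centralizer_eq_filter]
  · ring
  · rw [Finset.disjoint_filter]
    intro g _ h1 h2
    exact hx (h1.symm.trans h2)

/-- The set of involutions. -/
noncomputable def invols (G : Type*) [Group G] [Fintype G] : Finset G :=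
  Finset.univ.filter (fun t : G => orderOf t = 2)

theorem mem_invols [Fintype G] (t : G) : t ∈ invols G ↔ orderOf t = 2 := by
  simp [invols]

theorem card_invols [Fintype G] : (invols G).card = Nat.card {t : G // orderOf t = 2} := by
  classical
  rw [Nat.card_eq_fintype_card, Fintype.card_subtype]
  rfl

/-- number of ways of writing `x` as a product of two involutions, indexed by the first one. -/
noncomputable def invPairs [Fintype G] [DecidableEq G] (x : G) : Finset G :=
  (invols G).filter (fun s => s⁻¹ * x ∈ invols G)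

theorem sum_card_invPairs [Fintype G] [DecidableEq G] :
    ∑ x : G, (invPairs x).card = (invols G).card ^ 2 := by
  classical
  simp only [invPairs, Finset.card_filter]
  rw [Finset.sum_comm]
  have : ∀ s ∈ invols G, (∑ x : G, if s⁻¹ * x ∈ invols G then 1 else 0) = (invols G).card := by
    intro s _
    rw [← Finset.card_filter]
    apply Finset.card_nbij' (fun x => s⁻¹ * x) (fun y => s * y)
    · intro x hx
      simpa using hx
    · intro y hy
      simpa using hy
    · intro x _; simp
    · intro y _; simp
  rw [Finset.sum_congr rfl this, Finset.sum_const, smul_eq_mul, sq]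

theorem invPairs_inverts [Fintype G] [DecidableEq G] {x s : G} (hs : s ∈ invPairs x) :
    s * x * s⁻¹ = x⁻¹ := by
  simp only [invPairs, Finset.mem_filter, mem_invols] at hs
  have hss := mul_self_of_orderOf_two hs.1
  have htt := mul_self_of_orderOf_two hs.2
  have hsi := inv_eq_self_of_mul_self hss
  rw [hsi] at htt ⊢
  -- (s x)(s x) = 1
  calc s * x * s = (s * x * (s * x)) * x⁻¹ := by group
    _ = x⁻¹ := by rw [htt, one_mul]

theorem invPairs_ne [Fintype G] [DecidableEq G] {x s : G} (hs : s ∈ invPairs x) :
    s ≠ x ∧ s ≠ 1 := by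
  simp only [invPairs, Finset.mem_filter, mem_invols] at hs
  refine ⟨?_, ne_one_of_orderOf_two hs.1⟩
  intro h
  have := hs.2
  rw [h, inv_mul_cancel, orderOf_one] at this
  omega

theorem card_invPairs_le [Fintype G] [DecidableEq G] (x : G) :
    (invPairs x).card ≤ (invols G).card :=
  Finset.card_le_card (Finset.filter_subset _ _)

/-- For an involution `x`: `a(x) + 2 ≤ |C(x)|`. -/
theorem card_invPairs_invol [Fintype G] [DecidableEq G] {x : G} (hx : orderOf x = 2) :
    (invPairs x).card + 2 ≤ Nat.card (Subgroup.centralizer ({x} : Set G)) := by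
  classical
  rw [card_centralizer_eq_filter]
  have hxi : x⁻¹ = x := inv_eq_self_of_mul_self (mul_self_of_orderOf_two hx)
  have hx1 : x ≠ 1 := ne_one_of_orderOf_two hx
  have hsub : insert 1 (insert x (invPairs x)) ⊆
      Finset.univ.filter (fun g : G => g * x * g⁻¹ = x) := by
    intro g hg
    simp only [Finset.mem_insert] at hg
    simp only [Finset.mem_filter, Finset.mem_univ, true_and]
    rcases hg with rfl | rfl | hg
    · simp
    · simp
    · rw [invPairs_inverts hg, hxi]
  have hcard : (insert 1 (insert x (invPairs x))).card = (invPairs x).card + 2 := by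
    rw [Finset.card_insert_of_notMem, Finset.card_insert_of_notMem]
    · intro h; exact (invPairs_ne h).1 rfl
    · simp only [Finset.mem_insert, not_or]
      exact ⟨fun h => hx1 h.symm, fun h => (invPairs_ne h).2 rfl⟩
  rw [← hcard]
  exact Finset.card_le_card hsub

/-- For `x` not an involution and `≠ 1` with `a(x) > 0`: `2 a(x) ≤ |C*(x)| = 2 |C(x)|`. -/
theorem card_invPairs_noninvol [Fintype G] [DecidableEq G] {x : G} (hx : orderOf x ≠ 2)
    (hx1 : x ≠ 1) (hne : (invPairs x).Nonempty) :
    2 * (invPairs x).card ≤ Nat.card (cstar x) ∧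
      Nat.card (cstar x) = 2 * Nat.card (Subgroup.centralizer ({x} : Set G)) := by
  classical
  obtain ⟨s, hs⟩ := hne
  have hinv := invPairs_inverts hs
  have hxx : x ≠ x⁻¹ := by
    intro h
    apply hx
    apply orderOf_two_of_mul_self _ hx1
    calc x * x = x * x⁻¹ := by rw [← h]
      _ = 1 := mul_inv_cancel x
  have hc := card_cstar x s hinv hxx
  refine ⟨?_, hc⟩
  rw [hc, card_centralizer_eq_filter, ← card_inverters_eq x s hinv]
  apply Nat.mul_le_mul_left
  apply Finset.card_le_card
  intro g hg
  simp only [Finset.mem_filter, Finset.mem_univ, true_and]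
  exact invPairs_inverts hg

theorem brauer_fowler_core [Fintype G] [DecidableEq G] (r : ℕ)
    (hr : ∀ H : Subgroup G, H ≠ ⊤ → r ≤ H.index)
    (h2 : ∀ H : Subgroup G, H.index ≠ 2)
    (hZ : ∀ x : G, orderOf x = 2 → x ∉ Subgroup.center G) :
    2 * r * (invols G).card ^ 2 + 2 * r * (invols G).card + Fintype.card G ≤
      Fintype.card G * (invols G).card + Fintype.card G ^ 2 := by
  classical
  set m := (invols G).card with hm
  set g := Fintype.card G with hg
  have hgN : Nat.card G = g := Nat.card_eq_fintype_card
  have hidx : ∀ H : Subgroup G, H ≠ ⊤ → r * Nat.card H ≤ g := by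
    intro H hH
    calc r * Nat.card H ≤ H.index * Nat.card H := Nat.mul_le_mul_right _ (hr H hH)
      _ = g := by rw [mul_comm, H.card_mul_index, hgN]
  have hpt : ∀ x : G, ((2 * r * (invPairs x).card : ℕ) : ℤ) ≤
      (g : ℤ) + (if x = 1 then (2 * r * m : ℤ) - g else 0) +
        (if x ∈ invols G then (g : ℤ) - 4 * r else 0) := by
    intro x
    by_cases hx1 : x = 1
    · have hxI : x ∉ invols G := by
        rw [mem_invols, hx1, orderOf_one]; omega
      rw [if_pos hx1, if_neg hxI]
      have := card_invPairs_le x
      have h' : 2 * r * (invPairs x).card ≤ 2 * r * m := Nat.mul_le_mul_left _ this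
      have h'' : ((2 * r * (invPairs x).card : ℕ) : ℤ) ≤ ((2 * r * m : ℕ) : ℤ) := by
        exact_mod_cast h'
      push_cast at h'' ⊢
      linarith
    · rw [if_neg hx1]
      by_cases hxI : x ∈ invols G
      · rw [if_pos hxI]
        rw [mem_invols] at hxI
        have hC : Subgroup.centralizer ({x} : Set G) ≠ ⊤ := by
          intro h
          rw [Subgroup.centralizer_eq_top_iff_subset] at h
          exact hZ x hxI (h (Set.mem_singleton x))
        have h1 := hidx _ hC
        have h3 := card_invPairs_invol hxI
        have h4 : r * ((invPairs x).card + 2) ≤ g :=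
          le_trans (Nat.mul_le_mul_left _ h3) h1
        have h5 : ((r * ((invPairs x).card + 2) : ℕ) : ℤ) ≤ (g : ℤ) := by exact_mod_cast h4
        push_cast at h5 ⊢
        linarith
      · rw [if_neg hxI]
        rw [mem_invols] at hxI
        by_cases hne : (invPairs x).Nonempty
        · obtain ⟨h3, h4⟩ := card_invPairs_noninvol hxI hx1 hne
          have hK : cstar x ≠ ⊤ := by
            intro htop
            rw [htop, Subgroup.card_top, hgN] at h4
            apply h2 (Subgroup.centralizer ({x} : Set G))
            have := (Subgroup.centralizer ({x} : Set G)).card_mul_index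
            rw [hgN, h4] at this
            have hpos : 0 < Nat.card (Subgroup.centralizer ({x} : Set G)) := Nat.card_pos
            nlinarith
          have h1 := hidx _ hK
          have h5 : 2 * r * (invPairs x).card ≤ g := by
            calc 2 * r * (invPairs x).card = r * (2 * (invPairs x).card) := by ring
              _ ≤ r * Nat.card (cstar x) := Nat.mul_le_mul_left _ h3
              _ ≤ g := h1
          have h6 : ((2 * r * (invPairs x).card : ℕ) : ℤ) ≤ (g : ℤ) := by exact_mod_cast h5
          linarith
        · rw [Finset.not_nonempty_iff_eq_empty] at hne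
          rw [hne]
          simp
  have hsum := Finset.sum_le_sum (fun x (_ : x ∈ (Finset.univ : Finset G)) => hpt x)
  rw [Finset.sum_add_distrib, Finset.sum_add_distrib, Finset.sum_ite_eq', Finset.sum_ite_mem,
    Finset.univ_inter, Finset.sum_const, Finset.sum_const, if_pos (Finset.mem_univ _)] at hsum
  have hs2 : ∑ x : G, ((2 * r * (invPairs x).card : ℕ) : ℤ) = 2 * r * (m : ℤ) ^ 2 := by
    have := sum_card_invPairs (G := G)
    rw [← hm] at this
    have h' : ((∑ x : G, (invPairs x).card : ℕ) : ℤ) = ((m ^ 2 : ℕ) : ℤ) := by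
      exact_mod_cast congrArg (Nat.cast (R := ℤ)) this
    push_cast at h' ⊢
    rw [← Finset.mul_sum, h']
  rw [hs2] at hsum
  simp only [Finset.card_univ, nsmul_eq_mul, ← hm, ← hg] at hsum
  have : ((2 * r * m ^ 2 + 2 * r * m + g : ℕ) : ℤ) ≤ ((g * m + g ^ 2 : ℕ) : ℤ) := by
    push_cast
    nlinarith
  exact_mod_cast this

end BrauerFowler

end Cfsg.Agent.Lib.Helper1
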