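import Cfsg.Agent.Lib.Helper6.C2Max.Basic
import Cfsg.Agent.Lib.Helper9.SLRoot1

set_option autoImplicit false

/-!
S5634, package PK-B (blocks of dimension `m ≥ 2`), basics: transvections `tv x φ c` supported in a
block belong to every overgroup of the block-monomial group, the two commutator moves, products of
transvections with the same centre or the same axis, and the transposed subgroup.
-/

namespace Cfsg.Agent.Lib.Helper6.C2Max

open Matrix Cfsg.Agent.H9SLRoot

variable {F : Type*} [Field F] {ι : Type*} [Fintype ι] [DecidableEq ι] {τ : Type*}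

namespace PkB

/-- `x` is supported in the block `i` -/
def SuppIn (blk : ι → τ) (i : τ) (x : ι → F) : Prop := ∀ r, x r ≠ 0 → blk r = i

omit [Fintype ι] in
theorem suppIn_single (blk : ι → τ) (r : ι) (a : F) : SuppIn blk (blk r) (Pi.single r a : ι → F) := by
  intro s hs
  by_cases h : s = r
  · rw [h]
  · rw [Pi.single_eq_of_ne h] at hs
    exact absurd rfl hs

omit [Fintype ι] in
/-- the matrix of a transvection supported in one block is block-monomial -/
theorem isBM_tmat (blk : ι → τ) {i : τ} {x φ : ι → F} (hx : SuppIn blk i x) (hφ : SuppIn blk i φ)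
    (c : F) : IsBM blk (tmat x φ c) := by
  refine ⟨1, fun r s h => ?_⟩
  rw [Equiv.Perm.one_apply]
  by_cases hrs : r = s
  · rw [hrs]
  · unfold tmat at h
    rw [Matrix.add_apply, Matrix.one_apply_ne hrs, zero_add, Matrix.smul_apply,
      Matrix.vecMulVec_apply, smul_eq_mul] at h
    have h1 : x r ≠ 0 := fun h0 => h (by rw [h0, zero_mul, mul_zero])
    have h2 : φ s ≠ 0 := fun h0 => h (by rw [h0, mul_zero, mul_zero])
    rw [hx r h1, hφ s h2]

/-- transvections supported in one block are in every overgroup of the block-monomial group -/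
theorem tv_mem_of_suppIn {blk : ι → τ} {K : Subgroup (SpecialLinearGroup ι F)} (hK : OverB blk K)
    {i : τ} {x φ : ι → F} (hx : SuppIn blk i x) (hφ : SuppIn blk i φ) (c : F) : tv x φ c ∈ K := by
  by_cases h : φ ⬝ᵥ x = 0
  · apply hK
    rw [tv_coe h]
    exact isBM_tmat blk hx hφ c
  · rw [tv_of_not h]
    exact K.one_mem

omit [Fintype ι] in
theorem isBM_diagonal (blk : ι → τ) (t : ι → F) : IsBM blk (Matrix.diagonal t) :=
  ⟨1, fun r c h => by
    by_contra hne
    apply h
    apply Matrix.diagonal_apply_ne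
    intro hrc
    apply hne
    rw [hrc, Equiv.Perm.one_apply]⟩

theorem diagSL_memB {blk : ι → τ} {K : Subgroup (SpecialLinearGroup ι F)} (hK : OverB blk K)
    (t : ι → F) (h : ∏ i, t i = 1) : diagSL t h ∈ K :=
  hK _ (isBM_diagonal blk t)

theorem isBM_monoMat (blk : ι → τ) (π : Equiv.Perm ι) (σ : Equiv.Perm τ)
    (hπ : ∀ r, blk (π r) = σ (blk r)) (d : ι → F) : IsBM blk (monoMat π d) :=
  ⟨σ, fun r c h => by
    by_contra hne
    apply h
    rw [monoMat_apply, if_neg]
    intro hrc
    apply hne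
    rw [hrc, hπ]⟩

theorem monoSL_memB {blk : ι → τ} {K : Subgroup (SpecialLinearGroup ι F)} (hK : OverB blk K)
    (π : Equiv.Perm ι) (σ : Equiv.Perm τ) (hπ : ∀ r, blk (π r) = σ (blk r)) (d : ι → F)
    (h : (monoMat π d).det = 1) : monoSL π d h ∈ K :=
  hK _ (isBM_monoMat blk π σ hπ d)

/-- elementary transvections in the `tv` calculus -/
theorem transvection_eq_tv {i j : ι} (hij : i ≠ j) (c : F) :
    SpecialLinearGroup.transvection hij c = tv (Pi.single i 1) (Pi.single j 1) c := by
  have h0 : (Pi.single j (1 : F) : ι → F) ⬝ᵥ (Pi.single i 1) = 0 := by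
    rw [single_dotProduct, one_mul, Pi.single_eq_of_ne (Ne.symm hij)]
  apply Subtype.ext
  rw [tv_coe h0, SpecialLinearGroup.transvection_coe]
  unfold tmat
  congr 1
  ext r s
  simp only [Matrix.smul_apply, Matrix.vecMulVec_apply, Matrix.single_apply, Pi.single_apply,
    smul_eq_mul]
  by_cases hr : r = i
  · by_cases hs : s = j
    · simp [hr, hs]
    · simp [hr, hs, Ne.symm hs]
  · by_cases hs : s = j
    · simp [hr, hs, Ne.symm hr]
    · simp [hr, hs, Ne.symm hr]

/-- move (I): an in-block full root subgroup and one transvection give a full root subgroup with the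
centre of the first and the axis of the second -/
theorem rule_center {K : Subgroup (SpecialLinearGroup ι F)} {a α b β : ι → F} {d : F}
    (hin : ∀ c, tv a α c ∈ K) (hαa : α ⬝ᵥ a = 0) (hβb : β ⬝ᵥ b = 0) (hd : tv b β d ∈ K)
    (hd0 : d ≠ 0) (hβa : β ⬝ᵥ a = 0) (hαb : α ⬝ᵥ b ≠ 0) (c : F) : tv a β c ∈ K := by
  have h := tv_commutator hβb hαa hβa d (-(c / (d * (α ⬝ᵥ b))))
  have hc : -(d * -(c / (d * (α ⬝ᵥ b))) * (α ⬝ᵥ b)) = c := by
    field_simp
  rw [hc] at h
  rw [← h]
  exact K.mul_mem (K.mul_mem (K.mul_mem hd (hin _)) (K.inv_mem hd)) (K.inv_mem (hin _))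

/-- move (II): an in-block full root subgroup and one transvection give a full root subgroup with
the centre of the second and the axis of the first -/
theorem rule_axis {K : Subgroup (SpecialLinearGroup ι F)} {a α b β : ι → F} {d : F}
    (hin : ∀ c, tv a α c ∈ K) (hαa : α ⬝ᵥ a = 0) (hβb : β ⬝ᵥ b = 0) (hd : tv b β d ∈ K)
    (hd0 : d ≠ 0) (hαb : α ⬝ᵥ b = 0) (hβa : β ⬝ᵥ a ≠ 0) (c : F) : tv b α c ∈ K := by
  have h := tv_commutator hαa hβb hαb (-(c / (d * (β ⬝ᵥ a)))) d
  have hc : -(-(c / (d * (β ⬝ᵥ a))) * d * (β ⬝ᵥ a)) = c := by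
    field_simp
  rw [hc] at h
  rw [← h]
  exact K.mul_mem (K.mul_mem (K.mul_mem (hin _) hd) (K.inv_mem (hin _))) (K.inv_mem hd)

/-- same centre: the axes add -/
theorem tv_add_axis {x φ φ' : ι → F} (h : φ ⬝ᵥ x = 0) (h' : φ' ⬝ᵥ x = 0) (c : F) :
    tv x (φ + φ') c = tv x φ c * tv x φ' c := by
  have h2 : (φ + φ') ⬝ᵥ x = 0 := by rw [add_dotProduct, h, h', add_zero]
  apply sl_ext
  intro v
  rw [coe_mul_mulVec, tv_mulVec h2, tv_mulVec h, tv_mulVec h', add_dotProduct, dotProduct_add,
    dotProduct_smul, h, smul_zero, add_zero]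
  module

/-- same axis: the centres add -/
theorem tv_add_center {x x' φ : ι → F} (h : φ ⬝ᵥ x = 0) (h' : φ ⬝ᵥ x' = 0) (c : F) :
    tv (x + x') φ c = tv x φ c * tv x' φ c := by
  have h2 : φ ⬝ᵥ (x + x') = 0 := by rw [dotProduct_add, h, h', add_zero]
  apply sl_ext
  intro v
  rw [coe_mul_mulVec, tv_mulVec h2, tv_mulVec h, tv_mulVec h', dotProduct_add,
    dotProduct_smul, h', smul_zero, add_zero]
  module

/-- the transpose of a transvection -/
theorem transpose_tv (x φ : ι → F) (c : F) :
    SpecialLinearGroup.transpose (tv x φ c) = tv φ x c := by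
  by_cases h : φ ⬝ᵥ x = 0
  · have h' : x ⬝ᵥ φ = 0 := by rw [dotProduct_comm]; exact h
    apply Subtype.ext
    rw [SpecialLinearGroup.coe_transpose, tv_coe h, tv_coe h']
    unfold tmat
    rw [Matrix.transpose_add, Matrix.transpose_one, Matrix.transpose_smul]
    congr 2
    ext r s
    simp [Matrix.vecMulVec_apply, mul_comm]
  · have h' : ¬ x ⬝ᵥ φ = 0 := by rw [dotProduct_comm]; exact h
    rw [tv_of_not h, tv_of_not h']
    apply Subtype.ext
    show (1 : Matrix ι ι F)ᵀ = 1
    exact Matrix.transpose_one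

/-- the transposed subgroup -/
def dualK (K : Subgroup (SpecialLinearGroup ι F)) : Subgroup (SpecialLinearGroup ι F) where
  carrier := {g | SpecialLinearGroup.transpose g ∈ K}
  one_mem' := by
    show SpecialLinearGroup.transpose 1 ∈ K
    have : SpecialLinearGroup.transpose (1 : SpecialLinearGroup ι F) = 1 := by
      apply Subtype.ext
      show (1 : Matrix ι ι F)ᵀ = 1
      exact Matrix.transpose_one
    rw [this]
    exact K.one_mem
  mul_mem' := by
    intro a b ha hb
    show SpecialLinearGroup.transpose (a * b) ∈ K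
    have : SpecialLinearGroup.transpose (a * b) =
        SpecialLinearGroup.transpose b * SpecialLinearGroup.transpose a := by
      apply Subtype.ext
      show (a.1 * b.1)ᵀ = b.1ᵀ * a.1ᵀ
      exact Matrix.transpose_mul _ _
    rw [this]
    exact K.mul_mem hb ha
  inv_mem' := by
    intro a ha
    show SpecialLinearGroup.transpose a⁻¹ ∈ K
    have : SpecialLinearGroup.transpose a⁻¹ = (SpecialLinearGroup.transpose a)⁻¹ := by
      rw [eq_inv_iff_mul_eq_one]
      apply Subtype.ext
      show (a⁻¹ : SpecialLinearGroup ι F).1ᵀ * a.1ᵀ = 1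
      rw [← Matrix.transpose_mul]
      have h1 : a.1 * (a⁻¹ : SpecialLinearGroup ι F).1 = 1 := by
        have := congrArg Subtype.val (mul_inv_cancel a)
        exact this
      rw [h1]
      exact Matrix.transpose_one
    rw [this]
    exact K.inv_mem ha

theorem mem_dualK {K : Subgroup (SpecialLinearGroup ι F)} {g : SpecialLinearGroup ι F} :
    g ∈ dualK K ↔ SpecialLinearGroup.transpose g ∈ K := Iff.rfl

theorem overB_dualK {blk : ι → τ} {K : Subgroup (SpecialLinearGroup ι F)} (hK : OverB blk K) :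
    OverB blk (dualK K) := by
  intro g hg
  rw [mem_dualK]
  apply hK
  obtain ⟨σ, hσ⟩ := hg
  refine ⟨σ⁻¹, fun r c h => ?_⟩
  rw [SpecialLinearGroup.coe_transpose, Matrix.transpose_apply] at h
  rw [hσ c r h]
  exact (σ.symm_apply_apply _).symm

theorem tv_mem_dualK {K : Subgroup (SpecialLinearGroup ι F)} {x φ : ι → F} {c : F} :
    tv x φ c ∈ dualK K ↔ tv φ x c ∈ K := by
  rw [mem_dualK, transpose_tv]

theorem transvection_mem_dualK {K : Subgroup (SpecialLinearGroup ι F)} {i j : ι} (hij : i ≠ j)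
    (c : F) : SpecialLinearGroup.transvection hij c ∈ dualK K ↔
      SpecialLinearGroup.transvection (Ne.symm hij) c ∈ K := by
  rw [transvection_eq_tv, transvection_eq_tv, tv_mem_dualK]

end PkB

end Cfsg.Agent.Lib.Helper6.C2Max
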