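import Cfsg.Agent.Lib.Helper1.C2Max_B0

set_option autoImplicit false

/-!
S5634, package PK-B2: an element of `K` which is not block-monomial conjugates some in-block
elementary transvection to a transvection whose centre and axis meet two different blocks.
-/

namespace Cfsg.Agent.Lib.Helper6.C2Max

open Matrix Cfsg.Agent.H9SLRoot

variable {F : Type*} [Field F] [Fintype F]

namespace PkB

/-- another index in the same block (`m ≥ 2`) -/
theorem exists_other {t m : ℕ} (hm : 2 ≤ m) (x : Σ _ : Fin t, Fin m) :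
    ∃ x' : Σ _ : Fin t, Fin m, x ≠ x' ∧ x.1 = x'.1 := by
  obtain ⟨k, a⟩ := x
  by_cases ha : a = ⟨0, by omega⟩
  · refine ⟨⟨k, ⟨1, by omega⟩⟩, ?_, rfl⟩
    intro h
    have h2 := eq_of_heq (Sigma.mk.inj h).2
    rw [ha] at h2
    have := congrArg Fin.val h2
    simp at this
  · refine ⟨⟨k, ⟨0, by omega⟩⟩, ?_, rfl⟩
    intro h
    exact ha (eq_of_heq (Sigma.mk.inj h).2)

theorem exists_bad_tv {t m : ℕ} (hm : 2 ≤ m)
    (K : Subgroup (SpecialLinearGroup (Σ _ : Fin t, Fin m) F))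
    (hK : OverB (Sigma.fst : (Σ _ : Fin t, Fin m) → Fin t) K)
    (y : SpecialLinearGroup (Σ _ : Fin t, Fin m) F) (hy : y ∈ K)
    (hnb : ¬ IsBM (Sigma.fst : (Σ _ : Fin t, Fin m) → Fin t) y.1) :
    ∃ b β : (Σ _ : Fin t, Fin m) → F, β ⬝ᵥ b = 0 ∧ tv b β 1 ∈ K ∧
      ∃ r c : Σ _ : Fin t, Fin m, b r ≠ 0 ∧ β c ≠ 0 ∧ r.1 ≠ c.1 := by
  classical
  by_contra hcon
  apply hnb
  have hYiY : (y⁻¹ : SpecialLinearGroup (Σ _ : Fin t, Fin m) F).1 * y.1 = 1 :=
    congrArg Subtype.val (inv_mul_cancel y)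
  have hYYi : y.1 * (y⁻¹ : SpecialLinearGroup (Σ _ : Fin t, Fin m) F).1 = 1 :=
    congrArg Subtype.val (mul_inv_cancel y)
  -- the key property
  have key : ∀ x x' : Σ _ : Fin t, Fin m, x ≠ x' → x.1 = x'.1 → ∀ r c : Σ _ : Fin t, Fin m,
      y.1 r x ≠ 0 → (y⁻¹ : SpecialLinearGroup (Σ _ : Fin t, Fin m) F).1 x' c ≠ 0 → r.1 = c.1 := by
    intro x x' hne hblk r c h1 h2
    by_contra hrc
    apply hcon
    have h0 : (Pi.single x' (1 : F) : (Σ _ : Fin t, Fin m) → F) ⬝ᵥ (Pi.single x 1) = 0 := by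
      rw [single_dotProduct, one_mul, Pi.single_eq_of_ne (Ne.symm hne)]
    refine ⟨y.1 *ᵥ Pi.single x 1,
      Pi.single x' 1 ᵥ* (y⁻¹ : SpecialLinearGroup (Σ _ : Fin t, Fin m) F).1, ?_, ?_, r, c, ?_, ?_, hrc⟩
    · rw [dot_conj y]
      exact h0
    · rw [← tv_conj]
      refine K.mul_mem (K.mul_mem hy ?_) (K.inv_mem hy)
      refine tv_mem_of_suppIn hK (i := x.1) (suppIn_single _ x 1) ?_ 1
      rw [hblk]
      exact suppIn_single _ x' 1
    · rw [Matrix.mulVec_single_one]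
      exact h1
    · rw [Matrix.single_one_vecMul]
      exact h2
  -- columns of `y`, rows of `y⁻¹`, rows of `y` are not zero
  have hdiag : ∀ x : Σ _ : Fin t, Fin m, ∃ r : Σ _ : Fin t, Fin m,
      (y⁻¹ : SpecialLinearGroup (Σ _ : Fin t, Fin m) F).1 x r ≠ 0 ∧ y.1 r x ≠ 0 := by
    intro x
    by_contra h
    push Not at h
    have h1 : ((y⁻¹ : SpecialLinearGroup (Σ _ : Fin t, Fin m) F).1 * y.1) x x = 1 := by
      rw [hYiY, Matrix.one_apply_eq]
    rw [Matrix.mul_apply] at h1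
    have h2 : ∑ r, (y⁻¹ : SpecialLinearGroup (Σ _ : Fin t, Fin m) F).1 x r * y.1 r x = 0 := by
      apply Finset.sum_eq_zero
      intro r _
      by_cases hr : (y⁻¹ : SpecialLinearGroup (Σ _ : Fin t, Fin m) F).1 x r = 0
      · rw [hr, zero_mul]
      · rw [h r hr, mul_zero]
    rw [h2] at h1
    exact zero_ne_one h1
  have hrow : ∀ r : Σ _ : Fin t, Fin m, ∃ x : Σ _ : Fin t, Fin m, y.1 r x ≠ 0 := by
    intro r
    by_contra h
    push Not at h
    have h1 : (y.1 * (y⁻¹ : SpecialLinearGroup (Σ _ : Fin t, Fin m) F).1) r r = 1 := by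
      rw [hYYi, Matrix.one_apply_eq]
    rw [Matrix.mul_apply] at h1
    have h2 : ∑ x, y.1 r x * (y⁻¹ : SpecialLinearGroup (Σ _ : Fin t, Fin m) F).1 x r = 0 := by
      apply Finset.sum_eq_zero
      intro x _
      rw [h x, zero_mul]
    rw [h2] at h1
    exact zero_ne_one h1
  choose ρ hρ using hdiag
  -- every column lies in one block
  have hcol : ∀ x r : Σ _ : Fin t, Fin m, y.1 r x ≠ 0 → r.1 = (ρ x).1 := by
    intro x r hr
    obtain ⟨x', hne, hblk⟩ := exists_other hm x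
    have h1 := key x x' hne hblk r (ρ x') hr (hρ x').1
    have h2 := key x x' hne hblk (ρ x) (ρ x') (hρ x).2 (hρ x').1
    rw [h1, h2]
  have hsame : ∀ x x' : Σ _ : Fin t, Fin m, x ≠ x' → x.1 = x'.1 → (ρ x).1 = (ρ x').1 :=
    fun x x' hne hblk => key x x' hne hblk (ρ x) (ρ x') (hρ x).2 (hρ x').1
  let σ₀ : Fin t → Fin t := fun k => (ρ ⟨k, ⟨0, by omega⟩⟩).1
  have hσ₀ : ∀ x : Σ _ : Fin t, Fin m, (ρ x).1 = σ₀ x.1 := by
    intro x
    by_cases hx : x = ⟨x.1, ⟨0, by omega⟩⟩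
    · show (ρ x).1 = (ρ ⟨x.1, ⟨0, by omega⟩⟩).1
      rw [← hx]
    · exact hsame x ⟨x.1, ⟨0, by omega⟩⟩ hx rfl
  have hsurj : Function.Surjective σ₀ := by
    intro B
    obtain ⟨x, hx⟩ := hrow ⟨B, ⟨0, by omega⟩⟩
    refine ⟨x.1, ?_⟩
    rw [← hσ₀ x, ← hcol x _ hx]
  have hbij : Function.Bijective σ₀ := ⟨Finite.injective_iff_surjective.2 hsurj, hsurj⟩
  refine ⟨Equiv.ofBijective σ₀ hbij, fun r c h => ?_⟩
  rw [Equiv.ofBijective_apply, ← hσ₀ c]
  exact hcol c r h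

end PkB

end Cfsg.Agent.Lib.Helper6.C2Max
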