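import Cfsg.Agent.Lib.Helper1.C2Max_B2

set_option autoImplicit false

/-!
S5634, package PK-B3: a transvection of `K` whose centre meets the block `i` and whose axis meets
another block `j` gives a full cross-block elementary root subgroup, if the side condition of
"order 1" (`m ≥ 3`, or `β_i = 0`, or `β_i ⬝ b_i ≠ 0`) holds.
-/

namespace Cfsg.Agent.Lib.Helper6.C2Max

open Matrix Cfsg.Agent.H9SLRoot

variable {F : Type*} [Field F] [Fintype F]

namespace PkB

/-- two further indices in the same block (`m ≥ 3`) -/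
theorem exists_two_others {t m : ℕ} (hm : 3 ≤ m) (x : Σ _ : Fin t, Fin m) :
    ∃ x₂ x₃ : Σ _ : Fin t, Fin m, x₂ ≠ x ∧ x₃ ≠ x ∧ x₂ ≠ x₃ ∧ x₂.1 = x.1 ∧ x₃.1 = x.1 := by
  classical
  obtain ⟨k, a⟩ := x
  have hcard : 3 ≤ Fintype.card (Fin m) := by rw [Fintype.card_fin]; exact hm
  have h1 : 0 < ((Finset.univ : Finset (Fin m)).erase a).card := by
    rw [Finset.card_erase_of_mem (Finset.mem_univ _), Finset.card_univ]
    omega
  obtain ⟨a₂, ha₂⟩ := Finset.card_pos.1 h1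
  have h2 : 0 < (((Finset.univ : Finset (Fin m)).erase a).erase a₂).card := by
    rw [Finset.card_erase_of_mem ha₂, Finset.card_erase_of_mem (Finset.mem_univ _),
      Finset.card_univ]
    omega
  obtain ⟨a₃, ha₃⟩ := Finset.card_pos.1 h2
  have ha₂' : a₂ ≠ a := Finset.ne_of_mem_erase ha₂
  have ha₃' : a₃ ≠ a₂ := Finset.ne_of_mem_erase ha₃
  have ha₃'' : a₃ ≠ a := Finset.ne_of_mem_erase (Finset.mem_of_mem_erase ha₃)
  refine ⟨⟨k, a₂⟩, ⟨k, a₃⟩, ?_, ?_, ?_, rfl, rfl⟩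
  · intro h
    exact ha₂' (eq_of_heq (Sigma.mk.inj h).2)
  · intro h
    exact ha₃'' (eq_of_heq (Sigma.mk.inj h).2)
  · intro h
    exact ha₃' (eq_of_heq (Sigma.mk.inj h).2).symm

omit [Fintype F] in
/-- the difference of two scaled basis vectors -/
theorem pair_props {ι : Type*} [Fintype ι] [DecidableEq ι] (β : ι → F) (x₁ x₂ : ι) (h : x₂ ≠ x₁)
    (hβ : β x₁ ≠ 0) :
    β ⬝ᵥ (Pi.single x₂ (β x₁) - Pi.single x₁ (β x₂)) = 0 ∧
      (Pi.single x₂ (β x₁) - Pi.single x₁ (β x₂) : ι → F) ≠ 0 := by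
  constructor
  · rw [dotProduct_sub, dotProduct_single, dotProduct_single]
    ring
  · intro h0
    have := congrFun h0 x₂
    rw [Pi.sub_apply, Pi.single_eq_same, Pi.single_eq_of_ne h, sub_zero, Pi.zero_apply] at this
    exact hβ this

omit [Fintype F] in
theorem suppIn_sub {ι : Type*} {τ : Type*} (blk : ι → τ) (i : τ) {x y : ι → F}
    (hx : SuppIn blk i x) (hy : SuppIn blk i y) : SuppIn blk i (x - y) := by
  intro r hr
  by_cases h : x r = 0
  · apply hy
    intro h2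
    apply hr
    rw [Pi.sub_apply, h, h2, sub_zero]
  · exact hx r h

omit [Fintype F] in
theorem suppIn_single' {ι : Type*} [DecidableEq ι] {τ : Type*} (blk : ι → τ) (i : τ) (r : ι)
    (hr : blk r = i) (a : F) : SuppIn blk i (Pi.single r a : ι → F) := by
  rw [← hr]
  exact suppIn_single blk r a

omit [Fintype F] in
/-- the choice of the in-block pair `(a, α)` for move (I) -/
theorem exists_pair_order1 {t m : ℕ} (hm : 2 ≤ m) (b β : (Σ _ : Fin t, Fin m) → F)
    (r : Σ _ : Fin t, Fin m) (hr : b r ≠ 0)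
    (hcond : 3 ≤ m ∨ (∀ x : Σ _ : Fin t, Fin m, x.1 = r.1 → β x = 0) ∨
      ∑ x : Σ _ : Fin t, Fin m, (if x.1 = r.1 then β x * b x else 0) ≠ 0) :
    ∃ a α : (Σ _ : Fin t, Fin m) → F,
      SuppIn (Sigma.fst : (Σ _ : Fin t, Fin m) → Fin t) r.1 a ∧
      SuppIn (Sigma.fst : (Σ _ : Fin t, Fin m) → Fin t) r.1 α ∧
      α ⬝ᵥ a = 0 ∧ β ⬝ᵥ a = 0 ∧ α ⬝ᵥ b ≠ 0 ∧ a ≠ 0 := by
  classical
  rcases hcond with h3 | h0 | hS
  · -- `m ≥ 3`
    obtain ⟨x₂, x₃, h2r, h3r, h23, hb2, hb3⟩ := exists_two_others h3 r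
    have hα : (Pi.single r (1 : F) : (Σ _ : Fin t, Fin m) → F) ⬝ᵥ b ≠ 0 := by
      rw [single_dotProduct, one_mul]
      exact hr
    by_cases hβ2 : β x₂ = 0
    · refine ⟨Pi.single x₂ 1, Pi.single r 1, suppIn_single' _ _ x₂ hb2 1, suppIn_single _ r 1, ?_, ?_,
        hα, ?_⟩
      · rw [single_dotProduct, one_mul, Pi.single_eq_of_ne (Ne.symm h2r)]
      · rw [dotProduct_single, mul_one]
        exact hβ2
      · intro h
        have := congrFun h x₂
        rw [Pi.single_eq_same, Pi.zero_apply] at this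
        exact one_ne_zero this
    · obtain ⟨hp1, hp2⟩ := pair_props β x₂ x₃ (Ne.symm h23) hβ2
      refine ⟨Pi.single x₃ (β x₂) - Pi.single x₂ (β x₃), Pi.single r 1,
        suppIn_sub _ _ (suppIn_single' _ _ x₃ hb3 _) (suppIn_single' _ _ x₂ hb2 _),
        suppIn_single _ r 1, ?_, hp1, hα, hp2⟩
      rw [single_dotProduct, one_mul, Pi.sub_apply, Pi.single_eq_of_ne (Ne.symm h3r),
        Pi.single_eq_of_ne (Ne.symm h2r), sub_zero]
  · -- `β_i = 0`
    obtain ⟨x₂, hne, hblk⟩ := exists_other hm r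
    refine ⟨Pi.single x₂ 1, Pi.single r 1, suppIn_single' _ _ x₂ hblk.symm 1, suppIn_single _ r 1,
      ?_, ?_, ?_, ?_⟩
    · rw [single_dotProduct, one_mul, Pi.single_eq_of_ne hne]
    · rw [dotProduct_single, mul_one]
      exact h0 x₂ hblk.symm
    · rw [single_dotProduct, one_mul]
      exact hr
    · intro h
      have := congrFun h x₂
      rw [Pi.single_eq_same, Pi.zero_apply] at this
      exact one_ne_zero this
  · -- `β_i ⬝ b_i ≠ 0`
    obtain ⟨x₁, hx₁, hβ1⟩ : ∃ x₁ : Σ _ : Fin t, Fin m, x₁.1 = r.1 ∧ β x₁ ≠ 0 := by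
      by_contra hcon
      push Not at hcon
      apply hS
      apply Finset.sum_eq_zero
      intro x _
      by_cases hx : x.1 = r.1
      · rw [if_pos hx, hcon x hx, zero_mul]
      · rw [if_neg hx]
    obtain ⟨x₂, hne, hblk⟩ := exists_other hm x₁
    obtain ⟨hp1, hp2⟩ := pair_props β x₁ x₂ (Ne.symm hne) hβ1
    have hsa : SuppIn (Sigma.fst : (Σ _ : Fin t, Fin m) → Fin t) r.1
        (Pi.single x₂ (β x₁) - Pi.single x₁ (β x₂) : (Σ _ : Fin t, Fin m) → F) :=
      suppIn_sub _ _ (suppIn_single' _ _ x₂ (hblk.symm.trans hx₁) _) (suppIn_single' _ _ x₁ hx₁ _)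
    have hβi : ∀ v : (Σ _ : Fin t, Fin m) → F,
        (fun x : Σ _ : Fin t, Fin m => if x.1 = r.1 then β x else 0) ⬝ᵥ v =
          ∑ x : Σ _ : Fin t, Fin m, (if x.1 = r.1 then β x * v x else 0) := by
      intro v
      unfold dotProduct
      apply Finset.sum_congr rfl
      intro x _
      rw [ite_mul, zero_mul]
    refine ⟨Pi.single x₂ (β x₁) - Pi.single x₁ (β x₂),
      fun x => if x.1 = r.1 then β x else 0, hsa, ?_, ?_, hp1, ?_, hp2⟩
    · intro x hx
      by_contra hne'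
      exact hx (if_neg hne')
    · rw [hβi]
      have : ∑ x : Σ _ : Fin t, Fin m, (if x.1 = r.1 then
          β x * (Pi.single x₂ (β x₁) - Pi.single x₁ (β x₂) : (Σ _ : Fin t, Fin m) → F) x else 0) =
          β ⬝ᵥ (Pi.single x₂ (β x₁) - Pi.single x₁ (β x₂)) := by
        unfold dotProduct
        apply Finset.sum_congr rfl
        intro x _
        by_cases hx : x.1 = r.1
        · rw [if_pos hx]
        · rw [if_neg hx]
          have : (Pi.single x₂ (β x₁) - Pi.single x₁ (β x₂) : (Σ _ : Fin t, Fin m) → F) x = 0 := by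
            by_contra h0
            exact hx (hsa x h0)
          rw [this, mul_zero]
      rw [this]
      exact hp1
    · rw [hβi]
      exact hS

/-- PK-B3: "order 1" gives a full cross-block elementary root subgroup -/
theorem cross_of_order1 {t m : ℕ} (hm : 2 ≤ m)
    (K : Subgroup (SpecialLinearGroup (Σ _ : Fin t, Fin m) F))
    (hK : OverB (Sigma.fst : (Σ _ : Fin t, Fin m) → Fin t) K)
    (b β : (Σ _ : Fin t, Fin m) → F) (hβb : β ⬝ᵥ b = 0) (d : F) (hd0 : d ≠ 0) (hd : tv b β d ∈ K)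
    (r c : Σ _ : Fin t, Fin m) (hr : b r ≠ 0) (hc : β c ≠ 0) (hrc : r.1 ≠ c.1)
    (hcond : 3 ≤ m ∨ (∀ x : Σ _ : Fin t, Fin m, x.1 = r.1 → β x = 0) ∨
      ∑ x : Σ _ : Fin t, Fin m, (if x.1 = r.1 then β x * b x else 0) ≠ 0) :
    ∃ (r' c' : Σ _ : Fin t, Fin m) (hne : r' ≠ c'), r'.1 ≠ c'.1 ∧
      ∀ lam : F, SpecialLinearGroup.transvection hne lam ∈ K := by
  classical
  obtain ⟨a, α, hsa, hsα, hαa, hβa, hαb, ha0⟩ := exists_pair_order1 hm b β r hr hcond
  -- Step B: move (I)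
  have hB : ∀ c₁ : F, tv a β c₁ ∈ K :=
    rule_center (fun c₁ => tv_mem_of_suppIn hK hsa hsα c₁) hαa hβb hd hd0 hβa hαb
  -- Step C: remove the block-`i` part of `β`
  set nβ : (Σ _ : Fin t, Fin m) → F := fun x => if x.1 = r.1 then -β x else 0 with hnβ
  have hsnβ : SuppIn (Sigma.fst : (Σ _ : Fin t, Fin m) → Fin t) r.1 nβ := by
    intro x hx
    by_contra hne'
    exact hx (if_neg hne')
  have hnβa : nβ ⬝ᵥ a = 0 := by
    have : nβ ⬝ᵥ a = -(β ⬝ᵥ a) := by
      unfold dotProduct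
      rw [← Finset.sum_neg_distrib]
      apply Finset.sum_congr rfl
      intro x _
      by_cases hx : x.1 = r.1
      · rw [hnβ]
        simp only [if_pos hx]
        ring
      · have : a x = 0 := by
          by_contra h0
          exact hx (hsa x h0)
        rw [this, mul_zero, mul_zero, neg_zero]
    rw [this, hβa, neg_zero]
  have hC : ∀ c₁ : F, tv a (β + nβ) c₁ ∈ K := by
    intro c₁
    rw [tv_add_axis hβa hnβa]
    exact K.mul_mem (hB c₁) (tv_mem_of_suppIn hK hsa hsnβ c₁)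
  have hβ'a : (β + nβ) ⬝ᵥ a = 0 := by rw [add_dotProduct, hβa, hnβa, add_zero]
  have hβ'c : (β + nβ) c ≠ 0 := by
    rw [Pi.add_apply, hnβ]
    simp only [if_neg (Ne.symm hrc), add_zero]
    exact hc
  -- Step D: move (II) in the block of `c`
  obtain ⟨c'', hcc'', hcblk⟩ := exists_other hm c
  have hac'' : a c'' = 0 := by
    by_contra h0
    apply hrc
    rw [hcblk]
    exact (hsa c'' h0).symm
  have hD : ∀ c₁ : F, tv a (Pi.single c'' (1 : F)) c₁ ∈ K := by
    have hin : ∀ c₁ : F, tv (Pi.single c (1 : F)) (Pi.single c'' (1 : F)) c₁ ∈ K := fun c₁ =>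
      tv_mem_of_suppIn hK (suppIn_single _ c 1) (suppIn_single' _ _ c'' hcblk.symm 1) c₁
    have h1 : (Pi.single c'' (1 : F) : (Σ _ : Fin t, Fin m) → F) ⬝ᵥ (Pi.single c 1) = 0 := by
      rw [single_dotProduct, one_mul, Pi.single_eq_of_ne (Ne.symm hcc'')]
    have h2 : (Pi.single c'' (1 : F) : (Σ _ : Fin t, Fin m) → F) ⬝ᵥ a = 0 := by
      rw [single_dotProduct, one_mul]
      exact hac''
    have h3 : (β + nβ) ⬝ᵥ (Pi.single c (1 : F)) ≠ 0 := by
      rw [dotProduct_single, mul_one]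
      exact hβ'c
    exact rule_axis hin h1 hβ'a (hC 1) one_ne_zero h2 h3
  -- Step E: move (I) in the block of `r`
  obtain ⟨x₁, hx₁⟩ : ∃ x₁, a x₁ ≠ 0 := by
    by_contra hcon
    push Not at hcon
    exact ha0 (funext hcon)
  have hx₁blk : x₁.1 = r.1 := hsa x₁ hx₁
  obtain ⟨x₂, hx12, hxblk⟩ := exists_other hm x₁
  have hx₂blk : x₂.1 = r.1 := hxblk.symm.trans hx₁blk
  have hx₂c'' : x₂ ≠ c'' := by
    intro h
    apply hrc
    rw [← hx₂blk, h, hcblk]
  have hE : ∀ c₁ : F, tv (Pi.single x₂ (1 : F)) (Pi.single c'' (1 : F)) c₁ ∈ K := by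
    have hin : ∀ c₁ : F, tv (Pi.single x₂ (1 : F)) (Pi.single x₁ (1 : F)) c₁ ∈ K := fun c₁ =>
      tv_mem_of_suppIn hK (suppIn_single' _ _ x₂ hx₂blk 1) (suppIn_single' _ _ x₁ hx₁blk 1) c₁
    have h1 : (Pi.single x₁ (1 : F) : (Σ _ : Fin t, Fin m) → F) ⬝ᵥ (Pi.single x₂ 1) = 0 := by
      rw [single_dotProduct, one_mul, Pi.single_eq_of_ne hx12]
    have h2 : (Pi.single c'' (1 : F) : (Σ _ : Fin t, Fin m) → F) ⬝ᵥ a = 0 := by
      rw [single_dotProduct, one_mul]
      exact hac''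
    have h3 : (Pi.single c'' (1 : F) : (Σ _ : Fin t, Fin m) → F) ⬝ᵥ (Pi.single x₂ 1) = 0 := by
      rw [single_dotProduct, one_mul, Pi.single_eq_of_ne (Ne.symm hx₂c'')]
    have h4 : (Pi.single x₁ (1 : F) : (Σ _ : Fin t, Fin m) → F) ⬝ᵥ a ≠ 0 := by
      rw [single_dotProduct, one_mul]
      exact hx₁
    exact rule_center hin h1 h2 (hD 1) one_ne_zero h3 h4
  refine ⟨x₂, c'', hx₂c'', ?_, fun lam => ?_⟩
  · rw [hx₂blk, ← hcblk]
    exact hrc
  · rw [transvection_eq_tv]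
    exact hE lam

end PkB

end Cfsg.Agent.Lib.Helper6.C2Max
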