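import Cfsg.Agent.Lib.Helper1.C2Max_B3
import Cfsg.Agent.Lib.Helper6.C2Max.B1
import Cfsg.Agent.Lib.Helper3.C2Max_B5

set_option autoImplicit false

/-!
S5634, package PK-B (assembly): an overgroup `K` of the block-monomial group `M` (blocks of
dimension `m ≥ 2`, not `m = 2 = q`) consists of block-monomial matrices or is the whole group.
A non-block-monomial `y ∈ K` gives a transvection of `K` with centre and axis meeting different
blocks (B2); it gives a cross-block elementary transvection by "order 1" (B3), by "order 1" for the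
transposed group `dualK K`, or by the `m = 2` case (B5, B4); one cross-block elementary
transvection generates everything with `M` (B1).
-/

namespace Cfsg.Agent.Lib.Helper6.C2Max

open Matrix Cfsg.Agent.H9SLRoot

variable {F : Type*} [Field F] [Fintype F]

/-- PK-B: the block-monomial core -/
theorem block_core {t m : ℕ} (ht : 2 ≤ t) (hm : 2 ≤ m) (hmq : ¬ (m = 2 ∧ Fintype.card F = 2))
    (hn : 13 ≤ t * m)
    (K : Subgroup (SpecialLinearGroup (Σ _ : Fin t, Fin m) F))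
    (hK : OverB (Sigma.fst : (Σ _ : Fin t, Fin m) → Fin t) K) :
    (∀ g ∈ K, IsBM (Sigma.fst : (Σ _ : Fin t, Fin m) → Fin t)
      (g : SpecialLinearGroup (Σ _ : Fin t, Fin m) F).1) ∨ K = ⊤ := by
  classical
  by_cases hall : ∀ g ∈ K, IsBM (Sigma.fst : (Σ _ : Fin t, Fin m) → Fin t)
      (g : SpecialLinearGroup (Σ _ : Fin t, Fin m) F).1
  · exact Or.inl hall
  right
  push Not at hall
  obtain ⟨y, hy, hnb⟩ := hall
  obtain ⟨b, β, hβb, hd, r, c, hr, hc, hrc⟩ := PkB.exists_bad_tv hm K hK y hy hnb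
  suffices h : ∃ (r' c' : Σ _ : Fin t, Fin m) (hne : r' ≠ c'), r'.1 ≠ c'.1 ∧
      ∃ lam : F, lam ≠ 0 ∧ SpecialLinearGroup.transvection hne lam ∈ K by
    obtain ⟨r', c', hne, hrc', lam, hlam, hmem⟩ := h
    exact PkB.top_of_cross hm K hK r' c' hne hrc' lam hlam hmem
  by_cases hc1 : 3 ≤ m ∨ (∀ x : Σ _ : Fin t, Fin m, x.1 = r.1 → β x = 0) ∨
      ∑ x : Σ _ : Fin t, Fin m, (if x.1 = r.1 then β x * b x else 0) ≠ 0
  · obtain ⟨r', c', hne, hrc', hall'⟩ :=
      PkB.cross_of_order1 hm K hK b β hβb 1 one_ne_zero hd r c hr hc hrc hc1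
    exact ⟨r', c', hne, hrc', 1, one_ne_zero, hall' 1⟩
  by_cases hc2 : 3 ≤ m ∨ (∀ x : Σ _ : Fin t, Fin m, x.1 = c.1 → b x = 0) ∨
      ∑ x : Σ _ : Fin t, Fin m, (if x.1 = c.1 then b x * β x else 0) ≠ 0
  · have hbβ : b ⬝ᵥ β = 0 := by rw [dotProduct_comm]; exact hβb
    obtain ⟨r', c', hne, hrc', hall'⟩ :=
      PkB.cross_of_order1 hm (PkB.dualK K) (PkB.overB_dualK hK) β b hbβ 1 one_ne_zero
        (PkB.tv_mem_dualK.2 hd) c r hc hr (Ne.symm hrc) hc2
    exact ⟨c', r', Ne.symm hne, Ne.symm hrc', 1, one_ne_zero,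
      (PkB.transvection_mem_dualK hne 1).1 (hall' 1)⟩
  push Not at hc1 hc2
  obtain ⟨hm3, hβi, hi0⟩ := hc1
  obtain ⟨-, hbj, hj0⟩ := hc2
  have hm2 : m = 2 := by omega
  subst hm2
  have hq : 3 ≤ Fintype.card F := by
    have h2 : 2 ≤ Fintype.card F := by
      have := Fintype.one_lt_card (α := F)
      omega
    by_contra hlt
    exact hmq ⟨rfl, by omega⟩
  have ht3 : 3 ≤ t := by omega
  obtain ⟨x, hx1, hx2⟩ := hβi
  obtain ⟨x', hx1', hx2'⟩ := hbj
  have hj0' : ∑ x : Σ _ : Fin t, Fin 2, (if x.1 = c.1 then β x * b x else 0) = 0 := by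
    refine Eq.trans (Finset.sum_congr rfl fun x _ => ?_) hj0
    rw [mul_comm]
  exact PkB.cross_of_bad ht3 hq K hK b β hβb 1 one_ne_zero hd r.1 c.1 hrc ⟨r, rfl, hr⟩
    ⟨x, hx1, hx2⟩ hi0 ⟨x', hx1', hx2'⟩ ⟨c, rfl, hc⟩ hj0'

end Cfsg.Agent.Lib.Helper6.C2Max
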