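import Mathlib
import Cfsg.Prelude
import Cfsg.Agent.Lib.Helper2.Herm

set_option autoImplicit false

namespace Cfsg.Agent.Lib.Helper1.HermCount

open Cfsg.Agent.Lib.Helper2.Herm
open scoped Classical

variable {F : Type*} [Field F] [Fintype F] {q : ℕ}

/-- the norm `x ↦ x * x^q`. -/
def nrm (q : ℕ) (x : F) : F := x * x ^ q

theorem two_le_q (hF : Fintype.card F = q ^ 2) : 2 ≤ q := by
  have h1 : 1 < Fintype.card F := Fintype.one_lt_card
  rw [hF] at h1
  by_contra h
  push Not at h
  interval_cases q <;> simp at h1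

theorem nrm_pow_q (hF : Fintype.card F = q ^ 2) (x : F) : (nrm q x) ^ q = nrm q x := by
  unfold nrm
  rw [mul_pow, pow_q_pow_q hF, mul_comm]

theorem nrm_eq_zero (hF : Fintype.card F = q ^ 2) (x : F) : nrm q x = 0 ↔ x = 0 := by
  unfold nrm
  constructor
  · intro h
    rcases mul_eq_zero.mp h with h | h
    · exact h
    · exact pow_eq_zero_iff (by have := two_le_q hF; omega) |>.mp h
  · rintro rfl
    rw [zero_mul]

omit [Fintype F] in
theorem nrm_mul (x y : F) : nrm q (x * y) = nrm q x * nrm q y := by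
  unfold nrm
  rw [mul_pow]
  ring

theorem neg_pow_q (hF : Fintype.card F = q ^ 2) (a : F) : (-a) ^ q = -(a ^ q) := by
  have h := add_pow_q hF (-a) a
  rw [neg_add_cancel, zero_pow (by have := two_le_q hF; omega)] at h
  exact eq_neg_of_add_eq_zero_left h.symm

theorem sub_pow_q (hF : Fintype.card F = q ^ 2) (a b : F) : (a - b) ^ q = a ^ q - b ^ q := by
  rw [sub_eq_add_neg, add_pow_q hF, neg_pow_q hF, ← sub_eq_add_neg]

/-- the fixed nonzero elements. -/
noncomputable def fixedUnits (F : Type*) [Field F] [Fintype F] (q : ℕ) : Finset F :=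
  Finset.univ.filter (fun c : F => c ≠ 0 ∧ c ^ q = c)

noncomputable def fibre (q : ℕ) (c : F) : Finset F :=
  Finset.univ.filter (fun x : F => nrm q x = c)

theorem card_fixedUnits_le (hF : Fintype.card F = q ^ 2) : (fixedUnits F q).card ≤ q - 1 := by
  have hq := two_le_q hF
  have hsub : fixedUnits F q ⊆ Polynomial.nthRootsFinset (q - 1) (1 : F) := by
    intro c hc
    rw [fixedUnits, Finset.mem_filter] at hc
    rw [Polynomial.mem_nthRootsFinset (by omega)]
    have h1 : c * c ^ (q - 1) = c * 1 := by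
      rw [← pow_succ', mul_one]
      have : q - 1 + 1 = q := by omega
      rw [this]; exact hc.2.2
    exact mul_left_cancel₀ hc.2.1 h1
  calc (fixedUnits F q).card ≤ (Polynomial.nthRootsFinset (q - 1) (1 : F)).card :=
        Finset.card_le_card hsub
    _ ≤ Multiset.card (Polynomial.nthRoots (q - 1) (1 : F)) := by
        rw [Polynomial.nthRootsFinset_def]; exact Multiset.toFinset_card_le _
    _ ≤ q - 1 := Polynomial.card_nthRoots _ _

theorem card_fibre_le (c : F) : (fibre q c).card ≤ q + 1 := by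
  have hsub : fibre q c ⊆ Polynomial.nthRootsFinset (q + 1) c := by
    intro x hx
    rw [fibre, Finset.mem_filter] at hx
    rw [Polynomial.mem_nthRootsFinset (by omega)]
    rw [pow_succ']; exact hx.2
  calc (fibre q c).card ≤ (Polynomial.nthRootsFinset (q + 1) c).card :=
        Finset.card_le_card hsub
    _ ≤ Multiset.card (Polynomial.nthRoots (q + 1) c) := by
        rw [Polynomial.nthRootsFinset_def]; exact Multiset.toFinset_card_le _
    _ ≤ q + 1 := Polynomial.card_nthRoots _ _

theorem sum_card_fibre (hF : Fintype.card F = q ^ 2) :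
    ∑ c ∈ fixedUnits F q, (fibre q c).card = q ^ 2 - 1 := by
  have hmaps : ((Finset.univ.filter (fun x : F => x ≠ 0) : Finset F) : Set F).MapsTo (nrm q)
      (fixedUnits F q) := by
    intro x hx
    simp only [Finset.coe_filter, Finset.mem_univ, true_and, Set.mem_ofPred_eq] at hx
    simp only [fixedUnits, Finset.coe_filter, Finset.mem_univ, true_and, Set.mem_ofPred_eq]
    exact ⟨fun h => hx ((nrm_eq_zero hF x).mp h), nrm_pow_q hF x⟩
  have h := Finset.card_eq_sum_card_fiberwise hmaps
  have hcard : (Finset.univ.filter (fun x : F => x ≠ 0)).card = q ^ 2 - 1 := by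
    rw [Finset.filter_ne' Finset.univ (0 : F), Finset.card_erase_of_mem (Finset.mem_univ _),
      Finset.card_univ, hF]
  rw [hcard] at h
  rw [h]
  apply Finset.sum_congr rfl
  intro c hc
  congr 1
  ext x
  simp only [fibre, Finset.mem_filter, Finset.mem_univ, true_and]
  constructor
  · intro hx
    refine ⟨?_, hx⟩
    rintro rfl
    rw [fixedUnits, Finset.mem_filter] at hc
    apply hc.2.1
    rw [← hx, (nrm_eq_zero hF 0).mpr rfl]
  · exact fun hx => hx.2

theorem card_fixedUnits (hF : Fintype.card F = q ^ 2) : (fixedUnits F q).card = q - 1 := by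
  have hq := two_le_q hF
  have h1 := sum_card_fibre hF
  have h2 : ∑ c ∈ fixedUnits F q, (fibre q c).card ≤ (fixedUnits F q).card * (q + 1) := by
    rw [← smul_eq_mul, ← Finset.sum_const]
    exact Finset.sum_le_sum (fun c _ => card_fibre_le c)
  have h3 := card_fixedUnits_le hF
  rw [h1] at h2
  have h4 : q ^ 2 - 1 = (q - 1) * (q + 1) := by
    obtain ⟨k, rfl⟩ : ∃ k, q = k + 1 := ⟨q - 1, by omega⟩
    simp only [Nat.add_sub_cancel]
    have : (k + 1) ^ 2 = k * (k + 1 + 1) + 1 := by ring
    rw [this]; simp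
  rw [h4] at h2
  have h5 : q - 1 ≤ (fixedUnits F q).card := Nat.le_of_mul_le_mul_right h2 (by omega)
  omega

theorem card_fibre (hF : Fintype.card F = q ^ 2) {c : F} (hc : c ∈ fixedUnits F q) :
    (fibre q c).card = q + 1 := by
  have hq := two_le_q hF
  have h1 := sum_card_fibre hF
  have h4 : q ^ 2 - 1 = (q - 1) * (q + 1) := by
    obtain ⟨k, rfl⟩ : ∃ k, q = k + 1 := ⟨q - 1, by omega⟩
    simp only [Nat.add_sub_cancel]
    have : (k + 1) ^ 2 = k * (k + 1 + 1) + 1 := by ring
    rw [this]; simp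
  have h2 : ∑ c ∈ fixedUnits F q, (fibre q c).card = ∑ _c ∈ fixedUnits F q, (q + 1) := by
    rw [Finset.sum_const, smul_eq_mul, card_fixedUnits hF, h1, h4]
  exact (Finset.sum_eq_sum_iff_of_le (fun c _ => card_fibre_le c)).mp h2 c hc

theorem one_mem_fixedUnits : (1 : F) ∈ fixedUnits F q := by
  simp [fixedUnits]

theorem exists_nrm_eq (hF : Fintype.card F = q ^ 2) {c : F} (hc : c ∈ fixedUnits F q) :
    ∃ x : F, x ≠ 0 ∧ nrm q x = c := by
  have h := card_fibre hF hc
  have hne : (fibre q c).Nonempty := by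
    rw [← Finset.card_pos]; omega
  obtain ⟨x, hx⟩ := hne
  rw [fibre, Finset.mem_filter] at hx
  refine ⟨x, ?_, hx.2⟩
  rintro rfl
  rw [fixedUnits, Finset.mem_filter] at hc
  apply hc.2.1
  rw [← hx.2, (nrm_eq_zero hF 0).mpr rfl]

/-- the number of vectors of norm `c`. -/
noncomputable def cnt (F : Type*) [Field F] [Fintype F] (q n : ℕ) (c : F) : ℕ :=
  (Finset.univ.filter (fun v : Fin n → F => Cfsg.hermForm n F q v v = c)).card

omit [Fintype F] in
theorem herm_succ (n : ℕ) (v : Fin (n + 1) → F) :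
    Cfsg.hermForm (n + 1) F q v v = nrm q (v 0) + Cfsg.hermForm n F q (Fin.tail v) (Fin.tail v) := by
  unfold Cfsg.hermForm nrm
  rw [Fin.sum_univ_succ]
  rfl

theorem cnt_succ (n : ℕ) (c : F) :
    cnt F q (n + 1) c = ∑ x : F, cnt F q n (c - nrm q x) := by
  unfold cnt
  have hmaps : ((Finset.univ.filter (fun v : Fin (n + 1) → F =>
      Cfsg.hermForm (n + 1) F q v v = c) : Finset (Fin (n + 1) → F)) : Set _).MapsTo
      (fun v : Fin (n + 1) → F => v 0) (Finset.univ : Finset F) :=
    fun _ _ => Finset.mem_coe.mpr (Finset.mem_univ _)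
  rw [Finset.card_eq_sum_card_fiberwise hmaps]
  apply Finset.sum_congr rfl
  intro x _
  apply Finset.card_nbij' (fun v => Fin.tail v) (fun w => Fin.cons x w)
  · intro v hv
    simp only [Finset.coe_filter, Finset.mem_filter, Finset.mem_univ, true_and,
      Set.mem_ofPred_eq] at hv ⊢
    rw [← hv.1, herm_succ, hv.2]; ring
  · intro w hw
    simp only [Finset.coe_filter, Finset.mem_filter, Finset.mem_univ, true_and,
      Set.mem_ofPred_eq] at hw ⊢
    refine ⟨?_, Fin.cons_zero _ _⟩
    rw [herm_succ, Fin.cons_zero, Fin.tail_cons, hw]; ring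
  · intro v hv
    simp only [Finset.coe_filter, Finset.mem_filter, Finset.mem_univ, true_and,
      Set.mem_ofPred_eq] at hv
    rw [← hv.2]; exact Fin.cons_self_tail v
  · intro w _
    exact Fin.tail_cons _ _

theorem cnt_eq_one (hF : Fintype.card F = q ^ 2) (n : ℕ) {c : F} (hc : c ∈ fixedUnits F q) :
    cnt F q n c = cnt F q n 1 := by
  obtain ⟨l, hl0, hl⟩ := exists_nrm_eq hF hc
  unfold cnt
  symm
  apply Finset.card_nbij' (fun v => l • v) (fun v => l⁻¹ • v)
  · intro v hv
    simp only [Finset.coe_filter, Finset.mem_univ, true_and, Set.mem_ofPred_eq] at hv ⊢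
    rw [herm_smul_left, herm_smul_right, hv, mul_one]; exact hl
  · intro v hv
    simp only [Finset.coe_filter, Finset.mem_univ, true_and, Set.mem_ofPred_eq] at hv ⊢
    rw [herm_smul_left, herm_smul_right, hv, ← hl]
    unfold nrm
    rw [inv_pow]
    have : l ^ q ≠ 0 := pow_ne_zero _ hl0
    field_simp
  · intro v _
    simp only [smul_smul, inv_mul_cancel₀ hl0, one_smul]
  · intro v _
    simp only [smul_smul, mul_inv_cancel₀ hl0, one_smul]

theorem cnt_zero_zero : cnt F q 0 (0 : F) = 1 := by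
  unfold cnt
  rw [Finset.card_eq_one]
  refine ⟨fun i => i.elim0, ?_⟩
  ext v
  simp only [Finset.mem_filter, Finset.mem_univ, true_and, Finset.mem_singleton]
  constructor
  · intro _; funext i; exact i.elim0
  · intro _; simp [Cfsg.hermForm]

theorem cnt_zero_one : cnt F q 0 (1 : F) = 0 := by
  unfold cnt
  rw [Finset.card_eq_zero, Finset.filter_eq_empty_iff]
  intro v _
  simp [Cfsg.hermForm]

/-- recurrence for the isotropic count. -/
theorem cnt_succ_zero (hF : Fintype.card F = q ^ 2) (n : ℕ) :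
    cnt F q (n + 1) (0 : F) = cnt F q n 0 + (q ^ 2 - 1) * cnt F q n 1 := by
  rw [cnt_succ]
  rw [← Finset.add_sum_erase Finset.univ _ (Finset.mem_univ (0 : F))]
  congr 1
  · rw [(nrm_eq_zero hF 0).mpr rfl, sub_zero]
  · have h : ∀ x ∈ Finset.univ.erase (0 : F), cnt F q n (0 - nrm q x) = cnt F q n 1 := by
      intro x hx
      apply cnt_eq_one hF
      rw [Finset.mem_erase] at hx
      simp only [fixedUnits, Finset.mem_filter, Finset.mem_univ, true_and, zero_sub]
      refine ⟨?_, ?_⟩
      · rw [neg_ne_zero]; exact fun h => hx.1 ((nrm_eq_zero hF x).mp h)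
      · rw [neg_pow_q hF, nrm_pow_q hF]
    rw [Finset.sum_congr rfl h, Finset.sum_const, smul_eq_mul,
      Finset.card_erase_of_mem (Finset.mem_univ _), Finset.card_univ, hF]

/-- recurrence for the norm one count. -/
theorem cnt_succ_one (hF : Fintype.card F = q ^ 2) (n : ℕ) :
    cnt F q (n + 1) (1 : F) = (q + 1) * cnt F q n 0 + (q ^ 2 - (q + 1)) * cnt F q n 1 := by
  rw [cnt_succ]
  rw [← Finset.sum_filter_add_sum_filter_not Finset.univ (fun x : F => nrm q x = 1)]
  congr 1
  · have h : ∀ x ∈ Finset.univ.filter (fun x : F => nrm q x = 1),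
        cnt F q n (1 - nrm q x) = cnt F q n 0 := by
      intro x hx
      rw [Finset.mem_filter] at hx
      rw [hx.2, sub_self]
    rw [Finset.sum_congr rfl h, Finset.sum_const, smul_eq_mul]
    congr 1
    exact card_fibre hF one_mem_fixedUnits
  · have h : ∀ x ∈ Finset.univ.filter (fun x : F => ¬ nrm q x = 1),
        cnt F q n (1 - nrm q x) = cnt F q n 1 := by
      intro x hx
      rw [Finset.mem_filter] at hx
      apply cnt_eq_one hF
      simp only [fixedUnits, Finset.mem_filter, Finset.mem_univ, true_and]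
      refine ⟨?_, ?_⟩
      · rw [sub_ne_zero]; exact fun h => hx.2 h.symm
      · rw [sub_pow_q hF, one_pow, nrm_pow_q hF]
    rw [Finset.sum_congr rfl h, Finset.sum_const, smul_eq_mul]
    congr 1
    have h1 : (Finset.univ.filter (fun x : F => ¬ nrm q x = 1)).card
        + (fibre q (1 : F)).card = q ^ 2 := by
      rw [fibre, add_comm, Finset.card_filter_add_card_filter_not, Finset.card_univ, hF]
    rw [card_fibre hF one_mem_fixedUnits] at h1
    omega

/-- closed forms, multiplied by `q`, over the integers. -/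
theorem closed_forms (hF : Fintype.card F = q ^ 2) (n : ℕ) :
    (q : ℤ) * (cnt F q n (1 : F) : ℤ) = (q : ℤ) ^ n * ((q : ℤ) ^ n - (-1) ^ n) ∧
    (q : ℤ) * (cnt F q n (0 : F) : ℤ) =
      (q : ℤ) ^ (2 * n) + (-1) ^ n * ((q : ℤ) ^ (n + 1) - (q : ℤ) ^ n) := by
  have hq := two_le_q hF
  induction n with
  | zero =>
    rw [cnt_zero_one, cnt_zero_zero]
    simp
  | succ n ih =>
    obtain ⟨ih1, ih0⟩ := ih
    rw [cnt_succ_one hF, cnt_succ_zero hF]
    have hq2 : q + 1 ≤ q ^ 2 := by nlinarith
    have hq3 : 1 ≤ q ^ 2 := by nlinarith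
    push_cast [Nat.cast_sub hq2, Nat.cast_sub hq3]
    constructor
    · rw [pow_succ ((-1 : ℤ)) n, pow_succ (q : ℤ) n]
      have e : (q : ℤ) ^ (2 * n) = ((q : ℤ) ^ n) ^ 2 := by rw [pow_mul']
      rw [e] at ih0
      rw [pow_succ (q : ℤ) n] at ih0
      linear_combination ((q : ℤ) + 1) * ih0 + ((q : ℤ) ^ 2 - ((q : ℤ) + 1)) * ih1
    · have e : (q : ℤ) ^ (2 * n) = ((q : ℤ) ^ n) ^ 2 := by rw [pow_mul']
      have e' : (q : ℤ) ^ (2 * (n + 1)) = ((q : ℤ) ^ n) ^ 2 * (q : ℤ) ^ 2 := by
        rw [← e]; ring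
      rw [e] at ih0
      rw [e', pow_succ ((-1 : ℤ)) n, pow_succ (q : ℤ) (n + 1), pow_succ (q : ℤ) n]
      rw [pow_succ (q : ℤ) n] at ih0
      linear_combination ih0 + ((q : ℤ) ^ 2 - 1) * ih1

theorem natCard_eq_cnt (n : ℕ) (c : F) :
    Nat.card {v : Fin n → F // Cfsg.hermForm n F q v v = c} = cnt F q n c := by
  rw [Nat.card_eq_fintype_card, Fintype.card_subtype]
  rfl

end Cfsg.Agent.Lib.Helper1.HermCount
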