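import Mathlib

set_option autoImplicit false

namespace Cfsg.Agent.Lib.Helper1.StabCard

open MulAction

variable {G α : Type*} [Group G] [MulAction G α]

theorem card_eq_ncard_orbit_mul (p : α) :
    Nat.card G = (orbit G p).ncard * Nat.card (stabilizer G p) := by
  rw [← MulAction.index_stabilizer, Subgroup.index_mul_card]

theorem card_eq_card_mul_stabilizer [Fintype α] [IsPretransitive G α] (p : α) :
    Nat.card G = Fintype.card α * Nat.card (stabilizer G p) := by
  rw [card_eq_ncard_orbit_mul p, MulAction.orbit_eq_univ, Set.ncard_univ,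
    Nat.card_eq_fintype_card]

/-- the stabilizer of `q` inside a subgroup `H` -/
theorem card_subgroup_eq_orbit_mul (H : Subgroup G) (q : α) (O : Set α)
    (hO : ∀ r, r ∈ O ↔ ∃ g ∈ H, g • q = r) :
    Nat.card H = O.ncard * Nat.card ↥(H ⊓ stabilizer G q) := by
  have h1 := card_eq_ncard_orbit_mul (G := ↥H) q
  have h2 : orbit (↥H) q = O := by
    ext r
    rw [MulAction.mem_orbit_iff, hO]
    constructor
    · rintro ⟨g, hg⟩; exact ⟨g.1, g.2, hg⟩
    · rintro ⟨g, hg, hq⟩; exact ⟨⟨g, hg⟩, hq⟩
  have h3 : Nat.card (stabilizer (↥H) q) = Nat.card ↥(H ⊓ stabilizer G q) := by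
    apply Nat.card_congr
    refine ⟨fun g => ⟨g.1.1, g.1.2, g.2⟩, fun g => ⟨⟨g.1, g.2.1⟩, g.2.2⟩, ?_, ?_⟩
    · intro g; rfl
    · intro g; rfl
  rw [h1, h2, h3]

theorem card_stabilizer_eq_mul_two [Fintype α] [DecidableEq α]
    (h2 : IsMultiplyPretransitive G α 2) (p q : α) (hpq : p ≠ q) :
    Nat.card (stabilizer G p) =
      (Fintype.card α - 1) * Nat.card ↥(stabilizer G p ⊓ stabilizer G q) := by
  have h := card_subgroup_eq_orbit_mul (stabilizer G p) q {r | r ≠ p} (by
    intro r
    rw [is_two_pretransitive_iff] at h2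
    constructor
    · intro hr
      obtain ⟨g, hg1, hg2⟩ := h2 (a := p) (b := q) (c := p) (d := r) hpq (Ne.symm hr)
      exact ⟨g, hg1, hg2⟩
    · rintro ⟨g, hg, rfl⟩
      intro h
      rw [mem_stabilizer_iff] at hg
      apply hpq
      have : g • q = g • p := by rw [h, hg]
      exact (MulAction.injective g this).symm)
  rw [h]
  congr 1
  have : ({r | r ≠ p} : Set α) = ((Finset.univ.erase p : Finset α) : Set α) := by
    ext r; simp
  rw [this, Set.ncard_coe_finset, Finset.card_erase_of_mem (Finset.mem_univ p), Finset.card_univ]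

end Cfsg.Agent.Lib.Helper1.StabCard
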