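import Mathlib
import Cfsg.Prelude.Def_LieClassical
import Cfsg.Prelude.Def_GeometricClasses
import Cfsg.Agent.Lib.Helper8.C6Pk3
import Cfsg.Agent.Lib.Helper2.HermDecomp
import Cfsg.Agent.Lib.Helper2.HermFrames
import Cfsg.Agent.Lib.Helper1.HermCount

set_option autoImplicit false
open scoped MatrixGroups

/-!
# PK-U5a of S6001 (helper9's `SU_4(p)` cluster): elements of order five of `GU_4(p)`, `p` of order
`4` modulo `5`, have no nonzero fixed vector.
-/

namespace Cfsg.Agent.Lib.C6PkU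

open Matrix Module Cfsg.Agent.Lib.Helper5.PSLCoset Cfsg.Agent.Lib.Helper2.HermDecomp
  Cfsg.Agent.Lib.Helper1.HermCount

section prep

variable {F : Type*} [Field F] [Fintype F] {p : ℕ}

/-- orbit counting for a map of order dividing five on a finite type -/
theorem u5a_card_modEq {S : Type*} [Finite S] (f : Function.End S) (hf : f ^ 5 = 1) :
    Nat.card S ≡ Nat.card ↑(Function.fixedPoints f) [MOD 5] := by
  classical
  have : Fintype S := Fintype.ofFinite S
  have : Fact (Nat.Prime 5) := ⟨by norm_num⟩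
  have hf5 : f ^ 5 ^ 1 = 1 := by rw [pow_one]; exact hf
  have key := Equiv.Perm.card_fixedPoints_modEq (p := 5) (n := 1) hf5
  rw [← Nat.card_eq_fintype_card, ← Nat.card_eq_fintype_card] at key
  exact key

theorem u5a_p_ne_five (h5 : orderOf (p : ZMod 5) = 4) : ¬ 5 ∣ p := by
  intro h
  have h0 : ((p : ℕ) : ZMod 5) = 0 := (ZMod.natCast_eq_zero_iff p 5).2 h
  rw [h0, orderOf_eq_zero_iff.2] at h5
  · omega
  · intro hfin
    obtain ⟨n, hn, hn1⟩ := hfin.exists_pow_eq_one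
    rw [zero_pow (by omega)] at hn1
    exact absurd hn1 (by decide)

theorem u5a_sq_not_one (h5 : orderOf (p : ZMod 5) = 4) : ¬ 5 ∣ p ^ 2 - 1 := by
  intro h
  have hp1 : 1 ≤ p ^ 2 := by
    rcases Nat.eq_zero_or_pos p with h0 | h0
    · exfalso
      apply u5a_p_ne_five h5
      rw [h0]
      exact dvd_zero 5
    · exact Nat.one_le_pow _ _ h0
  have h1 : ((p ^ 2 - 1 : ℕ) : ZMod 5) = 0 := (ZMod.natCast_eq_zero_iff _ 5).2 h
  rw [Nat.cast_sub hp1] at h1
  push_cast at h1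
  have h2 : (p : ZMod 5) ^ 2 = 1 := sub_eq_zero.1 h1
  have h3 := orderOf_dvd_of_pow_eq_one h2
  rw [h5] at h3
  omega

theorem u5a_fourth (h5 : orderOf (p : ZMod 5) = 4) : 5 ∣ p ^ 4 - 1 := by
  have hp1 : 1 ≤ p ^ 4 := by
    rcases Nat.eq_zero_or_pos p with h0 | h0
    · exfalso
      apply u5a_p_ne_five h5
      rw [h0]
      exact dvd_zero 5
    · exact Nat.one_le_pow _ _ h0
  apply (ZMod.natCast_eq_zero_iff _ 5).1
  rw [Nat.cast_sub hp1]
  push_cast
  rw [← h5, pow_orderOf_eq_one, sub_self]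

/-- `5` does not divide the number of vectors of norm one of a unitary plane -/
theorem u5a_cnt_two (hF : Fintype.card F = p ^ 2) (h5 : orderOf (p : ZMod 5) = 4) :
    ¬ 5 ∣ cnt F p 2 (1 : F) := by
  intro h
  have h1 := (closed_forms (F := F) hF 2).1
  have h2 : (p : ℤ) * (cnt F p 2 (1 : F) : ℤ) = (((p ^ 2 * (p ^ 2 - 1) : ℕ)) : ℤ) := by
    have hp1 : 1 ≤ p ^ 2 := by
      have := two_le_q hF
      nlinarith
    rw [h1]
    push_cast [Nat.cast_sub hp1]
    ring
  have h3 : p * cnt F p 2 (1 : F) = p ^ 2 * (p ^ 2 - 1) := by exact_mod_cast h2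
  have h4 : 5 ∣ p ^ 2 * (p ^ 2 - 1) := by
    rw [← h3]
    exact Dvd.dvd.mul_left h p
  have hpr : Nat.Prime 5 := by norm_num
  rcases (Nat.Prime.dvd_mul hpr).1 h4 with h6 | h6
  · exact u5a_p_ne_five h5 (Nat.Prime.dvd_of_dvd_pow hpr h6)
  · exact u5a_sq_not_one h5 h6

/-- `5` divides the number of vectors of norm one of a unitary space of dimension four -/
theorem u5a_cnt_four (hF : Fintype.card F = p ^ 2) (h5 : orderOf (p : ZMod 5) = 4) :
    5 ∣ cnt F p 4 (1 : F) := by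
  have h1 := (closed_forms (F := F) hF 4).1
  have h2 : (p : ℤ) * (cnt F p 4 (1 : F) : ℤ) = (((p ^ 4 * (p ^ 4 - 1) : ℕ)) : ℤ) := by
    have hp1 : 1 ≤ p ^ 4 := by
      have := two_le_q hF
      have h2 : 1 ≤ p := by omega
      exact Nat.one_le_pow _ _ h2
    rw [h1]
    push_cast [Nat.cast_sub hp1]
    ring
  have h3 : p * cnt F p 4 (1 : F) = p ^ 4 * (p ^ 4 - 1) := by exact_mod_cast h2
  have h4 : 5 ∣ p * cnt F p 4 (1 : F) := by
    rw [h3]
    exact Dvd.dvd.mul_left (u5a_fourth h5) _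
  have hpr : Nat.Prime 5 := by norm_num
  rcases (Nat.Prime.dvd_mul hpr).1 h4 with h6 | h6
  · exact absurd h6 (u5a_p_ne_five h5)
  · exact h6

end prep

section main

variable {F : Type*} [Field F] [Fintype F] {p : ℕ}

omit [Fintype F] in
theorem u5a_pow_pres {M : Matrix (Fin 4) (Fin 4) F}
    (hpres : ∀ u v, Cfsg.hermForm 4 F p (M *ᵥ u) (M *ᵥ v) = Cfsg.hermForm 4 F p u v) (i : ℕ)
    (a b : Fin 4 → F) :
    Cfsg.hermForm 4 F p ((M ^ i) *ᵥ a) ((M ^ i) *ᵥ b) = Cfsg.hermForm 4 F p a b := by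
  induction i with
  | zero => rw [pow_zero, Matrix.one_mulVec, Matrix.one_mulVec]
  | succ i ih =>
    rw [pow_succ', ← Matrix.mulVec_mulVec, ← Matrix.mulVec_mulVec, hpres, ih]

omit [Fintype F] in
theorem u5a_pow_fix {M : Matrix (Fin 4) (Fin 4) F} {u : Fin 4 → F} (hu : M *ᵥ u = u) (i : ℕ) :
    (M ^ i) *ᵥ u = u := by
  induction i with
  | zero => rw [pow_zero, Matrix.one_mulVec]
  | succ i ih => rw [pow_succ, ← Matrix.mulVec_mulVec, hu, ih]

omit [Fintype F] in
/-- the fixed space of a unitary matrix of order five is non-degenerate -/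
theorem u5a_nondeg {σ : F ≃+* F} (hH : IsHerm σ (Cfsg.hermForm 4 F p))
    (hnd : ∀ v, (∀ w, Cfsg.hermForm 4 F p v w = 0) → v = 0) (h50 : (5 : F) ≠ 0)
    {M : Matrix (Fin 4) (Fin 4) F} (hM5 : M ^ 5 = 1)
    (hpres : ∀ u v, Cfsg.hermForm 4 F p (M *ᵥ u) (M *ᵥ v) = Cfsg.hermForm 4 F p u v)
    (u : Fin 4 → F) (hu : M *ᵥ u = u)
    (hu0 : ∀ k : Fin 4 → F, M *ᵥ k = k → Cfsg.hermForm 4 F p u k = 0) : u = 0 := by
  apply hnd
  intro x
  have hMN : (M - 1) * (1 + M + M ^ 2 + M ^ 3 + M ^ 4) = 0 := by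
    have : (M - 1) * (1 + M + M ^ 2 + M ^ 3 + M ^ 4) = M ^ 5 - 1 := by noncomm_ring
    rw [this, hM5, sub_self]
  have h1 : M *ᵥ ((1 + M + M ^ 2 + M ^ 3 + M ^ 4) *ᵥ x) = (1 + M + M ^ 2 + M ^ 3 + M ^ 4) *ᵥ x := by
    have h2 : (M - 1) *ᵥ ((1 + M + M ^ 2 + M ^ 3 + M ^ 4) *ᵥ x) = 0 := by
      rw [Matrix.mulVec_mulVec, hMN, Matrix.zero_mulVec]
    rw [Matrix.sub_mulVec, Matrix.one_mulVec] at h2
    exact sub_eq_zero.1 h2
  have h3 := hu0 _ h1
  have h4 : ∀ i : ℕ, Cfsg.hermForm 4 F p u ((M ^ i) *ᵥ x) = Cfsg.hermForm 4 F p u x := by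
    intro i
    conv_lhs => rw [← u5a_pow_fix hu i]
    exact u5a_pow_pres hpres i u x
  rw [Matrix.add_mulVec, Matrix.add_mulVec, Matrix.add_mulVec, Matrix.add_mulVec, Matrix.one_mulVec,
    hH.add_right, hH.add_right, hH.add_right, hH.add_right, h4 2, h4 3, h4 4] at h3
  have h5 := h4 1
  rw [pow_one] at h5
  rw [h5] at h3
  have h6 : (5 : F) * Cfsg.hermForm 4 F p u x = 0 := by
    rw [← h3]; ring
  rcases mul_eq_zero.1 h6 with h7 | h7
  · exact absurd h7 h50
  · exact h7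

/-- the number of vectors of norm one of a plane with an orthonormal basis -/
theorem u5a_card_norm {σ : F ≃+* F} (hσq : ∀ a, σ a = a ^ p)
    (hH : IsHerm σ (Cfsg.hermForm 4 F p)) (K : Submodule F (Fin 4 → F)) (b : Basis (Fin 2) F K)
    (hb : ∀ i j, Cfsg.hermForm 4 F p (b i : Fin 4 → F) (b j : Fin 4 → F) = if i = j then 1 else 0) :
    Nat.card {u : K // Cfsg.hermForm 4 F p (u : Fin 4 → F) (u : Fin 4 → F) = 1} =
      cnt F p 2 (1 : F) := by
  rw [← natCard_eq_cnt 2 (1 : F)]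
  apply Nat.card_congr
  have hnorm : ∀ u : K, Cfsg.hermForm 4 F p (u : Fin 4 → F) (u : Fin 4 → F) =
      Cfsg.hermForm 2 F p (b.equivFun u) (b.equivFun u) := by
    intro u
    have h1 := form_eq_sum (isHerm_restrict hH K) b hb u u
    have h2 : Cfsg.hermForm 4 F p (u : Fin 4 → F) (u : Fin 4 → F) =
        ∑ i, b.repr u i * σ (b.repr u i) := h1
    rw [h2]
    show _ = ∑ i, b.equivFun u i * (b.equivFun u i) ^ p
    apply Finset.sum_congr rfl
    intro i _
    rw [hσq]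
    rfl
  exact
    { toFun := fun u => ⟨b.equivFun u.1, by rw [← hnorm]; exact u.2⟩
      invFun := fun x => ⟨b.equivFun.symm x.1, by
        rw [hnorm, LinearEquiv.apply_symm_apply]; exact x.2⟩
      left_inv := fun u => by
        apply Subtype.ext
        exact b.equivFun.symm_apply_apply u.1
      right_inv := fun x => by
        apply Subtype.ext
        exact b.equivFun.apply_symm_apply x.1 }

end main

section final

variable {F : Type*} [Field F] [Fintype F] {p : ℕ} [Fact p.Prime] [CharP F p]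

/-- **PK-U5a** elements of order five of `GU_4(p)`, `p` of order `4` modulo `5`, have no fixed
vector. -/
theorem gu4_order5_fpf (hF : Fintype.card F = p ^ 2) (h5 : orderOf (p : ZMod 5) = 4)
    (w : GL (Fin 4) F) (hwU : w ∈ Cfsg.GU 4 F p) (hw5 : w ^ 5 = 1) (hw1 : w ≠ 1) :
    (1 : Matrix (Fin 4) (Fin 4) F) + (w : Matrix (Fin 4) (Fin 4) F) +
      (w : Matrix (Fin 4) (Fin 4) F) ^ 2 + (w : Matrix (Fin 4) (Fin 4) F) ^ 3 +
      (w : Matrix (Fin 4) (Fin 4) F) ^ 4 = 0 := by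
  classical
  obtain ⟨σ, hσ, hσq, hH, hnd⟩ := Cfsg.Agent.Lib.Helper2.HermFrames.exists_data hF 4
  set M : Matrix (Fin 4) (Fin 4) F := (w : Matrix (Fin 4) (Fin 4) F) with hM
  have hM5 : M ^ 5 = 1 := by
    rw [hM, ← Units.val_pow_eq_pow_val, hw5, Units.val_one]
  have hM1 : M ≠ 1 := fun h => hw1 (Units.ext h)
  have hpres : ∀ u v, Cfsg.hermForm 4 F p (M *ᵥ u) (M *ᵥ v) = Cfsg.hermForm 4 F p u v :=
    fun u v => hwU u v
  have h50 : (5 : F) ≠ 0 := by
    intro h
    have h1 : ((5 : ℕ) : F) = 0 := by exact_mod_cast h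
    have h2 := (CharP.cast_eq_zero_iff F p 5).1 h1
    have h3 : p = 5 := (Nat.prime_dvd_prime_iff_eq (Fact.out) (by norm_num)).1 h2
    exact u5a_p_ne_five h5 (by rw [h3])
  have hMN : (M - 1) * (1 + M + M ^ 2 + M ^ 3 + M ^ 4) = 0 := by
    have : (M - 1) * (1 + M + M ^ 2 + M ^ 3 + M ^ 4) = M ^ 5 - 1 := by noncomm_ring
    rw [this, hM5, sub_self]
  set K := LinearMap.ker (Matrix.toLin' M - 1) with hK
  have hKmem : ∀ v, v ∈ K ↔ M *ᵥ v = v := by
    intro v
    rw [hK, LinearMap.mem_ker, LinearMap.sub_apply, Matrix.toLin'_apply, Module.End.one_apply,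
      sub_eq_zero]
  -- it suffices to show that the fixed space is trivial
  suffices hKbot : K = ⊥ by
    have hz : ∀ v, (1 + M + M ^ 2 + M ^ 3 + M ^ 4) *ᵥ v = 0 := by
      intro v
      have h1 : (1 + M + M ^ 2 + M ^ 3 + M ^ 4) *ᵥ v ∈ K := by
        rw [hKmem]
        have h2 : (M - 1) *ᵥ ((1 + M + M ^ 2 + M ^ 3 + M ^ 4) *ᵥ v) = 0 := by
          rw [Matrix.mulVec_mulVec, hMN, Matrix.zero_mulVec]
        rw [Matrix.sub_mulVec, Matrix.one_mulVec] at h2
        exact sub_eq_zero.1 h2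
      rw [hKbot, Submodule.mem_bot] at h1
      exact h1
    ext i j
    have h1 := congrFun (hz (Pi.single j 1)) i
    rw [Matrix.mulVec_single_one] at h1
    simpa using h1
  by_contra hKne
  -- the dimension of the fixed space is even
  have h1 := Cfsg.Agent.Lib.C6Pk.card_modEq_fix M hM5 ⊤ (fun _ _ => Submodule.mem_top)
  rw [top_inf_eq, Cfsg.Agent.Lib.C6Pk.natCard_submodule (p := p ^ 2) hF,
    Cfsg.Agent.Lib.C6Pk.natCard_submodule (p := p ^ 2) hF, finrank_top,
    Module.finrank_fintype_fun_eq_card, Fintype.card_fin] at h1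
  have hp8 : (p ^ 2) ^ 4 ≡ 1 [MOD 5] := by
    have h2 : (((p ^ 2) ^ 4 : ℕ) : ZMod 5) = ((1 : ℕ) : ZMod 5) := by
      push_cast
      rw [← pow_mul, show 2 * 4 = 4 * 2 by norm_num, pow_mul, ← h5, pow_orderOf_eq_one, one_pow]
    exact (ZMod.natCast_eq_natCast_iff _ _ 5).1 h2
  have h2 : p ^ (2 * finrank F ↥K) ≡ 1 [MOD 5] := by
    rw [pow_mul]
    exact h1.symm.trans hp8
  have h3 := Cfsg.Agent.Lib.C6Pk.four_dvd_of_pow_modEq h5 h2
  have hle : finrank F ↥K ≤ 4 := by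
    have := Submodule.finrank_le K
    rw [Module.finrank_fintype_fun_eq_card, Fintype.card_fin] at this
    exact this
  have hd0 : finrank F ↥K ≠ 0 := by
    intro h
    exact hKne (Submodule.finrank_eq_zero.1 h)
  have hd4 : finrank F ↥K ≠ 4 := by
    intro h
    have htop : K = ⊤ := by
      apply Submodule.eq_top_of_finrank_eq
      rw [h, Module.finrank_fintype_fun_eq_card, Fintype.card_fin]
    apply hM1
    ext i j
    have h4 : M *ᵥ (Pi.single j 1) = Pi.single j 1 := by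
      rw [← hKmem, htop]
      exact Submodule.mem_top
    have h6 := congrFun h4 i
    rw [Matrix.mulVec_single_one] at h6
    rw [Matrix.one_apply]
    simpa [Pi.single_apply] using h6
  have hd2 : finrank F ↥K = 2 := by
    obtain ⟨c, hc⟩ := h3
    omega
  -- the fixed space is a non-degenerate plane
  have hKnd : ∀ u : K, (∀ v : K, Cfsg.hermForm 4 F p (u : Fin 4 → F) (v : Fin 4 → F) = 0) →
      u = 0 := by
    intro u hu
    apply Subtype.ext
    exact u5a_nondeg hH hnd h50 hM5 hpres u.1 ((hKmem _).1 u.2)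
      (fun k hk => hu ⟨k, (hKmem k).2 hk⟩)
  obtain ⟨b, hb⟩ := exists_onb hσ (isHerm_restrict hH K) hKnd hd2
  have hcK := u5a_card_norm hσq hH K b hb
  -- the action on the vectors of norm one
  let S1 := {v : Fin 4 → F // Cfsg.hermForm 4 F p v v = 1}
  let f : Function.End S1 := fun v => ⟨M *ᵥ v.1, by rw [hpres]; exact v.2⟩
  have hpow : ∀ n : ℕ, ∀ v : S1, ((f ^ n) v : Fin 4 → F) = (M ^ n) *ᵥ v.1 := by
    intro n
    induction n with
    | zero =>
      intro v
      rw [pow_zero, pow_zero, Matrix.one_mulVec]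
      rfl
    | succ n ih =>
      intro v
      rw [pow_succ']
      show M *ᵥ ((f ^ n) v : Fin 4 → F) = _
      rw [ih v, Matrix.mulVec_mulVec, ← pow_succ']
  have hf5 : f ^ 5 = 1 := by
    funext v
    apply Subtype.ext
    rw [hpow 5 v, hM5, Matrix.one_mulVec]
    rfl
  have key := u5a_card_modEq f hf5
  have e1 : Nat.card S1 = cnt F p 4 (1 : F) := natCard_eq_cnt 4 (1 : F)
  have e2 : Nat.card ↑(Function.fixedPoints f) = cnt F p 2 (1 : F) := by
    rw [← hcK]
    apply Nat.card_congr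
    exact
      { toFun := fun v => ⟨⟨v.1.1, (hKmem _).2 (congrArg Subtype.val v.2)⟩, v.1.2⟩
        invFun := fun u => ⟨⟨u.1.1, u.2⟩, by
          rw [Function.mem_fixedPoints, Function.IsFixedPt]
          apply Subtype.ext
          exact (hKmem _).1 u.1.2⟩
        left_inv := fun v => rfl
        right_inv := fun u => rfl }
  rw [e1, e2] at key
  have h6 : 5 ∣ cnt F p 2 (1 : F) := by
    have h7 := u5a_cnt_four (F := F) hF h5
    have h8 : cnt F p 4 (1 : F) ≡ 0 [MOD 5] := (Nat.modEq_zero_iff_dvd).2 h7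
    exact (Nat.modEq_zero_iff_dvd).1 (key.symm.trans h8)
  exact u5a_cnt_two hF h5 h6

end final

end Cfsg.Agent.Lib.C6PkU
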