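import Mathlib
import Cfsg.Prelude
import Cfsg.Agent.Lib.Helper2.Symp4
import Cfsg.Agent.S0271

set_option autoImplicit false

namespace Cfsg.Agent.Lib.Helper1.SpBasic

open Cfsg.Agent.Lib.Helper2.Symp Matrix

variable {F : Type*} [Field F] {m : ℕ}

/-- bundled symplectic transvection. -/
def T (v : Fin m ⊕ Fin m → F) (c : F) : Matrix.symplecticGroup (Fin m) F :=
  ⟨Cfsg.sympTransvection m v c, sympTransvection_mem v c⟩

theorem T_coe (v : Fin m ⊕ Fin m → F) (c : F) :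
    ((T v c : Matrix.symplecticGroup (Fin m) F) : Matrix (Fin m ⊕ Fin m) (Fin m ⊕ Fin m) F) =
      Cfsg.sympTransvection m v c := rfl

theorem T_mulVec (v : Fin m ⊕ Fin m → F) (c : F) (x : Fin m ⊕ Fin m → F) :
    ((T v c : Matrix.symplecticGroup (Fin m) F) : Matrix (Fin m ⊕ Fin m) (Fin m ⊕ Fin m) F) *ᵥ x =
      x + (c * Cfsg.sympForm m F x v) • v := sympTransvection_mulVec v c x

theorem ext_mulVec {A B : Matrix.symplecticGroup (Fin m) F}
    (h : ∀ x, (A : Matrix (Fin m ⊕ Fin m) (Fin m ⊕ Fin m) F) *ᵥ x =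
      (B : Matrix (Fin m ⊕ Fin m) (Fin m ⊕ Fin m) F) *ᵥ x) : A = B :=
  Subtype.ext (Matrix.mulVec_injective (funext h))

theorem coe_mul_mulVec (A B : Matrix.symplecticGroup (Fin m) F) (x : Fin m ⊕ Fin m → F) :
    ((A * B : Matrix.symplecticGroup (Fin m) F) : Matrix (Fin m ⊕ Fin m) (Fin m ⊕ Fin m) F) *ᵥ x =
      (A : Matrix (Fin m ⊕ Fin m) (Fin m ⊕ Fin m) F) *ᵥ
        ((B : Matrix (Fin m ⊕ Fin m) (Fin m ⊕ Fin m) F) *ᵥ x) := by
  rw [Submonoid.coe_mul, Matrix.mulVec_mulVec]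

theorem coe_one_mulVec (x : Fin m ⊕ Fin m → F) :
    ((1 : Matrix.symplecticGroup (Fin m) F) : Matrix (Fin m ⊕ Fin m) (Fin m ⊕ Fin m) F) *ᵥ x = x := by
  rw [Submonoid.coe_one, Matrix.one_mulVec]

theorem inv_mulVec_mulVec (A : Matrix.symplecticGroup (Fin m) F) (x : Fin m ⊕ Fin m → F) :
    ((A⁻¹ : Matrix.symplecticGroup (Fin m) F) : Matrix (Fin m ⊕ Fin m) (Fin m ⊕ Fin m) F) *ᵥ
      ((A : Matrix (Fin m ⊕ Fin m) (Fin m ⊕ Fin m) F) *ᵥ x) = x := by
  rw [← coe_mul_mulVec, inv_mul_cancel, coe_one_mulVec]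

theorem mulVec_inv_mulVec (A : Matrix.symplecticGroup (Fin m) F) (x : Fin m ⊕ Fin m → F) :
    (A : Matrix (Fin m ⊕ Fin m) (Fin m ⊕ Fin m) F) *ᵥ
      (((A⁻¹ : Matrix.symplecticGroup (Fin m) F) : Matrix (Fin m ⊕ Fin m) (Fin m ⊕ Fin m) F) *ᵥ x)
        = x := by
  rw [← coe_mul_mulVec, mul_inv_cancel, coe_one_mulVec]

theorem form_mulVec (A : Matrix.symplecticGroup (Fin m) F) (x y : Fin m ⊕ Fin m → F) :
    Cfsg.sympForm m F ((A : Matrix (Fin m ⊕ Fin m) (Fin m ⊕ Fin m) F) *ᵥ x)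
      ((A : Matrix (Fin m ⊕ Fin m) (Fin m ⊕ Fin m) F) *ᵥ y) = Cfsg.sympForm m F x y :=
  sympForm_mulVec A.1 A.2 x y

theorem form_inv_mulVec (A : Matrix.symplecticGroup (Fin m) F) (x y : Fin m ⊕ Fin m → F) :
    Cfsg.sympForm m F
      (((A⁻¹ : Matrix.symplecticGroup (Fin m) F) : Matrix (Fin m ⊕ Fin m) (Fin m ⊕ Fin m) F) *ᵥ x) y =
      Cfsg.sympForm m F x ((A : Matrix (Fin m ⊕ Fin m) (Fin m ⊕ Fin m) F) *ᵥ y) := by
  rw [← form_mulVec A, mulVec_inv_mulVec]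

/-- conjugating a transvection. -/
theorem conj_T (A : Matrix.symplecticGroup (Fin m) F) (v : Fin m ⊕ Fin m → F) (c : F) :
    A * T v c * A⁻¹ = T ((A : Matrix (Fin m ⊕ Fin m) (Fin m ⊕ Fin m) F) *ᵥ v) c := by
  apply ext_mulVec
  intro x
  rw [coe_mul_mulVec, coe_mul_mulVec, T_mulVec, T_mulVec, Matrix.mulVec_add, mulVec_inv_mulVec,
    Matrix.mulVec_smul, form_inv_mulVec]

theorem T_add (v : Fin m ⊕ Fin m → F) (c d : F) : T v c * T v d = T v (c + d) :=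
  Subtype.ext (sympTransvection_mul v c d)

theorem T_zero (v : Fin m ⊕ Fin m → F) : T v (0 : F) = 1 := by
  apply ext_mulVec
  intro x
  rw [T_mulVec, coe_one_mulVec, zero_mul, zero_smul, add_zero]

theorem T_zero_left (c : F) : T (0 : Fin m ⊕ Fin m → F) c = 1 := by
  apply ext_mulVec
  intro x
  rw [T_mulVec, coe_one_mulVec, smul_zero, add_zero]

theorem T_inv (v : Fin m ⊕ Fin m → F) (c : F) : (T v c)⁻¹ = T v (-c) := by
  rw [inv_eq_iff_mul_eq_one, T_add, add_neg_cancel, T_zero]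

theorem T_smul (a : F) (v : Fin m ⊕ Fin m → F) (c : F) : T (a • v) c = T v (a * a * c) := by
  apply ext_mulVec
  intro x
  rw [T_mulVec, T_mulVec, sympForm_smul_right, smul_smul]
  congr 2
  ring

/-- product of two transvections along orthogonal vectors. -/
theorem T_mul_T_mulVec (u w : Fin m ⊕ Fin m → F) (huw : Cfsg.sympForm m F u w = 0) (a b : F)
    (x : Fin m ⊕ Fin m → F) :
    ((T u a * T w b : Matrix.symplecticGroup (Fin m) F) :
        Matrix (Fin m ⊕ Fin m) (Fin m ⊕ Fin m) F) *ᵥ x =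
      x + (a * Cfsg.sympForm m F x u) • u + (b * Cfsg.sympForm m F x w) • w := by
  have hwu : Cfsg.sympForm m F w u = 0 := by rw [sympForm_swap, huw, neg_zero]
  rw [coe_mul_mulVec, T_mulVec, T_mulVec, sympForm_add_left, sympForm_smul_left, hwu, mul_zero,
    add_zero]
  abel

end Cfsg.Agent.Lib.Helper1.SpBasic
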