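import Mathlib
import Cfsg.Prelude
import Cfsg.Agent.Lib.Helper1.SpBasic

set_option autoImplicit false
set_option linter.unusedSectionVars false

namespace Cfsg.Agent.Lib.Helper1.SpCard

open Cfsg.Agent.Lib.Helper1.SpBasic Cfsg.Agent.Lib.Helper2.Symp Matrix

variable {F : Type*} [Field F] {m : ℕ}

/-- membership in the symplectic group via the form. -/
theorem mem_symplectic_iff_form (A : Matrix (Fin m ⊕ Fin m) (Fin m ⊕ Fin m) F) :
    A ∈ Matrix.symplecticGroup (Fin m) F ↔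
      ∀ x y, Cfsg.sympForm m F (A *ᵥ x) (A *ᵥ y) = Cfsg.sympForm m F x y := by
  constructor
  · intro hA x y
    exact sympForm_mulVec A hA x y
  · intro h
    rw [SymplecticGroup.mem_iff']
    ext i j
    have h1 := h (Pi.single i 1) (Pi.single j 1)
    unfold Cfsg.sympForm at h1
    rw [Matrix.mulVec_mulVec, Matrix.dotProduct_mulVec, Matrix.vecMul_mulVec,
      ← Matrix.dotProduct_mulVec] at h1
    simp only [Matrix.mulVec_single_one, single_one_dotProduct, Matrix.col_apply] at h1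
    rw [Matrix.mul_assoc]
    exact h1

/-- restriction to the last `2m` coordinates. -/
def res (x : Fin (m + 1) ⊕ Fin (m + 1) → F) : Fin m ⊕ Fin m → F :=
  fun i => x (Sum.map Fin.succ Fin.succ i)

/-- extension by two coordinates. -/
def ext0 (a b : F) (y : Fin m ⊕ Fin m → F) : Fin (m + 1) ⊕ Fin (m + 1) → F :=
  Sum.elim (Fin.cons a (fun i => y (Sum.inl i))) (Fin.cons b (fun i => y (Sum.inr i)))

@[simp] theorem ext0_inl_zero (a b : F) (y : Fin m ⊕ Fin m → F) : ext0 a b y (Sum.inl 0) = a := rfl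
@[simp] theorem ext0_inr_zero (a b : F) (y : Fin m ⊕ Fin m → F) : ext0 a b y (Sum.inr 0) = b := rfl
@[simp] theorem ext0_inl_succ (a b : F) (y : Fin m ⊕ Fin m → F) (i : Fin m) :
    ext0 a b y (Sum.inl i.succ) = y (Sum.inl i) := by simp [ext0]
@[simp] theorem ext0_inr_succ (a b : F) (y : Fin m ⊕ Fin m → F) (i : Fin m) :
    ext0 a b y (Sum.inr i.succ) = y (Sum.inr i) := by simp [ext0]

@[simp] theorem res_ext0 (a b : F) (y : Fin m ⊕ Fin m → F) : res (ext0 a b y) = y := by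
  funext i
  rcases i with i | i <;> simp [res]

theorem ext0_res (x : Fin (m + 1) ⊕ Fin (m + 1) → F) :
    ext0 (x (Sum.inl 0)) (x (Sum.inr 0)) (res x) = x := by
  funext i
  rcases i with i | i
  · refine Fin.cases ?_ (fun k => ?_) i
    · rfl
    · simp [res]
  · refine Fin.cases ?_ (fun k => ?_) i
    · rfl
    · simp [res]

theorem ext0_add (a b a' b' : F) (y y' : Fin m ⊕ Fin m → F) :
    ext0 (a + a') (b + b') (y + y') = ext0 a b y + ext0 a' b' y' := by
  funext i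
  rcases i with i | i
  · refine Fin.cases ?_ (fun k => ?_) i <;> simp
  · refine Fin.cases ?_ (fun k => ?_) i <;> simp

theorem ext0_smul (c a b : F) (y : Fin m ⊕ Fin m → F) :
    ext0 (c * a) (c * b) (c • y) = c • ext0 a b y := by
  funext i
  rcases i with i | i
  · refine Fin.cases ?_ (fun k => ?_) i <;> simp
  · refine Fin.cases ?_ (fun k => ?_) i <;> simp

theorem res_add (x y : Fin (m + 1) ⊕ Fin (m + 1) → F) : res (x + y) = res x + res y := rfl

theorem res_smul (c : F) (x : Fin (m + 1) ⊕ Fin (m + 1) → F) : res (c • x) = c • res x := rfl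

/-- the form splits off the first hyperbolic plane. -/
theorem form_succ (x y : Fin (m + 1) ⊕ Fin (m + 1) → F) :
    Cfsg.sympForm (m + 1) F x y =
      (x (Sum.inr 0) * y (Sum.inl 0) - x (Sum.inl 0) * y (Sum.inr 0)) +
        Cfsg.sympForm m F (res x) (res y) := by
  unfold Cfsg.sympForm
  rw [dotProduct, dotProduct, Fintype.sum_sum_type, Fintype.sum_sum_type]
  simp only [J_mulVec_apply_inl, J_mulVec_apply_inr]
  rw [Fin.sum_univ_succ, Fin.sum_univ_succ]
  simp only [res, Sum.map_inl, Sum.map_inr]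
  ring

/-- the linear map extending `A` by the identity on the first hyperbolic plane. -/
def embLin (A : Matrix (Fin m ⊕ Fin m) (Fin m ⊕ Fin m) F) :
    (Fin (m + 1) ⊕ Fin (m + 1) → F) →ₗ[F] (Fin (m + 1) ⊕ Fin (m + 1) → F) where
  toFun x := ext0 (x (Sum.inl 0)) (x (Sum.inr 0)) (A *ᵥ res x)
  map_add' x y := by
    rw [res_add, Matrix.mulVec_add, Pi.add_apply, Pi.add_apply, ext0_add]
  map_smul' c x := by
    rw [res_smul, Matrix.mulVec_smul, Pi.smul_apply, Pi.smul_apply, smul_eq_mul, smul_eq_mul,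
      ext0_smul, RingHom.id_apply]

/-- the embedding of matrices. -/
noncomputable def emb (A : Matrix (Fin m ⊕ Fin m) (Fin m ⊕ Fin m) F) :
    Matrix (Fin (m + 1) ⊕ Fin (m + 1)) (Fin (m + 1) ⊕ Fin (m + 1)) F :=
  LinearMap.toMatrix' (embLin A)

theorem emb_mulVec (A : Matrix (Fin m ⊕ Fin m) (Fin m ⊕ Fin m) F)
    (x : Fin (m + 1) ⊕ Fin (m + 1) → F) :
    emb A *ᵥ x = ext0 (x (Sum.inl 0)) (x (Sum.inr 0)) (A *ᵥ res x) := by
  unfold emb
  rw [LinearMap.toMatrix'_mulVec]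
  rfl

theorem emb_mem (A : Matrix (Fin m ⊕ Fin m) (Fin m ⊕ Fin m) F)
    (hA : A ∈ Matrix.symplecticGroup (Fin m) F) :
    emb A ∈ Matrix.symplecticGroup (Fin (m + 1)) F := by
  rw [mem_symplectic_iff_form]
  intro x y
  rw [form_succ, emb_mulVec, emb_mulVec, res_ext0, res_ext0, sympForm_mulVec A hA, form_succ]
  simp

/-- the first basis vectors. -/
def e₀ : Fin (m + 1) ⊕ Fin (m + 1) → F := ext0 1 0 0
def f₀ : Fin (m + 1) ⊕ Fin (m + 1) → F := ext0 0 1 0

theorem form_f₀_e₀ : Cfsg.sympForm (m + 1) F (f₀ : Fin (m + 1) ⊕ Fin (m + 1) → F) e₀ = 1 := by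
  rw [form_succ]
  simp [e₀, f₀, sympForm_self]

theorem form_e₀ (x : Fin (m + 1) ⊕ Fin (m + 1) → F) :
    Cfsg.sympForm (m + 1) F x e₀ = x (Sum.inr 0) := by
  rw [form_succ]
  have : Cfsg.sympForm m F (res x) (0 : Fin m ⊕ Fin m → F) = 0 := by
    rw [← zero_smul F (0 : Fin m ⊕ Fin m → F), sympForm_smul_right, zero_mul]
  simp [e₀, this]

theorem form_f₀ (x : Fin (m + 1) ⊕ Fin (m + 1) → F) :
    Cfsg.sympForm (m + 1) F x f₀ = - x (Sum.inl 0) := by
  rw [form_succ]
  have : Cfsg.sympForm m F (res x) (0 : Fin m ⊕ Fin m → F) = 0 := by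
    rw [← zero_smul F (0 : Fin m ⊕ Fin m → F), sympForm_smul_right, zero_mul]
  simp [f₀, this]

theorem emb_e₀ (A : Matrix (Fin m ⊕ Fin m) (Fin m ⊕ Fin m) F) : emb A *ᵥ e₀ = e₀ := by
  rw [emb_mulVec]
  simp [e₀]

theorem emb_f₀ (A : Matrix (Fin m ⊕ Fin m) (Fin m ⊕ Fin m) F) : emb A *ᵥ f₀ = f₀ := by
  rw [emb_mulVec]
  simp [f₀]

theorem emb_injective : Function.Injective (emb : Matrix (Fin m ⊕ Fin m) (Fin m ⊕ Fin m) F → _) := by
  intro A B h
  apply Matrix.mulVec_injective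
  funext y
  have h1 := congrArg (fun M => res (M *ᵥ ext0 0 0 y)) h
  simp only [emb_mulVec, res_ext0] at h1
  exact h1

/-- the linear map cutting out the lower block. -/
def cutLin (g : Matrix (Fin (m + 1) ⊕ Fin (m + 1)) (Fin (m + 1) ⊕ Fin (m + 1)) F) :
    (Fin m ⊕ Fin m → F) →ₗ[F] (Fin m ⊕ Fin m → F) where
  toFun y := res (g *ᵥ ext0 0 0 y)
  map_add' y y' := by
    have : ext0 (0 : F) 0 (y + y') = ext0 0 0 y + ext0 0 0 y' := by
      rw [← ext0_add, add_zero]
    rw [this, Matrix.mulVec_add, res_add]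
  map_smul' c y := by
    have : ext0 (0 : F) 0 (c • y) = c • ext0 0 0 y := by
      rw [← ext0_smul, mul_zero]
    rw [this, Matrix.mulVec_smul, res_smul, RingHom.id_apply]

noncomputable def cut (g : Matrix (Fin (m + 1) ⊕ Fin (m + 1)) (Fin (m + 1) ⊕ Fin (m + 1)) F) :
    Matrix (Fin m ⊕ Fin m) (Fin m ⊕ Fin m) F :=
  LinearMap.toMatrix' (cutLin g)

theorem cut_mulVec (g : Matrix (Fin (m + 1) ⊕ Fin (m + 1)) (Fin (m + 1) ⊕ Fin (m + 1)) F)
    (y : Fin m ⊕ Fin m → F) : cut g *ᵥ y = res (g *ᵥ ext0 0 0 y) := by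
  unfold cut
  rw [LinearMap.toMatrix'_mulVec]
  rfl

theorem decomp (x : Fin (m + 1) ⊕ Fin (m + 1) → F) :
    x = x (Sum.inl 0) • e₀ + x (Sum.inr 0) • f₀ + ext0 0 0 (res x) := by
  conv_lhs => rw [← ext0_res x]
  unfold e₀ f₀
  rw [← ext0_smul, ← ext0_smul, ← ext0_add, ← ext0_add]
  simp

/-- elements of the stabilizer of the first hyperbolic pair are embedded matrices. -/
theorem eq_emb_cut (g : Matrix (Fin (m + 1) ⊕ Fin (m + 1)) (Fin (m + 1) ⊕ Fin (m + 1)) F)
    (hg : g ∈ Matrix.symplecticGroup (Fin (m + 1)) F) (he : g *ᵥ e₀ = e₀) (hf : g *ᵥ f₀ = f₀) :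
    cut g ∈ Matrix.symplecticGroup (Fin m) F ∧ g = emb (cut g) := by
  have hz : ∀ z : Fin (m + 1) ⊕ Fin (m + 1) → F, z (Sum.inl 0) = 0 → z (Sum.inr 0) = 0 →
      (g *ᵥ z) (Sum.inl 0) = 0 ∧ (g *ᵥ z) (Sum.inr 0) = 0 := by
    intro z h1 h2
    constructor
    · have := sympForm_mulVec g hg z f₀
      rw [hf, form_f₀, form_f₀, h1] at this
      simpa using this
    · have := sympForm_mulVec g hg z e₀
      rw [he, form_e₀, form_e₀, h2] at this
      exact this
  constructor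
  · rw [mem_symplectic_iff_form]
    intro y y'
    rw [cut_mulVec, cut_mulVec]
    have h1 := sympForm_mulVec g hg (ext0 0 0 y) (ext0 0 0 y')
    rw [form_succ, form_succ] at h1
    obtain ⟨a1, a2⟩ := hz (ext0 0 0 y) rfl rfl
    obtain ⟨b1, b2⟩ := hz (ext0 0 0 y') rfl rfl
    rw [a1, a2, b1, b2] at h1
    simpa using h1
  · apply Matrix.mulVec_injective
    funext x
    rw [emb_mulVec, cut_mulVec]
    conv_lhs => rw [decomp x]
    rw [Matrix.mulVec_add, Matrix.mulVec_add, Matrix.mulVec_smul, Matrix.mulVec_smul, he, hf]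
    obtain ⟨a1, a2⟩ := hz (ext0 0 0 (res x)) rfl rfl
    have h2 : g *ᵥ ext0 0 0 (res x) = ext0 0 0 (res (g *ᵥ ext0 0 0 (res x))) := by
      conv_lhs => rw [← ext0_res (g *ᵥ ext0 0 0 (res x)), a1, a2]
    rw [h2]
    unfold e₀ f₀
    rw [← ext0_smul, ← ext0_smul, ← ext0_add, ← ext0_add]
    simp

/-- the action on pairs of vectors. -/
@[reducible] def pairAction (m : ℕ) (F : Type*) [Field F] : MulAction (Matrix.symplecticGroup (Fin m) F)
    ((Fin m ⊕ Fin m → F) × (Fin m ⊕ Fin m → F)) where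
  smul g p := ((g : Matrix (Fin m ⊕ Fin m) (Fin m ⊕ Fin m) F) *ᵥ p.1,
    (g : Matrix (Fin m ⊕ Fin m) (Fin m ⊕ Fin m) F) *ᵥ p.2)
  one_smul p := by
    change (((1 : Matrix.symplecticGroup (Fin m) F) : Matrix (Fin m ⊕ Fin m) (Fin m ⊕ Fin m) F) *ᵥ p.1,
      ((1 : Matrix.symplecticGroup (Fin m) F) : Matrix (Fin m ⊕ Fin m) (Fin m ⊕ Fin m) F) *ᵥ p.2) = p
    rw [coe_one_mulVec, coe_one_mulVec]
  mul_smul g h p := by
    change (((g * h : Matrix.symplecticGroup (Fin m) F) :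
        Matrix (Fin m ⊕ Fin m) (Fin m ⊕ Fin m) F) *ᵥ p.1,
      ((g * h : Matrix.symplecticGroup (Fin m) F) :
        Matrix (Fin m ⊕ Fin m) (Fin m ⊕ Fin m) F) *ᵥ p.2) =
      ((g : Matrix (Fin m ⊕ Fin m) (Fin m ⊕ Fin m) F) *ᵥ
        ((h : Matrix (Fin m ⊕ Fin m) (Fin m ⊕ Fin m) F) *ᵥ p.1),
       (g : Matrix (Fin m ⊕ Fin m) (Fin m ⊕ Fin m) F) *ᵥ
        ((h : Matrix (Fin m ⊕ Fin m) (Fin m ⊕ Fin m) F) *ᵥ p.2))
    rw [coe_mul_mulVec, coe_mul_mulVec]

attribute [local instance] pairAction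

theorem pair_smul_def (g : Matrix.symplecticGroup (Fin m) F)
    (p : (Fin m ⊕ Fin m → F) × (Fin m ⊕ Fin m → F)) :
    g • p = ((g : Matrix (Fin m ⊕ Fin m) (Fin m ⊕ Fin m) F) *ᵥ p.1,
      (g : Matrix (Fin m ⊕ Fin m) (Fin m ⊕ Fin m) F) *ᵥ p.2) := rfl

/-- the orbit of the first hyperbolic pair is the set of hyperbolic pairs. -/
theorem orbit_eq :
    MulAction.orbit (Matrix.symplecticGroup (Fin (m + 1)) F)
      ((f₀, e₀) : (Fin (m + 1) ⊕ Fin (m + 1) → F) × (Fin (m + 1) ⊕ Fin (m + 1) → F)) =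
      {p | Cfsg.sympForm (m + 1) F p.1 p.2 = 1} := by
  ext p
  constructor
  · rintro ⟨g, rfl⟩
    change Cfsg.sympForm (m + 1) F (g • ((f₀, e₀) :
      (Fin (m + 1) ⊕ Fin (m + 1) → F) × (Fin (m + 1) ⊕ Fin (m + 1) → F))).1
      (g • ((f₀, e₀) :
      (Fin (m + 1) ⊕ Fin (m + 1) → F) × (Fin (m + 1) ⊕ Fin (m + 1) → F))).2 = 1
    rw [pair_smul_def, form_mulVec, form_f₀_e₀]
  · intro hp
    obtain ⟨A, -, h1, h2⟩ := transitive_on_hyperbolic_pairs f₀ e₀ p.1 p.2 form_f₀_e₀ hp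
    refine ⟨A, ?_⟩
    change A • ((f₀, e₀) : (Fin (m + 1) ⊕ Fin (m + 1) → F) × (Fin (m + 1) ⊕ Fin (m + 1) → F)) = p
    rw [pair_smul_def, h1, h2]

/-- the stabilizer of the first hyperbolic pair has the order of the smaller group. -/
theorem card_stabilizer :
    Nat.card (MulAction.stabilizer (Matrix.symplecticGroup (Fin (m + 1)) F)
      ((f₀, e₀) : (Fin (m + 1) ⊕ Fin (m + 1) → F) × (Fin (m + 1) ⊕ Fin (m + 1) → F))) =
      Nat.card (Matrix.symplecticGroup (Fin m) F) := by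
  symm
  apply Nat.card_congr
  refine Equiv.ofBijective (fun A => ⟨⟨emb A.1, emb_mem A.1 A.2⟩, ?_⟩) ⟨?_, ?_⟩
  · rw [MulAction.mem_stabilizer_iff, pair_smul_def]
    change (emb A.1 *ᵥ f₀, emb A.1 *ᵥ e₀) = _
    rw [emb_f₀, emb_e₀]
  · intro A B h
    have h1 : emb A.1 = emb B.1 := congrArg (fun z => z.1.1) h
    exact Subtype.ext (emb_injective h1)
  · rintro ⟨g, hg⟩
    rw [MulAction.mem_stabilizer_iff, pair_smul_def] at hg
    have hf : (g : Matrix (Fin (m + 1) ⊕ Fin (m + 1)) (Fin (m + 1) ⊕ Fin (m + 1)) F) *ᵥ f₀ = f₀ :=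
      congrArg Prod.fst hg
    have he : (g : Matrix (Fin (m + 1) ⊕ Fin (m + 1)) (Fin (m + 1) ⊕ Fin (m + 1)) F) *ᵥ e₀ = e₀ :=
      congrArg Prod.snd hg
    obtain ⟨h1, h2⟩ := eq_emb_cut g.1 g.2 he hf
    refine ⟨⟨cut g.1, h1⟩, ?_⟩
    apply Subtype.ext
    apply Subtype.ext
    exact h2.symm

section count
variable [Fintype F]

open scoped Classical in
/-- the number of partners of a nonzero vector. -/
theorem card_partners (u : Fin m ⊕ Fin m → F) (hu : u ≠ 0) :
    (Finset.univ.filter (fun v : Fin m ⊕ Fin m → F => Cfsg.sympForm m F u v = 1)).card *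
      Fintype.card F = Fintype.card F ^ (m + m) := by
  obtain ⟨p, hp⟩ := Cfsg.Agent.S0271.exists_partner m u hu
  have hfib : ∀ c : F,
      (Finset.univ.filter (fun v : Fin m ⊕ Fin m → F => Cfsg.sympForm m F u v = c)).card =
      (Finset.univ.filter (fun v : Fin m ⊕ Fin m → F => Cfsg.sympForm m F u v = 1)).card := by
    intro c
    apply Finset.card_nbij' (fun v => v + (1 - c) • p) (fun v => v - (1 - c) • p)
    · intro v hv
      simp only [Finset.coe_filter, Finset.mem_univ, true_and, Set.mem_ofPred_eq] at hv ⊢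
      rw [sympForm_add_right, sympForm_smul_right, hv, hp]; ring
    · intro v hv
      simp only [Finset.coe_filter, Finset.mem_univ, true_and, Set.mem_ofPred_eq] at hv ⊢
      rw [sympForm_sub_right, sympForm_smul_right, hv, hp]; ring
    · intro v _; simp
    · intro v _; simp
  have hmaps : ((Finset.univ : Finset (Fin m ⊕ Fin m → F)) : Set _).MapsTo
      (fun v => Cfsg.sympForm m F u v) (Finset.univ : Finset F) :=
    fun _ _ => Finset.mem_coe.mpr (Finset.mem_univ _)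
  have h := Finset.card_eq_sum_card_fiberwise hmaps
  rw [Finset.card_univ, Fintype.card_fun, Fintype.card_sum, Fintype.card_fin] at h
  rw [h]
  have : ∀ c ∈ (Finset.univ : Finset F),
      (Finset.univ.filter (fun v : Fin m ⊕ Fin m → F => Cfsg.sympForm m F u v = c)).card =
      (Finset.univ.filter (fun v : Fin m ⊕ Fin m → F => Cfsg.sympForm m F u v = 1)).card :=
    fun c _ => hfib c
  rw [Finset.sum_congr rfl this, Finset.sum_const, smul_eq_mul, Finset.card_univ, mul_comm]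

open scoped Classical in
/-- the number of hyperbolic pairs. -/
theorem card_pairs :
    Nat.card {p : (Fin m ⊕ Fin m → F) × (Fin m ⊕ Fin m → F) // Cfsg.sympForm m F p.1 p.2 = 1} *
      Fintype.card F = (Fintype.card F ^ (m + m) - 1) * Fintype.card F ^ (m + m) := by
  rw [Nat.card_eq_fintype_card, Fintype.card_subtype, Finset.card_filter, Fintype.sum_prod_type]
  simp only [← Finset.card_filter]
  rw [Finset.sum_mul]
  rw [← Finset.add_sum_erase Finset.univ _ (Finset.mem_univ (0 : Fin m ⊕ Fin m → F))]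
  have h0 : (Finset.univ.filter (fun v : Fin m ⊕ Fin m → F =>
      Cfsg.sympForm m F (0 : Fin m ⊕ Fin m → F) v = 1)).card = 0 := by
    rw [Finset.card_eq_zero, Finset.filter_eq_empty_iff]
    intro v _
    rw [← zero_smul F (0 : Fin m ⊕ Fin m → F), sympForm_smul_left, zero_mul]
    exact zero_ne_one
  rw [h0, zero_mul, zero_add]
  have : ∀ u ∈ Finset.univ.erase (0 : Fin m ⊕ Fin m → F),
      (Finset.univ.filter (fun v : Fin m ⊕ Fin m → F => Cfsg.sympForm m F u v = 1)).card *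
        Fintype.card F = Fintype.card F ^ (m + m) := by
    intro u hu
    exact card_partners u (Finset.ne_of_mem_erase hu)
  rw [Finset.sum_congr rfl this, Finset.sum_const, smul_eq_mul,
    Finset.card_erase_of_mem (Finset.mem_univ _), Finset.card_univ, Fintype.card_fun,
    Fintype.card_sum, Fintype.card_fin]

/-- the recursion for the order of the symplectic group. -/
theorem card_succ :
    Nat.card (Matrix.symplecticGroup (Fin (m + 1)) F) * Fintype.card F =
      (Fintype.card F ^ (m + 1 + (m + 1)) - 1) * Fintype.card F ^ (m + 1 + (m + 1)) *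
        Nat.card (Matrix.symplecticGroup (Fin m) F) := by
  have h1 := Subgroup.index_mul_card (MulAction.stabilizer (Matrix.symplecticGroup (Fin (m + 1)) F)
    ((f₀, e₀) : (Fin (m + 1) ⊕ Fin (m + 1) → F) × (Fin (m + 1) ⊕ Fin (m + 1) → F)))
  rw [MulAction.index_stabilizer, orbit_eq, card_stabilizer, ← Nat.card_coe_set_eq] at h1
  rw [← h1]
  have h2 := card_pairs (m := m + 1) (F := F)
  calc Nat.card ↑{p : (Fin (m + 1) ⊕ Fin (m + 1) → F) × (Fin (m + 1) ⊕ Fin (m + 1) → F) |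
        Cfsg.sympForm (m + 1) F p.1 p.2 = 1} * Nat.card (Matrix.symplecticGroup (Fin m) F) *
        Fintype.card F
      = (Nat.card {p : (Fin (m + 1) ⊕ Fin (m + 1) → F) × (Fin (m + 1) ⊕ Fin (m + 1) → F) //
        Cfsg.sympForm (m + 1) F p.1 p.2 = 1} * Fintype.card F) *
        Nat.card (Matrix.symplecticGroup (Fin m) F) := by
          rw [mul_assoc, mul_comm (Nat.card _) (Fintype.card F), ← mul_assoc]; rfl
    _ = _ := by rw [h2]

end count

end Cfsg.Agent.Lib.Helper1.SpCard
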