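import Cfsg.Agent.Lib.Helper2.CN3
import Cfsg.Agent.Lib.Helper2.SpTorus

set_option linter.unusedSectionVars false
set_option linter.unusedVariables false
set_option linter.unusedSimpArgs false

namespace Cfsg.Agent.Lib.Helper2.CM

open Matrix Cfsg.Agent.Lib.Helper2.CN Cfsg.Agent.Lib.Helper5.Stb

abbrev Idx (m : ℕ) := Fin m ⊕ Fin m

/-- the signs of the alternating form on the standard hyperbolic pairs -/
def eps (m : ℕ) (K : Type*) [Field K] : Idx m → K := Sum.elim (fun _ => -1) (fun _ => 1)

variable {m : ℕ} {K : Type*} [Field K]

theorem eps_swap (k : Idx m) : eps m K k.swap = - eps m K k := by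
  rcases k with a | a <;> simp [eps]

theorem eps_sq (k : Idx m) : eps m K k * eps m K k = 1 := by
  rcases k with a | a <;> simp [eps]

theorem swap_ne (k : Idx m) : k.swap ≠ k := by
  rcases k with a | a <;> simp

/-- the root elements as matrices -/
def yMat (k l : Idx m) (t : K) : Matrix (Idx m) (Idx m) K :=
  if k = l then 1 else if l = k.swap then 1 + t • Matrix.single k l (1 : K)
  else 1 + t • (Matrix.single k l (1 : K) -
    (eps m K k * eps m K l) • Matrix.single l.swap k.swap (1 : K))

/-- the action of the root elements on vectors -/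
def act (k l : Idx m) (t : K) (x : Idx m → K) : Idx m → K := fun i =>
  if k = l then x i
  else if l = k.swap then x i + (if i = k then t * x l else 0)
  else x i + (if i = k then t * x l else 0) -
    (if i = l.swap then eps m K k * eps m K l * t * x k.swap else 0)

theorem single_mulVec_apply (a b : Idx m) (x : Idx m → K) (i : Idx m) :
    (Matrix.single a b (1 : K) *ᵥ x) i = if i = a then x b else 0 := by
  simp only [Matrix.mulVec, dotProduct, Matrix.single_apply]
  by_cases h : i = a
  · subst h
    simp
  · have : ¬ a = i := fun e => h e.symm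
    simp [h, this]

theorem yMat_mulVec (k l : Idx m) (t : K) (x : Idx m → K) :
    yMat k l t *ᵥ x = act k l t x := by
  funext i
  unfold yMat act
  by_cases h1 : k = l
  · simp only [if_pos h1, Matrix.one_mulVec]
  · simp only [if_neg h1]
    by_cases h2 : l = k.swap
    · simp only [if_pos h2, Matrix.add_mulVec, Matrix.one_mulVec, Matrix.smul_mulVec, Pi.add_apply,
        Pi.smul_apply, single_mulVec_apply, smul_eq_mul]
      split_ifs <;> ring
    · simp only [if_neg h2, Matrix.add_mulVec, Matrix.one_mulVec, Matrix.smul_mulVec,
        Matrix.sub_mulVec, Pi.add_apply, Pi.sub_apply, Pi.smul_apply, single_mulVec_apply,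
        smul_eq_mul]
      split_ifs <;> ring


theorem eps_eq (p : Idx m) : eps m K p = SpTorus.eps p := rfl

theorem form_ev_right (x : Idx m → K) (b : Idx m) :
    Cfsg.sympForm m K x (ev b) = eps m K b.swap * x b.swap := by
  rcases b with j | j
  · show Cfsg.sympForm m K x (Pi.single (Sum.inl j) 1) = _
    rw [Symp.sympForm_single_inl]
    simp [eps]
  · show Cfsg.sympForm m K x (Pi.single (Sum.inr j) 1) = _
    rw [Symp.sympForm_single_inr]
    simp [eps]

theorem form_ev_left (y : Idx m → K) (b : Idx m) :
    Cfsg.sympForm m K (ev b) y = eps m K b * y b.swap := by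
  rw [Symp.sympForm_swap, form_ev_right, eps_swap]
  ring

theorem form_ev_ev (a b : Idx m) :
    Cfsg.sympForm m K (ev a : Idx m → K) (ev b) = if b = a.swap then eps m K a else 0 := by
  rw [form_ev_left]
  by_cases h : b = a.swap
  · subst h
    simp [ev]
  · have : ¬ a.swap = b := fun e => h e.symm
    simp [ev, h, this]

theorem act_self (k : Idx m) (t : K) (x : Idx m → K) : act k k t x = x := by
  funext i
  simp [act]

theorem act_long (k : Idx m) (t : K) (x : Idx m → K) :
    act k k.swap t x = x + (t * x k.swap) • (ev k : Idx m → K) := by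
  funext i
  have h : ¬ k = k.swap := fun e => swap_ne k e.symm
  simp only [act, if_neg h, if_true, Pi.add_apply, Pi.smul_apply, ev, Pi.single_apply, smul_eq_mul]
  split_ifs <;> ring

theorem act_short {k l : Idx m} (h1 : k ≠ l) (h2 : l ≠ k.swap) (t : K) (x : Idx m → K) :
    act k l t x = x + (t * x l) • (ev k : Idx m → K) -
      (eps m K k * eps m K l * t * x k.swap) • (ev l.swap : Idx m → K) := by
  funext i
  simp only [act, if_neg h1, if_neg h2, Pi.add_apply, Pi.sub_apply, Pi.smul_apply, ev,
    Pi.single_apply, smul_eq_mul]
  split_ifs <;> ring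

theorem act_form (k l : Idx m) (t : K) (x y : Idx m → K) :
    Cfsg.sympForm m K (act k l t x) (act k l t y) = Cfsg.sympForm m K x y := by
  by_cases h1 : k = l
  · subst h1
    rw [act_self, act_self]
  by_cases h2 : l = k.swap
  · subst h2
    rw [act_long, act_long]
    simp only [Symp.sympForm_add_left, Symp.sympForm_add_right, Symp.sympForm_smul_left,
      Symp.sympForm_smul_right]
    simp only [form_ev_right, form_ev_left, Symp.sympForm_self, eps_swap]
    ring
  · rw [act_short h1 h2, act_short h1 h2]
    have h3 : ¬ l.swap = k.swap := fun e => h1 (by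
      have := congrArg Sum.swap e
      simpa using this.symm)
    have h4 : ¬ k = l.swap.swap := by simpa using h1
    simp only [Symp.sympForm_add_left, Symp.sympForm_add_right, Symp.sympForm_smul_left,
      Symp.sympForm_smul_right, Symp.sympForm_sub_left, Symp.sympForm_sub_right]
    have h5 : ¬ l = k := fun e => h1 e.symm
    simp only [form_ev_ev, Symp.sympForm_self, if_neg h3, if_neg h1, if_neg h5, Sum.swap_swap]
    simp only [form_ev_right, form_ev_left, eps_swap, Sum.swap_swap]
    have hl := eps_sq (K := K) l
    linear_combination (t * eps m K k * (x k.swap * y l - x l * y k.swap)) * hl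

theorem yMat_mem (k l : Idx m) (t : K) : yMat k l t ∈ Matrix.symplecticGroup (Fin m) K := by
  rw [Cfsg.Agent.Lib.Helper1.SpCard.mem_symplectic_iff_form]
  intro x y
  rw [yMat_mulVec, yMat_mulVec, act_form]

/-- the root elements of the symplectic group -/
def spY (k l : Idx m) (t : K) : Matrix.symplecticGroup (Fin m) K := ⟨yMat k l t, yMat_mem k l t⟩

theorem spY_mulVec (k l : Idx m) (t : K) (x : Idx m → K) :
    ((spY k l t : Matrix.symplecticGroup (Fin m) K) : Matrix (Idx m) (Idx m) K) *ᵥ x =
      act k l t x := yMat_mulVec k l t x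

end Cfsg.Agent.Lib.Helper2.CM
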