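import Cfsg.Agent.Lib.Helper1.CM0
set_option linter.unusedSectionVars false
set_option linter.unusedVariables false
set_option linter.unusedSimpArgs false

namespace Cfsg.Agent.Lib.Helper2.CM

open Matrix Cfsg.Agent.Lib.Helper2.CN Cfsg.Agent.Lib.Helper5.Stb Cfsg.Agent.Lib.Helper1.SpBasic

variable {m : ℕ} {K : Type*} [Field K]

theorem spY_self (k : Idx m) (t : K) : spY k k t = 1 := by
  apply ext_mulVec
  intro x
  rw [spY_mulVec, act_self, coe_one_mulVec]

theorem spY_add (k l : Idx m) (t u : K) : spY k l (t + u) = spY k l t * spY k l u := by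
  apply ext_mulVec
  intro x
  simp only [coe_mul_mulVec, spY_mulVec]
  funext i
  rcases k with k | k <;> rcases l with l | l <;> rcases i with i | i <;>
    simp only [act, eps, Sum.swap_inl, Sum.swap_inr, Sum.elim_inl, Sum.elim_inr, Sum.inl.injEq,
      Sum.inr.injEq, reduceCtorEq, if_false, if_true] <;>
    split_ifs <;> simp_all <;> ring

theorem spY_zero (k l : Idx m) : spY k l (0 : K) = 1 := by
  have h := spY_add k l (0 : K) 0
  rw [add_zero] at h
  exact mul_eq_left.1 h.symm

theorem spY_inv (k l : Idx m) (t : K) : (spY k l t)⁻¹ = spY k l (-t) := by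
  rw [inv_eq_iff_mul_eq_one, ← spY_add, add_neg_cancel, spY_zero]

theorem spY_flip (k l : Idx m) (t : K) :
    spY k l t = spY l.swap k.swap (-(eps m K k * eps m K l) * t) := by
  apply ext_mulVec
  intro x
  simp only [coe_mul_mulVec, spY_mulVec]
  funext i
  rcases k with k | k <;> rcases l with l | l <;> rcases i with i | i <;>
    simp only [act, eps, Sum.swap_inl, Sum.swap_inr, Sum.elim_inl, Sum.elim_inr, Sum.inl.injEq,
      Sum.inr.injEq, reduceCtorEq, if_false, if_true] <;>
    split_ifs <;> simp_all <;> ring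

set_option maxHeartbeats 8000000 in
theorem spY_comm (k l p q : Idx m) (t u : K) (h1 : l ≠ p) (h2 : k ≠ q) (h3 : k ≠ p.swap)
    (h4 : l ≠ q.swap) : spY k l t * spY p q u = spY p q u * spY k l t := by
  apply ext_mulVec
  intro x
  simp only [coe_mul_mulVec, spY_mulVec]
  funext i
  rcases k with k | k <;> rcases l with l | l <;> rcases p with p | p <;> rcases q with q | q <;>
    rcases i with i | i <;>
    simp only [act, eps, Sum.swap_inl, Sum.swap_inr, Sum.elim_inl, Sum.elim_inr, Sum.inl.injEq,
      Sum.inr.injEq, reduceCtorEq, if_false, if_true, ne_eq, not_false_eq_true] at * <;>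
    split_ifs <;> simp_all <;> ring


set_option maxHeartbeats 8000000 in
theorem spY_rel (k l q : Idx m) (t u : K) (h1 : k ≠ l) (h2 : l ≠ q) (h3 : k ≠ q)
    (h4 : k ≠ l.swap) (h5 : l ≠ q.swap) (h6 : k ≠ q.swap) :
    spY k l t * spY l q u * (spY k l t)⁻¹ * (spY l q u)⁻¹ = spY k q (t * u) := by
  rw [spY_inv, spY_inv]
  apply ext_mulVec
  intro x
  simp only [coe_mul_mulVec, spY_mulVec]
  funext i
  rcases k with k | k <;> rcases l with l | l <;> rcases q with q | q <;>
    rcases i with i | i <;>
    simp only [act, eps, Sum.swap_inl, Sum.swap_inr, Sum.elim_inl, Sum.elim_inr, Sum.inl.injEq,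
      Sum.inr.injEq, reduceCtorEq, if_false, if_true, ne_eq, not_false_eq_true] at * <;>
    split_ifs <;> simp_all <;> ring

set_option maxHeartbeats 8000000 in
theorem spY_B2 (k l : Idx m) (t u : K) (h1 : k ≠ l) (h2 : k ≠ l.swap) :
    spY k l t * spY l k.swap u * (spY k l t)⁻¹ * (spY l k.swap u)⁻¹ =
      spY k k.swap (2 * t * u) := by
  rw [spY_inv, spY_inv]
  apply ext_mulVec
  intro x
  simp only [coe_mul_mulVec, spY_mulVec]
  funext i
  rcases k with k | k <;> rcases l with l | l <;>
    rcases i with i | i <;>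
    simp only [act, eps, Sum.swap_inl, Sum.swap_inr, Sum.elim_inl, Sum.elim_inr, Sum.inl.injEq,
      Sum.inr.injEq, reduceCtorEq, if_false, if_true, ne_eq, not_false_eq_true] at * <;>
    split_ifs <;> simp_all <;> ring

set_option maxHeartbeats 8000000 in
theorem spY_B3 (k l : Idx m) (t u : K) (h1 : k ≠ l) (h2 : k ≠ l.swap) :
    spY k l t * spY l l.swap u * (spY k l t)⁻¹ * (spY l l.swap u)⁻¹ =
      spY k l.swap (t * u) * spY k k.swap (eps m K k * eps m K l * t ^ 2 * u) := by
  rw [spY_inv, spY_inv]
  apply ext_mulVec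
  intro x
  simp only [coe_mul_mulVec, spY_mulVec]
  funext i
  rcases k with k | k <;> rcases l with l | l <;>
    rcases i with i | i <;>
    simp only [act, eps, Sum.swap_inl, Sum.swap_inr, Sum.elim_inl, Sum.elim_inr, Sum.inl.injEq,
      Sum.inr.injEq, reduceCtorEq, if_false, if_true, ne_eq, not_false_eq_true] at * <;>
    split_ifs <;> simp_all <;> ring


/-- the Steinberg data of type `C` in the symplectic group -/
def spData (m : ℕ) (K : Type*) [Field K] :
    CData (Idx m) K (Matrix.symplecticGroup (Fin m) K) Sum.swap (eps m K) where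
  nu_nu := Sum.swap_swap
  nu_ne := swap_ne
  eps_nu := eps_swap
  eps_sq := eps_sq
  y := spY
  y_self := spY_self
  y_flip := spY_flip
  y_add := spY_add
  y_comm := fun k l p q t u h1 h2 h3 h4 => spY_comm k l p q t u h1 h2 h3 h4
  y_rel := fun k l q t u h1 h2 h3 h4 h5 h6 => spY_rel k l q t u h1 h2 h3 h4 h5 h6
  y_B2 := fun k l t u h1 h2 => spY_B2 k l t u h1 h2
  y_B3 := fun k l t u h1 h2 => spY_B3 k l t u h1 h2

theorem spData_y (k l : Idx m) (t : K) : (spData m K).y k l t = spY k l t := rfl

/-- the natural representation of the symplectic group -/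
def spPhi (m : ℕ) (K : Type*) [Field K] :
    Matrix.symplecticGroup (Fin m) K →* Matrix (Idx m) (Idx m) K :=
  (Matrix.symplecticGroup (Fin m) K).subtype

theorem spPhi_apply (A : Matrix.symplecticGroup (Fin m) K) :
    spPhi m K A = (A : Matrix (Idx m) (Idx m) K) := rfl

theorem spData_rep : IsRepC (spData m K) (spPhi m K) := by
  refine ⟨?_, ?_⟩
  · intro k l t h1 h2 x
    rw [spData_y, spPhi_apply, spY_mulVec, act_short h1 h2]
  · intro k t x
    rw [spData_y, spPhi_apply, spY_mulVec, act_long]

end Cfsg.Agent.Lib.Helper2.CM
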