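import Cfsg.Agent.Lib.Helper1.CM0
set_option linter.unusedSectionVars false
set_option linter.unusedVariables false
set_option linter.unusedSimpArgs false

namespace Cfsg.Agent.Lib.Helper2.CM

open Matrix Cfsg.Agent.Lib.Helper2.CN Cfsg.Agent.Lib.Helper5.Stb Cfsg.Agent.Lib.Helper1.SpBasic

variable {r m : ℕ} (K : Type*) [Field K] (f : Fin r ↪ Fin m)

/-- the incidence matrix of an embedding of index sets -/
def G0 : Matrix (Fin m) (Fin r) K := Matrix.of fun i a => if i = f a then 1 else 0

/-- its doubling -/
def GG : Matrix (Idx m) (Idx r) K := Matrix.fromBlocks (G0 K f) 0 0 (G0 K f)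

theorem G0t_mul_G0 : (G0 K f)ᵀ * G0 K f = (1 : Matrix (Fin r) (Fin r) K) := by
  ext a b
  simp only [Matrix.mul_apply, Matrix.transpose_apply, G0, Matrix.of_apply, Matrix.one_apply]
  by_cases h : a = b
  · subst h
    simp
  · have : ∀ i, ¬ (i = f a ∧ i = f b) := by
      rintro i ⟨h1, h2⟩
      exact h (f.injective (h1.symm.trans h2))
    simp only [if_neg h]
    apply Finset.sum_eq_zero
    intro i _
    by_cases h1 : i = f a
    · have h2 : ¬ i = f b := fun h2 => this i ⟨h1, h2⟩
      simp [h2]
    · simp [h1]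

theorem GGt_mul_GG : (GG K f)ᵀ * GG K f = (1 : Matrix (Idx r) (Idx r) K) := by
  rw [GG, Matrix.fromBlocks_transpose, Matrix.fromBlocks_multiply]
  simp only [Matrix.transpose_zero, Matrix.zero_mul, Matrix.mul_zero, add_zero, zero_add,
    G0t_mul_G0]
  exact Matrix.fromBlocks_one

theorem J_mul_GG : Matrix.J (Fin m) K * GG K f = GG K f * Matrix.J (Fin r) K := by
  rw [GG, Matrix.J, Matrix.J, Matrix.fromBlocks_multiply, Matrix.fromBlocks_multiply]
  simp

theorem GGt_mul_J : (GG K f)ᵀ * Matrix.J (Fin m) K = Matrix.J (Fin r) K * (GG K f)ᵀ := by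
  have h := congrArg Matrix.transpose (J_mul_GG K f)
  rw [Matrix.transpose_mul, Matrix.transpose_mul, Matrix.J_transpose, Matrix.J_transpose] at h
  rw [Matrix.mul_neg, Matrix.neg_mul] at h
  exact neg_injective h


/-- the projection onto the coordinates in the range -/
def PP : Matrix (Idx m) (Idx m) K := GG K f * (GG K f)ᵀ

/-- extension of a matrix by zero -/
def iota (A : Matrix (Idx r) (Idx r) K) : Matrix (Idx m) (Idx m) K := GG K f * A * (GG K f)ᵀ

theorem PP_mul_PP : PP K f * PP K f = PP K f := by
  unfold PP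
  rw [Matrix.mul_assoc, ← Matrix.mul_assoc (GG K f)ᵀ, GGt_mul_GG, Matrix.one_mul]

theorem iota_one : iota K f 1 = PP K f := by
  unfold iota PP
  rw [Matrix.mul_one]

theorem iota_mul (A B : Matrix (Idx r) (Idx r) K) :
    iota K f A * iota K f B = iota K f (A * B) := by
  unfold iota
  calc GG K f * A * (GG K f)ᵀ * (GG K f * B * (GG K f)ᵀ)
      = GG K f * A * ((GG K f)ᵀ * GG K f) * B * (GG K f)ᵀ := by
        simp only [Matrix.mul_assoc]
    _ = GG K f * (A * B) * (GG K f)ᵀ := by
        rw [GGt_mul_GG, Matrix.mul_one]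
        simp only [Matrix.mul_assoc]

theorem PP_mul_iota (A : Matrix (Idx r) (Idx r) K) : PP K f * iota K f A = iota K f A := by
  rw [← iota_one, iota_mul, Matrix.one_mul]

theorem iota_mul_PP (A : Matrix (Idx r) (Idx r) K) : iota K f A * PP K f = iota K f A := by
  rw [← iota_one, iota_mul, Matrix.mul_one]

theorem iota_transpose (A : Matrix (Idx r) (Idx r) K) : (iota K f A)ᵀ = iota K f Aᵀ := by
  unfold iota
  rw [Matrix.transpose_mul, Matrix.transpose_mul, Matrix.transpose_transpose, Matrix.mul_assoc]

theorem PP_transpose : (PP K f)ᵀ = PP K f := by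
  rw [← iota_one, iota_transpose, Matrix.transpose_one]

theorem J_mul_iota (A : Matrix (Idx r) (Idx r) K) :
    Matrix.J (Fin m) K * iota K f A = iota K f (Matrix.J (Fin r) K * A) := by
  unfold iota
  rw [← Matrix.mul_assoc, ← Matrix.mul_assoc, J_mul_GG]
  simp only [Matrix.mul_assoc]

theorem iota_mul_J (A : Matrix (Idx r) (Idx r) K) :
    iota K f A * Matrix.J (Fin m) K = iota K f (A * Matrix.J (Fin r) K) := by
  unfold iota
  rw [Matrix.mul_assoc, GGt_mul_J]
  simp only [Matrix.mul_assoc]

theorem J_mul_PP : Matrix.J (Fin m) K * PP K f = PP K f * Matrix.J (Fin m) K := by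
  rw [← iota_one, J_mul_iota, iota_mul_J, Matrix.mul_one, Matrix.one_mul]

/-- the matrix of the embedded element -/
def embMat (A : Matrix (Idx r) (Idx r) K) : Matrix (Idx m) (Idx m) K :=
  1 - PP K f + iota K f A

theorem embMat_one : embMat K f 1 = 1 := by
  unfold embMat
  rw [iota_one]
  abel

theorem embMat_mul (A B : Matrix (Idx r) (Idx r) K) :
    embMat K f A * embMat K f B = embMat K f (A * B) := by
  unfold embMat
  simp only [mul_add, add_mul, mul_sub, sub_mul, mul_one, one_mul, PP_mul_PP, PP_mul_iota,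
    iota_mul_PP, iota_mul]
  abel

theorem embMat_transpose (A : Matrix (Idx r) (Idx r) K) :
    (embMat K f A)ᵀ = embMat K f Aᵀ := by
  unfold embMat
  rw [Matrix.transpose_add, Matrix.transpose_sub, Matrix.transpose_one, PP_transpose,
    iota_transpose]

theorem embMat_mem {A : Matrix (Idx r) (Idx r) K} (hA : A ∈ Matrix.symplecticGroup (Fin r) K) :
    embMat K f A ∈ Matrix.symplecticGroup (Fin m) K := by
  rw [SymplecticGroup.mem_iff] at hA ⊢
  rw [embMat_transpose]
  unfold embMat
  have h1 : iota K f A * Matrix.J (Fin m) K * iota K f Aᵀ = PP K f * Matrix.J (Fin m) K := by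
    rw [iota_mul_J, iota_mul, hA, ← iota_one, iota_mul_J, Matrix.one_mul]
  have h2 : Matrix.J (Fin m) K * iota K f Aᵀ = PP K f * (Matrix.J (Fin m) K * iota K f Aᵀ) := by
    rw [J_mul_iota, PP_mul_iota]
  have h3 : iota K f A * Matrix.J (Fin m) K = iota K f A * Matrix.J (Fin m) K * PP K f := by
    rw [iota_mul_J, iota_mul_PP]
  have h4 := J_mul_PP K f
  calc (1 - PP K f + iota K f A) * Matrix.J (Fin m) K * (1 - PP K f + iota K f Aᵀ)
      = Matrix.J (Fin m) K - PP K f * Matrix.J (Fin m) K - Matrix.J (Fin m) K * PP K f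
        + PP K f * (Matrix.J (Fin m) K * PP K f)
        + (Matrix.J (Fin m) K * iota K f Aᵀ - PP K f * (Matrix.J (Fin m) K * iota K f Aᵀ))
        + (iota K f A * Matrix.J (Fin m) K - iota K f A * Matrix.J (Fin m) K * PP K f)
        + iota K f A * Matrix.J (Fin m) K * iota K f Aᵀ := by
        simp only [mul_add, add_mul, mul_sub, sub_mul, mul_one, one_mul, Matrix.mul_assoc]
        abel
    _ = Matrix.J (Fin m) K := by
        rw [← h2, ← h3, h1, h4, ← Matrix.mul_assoc, PP_mul_PP]
        abel


theorem GG_apply (i : Idx m) (c : Idx r) :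
    GG K f i c = if i = Sum.map f f c then 1 else 0 := by
  rcases i with i | i <;> rcases c with c | c <;> simp [GG, G0]

theorem map_swap (a : Idx r) : Sum.map f f a.swap = (Sum.map f f a).swap := by
  rcases a with a | a <;> rfl

theorem map_inj {a b : Idx r} : Sum.map f f a = Sum.map f f b ↔ a = b := by
  constructor
  · intro h
    rcases a with a | a <;> rcases b with b | b <;> simp at h ⊢ <;> exact h
  · intro h
    rw [h]

theorem eps_map (a : Idx r) : eps m K (Sum.map f f a) = eps r K a := by
  rcases a with a | a <;> rfl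

theorem iota_add (A B : Matrix (Idx r) (Idx r) K) :
    iota K f (A + B) = iota K f A + iota K f B := by
  unfold iota
  rw [Matrix.mul_add, Matrix.add_mul]

theorem iota_sub (A B : Matrix (Idx r) (Idx r) K) :
    iota K f (A - B) = iota K f A - iota K f B := by
  unfold iota
  rw [Matrix.mul_sub, Matrix.sub_mul]

theorem iota_smul (c : K) (A : Matrix (Idx r) (Idx r) K) :
    iota K f (c • A) = c • iota K f A := by
  unfold iota
  rw [Matrix.mul_smul, Matrix.smul_mul]

theorem iota_single (a b : Idx r) :
    iota K f (Matrix.single a b (1 : K)) =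
      Matrix.single (Sum.map f f a) (Sum.map f f b) (1 : K) := by
  ext i j
  unfold iota
  rw [Matrix.mul_apply]
  simp only [Matrix.mul_apply, Matrix.transpose_apply, GG_apply, Matrix.single_apply]
  rw [Finset.sum_eq_single b]
  · rw [Finset.sum_eq_single a]
    · by_cases h1 : i = Sum.map f f a <;> by_cases h2 : j = Sum.map f f b <;>
        simp [h1, h2, eq_comm]
    · intro c _ hc
      have : ¬ a = c := fun h => hc h.symm
      simp [this]
    · intro h
      exact absurd (Finset.mem_univ _) h
  · intro d _ hd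
    have : ¬ b = d := fun h => hd h.symm
    simp [this]
  · intro h
    exact absurd (Finset.mem_univ _) h

theorem embMat_one_add (X : Matrix (Idx r) (Idx r) K) :
    embMat K f (1 + X) = 1 + iota K f X := by
  unfold embMat
  rw [iota_add, iota_one]
  abel

theorem embMat_yMat (a b : Idx r) (t : K) :
    embMat K f (yMat a b t) = yMat (Sum.map f f a) (Sum.map f f b) t := by
  unfold yMat
  by_cases h1 : a = b
  · have h1' : Sum.map f f a = Sum.map f f b := by rw [h1]
    rw [if_pos h1, if_pos h1', embMat_one]
  · have h1' : ¬ Sum.map f f a = Sum.map f f b := fun h => h1 ((map_inj f).1 h)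
    rw [if_neg h1, if_neg h1']
    by_cases h2 : b = a.swap
    · have h2' : Sum.map f f b = (Sum.map f f a).swap := by rw [h2, map_swap]
      rw [if_pos h2, if_pos h2', embMat_one_add, iota_smul, iota_single]
    · have h2' : ¬ Sum.map f f b = (Sum.map f f a).swap := by
        rw [← map_swap]
        exact fun h => h2 ((map_inj f).1 h)
      rw [if_neg h2, if_neg h2', embMat_one_add, iota_smul, iota_sub, iota_smul, iota_single,
        iota_single, map_swap, map_swap, eps_map, eps_map]

theorem GGt_iota_GG (A : Matrix (Idx r) (Idx r) K) :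
    (GG K f)ᵀ * iota K f A * GG K f = A := by
  unfold iota
  calc (GG K f)ᵀ * (GG K f * A * (GG K f)ᵀ) * GG K f
      = ((GG K f)ᵀ * GG K f) * A * ((GG K f)ᵀ * GG K f) := by
        simp only [Matrix.mul_assoc]
    _ = A := by
        rw [GGt_mul_GG, Matrix.one_mul, Matrix.mul_one]

theorem embMat_injective : Function.Injective (embMat K f) := by
  intro A B h
  unfold embMat at h
  have h' : iota K f A = iota K f B := add_left_cancel h
  rw [← GGt_iota_GG K f A, h', GGt_iota_GG]

variable {K}

/-- the embedding of symplectic groups induced by an embedding of the index sets -/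
noncomputable def emb (f : Fin r ↪ Fin m) :
    Matrix.symplecticGroup (Fin r) K →* Matrix.symplecticGroup (Fin m) K where
  toFun A := ⟨embMat K f A, embMat_mem K f A.2⟩
  map_one' := Subtype.ext (embMat_one K f)
  map_mul' A B := Subtype.ext (embMat_mul K f A B).symm

theorem emb_coe (A : Matrix.symplecticGroup (Fin r) K) :
    ((emb f A : Matrix.symplecticGroup (Fin m) K) : Matrix (Idx m) (Idx m) K) =
      embMat K f A := rfl

theorem emb_injective : Function.Injective (emb (K := K) f) := by
  intro A B h
  apply Subtype.ext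
  apply embMat_injective K f
  have := congrArg Subtype.val h
  exact this

theorem emb_spY (a b : Idx r) (t : K) :
    emb f (spY a b t) = spY (Sum.map f f a) (Sum.map f f b) t := by
  apply Subtype.ext
  exact embMat_yMat K f a b t

/-- the entries of the embedded matrix on the range -/
theorem emb_apply_map (A : Matrix.symplecticGroup (Fin r) K) (a b : Idx r) :
    ((emb f A : Matrix.symplecticGroup (Fin m) K) : Matrix (Idx m) (Idx m) K)
      (Sum.map f f a) (Sum.map f f b) = (A : Matrix (Idx r) (Idx r) K) a b := by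
  rw [emb_coe]
  have h := congrFun (congrFun (GGt_iota_GG K f (A : Matrix (Idx r) (Idx r) K)) a) b
  have h2 : (GG K f)ᵀ * embMat K f (A : Matrix (Idx r) (Idx r) K) * GG K f =
      (GG K f)ᵀ * iota K f (A : Matrix (Idx r) (Idx r) K) * GG K f := by
    unfold embMat
    rw [Matrix.mul_add, Matrix.mul_sub, Matrix.mul_one, Matrix.add_mul, Matrix.sub_mul]
    have : (GG K f)ᵀ * PP K f * GG K f = (GG K f)ᵀ * GG K f := by
      unfold PP
      calc (GG K f)ᵀ * (GG K f * (GG K f)ᵀ) * GG K f
          = ((GG K f)ᵀ * GG K f) * ((GG K f)ᵀ * GG K f) := by simp only [Matrix.mul_assoc]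
        _ = (GG K f)ᵀ * GG K f := by rw [GGt_mul_GG, Matrix.one_mul]
    rw [this, sub_self, zero_add]
  rw [← h2] at h
  rw [← h]
  rw [Matrix.mul_apply]
  simp only [Matrix.mul_apply, Matrix.transpose_apply, GG_apply]
  rw [Finset.sum_eq_single (Sum.map f f b)]
  · rw [Finset.sum_eq_single (Sum.map f f a)]
    · simp
    · intro c _ hc
      simp [hc]
    · intro h
      exact absurd (Finset.mem_univ _) h
  · intro d _ hd
    simp [hd]
  · intro h
    exact absurd (Finset.mem_univ _) h


theorem GG_apply_of_not_range {i : Idx m} (hi : ∀ a, i ≠ Sum.map f f a) (c : Idx r) :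
    GG K f i c = 0 := by
  rw [GG_apply, if_neg (hi c)]

/-- outside the range the embedded matrix is the identity (rows) -/
theorem emb_apply_of_not_range_left (A : Matrix.symplecticGroup (Fin r) K) {i : Idx m}
    (hi : ∀ a, i ≠ Sum.map f f a) (j : Idx m) :
    ((emb f A : Matrix.symplecticGroup (Fin m) K) : Matrix (Idx m) (Idx m) K) i j =
      (1 : Matrix (Idx m) (Idx m) K) i j := by
  rw [emb_coe]
  unfold embMat PP iota
  rw [Matrix.add_apply, Matrix.sub_apply, Matrix.mul_apply, Matrix.mul_apply]
  have h1 : ∀ c, GG K f i c = 0 := GG_apply_of_not_range f hi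
  have h2 : ∀ c, (GG K f * (A : Matrix (Idx r) (Idx r) K)) i c = 0 := by
    intro c
    rw [Matrix.mul_apply]
    apply Finset.sum_eq_zero
    intro d _
    rw [h1, zero_mul]
  simp only [h1, h2, zero_mul, Finset.sum_const_zero, sub_zero, add_zero]

/-- outside the range the embedded matrix is the identity (columns) -/
theorem emb_apply_of_not_range_right (A : Matrix.symplecticGroup (Fin r) K) (i : Idx m)
    {j : Idx m} (hj : ∀ a, j ≠ Sum.map f f a) :
    ((emb f A : Matrix.symplecticGroup (Fin m) K) : Matrix (Idx m) (Idx m) K) i j =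
      (1 : Matrix (Idx m) (Idx m) K) i j := by
  rw [emb_coe]
  unfold embMat PP iota
  rw [Matrix.add_apply, Matrix.sub_apply, Matrix.mul_apply, Matrix.mul_apply]
  have h1 : ∀ c, (GG K f)ᵀ c j = 0 := fun c => GG_apply_of_not_range f hj c
  simp only [h1, mul_zero, Finset.sum_const_zero, sub_zero, add_zero]

end Cfsg.Agent.Lib.Helper2.CM
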