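import Mathlib

set_option autoImplicit false

namespace Cfsg.Agent.Lib.Helper1

section QuadCount
open Finset
variable {F : Type*} [Field F] [Fintype F] [DecidableEq F]

/-- For `x ≠ 0` the affine hyperplane `x ⬝ y = c` in `F^k` has `q^(k-1)` points. -/
theorem card_dot_eq {k : ℕ} (x : Fin k → F) (hx : x ≠ 0) (c : F) :
    (univ.filter (fun y : Fin k → F => x ⬝ᵥ y = c)).card = Fintype.card F ^ (k - 1) := by
  classical
  let f : (Fin k → F) →+ F :=
    { toFun := fun y => x ⬝ᵥ y
      map_zero' := dotProduct_zero x
      map_add' := dotProduct_add x }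
  obtain ⟨i, hi⟩ : ∃ i, x i ≠ 0 := by
    by_contra h
    push Not at h
    exact hx (funext h)
  have hsurj : ∀ c : F, c ∈ Set.range f := by
    intro c
    refine ⟨Pi.single i (c / x i), ?_⟩
    show x ⬝ᵥ Pi.single i (c / x i) = c
    rw [dotProduct_single, mul_div_cancel₀ _ hi]
  have heq : ∀ c : F, (univ.filter (fun y : Fin k → F => f y = c)).card =
      (univ.filter (fun y : Fin k → F => f y = 0)).card :=
    fun c => AddMonoidHom.card_fiber_eq_of_mem_range f (hsurj c) (hsurj 0)
  have hsum : (univ : Finset (Fin k → F)).card =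
      ∑ c : F, (univ.filter (fun y : Fin k → F => f y = c)).card :=
    Finset.card_eq_sum_card_fiberwise (fun y _ => Finset.mem_univ (f y))
  simp only [heq] at hsum
  rw [Finset.sum_const, Finset.card_univ, Finset.card_univ, smul_eq_mul, Fintype.card_fun,
    Fintype.card_fin] at hsum
  have hk : 1 ≤ k := by
    rcases Nat.eq_zero_or_pos k with h0 | h0
    · subst h0; exact i.elim0
    · exact h0
  have hq : 0 < Fintype.card F := Fintype.card_pos
  have h1 : Fintype.card F ^ k = Fintype.card F * Fintype.card F ^ (k - 1) := by
    rw [← pow_succ', Nat.sub_add_cancel hk]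
  rw [h1] at hsum
  have h2 := Nat.eq_of_mul_eq_mul_left hq hsum
  show (univ.filter (fun y : Fin k → F => f y = c)).card = _
  rw [heq c, ← h2]

/-- The number of `(x, y) ∈ F^k × F^k` with `x ⬝ y = c`. -/
theorem card_pairs_dot_eq (k : ℕ) (c : F) :
    (univ.filter (fun p : (Fin k → F) × (Fin k → F) => p.1 ⬝ᵥ p.2 = c)).card =
      (if c = 0 then Fintype.card F ^ k else 0) +
        (Fintype.card F ^ k - 1) * Fintype.card F ^ (k - 1) := by
  classical
  rw [Finset.card_filter, Fintype.sum_prod_type]
  simp only [← Finset.card_filter]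
  rw [← Finset.add_sum_erase univ _ (Finset.mem_univ (0 : Fin k → F))]
  congr 1
  · simp only [zero_dotProduct]
    split_ifs with h
    · rw [Finset.filter_true_of_mem (fun _ _ => h.symm), Finset.card_univ, Fintype.card_fun,
        Fintype.card_fin]
    · rw [Finset.filter_false_of_mem (fun _ _ h' => h h'.symm), Finset.card_empty]
  · rw [Finset.sum_congr rfl (fun x hx => card_dot_eq x (Finset.ne_of_mem_erase hx) c),
      Finset.sum_const, Finset.card_erase_of_mem (Finset.mem_univ _), Finset.card_univ,
      Fintype.card_fun, Fintype.card_fin, smul_eq_mul]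

/-- The number of `v : Fin k ⊕ Fin k → F` with `Σ v(inl i) v(inr i) = c`. -/
theorem card_hyperbolic_eq (k : ℕ) (c : F) :
    (univ.filter (fun v : Fin k ⊕ Fin k → F => ∑ i : Fin k, v (.inl i) * v (.inr i) = c)).card =
      (if c = 0 then Fintype.card F ^ k else 0) +
        (Fintype.card F ^ k - 1) * Fintype.card F ^ (k - 1) := by
  classical
  rw [← card_pairs_dot_eq k c]
  apply Finset.card_equiv (Equiv.sumArrowEquivProdArrow (Fin k) (Fin k) F)
  intro v
  rw [Finset.mem_filter, Finset.mem_filter]
  simp only [Finset.mem_univ, true_and, dotProduct]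
  exact Iff.rfl

/-- Splitting a count over a sum type: sum over the second block. -/
theorem card_sum_split_right {α β : Type*} [Fintype α] [Fintype β] [DecidableEq α] [DecidableEq β]
    (A : (α → F) → F) (B : (β → F) → F) :
    (univ.filter (fun v : α ⊕ β → F => A (fun i => v (.inl i)) + B (fun j => v (.inr j)) = 0)).card =
      ∑ w : β → F, (univ.filter (fun u : α → F => A u = - B w)).card := by
  classical
  have h1 : (univ.filter (fun v : α ⊕ β → F =>
      A (fun i => v (.inl i)) + B (fun j => v (.inr j)) = 0)).card =
      (univ.filter (fun p : (α → F) × (β → F) => A p.1 = - B p.2)).card := by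
    apply Finset.card_equiv (Equiv.sumArrowEquivProdArrow α β F)
    intro v
    rw [Finset.mem_filter, Finset.mem_filter]
    simp only [Finset.mem_univ, true_and]
    rw [eq_neg_iff_add_eq_zero]
    exact Iff.rfl
  rw [h1, Finset.card_filter, Fintype.sum_prod_type, Finset.sum_comm]
  simp only [← Finset.card_filter]

/-- Splitting a count over a sum type: sum over the first block. -/
theorem card_sum_split_left {α β : Type*} [Fintype α] [Fintype β] [DecidableEq α] [DecidableEq β]
    (A : (α → F) → F) (B : (β → F) → F) :
    (univ.filter (fun v : α ⊕ β → F => A (fun i => v (.inl i)) + B (fun j => v (.inr j)) = 0)).card =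
      ∑ u : α → F, (univ.filter (fun w : β → F => B w = - A u)).card := by
  classical
  have h1 : (univ.filter (fun v : α ⊕ β → F =>
      A (fun i => v (.inl i)) + B (fun j => v (.inr j)) = 0)).card =
      (univ.filter (fun p : (α → F) × (β → F) => B p.2 = - A p.1)).card := by
    apply Finset.card_equiv (Equiv.sumArrowEquivProdArrow α β F)
    intro v
    rw [Finset.mem_filter, Finset.mem_filter]
    simp only [Finset.mem_univ, true_and]
    rw [eq_neg_iff_add_eq_zero, add_comm]
    exact Iff.rfl
  rw [h1, Finset.card_filter, Fintype.sum_prod_type]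
  simp only [← Finset.card_filter]

end QuadCount

end Cfsg.Agent.Lib.Helper1
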