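import Mathlib
import Cfsg.Agent.Lib.Helper5.QuadFin

/-!
# The number of vectors of norm one in a nondegenerate ternary quadratic space over a finite field
of odd order
-/

set_option autoImplicit false
set_option linter.unusedSectionVars false

namespace Cfsg.Agent.Lib.Helper1.QuadLevel3

open Module QuadraticMap Cfsg.Agent.Lib.Helper5

section count

variable {F : Type*} [Field F] [Fintype F] [DecidableEq F]

/-- the number of solutions of `x y = d` -/
theorem card_mul_eq (d : F) :
    (Finset.univ.filter (fun a : F × F => a.1 * a.2 = d)).card =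
      if d = 0 then 2 * Fintype.card F - 1 else Fintype.card F - 1 := by
  have hq : 1 ≤ Fintype.card F := Fintype.card_pos
  rw [Finset.card_filter, Fintype.sum_prod_type]
  have key : ∀ x : F, (∑ y : F, if x * y = d then 1 else 0) =
      if x = 0 then (if d = 0 then Fintype.card F else 0) else 1 := by
    intro x
    by_cases hx : x = 0
    · subst hx
      rw [if_pos rfl]
      simp only [zero_mul]
      by_cases hd : d = 0
      · subst hd
        simp
      · rw [if_neg hd]
        apply Finset.sum_eq_zero
        intro y _
        exact if_neg (Ne.symm hd)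
    · rw [if_neg hx]
      rw [Finset.sum_eq_single (x⁻¹ * d)]
      · rw [if_pos]
        rw [mul_inv_cancel_left₀ hx]
      · intro y _ hy
        rw [if_neg]
        intro h
        apply hy
        rw [← h, inv_mul_cancel_left₀ hx]
      · intro h
        exact absurd (Finset.mem_univ _) h
  simp_rw [key]
  rw [← Finset.add_sum_erase Finset.univ _ (Finset.mem_univ (0 : F)), if_pos rfl]
  have h2 : ∑ x ∈ Finset.univ.erase (0 : F),
      (if x = 0 then (if d = 0 then Fintype.card F else 0) else 1) = Fintype.card F - 1 := by
    rw [Finset.sum_congr rfl (g := fun _ => 1)]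
    · rw [Finset.sum_const, Finset.card_erase_of_mem (Finset.mem_univ _), Finset.card_univ,
        smul_eq_mul, mul_one]
    · intro x hx
      rw [if_neg (Finset.ne_of_mem_erase hx)]
  rw [h2]
  by_cases hd : d = 0
  · rw [if_pos hd, if_pos hd]
    omega
  · rw [if_neg hd, if_neg hd]
    omega

/-- the number of solutions of `c t ^ 2 = 1` is zero or two -/
theorem card_sq_eq (h2 : (2 : F) ≠ 0) (c : F) :
    (Finset.univ.filter (fun t : F => c * t ^ 2 = 1)).card = 0 ∨
      (Finset.univ.filter (fun t : F => c * t ^ 2 = 1)).card = 2 := by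
  by_cases hne : (Finset.univ.filter (fun t : F => c * t ^ 2 = 1)).Nonempty
  · right
    obtain ⟨t₀, ht₀⟩ := hne
    rw [Finset.mem_filter] at ht₀
    have hc : c ≠ 0 := by
      intro hc
      rw [hc, zero_mul] at ht₀
      exact zero_ne_one ht₀.2
    have ht0 : t₀ ≠ 0 := by
      intro h
      rw [h] at ht₀
      simp at ht₀
    have hneg : t₀ ≠ -t₀ := by
      intro h
      have : (2 : F) * t₀ = 0 := by
        rw [two_mul]
        nth_rw 1 [h]
        exact neg_add_cancel t₀
      rcases mul_eq_zero.mp this with h' | h'
      · exact h2 h'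
      · exact ht0 h'
    have : Finset.univ.filter (fun t : F => c * t ^ 2 = 1) = {t₀, -t₀} := by
      ext t
      rw [Finset.mem_filter, Finset.mem_insert, Finset.mem_singleton]
      constructor
      · rintro ⟨_, ht⟩
        have h1 : c * (t ^ 2 - t₀ ^ 2) = 0 := by
          rw [mul_sub, ht, ht₀.2, sub_self]
        have h3 : t ^ 2 - t₀ ^ 2 = 0 := by
          rcases mul_eq_zero.mp h1 with h | h
          · exact absurd h hc
          · exact h
        have h4 : (t - t₀) * (t + t₀) = 0 := by
          rw [← h3]
          ring
        rcases mul_eq_zero.mp h4 with h | h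
        · left
          exact sub_eq_zero.mp h
        · right
          exact eq_neg_of_add_eq_zero_left h
      · rintro (rfl | rfl)
        · exact ⟨Finset.mem_univ _, ht₀.2⟩
        · refine ⟨Finset.mem_univ _, ?_⟩
          rw [neg_sq]
          exact ht₀.2
    rw [this, Finset.card_pair hneg]
  · left
    rw [Finset.not_nonempty_iff_eq_empty] at hne
    rw [hne, Finset.card_empty]

/-- the number of solutions of `x y + c t ^ 2 = 1` -/
theorem card_ternary (h2 : (2 : F) ≠ 0) (c : F) :
    (Finset.univ.filter (fun a : F × (F × F) => a.2.1 * a.2.2 + c * a.1 ^ 2 = 1)).card =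
        Fintype.card F ^ 2 + Fintype.card F ∨
      (Finset.univ.filter (fun a : F × (F × F) => a.2.1 * a.2.2 + c * a.1 ^ 2 = 1)).card =
        Fintype.card F ^ 2 - Fintype.card F := by
  have hq : 1 ≤ Fintype.card F := Fintype.card_pos
  have hcard : (Finset.univ.filter
      (fun a : F × (F × F) => a.2.1 * a.2.2 + c * a.1 ^ 2 = 1)).card =
      ∑ t : F, if c * t ^ 2 = 1 then 2 * Fintype.card F - 1 else Fintype.card F - 1 := by
    rw [Finset.card_filter, Fintype.sum_prod_type]
    apply Finset.sum_congr rfl
    intro t _
    rw [← Finset.card_filter]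
    have : (Finset.univ.filter (fun b : F × F => b.1 * b.2 + c * t ^ 2 = 1)) =
        Finset.univ.filter (fun b : F × F => b.1 * b.2 = 1 - c * t ^ 2) := by
      ext b
      rw [Finset.mem_filter, Finset.mem_filter, eq_sub_iff_add_eq]
    rw [this, card_mul_eq]
    by_cases h : c * t ^ 2 = 1
    · rw [if_pos h, if_pos (by rw [h, sub_self])]
    · rw [if_neg h, if_neg]
      intro h'
      exact h (sub_eq_zero.mp h').symm
  rw [hcard, Finset.sum_ite, Finset.sum_const, Finset.sum_const, smul_eq_mul, smul_eq_mul]
  have hcompl : (Finset.univ.filter (fun t : F => ¬ c * t ^ 2 = 1)).card =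
      Fintype.card F - (Finset.univ.filter (fun t : F => c * t ^ 2 = 1)).card := by
    rw [Finset.filter_not, Finset.card_sdiff_of_subset (Finset.filter_subset _ _),
      Finset.card_univ]
  rw [hcompl]
  rcases card_sq_eq h2 c with h | h
  · right
    rw [h]
    rw [zero_mul, zero_add, Nat.sub_zero, Nat.mul_sub, mul_one, pow_two]
  · left
    rw [h]
    have hq3 : 3 ≤ Fintype.card F := by
      by_contra hlt
      have h3 : (Finset.univ.filter (fun t : F => c * t ^ 2 = 1)).card ≤ Fintype.card F := by
        rw [← Finset.card_univ]
        exact Finset.card_le_card (Finset.filter_subset _ _)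
      have hq2 : Fintype.card F = 2 := by omega
      -- a field with two elements has `2 = 0`
      have hchar : (2 : F) = 0 := by
        have := Nat.cast_card_eq_zero F
        rw [hq2] at this
        exact_mod_cast this
      exact h2 hchar
    obtain ⟨k, hk⟩ : ∃ k, Fintype.card F = k + 3 := ⟨Fintype.card F - 3, by omega⟩
    rw [hk]
    have e1 : 2 * (k + 3) - 1 = 2 * k + 5 := by omega
    have e2 : k + 3 - 2 = k + 1 := by omega
    have e3 : k + 3 - 1 = k + 2 := by omega
    rw [e1, e2, e3]
    ring

end count

section main

variable {F : Type*} [Field F] [Fintype F]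
variable {V : Type*} [AddCommGroup V] [Module F V] [FiniteDimensional F V]

theorem card_level_three (hF : Odd (Fintype.card F)) (Q : QuadraticForm F V)
    (hQ : (QuadraticMap.polarBilin Q).Nondegenerate) (hdim : Module.finrank F V = 3) :
    Nat.card {x : V // Q x = 1} = Fintype.card F ^ 2 + Fintype.card F ∨
      Nat.card {x : V // Q x = 1} = Fintype.card F ^ 2 - Fintype.card F := by
  classical
  have h2 : (2 : F) ≠ 0 := by
    intro h
    have hch : ringChar F = 2 := by
      have hdvd : ringChar F ∣ 2 := by
        rw [← ringChar.spec]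
        exact_mod_cast h
      rcases (Nat.dvd_prime Nat.prime_two).mp hdvd with h1 | h1
      · exact absurd h1 (CharP.ringChar_ne_one)
      · exact h1
    have hev := (FiniteField.even_card_iff_char_two).mp hch
    rw [← Nat.even_iff] at hev
    exact (Nat.not_even_iff_odd.mpr hF) hev
  have : Finite V := Module.finite_of_finite F
  have : Fintype V := Fintype.ofFinite V
  obtain ⟨v, hv0, hv⟩ := exists_singular_of_finrank Q (le_of_eq hdim.symm)
  obtain ⟨w, hvw, hw⟩ := exists_partner Q hQ hv0 hv
  have hvv := polar_self_of_singular Q hv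
  have hww := polar_self_of_singular Q hw
  have hwv : polar Q w v = 1 := by rw [polar_comm]; exact hvw
  -- a vector outside the span
  obtain ⟨a, ha⟩ : ∃ a : V, a ∉ Submodule.span F ({v, w} : Set V) := by
    by_contra hcon
    push Not at hcon
    have htop : Submodule.span F ({v, w} : Set V) = ⊤ := by
      rw [eq_top_iff]
      intro x _
      exact hcon x
    have h1 : finrank F (Submodule.span F ((({v, w} : Finset V) : Set V))) ≤
        ({v, w} : Finset V).card := finrank_span_finset_le_card (R := F) ({v, w} : Finset V)
    have h3 : (({v, w} : Finset V) : Set V) = ({v, w} : Set V) := by simp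
    rw [h3, htop, finrank_top, hdim] at h1
    have h4 : ({v, w} : Finset V).card ≤ 2 := Finset.card_le_two
    omega
  obtain ⟨z, hzdef⟩ : ∃ z : V, z = a - polar Q w a • v - polar Q v a • w := ⟨_, rfl⟩
  have hz0 : z ≠ 0 := by
    intro h
    apply ha
    rw [hzdef, sub_sub, sub_eq_zero] at h
    rw [h]
    apply Submodule.add_mem
    · exact Submodule.smul_mem _ _ (Submodule.subset_span (by simp))
    · exact Submodule.smul_mem _ _ (Submodule.subset_span (by simp))
  have hvz : polar Q v z = 0 := by
    rw [hzdef, polar_sub_right, polar_sub_right, polar_smul_right, polar_smul_right, hvv, hvw]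
    simp
  have hwz : polar Q w z = 0 := by
    rw [hzdef, polar_sub_right, polar_sub_right, polar_smul_right, polar_smul_right, hww, hwv]
    simp
  -- the coordinates
  let e : F × (F × F) → V := fun b => b.2.1 • v + b.2.2 • w + b.1 • z
  have hpv : ∀ b : F × (F × F), polar Q v (e b) = b.2.2 := by
    intro b
    show polar Q v (b.2.1 • v + b.2.2 • w + b.1 • z) = b.2.2
    rw [polar_add_right, polar_add_right, polar_smul_right, polar_smul_right, polar_smul_right,
      hvv, hvw, hvz]
    simp
  have hpw : ∀ b : F × (F × F), polar Q w (e b) = b.2.1 := by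
    intro b
    show polar Q w (b.2.1 • v + b.2.2 • w + b.1 • z) = b.2.1
    rw [polar_add_right, polar_add_right, polar_smul_right, polar_smul_right, polar_smul_right,
      hww, hwv, hwz]
    simp
  have hinj : Function.Injective e := by
    intro b b' h
    have h1 : b.2.2 = b'.2.2 := by rw [← hpv b, ← hpv b', h]
    have h2' : b.2.1 = b'.2.1 := by rw [← hpw b, ← hpw b', h]
    have h3 : b.1 • z = b'.1 • z := by
      have h' : b.2.1 • v + b.2.2 • w + b.1 • z = b'.2.1 • v + b'.2.2 • w + b'.1 • z := h
      rw [h1, h2'] at h'
      exact add_left_cancel h'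
    have h4 : b.1 = b'.1 := by
      have : (b.1 - b'.1) • z = 0 := by rw [sub_smul, h3, sub_self]
      rcases smul_eq_zero.mp this with h | h
      · exact sub_eq_zero.mp h
      · exact absurd h hz0
    exact Prod.ext h4 (Prod.ext h2' h1)
  have hbij : Function.Bijective e := by
    rw [Fintype.bijective_iff_injective_and_card]
    refine ⟨hinj, ?_⟩
    rw [Fintype.card_prod, Fintype.card_prod, Module.card_eq_pow_finrank (K := F) (V := V), hdim]
    ring
  have hQe : ∀ b : F × (F × F), Q (e b) = b.2.1 * b.2.2 + Q z * b.1 ^ 2 := by
    intro b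
    show Q (b.2.1 • v + b.2.2 • w + b.1 • z) = _
    rw [map_lin3, hv, hw, hvw, hvz, hwz]
    ring
  -- transport the count
  have hcount : Nat.card {x : V // Q x = 1} =
      (Finset.univ.filter (fun b : F × (F × F) => b.2.1 * b.2.2 + Q z * b.1 ^ 2 = 1)).card := by
    rw [Nat.card_eq_fintype_card, Fintype.card_subtype]
    symm
    apply Finset.card_bij (fun b _ => e b)
    · intro b hb
      rw [Finset.mem_filter] at hb ⊢
      exact ⟨Finset.mem_univ _, by rw [hQe]; exact hb.2⟩
    · intro b _ b' _ h
      exact hinj h
    · intro x hx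
      rw [Finset.mem_filter] at hx
      obtain ⟨b, rfl⟩ := hbij.2 x
      refine ⟨b, ?_, rfl⟩
      rw [Finset.mem_filter]
      exact ⟨Finset.mem_univ _, by rw [← hQe]; exact hx.2⟩
  rw [hcount]
  exact card_ternary h2 (Q z)

end main

end Cfsg.Agent.Lib.Helper1.QuadLevel3
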