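import Mathlib
import Cfsg.Prelude
import Cfsg.Agent.Lib.Helper1.HermCount

set_option autoImplicit false
set_option linter.unusedSectionVars false

namespace Cfsg.Agent.Lib.Helper1.GUBasic

open Cfsg.Agent.Lib.Helper2.Herm Cfsg.Agent.Lib.Helper1.HermCount Matrix

variable {F : Type*} [Field F] [Fintype F] {q : ℕ} {n : ℕ}

theorem herm_zero_left (w : Fin n → F) : Cfsg.hermForm n F q 0 w = 0 := by
  unfold Cfsg.hermForm
  simp

theorem herm_zero_right (hF : Fintype.card F = q ^ 2) (u : Fin n → F) :
    Cfsg.hermForm n F q u 0 = 0 := by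
  unfold Cfsg.hermForm
  have hq := two_le_q hF
  simp [zero_pow (by omega : q ≠ 0)]

theorem herm_neg_left (u w : Fin n → F) :
    Cfsg.hermForm n F q (-u) w = - Cfsg.hermForm n F q u w := by
  have := herm_smul_left (q := q) (-1 : F) u w
  simpa using this

theorem herm_sub_left (u u' w : Fin n → F) :
    Cfsg.hermForm n F q (u - u') w = Cfsg.hermForm n F q u w - Cfsg.hermForm n F q u' w := by
  rw [sub_eq_add_neg, herm_add_left, herm_neg_left, ← sub_eq_add_neg]

theorem herm_sum_left {ι : Type*} (s : Finset ι) (a : ι → F) (b : ι → Fin n → F) (w : Fin n → F) :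
    Cfsg.hermForm n F q (∑ i ∈ s, a i • b i) w = ∑ i ∈ s, a i * Cfsg.hermForm n F q (b i) w := by
  classical
  induction s using Finset.induction_on with
  | empty => simp [herm_zero_left]
  | insert i s hi ih =>
    rw [Finset.sum_insert hi, Finset.sum_insert hi, herm_add_left, herm_smul_left, ih]

theorem herm_sum_right (hF : Fintype.card F = q ^ 2) {ι : Type*} (s : Finset ι) (a : ι → F)
    (b : ι → Fin n → F) (u : Fin n → F) :
    Cfsg.hermForm n F q u (∑ i ∈ s, a i • b i) =
      ∑ i ∈ s, (a i) ^ q * Cfsg.hermForm n F q u (b i) := by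
  classical
  induction s using Finset.induction_on with
  | empty => simp [herm_zero_right hF]
  | insert i s hi ih =>
    rw [Finset.sum_insert hi, Finset.sum_insert hi, herm_add_right hF, herm_smul_right, ih]

theorem herm_single_right (hF : Fintype.card F = q ^ 2) (x : Fin n → F) (i : Fin n) :
    Cfsg.hermForm n F q x (Pi.single i 1) = x i := by
  classical
  have hq := two_le_q hF
  unfold Cfsg.hermForm
  rw [Finset.sum_eq_single i]
  · simp
  · intro j _ hj
    rw [Pi.single_eq_of_ne hj, zero_pow (by omega), mul_zero]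
  · intro h; exact absurd (Finset.mem_univ i) h

theorem herm_single_left (y : Fin n → F) (i : Fin n) :
    Cfsg.hermForm n F q (Pi.single i 1) y = (y i) ^ q := by
  classical
  unfold Cfsg.hermForm
  rw [Finset.sum_eq_single i]
  · simp
  · intro j _ hj
    rw [Pi.single_eq_of_ne hj, zero_mul]
  · intro h; exact absurd (Finset.mem_univ i) h

/-- nondegeneracy of the standard Hermitian form. -/
theorem eq_zero_of_forall_herm (hF : Fintype.card F = q ^ 2) (y : Fin n → F)
    (h : ∀ x, Cfsg.hermForm n F q x y = 0) : y = 0 := by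
  classical
  have hq := two_le_q hF
  funext i
  have := h (Pi.single i 1)
  rw [herm_single_left] at this
  exact pow_eq_zero_iff (by omega) |>.mp this

/-- the trace is not identically zero. -/
theorem exists_trace_ne_zero (hF : Fintype.card F = q ^ 2) : ∃ μ : F, μ + μ ^ q ≠ 0 := by
  classical
  have hq := two_le_q hF
  by_contra hcon
  push Not at hcon
  -- every element satisfies μ^q = -μ; then every nonzero μ gives a fixed unit μ / 1... use μ₀ = 1
  have h1 : ∀ μ : F, μ ^ q = -μ := fun μ => by
    have := hcon μ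
    exact eq_neg_of_add_eq_zero_right this
  have hsub : (Finset.univ.filter (fun c : F => c ≠ 0)) ⊆ fixedUnits F q := by
    intro c hc
    simp only [Finset.mem_filter, Finset.mem_univ, true_and] at hc
    simp only [fixedUnits, Finset.mem_filter, Finset.mem_univ, true_and]
    refine ⟨hc, ?_⟩
    -- c = c * 1 ... use c^q = -c and 1^q = -1
    have e1 := h1 1
    rw [one_pow] at e1
    rw [h1 c]
    calc -c = (-1) * c := by ring
      _ = 1 * c := by rw [← e1]
      _ = c := one_mul c
  have h2 := Finset.card_le_card hsub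
  rw [card_fixedUnits hF, Finset.filter_ne' Finset.univ (0 : F),
    Finset.card_erase_of_mem (Finset.mem_univ _), Finset.card_univ, hF] at h2
  have h3 : q ^ 2 = q * q := sq q
  have h4 : 2 * q ≤ q * q := Nat.mul_le_mul_right q hq
  omega

/-- polarization: a subspace consisting of isotropic vectors is totally isotropic. -/
theorem herm_eq_zero_of_isotropic (hF : Fintype.card F = q ^ 2) (S : Set (Fin n → F))
    (hadd : ∀ x ∈ S, ∀ y ∈ S, x + y ∈ S) (hsmul : ∀ (c : F), ∀ x ∈ S, c • x ∈ S)
    (hiso : ∀ x ∈ S, Cfsg.hermForm n F q x x = 0) :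
    ∀ x ∈ S, ∀ y ∈ S, Cfsg.hermForm n F q x y = 0 := by
  intro x hx y hy
  by_contra ht
  obtain ⟨μ, hμ⟩ := exists_trace_ne_zero hF
  set t := Cfsg.hermForm n F q x y with ht_def
  -- choose λ with λ^q * t = μ
  set l : F := (μ / t) ^ q with hl
  have hlq : l ^ q = μ / t := pow_q_pow_q hF _
  have h1 := hiso (x + l • y) (hadd x hx _ (hsmul l y hy))
  rw [herm_add_left, herm_add_right hF, herm_add_right hF, herm_smul_left, herm_smul_left,
    herm_smul_right, herm_smul_right, hiso x hx, hiso y hy, ← herm_conj hF x y, ← ht_def, hlq] at h1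
  apply hμ
  have h2 : μ / t * t = μ := div_mul_cancel₀ μ ht
  have h3 : l * t ^ q = μ ^ q := by
    rw [hl, ← mul_pow, h2]
  rw [← h3]
  have h4 : μ / t * t + l * t ^ q = 0 := by linear_combination h1
  rw [h2] at h4
  exact h4

/-- orthonormality of the first `k` vectors of a sequence. -/
def ON (q : ℕ) (b : ℕ → Fin n → F) (k : ℕ) : Prop :=
  ∀ i < k, ∀ j < k, Cfsg.hermForm n F q (b i) (b j) = if i = j then 1 else 0

/-- an orthonormal sequence of fewer than `n` vectors can be extended. -/
theorem exists_extend (hF : Fintype.card F = q ^ 2) (b : ℕ → Fin n → F) (k : ℕ) (hk : k < n)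
    (hON : ON q b k) :
    ∃ z : Fin n → F, Cfsg.hermForm n F q z z = 1 ∧ ∀ i < k, Cfsg.hermForm n F q z (b i) = 0 := by
  classical
  have hq := two_le_q hF
  set S : Set (Fin n → F) := {x | ∀ i < k, Cfsg.hermForm n F q x (b i) = 0} with hS
  set proj : (Fin n → F) → (Fin n → F) := fun x =>
    x - ∑ i ∈ Finset.range k, Cfsg.hermForm n F q x (b i) • b i with hproj
  have hprojS : ∀ x, proj x ∈ S := by
    intro x j hj
    rw [hproj]
    simp only
    rw [herm_sub_left, herm_sum_left, Finset.sum_eq_single j]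
    · rw [hON j hj j hj, if_pos rfl, mul_one, sub_self]
    · intro i hi hij
      rw [hON i (Finset.mem_range.mp hi) j hj, if_neg hij, mul_zero]
    · intro h; exact absurd (Finset.mem_range.mpr hj) h
  have hSadd : ∀ x ∈ S, ∀ y ∈ S, x + y ∈ S := by
    intro x hx y hy i hi
    rw [herm_add_left, hx i hi, hy i hi, add_zero]
  have hSsmul : ∀ (c : F), ∀ x ∈ S, c • x ∈ S := by
    intro c x hx i hi
    rw [herm_smul_left, hx i hi, mul_zero]
  -- a nonzero vector of S
  obtain ⟨y, hyS, hy0⟩ : ∃ y ∈ S, y ≠ 0 := by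
    have hspan : Submodule.span F (((Finset.range k).image b : Finset (Fin n → F)) : Set (Fin n → F))
        ≠ ⊤ := by
      intro htop
      have h1 := finrank_span_finset_le_card (R := F) ((Finset.range k).image b)
      unfold Set.finrank at h1
      rw [htop, finrank_top, Module.finrank_fin_fun] at h1
      have h2 := Finset.card_image_le (s := Finset.range k) (f := b)
      rw [Finset.card_range] at h2
      omega
    obtain ⟨x, hx⟩ : ∃ x, x ∉ Submodule.span F
        (((Finset.range k).image b : Finset (Fin n → F)) : Set (Fin n → F)) := by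
      by_contra hcon
      push Not at hcon
      exact hspan (eq_top_iff.mpr (fun x _ => hcon x))
    refine ⟨proj x, hprojS x, ?_⟩
    intro h0
    apply hx
    have : x = ∑ i ∈ Finset.range k, Cfsg.hermForm n F q x (b i) • b i := by
      have := sub_eq_zero.mp h0
      exact this
    rw [this]
    apply Submodule.sum_mem
    intro i hi
    apply Submodule.smul_mem
    apply Submodule.subset_span
    exact Finset.mem_coe.mpr (Finset.mem_image_of_mem b hi)
  -- a nonisotropic vector of S
  obtain ⟨z, hzS, hz⟩ : ∃ z ∈ S, Cfsg.hermForm n F q z z ≠ 0 := by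
    by_contra hcon
    push Not at hcon
    have hall := herm_eq_zero_of_isotropic hF S hSadd hSsmul hcon
    apply hy0
    apply eq_zero_of_forall_herm hF
    intro w
    have hw : w = proj w + ∑ i ∈ Finset.range k, Cfsg.hermForm n F q w (b i) • b i := by
      rw [hproj]; simp
    rw [hw, herm_add_left, hall _ (hprojS w) y hyS, zero_add, herm_sum_left]
    apply Finset.sum_eq_zero
    intro i hi
    rw [← herm_conj hF y (b i), hyS i (Finset.mem_range.mp hi), zero_pow (by omega), mul_zero]
  -- rescale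
  set c := Cfsg.hermForm n F q z z with hc
  have hcq : c ^ q = c := herm_conj hF z z
  have hcmem : c ∈ fixedUnits F q := by
    simp only [fixedUnits, Finset.mem_filter, Finset.mem_univ, true_and]
    exact ⟨hz, hcq⟩
  obtain ⟨l, hl0, hl⟩ := exists_nrm_eq hF hcmem
  refine ⟨l⁻¹ • z, ?_, ?_⟩
  · rw [herm_smul_left, herm_smul_right, ← hc, ← hl]
    unfold nrm
    rw [inv_pow]
    have : l ^ q ≠ 0 := pow_ne_zero _ hl0
    field_simp
  · intro i hi
    exact hSsmul _ z hzS i hi

/-- a vector of norm one is the first vector of an orthonormal sequence. -/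
theorem exists_ON (hF : Fintype.card F = q ^ 2) (v : Fin n → F)
    (hv : Cfsg.hermForm n F q v v = 1) :
    ∀ k, 1 ≤ k → k ≤ n → ∃ b : ℕ → Fin n → F, b 0 = v ∧ ON q b k := by
  classical
  have hq := two_le_q hF
  intro k hk1
  induction k, hk1 using Nat.le_induction with
  | base =>
    intro _
    refine ⟨fun _ => v, rfl, ?_⟩
    intro i hi j hj
    have hi0 : i = 0 := by omega
    have hj0 : j = 0 := by omega
    subst hi0; subst hj0
    rw [if_pos rfl]; exact hv
  | succ k hk ih =>
    intro hkn
    obtain ⟨b, hb0, hON⟩ := ih (by omega)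
    obtain ⟨z, hz1, hz2⟩ := exists_extend hF b k (by omega) hON
    refine ⟨Function.update b k z, ?_, ?_⟩
    · rw [Function.update_of_ne (by omega)]; exact hb0
    · intro i hi j hj
      by_cases hik : i = k
      · by_cases hjk : j = k
        · subst hik; subst hjk
          rw [Function.update_self, if_pos rfl]; exact hz1
        · subst hik
          rw [Function.update_self, Function.update_of_ne hjk, if_neg (fun h => hjk h.symm)]
          exact hz2 j (by omega)
      · by_cases hjk : j = k
        · subst hjk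
          rw [Function.update_self, Function.update_of_ne hik, if_neg hik,
            ← herm_conj hF z (b i), hz2 i (by omega), zero_pow (by omega)]
        · rw [Function.update_of_ne hik, Function.update_of_ne hjk]
          exact hON i (by omega) j (by omega)

/-- the matrix whose columns are the first `n` vectors of a sequence. -/
def colMat (b : ℕ → Fin n → F) : Matrix (Fin n) (Fin n) F := Matrix.of (fun i j => b j i)

theorem colMat_mulVec (b : ℕ → Fin n → F) (x : Fin n → F) :
    colMat b *ᵥ x = ∑ j : Fin n, x j • b j := by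
  funext i
  rw [Matrix.mulVec, dotProduct, Finset.sum_apply]
  apply Finset.sum_congr rfl
  intro j _
  rw [Pi.smul_apply, smul_eq_mul, mul_comm]
  rfl

theorem herm_colMat (hF : Fintype.card F = q ^ 2) (b : ℕ → Fin n → F) (hON : ON q b n)
    (x y : Fin n → F) :
    Cfsg.hermForm n F q (colMat b *ᵥ x) (colMat b *ᵥ y) = Cfsg.hermForm n F q x y := by
  classical
  rw [colMat_mulVec, colMat_mulVec, herm_sum_left]
  unfold Cfsg.hermForm
  apply Finset.sum_congr rfl
  intro j _
  congr 1
  have := herm_sum_right hF Finset.univ y (fun k : Fin n => b k) (b j)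
  unfold Cfsg.hermForm at this
  rw [this, Finset.sum_eq_single j]
  · have h1 := hON j j.2 j j.2
    unfold Cfsg.hermForm at h1
    rw [h1, if_pos rfl, mul_one]
  · intro k _ hkj
    have h1 := hON j j.2 k k.2
    unfold Cfsg.hermForm at h1
    rw [h1, if_neg (fun h => hkj (Fin.ext h.symm)), mul_zero]
  · intro h; exact absurd (Finset.mem_univ j) h

theorem eq_zero_of_forall_herm_left (hF : Fintype.card F = q ^ 2) (x : Fin n → F)
    (h : ∀ w, Cfsg.hermForm n F q x w = 0) : x = 0 := by
  have hq := two_le_q hF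
  apply eq_zero_of_forall_herm hF
  intro w
  rw [← herm_conj hF x w, h w, zero_pow (by omega)]

/-- a matrix preserving the form is invertible. -/
theorem isUnit_of_preserves (hF : Fintype.card F = q ^ 2) (M : Matrix (Fin n) (Fin n) F)
    (hM : ∀ u v, Cfsg.hermForm n F q (M *ᵥ u) (M *ᵥ v) = Cfsg.hermForm n F q u v) : IsUnit M := by
  rw [← Matrix.mulVec_injective_iff_isUnit]
  intro u v huv
  have h0 : M *ᵥ (u - v) = 0 := by rw [Matrix.mulVec_sub, huv, sub_self]
  have : u - v = 0 := by
    apply eq_zero_of_forall_herm_left hF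
    intro w
    rw [← hM, h0, herm_zero_left]
  exact sub_eq_zero.mp this

/-- the element of `GU` given by a form-preserving matrix. -/
noncomputable def mkGU (hF : Fintype.card F = q ^ 2) (M : Matrix (Fin n) (Fin n) F)
    (hM : ∀ u v, Cfsg.hermForm n F q (M *ᵥ u) (M *ᵥ v) = Cfsg.hermForm n F q u v) :
    Cfsg.GU n F q :=
  ⟨(isUnit_of_preserves hF M hM).unit, by
    intro u v
    change Cfsg.hermForm n F q (((isUnit_of_preserves hF M hM).unit : Matrix (Fin n) (Fin n) F) *ᵥ u)
      (((isUnit_of_preserves hF M hM).unit : Matrix (Fin n) (Fin n) F) *ᵥ v) = _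
    rw [IsUnit.unit_spec]
    exact hM u v⟩

theorem mkGU_coe (hF : Fintype.card F = q ^ 2) (M : Matrix (Fin n) (Fin n) F)
    (hM : ∀ u v, Cfsg.hermForm n F q (M *ᵥ u) (M *ᵥ v) = Cfsg.hermForm n F q u v) :
    (((mkGU hF M hM : Cfsg.GU n F q) : Matrix.GeneralLinearGroup (Fin n) F) :
      Matrix (Fin n) (Fin n) F) = M := IsUnit.unit_spec _

theorem GU_preserves (g : Cfsg.GU n F q) (u v : Fin n → F) :
    Cfsg.hermForm n F q (((g : Matrix.GeneralLinearGroup (Fin n) F) : Matrix (Fin n) (Fin n) F) *ᵥ u)
      (((g : Matrix.GeneralLinearGroup (Fin n) F) : Matrix (Fin n) (Fin n) F) *ᵥ v) =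
      Cfsg.hermForm n F q u v := g.2 u v

theorem GU_ext {g h : Cfsg.GU n F q}
    (hgh : ((g : Matrix.GeneralLinearGroup (Fin n) F) : Matrix (Fin n) (Fin n) F) =
      ((h : Matrix.GeneralLinearGroup (Fin n) F) : Matrix (Fin n) (Fin n) F)) : g = h :=
  Subtype.ext (Units.ext hgh)

/-- transitivity on vectors of norm one. -/
theorem exists_GU_map (hF : Fintype.card F = q ^ 2) (v : Fin (n + 1) → F)
    (hv : Cfsg.hermForm (n + 1) F q v v = 1) :
    ∃ g : Cfsg.GU (n + 1) F q,
      ((g : Matrix.GeneralLinearGroup (Fin (n + 1)) F) : Matrix (Fin (n + 1)) (Fin (n + 1)) F) *ᵥ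
        (Pi.single 0 1) = v := by
  classical
  obtain ⟨b, hb0, hON⟩ := exists_ON hF v hv (n + 1) (by omega) le_rfl
  refine ⟨mkGU hF (colMat b) (herm_colMat hF b hON), ?_⟩
  rw [mkGU_coe, colMat_mulVec, Finset.sum_eq_single 0]
  · simp [hb0]
  · intro j _ hj
    rw [Pi.single_eq_of_ne hj, zero_smul]
  · intro h; exact absurd (Finset.mem_univ _) h

/-- the form splits off the first coordinate. -/
theorem herm_succ2 (x y : Fin (n + 1) → F) :
    Cfsg.hermForm (n + 1) F q x y =
      x 0 * (y 0) ^ q + Cfsg.hermForm n F q (Fin.tail x) (Fin.tail y) := by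
  unfold Cfsg.hermForm
  rw [Fin.sum_univ_succ]
  rfl

theorem cons_add (a a' : F) (y y' : Fin n → F) :
    (Fin.cons (a + a') (y + y') : Fin (n + 1) → F) = Fin.cons a y + Fin.cons a' y' := by
  funext i
  refine Fin.cases ?_ (fun k => ?_) i <;> simp

theorem cons_smul (c a : F) (y : Fin n → F) :
    (Fin.cons (c * a) (c • y) : Fin (n + 1) → F) = c • Fin.cons a y := by
  funext i
  refine Fin.cases ?_ (fun k => ?_) i <;> simp

theorem tail_add (x y : Fin (n + 1) → F) : Fin.tail (x + y) = Fin.tail x + Fin.tail y := rfl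

theorem tail_smul (c : F) (x : Fin (n + 1) → F) : Fin.tail (c • x) = c • Fin.tail x := rfl

/-- extension of a matrix by the identity on the first coordinate, as a linear map. -/
def embLin (A : Matrix (Fin n) (Fin n) F) : (Fin (n + 1) → F) →ₗ[F] (Fin (n + 1) → F) where
  toFun x := Fin.cons (x 0) (A *ᵥ Fin.tail x)
  map_add' x y := by
    rw [tail_add, Matrix.mulVec_add, Pi.add_apply, cons_add]
  map_smul' c x := by
    rw [tail_smul, Matrix.mulVec_smul, Pi.smul_apply, smul_eq_mul, cons_smul, RingHom.id_apply]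

noncomputable def emb (A : Matrix (Fin n) (Fin n) F) : Matrix (Fin (n + 1)) (Fin (n + 1)) F :=
  LinearMap.toMatrix' (embLin A)

theorem emb_mulVec (A : Matrix (Fin n) (Fin n) F) (x : Fin (n + 1) → F) :
    emb A *ᵥ x = Fin.cons (x 0) (A *ᵥ Fin.tail x) := by
  unfold emb
  rw [LinearMap.toMatrix'_mulVec]
  rfl

theorem emb_preserves (A : Matrix (Fin n) (Fin n) F)
    (hA : ∀ u v, Cfsg.hermForm n F q (A *ᵥ u) (A *ᵥ v) = Cfsg.hermForm n F q u v)
    (x y : Fin (n + 1) → F) :
    Cfsg.hermForm (n + 1) F q (emb A *ᵥ x) (emb A *ᵥ y) = Cfsg.hermForm (n + 1) F q x y := by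
  rw [herm_succ2, emb_mulVec, emb_mulVec, Fin.tail_cons, Fin.tail_cons, hA, herm_succ2]
  simp

theorem single_zero_eq : (Pi.single 0 1 : Fin (n + 1) → F) = Fin.cons 1 0 := by
  funext i
  refine Fin.cases ?_ (fun k => ?_) i
  · simp
  · simp [Fin.succ_ne_zero]

theorem emb_e₀ (A : Matrix (Fin n) (Fin n) F) :
    emb A *ᵥ (Pi.single 0 1 : Fin (n + 1) → F) = Pi.single 0 1 := by
  rw [emb_mulVec, single_zero_eq]
  simp

theorem emb_injective : Function.Injective (emb : Matrix (Fin n) (Fin n) F → _) := by
  intro A B h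
  apply Matrix.mulVec_injective
  funext y
  have h1 := congrArg (fun M => Fin.tail (M *ᵥ (Fin.cons 0 y : Fin (n + 1) → F))) h
  simp only [emb_mulVec, Fin.tail_cons] at h1
  exact h1

def cutLin (g : Matrix (Fin (n + 1)) (Fin (n + 1)) F) : (Fin n → F) →ₗ[F] (Fin n → F) where
  toFun y := Fin.tail (g *ᵥ (Fin.cons 0 y : Fin (n + 1) → F))
  map_add' y y' := by
    have : (Fin.cons 0 (y + y') : Fin (n + 1) → F) = Fin.cons 0 y + Fin.cons 0 y' := by
      rw [← cons_add, add_zero]
    rw [this, Matrix.mulVec_add, tail_add]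
  map_smul' c y := by
    have : (Fin.cons 0 (c • y) : Fin (n + 1) → F) = c • Fin.cons 0 y := by
      rw [← cons_smul, mul_zero]
    rw [this, Matrix.mulVec_smul, tail_smul, RingHom.id_apply]

noncomputable def cut (g : Matrix (Fin (n + 1)) (Fin (n + 1)) F) : Matrix (Fin n) (Fin n) F :=
  LinearMap.toMatrix' (cutLin g)

theorem cut_mulVec (g : Matrix (Fin (n + 1)) (Fin (n + 1)) F) (y : Fin n → F) :
    cut g *ᵥ y = Fin.tail (g *ᵥ (Fin.cons 0 y : Fin (n + 1) → F)) := by
  unfold cut
  rw [LinearMap.toMatrix'_mulVec]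
  rfl

theorem decomp (x : Fin (n + 1) → F) :
    x = x 0 • (Pi.single 0 1 : Fin (n + 1) → F) + Fin.cons 0 (Fin.tail x) := by
  conv_lhs => rw [← Fin.cons_self_tail x]
  rw [single_zero_eq, ← cons_smul, ← cons_add]
  simp

/-- the stabilizer of the first basis vector consists of embedded matrices. -/
theorem eq_emb_cut (hF : Fintype.card F = q ^ 2) (g : Matrix (Fin (n + 1)) (Fin (n + 1)) F)
    (hg : ∀ u v, Cfsg.hermForm (n + 1) F q (g *ᵥ u) (g *ᵥ v) = Cfsg.hermForm (n + 1) F q u v)
    (he : g *ᵥ (Pi.single 0 1) = Pi.single 0 1) :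
    (∀ u v, Cfsg.hermForm n F q (cut g *ᵥ u) (cut g *ᵥ v) = Cfsg.hermForm n F q u v) ∧
      g = emb (cut g) := by
  have hq := two_le_q hF
  have hz : ∀ z : Fin (n + 1) → F, z 0 = 0 → (g *ᵥ z) 0 = 0 := by
    intro z h1
    have := hg z (Pi.single 0 1)
    rw [he, herm_single_right hF, herm_single_right hF, h1] at this
    exact this
  constructor
  · intro y y'
    rw [cut_mulVec, cut_mulVec]
    have h1 := hg (Fin.cons 0 y) (Fin.cons 0 y')
    rw [herm_succ2, herm_succ2, hz _ (Fin.cons_zero _ _), Fin.tail_cons, Fin.tail_cons] at h1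
    simpa using h1
  · apply Matrix.mulVec_injective
    funext x
    rw [emb_mulVec, cut_mulVec]
    conv_lhs => rw [decomp x]
    rw [Matrix.mulVec_add, Matrix.mulVec_smul, he]
    have h2 : g *ᵥ (Fin.cons 0 (Fin.tail x) : Fin (n + 1) → F) =
        Fin.cons 0 (Fin.tail (g *ᵥ (Fin.cons 0 (Fin.tail x) : Fin (n + 1) → F))) := by
      conv_lhs => rw [← Fin.cons_self_tail (g *ᵥ (Fin.cons 0 (Fin.tail x) : Fin (n + 1) → F)),
        hz _ (Fin.cons_zero _ _)]
    rw [h2, single_zero_eq, ← cons_smul, ← cons_add]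
    simp

end Cfsg.Agent.Lib.Helper1.GUBasic
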