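import Mathlib
import Cfsg.Prelude
import Cfsg.Agent.Lib.Helper1.GUBasic

set_option autoImplicit false
set_option linter.unusedSectionVars false

namespace Cfsg.Agent.Lib.Helper1.GUCard

open Cfsg.Agent.Lib.Helper2.Herm Cfsg.Agent.Lib.Helper1.HermCount Cfsg.Agent.Lib.Helper1.GUBasic Matrix

variable {F : Type*} [Field F] [Fintype F] {q : ℕ} {n : ℕ}

/-- a wrapped copy of the space of vectors, to carry the action. -/
@[ext] structure VecW (n : ℕ) (F : Type*) where
  v : Fin n → F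

/-- the action of `GU` on vectors. -/
@[reducible] def vecAction (n : ℕ) (F : Type*) [Field F] (q : ℕ) :
    MulAction (Cfsg.GU n F q) (VecW n F) where
  smul g w := ⟨((g : Matrix.GeneralLinearGroup (Fin n) F) : Matrix (Fin n) (Fin n) F) *ᵥ w.v⟩
  one_smul w := by
    change (⟨(((1 : Cfsg.GU n F q) : Matrix.GeneralLinearGroup (Fin n) F) :
      Matrix (Fin n) (Fin n) F) *ᵥ w.v⟩ : VecW n F) = w
    simp
  mul_smul g h w := by
    change (⟨(((g * h : Cfsg.GU n F q) : Matrix.GeneralLinearGroup (Fin n) F) :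
      Matrix (Fin n) (Fin n) F) *ᵥ w.v⟩ : VecW n F) =
      ⟨((g : Matrix.GeneralLinearGroup (Fin n) F) : Matrix (Fin n) (Fin n) F) *ᵥ
        (((h : Matrix.GeneralLinearGroup (Fin n) F) : Matrix (Fin n) (Fin n) F) *ᵥ w.v)⟩
    rw [Subgroup.coe_mul, Units.val_mul, Matrix.mulVec_mulVec]

attribute [local instance] vecAction

theorem smul_def (g : Cfsg.GU n F q) (w : VecW n F) :
    g • w = ⟨((g : Matrix.GeneralLinearGroup (Fin n) F) : Matrix (Fin n) (Fin n) F) *ᵥ w.v⟩ := rfl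

theorem orbit_eq (hF : Fintype.card F = q ^ 2) :
    MulAction.orbit (Cfsg.GU (n + 1) F q) (⟨Pi.single 0 1⟩ : VecW (n + 1) F) =
      {w : VecW (n + 1) F | Cfsg.hermForm (n + 1) F q w.v w.v = 1} := by
  ext w
  constructor
  · rintro ⟨g, rfl⟩
    change Cfsg.hermForm (n + 1) F q (g • (⟨Pi.single 0 1⟩ : VecW (n + 1) F)).v
      (g • (⟨Pi.single 0 1⟩ : VecW (n + 1) F)).v = 1
    rw [smul_def, GU_preserves, herm_single_right hF]
    simp
  · intro hv
    obtain ⟨g, hg⟩ := exists_GU_map hF w.v hv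
    refine ⟨g, ?_⟩
    change g • (⟨Pi.single 0 1⟩ : VecW (n + 1) F) = w
    rw [smul_def]
    exact VecW.ext hg

theorem card_stabilizer (hF : Fintype.card F = q ^ 2) :
    Nat.card (MulAction.stabilizer (Cfsg.GU (n + 1) F q) (⟨Pi.single 0 1⟩ : VecW (n + 1) F)) =
      Nat.card (Cfsg.GU n F q) := by
  symm
  apply Nat.card_congr
  refine Equiv.ofBijective (fun A => ⟨mkGU hF (emb (((A : Cfsg.GU n F q) :
    Matrix.GeneralLinearGroup (Fin n) F) : Matrix (Fin n) (Fin n) F))
      (emb_preserves _ (GU_preserves A)), ?_⟩) ⟨?_, ?_⟩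
  · rw [MulAction.mem_stabilizer_iff, smul_def, mkGU_coe, emb_e₀]
  · intro A B h
    have h1 := congrArg (fun z => ((z.1 : Matrix.GeneralLinearGroup (Fin (n + 1)) F) :
      Matrix (Fin (n + 1)) (Fin (n + 1)) F)) h
    simp only [mkGU_coe] at h1
    exact GU_ext (emb_injective h1)
  · rintro ⟨g, hg⟩
    rw [MulAction.mem_stabilizer_iff, smul_def] at hg
    have hg' := congrArg VecW.v hg
    simp only at hg'
    obtain ⟨h1, h2⟩ := eq_emb_cut hF _ (GU_preserves g) hg'
    refine ⟨mkGU hF _ h1, ?_⟩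
    apply Subtype.ext
    apply GU_ext
    simp only [mkGU_coe]
    exact h2.symm

/-- the recursion for the order of the unitary group. -/
theorem card_succ (hF : Fintype.card F = q ^ 2) :
    Nat.card (Cfsg.GU (n + 1) F q) =
      Nat.card {v : Fin (n + 1) → F // Cfsg.hermForm (n + 1) F q v v = 1} *
        Nat.card (Cfsg.GU n F q) := by
  have h1 := Subgroup.index_mul_card (MulAction.stabilizer (Cfsg.GU (n + 1) F q)
    (⟨Pi.single 0 1⟩ : VecW (n + 1) F))
  rw [MulAction.index_stabilizer, orbit_eq hF, card_stabilizer hF, ← Nat.card_coe_set_eq] at h1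
  rw [← h1]
  congr 1
  apply Nat.card_congr
  exact ⟨fun w => ⟨w.1.v, w.2⟩, fun v => ⟨⟨v.1⟩, v.2⟩, fun _ => rfl, fun _ => rfl⟩

end Cfsg.Agent.Lib.Helper1.GUCard
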