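import Mathlib
import Cfsg.Prelude
import Cfsg.Agent.S0278

set_option autoImplicit false
set_option linter.unusedSectionVars false

namespace Cfsg.Agent.Lib.Helper1.SUCenter

open Cfsg.Agent.Lib.Helper2.Herm Cfsg.Agent.Lib.Helper1.HermCount Cfsg.Agent.Lib.Helper1.GUBasic Matrix
open Cfsg.Agent.S0278

variable {F : Type*} [Field F] [Fintype F] {q : ℕ} {n : ℕ}

/-- the element of `SU` given by a form-preserving matrix of determinant one. -/
def mkSU (M : Matrix (Fin n) (Fin n) F) (hdet : M.det = 1)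
    (hM : ∀ u v, Cfsg.hermForm n F q (M *ᵥ u) (M *ᵥ v) = Cfsg.hermForm n F q u v) :
    Cfsg.SU n F q :=
  ⟨⟨M, hdet⟩, hM⟩

theorem mkSU_coe (M : Matrix (Fin n) (Fin n) F) (hdet : M.det = 1)
    (hM : ∀ u v, Cfsg.hermForm n F q (M *ᵥ u) (M *ᵥ v) = Cfsg.hermForm n F q u v) :
    (((mkSU M hdet hM : Cfsg.SU n F q) : Matrix.SpecialLinearGroup (Fin n) F) :
      Matrix (Fin n) (Fin n) F) = M := rfl

theorem SU_preserves (g : Cfsg.SU n F q) (u v : Fin n → F) :
    Cfsg.hermForm n F q
      (((g : Matrix.SpecialLinearGroup (Fin n) F) : Matrix (Fin n) (Fin n) F) *ᵥ u)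
      (((g : Matrix.SpecialLinearGroup (Fin n) F) : Matrix (Fin n) (Fin n) F) *ᵥ v) =
      Cfsg.hermForm n F q u v := g.2 u v

theorem SU_ext {g h : Cfsg.SU n F q}
    (hgh : ((g : Matrix.SpecialLinearGroup (Fin n) F) : Matrix (Fin n) (Fin n) F) =
      ((h : Matrix.SpecialLinearGroup (Fin n) F) : Matrix (Fin n) (Fin n) F)) : g = h :=
  Subtype.ext (Subtype.ext hgh)

/-- commuting with a central element, at the level of `mulVec`. -/
theorem central_comm (g : Cfsg.SU n F q) (hg : g ∈ Subgroup.center (Cfsg.SU n F q))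
    (h : Cfsg.SU n F q) (x : Fin n → F) :
    ((g : Matrix.SpecialLinearGroup (Fin n) F) : Matrix (Fin n) (Fin n) F) *ᵥ
      (((h : Matrix.SpecialLinearGroup (Fin n) F) : Matrix (Fin n) (Fin n) F) *ᵥ x) =
    ((h : Matrix.SpecialLinearGroup (Fin n) F) : Matrix (Fin n) (Fin n) F) *ᵥ
      (((g : Matrix.SpecialLinearGroup (Fin n) F) : Matrix (Fin n) (Fin n) F) *ᵥ x) := by
  have h1 := Subgroup.mem_center_iff.mp hg h
  have h2 : ((h : Matrix.SpecialLinearGroup (Fin n) F) : Matrix (Fin n) (Fin n) F) *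
      ((g : Matrix.SpecialLinearGroup (Fin n) F) : Matrix (Fin n) (Fin n) F) =
      ((g : Matrix.SpecialLinearGroup (Fin n) F) : Matrix (Fin n) (Fin n) F) *
      ((h : Matrix.SpecialLinearGroup (Fin n) F) : Matrix (Fin n) (Fin n) F) := by
    have := congrArg (fun z : Cfsg.SU n F q =>
      ((z : Matrix.SpecialLinearGroup (Fin n) F) : Matrix (Fin n) (Fin n) F)) h1
    simpa using this
  rw [Matrix.mulVec_mulVec, Matrix.mulVec_mulVec, h2]

/-- the diagonal element of `SU` with given entries. -/
def diagSU (d : Fin n → F) (hd : ∀ i, nrm q (d i) = 1) (hprod : ∏ i, d i = 1) : Cfsg.SU n F q :=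
  mkSU (Matrix.diagonal d) (by rw [Matrix.det_diagonal]; exact hprod) (diag_preserves d hd)

/-- entries of a central element vanish where some diagonal element of `SU` separates. -/
theorem central_entry_zero (g : Cfsg.SU n F q) (hg : g ∈ Subgroup.center (Cfsg.SU n F q))
    (d : Fin n → F) (hd : ∀ i, nrm q (d i) = 1) (hprod : ∏ i, d i = 1) (i j : Fin n)
    (hij : d i ≠ d j) :
    ((g : Matrix.SpecialLinearGroup (Fin n) F) : Matrix (Fin n) (Fin n) F) i j = 0 := by
  classical
  have h1 := central_comm g hg (diagSU d hd hprod) (Pi.single j 1)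
  have h2 := congrFun h1 i
  unfold diagSU at h2
  rw [mkSU_coe, Matrix.mulVec_diagonal] at h2
  have h3 : Matrix.diagonal d *ᵥ (Pi.single j (1 : F)) = d j • Pi.single j 1 := by
    funext a
    rw [Matrix.mulVec_diagonal, Pi.smul_apply, smul_eq_mul]
    by_cases ha : a = j
    · rw [ha]
    · rw [Pi.single_eq_of_ne ha, mul_zero, mul_zero]
  rw [h3, Matrix.mulVec_smul, Pi.smul_apply, smul_eq_mul, Matrix.mulVec_single_one] at h2
  have h4 : (d j - d i) * ((g : Matrix.SpecialLinearGroup (Fin n) F) :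
      Matrix (Fin n) (Fin n) F) i j = 0 := by
    have : ((g : Matrix.SpecialLinearGroup (Fin n) F) : Matrix (Fin n) (Fin n) F).col j i =
      ((g : Matrix.SpecialLinearGroup (Fin n) F) : Matrix (Fin n) (Fin n) F) i j := rfl
    rw [this] at h2
    linear_combination h2
  rcases mul_eq_zero.mp h4 with h | h
  · exact absurd (sub_eq_zero.mp h).symm hij
  · exact h

/-- there is a nontrivial element of norm one. -/
theorem exists_norm_one_ne_one (hF : Fintype.card F = q ^ 2) :
    ∃ l : F, nrm q l = 1 ∧ l ≠ 1 ∧ l ≠ 0 := by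
  have hq := two_le_q hF
  have h1 := card_norm_one hF
  have h2 : 1 < Nat.card {l : Fˣ // nrm q (l : F) = 1} := by omega
  have : Finite {l : Fˣ // nrm q (l : F) = 1} := Nat.finite_of_card_ne_zero (by omega)
  rw [Finite.one_lt_card_iff_nontrivial] at h2
  obtain ⟨l, hl⟩ := exists_ne (⟨1, by unfold nrm; simp⟩ : {l : Fˣ // nrm q (l : F) = 1})
  refine ⟨(l.1 : F), l.2, ?_, l.1.ne_zero⟩
  intro h
  apply hl
  apply Subtype.ext
  apply Units.ext
  exact h

theorem nrm_inv (l : F) (hl : nrm q l = 1) : nrm q l⁻¹ = 1 := by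
  unfold nrm at hl ⊢
  rw [inv_pow, ← mul_inv, hl, inv_one]

theorem nrm_one : nrm q (1 : F) = 1 := by unfold nrm; simp

/-- for `n ≥ 3` a central element of `SU` is diagonal. -/
theorem central_offdiag_zero (hF : Fintype.card F = q ^ 2) (hn : 3 ≤ n)
    (g : Cfsg.SU n F q) (hg : g ∈ Subgroup.center (Cfsg.SU n F q)) (i j : Fin n) (hij : i ≠ j) :
    ((g : Matrix.SpecialLinearGroup (Fin n) F) : Matrix (Fin n) (Fin n) F) i j = 0 := by
  classical
  obtain ⟨l, hl1, hlne, hl0⟩ := exists_norm_one_ne_one hF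
  obtain ⟨k, hki, hkj⟩ : ∃ k : Fin n, k ≠ i ∧ k ≠ j := by
    by_contra hcon
    push Not at hcon
    have hsub : (Finset.univ : Finset (Fin n)) ⊆ {i, j} := by
      intro k _
      by_cases hk : k = i
      · simp [hk]
      · simp [hcon k hk]
    have := Finset.card_le_card hsub
    rw [Finset.card_univ, Fintype.card_fin] at this
    have h2 : ({i, j} : Finset (Fin n)).card ≤ 2 := Finset.card_le_two
    omega
  set d : Fin n → F := fun a =>
    (Function.update (fun _ => (1 : F)) i l) a * (Function.update (fun _ => (1 : F)) k l⁻¹) a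
    with hd
  have hd1 : ∀ a, nrm q (d a) = 1 := by
    intro a
    rw [hd]
    simp only
    rw [nrm_mul]
    have e1 : nrm q (Function.update (fun _ => (1 : F)) i l a) = 1 := by
      by_cases ha : a = i
      · rw [ha, Function.update_self]; exact hl1
      · rw [Function.update_of_ne ha]; exact nrm_one
    have e2 : nrm q (Function.update (fun _ => (1 : F)) k l⁻¹ a) = 1 := by
      by_cases ha : a = k
      · rw [ha, Function.update_self]; exact nrm_inv l hl1
      · rw [Function.update_of_ne ha]; exact nrm_one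
    rw [e1, e2, mul_one]
  have hprod : ∏ a, d a = 1 := by
    rw [hd, Finset.prod_mul_distrib, Finset.prod_update_of_mem (Finset.mem_univ _),
      Finset.prod_update_of_mem (Finset.mem_univ _)]
    simp [mul_inv_cancel₀ hl0]
  apply central_entry_zero g hg d hd1 hprod i j
  rw [hd]
  simp only
  rw [Function.update_self, Function.update_of_ne hki.symm, Function.update_of_ne hij.symm,
    Function.update_of_ne hkj.symm]
  simpa using hlne

/-- permutation matrices preserve the form. -/
theorem perm_preserves (σ : Equiv.Perm (Fin n)) (u v : Fin n → F) :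
    Cfsg.hermForm n F q (σ.permMatrix F *ᵥ u) (σ.permMatrix F *ᵥ v) = Cfsg.hermForm n F q u v := by
  rw [Matrix.permMatrix_mulVec, Matrix.permMatrix_mulVec]
  unfold Cfsg.hermForm
  exact Equiv.sum_comp σ (fun a => u a * v a ^ q)

/-- for `n ≥ 3` the diagonal entries of a central element agree. -/
theorem central_diag_eq (hF : Fintype.card F = q ^ 2) (hn : 3 ≤ n)
    (g : Cfsg.SU n F q) (hg : g ∈ Subgroup.center (Cfsg.SU n F q)) (i k : Fin n) (hik : i ≠ k) :
    ((g : Matrix.SpecialLinearGroup (Fin n) F) : Matrix (Fin n) (Fin n) F) i i =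
      ((g : Matrix.SpecialLinearGroup (Fin n) F) : Matrix (Fin n) (Fin n) F) k k := by
  classical
  obtain ⟨l, hli, hlk⟩ : ∃ l : Fin n, l ≠ i ∧ l ≠ k := by
    by_contra hcon
    push Not at hcon
    have hsub : (Finset.univ : Finset (Fin n)) ⊆ {i, k} := by
      intro a _
      by_cases ha : a = i
      · simp [ha]
      · simp [hcon a ha]
    have := Finset.card_le_card hsub
    rw [Finset.card_univ, Fintype.card_fin] at this
    have h2 : ({i, k} : Finset (Fin n)).card ≤ 2 := Finset.card_le_two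
    omega
  set σ : Equiv.Perm (Fin n) := Equiv.swap i k * Equiv.swap k l with hσ
  have hsign : Equiv.Perm.sign σ = 1 := by
    rw [hσ, map_mul, Equiv.Perm.sign_swap hik, Equiv.Perm.sign_swap hlk.symm]
    rfl
  have hσi : σ i = k := by
    rw [hσ, Equiv.Perm.mul_apply, Equiv.swap_apply_of_ne_of_ne hik hli.symm, Equiv.swap_apply_left]
  have hdet : (σ.permMatrix F).det = 1 := by
    rw [Matrix.det_permutation, hsign]; simp
  have hdiag : ∀ (y : Fin n → F) (a : Fin n),
      (((g : Matrix.SpecialLinearGroup (Fin n) F) : Matrix (Fin n) (Fin n) F) *ᵥ y) a =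
      ((g : Matrix.SpecialLinearGroup (Fin n) F) : Matrix (Fin n) (Fin n) F) a a * y a := by
    intro y a
    rw [Matrix.mulVec, dotProduct, Finset.sum_eq_single a]
    · intro b _ hb
      rw [central_offdiag_zero hF hn g hg a b hb.symm, zero_mul]
    · intro h; exact absurd (Finset.mem_univ a) h
  have h1 := central_comm g hg (mkSU (σ.permMatrix F) hdet (perm_preserves σ)) (Pi.single k 1)
  rw [mkSU_coe] at h1
  have h2 := congrFun h1 i
  rw [hdiag, Matrix.permMatrix_mulVec, Matrix.permMatrix_mulVec, Function.comp_apply,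
    Function.comp_apply, hσi, hdiag, Pi.single_eq_same, mul_one, mul_one] at h2
  exact h2

/-- for `n ≥ 3` a central element of `SU` is scalar. -/
theorem central_scalar (hF : Fintype.card F = q ^ 2) (hn : 3 ≤ n)
    (g : Cfsg.SU n F q) (hg : g ∈ Subgroup.center (Cfsg.SU n F q)) (i₀ : Fin n) :
    ((g : Matrix.SpecialLinearGroup (Fin n) F) : Matrix (Fin n) (Fin n) F) =
      (((g : Matrix.SpecialLinearGroup (Fin n) F) : Matrix (Fin n) (Fin n) F) i₀ i₀) • 1 := by
  classical
  ext i j
  rw [Matrix.smul_apply, Matrix.one_apply, smul_eq_mul]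
  by_cases hij : i = j
  · rw [if_pos hij, mul_one, ← hij]
    by_cases hi : i = i₀
    · rw [hi]
    · exact central_diag_eq hF hn g hg i i₀ hi
  · rw [if_neg hij, mul_zero]
    exact central_offdiag_zero hF hn g hg i j hij

/-- the norm one subgroup of the multiplicative group. -/
def normOne (F : Type*) [Field F] [Fintype F] (q : ℕ) : Subgroup Fˣ where
  carrier := {l | nrm q (l : F) = 1}
  one_mem' := by
    change nrm q ((1 : Fˣ) : F) = 1
    rw [Units.val_one]; exact nrm_one
  mul_mem' := by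
    intro a b ha hb
    change nrm q ((a * b : Fˣ) : F) = 1
    rw [Units.val_mul, nrm_mul, ha, hb, mul_one]
  inv_mem' := by
    intro a ha
    change nrm q ((a⁻¹ : Fˣ) : F) = 1
    rw [Units.val_inv_eq_inv_val]
    exact nrm_inv _ ha

theorem card_normOne (hF : Fintype.card F = q ^ 2) : Nat.card (normOne F q) = q + 1 :=
  card_norm_one hF

/-- the scalar elements of `SU`. -/
def scalarSU (l : F) (hl : nrm q l = 1) (hln : l ^ n = 1) : Cfsg.SU n F q :=
  mkSU (l • (1 : Matrix (Fin n) (Fin n) F))
    (by rw [Matrix.det_smul, Matrix.det_one, mul_one, Fintype.card_fin]; exact hln)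
    (by
      intro u v
      rw [Matrix.smul_mulVec, Matrix.smul_mulVec, Matrix.one_mulVec, Matrix.one_mulVec,
        herm_smul_left, herm_smul_right, ← mul_assoc]
      unfold nrm at hl
      rw [hl, one_mul])

theorem scalarSU_mem_center (l : F) (hl : nrm q l = 1) (hln : l ^ n = 1) :
    (scalarSU l hl hln : Cfsg.SU n F q) ∈ Subgroup.center (Cfsg.SU n F q) := by
  rw [Subgroup.mem_center_iff]
  intro h
  apply SU_ext
  change ((h : Matrix.SpecialLinearGroup (Fin n) F) : Matrix (Fin n) (Fin n) F) *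
      (l • (1 : Matrix (Fin n) (Fin n) F)) =
    (l • (1 : Matrix (Fin n) (Fin n) F)) *
      ((h : Matrix.SpecialLinearGroup (Fin n) F) : Matrix (Fin n) (Fin n) F)
  simp

/-- a scalar element of `SU` has norm one and order dividing `n`. -/
theorem scalar_props (hF : Fintype.card F = q ^ 2) (g : Cfsg.SU n F q) (l : F) (i₀ : Fin n)
    (hgl : ((g : Matrix.SpecialLinearGroup (Fin n) F) : Matrix (Fin n) (Fin n) F) = l • 1) :
    nrm q l = 1 ∧ l ^ n = 1 := by
  classical
  constructor
  · have h1 := SU_preserves g (Pi.single i₀ 1) (Pi.single i₀ 1)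
    rw [hgl, Matrix.smul_mulVec, Matrix.one_mulVec, herm_smul_left, herm_smul_right,
      herm_single_right hF, Pi.single_eq_same, mul_one] at h1
    exact h1
  · have h1 : ((g : Matrix.SpecialLinearGroup (Fin n) F) : Matrix (Fin n) (Fin n) F).det = 1 :=
      (g : Matrix.SpecialLinearGroup (Fin n) F).2
    rw [hgl, Matrix.det_smul, Matrix.det_one, mul_one, Fintype.card_fin] at h1
    exact h1

/-- the centre of `SU_n`, `n ≥ 3`, is in bijection with the `n`-torsion of the norm one group. -/
theorem card_center (hF : Fintype.card F = q ^ 2) (hn : 3 ≤ n) :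
    Nat.card (Subgroup.center (Cfsg.SU n F q)) =
      Nat.card (powMonoidHom n : normOne F q →* normOne F q).ker := by
  classical
  set i₀ : Fin n := ⟨0, by omega⟩ with hi₀
  have key : ∀ g : Subgroup.center (Cfsg.SU n F q),
      nrm q ((((g : Cfsg.SU n F q) : Matrix.SpecialLinearGroup (Fin n) F) :
        Matrix (Fin n) (Fin n) F) i₀ i₀) = 1 ∧
      ((((g : Cfsg.SU n F q) : Matrix.SpecialLinearGroup (Fin n) F) :
        Matrix (Fin n) (Fin n) F) i₀ i₀) ^ n = 1 := fun g =>
    scalar_props hF g.1 _ i₀ (central_scalar hF hn g.1 g.2 i₀)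
  have hne : ∀ l : F, nrm q l = 1 → l ≠ 0 := by
    intro l hl h0
    rw [h0, (nrm_eq_zero hF 0).mpr rfl] at hl
    exact zero_ne_one hl
  apply Nat.card_congr
  refine ⟨fun g => ⟨⟨Units.mk0 _ (hne _ (key g).1), (key g).1⟩, ?_⟩,
    fun l => ⟨scalarSU ((l.1.1 : Fˣ) : F) l.1.2 ?_, scalarSU_mem_center _ _ _⟩, ?_, ?_⟩
  · rw [MonoidHom.mem_ker, powMonoidHom_apply]
    apply Subtype.ext
    apply Units.ext
    simp only [SubmonoidClass.coe_pow, Units.val_pow_eq_pow_val, Units.val_mk0]
    exact (key g).2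
  · have := l.2
    rw [MonoidHom.mem_ker, powMonoidHom_apply] at this
    have h2 := congrArg (fun z : normOne F q => ((z.1 : Fˣ) : F)) this
    simpa using h2
  · intro g
    apply Subtype.ext
    apply SU_ext
    change (((Units.mk0 _ (hne _ (key g).1) : Fˣ) : F)) • (1 : Matrix (Fin n) (Fin n) F) = _
    rw [Units.val_mk0]
    exact (central_scalar hF hn g.1 g.2 i₀).symm
  · intro l
    apply Subtype.ext
    apply Subtype.ext
    apply Units.ext
    change (((l.1.1 : Fˣ) : F) • (1 : Matrix (Fin n) (Fin n) F)) i₀ i₀ = _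
    simp

end Cfsg.Agent.Lib.Helper1.SUCenter
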