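import Mathlib
import Cfsg.Agent.Lib.Helper9.CubeUDefs
import Cfsg.Agent.Lib.Helper5.CubeL.DecompL

/-!
# S2511, package U4 (matrix level)

An invariant orthogonal decomposition for a unitary matrix of determinant one multiplies its
projective order `k` (prime to `r`, `r ∣ q + 1`, `r ∤ n`) by `r`: scale one summand by an element
`ζ` of order `r` and rescale by a power of `ζ` to get determinant one again.
-/

set_option autoImplicit false

namespace Cfsg.Agent.Lib.Helper1.CarveU4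

open Module Cfsg.Agent.S0278 Cfsg.Agent.Lib.Helper5.Wall Cfsg.Agent.Lib.Helper5.SUConj
  Cfsg.Agent.Lib.Helper9.CubeU Cfsg.Agent.Lib.Helper2.Herm Cfsg.Agent.Lib.Helper5.PSLCube
  Cfsg.Agent.Lib.Helper5.PSpCube Cfsg.Agent.Lib.Helper1.HermCount

section abstract

variable {F : Type*} [Field F] {V : Type*} [AddCommGroup V] [Module F V] [FiniteDimensional F V]

/-- the projective order of `T * scaleMap ζ` is `r * k` -/
theorem projOrd_mul_scale {n : ℕ} (hn : 1 ≤ n) (hdim : finrank F V = n) {r : ℕ} (hr : r.Prime)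
    {ζ : F} (hζ : orderOf ζ = r) (T : Module.End F V) (hdet : LinearMap.det T = 1) {k : ℕ}
    (hrk : ¬ r ∣ k) (hTk : ∀ j : ℕ, (∃ c : F, T ^ j = c • 1) ↔ k ∣ j)
    (W W' : Submodule F V) (hc : IsCompl W W')
    (hW : ∀ a ∈ W, T a ∈ W) (hW' : ∀ b ∈ W', T b ∈ W') (hW0 : W ≠ ⊥) (hW'0 : W' ≠ ⊥) (j : ℕ) :
    (∃ c : F, (T * scaleMap W W' hc ζ) ^ j = c • 1) ↔ r * k ∣ j := by
  set D := scaleMap W W' hc ζ with hD
  have hcomm : Commute T D := scaleMap_commute hc ζ hW hW'
  have hζr : ζ ^ r = 1 := by rw [← hζ]; exact pow_orderOf_eq_one ζ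
  have hDr : D ^ r = 1 := by rw [hD, scaleMap_pow, hζr, scaleMap_one]
  obtain ⟨a₀, ha₀, ha₀0⟩ := (Submodule.ne_bot_iff W).1 hW0
  obtain ⟨b₀, hb₀, hb₀0⟩ := (Submodule.ne_bot_iff W').1 hW'0
  have hcop : Nat.Coprime k r := ((Nat.Prime.coprime_iff_not_dvd hr).2 hrk).symm
  rw [hcomm.mul_pow]
  constructor
  · rintro ⟨c, hcj⟩
    have h1 : k ∣ j := by
      have h3 : T ^ (j * r) = c ^ r • 1 := by
        have h4 : (T ^ j * D ^ j) ^ r = T ^ (j * r) := by
          rw [(hcomm.pow_pow j j).mul_pow, ← pow_mul, ← pow_mul, mul_comm j r, pow_mul D, hDr,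
            one_pow, mul_one]
        rw [← h4, hcj, smul_pow, one_pow]
      have h5 := (hTk (j * r)).1 ⟨_, h3⟩
      exact hcop.dvd_of_dvd_mul_right h5
    obtain ⟨c', hc'⟩ := (hTk j).2 h1
    have hc'0 : c' ≠ 0 :=
      scalar_ne_zero_of_det hn hdim (S := T ^ j) (by rw [map_pow, hdet, one_pow]) hc'
    rw [hc', hD, scaleMap_pow] at hcj
    have hb := congrArg (fun f : Module.End F V => f b₀) hcj
    simp only [Module.End.mul_apply, scaleMap_right hc _ hb₀, LinearMap.smul_apply,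
      Module.End.one_apply] at hb
    have hcc : c' = c := by
      by_contra hne
      have h6 : (c' - c) • b₀ = 0 := by rw [sub_smul, hb, sub_self]
      rcases smul_eq_zero.1 h6 with h7 | h7
      · exact hne (sub_eq_zero.1 h7)
      · exact hb₀0 h7
    have ha := congrArg (fun f : Module.End F V => f a₀) hcj
    simp only [Module.End.mul_apply, scaleMap_left hc _ ha₀, LinearMap.smul_apply,
      Module.End.one_apply, smul_smul] at ha
    have hζj : ζ ^ j = 1 := by
      have h6 : (c' * ζ ^ j - c) • a₀ = 0 := by rw [sub_smul, ha, sub_self]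
      rcases smul_eq_zero.1 h6 with h7 | h7
      · rw [← hcc] at h7
        have h8 : c' * (ζ ^ j - 1) = 0 := by rw [mul_sub, mul_one]; exact h7
        rcases mul_eq_zero.1 h8 with h9 | h9
        · exact absurd h9 hc'0
        · exact sub_eq_zero.1 h9
      · exact absurd h7 ha₀0
    have h9 : r ∣ j := by rw [← hζ]; exact orderOf_dvd_of_pow_eq_one hζj
    exact Nat.Coprime.mul_dvd_of_dvd_of_dvd hcop.symm h9 h1
  · intro h
    have h1 : k ∣ j := dvd_trans (Dvd.intro_left _ rfl) h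
    have h3 : r ∣ j := dvd_trans (Dvd.intro _ rfl) h
    obtain ⟨c, hcj⟩ := (hTk j).2 h1
    refine ⟨c, ?_⟩
    obtain ⟨i, rfl⟩ := h3
    rw [hcj, pow_mul, hDr, one_pow, mul_one]

/-- the determinant of `scaleMap` -/
theorem det_scaleMap (W W' : Submodule F V) (hc : IsCompl W W') (ζ : F) :
    LinearMap.det (scaleMap W W' hc ζ) = ζ ^ finrank F W := by
  have h1 := det_of_split W W' hc (ζ • (1 : Module.End F W)) (scaleMap W W' hc ζ)
    (fun u => by
      rw [scaleMap_left hc ζ u.2]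
      simp)
    (fun w hw => scaleMap_right hc ζ hw)
  rw [h1, LinearMap.det_smul, map_one, mul_one]

end abstract

/-- an exponent `e` with `n * e + d ≡ 0 (mod r)` -/
theorem exists_exp {r n : ℕ} (hr : r.Prime) (hrn : ¬ r ∣ n) (d : ℕ) : ∃ e : ℕ, r ∣ n * e + d := by
  have hcop : Nat.Coprime n r := ((Nat.Prime.coprime_iff_not_dvd hr).2 hrn).symm
  obtain ⟨m, -, hm⟩ := Nat.exists_mul_mod_eq_one_of_coprime hcop hr.one_lt
  obtain ⟨r', rfl⟩ : ∃ r', r = r' + 1 := ⟨r - 1, by have := hr.one_lt; omega⟩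
  refine ⟨m * (r' * d), ?_⟩
  have h1 : n * m ≡ 1 [MOD r' + 1] := by
    unfold Nat.ModEq
    rw [hm, Nat.mod_eq_of_lt hr.one_lt]
  have h2 : n * m * (r' * d) ≡ 1 * (r' * d) [MOD r' + 1] := h1.mul_right _
  have h3 : n * m * (r' * d) + d ≡ 1 * (r' * d) + d [MOD r' + 1] := h2.add_right d
  have h4 : 1 * (r' * d) + d = (r' + 1) * d := by ring
  rw [h4] at h3
  have h5 : (n * (m * (r' * d)) + d) % (r' + 1) = 0 := by
    have h6 : n * (m * (r' * d)) + d = n * m * (r' * d) + d := by ring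
    rw [h6, h3]
    exact Nat.mul_mod_right _ _
  exact Nat.dvd_of_mod_eq_zero h5

section matrix

universe u

variable {F : Type u} [Field F] [Fintype F] {q : ℕ}

omit [Fintype F] in
/-- `ProjOrd` is insensitive to a nonzero scalar factor -/
theorem projOrd_smul {n : ℕ} {c : F} (hc : c ≠ 0) {M : Matrix (Fin n) (Fin n) F} {k : ℕ}
    (h : ProjOrd M k) : ProjOrd (c • M) k := by
  intro j
  rw [← h j, smul_pow]
  constructor
  · rintro ⟨c', hc'⟩
    refine ⟨(c ^ j)⁻¹ * c', ?_⟩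
    rw [mul_smul, ← hc', smul_smul, inv_mul_cancel₀ (pow_ne_zero j hc), one_smul]
  · rintro ⟨c', hc'⟩
    exact ⟨c ^ j * c', by rw [hc', smul_smul]⟩

omit [Fintype F] in
/-- `ProjOrd` in terms of the associated linear map -/
theorem projOrd_iff_toLin' {n : ℕ} (M : Matrix (Fin n) (Fin n) F) (k : ℕ) :
    ProjOrd M k ↔ ∀ j : ℕ, (∃ c : F, (Matrix.toLin' M) ^ j = c • 1) ↔ k ∣ j := by
  have key : ∀ j : ℕ, (∃ c : F, M ^ j = c • (1 : Matrix (Fin n) (Fin n) F)) ↔
      (∃ c : F, (Matrix.toLin' M) ^ j = c • 1) := by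
    intro j
    constructor
    · rintro ⟨c, hc⟩
      refine ⟨c, ?_⟩
      rw [← Matrix.toLin'_pow, hc, map_smul, Matrix.toLin'_one]
      rfl
    · rintro ⟨c, hc⟩
      refine ⟨c, ?_⟩
      apply Matrix.toLin'.injective
      rw [Matrix.toLin'_pow, hc, map_smul, Matrix.toLin'_one]
      rfl
  unfold ProjOrd
  constructor
  · intro h j
    rw [← key j]
    exact h j
  · intro h j
    rw [key j]
    exact h j

theorem decomp_mat (hF : Fintype.card F = q ^ 2) {n : ℕ} (hn : 1 ≤ n) {r : ℕ} (hr : r.Prime)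
    (hrq : r ∣ q + 1) (hrn : ¬ r ∣ n) (g : Matrix (Fin n) (Fin n) F) (hg : ct hF g * g = 1)
    (hdet : g.det = 1) {k : ℕ} (hk : ProjOrd g k) (hrk : ¬ r ∣ k)
    (U : Submodule F (Fin n → F)) (hU : ∀ x ∈ U, g.mulVec x ∈ U) (hU0 : U ≠ ⊥) (hU1 : U ≠ ⊤)
    (hnd : U ⊓ orthL q U = ⊥) :
    ∃ g' : Matrix (Fin n) (Fin n) F, ct hF g' * g' = 1 ∧ g'.det = 1 ∧ ProjOrd g' (r * k) := by
  classical
  have hq := two_le_q hF
  -- an element of order `r`
  have : Fact r.Prime := ⟨hr⟩
  have hcardU : Nat.card Fˣ = q ^ 2 - 1 := by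
    rw [Nat.card_eq_fintype_card, Fintype.card_units, hF]
  have hrdvd : r ∣ Nat.card Fˣ := by
    rw [hcardU]
    have h1 : q ^ 2 - 1 = (q + 1) * (q - 1) := by
      obtain ⟨q', rfl⟩ : ∃ q', q = q' + 1 := ⟨q - 1, by omega⟩
      have : (q' + 1) ^ 2 = (q' + 1 + 1) * q' + 1 := by ring
      rw [this]
      simp
    rw [h1]
    exact dvd_mul_of_dvd_left hrq _
  obtain ⟨ζu, hζu⟩ := exists_prime_orderOf_dvd_card' r hrdvd
  set ζ : F := (ζu : F) with hζdef
  have hζ : orderOf ζ = r := by rw [hζdef, orderOf_units, hζu]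
  have hζr : ζ ^ r = 1 := by rw [← hζ]; exact pow_orderOf_eq_one ζ
  have hζ0 : ζ ≠ 0 := ζu.ne_zero
  have hζq : ζ ^ (q + 1) = 1 := by
    obtain ⟨t, ht⟩ := hrq
    rw [ht, pow_mul, hζr, one_pow]
  -- the complement
  set W := orthL q U with hWdef
  have hc : IsCompl U W := isCompl_orthL hF U hnd
  set T := Matrix.toLin' g with hT
  have hUT : ∀ a ∈ U, T a ∈ U := by
    intro a ha
    rw [hT, Matrix.toLin'_apply]
    exact hU a ha
  -- finite order of `g`
  have hgu : IsUnit g := (Matrix.isUnit_iff_isUnit_det g).2 (by rw [hdet]; exact isUnit_one)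
  obtain ⟨gu, hgu'⟩ := hgu
  have hN : 0 < Nat.card (Matrix (Fin n) (Fin n) F)ˣ := Nat.card_pos
  have hgN : g ^ (Nat.card (Matrix (Fin n) (Fin n) F)ˣ - 1 + 1) = 1 := by
    rw [Nat.sub_add_cancel hN, ← hgu', ← Units.val_pow_eq_pow_val, pow_card_eq_one', Units.val_one]
  have hUinv : U ∈ Module.End.invtSubmodule T := by
    rw [Module.End.mem_invtSubmodule]
    intro a ha
    exact hUT a ha
  have hWinv := orthL_invt hF g hg _ hgN U hUinv
  have hWT : ∀ b ∈ W, T b ∈ W := by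
    intro b hb
    exact (Module.End.mem_invtSubmodule _).1 hWinv hb
  have hW0 : W ≠ ⊥ := by
    intro h
    apply hU1
    have := hc.sup_eq_top
    rw [h, sup_bot_eq] at this
    exact this
  -- the scaling map
  set DL := scaleMap U W hc ζ with hDL
  set Dm := LinearMap.toMatrix' DL with hDm
  have hDmv : ∀ x, Dm.mulVec x = DL x := fun x => LinearMap.toMatrix'_mulVec DL x
  have hDlin : Matrix.toLin' Dm = DL := Matrix.toLin'_toMatrix' DL
  have hdim : finrank F (Fin n → F) = n := by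
    rw [Module.finrank_fintype_fun_eq_card, Fintype.card_fin]
  have hdetT : LinearMap.det T = 1 := by rw [hT, LinearMap.det_toLin', hdet]
  have hTk := (projOrd_iff_toLin' g k).1 hk
  -- projective order of `g * Dm`
  have hpo : ProjOrd (g * Dm) (r * k) := by
    rw [projOrd_iff_toLin']
    intro j
    rw [Matrix.toLin'_mul, hDlin]
    exact projOrd_mul_scale hn hdim hr hζ T hdetT hrk hTk U W hc hUT hWT hU0 hW0 j
  -- `Dm` preserves the form
  have hDpres : ∀ x y, Cfsg.hermForm n F q (Dm.mulVec x) (Dm.mulVec y) =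
      Cfsg.hermForm n F q x y := by
    intro x y
    have hx : x ∈ U ⊔ W := by rw [hc.sup_eq_top]; trivial
    have hy : y ∈ U ⊔ W := by rw [hc.sup_eq_top]; trivial
    obtain ⟨a, ha, b, hb, rfl⟩ := Submodule.mem_sup.1 hx
    obtain ⟨a', ha', b', hb', rfl⟩ := Submodule.mem_sup.1 hy
    rw [hDmv, hDmv, map_add, map_add, hDL, scaleMap_left hc ζ ha, scaleMap_right hc ζ hb,
      scaleMap_left hc ζ ha', scaleMap_right hc ζ hb']
    have h1 : Cfsg.hermForm n F q b a' = 0 := hb a' ha'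
    have h2 : Cfsg.hermForm n F q a b' = 0 := (mem_orthL_symm hF).1 hb' a ha
    rw [herm_add_left, herm_add_right hF, herm_add_right hF, herm_add_left, herm_add_right hF,
      herm_add_right hF, herm_smul_left, herm_smul_right, herm_smul_left, herm_smul_right, h1, h2]
    simp only [mul_zero, add_zero, zero_add]
    rw [← mul_assoc, ← pow_succ', hζq, one_mul]
  have hgpres : ∀ x y, Cfsg.hermForm n F q (g.mulVec x) (g.mulVec y) =
      Cfsg.hermForm n F q x y :=
    Cfsg.Agent.S2366.preserves_of_transpose_mul_map hF g ((ct_mul_self_iff hF g).1 hg)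
  -- the rescaling
  obtain ⟨e, he⟩ := exists_exp hr hrn (finrank F U)
  set c : F := ζ ^ e with hcdef
  have hc0 : c ≠ 0 := pow_ne_zero e hζ0
  have hcq : c * c ^ q = 1 := by
    rw [← pow_succ', hcdef, ← pow_mul, mul_comm, pow_mul, hζq, one_pow]
  refine ⟨c • (g * Dm), ?_, ?_, projOrd_smul hc0 hpo⟩
  · apply (ct_mul_self_iff hF _).2
    apply Cfsg.Agent.Lib.Helper5.UStar.transpose_mul_map hF
    intro x y
    rw [Matrix.smul_mulVec, Matrix.smul_mulVec, herm_smul_left, herm_smul_right, ← mul_assoc, hcq,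
      one_mul, ← Matrix.mulVec_mulVec, ← Matrix.mulVec_mulVec, hgpres, hDpres]
  · rw [Matrix.det_smul, Fintype.card_fin, Matrix.det_mul, hdet, one_mul, hDm,
      LinearMap.det_toMatrix', hDL, det_scaleMap, hcdef, ← pow_mul, ← pow_add, mul_comm e n]
    obtain ⟨t, ht⟩ := he
    rw [ht, pow_mul, hζr, one_pow]

end matrix

end Cfsg.Agent.Lib.Helper1.CarveU4
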