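import Mathlib
import Cfsg.Agent.Lib.Helper1.CarveU4a
import Cfsg.Agent.Lib.Helper4.CarveU1

/-!
# S2511, package U4: an invariant orthogonal decomposition multiplies orders prime to `r` by `r`
-/

set_option autoImplicit false

namespace Cfsg.Agent.Lib.Carve

open Polynomial Cfsg.Agent.S0278 Cfsg.Agent.Lib.Helper5.Wall Cfsg.Agent.Lib.Helper5.SUConj
  Cfsg.Agent.Lib.Helper5.SSOrder Cfsg.Agent.Lib.Helper9.CubeU

universe u

variable {F : Type u} [Field F] [Fintype F] {q : ℕ}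

namespace U4
theorem decomp (hF : Fintype.card F = q ^ 2) {n : ℕ} (hn : 3 ≤ n) {r : ℕ} (hr : r.Prime)
    (hrq : r ∣ q + 1) (hrn : ¬ r ∣ n) (g : Matrix (Fin n) (Fin n) F) (hg : ct hF g * g = 1)
    (hdet : g.det = 1) {k : ℕ} (hk : ProjOrd g k) (hrk : ¬ r ∣ k)
    (U : Submodule F (Fin n → F)) (hU : ∀ x ∈ U, g.mulVec x ∈ U) (hU0 : U ≠ ⊥) (hU1 : U ≠ ⊤)
    (hnd : U ⊓ orthL q U = ⊥) :
    r * k ∈ Set.range (orderOf : Cfsg.PSU n F q → ℕ) := by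
  rw [U1.mem_omega_iff hF hn]
  exact Cfsg.Agent.Lib.Helper1.CarveU4.decomp_mat hF (by omega) hr hrq hrn g hg hdet hk hrk U hU
    hU0 hU1 hnd
end U4

end Cfsg.Agent.Lib.Carve
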