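import Mathlib
import Cfsg.Agent.Lib.Helper5.ThreeSq.Defs

/-!
# S2459, package Y3: the reduction step over the field with three elements
-/

set_option autoImplicit false

open Cfsg.Agent.Lib.Helper5.ThreeSq Matrix

namespace Cfsg.Agent.Lib.Helper1.CarveY3

section general

variable {F : Type*} [Field F]

/-- a non-scalar `3 × 3` matrix has a vector which is not an eigenvector -/
theorem exists_noneigen (g : Matrix (Fin 3) (Fin 3) F)
    (hg : ∀ c : F, g ≠ c • (1 : Matrix (Fin 3) (Fin 3) F)) :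
    ∃ v : Fin 3 → F, ∀ c : F, c • v ≠ g *ᵥ v := by
  by_contra hcon
  push Not at hcon
  obtain ⟨c0, h0⟩ := hcon (Pi.single 0 1)
  obtain ⟨c1, h1⟩ := hcon (Pi.single 1 1)
  obtain ⟨c2, h2⟩ := hcon (Pi.single 2 1)
  obtain ⟨d1, k1⟩ := hcon (Pi.single 0 1 + Pi.single 1 1)
  obtain ⟨d2, k2⟩ := hcon (Pi.single 0 1 + Pi.single 2 1)
  rw [Matrix.mulVec_add, Matrix.mulVec_single_one, Matrix.mulVec_single_one] at k1 k2
  rw [Matrix.mulVec_single_one] at h0 h1 h2
  have a00 := congrFun h0 0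
  have a10 := congrFun h0 1
  have a20 := congrFun h0 2
  have a01 := congrFun h1 0
  have a11 := congrFun h1 1
  have a21 := congrFun h1 2
  have a02 := congrFun h2 0
  have a12 := congrFun h2 1
  have a22 := congrFun h2 2
  have b0 := congrFun k1 0
  have b1 := congrFun k1 1
  have b0' := congrFun k2 0
  have b2' := congrFun k2 2
  simp at a00 a10 a20 a01 a11 a21 a02 a12 a22 b0 b1 b0' b2'
  apply hg c0
  have e1 : c1 = c0 := by
    rw [a11, a00]
    rw [← a10, ← a01] at *
    simp at b0 b1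
    rw [← b0, ← b1]
  have e2 : c2 = c0 := by
    rw [a22, a00]
    rw [← a20, ← a02] at *
    simp at b0' b2'
    rw [← b0', ← b2']
  ext i j
  fin_cases i <;> fin_cases j <;> simp [← a00, ← a10, ← a20, ← a01, ← a11, ← a21, ← a02, ← a12, ← a22, e1, e2]

/-- a non-scalar `3 × 3` matrix is similar to a matrix with first column `e₁` -/
theorem exists_conj_first_col (g : Matrix (Fin 3) (Fin 3) F)
    (hg : ∀ c : F, g ≠ c • (1 : Matrix (Fin 3) (Fin 3) F)) :
    ∃ B N : Matrix (Fin 3) (Fin 3) F, B.det ≠ 0 ∧ g * B = B * N ∧ N 0 0 = 0 ∧ N 1 0 = 1 ∧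
      N 2 0 = 0 := by
  obtain ⟨v, hv⟩ := exists_noneigen g hg
  set u := g *ᵥ v with hu
  have hv0 : v ≠ 0 := by
    rintro rfl
    apply hv 0
    rw [hu, Matrix.mulVec_zero, smul_zero]
  have hli : LinearIndependent F ![v, u] := (LinearIndependent.pair_iff' hv0).2 hv
  have hcr : crossProduct v u ≠ 0 := crossProduct_ne_zero_iff_linearIndependent.2 hli
  obtain ⟨i, hi⟩ : ∃ i, (crossProduct v u) i ≠ 0 := by
    by_contra hcon
    push Not at hcon
    exact hcr (funext hcon)
  set R : Matrix (Fin 3) (Fin 3) F := Matrix.of ![v, u, Pi.single i 1] with hR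
  set B : Matrix (Fin 3) (Fin 3) F := Rᵀ with hB
  have hdetB : B.det ≠ 0 := by
    rw [hB, Matrix.det_transpose]
    have h1 : R.det = Matrix.det ![v, u, Pi.single i 1] := rfl
    rw [h1, ← triple_product_eq_det, triple_product_permutation, triple_product_permutation,
      single_dotProduct, one_mul]
    exact hi
  have hBu : IsUnit B.det := isUnit_iff_ne_zero.2 hdetB
  have hB0 : B *ᵥ Pi.single 0 1 = v := by
    rw [Matrix.mulVec_single_one]
    ext r
    simp [hB, hR]
  have hB1 : B *ᵥ Pi.single 1 1 = u := by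
    rw [Matrix.mulVec_single_one]
    ext r
    simp [hB, hR]
  refine ⟨B, B⁻¹ * g * B, hdetB, ?_, ?_⟩
  · rw [Matrix.mul_assoc, ← Matrix.mul_assoc B, Matrix.mul_nonsing_inv B hBu, Matrix.one_mul]
  · have hcol : (B⁻¹ * g * B) *ᵥ Pi.single 0 1 = Pi.single 1 1 := by
      rw [← Matrix.mulVec_mulVec, ← Matrix.mulVec_mulVec, hB0, ← hu, ← hB1, Matrix.mulVec_mulVec,
        Matrix.nonsing_inv_mul B hBu, Matrix.one_mulVec]
    rw [Matrix.mulVec_single_one] at hcol
    have c0 := congrFun hcol 0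
    have c1 := congrFun hcol 1
    have c2 := congrFun hcol 2
    simp at c0 c1 c2
    exact ⟨c0, c1, c2⟩

/-- the base change `v, gv - v, w + x v` -/
theorem shear (N : Matrix (Fin 3) (Fin 3) F) (h0 : N 0 0 = 0) (h1 : N 1 0 = 1) (h2 : N 2 0 = 0)
    (x : F) :
    ∃ P' M : Matrix (Fin 3) (Fin 3) F, P'.det = 1 ∧ N * P' = P' * M ∧ M 0 0 = 1 ∧
      schur M = !![-N 0 1 + x * N 2 1, -N 0 2 + x * N 2 2; N 2 1, N 2 2] := by
  refine ⟨!![1, -1, x; 0, 1, 0; 0, 0, 1],
    !![1, N 0 1 + N 1 1 - 1 - x * N 2 1, N 0 2 + N 1 2 + x - x * N 2 2;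
       1, N 1 1 - 1, N 1 2 + x;
       0, N 2 1, N 2 2], ?_, ?_, ?_, ?_⟩
  · rw [Matrix.det_fin_three]
    simp
  · ext i j
    fin_cases i <;> fin_cases j <;>
      simp [Matrix.mul_apply, Fin.sum_univ_three, h0, h1, h2] <;> ring
  · simp
  · ext i j
    fin_cases i <;> fin_cases j <;> simp [schur_apply] <;> ring

/-- a `2 × 2` matrix of trace `0` and determinant `1` squares to `-1` -/
theorem sq_eq_neg_one (J : Matrix (Fin 2) (Fin 2) F) (htr : J 0 0 + J 1 1 = 0)
    (hdet : J.det = 1) : J * J = -1 := by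
  rw [Matrix.det_fin_two] at hdet
  have h11 : J 1 1 = -J 0 0 := by linear_combination htr
  ext i j
  fin_cases i <;> fin_cases j <;> simp [Matrix.mul_apply, Fin.sum_univ_two, h11]
  · linear_combination -hdet + J 0 0 * htr
  · ring
  · ring
  · linear_combination -hdet + J 0 0 * htr

end general

section three

variable {F : Type*} [Field F] [Fintype F]

theorem three_eq_zero (hF : Fintype.card F = 3) : (3 : F) = 0 := by
  have h := card_nsmul_eq_zero (G := F) (x := (1 : F))
  rw [hF, nsmul_eq_mul, mul_one] at h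
  exact_mod_cast h

theorem cube_eq (hF : Fintype.card F = 3) (x : F) : x ^ 3 = x := by
  have h := FiniteField.pow_card x
  rwa [hF] at h

theorem mul_self_eq_one (hF : Fintype.card F = 3) {c : F} (hc : c ≠ 0) : c * c = 1 := by
  have h := cube_eq hF c
  have h1 : c * (c * c - 1) = 0 := by linear_combination h
  rcases mul_eq_zero.1 h1 with h2 | h2
  · exact absurd h2 hc
  · linear_combination h2

/-- over `𝔽₃` there is no square root of `-1` -/
theorem mul_self_ne_neg_one (hF : Fintype.card F = 3) (a : F) : a * a ≠ -1 := by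
  intro ha
  have h3 := three_eq_zero hF
  have h3a := cube_eq hF a
  have h0 : a = 0 := by linear_combination h3a - a * ha + a * h3
  rw [h0] at ha
  have h1 : (1 : F) = 0 := by linear_combination ha
  exact one_ne_zero h1

theorem entry_ne_zero (hF : Fintype.card F = 3) (A : Matrix (Fin 2) (Fin 2) F)
    (htr : A 0 0 + A 1 1 = 0) (hdet : A.det = 1) : A 1 0 ≠ 0 := by
  intro h
  rw [Matrix.det_fin_two, h] at hdet
  apply mul_self_ne_neg_one hF (A 0 0)
  linear_combination -hdet + A 0 0 * htr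

/-- trace `0` and determinant `1` means conjugate to `!![0, -1; 1, 0]` -/
theorem conj_J0 (hF : Fintype.card F = 3) (A : Matrix (Fin 2) (Fin 2) F)
    (htr : A 0 0 + A 1 1 = 0) (hdet : A.det = 1) : Conj A !![0, -1; 1, 0] := by
  have hc := entry_ne_zero hF A htr hdet
  rw [Matrix.det_fin_two] at hdet
  refine ⟨!![1, A 0 0; 0, A 1 0], ?_, ?_⟩
  · rw [Matrix.det_fin_two]
    simpa using hc
  · ext i j
    fin_cases i <;> fin_cases j <;> simp [Matrix.mul_apply, Fin.sum_univ_two]
    · linear_combination -hdet + A 0 0 * htr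
    · linear_combination A 1 0 * htr

/-- a trace `0`, determinant `1` matrix over `𝔽₃` is a product of two such -/
theorem split_trace0 (hF : Fintype.card F = 3) (S : Matrix (Fin 2) (Fin 2) F)
    (htr : S 0 0 + S 1 1 = 0) (hdet : S.det = 1) :
    ∃ L U : Matrix (Fin 2) (Fin 2) F, S = L * U ∧ Conj L !![0, -1; 1, 0] ∧
      Conj U !![0, -1; 1, 0] := by
  have h3 := three_eq_zero hF
  have hc0 := entry_ne_zero hF S htr hdet
  have hc := mul_self_eq_one hF hc0
  have hdet' := hdet
  rw [Matrix.det_fin_two] at hdet'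
  set t := S 1 1 with ht
  set c := S 1 0 with hcdef
  set J : Matrix (Fin 2) (Fin 2) F := !![1 - t, (1 - t - t * t) * c; c, t - 1] with hJ
  have hJtr : J 0 0 + J 1 1 = 0 := by
    simp [hJ]
  have hJdet : J.det = 1 := by
    rw [Matrix.det_fin_two]
    simp [hJ]
    linear_combination (t - 1) * h3 - (1 - t - t * t) * hc
  have hJ00 : J 0 0 = 1 - t := by simp [hJ]
  have hJ01 : J 0 1 = (1 - t - t * t) * c := by simp [hJ]
  have hJ10 : J 1 0 = c := by simp [hJ]
  have hJ11 : J 1 1 = t - 1 := by simp [hJ]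
  have hUtr : (-(J * S)) 0 0 + (-(J * S)) 1 1 = 0 := by
    simp only [Matrix.neg_apply, Matrix.mul_apply, Fin.sum_univ_two, hJ00, hJ01, hJ10, hJ11]
    linear_combination (-1 : F) * htr + t * h3 - (1 - t - t * t) * hc + hdet'
  have hUdet : (-(J * S)).det = 1 := by
    rw [Matrix.det_neg, Matrix.det_mul, hJdet, hdet]
    simp
  refine ⟨J, -(J * S), ?_, conj_J0 hF J hJtr hJdet, conj_J0 hF _ hUtr hUdet⟩
  rw [Matrix.mul_neg, ← Matrix.mul_assoc, sq_eq_neg_one J hJtr hJdet, Matrix.neg_mul,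
    Matrix.one_mul, neg_neg]

/-- a diagonal determinant `1` matrix over `𝔽₃` is a product of two matrices of order `4` -/
theorem split_diag (hF : Fintype.card F = 3) (S : Matrix (Fin 2) (Fin 2) F)
    (hdet : S.det = 1) (h01 : S 0 1 = 0) (h10 : S 1 0 = 0) :
    ∃ L U : Matrix (Fin 2) (Fin 2) F, S = L * U ∧ Conj L !![0, -1; 1, 0] ∧
      Conj U !![0, -1; 1, 0] := by
  rw [Matrix.det_fin_two, h01, h10, mul_zero, sub_zero] at hdet
  have hs0 : S 0 0 ≠ 0 := by
    intro h
    rw [h, zero_mul] at hdet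
    exact zero_ne_one hdet
  have hc := mul_self_eq_one hF hs0
  have hs1 : S 1 1 = S 0 0 := by linear_combination S 0 0 * hdet - S 1 1 * hc
  refine ⟨!![0, -1; 1, 0], !![0, S 0 0; -S 0 0, 0], ?_, Conj.refl _, ?_⟩
  · ext i j
    fin_cases i <;> fin_cases j <;> simp [Matrix.mul_apply, Fin.sum_univ_two, h01, h10, hs1]
  · apply conj_J0 hF
    · simp
    · rw [Matrix.det_fin_two]
      simp
      exact hc

end three

end Cfsg.Agent.Lib.Helper1.CarveY3

namespace Cfsg.Agent.Lib.Carve.Y3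

open Cfsg.Agent.Lib.Helper1.CarveY3

/-- The field with three elements: a non-scalar `g` of determinant 1 is similar to `M` with
`M 0 0 = 1` whose Schur complement is a product of two matrices similar to `!![0,-1;1,0]`. -/
theorem three_reduction {F : Type*} [Field F] [Fintype F] (hF : Fintype.card F = 3)
    (g : Matrix (Fin 3) (Fin 3) F)
    (hg : ∀ c : F, g ≠ c • (1 : Matrix (Fin 3) (Fin 3) F)) (hdet : g.det = 1) :
    ∃ P M : Matrix (Fin 3) (Fin 3) F, ∃ L U : Matrix (Fin 2) (Fin 2) F,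
      P.det ≠ 0 ∧ g * P = P * M ∧ M 0 0 = 1 ∧ schur M = L * U ∧
      Conj L !![0, -1; 1, 0] ∧ Conj U !![0, -1; 1, 0] := by
  obtain ⟨B, N, hB, hgB, h0, h1, h2⟩ := exists_conj_first_col g hg
  have hdetN : N.det = 1 := by rw [← Conj.det_eq ⟨B, hB, hgB⟩, hdet]
  have hdetN' : -(N 0 1 * N 2 2) + N 0 2 * N 2 1 = 1 := by
    rw [Matrix.det_fin_three, h0, h1, h2] at hdetN
    linear_combination hdetN
  -- the choice of the shear parameter
  obtain ⟨x, hx⟩ : ∃ x : F, (-N 0 1 + x * N 2 1 + N 2 2 = 0) ∨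
      (N 2 1 = 0 ∧ -N 0 2 + x * N 2 2 = 0) := by
    by_cases h21 : N 2 1 = 0
    · have h22 : N 2 2 ≠ 0 := by
        intro h
        rw [h21, h, mul_zero, mul_zero, neg_zero, add_zero] at hdetN'
        exact zero_ne_one hdetN'
      refine ⟨N 0 2 / N 2 2, Or.inr ⟨h21, ?_⟩⟩
      field_simp
      ring
    · refine ⟨(N 0 1 - N 2 2) / N 2 1, Or.inl ?_⟩
      field_simp
      ring
  obtain ⟨P', M, hP', hNP, hM00, hS⟩ := shear N h0 h1 h2 x
  have hdetM : M.det = 1 := by
    rw [← Conj.det_eq ⟨P', by rw [hP']; exact one_ne_zero, hNP⟩, hdetN]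
  have hdetS : (schur M).det = 1 := by
    have h := det_eq_mul_det_schur M (by rw [hM00]; exact one_ne_zero)
    rw [hdetM, hM00, one_mul] at h
    exact h.symm
  have hsplit : ∃ L U : Matrix (Fin 2) (Fin 2) F, schur M = L * U ∧ Conj L !![0, -1; 1, 0] ∧
      Conj U !![0, -1; 1, 0] := by
    rcases hx with hx | ⟨h21, hx⟩
    · apply split_trace0 hF _ _ hdetS
      rw [hS]
      simpa using hx
    · apply split_diag hF _ hdetS
      · rw [hS]
        simpa using hx
      · rw [hS]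
        simpa using h21
  obtain ⟨L, U, hLU, hL, hU⟩ := hsplit
  refine ⟨B * P', M, L, U, ?_, ?_, hM00, hLU, hL, hU⟩
  · rw [Matrix.det_mul, hP', mul_one]
    exact hB
  · rw [← Matrix.mul_assoc, hgB, Matrix.mul_assoc, hNP, Matrix.mul_assoc]

end Cfsg.Agent.Lib.Carve.Y3
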