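import Mathlib
import Cfsg.Agent.Lib.Helper1.StemZD4
import Cfsg.Agent.Lib.Helper1.Stem1

set_option autoImplicit false

/-! Labelled actions: a stem extension with kernel a 2-group, over a group with a point
stabilizer `K` that has a cyclic Sylow 2-subgroup of order `2 ^ n₂` and a normal subgroup of odd
order with a commutative quotient of order `2 ^ n₂`, has a kernel of order at most
`2 ^ E / 2 ^ n₂`. -/

namespace Cfsg.Agent.Lib.Helper1.StemZD

open Cfsg.Agent.Lib.Helper1.MatCode Cfsg.Agent.Lib.Helper1.Stem Cfsg.Agent.Lib.Helper1.StemSA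
  Cfsg.Agent.Lib.Helper1.StemZLin Cfsg.Agent.Lib.Helper1.StemZA Cfsg.Agent.Lib.Helper1.StemZC

universe u v

theorem eq_one_of_pow_odd_of_pow_two {M : Type*} [Group M] (x : M) (u n : ℕ) (hu : Odd u)
    (h1 : x ^ u = 1) (h2 : x ^ 2 ^ n = 1) : x = 1 := by
  have hcop : Nat.Coprime u (2 ^ n) := by
    apply Nat.Coprime.pow_right
    rw [Nat.coprime_two_right]
    exact hu
  have hd : orderOf x ∣ Nat.gcd u (2 ^ n) :=
    Nat.dvd_gcd (orderOf_dvd_of_pow_eq_one h1) (orderOf_dvd_of_pow_eq_one h2)
  rw [hcop.gcd_eq_one, Nat.dvd_one] at hd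
  exact orderOf_eq_one_iff.mp hd

section group

variable (D : SAData) {Γ G Y A : Type*} [Group Γ] [Group G] [MulAction G Y] [AddCommGroup A]
    (σ : Γ →* G) (pt : ℕ → Y) (X : List Γ) (κ : Γ → A)

variable (hS : D.chkStruct = true) (H : ZAHyp D σ pt X κ)
include hS H

/-- if the labels of the generators lie in a subgroup, so do the images of the preimage of the
stabilizer of the base point -/
theorem kap_mem_of_lam_mem' [Finite Γ] (hm : 0 < D.m) (A₀ : AddSubgroup A)
    (hlam : ∀ i < D.k, ∀ j < D.m, lam D X κ i j ∈ A₀) (c : Γ) (hc : σ c • pt 0 = pt 0) :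
    κ c ∈ A₀ := by
  let S : Subgroup Γ :=
    { carrier := {g | ∀ j < D.m, ∃ j' < D.m, σ g • pt j = pt j' ∧
        κ ((tt D X j')⁻¹ * g * tt D X j) ∈ A₀}
      one_mem' := by
        intro j hj
        refine ⟨j, hj, by rw [map_one, one_smul], ?_⟩
        rw [mul_one, inv_mul_cancel, kap_one D σ pt X κ H]; exact A₀.zero_mem
      mul_mem' := by
        intro g h hg hh j hj
        obtain ⟨j', hj', h1, h2'⟩ := hh j hj
        obtain ⟨j'', hj'', h3, h4⟩ := hg j' hj'
        refine ⟨j'', hj'', by rw [map_mul, mul_smul, h1, h3], ?_⟩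
        have e : (tt D X j'')⁻¹ * (g * h) * tt D X j =
            ((tt D X j'')⁻¹ * g * tt D X j') * ((tt D X j')⁻¹ * h * tt D X j) := by group
        rw [e, H.kap_mul _ _ (inK_of_act D σ pt X κ hS H g _ _ hj' hj'' h3)
          (inK_of_act D σ pt X κ hS H h _ _ hj hj' h1)]
        exact A₀.add_mem h4 h2'
      inv_mem' := by
        intro g hg
        have hpow : ∀ n : ℕ, ∀ j < D.m, ∃ j' < D.m, σ (g ^ n) • pt j = pt j' ∧
            κ ((tt D X j')⁻¹ * g ^ n * tt D X j) ∈ A₀ := by
          intro n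
          induction n with
          | zero =>
            intro j hj
            refine ⟨j, hj, by rw [pow_zero, map_one, one_smul], ?_⟩
            rw [pow_zero, mul_one, inv_mul_cancel, kap_one D σ pt X κ H]; exact A₀.zero_mem
          | succ n ih =>
            intro j hj
            obtain ⟨j', hj', h1, h2'⟩ := ih j hj
            obtain ⟨j'', hj'', h3, h4⟩ := hg j' hj'
            refine ⟨j'', hj'', by rw [pow_succ', map_mul, mul_smul, h1, h3], ?_⟩
            have e : (tt D X j'')⁻¹ * g ^ (n + 1) * tt D X j =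
                ((tt D X j'')⁻¹ * g * tt D X j') * ((tt D X j')⁻¹ * g ^ n * tt D X j) := by
              rw [pow_succ']; group
            rw [e, H.kap_mul _ _ (inK_of_act D σ pt X κ hS H g _ _ hj' hj'' h3)
              (inK_of_act D σ pt X κ hS H (g ^ n) _ _ hj hj' h1)]
            exact A₀.add_mem h4 h2'
        have hinv : g⁻¹ = g ^ (orderOf g - 1) := by
          apply inv_eq_of_mul_eq_one_right
          rw [← pow_succ', Nat.sub_add_cancel (orderOf_pos g), pow_orderOf_eq_one]
        show ∀ j < D.m, _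
        rw [hinv]
        exact hpow _ }
  have hgen : ∀ i < D.k, X.getD i 1 ∈ S := by
    intro i hi j hj
    exact ⟨D.pi i j, pi_lt D hS i j hi hj, H.pi_act i hi j hj, hlam i hi j hj⟩
  have htop : ∀ g : Γ, g ∈ S := by
    intro g
    have h1 : Subgroup.closure {g | ∃ i < D.k, g = X.getD i 1} ≤ S := by
      rw [Subgroup.closure_le]
      rintro g ⟨i, hi, rfl⟩
      exact hgen i hi
    exact h1 (H.gen g)
  obtain ⟨j', hj', h1, h2'⟩ := htop c 0 hm
  rw [hc] at h1
  have h0 : j' = 0 := H.pt_zero j' hj' h1.symm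
  rw [h0, tt_zero, inv_one, one_mul, mul_one] at h2'
  exact h2'

/-- the images of the preimage of the stabilizer under `κ` lie in a subgroup of bounded order -/
theorem zd_main' (C : ZDCert) [Finite Γ] [Finite A] (hC : chkCertD D C = true) (hm : 0 < D.m)
    (a : ℕ) (h2 : ∀ x : A, ((2 : ℤ) ^ a) • x = 0) :
    ∃ A₀ : AddSubgroup A, Nat.card A₀ ≤ 2 ^ C.es.sum ∧
      ∀ c : Γ, σ c • pt 0 = pt 0 → κ c ∈ A₀ := by
  set v := val D X κ with hv
  have hE : ∀ s : ℕ × ℕ, D.chkSpec s = true → sgnSum v (posL D s) (negL D s) = 0 :=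
    fun s hs => spec_ok D σ pt X κ hS H s hs
  obtain ⟨A₀, hval, hcard⟩ := cert_vals D C v hC hE a h2
  refine ⟨A₀, hcard, ?_⟩
  have hlam : ∀ i < D.k, ∀ j < D.m, lam D X κ i j ∈ A₀ := by
    intro i hi j hj
    have hb : i * D.m + j < D.n := by
      have : i * D.m + j < D.k * D.m := by
        calc i * D.m + j < i * D.m + D.m := by omega
          _ = (i + 1) * D.m := by ring
          _ ≤ D.k * D.m := Nat.mul_le_mul_right _ hi
      unfold SAData.n; omega
    have := hval _ hb
    rwa [hv, val_edge D X κ i j hi hj] at this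
  exact kap_mem_of_lam_mem' D σ pt X κ hS H hm A₀ hlam

end group

end Cfsg.Agent.Lib.Helper1.StemZD
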