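import Mathlib
import Cfsg.Agent.Lib.Helper1.StemZD1

set_option autoImplicit false

/-! Combinations of sparse equations modulo an arbitrary number, computed on vectors packed in one
natural number with digits in base `2 ^ 32`; a system with a left inverse modulo a prime `p` has
only the zero solution in a commutative group of exponent a power of `p`. -/

namespace Cfsg.Agent.Lib.Helper1.StemZE

open Finset Cfsg.Agent.Lib.Helper1.StemLin Cfsg.Agent.Lib.Helper1.StemZLin
  Cfsg.Agent.Lib.Helper1.StemZD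

section sem

variable {M : Type*} [AddCommGroup M]

/-- the contributions of `y` times an equation, modulo `N` -/
def eqEntriesN (N : ℕ) (q : (List ℕ × List ℕ) × ℕ) : List (ℕ × ℕ) :=
  (q.1.1.map fun b => (b, q.2)) ++ (q.1.2.map fun b => (b, N - q.2))

/-- the contributions of a combination of equations -/
def allEntriesN (N : ℕ) (ys : List ((List ℕ × List ℕ) × ℕ)) : List (ℕ × ℕ) :=
  ys.flatMap (eqEntriesN N)

theorem mem_allEntriesN_lt (N n : ℕ) (ys : List ((List ℕ × List ℕ) × ℕ))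
    (hys : ∀ q ∈ ys, (∀ b ∈ q.1.1, b < n) ∧ (∀ b ∈ q.1.2, b < n)) :
    ∀ e ∈ allEntriesN N ys, e.1 < n := by
  intro e he
  unfold allEntriesN at he
  rw [List.mem_flatMap] at he
  obtain ⟨q, hq, heq⟩ := he
  unfold eqEntriesN at heq
  rw [List.mem_append, List.mem_map, List.mem_map] at heq
  rcases heq with ⟨b, hb, rfl⟩ | ⟨b, hb, rfl⟩
  · exact (hys q hq).1 b hb
  · exact (hys q hq).2 b hb

theorem semSum_eqEntriesN (N : ℕ) (v : ℕ → M) (q : (List ℕ × List ℕ) × ℕ) (hq : q.2 ≤ N)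
    (h0 : sgnSum v q.1.1 q.1.2 = 0) :
    semSum v (eqEntriesN N q) = (N : ℤ) • (q.1.2.map v).sum := by
  unfold eqEntriesN
  rw [semSum_append, semSum_map_const, semSum_map_const]
  unfold sgnSum at h0
  rw [sub_eq_zero] at h0
  rw [h0, ← add_smul]
  congr 1
  push_cast [hq]
  ring

theorem semSum_allEntriesN (N n : ℕ) (v : ℕ → M) (A' : AddSubgroup M) (hv : ∀ b < n, v b ∈ A')
    (ys : List ((List ℕ × List ℕ) × ℕ))
    (hys : ∀ q ∈ ys, (∀ b ∈ q.1.1, b < n) ∧ (∀ b ∈ q.1.2, b < n) ∧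
      sgnSum v q.1.1 q.1.2 = 0 ∧ q.2 ≤ N) :
    ∃ z ∈ A', semSum v (allEntriesN N ys) = (N : ℤ) • z := by
  induction ys with
  | nil => exact ⟨0, A'.zero_mem, by simp [allEntriesN, semSum]⟩
  | cons q ys ih =>
    obtain ⟨z, hz, hzz⟩ := ih (fun q' hq' => hys q' (by simp [hq']))
    obtain ⟨_, h2, h3, h4⟩ := hys q (by simp)
    refine ⟨(q.1.2.map v).sum + z, A'.add_mem ?_ hz, ?_⟩
    · apply AddSubgroup.list_sum_mem
      intro x hx
      rw [List.mem_map] at hx
      obtain ⟨b, hb, rfl⟩ := hx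
      exact hv b (h2 b hb)
    · unfold allEntriesN at hzz ⊢
      rw [List.flatMap_cons, semSum_append, hzz, semSum_eqEntriesN N v q h4 h3, smul_add]

/-- the conclusion of a combination equal modulo `N` to `t` times a unit vector -/
theorem smul_mem_of_combN (N t n : ℕ) (v : ℕ → M)
    (A' : AddSubgroup M) (hv : ∀ b < n, v b ∈ A') (ys : List ((List ℕ × List ℕ) × ℕ))
    (hys : ∀ q ∈ ys, (∀ b ∈ q.1.1, b < n) ∧ (∀ b ∈ q.1.2, b < n) ∧
      sgnSum v q.1.1 q.1.2 = 0 ∧ q.2 ≤ N)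
    (b0 : ℕ) (hb0 : b0 < n) (hT : ((allEntriesN N ys).map fun e => e.2).sum < X)
    (hchk : ∀ c < n, packSum (allEntriesN N ys) / X ^ c % X % N = if c = b0 then t else 0) :
    ∃ y ∈ A', (t : ℤ) • v b0 = (N : ℤ) • y := by
  set l := allEntriesN N ys with hl
  have hlt : ∀ e' ∈ l, e'.1 < n :=
    mem_allEntriesN_lt N n ys (fun q hq => ⟨(hys q hq).1, (hys q hq).2.1⟩)
  have hcoef : ∀ c < n, coefF l c < X := fun c _ => lt_of_le_of_lt (coefF_le l c) hT
  obtain ⟨_, hdig⟩ := digit_sum (coefF l) n hcoef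
  rw [← packSum_eq l n hlt] at hdig
  have hmod : ∀ c < n, coefF l c % N = if c = b0 then t else 0 := by
    intro c hc
    rw [← hdig c hc]
    exact hchk c hc
  obtain ⟨z, hz, hzz⟩ := semSum_allEntriesN N n v A' hv ys hys
  rw [semSum_eq v l n hlt] at hzz
  have hsplit : ∀ c ∈ range n, (coefF l c : ℤ) • v c =
      (if c = b0 then (t : ℤ) • v c else 0) +
        (N : ℤ) • (((coefF l c / N : ℕ) : ℤ) • v c) := by
    intro c hc
    have h1 := Nat.div_add_mod (coefF l c) N
    rw [hmod c (mem_range.mp hc)] at h1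
    have h2 : (coefF l c : ℤ) = (N : ℤ) * ((coefF l c / N : ℕ) : ℤ) +
        (if c = b0 then (t : ℤ) else 0) := by
      have h3 : ((N * (coefF l c / N) + (if c = b0 then t else 0) : ℕ) : ℤ) =
          (coefF l c : ℤ) := by rw [h1]
      rw [← h3]
      by_cases hcb : c = b0 <;> simp [hcb]
    rw [h2, add_smul, mul_smul, add_comm]
    by_cases hcb : c = b0 <;> simp [hcb]
  rw [sum_congr rfl hsplit, sum_add_distrib, sum_ite_eq' (range n) b0
    (fun c => (t : ℤ) • v c), if_pos (mem_range.mpr hb0), ← smul_sum] at hzz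
  refine ⟨z - ∑ c ∈ range n, ((coefF l c / N : ℕ) : ℤ) • v c, A'.sub_mem hz ?_, ?_⟩
  · apply AddSubgroup.sum_mem
    intro c hc
    exact A'.zsmul_mem (hv c (mem_range.mp hc)) _
  · rw [smul_sub, ← hzz]
    abel

/-- values, each of which is `N` times an element of the subgroup that they generate, vanish
when a power of `N` kills everything -/
theorem eq_zero_of_mem_smul (N a n : ℕ) (hN : ∀ x : M, ((N : ℤ) ^ a) • x = 0) (v : ℕ → M)
    (h : ∀ b < n, ∃ y ∈ AddSubgroup.closure {x | ∃ b < n, x = v b}, v b = (N : ℤ) • y) :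
    ∀ b < n, v b = 0 := by
  set A' := AddSubgroup.closure {x | ∃ b < n, x = v b} with hA'
  have hstep : ∀ y ∈ A', ∃ y' ∈ A', y = (N : ℤ) • y' := by
    intro y hy
    let S : AddSubgroup M :=
      { carrier := {y | ∃ y' ∈ A', y = (N : ℤ) • y'}
        zero_mem' := ⟨0, A'.zero_mem, by simp⟩
        add_mem' := by
          rintro x y ⟨x', hx', rfl⟩ ⟨y', hy', rfl⟩
          exact ⟨x' + y', A'.add_mem hx' hy', by rw [smul_add]⟩
        neg_mem' := by
          rintro x ⟨x', hx', rfl⟩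
          exact ⟨-x', A'.neg_mem hx', by rw [smul_neg]⟩ }
    have hle : A' ≤ S := by
      rw [hA', AddSubgroup.closure_le]
      rintro x ⟨b, hb, rfl⟩
      exact h b hb
    exact hle hy
  have hpow : ∀ k : ℕ, ∀ y ∈ A', ∃ y' ∈ A', y = ((N : ℤ) ^ k) • y' := by
    intro k
    induction k with
    | zero => intro y hy; exact ⟨y, hy, by simp⟩
    | succ k ih =>
      intro y hy
      obtain ⟨y₁, hy₁, rfl⟩ := ih y hy
      obtain ⟨y₂, hy₂, rfl⟩ := hstep y₁ hy₁
      exact ⟨y₂, hy₂, by rw [pow_succ, mul_smul]⟩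
  intro b hb
  obtain ⟨y', _, hy'⟩ := hpow a (v b) (AddSubgroup.subset_closure ⟨b, hb, rfl⟩)
  rw [hy', hN]

end sem

end Cfsg.Agent.Lib.Helper1.StemZE
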