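import Mathlib
import Cfsg.Agent.Lib.Helper1.StemZE1
import Cfsg.Agent.Lib.Helper1.StemZD5

set_option autoImplicit false

/-! Labelled actions with labels in a finite commutative `p`-group: the certificate of a left
inverse modulo `p` of the system of the equations (one combination for each unknown), showing that
all the labels vanish, and the group side. -/

namespace Cfsg.Agent.Lib.Helper1.StemZE

open Cfsg.Agent.Lib.Helper1.MatCode Cfsg.Agent.Lib.Helper1.Stem Cfsg.Agent.Lib.Helper1.StemSA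
  Cfsg.Agent.Lib.Helper1.StemZLin Cfsg.Agent.Lib.Helper1.StemLin Cfsg.Agent.Lib.Helper1.StemZA
  Cfsg.Agent.Lib.Helper1.StemZC Cfsg.Agent.Lib.Helper1.StemZD

variable (D : SAData)

/-- the contributions of a combination of equations -/
def entriesOfN (N : ℕ) (ys : List ((ℕ × ℕ) × ℕ)) : List (ℕ × ℕ) :=
  allEntriesN N (ys.map fun q => ((posL D q.1, negL D q.1), q.2))

/-- the check of one combination: modulo `N` it is the unit vector of the unknown `b` -/
def chkCombE (N : ℕ) (ys : List ((ℕ × ℕ) × ℕ)) (b : ℕ) : Bool :=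
  (ys.all fun q => D.chkSpec q.1 && chkRangeS D q.1 && decide (q.2 ≤ N)) &&
  decide (((entriesOfN D N ys).map fun e => e.2).sum < X) &&
  ((List.range D.n).all fun c =>
    packSum (entriesOfN D N ys) / X ^ c % X % N == if c = b then 1 else 0)

/-- the check of the certificate: one combination for each unknown -/
def chkCertE (N : ℕ) (C : List (List ((ℕ × ℕ) × ℕ))) : Bool :=
  (List.range D.n).all fun b => chkCombE D N (C.getD b []) b

section sound

variable {M : Type*} [AddCommGroup M] (v : ℕ → M) (N : ℕ) (C : List (List ((ℕ × ℕ) × ℕ)))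
  (hC : chkCertE D N C = true)
  (hE : ∀ s : ℕ × ℕ, D.chkSpec s = true → sgnSum v (posL D s) (negL D s) = 0)
include hC hE

theorem cert_vals_zero (a : ℕ) (h2 : ∀ x : M, ((N : ℤ) ^ a) • x = 0) :
    ∀ b < D.n, v b = 0 := by
  unfold chkCertE at hC
  simp only [List.all_eq_true, List.mem_range] at hC
  have hrange : ∀ s : ℕ × ℕ, chkRangeS D s = true →
      (∀ b ∈ posL D s, b < D.n) ∧ (∀ b ∈ negL D s, b < D.n) := by
    intro s hs
    unfold chkRangeS at hs
    simp only [Bool.and_eq_true, List.all_eq_true, decide_eq_true_eq] at hs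
    exact hs
  apply eq_zero_of_mem_smul N a D.n h2 v
  intro b hb
  have hcomb := hC b hb
  unfold chkCombE at hcomb
  simp only [Bool.and_eq_true, List.all_eq_true, decide_eq_true_eq, beq_iff_eq, List.mem_range]
    at hcomb
  obtain ⟨⟨hq, hT⟩, hcols⟩ := hcomb
  have hys : ∀ q ∈ ((C.getD b []).map fun q : (ℕ × ℕ) × ℕ => ((posL D q.1, negL D q.1), q.2)),
      (∀ b ∈ q.1.1, b < D.n) ∧ (∀ b ∈ q.1.2, b < D.n) ∧ sgnSum v q.1.1 q.1.2 = 0 ∧ q.2 ≤ N := by
    intro q hq'
    rw [List.mem_map] at hq'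
    obtain ⟨q', hq'', rfl⟩ := hq'
    obtain ⟨⟨h11, h12⟩, h13⟩ := hq q' hq''
    exact ⟨(hrange _ h12).1, (hrange _ h12).2, hE _ h11, h13⟩
  obtain ⟨y, hy, hyy⟩ := smul_mem_of_combN N 1 D.n v
    (AddSubgroup.closure {x | ∃ b < D.n, x = v b})
    (fun b hb' => AddSubgroup.subset_closure ⟨b, hb', rfl⟩)
    ((C.getD b []).map fun q : (ℕ × ℕ) × ℕ => ((posL D q.1, negL D q.1), q.2)) hys
    b hb hT hcols
  refine ⟨y, hy, ?_⟩
  rw [← hyy, Nat.cast_one, one_smul]

end sound

section group

variable {Γ G Y A : Type*} [Group Γ] [Group G] [MulAction G Y] [AddCommGroup A]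
    (σ : Γ →* G) (pt : ℕ → Y) (X : List Γ) (κ : Γ → A)

variable (hS : D.chkStruct = true) (H : ZAHyp D σ pt X κ)
include hS H

/-- the images of the preimage of the stabilizer under `κ` vanish -/
theorem ze_main (N : ℕ) (C : List (List ((ℕ × ℕ) × ℕ))) [Finite Γ] (hC : chkCertE D N C = true)
    (hm : 0 < D.m) (a : ℕ) (h2 : ∀ x : A, ((N : ℤ) ^ a) • x = 0) :
    ∀ c : Γ, σ c • pt 0 = pt 0 → κ c = 0 := by
  set v := val D X κ with hv
  have hE : ∀ s : ℕ × ℕ, D.chkSpec s = true → sgnSum v (posL D s) (negL D s) = 0 :=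
    fun s hs => spec_ok D σ pt X κ hS H s hs
  have hval := cert_vals_zero D v N C hC hE a h2
  have hlam : ∀ i < D.k, ∀ j < D.m, lam D X κ i j ∈ (⊥ : AddSubgroup A) := by
    intro i hi j hj
    have hb : i * D.m + j < D.n := by
      have : i * D.m + j < D.k * D.m := by
        calc i * D.m + j < i * D.m + D.m := by omega
          _ = (i + 1) * D.m := by ring
          _ ≤ D.k * D.m := Nat.mul_le_mul_right _ hi
      unfold SAData.n; omega
    have := hval _ hb
    rw [hv, val_edge D X κ i j hi hj] at this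
    rw [AddSubgroup.mem_bot]
    exact this
  intro c hc
  have := kap_mem_of_lam_mem' D σ pt X κ hS H hm ⊥ hlam c hc
  rwa [AddSubgroup.mem_bot] at this

end group

end Cfsg.Agent.Lib.Helper1.StemZE
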