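import Mathlib
import Cfsg.Agent.Lib.Helper1.StemZE1
import Cfsg.Agent.Lib.Helper1.StemZD2

set_option autoImplicit false

/-! Values of unknowns in a finite commutative `p`-group: combinations of sparse equations modulo
`p` show that the values of some distinguished unknowns generate; relations modulo a power of `p`
then bound the order of the subgroup generated. -/

namespace Cfsg.Agent.Lib.Helper1.StemZP

open Finset Cfsg.Agent.Lib.Helper1.StemLin Cfsg.Agent.Lib.Helper1.StemZLin
  Cfsg.Agent.Lib.Helper1.StemZD Cfsg.Agent.Lib.Helper1.StemZE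

section sem

variable {M : Type*} [AddCommGroup M]

/-- the conclusion of a combination equal modulo `N` to a unit vector, outside of the
distinguished unknowns -/
theorem gen_of_combN (N n : ℕ) (v : ℕ → M)
    (A' : AddSubgroup M) (hv : ∀ b < n, v b ∈ A') (ys : List ((List ℕ × List ℕ) × ℕ))
    (hys : ∀ q ∈ ys, (∀ b ∈ q.1.1, b < n) ∧ (∀ b ∈ q.1.2, b < n) ∧
      sgnSum v q.1.1 q.1.2 = 0 ∧ q.2 ≤ N)
    (bs : List ℕ) (Z : AddSubgroup M) (hZ : ∀ c ∈ bs, v c ∈ Z)
    (b0 : ℕ) (hb0 : b0 < n) (hb0s : b0 ∉ bs)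
    (hT : ((allEntriesN N ys).map fun e => e.2).sum < X)
    (hchk : ∀ c < n, c ∉ bs →
      packSum (allEntriesN N ys) / X ^ c % X % N = if c = b0 then 1 else 0) :
    ∃ y ∈ A', v b0 - (N : ℤ) • y ∈ Z := by
  classical
  set l := allEntriesN N ys with hl
  have hlt : ∀ e' ∈ l, e'.1 < n :=
    mem_allEntriesN_lt N n ys (fun q hq => ⟨(hys q hq).1, (hys q hq).2.1⟩)
  have hcoef : ∀ c < n, coefF l c < X := fun c _ => lt_of_le_of_lt (coefF_le l c) hT
  obtain ⟨_, hdig⟩ := digit_sum (coefF l) n hcoef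
  rw [← packSum_eq l n hlt] at hdig
  have hmod : ∀ c < n, c ∉ bs → coefF l c % N = if c = b0 then 1 else 0 := by
    intro c hc hcs
    rw [← hdig c hc]
    exact hchk c hc hcs
  obtain ⟨z, hz, hzz⟩ := semSum_allEntriesN N n v A' hv ys hys
  rw [semSum_eq v l n hlt] at hzz
  have hsplit : ∀ c ∈ range n, (coefF l c : ℤ) • v c =
      (((coefF l c % N : ℕ) : ℤ) • v c) + (N : ℤ) • (((coefF l c / N : ℕ) : ℤ) • v c) := by
    intro c _
    have h1 := Nat.div_add_mod (coefF l c) N
    have h2 : (coefF l c : ℤ) = (N : ℤ) * ((coefF l c / N : ℕ) : ℤ) + ((coefF l c % N : ℕ) : ℤ) := by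
      have h3 : ((N * (coefF l c / N) + coefF l c % N : ℕ) : ℤ) = (coefF l c : ℤ) := by rw [h1]
      rw [← h3]
      push_cast
      ring
    rw [← mul_smul, ← add_smul, add_comm, ← h2]
  rw [sum_congr rfl hsplit, sum_add_distrib, ← smul_sum] at hzz
  -- the remainders
  have hrem : ∑ c ∈ range n, ((coefF l c % N : ℕ) : ℤ) • v c - v b0 ∈ Z := by
    have e : ∑ c ∈ range n, ((coefF l c % N : ℕ) : ℤ) • v c - v b0 =
        ∑ c ∈ range n, (((coefF l c % N : ℕ) : ℤ) • v c - if c = b0 then v c else 0) := by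
      rw [sum_sub_distrib, sum_ite_eq' (range n) b0 (fun c => v c), if_pos (mem_range.mpr hb0)]
    rw [e]
    apply AddSubgroup.sum_mem
    intro c hc
    by_cases hcs : c ∈ bs
    · have hcb : c ≠ b0 := fun h => hb0s (h ▸ hcs)
      rw [if_neg hcb, sub_zero]
      exact Z.zsmul_mem (hZ c hcs) _
    · rw [hmod c (mem_range.mp hc) hcs]
      by_cases hcb : c = b0
      · rw [if_pos hcb, if_pos hcb, Nat.cast_one, one_smul, sub_self]
        exact Z.zero_mem
      · rw [if_neg hcb, if_neg hcb, Nat.cast_zero, zero_smul, sub_zero]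
        exact Z.zero_mem
  refine ⟨z - ∑ c ∈ range n, ((coefF l c / N : ℕ) : ℤ) • v c, A'.sub_mem hz ?_, ?_⟩
  · apply AddSubgroup.sum_mem
    intro c hc
    exact A'.zsmul_mem (hv c (mem_range.mp hc)) _
  · have e : v b0 - (N : ℤ) • (z - ∑ c ∈ range n, ((coefF l c / N : ℕ) : ℤ) • v c) =
        -(∑ c ∈ range n, ((coefF l c % N : ℕ) : ℤ) • v c - v b0) := by
      rw [smul_sub, ← hzz]
      abel
    rw [e]
    exact Z.neg_mem hrem

end sem

section card

variable {A : Type*} [AddCommGroup A] [Finite A]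

theorem card_zmultiples_le (p : ℕ) (hp : 0 < p) (x : A) (e : ℕ) (h : ((p : ℤ) ^ e) • x = 0) :
    Nat.card (AddSubgroup.zmultiples x) ≤ p ^ e := by
  rw [Nat.card_zmultiples]
  apply Nat.le_of_dvd (by positivity)
  apply addOrderOf_dvd_of_nsmul_eq_zero
  have e4 : ((p : ℤ) ^ e) = ((p ^ e : ℕ) : ℤ) := by push_cast; rfl
  rw [e4, natCast_zsmul] at h
  exact h

/-- the order of the subgroup generated by elements killed by powers of `p` -/
theorem card_closure_le (p : ℕ) (hp : 0 < p) (L : List A) (es : List ℕ)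
    (hlen : es.length = L.length)
    (h : ∀ j < L.length, ((p : ℤ) ^ es.getD j 0) • L.getD j 0 = 0) :
    Nat.card (AddSubgroup.closure {x | x ∈ L}) ≤ p ^ es.sum := by
  induction L generalizing es with
  | nil =>
    have : ({x | x ∈ ([] : List A)} : Set A) = ∅ := by ext; simp
    rw [this, AddSubgroup.closure_empty]
    simp only [AddSubgroup.card_bot]
    exact Nat.one_le_pow _ _ hp
  | cons x L ih =>
    cases es with
    | nil => simp at hlen
    | cons e es =>
      have hset : ({y | y ∈ x :: L} : Set A) = {x} ∪ {y | y ∈ L} := by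
        ext y; simp
      rw [hset, AddSubgroup.closure_union, ← AddSubgroup.zmultiples_eq_closure]
      refine (StemZD.card_sup_le _ _).trans ?_
      rw [List.sum_cons, pow_add]
      apply Nat.mul_le_mul
      · exact card_zmultiples_le p hp x e (by simpa using h 0 (by simp))
      · apply ih es (by simpa using hlen)
        intro j hj
        have := h (j + 1) (by simpa using hj)
        simpa using this

/-- the values generate a subgroup of bounded order -/
theorem card_le_of_gen_rel (p : ℕ) (hp : 0 < p) (a : ℕ) (h2 : ∀ x : A, ((p : ℤ) ^ a) • x = 0)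
    (n : ℕ) (v : ℕ → A) (bs : List ℕ) (hbs : ∀ b ∈ bs, b < n)
    (hgen : ∀ b < n, ∃ y ∈ AddSubgroup.closure {x | ∃ b < n, x = v b},
      v b - (p : ℤ) • y ∈ AddSubgroup.closure {x | x ∈ bs.map v})
    (s : ℕ) (es : List ℕ) (hes : es.length = bs.length) (hlt : ∀ e ∈ es, e < s)
    (hrel : ∀ j < bs.length, ∃ y ∈ AddSubgroup.closure {x | ∃ b < n, x = v b},
      ((p : ℤ) ^ es.getD j 0) • v (bs.getD j 0) = ((p : ℤ) ^ s) • y) :
    ∃ A₀ : AddSubgroup A, (∀ b < n, v b ∈ A₀) ∧ Nat.card A₀ ≤ p ^ es.sum := by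
  set r := bs.length with hrdef
  let A' : AddSubgroup A := AddSubgroup.closure {x | ∃ b < n, x = v b}
  have hvA : ∀ b < n, v b ∈ A' := fun b hb => AddSubgroup.subset_closure ⟨b, hb, rfl⟩
  let Z : AddSubgroup A := AddSubgroup.closure {x | x ∈ bs.map v}
  have hbsget : ∀ j < r, bs.getD j 0 ∈ bs := by
    intro j hj
    rw [List.getD_eq_getElem _ _ hj]; exact List.getElem_mem _
  have hZA : Z ≤ A' := by
    rw [AddSubgroup.closure_le]
    intro x hx
    obtain ⟨b, hb, rfl⟩ := List.mem_map.mp hx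
    exact hvA b (hbs b hb)
  -- the first step: modulo `p`
  let P : AddSubgroup A :=
    { carrier := {x | ∃ y ∈ A', x - (p : ℤ) • y ∈ Z}
      zero_mem' := ⟨0, A'.zero_mem, by simp⟩
      add_mem' := by
        rintro x x' ⟨y, hy, h⟩ ⟨y', hy', h'⟩
        refine ⟨y + y', A'.add_mem hy hy', ?_⟩
        have e : x + x' - (p : ℤ) • (y + y') = (x - (p : ℤ) • y) + (x' - (p : ℤ) • y') := by
          rw [smul_add]; abel
        rw [e]; exact Z.add_mem h h'
      neg_mem' := by
        rintro x ⟨y, hy, h⟩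
        refine ⟨-y, A'.neg_mem hy, ?_⟩
        have e : -x - (p : ℤ) • (-y) = -(x - (p : ℤ) • y) := by
          rw [smul_neg]; abel
        rw [e]; exact Z.neg_mem h }
  have hAP : A' ≤ P := by
    rw [AddSubgroup.closure_le]
    rintro x ⟨b, hb, rfl⟩
    exact hgen b hb
  -- the second step: descent
  have hdesc : ∀ t : ℕ, ∀ x ∈ A', ∃ y ∈ A', x - ((p : ℤ) ^ t) • y ∈ Z := by
    intro t
    induction t with
    | zero =>
      intro x hx
      exact ⟨x, hx, by rw [pow_zero, one_smul, sub_self]; exact Z.zero_mem⟩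
    | succ t ih =>
      intro x hx
      obtain ⟨y, hy, h⟩ := ih x hx
      obtain ⟨y', hy', h'⟩ := hAP hy
      refine ⟨y', hy', ?_⟩
      have e : x - ((p : ℤ) ^ (t + 1)) • y' =
          (x - ((p : ℤ) ^ t) • y) + ((p : ℤ) ^ t) • (y - (p : ℤ) • y') := by
        rw [smul_sub, pow_succ, mul_smul]; abel
      rw [e]
      exact Z.add_mem h (Z.zsmul_mem h' _)
  have hAZ : ∀ x ∈ A', x ∈ Z := by
    intro x hx
    obtain ⟨y, _, h⟩ := hdesc a x hx
    rwa [h2 y, sub_zero] at h
  -- the third step: the exponent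
  have hes_get : ∀ j < r, es.getD j 0 < s := by
    intro j hj
    apply hlt
    rw [List.getD_eq_getElem _ _ (by omega)]; exact List.getElem_mem _
  have hkill : ∀ m : ℕ, (∀ j < r, es.getD j 0 ≤ m) → m < s → ∀ x ∈ A', ((p : ℤ) ^ m) • x = 0 := by
    intro m hm hms
    have hstep : ∀ x ∈ Z, ∃ x' ∈ A', ((p : ℤ) ^ m) • x = ((p : ℤ) ^ (m + 1)) • x' := by
      intro x hx
      induction hx using AddSubgroup.closure_induction with
      | mem x hx =>
        obtain ⟨b, hb, rfl⟩ := List.mem_map.mp hx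
        obtain ⟨j, hj, hjb⟩ := List.getElem_of_mem hb
        have hj' : j < r := hj
        have hbj : bs.getD j 0 = b := by rw [List.getD_eq_getElem _ _ hj]; exact hjb
        obtain ⟨y, hy, hyy⟩ := hrel j hj'
        rw [hbj] at hyy
        refine ⟨((p : ℤ) ^ (m - es.getD j 0 + (s - (m + 1)))) • y, A'.zsmul_mem hy _, ?_⟩
        have e1 : ((p : ℤ) ^ m) = (p : ℤ) ^ (m - es.getD j 0) * (p : ℤ) ^ es.getD j 0 := by
          rw [← pow_add, Nat.sub_add_cancel (hm j hj')]
        rw [e1, mul_smul, hyy, ← mul_smul, ← mul_smul]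
        congr 1
        rw [← pow_add, ← pow_add]
        congr 1
        have := hm j hj'
        omega
      | zero => exact ⟨0, A'.zero_mem, by simp⟩
      | add x y _ _ hx hy =>
        obtain ⟨x', hx', h1⟩ := hx
        obtain ⟨y', hy', h2'⟩ := hy
        exact ⟨x' + y', A'.add_mem hx' hy', by rw [smul_add, smul_add, h1, h2']⟩
      | neg x _ hx =>
        obtain ⟨x', hx', h1⟩ := hx
        exact ⟨-x', A'.neg_mem hx', by rw [smul_neg, smul_neg, h1]⟩
    have hiter : ∀ t : ℕ, ∀ x ∈ A', ∃ x' ∈ A', ((p : ℤ) ^ m) • x = ((p : ℤ) ^ (m + t)) • x' := by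
      intro t
      induction t with
      | zero => intro x hx; exact ⟨x, hx, rfl⟩
      | succ t ih =>
        intro x hx
        obtain ⟨x', hx', h1⟩ := ih x hx
        obtain ⟨x'', hx'', h2'⟩ := hstep x' (hAZ x' hx')
        refine ⟨x'', hx'', ?_⟩
        have e : ((p : ℤ) ^ (m + t)) = (p : ℤ) ^ t * (p : ℤ) ^ m := by rw [← pow_add, add_comm]
        rw [h1, e, mul_smul, h2', ← mul_smul, ← pow_add]
        congr 2
        omega
    intro x hx
    obtain ⟨x', _, h1⟩ := hiter a x hx
    have e : ((p : ℤ) ^ (m + a)) = (p : ℤ) ^ m * (p : ℤ) ^ a := by rw [pow_add]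
    rw [h1, e, mul_smul, h2 x', smul_zero]
  -- the maximum of the exponents
  obtain ⟨m, hm1, hm2⟩ : ∃ m, (∀ j < r, es.getD j 0 ≤ m) ∧ (m < s ∨ r = 0) := by
    by_cases hr0 : r = 0
    · exact ⟨0, fun j hj => by omega, Or.inr hr0⟩
    · have hs0 : 0 < s := by
        have := hes_get 0 (by omega)
        omega
      refine ⟨(Finset.range r).sup (fun j => es.getD j 0), ?_, Or.inl ?_⟩
      · intro j hj
        exact Finset.le_sup (f := fun j => es.getD j 0) (Finset.mem_range.mpr hj)
      · rw [Finset.sup_lt_iff (by simpa using hs0)]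
        intro j hj
        exact hes_get j (Finset.mem_range.mp hj)
  -- the relations
  have hrel0 : ∀ j < r, ((p : ℤ) ^ es.getD j 0) • v (bs.getD j 0) = 0 := by
    intro j hj
    rcases hm2 with hms | hr0
    · obtain ⟨y, hy, hyy⟩ := hrel j hj
      rw [hyy]
      have e : ((p : ℤ) ^ s) = (p : ℤ) ^ (s - m) * (p : ℤ) ^ m := by
        rw [← pow_add, Nat.sub_add_cancel (le_of_lt hms)]
      rw [e, mul_smul, hkill m hm1 hms y hy, smul_zero]
    · omega
  refine ⟨Z, fun b hb => hAZ _ (hvA b hb), ?_⟩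
  apply card_closure_le p hp (bs.map v) es (by rw [List.length_map]; exact hes)
  intro j hj
  rw [List.length_map] at hj
  have : (bs.map v).getD j 0 = v (bs.getD j 0) := by
    rw [List.getD_eq_getElem _ _ (by rw [List.length_map]; exact hj), List.getElem_map,
      List.getD_eq_getElem _ _ hj]
  rw [this]
  exact hrel0 j hj

end card

end Cfsg.Agent.Lib.Helper1.StemZP
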