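import Mathlib
import Cfsg.Agent.Lib.Helper1.StemZP1
import Cfsg.Agent.Lib.Helper1.StemZE2

set_option autoImplicit false

/-! Labelled actions with labels in a finite commutative `p`-group: the sparse certificate with
distinguished unknowns, and the group side. -/

namespace Cfsg.Agent.Lib.Helper1.StemZP

open Cfsg.Agent.Lib.Helper1.MatCode Cfsg.Agent.Lib.Helper1.Stem Cfsg.Agent.Lib.Helper1.StemSA
  Cfsg.Agent.Lib.Helper1.StemZLin Cfsg.Agent.Lib.Helper1.StemLin Cfsg.Agent.Lib.Helper1.StemZA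
  Cfsg.Agent.Lib.Helper1.StemZC Cfsg.Agent.Lib.Helper1.StemZD Cfsg.Agent.Lib.Helper1.StemZE

/-- the certificate: the prime, the exponent of the modulus of the relations, the distinguished
unknowns with the exponents of their relations, one combination modulo `p` for each unknown, and
one combination modulo `p ^ s` for each distinguished unknown -/
structure ZPCert where
  p : ℕ
  s : ℕ
  bs : List ℕ
  es : List ℕ
  gen : List (List ((ℕ × ℕ) × ℕ))
  rel : List (List ((ℕ × ℕ) × ℕ))

variable (D : SAData) (C : ZPCert)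

/-- the check of the combination of an unknown that is not distinguished -/
def chkGen (ys : List ((ℕ × ℕ) × ℕ)) (b : ℕ) : Bool :=
  (ys.all fun q => D.chkSpec q.1 && chkRangeS D q.1 && decide (q.2 ≤ C.p)) &&
  decide (((entriesOfN D C.p ys).map fun e => e.2).sum < X) &&
  ((List.range D.n).all fun c => C.bs.contains c ||
    (packSum (entriesOfN D C.p ys) / X ^ c % X % C.p == if c = b then 1 else 0))

/-- the check of the combination of a distinguished unknown -/
def chkRel (ys : List ((ℕ × ℕ) × ℕ)) (b e : ℕ) : Bool :=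
  (ys.all fun q => D.chkSpec q.1 && chkRangeS D q.1 && decide (q.2 ≤ C.p ^ C.s)) &&
  decide (((entriesOfN D (C.p ^ C.s) ys).map fun e => e.2).sum < X) &&
  ((List.range D.n).all fun c =>
    packSum (entriesOfN D (C.p ^ C.s) ys) / X ^ c % X % C.p ^ C.s == if c = b then C.p ^ e else 0)

/-- the check of the certificate -/
def chkCertP : Bool :=
  decide (0 < C.p) && (C.bs.all fun b => decide (b < D.n)) && (C.es.length == C.bs.length) &&
  (C.es.all fun e => decide (e < C.s)) &&
  ((List.range D.n).all fun b => C.bs.contains b || chkGen D C (C.gen.getD b []) b) &&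
  ((List.range C.bs.length).all fun j =>
    chkRel D C (C.rel.getD j []) (C.bs.getD j 0) (C.es.getD j 0))

section sound

variable {M : Type*} [AddCommGroup M] [Finite M] (v : ℕ → M) (hC : chkCertP D C = true)
  (hE : ∀ s : ℕ × ℕ, D.chkSpec s = true → sgnSum v (posL D s) (negL D s) = 0)
include hC hE

theorem cert_vals (a : ℕ) (h2 : ∀ x : M, ((C.p : ℤ) ^ a) • x = 0) :
    ∃ A₀ : AddSubgroup M, (∀ b < D.n, v b ∈ A₀) ∧ Nat.card A₀ ≤ C.p ^ C.es.sum := by
  unfold chkCertP at hC
  simp only [Bool.and_eq_true, List.all_eq_true, decide_eq_true_eq, beq_iff_eq, List.mem_range,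
    Bool.or_eq_true, List.contains_iff_mem] at hC
  obtain ⟨⟨⟨⟨⟨h1, h4⟩, h8⟩, h9⟩, hg⟩, h10⟩ := hC
  have hrange : ∀ s : ℕ × ℕ, chkRangeS D s = true →
      (∀ b ∈ posL D s, b < D.n) ∧ (∀ b ∈ negL D s, b < D.n) := by
    intro s hs
    unfold chkRangeS at hs
    simp only [Bool.and_eq_true, List.all_eq_true, decide_eq_true_eq] at hs
    exact hs
  have hvA : ∀ b < D.n, v b ∈ AddSubgroup.closure {x | ∃ b < D.n, x = v b} :=
    fun b hb' => AddSubgroup.subset_closure ⟨b, hb', rfl⟩
  apply card_le_of_gen_rel C.p h1 a h2 D.n v C.bs h4 ?_ C.s C.es h8 h9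
  · -- the relations
    intro j hj
    have hb : C.bs.getD j 0 < D.n := by
      apply h4
      rw [List.getD_eq_getElem _ _ hj]; exact List.getElem_mem _
    have hcomb := h10 j hj
    unfold chkRel at hcomb
    simp only [Bool.and_eq_true, List.all_eq_true, decide_eq_true_eq, beq_iff_eq, List.mem_range]
      at hcomb
    obtain ⟨⟨hq, hT⟩, hcols⟩ := hcomb
    have hys : ∀ q ∈ ((C.rel.getD j []).map fun q : (ℕ × ℕ) × ℕ => ((posL D q.1, negL D q.1), q.2)),
        (∀ b ∈ q.1.1, b < D.n) ∧ (∀ b ∈ q.1.2, b < D.n) ∧ sgnSum v q.1.1 q.1.2 = 0 ∧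
          q.2 ≤ C.p ^ C.s := by
      intro q hq'
      rw [List.mem_map] at hq'
      obtain ⟨q', hq'', rfl⟩ := hq'
      obtain ⟨⟨h11, h12⟩, h13⟩ := hq q' hq''
      exact ⟨(hrange _ h12).1, (hrange _ h12).2, hE _ h11, h13⟩
    obtain ⟨y, hy, hyy⟩ := smul_mem_of_combN (C.p ^ C.s) (C.p ^ C.es.getD j 0) D.n v
      (AddSubgroup.closure {x | ∃ b < D.n, x = v b}) hvA
      ((C.rel.getD j []).map fun q : (ℕ × ℕ) × ℕ => ((posL D q.1, negL D q.1), q.2)) hys
      (C.bs.getD j 0) hb hT hcols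
    refine ⟨y, hy, ?_⟩
    have e1 : ((C.p : ℤ) ^ C.es.getD j 0) = ((C.p ^ C.es.getD j 0 : ℕ) : ℤ) := by push_cast; rfl
    have e2 : ((C.p : ℤ) ^ C.s) = ((C.p ^ C.s : ℕ) : ℤ) := by push_cast; rfl
    rw [e1, e2]
    exact hyy
  · -- the generation modulo `p`
    intro b hb
    have hZ : ∀ c ∈ C.bs, v c ∈ AddSubgroup.closure {x | x ∈ C.bs.map v} :=
      fun c hc => AddSubgroup.subset_closure (List.mem_map.mpr ⟨c, hc, rfl⟩)
    by_cases hbs : b ∈ C.bs
    · exact ⟨0, AddSubgroup.zero_mem _, by rw [smul_zero, sub_zero]; exact hZ b hbs⟩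
    · have hcomb := (hg b hb).resolve_left hbs
      unfold chkGen at hcomb
      simp only [Bool.and_eq_true, List.all_eq_true, decide_eq_true_eq, beq_iff_eq, List.mem_range,
        Bool.or_eq_true, List.contains_iff_mem] at hcomb
      obtain ⟨⟨hq, hT⟩, hcols⟩ := hcomb
      have hys : ∀ q ∈ ((C.gen.getD b []).map fun q : (ℕ × ℕ) × ℕ =>
          ((posL D q.1, negL D q.1), q.2)),
          (∀ b ∈ q.1.1, b < D.n) ∧ (∀ b ∈ q.1.2, b < D.n) ∧ sgnSum v q.1.1 q.1.2 = 0 ∧
            q.2 ≤ C.p := by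
        intro q hq'
        rw [List.mem_map] at hq'
        obtain ⟨q', hq'', rfl⟩ := hq'
        obtain ⟨⟨h11, h12⟩, h13⟩ := hq q' hq''
        exact ⟨(hrange _ h12).1, (hrange _ h12).2, hE _ h11, h13⟩
      exact gen_of_combN C.p D.n v (AddSubgroup.closure {x | ∃ b < D.n, x = v b}) hvA
        ((C.gen.getD b []).map fun q : (ℕ × ℕ) × ℕ => ((posL D q.1, negL D q.1), q.2)) hys
        C.bs (AddSubgroup.closure {x | x ∈ C.bs.map v}) hZ b hb hbs hT
        (fun c hc hcs => (hcols c hc).resolve_left hcs)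

end sound

section group

variable {Γ G Y A : Type*} [Group Γ] [Group G] [MulAction G Y] [AddCommGroup A]
    (σ : Γ →* G) (pt : ℕ → Y) (X : List Γ) (κ : Γ → A)

variable (hS : D.chkStruct = true) (H : ZAHyp D σ pt X κ)
include hS H

/-- the images of the kernel under `κ` lie in a subgroup of bounded order -/
theorem zp_main [Finite Γ] [Finite A] (hC : chkCertP D C = true) (hm : 0 < D.m) (a : ℕ)
    (h2 : ∀ x : A, ((C.p : ℤ) ^ a) • x = 0) :
    ∃ A₀ : AddSubgroup A, Nat.card A₀ ≤ C.p ^ C.es.sum ∧ ∀ c : Γ, σ c = 1 → κ c ∈ A₀ := by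
  set v := val D X κ with hv
  have hE : ∀ s : ℕ × ℕ, D.chkSpec s = true → sgnSum v (posL D s) (negL D s) = 0 :=
    fun s hs => spec_ok D σ pt X κ hS H s hs
  obtain ⟨A₀, hval, hcard⟩ := cert_vals D C v hC hE a h2
  refine ⟨A₀, hcard, ?_⟩
  have hlam : ∀ i < D.k, ∀ j < D.m, lam D X κ i j ∈ A₀ := by
    intro i hi j hj
    have hb : i * D.m + j < D.n := by
      have : i * D.m + j < D.k * D.m := by
        calc i * D.m + j < i * D.m + D.m := by omega
          _ = (i + 1) * D.m := by ring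
          _ ≤ D.k * D.m := Nat.mul_le_mul_right _ hi
      unfold SAData.n; omega
    have := hval _ hb
    rwa [hv, val_edge D X κ i j hi hj] at this
  exact kap_mem_of_lam_mem D σ pt X κ hS H hm A₀ hlam

/-- the images of the preimage of the stabilizer under `κ` lie in a subgroup of bounded order -/
theorem zp_main' [Finite Γ] [Finite A] (hC : chkCertP D C = true) (hm : 0 < D.m)
    (a : ℕ) (h2 : ∀ x : A, ((C.p : ℤ) ^ a) • x = 0) :
    ∃ A₀ : AddSubgroup A, Nat.card A₀ ≤ C.p ^ C.es.sum ∧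
      ∀ c : Γ, σ c • pt 0 = pt 0 → κ c ∈ A₀ := by
  set v := val D X κ with hv
  have hE : ∀ s : ℕ × ℕ, D.chkSpec s = true → sgnSum v (posL D s) (negL D s) = 0 :=
    fun s hs => spec_ok D σ pt X κ hS H s hs
  obtain ⟨A₀, hval, hcard⟩ := cert_vals D C v hC hE a h2
  refine ⟨A₀, hcard, ?_⟩
  have hlam : ∀ i < D.k, ∀ j < D.m, lam D X κ i j ∈ A₀ := by
    intro i hi j hj
    have hb : i * D.m + j < D.n := by
      have : i * D.m + j < D.k * D.m := by
        calc i * D.m + j < i * D.m + D.m := by omega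
          _ = (i + 1) * D.m := by ring
          _ ≤ D.k * D.m := Nat.mul_le_mul_right _ hi
      unfold SAData.n; omega
    have := hval _ hb
    rwa [hv, val_edge D X κ i j hi hj] at this
  exact kap_mem_of_lam_mem' D σ pt X κ hS H hm A₀ hlam

end group

end Cfsg.Agent.Lib.Helper1.StemZP
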