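import Mathlib
import Cfsg.Agent.Lib.Helper1.StemZLin

set_option autoImplicit false

/-! Packed vectors with digits modulo `p`: spreading the digits, sums of rows, and a square system
of sparse equations with an explicit right inverse modulo `p`. -/

namespace Cfsg.Agent.Lib.Helper1.StemZP

open Finset Cfsg.Agent.Lib.Helper1.StemZLin

section digits

/-- extraction of the digits of a packed vector in the base `Xb` -/
theorem digit_sumB (Xb : ℕ) (hX : 0 < Xb) (f : ℕ → ℕ) (n : ℕ) (hf : ∀ c < n, f c < Xb) :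
    (∑ i ∈ range n, f i * Xb ^ i) < Xb ^ n ∧
      ∀ c < n, (∑ i ∈ range n, f i * Xb ^ i) / Xb ^ c % Xb = f c := by
  induction n with
  | zero => exact ⟨by simp, fun c hc => absurd hc (Nat.not_lt_zero c)⟩
  | succ n ih =>
    obtain ⟨h1, h2⟩ := ih (fun c hc => hf c (by omega))
    have hfn : f n < Xb := hf n (by omega)
    have hXn : 0 < Xb ^ n := pow_pos hX n
    rw [sum_range_succ]
    constructor
    · calc (∑ i ∈ range n, f i * Xb ^ i) + f n * Xb ^ n < Xb ^ n + f n * Xb ^ n := by omega
        _ = (f n + 1) * Xb ^ n := by ring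
        _ ≤ Xb * Xb ^ n := Nat.mul_le_mul_right _ (by omega)
        _ = Xb ^ (n + 1) := by rw [pow_succ']
    · intro c hc
      by_cases hcn : c < n
      · have e : f n * Xb ^ n = (f n * Xb ^ (n - c)) * Xb ^ c := by
          rw [mul_assoc, ← pow_add, Nat.sub_add_cancel (by omega)]
        rw [e, Nat.add_mul_div_right _ _ (pow_pos hX c)]
        have e2 : f n * Xb ^ (n - c) = (f n * Xb ^ (n - c - 1)) * Xb := by
          rw [mul_assoc, ← pow_succ, Nat.sub_add_cancel (by omega)]
        rw [e2, Nat.add_mul_mod_self_right]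
        exact h2 c hcn
      · have hcn' : c = n := by omega
        subst hcn'
        rw [Nat.add_mul_div_right _ _ hXn, Nat.div_eq_of_lt h1, zero_add, Nat.mod_eq_of_lt hfn]

/-- spreading the digits in the base `p` of a number to the base `Xb` -/
def spread (p Xb : ℕ) : ℕ → ℕ → ℕ
  | 0, _ => 0
  | N + 1, x => x % p + Xb * spread p Xb N (x / p)

theorem spread_eq (p Xb N x : ℕ) :
    spread p Xb N x = ∑ j ∈ range N, (x / p ^ j % p) * Xb ^ j := by
  induction N generalizing x with
  | zero => simp [spread]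
  | succ N ih =>
    rw [spread, ih, sum_range_succ', mul_sum]
    simp only [pow_zero, Nat.div_one, mul_one]
    rw [add_comm]
    congr 1
    apply sum_congr rfl
    intro j _
    rw [Nat.div_div_eq_div_mul, ← pow_succ', pow_succ' Xb j]
    ring

/-- a sum of rows, digit by digit -/
theorem sum_rows (Xb N : ℕ) (B : ℕ → ℕ → ℕ) (R : ℕ → ℕ)
    (hR : ∀ c, R c = ∑ j ∈ range N, B c j * Xb ^ j) (l : List ℕ) :
    (l.map R).sum = ∑ j ∈ range N, (l.map fun c => B c j).sum * Xb ^ j := by
  induction l with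
  | nil => simp
  | cons c l ih =>
    rw [List.map_cons, List.sum_cons, ih, hR, ← sum_add_distrib]
    apply sum_congr rfl
    intro j _
    rw [List.map_cons, List.sum_cons, add_mul]

/-- the digits of a signed sum of rows -/
theorem digit_rowSum (p Xb N : ℕ) (hX : 0 < Xb) (B : ℕ → ℕ → ℕ) (hB : ∀ c j, B c j ≤ p - 1)
    (R : ℕ → ℕ) (hR : ∀ c, R c = ∑ j ∈ range N, B c j * Xb ^ j) (cl nl : List ℕ)
    (hbd : (cl.length + (p - 1) * nl.length) * (p - 1) < Xb) (j : ℕ) (hj : j < N) :
    ((cl.map R).sum + (p - 1) * (nl.map R).sum) / Xb ^ j % Xb =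
      (cl.map fun c => B c j).sum + (p - 1) * (nl.map fun c => B c j).sum := by
  have hle : ∀ (l : List ℕ) (j : ℕ), (l.map fun c => B c j).sum ≤ l.length * (p - 1) := by
    intro l j
    induction l with
    | nil => simp
    | cons c l ih =>
      rw [List.map_cons, List.sum_cons, List.length_cons, add_mul, one_mul, add_comm]
      exact Nat.add_le_add ih (hB c j)
  have e : (cl.map R).sum + (p - 1) * (nl.map R).sum =
      ∑ j ∈ range N, ((cl.map fun c => B c j).sum + (p - 1) * (nl.map fun c => B c j).sum) *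
        Xb ^ j := by
    rw [sum_rows Xb N B R hR cl, sum_rows Xb N B R hR nl, mul_sum, ← sum_add_distrib]
    apply sum_congr rfl
    intro j _
    ring
  rw [e]
  refine (digit_sumB Xb hX _ N ?_).2 j hj
  intro c _
  calc (cl.map fun c' => B c' c).sum + (p - 1) * (nl.map fun c' => B c' c).sum
      ≤ cl.length * (p - 1) + (p - 1) * (nl.length * (p - 1)) :=
        Nat.add_le_add (hle cl c) (Nat.mul_le_mul_left _ (hle nl c))
    _ = (cl.length + (p - 1) * nl.length) * (p - 1) := by ring
    _ < Xb := hbd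

end digits

section rightInverse

variable {Q : Type*} [AddCommGroup Q]

theorem sum_countP {N : ℕ} (p : ℕ) (l : List ℕ) (hl : ∀ b ∈ l, b < N) (f : ℕ → ZMod p) :
    (l.map f).sum = ∑ b : Fin N, ((l.count (b : ℕ) : ℕ) : ZMod p) * f b := by
  induction l with
  | nil => simp
  | cons a l ih =>
    have ha : a < N := hl a (by simp)
    have hl' : ∀ b ∈ l, b < N := fun b hb => hl b (by simp [hb])
    rw [List.map_cons, List.sum_cons, ih hl']
    have : ∀ b : Fin N, (((a :: l).count (b : ℕ) : ℕ) : ZMod p) * f b =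
        (if (b : ℕ) = a then f b else 0) + ((l.count (b : ℕ) : ℕ) : ZMod p) * f b := by
      intro b
      rw [List.count_cons]
      by_cases h : (b : ℕ) = a
      · simp [h]; ring
      · have : ¬ a = (b : ℕ) := fun h' => h h'.symm
        simp [h, this]
    simp_rw [this]
    rw [Finset.sum_add_distrib]
    congr 1
    rw [Finset.sum_eq_single (⟨a, ha⟩ : Fin N)]
    · simp
    · intro b _ hb
      have : (b : ℕ) ≠ a := fun h => hb (Fin.ext h)
      simp [this]
    · intro h; exact absurd (Finset.mem_univ _) h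

/-- a square system of sparse signed equations with an explicit right inverse modulo `p`: values
killed by `p` on which all the equations vanish are zero -/
theorem val_eq_zero_of_rightInverseP (p : ℕ) (hp : 1 < p) (N : ℕ) (cl nl : ℕ → List ℕ)
    (hcl : ∀ i < N, ∀ c ∈ cl i, c < N) (hnl : ∀ i < N, ∀ c ∈ nl i, c < N) (B : ℕ → ℕ → ℕ)
    (hchk : ∀ i < N, ∀ j < N,
      (((cl i).map fun c => B c j).sum + (p - 1) * ((nl i).map fun c => B c j).sum) % p =
        if i = j then 1 else 0)
    (u : ℕ → Q) (hpu : ∀ c < N, (p : ℤ) • u c = 0)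
    (heq : ∀ i < N, sgnSum u (cl i) (nl i) = 0) (c₀ : ℕ) (hc₀ : c₀ < N) : u c₀ = 0 := by
  classical
  let C : Matrix (Fin N) (Fin N) (ZMod p) := fun i c =>
    (((cl i).count (c : ℕ) : ℕ) : ZMod p) - (((nl i).count (c : ℕ) : ℕ) : ZMod p)
  let Bz : Matrix (Fin N) (Fin N) (ZMod p) := fun c j => ((B c j : ℕ) : ZMod p)
  have hp1 : ((p - 1 : ℕ) : ZMod p) = -1 := by
    have : ((p - 1 : ℕ) : ZMod p) + 1 = 0 := by
      have h := ZMod.natCast_self p
      rw [← Nat.cast_one (R := ZMod p), ← Nat.cast_add, Nat.sub_add_cancel (le_of_lt hp)]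
      exact h
    exact eq_neg_of_add_eq_zero_left this
  have hCB : C * Bz = 1 := by
    ext i j
    rw [Matrix.mul_apply]
    have h1 := sum_countP (N := N) p (cl i) (hcl i i.2) (fun c => ((B c j : ℕ) : ZMod p))
    have h2 := sum_countP (N := N) p (nl i) (hnl i i.2) (fun c => ((B c j : ℕ) : ZMod p))
    have h3 : ∑ c : Fin N, C i c * Bz c j =
        ((cl i).map fun c => ((B c j : ℕ) : ZMod p)).sum -
          ((nl i).map fun c => ((B c j : ℕ) : ZMod p)).sum := by
      rw [h1, h2, ← Finset.sum_sub_distrib]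
      apply Finset.sum_congr rfl
      intro c _
      simp only [C, Bz]
      ring
    rw [h3]
    have h4 := congrArg (fun x : ℕ => (x : ZMod p)) (hchk i i.2 j j.2)
    simp only [ZMod.natCast_mod, Nat.cast_add, Nat.cast_mul, hp1] at h4
    have h5 : ∀ l : List ℕ, (((l.map fun c => B c j).sum : ℕ) : ZMod p) =
        (l.map fun c => ((B c j : ℕ) : ZMod p)).sum := by
      intro l
      induction l with
      | nil => simp
      | cons a l ih => simp only [List.map_cons, List.sum_cons, Nat.cast_add, ih]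
    rw [h5, h5] at h4
    rw [Matrix.one_apply]
    have h6 : ((cl i).map fun c => ((B c j : ℕ) : ZMod p)).sum -
        ((nl i).map fun c => ((B c j : ℕ) : ZMod p)).sum =
        ((cl i).map fun c => ((B c j : ℕ) : ZMod p)).sum +
          -1 * ((nl i).map fun c => ((B c j : ℕ) : ZMod p)).sum := by ring
    rw [h6, h4]
    by_cases hij : i = j
    · subst hij; simp
    · have : ¬ (i : ℕ) = (j : ℕ) := fun h => hij (Fin.ext h)
      simp [hij, this]
  have hBC : Bz * C = 1 := mul_eq_one_comm.mp hCB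
  -- the integer coefficients
  let Nc : ℕ → ℤ := fun c => ∑ i ∈ range N, (B c₀ i : ℤ) * coef (cl i) (nl i) c
  have hN : ∀ c < N, ∃ k : ℤ, Nc c = (if c₀ = c then 1 else 0) + (p : ℤ) * k := by
    intro c hc
    have h1 := congrFun (congrFun hBC ⟨c₀, hc₀⟩) ⟨c, hc⟩
    rw [Matrix.mul_apply, Matrix.one_apply] at h1
    have e : ((Nc c : ℤ) : ZMod p) = ∑ i : Fin N, Bz ⟨c₀, hc₀⟩ i * C i ⟨c, hc⟩ := by
      simp only [Nc]
      rw [Int.cast_sum, ← Fin.sum_univ_eq_sum_range (fun i =>
        ((((B c₀ i : ℤ) * coef (cl i) (nl i) c : ℤ)) : ZMod p)) N]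
      apply Finset.sum_congr rfl
      intro i _
      simp only [Bz, C, coef]
      push_cast
      ring
    have h3 : ((Nc c - (if c₀ = c then 1 else 0) : ℤ) : ZMod p) = 0 := by
      rw [Int.cast_sub, e, h1]
      by_cases hbc : c₀ = c
      · subst hbc; simp
      · have : ¬ (⟨c₀, hc₀⟩ : Fin N) = ⟨c, hc⟩ := fun h => hbc (Fin.mk.inj_iff.mp h)
        simp [hbc, this]
    rw [ZMod.intCast_zmod_eq_zero_iff_dvd] at h3
    obtain ⟨k, hk⟩ := h3
    exact ⟨k, by linarith⟩
  have hNv : ∀ c ∈ range N, Nc c • u c = if c₀ = c then u c else 0 := by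
    intro c hc
    obtain ⟨k, hk⟩ := hN c (mem_range.mp hc)
    rw [hk, add_smul, mul_comm, mul_smul, hpu c (mem_range.mp hc), smul_zero, add_zero]
    by_cases hbc : c₀ = c <;> simp [hbc]
  have h5 : ∑ i ∈ range N, (B c₀ i : ℤ) • sgnSum u (cl i) (nl i) = ∑ c ∈ range N, Nc c • u c := by
    have h6 : ∀ i ∈ range N, (B c₀ i : ℤ) • sgnSum u (cl i) (nl i) =
        ∑ c ∈ range N, ((B c₀ i : ℤ) * coef (cl i) (nl i) c) • u c := by
      intro i hi
      rw [sgnSum_eq N u (cl i) (nl i) (hcl i (mem_range.mp hi)) (hnl i (mem_range.mp hi)),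
        smul_sum]
      apply sum_congr rfl
      intro c _
      rw [mul_smul]
    rw [sum_congr rfl h6, sum_comm]
    apply sum_congr rfl
    intro c _
    simp only [Nc]
    rw [sum_smul]
  have h7 : ∑ i ∈ range N, (B c₀ i : ℤ) • sgnSum u (cl i) (nl i) = 0 := by
    apply sum_eq_zero
    intro i hi
    rw [heq i (mem_range.mp hi), smul_zero]
  rw [h7, sum_congr rfl hNv, sum_ite_eq (range N) c₀ u, if_pos (mem_range.mpr hc₀)] at h5
  exact h5.symm

end rightInverse

end Cfsg.Agent.Lib.Helper1.StemZP
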