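import Mathlib
import Cfsg.Agent.Lib.Helper1.StemZP2
import Cfsg.Agent.Lib.Helper1.StemZP3

set_option autoImplicit false

/-! Labelled actions with labels in a finite commutative `p`-group: the certificate with a packed
right inverse modulo `p` on the unknowns outside the tree. -/

namespace Cfsg.Agent.Lib.Helper1.StemZP

open Finset Cfsg.Agent.Lib.Helper1.MatCode Cfsg.Agent.Lib.Helper1.Stem
  Cfsg.Agent.Lib.Helper1.StemSA Cfsg.Agent.Lib.Helper1.StemZLin Cfsg.Agent.Lib.Helper1.StemLin
  Cfsg.Agent.Lib.Helper1.StemZA Cfsg.Agent.Lib.Helper1.StemZC Cfsg.Agent.Lib.Helper1.StemZD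
  Cfsg.Agent.Lib.Helper1.StemZE

/-- the certificate: the prime, the exponent of the modulus of the relations, the exponent of the
base of the packed rows, the distinguished unknowns with the exponents of their relations, the
equations, the unknowns outside the tree with the table of their positions, the rows of the right
inverse in the base `p`, and one combination modulo `p ^ s` for each distinguished unknown -/
structure ZQCert where
  p : ℕ
  s : ℕ
  w : ℕ
  N : ℕ
  bs : List ℕ
  es : List ℕ
  specs : ℕ → ℕ × ℕ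
  unk : ℕ → ℕ
  colT : ℕ → ℕ
  Bm : ℕ → ℕ
  rel : List (List ((ℕ × ℕ) × ℕ))

namespace ZQCert

variable (C : ZQCert)

/-- the base of the packed rows -/
def Xb : ℕ := 2 ^ C.w

/-- the position of an unknown, plus one; zero for the unknowns of the tree -/
def colOf (b : ℕ) : ℕ := C.colT b

/-- the positions of the unknowns of a list, omitting the unknowns of the tree -/
def colsOf (l : List ℕ) : List ℕ :=
  l.filterMap fun b => if C.colOf b = 0 then none else some (C.colOf b - 1)

/-- the packed row of a column -/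
def rowR (c : ℕ) : ℕ := spread C.p C.Xb C.N (C.Bm c)

/-- the certificate of the relations -/
def toP : ZPCert := ⟨C.p, C.s, C.bs, C.es, [], C.rel⟩

end ZQCert

variable (D : SAData) (C : ZQCert)

/-- the unknown `b` is an edge of the tree -/
def isTree (b : ℕ) : Bool :=
  decide (0 < D.pi (b / D.m) (b % D.m)) && decide (D.pi (b / D.m) (b % D.m) < D.m) &&
    (D.par (D.pi (b / D.m) (b % D.m)) == (b / D.m, b % D.m))

/-- the table of the positions is coherent -/
def chkCol : Bool :=
  (List.range D.n).all fun b =>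
    (C.colOf b == 0 && isTree D b) ||
      (decide (0 < C.colOf b) && decide (C.colOf b ≤ C.N) && (C.unk (C.colOf b - 1) == b))

/-- the positive part of the equation `i` -/
def eqP (i : ℕ) : List ℕ :=
  if i < C.N - C.bs.length then C.colsOf (posL D (C.specs i))
  else [C.colOf (C.bs.getD (i - (C.N - C.bs.length)) 0) - 1]

/-- the negative part of the equation `i` -/
def eqN (i : ℕ) : List ℕ :=
  if i < C.N - C.bs.length then C.colsOf (negL D (C.specs i)) else []

/-- the digits of `S` from the position `j` on are those of the unit vector `i` modulo `p` -/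
def peel (p Xb i : ℕ) : ℕ → ℕ → ℕ → Bool
  | 0, _, _ => true
  | f + 1, S, j => (S % Xb % p == if i = j then 1 else 0) && peel p Xb i f (S / Xb) (j + 1)

theorem peel_sound (p Xb i : ℕ) (f S j : ℕ) (h : peel p Xb i f S j = true) (t : ℕ) (ht : t < f) :
    S / Xb ^ t % Xb % p = if i = j + t then 1 else 0 := by
  induction f generalizing S j t with
  | zero => omega
  | succ f ih =>
    unfold peel at h
    rw [Bool.and_eq_true, beq_iff_eq] at h
    cases t with
    | zero => simpa using h.1
    | succ t =>
      have := ih (S / Xb) (j + 1) h.2 t (by omega)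
      rw [Nat.div_div_eq_div_mul, ← pow_succ'] at this
      rw [this]
      have e : j + 1 + t = j + (t + 1) := by ring
      rw [e]

/-- the check of the row `i` of the product -/
def chkRow (i : ℕ) : Bool :=
  decide (((eqP D C i).length + (C.p - 1) * (eqN D C i).length) * (C.p - 1) < C.Xb) &&
  peel C.p C.Xb i C.N
    (((eqP D C i).map C.rowR).sum + (C.p - 1) * ((eqN D C i).map C.rowR).sum) 0

/-- the check of the certificate -/
def chkCertQ : Bool :=
  decide (1 < C.p) && decide (C.bs.length ≤ C.N) &&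
  ((List.range (C.N - C.bs.length)).all fun i => D.chkSpec (C.specs i)) &&
  ((List.range (C.N - C.bs.length)).all fun i => chkRangeS D (C.specs i)) &&
  (C.bs.all fun b => decide (b < D.n) && decide (0 < C.colOf b)) &&
  ((List.range C.N).all fun c => decide (C.unk c < D.n)) && chkCol D C &&
  ((List.range C.N).all (chkRow D C)) &&
  (C.es.length == C.bs.length) && (C.es.all fun e => decide (e < C.s)) &&
  ((List.range C.bs.length).all fun j =>
    chkRel D C.toP (C.rel.getD j []) (C.bs.getD j 0) (C.es.getD j 0))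

section sound

variable {M : Type*} [AddCommGroup M]

/-- the subgroup of the elements congruent to an element of `Z` modulo `p A'` -/
def modSub (p : ℕ) (A' Z : AddSubgroup M) : AddSubgroup M where
  carrier := {x | ∃ y ∈ A', x - (p : ℤ) • y ∈ Z}
  zero_mem' := ⟨0, A'.zero_mem, by simp⟩
  add_mem' := by
    rintro x x' ⟨y, hy, h⟩ ⟨y', hy', h'⟩
    refine ⟨y + y', A'.add_mem hy hy', ?_⟩
    have e : x + x' - (p : ℤ) • (y + y') = (x - (p : ℤ) • y) + (x' - (p : ℤ) • y') := by
      rw [smul_add]; abel
    rw [e]; exact Z.add_mem h h'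
  neg_mem' := by
    rintro x ⟨y, hy, h⟩
    refine ⟨-y, A'.neg_mem hy, ?_⟩
    have e : -x - (p : ℤ) • (-y) = -(x - (p : ℤ) • y) := by
      rw [smul_neg]; abel
    rw [e]; exact Z.neg_mem h

theorem mem_modSub (p : ℕ) (A' Z : AddSubgroup M) (x : M) :
    x ∈ modSub p A' Z ↔ ∃ y ∈ A', x - (p : ℤ) • y ∈ Z := Iff.rfl

variable [Finite M] (v : ℕ → M) (hC : chkCertQ D C = true)
  (hE : ∀ s : ℕ × ℕ, D.chkSpec s = true → sgnSum v (posL D s) (negL D s) = 0)
include hC hE

theorem cert_valsQ (a : ℕ) (h2 : ∀ x : M, ((C.p : ℤ) ^ a) • x = 0) :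
    ∃ A₀ : AddSubgroup M, (∀ b < D.n, v b ∈ A₀) ∧ Nat.card A₀ ≤ C.p ^ C.es.sum := by
  classical
  unfold chkCertQ at hC
  simp only [Bool.and_eq_true, List.all_eq_true, decide_eq_true_eq, beq_iff_eq, List.mem_range]
    at hC
  obtain ⟨⟨⟨⟨⟨⟨⟨⟨⟨⟨h1, hlen⟩, hsp⟩, hrg⟩, hbs⟩, hunk⟩, hcol⟩, hrow⟩, h8⟩, h9⟩, h10⟩ := hC
  have hp0 : 0 < C.p := by omega
  have hrange : ∀ s : ℕ × ℕ, chkRangeS D s = true →
      (∀ b ∈ posL D s, b < D.n) ∧ (∀ b ∈ negL D s, b < D.n) := by
    intro s hs
    unfold chkRangeS at hs
    simp only [Bool.and_eq_true, List.all_eq_true, decide_eq_true_eq] at hs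
    exact hs
  set A' : AddSubgroup M := AddSubgroup.closure {x | ∃ b < D.n, x = v b} with hA'
  set Z : AddSubgroup M := AddSubgroup.closure {x | x ∈ C.bs.map v} with hZ
  have hvA : ∀ b < D.n, v b ∈ A' := fun b hb' => AddSubgroup.subset_closure ⟨b, hb', rfl⟩
  have hvZ : ∀ c ∈ C.bs, v c ∈ Z :=
    fun c hc => AddSubgroup.subset_closure (List.mem_map.mpr ⟨c, hc, rfl⟩)
  have h4 : ∀ b ∈ C.bs, b < D.n := fun b hb => (hbs b hb).1
  apply card_le_of_gen_rel C.p hp0 a h2 D.n v C.bs h4 ?_ C.s C.es h8 h9
  · -- the relations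
    intro j hj
    have hb : C.bs.getD j 0 < D.n := by
      apply h4
      rw [List.getD_eq_getElem _ _ hj]; exact List.getElem_mem _
    have hcomb := h10 j hj
    unfold chkRel at hcomb
    simp only [Bool.and_eq_true, List.all_eq_true, decide_eq_true_eq, beq_iff_eq, List.mem_range]
      at hcomb
    obtain ⟨⟨hq, hT⟩, hcols⟩ := hcomb
    have hys : ∀ q ∈ ((C.rel.getD j []).map fun q : (ℕ × ℕ) × ℕ => ((posL D q.1, negL D q.1), q.2)),
        (∀ b ∈ q.1.1, b < D.n) ∧ (∀ b ∈ q.1.2, b < D.n) ∧ sgnSum v q.1.1 q.1.2 = 0 ∧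
          q.2 ≤ C.p ^ C.s := by
      intro q hq'
      rw [List.mem_map] at hq'
      obtain ⟨q', hq'', rfl⟩ := hq'
      obtain ⟨⟨h11, h12⟩, h13⟩ := hq q' hq''
      exact ⟨(hrange _ h12).1, (hrange _ h12).2, hE _ h11, h13⟩
    obtain ⟨y, hy, hyy⟩ := smul_mem_of_combN (C.p ^ C.s) (C.p ^ C.es.getD j 0) D.n v
      A' hvA
      ((C.rel.getD j []).map fun q : (ℕ × ℕ) × ℕ => ((posL D q.1, negL D q.1), q.2)) hys
      (C.bs.getD j 0) hb hT hcols
    refine ⟨y, hy, ?_⟩
    have e1 : ((C.p : ℤ) ^ C.es.getD j 0) = ((C.p ^ C.es.getD j 0 : ℕ) : ℤ) := by push_cast; rfl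
    have e2 : ((C.p : ℤ) ^ C.s) = ((C.p ^ C.s : ℕ) : ℤ) := by push_cast; rfl
    rw [e1, e2]
    exact hyy
  · -- the generation modulo `p`
    set P := modSub C.p A' Z with hP
    have hZP : Z ≤ P := fun x hx => ⟨0, A'.zero_mem, by rw [smul_zero, sub_zero]; exact hx⟩
    have hpP : ∀ y ∈ A', (C.p : ℤ) • y ∈ P :=
      fun y hy => ⟨y, hy, by rw [sub_self]; exact Z.zero_mem⟩
    -- the unknowns of the tree vanish
    have htree : ∀ b, isTree D b = true → v b = 0 := by
      intro b hb
      unfold isTree at hb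
      simp only [Bool.and_eq_true, decide_eq_true_eq, beq_iff_eq] at hb
      obtain ⟨⟨hb1, hb2⟩, hb3⟩ := hb
      have hspec : D.chkSpec (0, D.pi (b / D.m) (b % D.m)) = true := by
        unfold SAData.chkSpec
        simp only [Bool.and_eq_true, decide_eq_true_eq]
        exact ⟨hb2, hb1⟩
      have := hE _ hspec
      unfold sgnSum posL negL at this
      simp only [hb3, List.map_cons, List.map_nil, List.sum_cons, List.sum_nil, add_zero,
        sub_zero] at this
      rwa [Nat.div_add_mod'] at this
    -- the columns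
    have hcolfact : ∀ b < D.n, (C.colOf b = 0 ∧ v b = 0) ∨
        (0 < C.colOf b ∧ C.colOf b ≤ C.N ∧ C.unk (C.colOf b - 1) = b) := by
      intro b hb
      have := hcol
      unfold chkCol at this
      simp only [List.all_eq_true, List.mem_range, Bool.or_eq_true, Bool.and_eq_true, beq_iff_eq,
        decide_eq_true_eq] at this
      rcases this b hb with ⟨h0, ht⟩ | ⟨⟨h0, hN⟩, hu⟩
      · exact Or.inl ⟨h0, htree b ht⟩
      · exact Or.inr ⟨h0, hN, hu⟩
    let u : ℕ → M ⧸ P := fun c => QuotientAddGroup.mk (v (C.unk c))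
    have hunkn : ∀ c < C.N, C.unk c < D.n := hunk
    have hmapsum : ∀ l : List ℕ, (∀ b ∈ l, b < D.n) →
        ((C.colsOf l).map u).sum = QuotientAddGroup.mk ((l.map v).sum) := by
      intro l hl
      induction l with
      | nil => simp [ZQCert.colsOf]
      | cons b l ih =>
        have hb : b < D.n := hl b (by simp)
        have ih' := ih (fun b' hb' => hl b' (by simp [hb']))
        rcases hcolfact b hb with ⟨h0, hv0⟩ | ⟨h0, _, hu⟩
        · have e : C.colsOf (b :: l) = C.colsOf l := by
            unfold ZQCert.colsOf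
            rw [List.filterMap_cons, if_pos h0]
          rw [e, ih', List.map_cons, List.sum_cons, hv0, zero_add]
        · have e : C.colsOf (b :: l) = (C.colOf b - 1) :: C.colsOf l := by
            unfold ZQCert.colsOf
            rw [List.filterMap_cons, if_neg (by omega)]
          rw [e, List.map_cons, List.sum_cons, ih', List.map_cons, List.sum_cons,
            QuotientAddGroup.mk_add]
          congr 1
          show QuotientAddGroup.mk (v (C.unk (C.colOf b - 1))) = _
          rw [hu]
    have hcolslt : ∀ l : List ℕ, (∀ b ∈ l, b < D.n) → ∀ c ∈ C.colsOf l, c < C.N := by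
      intro l hl c hc
      unfold ZQCert.colsOf at hc
      rw [List.mem_filterMap] at hc
      obtain ⟨b, hb, hbc⟩ := hc
      rcases hcolfact b (hl b hb) with ⟨h0, _⟩ | ⟨h0, hN, _⟩
      · rw [if_pos h0] at hbc; exact absurd hbc (by simp)
      · rw [if_neg (by omega)] at hbc
        have : C.colOf b - 1 = c := Option.some.inj hbc
        omega
    have hbsmem : ∀ j < C.bs.length, C.bs.getD j 0 ∈ C.bs := by
      intro j hj
      rw [List.getD_eq_getElem _ _ hj]; exact List.getElem_mem _
    -- all the values of the columns vanish modulo `P`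
    have hu0 : ∀ c₀ < C.N, u c₀ = 0 := by
      intro c₀ hc₀
      apply val_eq_zero_of_rightInverseP C.p h1 C.N (eqP D C) (eqN D C) ?_ ?_
        (fun c j => C.Bm c / C.p ^ j % C.p) ?_ u ?_ ?_ c₀ hc₀
      · intro i hi c hc
        unfold eqP at hc
        by_cases hi' : i < C.N - C.bs.length
        · rw [if_pos hi'] at hc
          exact hcolslt _ (hrange _ (hrg i hi')).1 c hc
        · rw [if_neg hi', List.mem_singleton] at hc
          have hj : i - (C.N - C.bs.length) < C.bs.length := by omega
          have hm := hbsmem _ hj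
          rcases hcolfact _ (hbs _ hm).1 with ⟨h0, _⟩ | ⟨h0, hN, _⟩
          · have := (hbs _ hm).2; omega
          · omega
      · intro i hi c hc
        unfold eqN at hc
        by_cases hi' : i < C.N - C.bs.length
        · rw [if_pos hi'] at hc
          exact hcolslt _ (hrange _ (hrg i hi')).2 c hc
        · rw [if_neg hi'] at hc
          exact absurd hc (by simp)
      · intro i hi j hj
        have hr := hrow i hi
        unfold chkRow at hr
        rw [Bool.and_eq_true, decide_eq_true_eq] at hr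
        obtain ⟨hbd, hpl⟩ := hr
        have hX : 0 < C.Xb := by unfold ZQCert.Xb; positivity
        have hB : ∀ c j, C.Bm c / C.p ^ j % C.p ≤ C.p - 1 := by
          intro c j
          have := Nat.mod_lt (C.Bm c / C.p ^ j) hp0
          omega
        have hR : ∀ c, C.rowR c =
            ∑ j ∈ range C.N, (C.Bm c / C.p ^ j % C.p) * C.Xb ^ j := by
          intro c
          unfold ZQCert.rowR
          exact spread_eq _ _ _ _
        have hd := digit_rowSum C.p C.Xb C.N hX _ hB C.rowR hR (eqP D C i) (eqN D C i) hbd j hj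
        have hps := peel_sound C.p C.Xb i C.N _ 0 hpl j hj
        rw [hd, zero_add] at hps
        exact hps
      · intro c hc
        show (C.p : ℤ) • (QuotientAddGroup.mk (v (C.unk c)) : M ⧸ P) = 0
        rw [← QuotientAddGroup.mk_zsmul, QuotientAddGroup.eq_zero_iff]
        exact hpP _ (hvA _ (hunkn c hc))
      · intro i hi
        unfold sgnSum eqP eqN
        by_cases hi' : i < C.N - C.bs.length
        · rw [if_pos hi', if_pos hi']
          have hr := hrange _ (hrg i hi')
          rw [hmapsum _ hr.1, hmapsum _ hr.2, ← QuotientAddGroup.mk_sub,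
            QuotientAddGroup.eq_zero_iff]
          have := hE _ (hsp i hi')
          unfold sgnSum at this
          rw [this]
          exact P.zero_mem
        · rw [if_neg hi', if_neg hi']
          simp only [List.map_cons, List.map_nil, List.sum_cons, List.sum_nil, add_zero, sub_zero]
          have hj : i - (C.N - C.bs.length) < C.bs.length := by omega
          have hm := hbsmem _ hj
          show (QuotientAddGroup.mk (v (C.unk _)) : M ⧸ P) = 0
          rcases hcolfact _ (hbs _ hm).1 with ⟨h0, _⟩ | ⟨_, _, hu⟩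
          · have := (hbs _ hm).2; omega
          · rw [hu, QuotientAddGroup.eq_zero_iff]
            exact hZP (hvZ _ hm)
    intro b hb
    rw [← mem_modSub]
    rcases hcolfact b hb with ⟨_, hv0⟩ | ⟨h0, hN, hu⟩
    · rw [hv0]; exact P.zero_mem
    · have := hu0 (C.colOf b - 1) (by omega)
      have h3 : (QuotientAddGroup.mk (v (C.unk (C.colOf b - 1))) : M ⧸ P) = 0 := this
      rw [hu, QuotientAddGroup.eq_zero_iff] at h3
      exact h3

end sound

universe u

/-- every family of values, in a finite commutative group killed by a power of `p`, that satisfies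
the equations lies in a subgroup of order at most `p ^ E` -/
def ValsBound (D : SAData) (p E : ℕ) : Prop :=
  ∀ (M : Type u) [AddCommGroup M] [Finite M] (v : ℕ → M),
    (∀ s : ℕ × ℕ, D.chkSpec s = true → sgnSum v (posL D s) (negL D s) = 0) →
    ∀ a : ℕ, (∀ x : M, ((p : ℤ) ^ a) • x = 0) →
    ∃ A₀ : AddSubgroup M, (∀ b < D.n, v b ∈ A₀) ∧ Nat.card A₀ ≤ p ^ E

theorem valsBound_of_certQ (hC : chkCertQ D C = true) : ValsBound.{u} D C.p C.es.sum :=
  fun _ _ _ v hE a h2 => cert_valsQ D C v hC hE a h2

section group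

variable {Γ G Y : Type*} {A : Type u} [Group Γ] [Group G] [MulAction G Y] [AddCommGroup A]
    (σ : Γ →* G) (pt : ℕ → Y) (X : List Γ) (κ : Γ → A)

variable (hS : D.chkStruct = true) (H : ZAHyp D σ pt X κ)
include hS H

/-- the images of the kernel under `κ` lie in a subgroup of bounded order -/
theorem zq_main [Finite Γ] [Finite A] (p E : ℕ) (hV : ValsBound.{u} D p E) (hm : 0 < D.m) (a : ℕ)
    (h2 : ∀ x : A, ((p : ℤ) ^ a) • x = 0) :
    ∃ A₀ : AddSubgroup A, Nat.card A₀ ≤ p ^ E ∧ ∀ c : Γ, σ c = 1 → κ c ∈ A₀ := by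
  set v := val D X κ with hv
  have hE : ∀ s : ℕ × ℕ, D.chkSpec s = true → sgnSum v (posL D s) (negL D s) = 0 :=
    fun s hs => spec_ok D σ pt X κ hS H s hs
  obtain ⟨A₀, hval, hcard⟩ := hV A v hE a h2
  refine ⟨A₀, hcard, ?_⟩
  have hlam : ∀ i < D.k, ∀ j < D.m, lam D X κ i j ∈ A₀ := by
    intro i hi j hj
    have hb : i * D.m + j < D.n := by
      have : i * D.m + j < D.k * D.m := by
        calc i * D.m + j < i * D.m + D.m := by omega
          _ = (i + 1) * D.m := by ring
          _ ≤ D.k * D.m := Nat.mul_le_mul_right _ hi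
      unfold SAData.n; omega
    have := hval _ hb
    rwa [hv, val_edge D X κ i j hi hj] at this
  exact kap_mem_of_lam_mem D σ pt X κ hS H hm A₀ hlam

/-- the images of the preimage of the stabilizer under `κ` lie in a subgroup of bounded order -/
theorem zq_main' [Finite Γ] [Finite A] (p E : ℕ) (hV : ValsBound.{u} D p E) (hm : 0 < D.m)
    (a : ℕ) (h2 : ∀ x : A, ((p : ℤ) ^ a) • x = 0) :
    ∃ A₀ : AddSubgroup A, Nat.card A₀ ≤ p ^ E ∧
      ∀ c : Γ, σ c • pt 0 = pt 0 → κ c ∈ A₀ := by
  set v := val D X κ with hv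
  have hE : ∀ s : ℕ × ℕ, D.chkSpec s = true → sgnSum v (posL D s) (negL D s) = 0 :=
    fun s hs => spec_ok D σ pt X κ hS H s hs
  obtain ⟨A₀, hval, hcard⟩ := hV A v hE a h2
  refine ⟨A₀, hcard, ?_⟩
  have hlam : ∀ i < D.k, ∀ j < D.m, lam D X κ i j ∈ A₀ := by
    intro i hi j hj
    have hb : i * D.m + j < D.n := by
      have : i * D.m + j < D.k * D.m := by
        calc i * D.m + j < i * D.m + D.m := by omega
          _ = (i + 1) * D.m := by ring
          _ ≤ D.k * D.m := Nat.mul_le_mul_right _ hi
      unfold SAData.n; omega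
    have := hval _ hb
    rwa [hv, val_edge D X κ i j hi hj] at this
  exact kap_mem_of_lam_mem' D σ pt X κ hS H hm A₀ hlam

end group

end Cfsg.Agent.Lib.Helper1.StemZP
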