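import Mathlib
import Cfsg.Agent.Lib.Helper1.StemZP4

set_option autoImplicit false

/-! Labelled actions with labels in a finite commutative `p`-group: the certificate with the rows of
the right inverse modulo `p` packed in a base that is a power of two, every row of the product
being checked with a bounded number of operations on large numbers. -/

namespace Cfsg.Agent.Lib.Helper1.StemZP

open Finset Cfsg.Agent.Lib.Helper1.MatCode Cfsg.Agent.Lib.Helper1.Stem
  Cfsg.Agent.Lib.Helper1.StemSA Cfsg.Agent.Lib.Helper1.StemZLin Cfsg.Agent.Lib.Helper1.StemLin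
  Cfsg.Agent.Lib.Helper1.StemZA Cfsg.Agent.Lib.Helper1.StemZC Cfsg.Agent.Lib.Helper1.StemZD
  Cfsg.Agent.Lib.Helper1.StemZE

section digits

/-- the number with `N` digits, all equal to `h`, in the base `Xb` -/
def rep (Xb N h : ℕ) : ℕ := sumTo N (fun j => h * Xb ^ j)

theorem dig_rep (Xb N h j : ℕ) (hX : 1 < Xb) (hh : h < Xb) (hj : j < N) :
    dig Xb (rep Xb N h) j = h := by
  unfold rep
  rw [sumTo_eq]
  exact dig_sum Xb hX (fun _ => h) (fun _ => hh) N j hj

theorem dig_land (w a b j : ℕ) :
    dig (2 ^ w) (a &&& b) j = dig (2 ^ w) a j &&& dig (2 ^ w) b j := by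
  unfold dig
  rw [← pow_mul, Nat.and_div_two_pow, Nat.and_mod_two_pow]

/-- the digits of a number whose bitwise conjunction with a repeated mask vanishes -/
theorem dig_land_rep (w N h X j : ℕ) (hh : h < 2 ^ w) (hj : j < N)
    (hX : X &&& rep (2 ^ w) N h = 0) : dig (2 ^ w) X j &&& h = 0 := by
  by_cases h0 : h = 0
  · rw [h0, Nat.and_zero]
  · have := dig_land w X (rep (2 ^ w) N h) j
    rw [hX, dig_rep _ _ _ _ (by omega) hh hj] at this
    rw [← this]
    unfold dig
    simp

theorem eq_sum_dig (Xb N X : ℕ) (hX : X < Xb ^ N) :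
    X = ∑ j ∈ range N, dig Xb X j * Xb ^ j := by
  have := block_eq Xb X 0 N
  rw [pow_zero, Nat.div_one, Nat.mod_eq_of_lt hX] at this
  simpa using this

/-- the digits modulo `p` of a number that is a power of the base plus `p` times a number with
small digits -/
theorem dig_mod_of_quot (p w N i S Q h : ℕ) (hp : 2 ≤ p) (hi : i < N) (hh : h < 2 ^ w)
    (hmask : ∀ d < 2 ^ w, d &&& h = 0 → p * d + 1 < 2 ^ w)
    (hSQ : (2 ^ w) ^ i + p * Q = S) (hlt : S < (2 ^ w) ^ N)
    (hQ : Q &&& rep (2 ^ w) N h = 0) (j : ℕ) (hj : j < N) :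
    dig (2 ^ w) S j % p = if i = j then 1 else 0 := by
  set Xb := 2 ^ w with hXb
  have hX0 : 0 < Xb := by rw [hXb]; positivity
  have hQlt : Q < Xb ^ N := by
    have : Q ≤ p * Q := Nat.le_mul_of_pos_left Q (by omega)
    omega
  have hq : ∀ m < N, p * dig Xb Q m + 1 < Xb := by
    intro m hm
    apply hmask
    · unfold dig
      exact Nat.mod_lt _ hX0
    · exact dig_land_rep w N h Q m hh hm hQ
  let e : ℕ → ℕ := fun m => if m < N then (if i = m then 1 else 0) + p * dig Xb Q m else 0
  have he : ∀ m, e m < Xb := by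
    intro m
    show (if m < N then (if i = m then 1 else 0) + p * dig Xb Q m else 0) < Xb
    by_cases hm : m < N
    · rw [if_pos hm]
      have := hq m hm
      split_ifs <;> omega
    · rw [if_neg hm]; exact hX0
  have hS : S = ∑ m ∈ range N, e m * Xb ^ m := by
    rw [← hSQ]
    have h1 : ∑ m ∈ range N, e m * Xb ^ m =
        ∑ m ∈ range N, ((if i = m then Xb ^ m else 0) + p * (dig Xb Q m * Xb ^ m)) := by
      apply sum_congr rfl
      intro m hm
      show (if m < N then (if i = m then 1 else 0) + p * dig Xb Q m else 0) * Xb ^ m = _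
      rw [if_pos (mem_range.mp hm)]
      split_ifs <;> ring
    rw [h1, sum_add_distrib, ← mul_sum, ← eq_sum_dig Xb N Q hQlt, sum_ite_eq (range N) i,
      if_pos (mem_range.mpr hi)]
  have hd : dig Xb S j = e j := by
    rw [hS]
    have hX1 : 1 < Xb := by
      have := hq j hj
      omega
    exact dig_sum Xb hX1 e he N j hj
  rw [hd]
  show (if j < N then (if i = j then 1 else 0) + p * dig Xb Q j else 0) % p = _
  rw [if_pos hj, Nat.add_mul_mod_self_left]
  split_ifs
  · exact Nat.mod_eq_of_lt (by omega)
  · exact Nat.zero_mod p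

/-- extraction of a digit of a combination of packed rows with digits at most `β` -/
theorem digit_rowSumB (p Xb N β : ℕ) (hX : 0 < Xb) (B : ℕ → ℕ → ℕ) (hB : ∀ c j, B c j ≤ β)
    (R : ℕ → ℕ) (hR : ∀ c, R c = ∑ j ∈ range N, B c j * Xb ^ j) (cl nl : List ℕ)
    (hbd : (cl.length + (p - 1) * nl.length) * β < Xb) (j : ℕ) (hj : j < N) :
    ((cl.map R).sum + (p - 1) * (nl.map R).sum) / Xb ^ j % Xb =
      (cl.map fun c => B c j).sum + (p - 1) * (nl.map fun c => B c j).sum := by
  have hle : ∀ (l : List ℕ) (j : ℕ), (l.map fun c => B c j).sum ≤ l.length * β := by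
    intro l j
    induction l with
    | nil => simp
    | cons c l ih =>
      rw [List.map_cons, List.sum_cons, List.length_cons, add_mul, one_mul, add_comm]
      exact Nat.add_le_add ih (hB c j)
  have e : (cl.map R).sum + (p - 1) * (nl.map R).sum =
      ∑ j ∈ range N, ((cl.map fun c => B c j).sum + (p - 1) * (nl.map fun c => B c j).sum) *
        Xb ^ j := by
    rw [sum_rows Xb N B R hR cl, sum_rows Xb N B R hR nl, mul_sum, ← sum_add_distrib]
    apply sum_congr rfl
    intro j _
    ring
  rw [e]
  refine (digit_sumB Xb hX _ N ?_).2 j hj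
  intro c _
  calc (cl.map fun c' => B c' c).sum + (p - 1) * (nl.map fun c' => B c' c).sum
      ≤ cl.length * β + (p - 1) * (nl.length * β) :=
        Nat.add_le_add (hle cl c) (Nat.mul_le_mul_left _ (hle nl c))
    _ = (cl.length + (p - 1) * nl.length) * β := by ring
    _ < Xb := hbd

end digits

/-- the certificate: the prime, the exponent of the modulus of the relations, the exponent of the
base of the packed rows, the bound of the digits of the rows with the mask of one digit that
ensures it, the mask of one digit of the quotients, the distinguished unknowns with the exponents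
of their relations, the equations, the unknowns outside the tree with the table of their
positions, the packed rows of the right inverse, and one combination modulo `p ^ s` for each
distinguished unknown -/
structure ZRCert where
  p : ℕ
  s : ℕ
  w : ℕ
  N : ℕ
  β : ℕ
  hmR : ℕ
  hmQ : ℕ
  bs : List ℕ
  es : List ℕ
  specs : ℕ → ℕ × ℕ
  unk : ℕ → ℕ
  colT : ℕ → ℕ
  R : ℕ → ℕ
  rel : List (List ((ℕ × ℕ) × ℕ))

namespace ZRCert

variable (C : ZRCert)

/-- the base of the packed rows -/
def Xb : ℕ := 2 ^ C.w

/-- the position of an unknown, plus one; zero for the unknowns of the tree -/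
def colOf (b : ℕ) : ℕ := C.colT b

/-- the positions of the unknowns of a list, omitting the unknowns of the tree -/
def colsOf (l : List ℕ) : List ℕ :=
  l.filterMap fun b => if C.colOf b = 0 then none else some (C.colOf b - 1)

/-- the packed row of a column -/
def rowR (c : ℕ) : ℕ := if c < C.N then C.R c else 0

/-- the certificate of the relations -/
def toP : ZPCert := ⟨C.p, C.s, C.bs, C.es, [], C.rel⟩

end ZRCert

variable (D : SAData) (C : ZRCert)

/-- the table of the positions is coherent -/
def chkColR : Bool :=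
  (List.range D.n).all fun b =>
    (C.colOf b == 0 && isTree D b) ||
      (decide (0 < C.colOf b) && decide (C.colOf b ≤ C.N) && (C.unk (C.colOf b - 1) == b))

/-- the positive part of the equation `i` -/
def eqPR (i : ℕ) : List ℕ :=
  if i < C.N - C.bs.length then C.colsOf (posL D (C.specs i))
  else [C.colOf (C.bs.getD (i - (C.N - C.bs.length)) 0) - 1]

/-- the negative part of the equation `i` -/
def eqNR (i : ℕ) : List ℕ :=
  if i < C.N - C.bs.length then C.colsOf (negL D (C.specs i)) else []

/-- the check of a combination of rows: it is a power of the base plus `p` times a number with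
small digits -/
def chkSum (p Xb XN HQ i S : ℕ) : Bool :=
  decide (S < XN) && (Xb ^ i + p * ((S - Xb ^ i) / p) == S) && (((S - Xb ^ i) / p) &&& HQ == 0)

/-- the check of the row `i` of the product -/
def chkRowR (XN HQ i : ℕ) : Bool :=
  decide (((eqPR D C i).length + (C.p - 1) * (eqNR D C i).length) * C.β < C.Xb) &&
  chkSum C.p C.Xb XN HQ i
    (((eqPR D C i).map C.rowR).sum + (C.p - 1) * ((eqNR D C i).map C.rowR).sum)

/-- the check of the masks of one digit -/
def chkMask : Bool :=
  decide (C.hmR < C.Xb) && decide (C.hmQ < C.Xb) &&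
  ((List.range C.Xb).all fun d => (d &&& C.hmR != 0) || decide (d ≤ C.β)) &&
  ((List.range C.Xb).all fun d => (d &&& C.hmQ != 0) || decide (C.p * d + 1 < C.Xb))

/-- the check of the packed rows: they have `N` digits, which are small -/
def chkRows (XN HR : ℕ) : Bool :=
  (List.range C.N).all fun c => decide (C.R c < XN) && (C.R c &&& HR == 0)

/-- the check of the certificate -/
def chkCertR : Bool :=
  decide (1 < C.p) && decide (C.bs.length ≤ C.N) &&
  ((List.range (C.N - C.bs.length)).all fun i => D.chkSpec (C.specs i)) &&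
  ((List.range (C.N - C.bs.length)).all fun i => chkRangeS D (C.specs i)) &&
  (C.bs.all fun b => decide (b < D.n) && decide (0 < C.colOf b)) &&
  ((List.range C.N).all fun c => decide (C.unk c < D.n)) && chkColR D C &&
  chkMask C && chkRows C (C.Xb ^ C.N) (rep C.Xb C.N C.hmR) &&
  ((List.range C.N).all (chkRowR D C (C.Xb ^ C.N) (rep C.Xb C.N C.hmQ))) &&
  (C.es.length == C.bs.length) && (C.es.all fun e => decide (e < C.s)) &&
  ((List.range C.bs.length).all fun j =>
    chkRel D C.toP (C.rel.getD j []) (C.bs.getD j 0) (C.es.getD j 0))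

section sound

variable {M : Type*} [AddCommGroup M]

variable [Finite M] (v : ℕ → M) (hC : chkCertR D C = true)
  (hE : ∀ s : ℕ × ℕ, D.chkSpec s = true → sgnSum v (posL D s) (negL D s) = 0)
include hC hE

theorem cert_valsR (a : ℕ) (h2 : ∀ x : M, ((C.p : ℤ) ^ a) • x = 0) :
    ∃ A₀ : AddSubgroup M, (∀ b < D.n, v b ∈ A₀) ∧ Nat.card A₀ ≤ C.p ^ C.es.sum := by
  classical
  unfold chkCertR at hC
  simp only [Bool.and_eq_true, List.all_eq_true, decide_eq_true_eq, beq_iff_eq, List.mem_range]
    at hC
  obtain ⟨⟨⟨⟨⟨⟨⟨⟨⟨⟨⟨⟨h1, hlen⟩, hsp⟩, hrg⟩, hbs⟩, hunk⟩, hcol⟩, hmask⟩, hrows⟩, hrow⟩, h8⟩, h9⟩, h10⟩ :=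
    hC
  have hp0 : 0 < C.p := by omega
  have hrange : ∀ s : ℕ × ℕ, chkRangeS D s = true →
      (∀ b ∈ posL D s, b < D.n) ∧ (∀ b ∈ negL D s, b < D.n) := by
    intro s hs
    unfold chkRangeS at hs
    simp only [Bool.and_eq_true, List.all_eq_true, decide_eq_true_eq] at hs
    exact hs
  set A' : AddSubgroup M := AddSubgroup.closure {x | ∃ b < D.n, x = v b} with hA'
  set Z : AddSubgroup M := AddSubgroup.closure {x | x ∈ C.bs.map v} with hZ
  have hvA : ∀ b < D.n, v b ∈ A' := fun b hb' => AddSubgroup.subset_closure ⟨b, hb', rfl⟩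
  have hvZ : ∀ c ∈ C.bs, v c ∈ Z :=
    fun c hc => AddSubgroup.subset_closure (List.mem_map.mpr ⟨c, hc, rfl⟩)
  have h4 : ∀ b ∈ C.bs, b < D.n := fun b hb => (hbs b hb).1
  apply card_le_of_gen_rel C.p hp0 a h2 D.n v C.bs h4 ?_ C.s C.es h8 h9
  · -- the relations
    intro j hj
    have hb : C.bs.getD j 0 < D.n := by
      apply h4
      rw [List.getD_eq_getElem _ _ hj]; exact List.getElem_mem _
    have hcomb := h10 j hj
    unfold chkRel at hcomb
    simp only [Bool.and_eq_true, List.all_eq_true, decide_eq_true_eq, beq_iff_eq, List.mem_range]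
      at hcomb
    obtain ⟨⟨hq, hT⟩, hcols⟩ := hcomb
    have hys : ∀ q ∈ ((C.rel.getD j []).map fun q : (ℕ × ℕ) × ℕ => ((posL D q.1, negL D q.1), q.2)),
        (∀ b ∈ q.1.1, b < D.n) ∧ (∀ b ∈ q.1.2, b < D.n) ∧ sgnSum v q.1.1 q.1.2 = 0 ∧
          q.2 ≤ C.p ^ C.s := by
      intro q hq'
      rw [List.mem_map] at hq'
      obtain ⟨q', hq'', rfl⟩ := hq'
      obtain ⟨⟨h11, h12⟩, h13⟩ := hq q' hq''
      exact ⟨(hrange _ h12).1, (hrange _ h12).2, hE _ h11, h13⟩
    obtain ⟨y, hy, hyy⟩ := smul_mem_of_combN (C.p ^ C.s) (C.p ^ C.es.getD j 0) D.n v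
      A' hvA
      ((C.rel.getD j []).map fun q : (ℕ × ℕ) × ℕ => ((posL D q.1, negL D q.1), q.2)) hys
      (C.bs.getD j 0) hb hT hcols
    refine ⟨y, hy, ?_⟩
    have e1 : ((C.p : ℤ) ^ C.es.getD j 0) = ((C.p ^ C.es.getD j 0 : ℕ) : ℤ) := by push_cast; rfl
    have e2 : ((C.p : ℤ) ^ C.s) = ((C.p ^ C.s : ℕ) : ℤ) := by push_cast; rfl
    rw [e1, e2]
    exact hyy
  · -- the generation modulo `p`
    set P := modSub C.p A' Z with hP
    have hZP : Z ≤ P := fun x hx => ⟨0, A'.zero_mem, by rw [smul_zero, sub_zero]; exact hx⟩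
    have hpP : ∀ y ∈ A', (C.p : ℤ) • y ∈ P :=
      fun y hy => ⟨y, hy, by rw [sub_self]; exact Z.zero_mem⟩
    -- the unknowns of the tree vanish
    have htree : ∀ b, isTree D b = true → v b = 0 := by
      intro b hb
      unfold isTree at hb
      simp only [Bool.and_eq_true, decide_eq_true_eq, beq_iff_eq] at hb
      obtain ⟨⟨hb1, hb2⟩, hb3⟩ := hb
      have hspec : D.chkSpec (0, D.pi (b / D.m) (b % D.m)) = true := by
        unfold SAData.chkSpec
        simp only [Bool.and_eq_true, decide_eq_true_eq]
        exact ⟨hb2, hb1⟩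
      have := hE _ hspec
      unfold sgnSum posL negL at this
      simp only [hb3, List.map_cons, List.map_nil, List.sum_cons, List.sum_nil, add_zero,
        sub_zero] at this
      rwa [Nat.div_add_mod'] at this
    -- the columns
    have hcolfact : ∀ b < D.n, (C.colOf b = 0 ∧ v b = 0) ∨
        (0 < C.colOf b ∧ C.colOf b ≤ C.N ∧ C.unk (C.colOf b - 1) = b) := by
      intro b hb
      have := hcol
      unfold chkColR at this
      simp only [List.all_eq_true, List.mem_range, Bool.or_eq_true, Bool.and_eq_true, beq_iff_eq,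
        decide_eq_true_eq] at this
      rcases this b hb with ⟨h0, ht⟩ | ⟨⟨h0, hN⟩, hu⟩
      · exact Or.inl ⟨h0, htree b ht⟩
      · exact Or.inr ⟨h0, hN, hu⟩
    let u : ℕ → M ⧸ P := fun c => QuotientAddGroup.mk (v (C.unk c))
    have hunkn : ∀ c < C.N, C.unk c < D.n := hunk
    have hmapsum : ∀ l : List ℕ, (∀ b ∈ l, b < D.n) →
        ((C.colsOf l).map u).sum = QuotientAddGroup.mk ((l.map v).sum) := by
      intro l hl
      induction l with
      | nil => simp [ZRCert.colsOf]
      | cons b l ih =>
        have hb : b < D.n := hl b (by simp)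
        have ih' := ih (fun b' hb' => hl b' (by simp [hb']))
        rcases hcolfact b hb with ⟨h0, hv0⟩ | ⟨h0, _, hu⟩
        · have e : C.colsOf (b :: l) = C.colsOf l := by
            unfold ZRCert.colsOf
            rw [List.filterMap_cons, if_pos h0]
          rw [e, ih', List.map_cons, List.sum_cons, hv0, zero_add]
        · have e : C.colsOf (b :: l) = (C.colOf b - 1) :: C.colsOf l := by
            unfold ZRCert.colsOf
            rw [List.filterMap_cons, if_neg (by omega)]
          rw [e, List.map_cons, List.sum_cons, ih', List.map_cons, List.sum_cons,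
            QuotientAddGroup.mk_add]
          congr 1
          show QuotientAddGroup.mk (v (C.unk (C.colOf b - 1))) = _
          rw [hu]
    have hcolslt : ∀ l : List ℕ, (∀ b ∈ l, b < D.n) → ∀ c ∈ C.colsOf l, c < C.N := by
      intro l hl c hc
      unfold ZRCert.colsOf at hc
      rw [List.mem_filterMap] at hc
      obtain ⟨b, hb, hbc⟩ := hc
      rcases hcolfact b (hl b hb) with ⟨h0, _⟩ | ⟨h0, hN, _⟩
      · rw [if_pos h0] at hbc; exact absurd hbc (by simp)
      · rw [if_neg (by omega)] at hbc
        have : C.colOf b - 1 = c := Option.some.inj hbc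
        omega
    have hbsmem : ∀ j < C.bs.length, C.bs.getD j 0 ∈ C.bs := by
      intro j hj
      rw [List.getD_eq_getElem _ _ hj]; exact List.getElem_mem _
    -- the masks
    unfold chkMask at hmask
    simp only [Bool.and_eq_true, List.all_eq_true, decide_eq_true_eq, List.mem_range,
      Bool.or_eq_true, bne_iff_ne] at hmask
    obtain ⟨⟨⟨hmR, hmQ⟩, hmRd⟩, hmQd⟩ := hmask
    have hXb : C.Xb = 2 ^ C.w := rfl
    have hX : 0 < C.Xb := by unfold ZRCert.Xb; positivity
    -- the digits of the rows
    have hrowlt : ∀ c, C.rowR c < C.Xb ^ C.N := by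
      intro c
      unfold ZRCert.rowR
      by_cases hc : c < C.N
      · rw [if_pos hc]
        have := hrows
        unfold chkRows at this
        simp only [List.all_eq_true, List.mem_range, Bool.and_eq_true, decide_eq_true_eq,
          beq_iff_eq] at this
        exact (this c hc).1
      · rw [if_neg hc]; positivity
    have hB : ∀ c j, dig C.Xb (C.rowR c) j ≤ C.β := by
      intro c j
      by_cases hc : c < C.N
      · by_cases hj : j < C.N
        · have := hrows
          unfold chkRows at this
          simp only [List.all_eq_true, List.mem_range, Bool.and_eq_true, decide_eq_true_eq,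
            beq_iff_eq] at this
          have h3 := (this c hc).2
          have e : C.rowR c = C.R c := by unfold ZRCert.rowR; rw [if_pos hc]
          rw [e]
          have h5 := dig_land_rep C.w C.N C.hmR (C.R c) j hmR hj h3
          have h6 : dig C.Xb (C.R c) j < C.Xb := by unfold dig; exact Nat.mod_lt _ hX
          rcases hmRd _ h6 with h7 | h7
          · exact absurd h5 h7
          · exact h7
        · have hlt := hrowlt c
          have : dig C.Xb (C.rowR c) j = 0 := by
            unfold dig
            rw [Nat.div_eq_of_lt, Nat.zero_mod]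
            exact lt_of_lt_of_le hlt (Nat.pow_le_pow_right hX (by omega))
          rw [this]; exact Nat.zero_le _
      · have e : C.rowR c = 0 := by unfold ZRCert.rowR; rw [if_neg hc]
        rw [e]
        unfold dig
        simp
    have hR : ∀ c, C.rowR c = ∑ j ∈ range C.N, dig C.Xb (C.rowR c) j * C.Xb ^ j :=
      fun c => eq_sum_dig C.Xb C.N _ (hrowlt c)
    -- all the values of the columns vanish modulo `P`
    have hu0 : ∀ c₀ < C.N, u c₀ = 0 := by
      intro c₀ hc₀
      apply val_eq_zero_of_rightInverseP C.p h1 C.N (eqPR D C) (eqNR D C) ?_ ?_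
        (fun c j => dig C.Xb (C.rowR c) j) ?_ u ?_ ?_ c₀ hc₀
      · intro i hi c hc
        unfold eqPR at hc
        by_cases hi' : i < C.N - C.bs.length
        · rw [if_pos hi'] at hc
          exact hcolslt _ (hrange _ (hrg i hi')).1 c hc
        · rw [if_neg hi', List.mem_singleton] at hc
          have hj : i - (C.N - C.bs.length) < C.bs.length := by omega
          have hm := hbsmem _ hj
          rcases hcolfact _ (hbs _ hm).1 with ⟨h0, _⟩ | ⟨h0, hN, _⟩
          · have := (hbs _ hm).2; omega
          · omega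
      · intro i hi c hc
        unfold eqNR at hc
        by_cases hi' : i < C.N - C.bs.length
        · rw [if_pos hi'] at hc
          exact hcolslt _ (hrange _ (hrg i hi')).2 c hc
        · rw [if_neg hi'] at hc
          exact absurd hc (by simp)
      · intro i hi j hj
        have hr := hrow i hi
        unfold chkRowR chkSum at hr
        simp only [Bool.and_eq_true, decide_eq_true_eq, beq_iff_eq] at hr
        obtain ⟨hbd, ⟨hSlt, hSQ⟩, hQm⟩ := hr
        have hd := digit_rowSumB C.p C.Xb C.N C.β hX _ hB C.rowR hR (eqPR D C i) (eqNR D C i)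
          hbd j hj
        have hps := dig_mod_of_quot C.p C.w C.N i _ _ C.hmQ h1 hi hmQ
          (fun d hd' h0 => by
            rcases hmQd d hd' with h7 | h7
            · exact absurd h0 h7
            · exact h7) hSQ hSlt hQm j hj
        unfold dig at hps
        rw [← hXb, hd] at hps
        exact hps
      · intro c hc
        show (C.p : ℤ) • (QuotientAddGroup.mk (v (C.unk c)) : M ⧸ P) = 0
        rw [← QuotientAddGroup.mk_zsmul, QuotientAddGroup.eq_zero_iff]
        exact hpP _ (hvA _ (hunkn c hc))
      · intro i hi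
        unfold sgnSum eqPR eqNR
        by_cases hi' : i < C.N - C.bs.length
        · rw [if_pos hi', if_pos hi']
          have hr := hrange _ (hrg i hi')
          rw [hmapsum _ hr.1, hmapsum _ hr.2, ← QuotientAddGroup.mk_sub,
            QuotientAddGroup.eq_zero_iff]
          have := hE _ (hsp i hi')
          unfold sgnSum at this
          rw [this]
          exact P.zero_mem
        · rw [if_neg hi', if_neg hi']
          simp only [List.map_cons, List.map_nil, List.sum_cons, List.sum_nil, add_zero, sub_zero]
          have hj : i - (C.N - C.bs.length) < C.bs.length := by omega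
          have hm := hbsmem _ hj
          show (QuotientAddGroup.mk (v (C.unk _)) : M ⧸ P) = 0
          rcases hcolfact _ (hbs _ hm).1 with ⟨h0, _⟩ | ⟨_, _, hu⟩
          · have := (hbs _ hm).2; omega
          · rw [hu, QuotientAddGroup.eq_zero_iff]
            exact hZP (hvZ _ hm)
    intro b hb
    rw [← mem_modSub]
    rcases hcolfact b hb with ⟨_, hv0⟩ | ⟨h0, hN, hu⟩
    · rw [hv0]; exact P.zero_mem
    · have := hu0 (C.colOf b - 1) (by omega)
      have h3 : (QuotientAddGroup.mk (v (C.unk (C.colOf b - 1))) : M ⧸ P) = 0 := this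
      rw [hu, QuotientAddGroup.eq_zero_iff] at h3
      exact h3

end sound

universe u

theorem valsBound_of_certR (hC : chkCertR D C = true) : ValsBound.{u} D C.p C.es.sum :=
  fun _ _ _ v hE a h2 => cert_valsR D C v hC hE a h2

end Cfsg.Agent.Lib.Helper1.StemZP
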