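import Mathlib
import Cfsg.Agent.Lib.Helper6.Mult.Chunk

set_option autoImplicit false

/-! Checking the main part of the certificates of `StemZP7` in pieces: the rows of the right inverse
are checked block by block, with the large constants given as literals, so that the kernel never
holds the intermediate numbers of all the rows at the same time. -/

namespace Cfsg.Agent.Lib.Helper1.ChunkR

open Cfsg.Agent.Lib.Helper1 Cfsg.Agent.Lib.Helper1.StemSA Cfsg.Agent.Lib.Helper1.StemZA
  Cfsg.Agent.Lib.Helper1.StemZC Cfsg.Agent.Lib.Helper1.StemZD Cfsg.Agent.Lib.Helper1.StemZE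
  Cfsg.Agent.Lib.Helper1.StemZP Cfsg.Agent.Lib.Helper6.Mult

variable (D : SAData) (C : ZRCert)

/-- the cheap part of the check of a certificate -/
def chkCertRA : Bool :=
  decide (1 < C.p) && decide (C.bs.length ≤ C.N) &&
  ((List.range (C.N - C.bs.length)).all fun i => D.chkSpec (C.specs i)) &&
  ((List.range (C.N - C.bs.length)).all fun i => chkRangeS D (C.specs i)) &&
  (C.bs.all fun b => decide (b < D.n) && decide (0 < C.colOf b)) &&
  ((List.range C.N).all fun c => decide (C.unk c < D.n)) && chkColR D C &&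
  chkMask C && (C.es.length == C.bs.length) && (C.es.all fun e => decide (e < C.s))

/-- the check of the rows `lo, ..., lo + len - 1`: their digits, and the rows of the product -/
def chkBlock (XN HR HQ lo len : ℕ) : Bool :=
  (List.range' lo len).all fun c =>
    decide (C.R c < XN) && (C.R c &&& HR == 0) && chkRowR D C XN HQ c

theorem chkCertRMain_of_blocks (XN HR HQ : ℕ) (hXN : C.Xb ^ C.N = XN)
    (hHR : rep C.Xb C.N C.hmR = HR) (hHQ : rep C.Xb C.N C.hmQ = HQ)
    (hA : chkCertRA D C = true) (bl : List (ℕ × ℕ))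
    (hbl : ∀ b ∈ bl, chkBlock D C XN HR HQ b.1 b.2 = true)
    (hcov : ∀ c < C.N, ∃ b ∈ bl, b.1 ≤ c ∧ c < b.1 + b.2) :
    chkCertRMain D C = true := by
  have key : ∀ c < C.N, (decide (C.R c < XN) && (C.R c &&& HR == 0)) = true ∧
      chkRowR D C XN HQ c = true := by
    intro c hc
    obtain ⟨b, hb, h1, h2⟩ := hcov c hc
    have h := hbl b hb
    unfold chkBlock at h
    rw [List.all_eq_true] at h
    have h' := h c (by rw [List.mem_range'_1]; exact ⟨h1, h2⟩)
    rw [Bool.and_eq_true] at h'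
    exact h'
  unfold chkCertRA at hA
  simp only [Bool.and_eq_true] at hA
  obtain ⟨⟨⟨⟨⟨⟨⟨⟨⟨a1, a2⟩, a3⟩, a4⟩, a5⟩, a6⟩, a7⟩, a8⟩, a9⟩, a10⟩ := hA
  unfold chkCertRMain
  simp only [Bool.and_eq_true]
  refine ⟨⟨⟨⟨⟨⟨⟨⟨⟨⟨⟨a1, a2⟩, a3⟩, a4⟩, a5⟩, a6⟩, a7⟩, a8⟩, ?_⟩, ?_⟩, a9⟩, a10⟩
  · unfold chkRows
    rw [List.all_eq_true]
    intro c hc
    rw [List.mem_range] at hc
    rw [hXN, hHR]
    exact (key c hc).1
  · rw [List.all_eq_true]
    intro c hc
    rw [List.mem_range] at hc
    rw [hXN, hHQ]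
    exact (key c hc).2

/-- the blocks cover the rows -/
def chkCover (N : ℕ) (bl : List (ℕ × ℕ)) : Bool :=
  (List.range N).all fun c => bl.any fun b => decide (b.1 ≤ c) && decide (c < b.1 + b.2)

theorem chkCertRMain_of_blocks' (XN HR HQ : ℕ) (hXN : C.Xb ^ C.N = XN)
    (hHR : rep C.Xb C.N C.hmR = HR) (hHQ : rep C.Xb C.N C.hmQ = HQ)
    (hA : chkCertRA D C = true) (bl : List (ℕ × ℕ))
    (hbl : ∀ b ∈ bl, chkBlock D C XN HR HQ b.1 b.2 = true)
    (hcov : chkCover C.N bl = true) : chkCertRMain D C = true := by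
  apply chkCertRMain_of_blocks D C XN HR HQ hXN hHR hHQ hA bl hbl
  intro c hc
  unfold chkCover at hcov
  rw [List.all_eq_true] at hcov
  have h := hcov c (List.mem_range.mpr hc)
  rw [List.any_eq_true] at h
  obtain ⟨b, hb, h2⟩ := h
  rw [Bool.and_eq_true, decide_eq_true_eq, decide_eq_true_eq] at h2
  exact ⟨b, hb, h2.1, h2.2⟩

end Cfsg.Agent.Lib.Helper1.ChunkR
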