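import Mathlib
import Cfsg.Prelude.Def_Sporadic_a

set_option autoImplicit false

namespace Cfsg.Agent.Lib.Helper1

open Cfsg

section Masks

/-- index of a point: the residues `0..22` and the extra point `23` -/
def gIdx : GolayPt → ℕ
  | none => 23
  | some x => x.val

/-- inverse of `gIdx` -/
def gUnidx (i : ℕ) : GolayPt := if i < 23 then some (i : ZMod 23) else none

theorem gIdx_lt : ∀ p : GolayPt, gIdx p < 24 := by decide

theorem gUnidx_gIdx : ∀ p : GolayPt, gUnidx (gIdx p) = p := by decide

theorem gIdx_gUnidx : ∀ i < 24, gIdx (gUnidx i) = i := by decide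

theorem gIdx_injective : Function.Injective gIdx := by
  intro p q h
  rw [← gUnidx_gIdx p, ← gUnidx_gIdx q, h]

/-- the word with a given bit mask -/
def ofMask (n : ℕ) : GolayPt → ZMod 2 := fun p => if n.testBit (gIdx p) then 1 else 0

theorem ofMask_apply (n : ℕ) (p : GolayPt) :
    ofMask n p = if n.testBit (gIdx p) then 1 else 0 := rfl

theorem ofMask_zero : ofMask 0 = 0 := by
  funext p; simp [ofMask]

theorem ofMask_xor (a b : ℕ) : ofMask (a ^^^ b) = ofMask a + ofMask b := by
  funext p
  simp only [ofMask, Pi.add_apply, Nat.testBit_xor]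
  cases a.testBit (gIdx p) <;> cases b.testBit (gIdx p) <;> decide

theorem ofMask_ne_zero_iff (n : ℕ) (p : GolayPt) : ofMask n p ≠ 0 ↔ n.testBit (gIdx p) = true := by
  simp only [ofMask]
  cases n.testBit (gIdx p) <;> simp

theorem support₂_ofMask (n : ℕ) :
    support₂ (ofMask n) = Finset.univ.filter (fun p => n.testBit (gIdx p) = true) := by
  ext p
  simp only [support₂, Finset.mem_filter, Finset.mem_univ, true_and, ofMask_ne_zero_iff]

/-- population count of the low `k` bits -/
def popcN : ℕ → ℕ → ℕ
  | 0, _ => 0
  | k + 1, n => popcN k n + (if n.testBit k then 1 else 0)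

theorem popcN_eq (k n : ℕ) :
    popcN k n = ((Finset.range k).filter (fun i => n.testBit i = true)).card := by
  induction k with
  | zero => simp [popcN]
  | succ k ih =>
    rw [popcN, ih, Finset.range_add_one, Finset.filter_insert]
    split_ifs with h
    · rw [Finset.card_insert_of_notMem]
      simp
    · rfl

theorem card_support₂_ofMask (n : ℕ) : (support₂ (ofMask n)).card = popcN 24 n := by
  rw [support₂_ofMask, popcN_eq]
  apply Finset.card_nbij' gIdx gUnidx
  · intro p hp
    simp only [Finset.coe_filter, Finset.mem_univ, true_and, Set.mem_ofPred_eq] at hp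
    simp only [Finset.coe_filter, Finset.mem_range, Set.mem_ofPred_eq]
    exact ⟨gIdx_lt p, hp⟩
  · intro i hi
    simp only [Finset.coe_filter, Finset.mem_range, Set.mem_ofPred_eq] at hi
    simp only [Finset.coe_filter, Finset.mem_univ, true_and, Set.mem_ofPred_eq]
    rw [gIdx_gUnidx i hi.1]; exact hi.2
  · intro p _; exact gUnidx_gIdx p
  · intro i hi
    simp only [Finset.coe_filter, Finset.mem_range, Set.mem_ofPred_eq] at hi
    exact gIdx_gUnidx i hi.1

theorem hammingNorm_ofMask (n : ℕ) : hammingNorm (ofMask n) = popcN 24 n :=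
  card_support₂_ofMask n

theorem hammingNorm_eq_card_support₂ (w : GolayPt → ZMod 2) :
    hammingNorm w = (support₂ w).card := rfl

theorem support₂_injective : Function.Injective (support₂ (α := GolayPt)) := by
  intro v w h
  funext p
  have h1 : p ∈ support₂ v ↔ p ∈ support₂ w := by rw [h]
  simp only [support₂, Finset.mem_filter, Finset.mem_univ, true_and] at h1
  have hv : v p = 0 ∨ v p = 1 := by
    generalize v p = a
    revert a; decide
  have hw : w p = 0 ∨ w p = 1 := by
    generalize w p = a
    revert a; decide
  rcases hv with hv | hv <;> rcases hw with hw | hw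
  · rw [hv, hw]
  · exfalso; rw [hv, hw] at h1; simp at h1
  · exfalso; rw [hv, hw] at h1; simp at h1
  · rw [hv, hw]

/-- `ofMask` is injective on 24-bit masks -/
theorem ofMask_injOn {a b : ℕ} (ha : a < 2 ^ 24) (hb : b < 2 ^ 24) (h : ofMask a = ofMask b) :
    a = b := by
  apply Nat.eq_of_testBit_eq
  intro i
  by_cases hi : i < 24
  · have h1 := congrFun h (gUnidx i)
    simp only [ofMask, gIdx_gUnidx i hi] at h1
    cases ha' : a.testBit i <;> cases hb' : b.testBit i <;> simp_all
  · push Not at hi
    have h24 : 2 ^ 24 ≤ 2 ^ i := Nat.pow_le_pow_right (by norm_num) hi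
    rw [Nat.testBit_lt_two_pow (lt_of_lt_of_le ha h24),
      Nat.testBit_lt_two_pow (lt_of_lt_of_le hb h24)]

/-- xor of the table entries selected by the bits of `c` -/
def xorFold (T : ℕ → ℕ) : ℕ → ℕ → ℕ
  | 0, _ => 0
  | k + 1, c => xorFold T k c ^^^ (if c.testBit k then T k else 0)

theorem ofMask_xorFold (T : ℕ → ℕ) (k c : ℕ) :
    ofMask (xorFold T k c) =
      ∑ i ∈ Finset.range k, (if c.testBit i then (1 : ZMod 2) else 0) • ofMask (T i) := by
  induction k with
  | zero => simp [xorFold, ofMask_zero]
  | succ k ih =>
    rw [xorFold, ofMask_xor, ih, Finset.sum_range_succ]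
    congr 1
    split_ifs
    · rw [one_smul]
    · rw [zero_smul, ofMask_zero]

theorem xorFold_zero (T : ℕ → ℕ) (k : ℕ) : xorFold T k 0 = 0 := by
  induction k with
  | zero => rfl
  | succ k ih => simp [xorFold, ih]

theorem xorFold_xor (T : ℕ → ℕ) (k c d : ℕ) :
    xorFold T k (c ^^^ d) = xorFold T k c ^^^ xorFold T k d := by
  induction k with
  | zero => simp [xorFold]
  | succ k ih =>
    simp only [xorFold, ih, Nat.testBit_xor]
    cases c.testBit k <;> cases d.testBit k <;> simp <;>
    · apply Nat.eq_of_testBit_eq
      intro i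
      simp only [Nat.testBit_xor]
      cases (xorFold T k c).testBit i <;> cases (xorFold T k d).testBit i <;>
        cases (T k).testBit i <;> rfl

theorem xorFold_two_pow (T : ℕ → ℕ) (k i : ℕ) (hi : i < k) : xorFold T k (2 ^ i) = T i := by
  induction k with
  | zero => omega
  | succ k ih =>
    rw [xorFold]
    by_cases hik : i = k
    · subst hik
      have h0 : xorFold T i (2 ^ i) = 0 := by
        clear ih hi
        have : ∀ j, j ≤ i → xorFold T j (2 ^ i) = 0 := by
          intro j
          induction j with
          | zero => intro _; rfl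
          | succ j ihj =>
            intro hj
            rw [xorFold, ihj (by omega)]
            have : (2 ^ i).testBit j = false := by
              rw [Nat.testBit_two_pow]; simp; omega
            simp [this]
        exact this i le_rfl
      rw [h0, Nat.testBit_two_pow_self]; simp
    · have : (2 ^ i).testBit k = false := by
        rw [Nat.testBit_two_pow]; simp; omega
      rw [ih (by omega), this]; simp

/-- Membership in the span of the words `ofMask (T i)`, `i < k`. -/
theorem mem_span_ofMask_iff (T : ℕ → ℕ) (k : ℕ) (w : GolayPt → ZMod 2) :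
    w ∈ Submodule.span (ZMod 2) ((fun i => ofMask (T i)) '' {i | i < k}) ↔
      ∃ c < 2 ^ k, w = ofMask (xorFold T k c) := by
  constructor
  · intro hw
    induction hw using Submodule.span_induction with
    | mem x hx =>
      obtain ⟨i, hi, rfl⟩ := hx
      exact ⟨2 ^ i, Nat.pow_lt_pow_right (by norm_num) hi, by rw [xorFold_two_pow T k i hi]⟩
    | zero => exact ⟨0, by positivity, by rw [xorFold_zero, ofMask_zero]⟩
    | add x y _ _ hx hy =>
      obtain ⟨c, hc, rfl⟩ := hx
      obtain ⟨d, hd, rfl⟩ := hy
      exact ⟨c ^^^ d, Nat.xor_lt_two_pow hc hd, by rw [xorFold_xor, ofMask_xor]⟩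
    | smul a x _ hx =>
      obtain ⟨c, hc, rfl⟩ := hx
      have ha : a = 0 ∨ a = 1 := by revert a; decide
      rcases ha with rfl | rfl
      · exact ⟨0, by positivity, by rw [zero_smul, xorFold_zero, ofMask_zero]⟩
      · exact ⟨c, hc, by rw [one_smul]⟩
  · rintro ⟨c, -, rfl⟩
    rw [ofMask_xorFold]
    apply Submodule.sum_mem
    intro i hi
    apply Submodule.smul_mem
    apply Submodule.subset_span
    exact ⟨i, Finset.mem_range.mp hi, rfl⟩

/-- universal check below `n` -/
def allBelow (p : ℕ → Bool) : ℕ → Bool
  | 0 => true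
  | n + 1 => p n && allBelow p n

theorem allBelow_iff (p : ℕ → Bool) (n : ℕ) : allBelow p n = true ↔ ∀ i < n, p i = true := by
  induction n with
  | zero => simp [allBelow]
  | succ n ih =>
    rw [allBelow, Bool.and_eq_true, ih]
    constructor
    · rintro ⟨h2, h1⟩ i hi
      rcases Nat.lt_succ_iff_lt_or_eq.mp hi with h | rfl
      · exact h1 i h
      · exact h2
    · intro h
      exact ⟨h n (by omega), fun i hi => h i (by omega)⟩

/-- count below `n` -/
def countBelow (p : ℕ → Bool) : ℕ → ℕ
  | 0 => 0
  | n + 1 => countBelow p n + (if p n then 1 else 0)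

theorem countBelow_eq (p : ℕ → Bool) (n : ℕ) :
    countBelow p n = ((Finset.range n).filter (fun i => p i = true)).card := by
  induction n with
  | zero => simp [countBelow]
  | succ n ih =>
    rw [countBelow, ih, Finset.range_add_one, Finset.filter_insert]
    split_ifs with h
    · rw [Finset.card_insert_of_notMem]
      simp
    · rfl

end Masks

end Cfsg.Agent.Lib.Helper1
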