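import Mathlib
import Cfsg.Prelude.Def_Sporadic_a
import Cfsg.Agent.Lib.Helper1.Golay1

set_option autoImplicit false

namespace Cfsg.Agent.Lib.Helper1

open Cfsg

section GolayTables

/-- masks of the 24 generators: the 23 translates of the squares, and the all-ones word -/
def gTab : ℕ → ℕ := fun i =>
  [340831, 681662, 1363324, 2726648, 5453296, 2517985, 5035970, 1683333, 3366666, 6733332,
    5078057, 1767507, 3535014, 7070028, 5751449, 3114291, 6228582, 4068557, 8137114, 7885621,
    7382635, 6376663, 4364719, 16777215].getD i 0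

/-- masks of an echelon basis (pivots at bits 12..23) -/
def bTab : ℕ → ℕ := fun i =>
  [5279, 10558, 18147, 36294, 69395, 133817, 262637, 525274, 1050548, 2101096, 4196943,
    8391797].getD i 0

/-- the basis vectors as combinations of the generators -/
def sTab : ℕ → ℕ := fun i =>
  [345, 690, 1085, 665, 1131, 876, 1921, 1505, 289, 578, 1501, 8390294].getD i 0

/-- the code word with index `c` -/
def cw (c : ℕ) : ℕ := xorFold bTab 12 c

set_option maxRecDepth 100000 in
theorem qrWord_eq : ∀ t : ZMod 23, ∀ p : GolayPt, qrWord t p = ofMask (gTab t.val) p := by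
  decide

theorem one_eq : ∀ p : GolayPt, (1 : GolayPt → ZMod 2) p = ofMask (gTab 23) p := by
  decide

theorem gens_eq : (Set.range qrWord ∪ {1} : Set (GolayPt → ZMod 2)) =
    (fun i => ofMask (gTab i)) '' {i | i < 24} := by
  ext w
  simp only [Set.mem_union, Set.mem_range, Set.mem_singleton_iff, Set.mem_image, Set.mem_ofPred_eq]
  constructor
  · rintro (⟨t, rfl⟩ | rfl)
    · exact ⟨t.val, by have := ZMod.val_lt t; omega, (funext (qrWord_eq t)).symm⟩
    · exact ⟨23, by norm_num, (funext one_eq).symm⟩
  · rintro ⟨i, hi, rfl⟩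
    rcases Nat.lt_succ_iff_lt_or_eq.mp hi with h | rfl
    · left
      refine ⟨(i : ZMod 23), ?_⟩
      have : ((i : ZMod 23)).val = i := ZMod.val_natCast_of_lt h
      rw [funext (qrWord_eq (i : ZMod 23)), this]
    · right
      exact (funext one_eq).symm

theorem gen_in_basis : allBelow (fun j => xorFold bTab 12 (gTab j >>> 12) == gTab j) 24 = true := by
  decide +kernel

theorem basis_in_gen : allBelow (fun i => xorFold gTab 24 (sTab i) == bTab i) 12 = true := by
  decide +kernel

theorem golayCode_eq_span :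
    golayCode = Submodule.span (ZMod 2) ((fun i => ofMask (bTab i)) '' {i | i < 12}) := by
  unfold golayCode
  rw [gens_eq]
  apply le_antisymm
  · rw [Submodule.span_le]
    rintro _ ⟨j, hj, rfl⟩
    have h := (allBelow_iff _ _).mp gen_in_basis j hj
    simp only [beq_iff_eq] at h
    show ofMask (gTab j) ∈ Submodule.span (ZMod 2) _
    rw [mem_span_ofMask_iff]
    refine ⟨gTab j >>> 12, ?_, by rw [h]⟩
    have hlt : ∀ j < 24, gTab j >>> 12 < 2 ^ 12 := by decide
    exact hlt j hj
  · rw [Submodule.span_le]
    rintro _ ⟨i, hi, rfl⟩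
    have h := (allBelow_iff _ _).mp basis_in_gen i hi
    simp only [beq_iff_eq] at h
    show ofMask (bTab i) ∈ Submodule.span (ZMod 2) _
    rw [mem_span_ofMask_iff]
    refine ⟨sTab i, ?_, by rw [h]⟩
    have hlt : ∀ i < 12, sTab i < 2 ^ 24 := by decide
    exact hlt i hi

theorem mem_golayCode_iff (w : GolayPt → ZMod 2) :
    w ∈ golayCode ↔ ∃ c < 4096, w = ofMask (cw c) := by
  rw [golayCode_eq_span, mem_span_ofMask_iff]
  rfl

theorem cw_checks : allBelow (fun c => (cw c >>> 12 == c) && decide (cw c < 16777216)) 4096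
    = true := by
  decide +kernel

theorem cw_shift {c : ℕ} (hc : c < 4096) : cw c >>> 12 = c := by
  have h := (allBelow_iff _ _).mp cw_checks c hc
  simp only [Bool.and_eq_true, beq_iff_eq, decide_eq_true_eq] at h
  exact h.1

theorem cw_lt {c : ℕ} (hc : c < 4096) : cw c < 2 ^ 24 := by
  have h := (allBelow_iff _ _).mp cw_checks c hc
  simp only [Bool.and_eq_true, beq_iff_eq, decide_eq_true_eq] at h
  exact h.2

theorem cw_injOn {c d : ℕ} (hc : c < 4096) (hd : d < 4096) (h : cw c = cw d) : c = d := by
  rw [← cw_shift hc, ← cw_shift hd, h]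

theorem ofMask_cw_injOn {c d : ℕ} (hc : c < 4096) (hd : d < 4096)
    (h : ofMask (cw c) = ofMask (cw d)) : c = d :=
  cw_injOn hc hd (ofMask_injOn (cw_lt hc) (cw_lt hd) h)

/-- weight check -/
def wOK (n : ℕ) : Bool := n == 0 || n == 8 || n == 12 || n == 16 || n == 24

theorem weights_ok : allBelow (fun c => wOK (popcN 24 (cw c))) 4096 = true := by
  decide +kernel

theorem count8 : countBelow (fun c => popcN 24 (cw c) == 8) 4096 = 759 := by
  decide +kernel

theorem count12 : countBelow (fun c => popcN 24 (cw c) == 12) 4096 = 2576 := by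
  decide +kernel

theorem golay_weight {w : GolayPt → ZMod 2} (hw : w ∈ golayCode) :
    hammingNorm w = 0 ∨ hammingNorm w = 8 ∨ hammingNorm w = 12 ∨ hammingNorm w = 16 ∨
      hammingNorm w = 24 := by
  obtain ⟨c, hc, rfl⟩ := (mem_golayCode_iff w).mp hw
  have h := (allBelow_iff _ _).mp weights_ok c hc
  rw [hammingNorm_ofMask]
  simp only [wOK, Bool.or_eq_true, beq_iff_eq] at h
  tauto

end GolayTables

end Cfsg.Agent.Lib.Helper1
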