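import Mathlib
import Cfsg.Prelude.Def_Sporadic_a
import Cfsg.Agent.Lib.Helper1.Golay2

set_option autoImplicit false

namespace Cfsg.Agent.Lib.Helper1

open Cfsg

section GolayCounts

theorem golayCode_coe_eq :
    (golayCode : Set (GolayPt → ZMod 2)) = (fun c => ofMask (cw c)) '' {c | c < 4096} := by
  ext w
  simp only [SetLike.mem_coe, mem_golayCode_iff, Set.mem_image, Set.mem_ofPred_eq]
  constructor
  · rintro ⟨c, hc, rfl⟩; exact ⟨c, hc, rfl⟩
  · rintro ⟨c, hc, rfl⟩; exact ⟨c, hc, rfl⟩

theorem ofMask_cw_injOn' : Set.InjOn (fun c => ofMask (cw c)) {c | c < 4096} := by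
  intro c hc d hd h
  exact ofMask_cw_injOn hc hd h

theorem set_lt_eq (n : ℕ) : {c : ℕ | c < n} = ↑(Finset.range n) := by
  ext c; simp

theorem ncard_golayCode : (golayCode : Set (GolayPt → ZMod 2)).ncard = 4096 := by
  rw [golayCode_coe_eq, Set.InjOn.ncard_image ofMask_cw_injOn', set_lt_eq, Set.ncard_coe_finset,
    Finset.card_range]

theorem finrank_golayCode : Module.finrank (ZMod 2) golayCode = 12 := by
  have h1 : Nat.card golayCode = 4096 := by
    rw [← ncard_golayCode]; exact Nat.card_coe_set_eq _
  have h2 := Module.natCard_eq_pow_finrank (K := ZMod 2) (V := golayCode)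
  rw [h1, Nat.card_eq_fintype_card, ZMod.card] at h2
  have : (2 : ℕ) ^ 12 = 2 ^ Module.finrank (ZMod 2) golayCode := by rw [← h2]; norm_num
  exact (Nat.pow_right_injective (le_refl 2) this).symm

/-- the supports of the code -/
theorem supports_golayCode_eq :
    supports (golayCode : Set (GolayPt → ZMod 2)) =
      (fun c => support₂ (ofMask (cw c))) '' {c | c < 4096} := by
  unfold supports
  rw [golayCode_coe_eq, Set.image_image]

theorem support_cw_injOn : Set.InjOn (fun c => support₂ (ofMask (cw c))) {c | c < 4096} := by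
  intro c hc d hd h
  exact ofMask_cw_injOn hc hd (support₂_injective h)

theorem wordsOfWeight_eq (n : ℕ) :
    wordsOfWeight (golayCode : Set (GolayPt → ZMod 2)) n =
      (fun c => support₂ (ofMask (cw c))) ''
        ↑((Finset.range 4096).filter (fun c => (popcN 24 (cw c) == n) = true)) := by
  ext b
  simp only [wordsOfWeight, supports_golayCode_eq, Set.mem_ofPred_eq, Set.mem_image,
    Finset.coe_filter, Finset.mem_range, beq_iff_eq]
  constructor
  · rintro ⟨⟨c, hc, rfl⟩, hcard⟩
    exact ⟨c, ⟨hc, by rw [← card_support₂_ofMask]; exact hcard⟩, rfl⟩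
  · rintro ⟨c, ⟨hc, hw⟩, rfl⟩
    exact ⟨⟨c, hc, rfl⟩, by rw [card_support₂_ofMask]; exact hw⟩

theorem ncard_wordsOfWeight (n : ℕ) :
    (wordsOfWeight (golayCode : Set (GolayPt → ZMod 2)) n).ncard =
      countBelow (fun c => popcN 24 (cw c) == n) 4096 := by
  rw [wordsOfWeight_eq, Set.InjOn.ncard_image, Set.ncard_coe_finset, countBelow_eq]
  intro c hc d hd h
  simp only [Finset.coe_filter, Finset.mem_range, Set.mem_ofPred_eq] at hc hd
  exact support_cw_injOn hc.1 hd.1 h

theorem ncard_octads : octads.ncard = 759 := by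
  unfold octads
  rw [ncard_wordsOfWeight, count8]

theorem ncard_dodecads : dodecads.ncard = 2576 := by
  unfold dodecads
  rw [ncard_wordsOfWeight, count12]

set_option maxRecDepth 100000 in
theorem basis_orth : ∀ i < 12, ∀ j < 12,
    ∑ p : GolayPt, ofMask (bTab i) p * ofMask (bTab j) p = 0 := by
  decide

theorem golay_self_orth (v w : GolayPt → ZMod 2) (hv : v ∈ golayCode) (hw : w ∈ golayCode) :
    ∑ i, v i * w i = 0 := by
  rw [golayCode_eq_span] at hv hw
  induction hv using Submodule.span_induction with
  | mem x hx =>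
    obtain ⟨i, hi, rfl⟩ := hx
    induction hw using Submodule.span_induction with
    | mem y hy =>
      obtain ⟨j, hj, rfl⟩ := hy
      exact basis_orth i hi j hj
    | zero => simp
    | add y z _ _ hy hz =>
      simp only [Pi.add_apply, mul_add, Finset.sum_add_distrib, hy, hz, add_zero]
    | smul a y _ hy =>
      simp only [Pi.smul_apply, smul_eq_mul]
      have : ∀ p, ofMask (bTab i) p * (a * y p) = a * (ofMask (bTab i) p * y p) := by
        intro p; ring
      simp only [this, ← Finset.mul_sum, hy, mul_zero]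
  | zero => simp
  | add x y _ _ hx hy =>
    simp only [Pi.add_apply, add_mul, Finset.sum_add_distrib, hx, hy, add_zero]
  | smul a x _ hx =>
    simp only [Pi.smul_apply, smul_eq_mul, mul_assoc, ← Finset.mul_sum, hx, mul_zero]

end GolayCounts

end Cfsg.Agent.Lib.Helper1
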