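import Mathlib
import Cfsg.Prelude.Def_Sporadic_a
import Cfsg.Agent.Lib.Helper1.Golay3

set_option autoImplicit false

namespace Cfsg.Agent.Lib.Helper1

open Cfsg

section GolaySteiner

theorem support₂_add (v w : GolayPt → ZMod 2) :
    support₂ (v + w) = symmDiff (support₂ v) (support₂ w) := by
  ext p
  simp only [support₂, Finset.mem_filter, Finset.mem_univ, true_and, Pi.add_apply,
    Finset.mem_symmDiff]
  generalize v p = a
  generalize w p = b
  revert a b
  decide

theorem card_symmDiff_add (a b : Finset GolayPt) :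
    (symmDiff a b).card + 2 * (a ∩ b).card = a.card + b.card := by
  have h1 : symmDiff a b = (a \ b) ∪ (b \ a) := rfl
  have h2 : Disjoint (a \ b) (b \ a) := by
    rw [Finset.disjoint_left]
    intro x hx hx'
    simp only [Finset.mem_sdiff] at hx hx'
    exact hx.2 hx'.1
  rw [h1, Finset.card_union_of_disjoint h2]
  have h3 := Finset.card_sdiff_add_card_inter a b
  have h4 := Finset.card_sdiff_add_card_inter b a
  rw [Finset.inter_comm b a] at h4
  omega

theorem mem_octads_iff (b : Finset GolayPt) :
    b ∈ octads ↔ ∃ w ∈ golayCode, support₂ w = b ∧ b.card = 8 := by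
  simp only [octads, wordsOfWeight, supports, Set.mem_ofPred_eq, Set.mem_image, SetLike.mem_coe]
  constructor
  · rintro ⟨⟨w, hw, rfl⟩, hc⟩; exact ⟨w, hw, rfl, hc⟩
  · rintro ⟨w, hw, rfl, hc⟩; exact ⟨⟨w, hw, rfl⟩, hc⟩

/-- two octads sharing five points are equal -/
theorem octads_unique {b₁ b₂ s : Finset GolayPt} (h₁ : b₁ ∈ octads) (h₂ : b₂ ∈ octads)
    (hs : s.card = 5) (hs₁ : s ⊆ b₁) (hs₂ : s ⊆ b₂) : b₁ = b₂ := by
  obtain ⟨w₁, hw₁, rfl, hc₁⟩ := (mem_octads_iff b₁).mp h₁
  obtain ⟨w₂, hw₂, rfl, hc₂⟩ := (mem_octads_iff b₂).mp h₂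
  have hsum : w₁ + w₂ ∈ golayCode := golayCode.add_mem hw₁ hw₂
  have hle : 5 ≤ (support₂ w₁ ∩ support₂ w₂).card := by
    rw [← hs]; exact Finset.card_le_card (Finset.subset_inter hs₁ hs₂)
  have hcard := card_symmDiff_add (support₂ w₁) (support₂ w₂)
  rw [← support₂_add, hc₁, hc₂] at hcard
  have hw := golay_weight hsum
  rw [hammingNorm_eq_card_support₂] at hw
  have h0 : (support₂ (w₁ + w₂)).card = 0 := by omega
  rw [Finset.card_eq_zero] at h0
  have hz : w₁ + w₂ = 0 := by
    funext p
    have : p ∉ support₂ (w₁ + w₂) := by rw [h0]; exact Finset.notMem_empty p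
    simp only [support₂, Finset.mem_filter, Finset.mem_univ, true_and, not_not] at this
    exact this
  have : w₁ = w₂ := by
    have h2 : w₂ + w₂ = 0 := by
      funext p
      show w₂ p + w₂ p = 0
      generalize w₂ p = a
      revert a; decide
    calc w₁ = w₁ + (w₂ + w₂) := by rw [h2, add_zero]
      _ = (w₁ + w₂) + w₂ := by rw [add_assoc]
      _ = w₂ := by rw [hz, zero_add]
  rw [this]

theorem octads_finite : (octads : Set (Finset GolayPt)).Finite := Set.toFinite _

theorem octads_steiner : IsSteinerSystem 5 8 octads := by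
  classical
  refine ⟨fun b hb => hb.2, ?_⟩
  set O : Finset (Finset GolayPt) := octads_finite.toFinset with hO
  have hOmem : ∀ b, b ∈ O ↔ b ∈ octads := fun b => Set.Finite.mem_toFinset _
  have hOcard : O.card = 759 := by
    rw [← ncard_octads, Set.ncard_eq_toFinset_card _ octads_finite]
  set P5 : Finset (Finset GolayPt) := Finset.powersetCard 5 Finset.univ with hP5
  have hP5card : P5.card = 42504 := by
    rw [hP5, Finset.card_powersetCard, Finset.card_univ]
    have : Fintype.card GolayPt = 24 := by decide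
    rw [this]; rfl
  let N : Finset GolayPt → ℕ := fun s => (O.filter (fun b => s ⊆ b)).card
  have hNle : ∀ s ∈ P5, N s ≤ 1 := by
    intro s hs
    rw [hP5, Finset.mem_powersetCard] at hs
    rw [Finset.card_le_one]
    intro a ha b hb
    simp only [Finset.mem_filter, hOmem] at ha hb
    exact octads_unique ha.1 hb.1 hs.2 ha.2 hb.2
  have hsum : ∑ s ∈ P5, N s = 42504 := by
    simp only [N, Finset.card_filter]
    rw [Finset.sum_comm]
    have : ∀ b ∈ O, (∑ s ∈ P5, if s ⊆ b then 1 else 0) = 56 := by
      intro b hb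
      rw [← Finset.card_filter]
      have h1 : P5.filter (fun s => s ⊆ b) = Finset.powersetCard 5 b := by
        ext s
        simp only [hP5, Finset.mem_filter, Finset.mem_powersetCard, Finset.subset_univ, true_and]
        exact and_comm
      rw [h1, Finset.card_powersetCard, ((hOmem b).mp hb).2]
      rfl
    rw [Finset.sum_congr rfl this, Finset.sum_const, hOcard]
    rfl
  intro s hs
  have hsP : s ∈ P5 := by
    rw [hP5, Finset.mem_powersetCard]; exact ⟨Finset.subset_univ _, hs⟩
  have hN1 : N s = 1 := by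
    by_contra hne
    have hlt : N s < 1 := lt_of_le_of_ne (hNle s hsP) hne
    have := Finset.sum_lt_sum hNle ⟨s, hsP, hlt⟩
    rw [hsum, Finset.sum_const, hP5card] at this
    simp at this
  obtain ⟨b, hb⟩ := Finset.card_eq_one.mp hN1
  have hbmem : b ∈ O.filter (fun b => s ⊆ b) := by rw [hb]; exact Finset.mem_singleton_self b
  simp only [Finset.mem_filter, hOmem] at hbmem
  refine ⟨b, hbmem, ?_⟩
  rintro b' ⟨hb'1, hb'2⟩
  exact octads_unique hb'1 hbmem.1 hs hb'2 hbmem.2

end GolaySteiner

end Cfsg.Agent.Lib.Helper1
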