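import Mathlib
import Cfsg.Prelude.Def_Sporadic_a
import Cfsg.Prelude.Def_Spor_Conway
import Cfsg.Agent.Lib.Helper1.Golay4

set_option autoImplicit false

namespace Cfsg.Agent.Lib.Helper1

open Cfsg

section CodeSupports

/-- the family of supports of the code -/
abbrev gC : Set (Finset GolayPt) := supports (golayCode : Set (GolayPt → ZMod 2))

theorem gC_empty : (∅ : Finset GolayPt) ∈ gC := Cfsg.Spor.empty_mem_supports_golayCode

theorem gC_univ : (Finset.univ : Finset GolayPt) ∈ gC := Cfsg.Spor.univ_mem_supports_golayCode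

theorem gC_symmDiff {a b : Finset GolayPt} (ha : a ∈ gC) (hb : b ∈ gC) : symmDiff a b ∈ gC := by
  obtain ⟨v, hv, rfl⟩ := ha
  obtain ⟨w, hw, rfl⟩ := hb
  exact ⟨v + w, golayCode.add_mem hv hw, support₂_add v w⟩

theorem gC_compl {a : Finset GolayPt} (ha : a ∈ gC) : aᶜ ∈ gC := by
  have := gC_symmDiff gC_univ ha
  have e : symmDiff Finset.univ a = aᶜ := by
    ext p; simp [Finset.mem_symmDiff]
  rwa [e] at this

theorem gC_card_dvd {a : Finset GolayPt} (ha : a ∈ gC) : 4 ∣ a.card := by
  obtain ⟨v, hv, rfl⟩ := ha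
  have h := golay_weight hv
  rw [hammingNorm_eq_card_support₂] at h
  rcases h with h | h | h | h | h <;> rw [h] <;> decide

theorem gC_inter_even {a b : Finset GolayPt} (ha : a ∈ gC) (hb : b ∈ gC) : Even (a ∩ b).card := by
  obtain ⟨v, hv, rfl⟩ := ha
  obtain ⟨w, hw, rfl⟩ := hb
  have h := golay_self_orth v w hv hw
  have h1 : ∑ i, v i * w i = ((support₂ v ∩ support₂ w).card : ZMod 2) := by
    have h2 : ∀ i, v i * w i = if i ∈ support₂ v ∩ support₂ w then 1 else 0 := by
      intro i
      simp only [support₂, Finset.mem_inter, Finset.mem_filter, Finset.mem_univ, true_and]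
      generalize v i = a
      generalize w i = b
      revert a b
      decide
    simp only [h2]
    rw [Finset.sum_ite_mem, Finset.univ_inter, Finset.sum_const, nsmul_eq_mul, mul_one]
  rw [h1] at h
  rw [← ZMod.natCast_eq_zero_iff_even]
  exact h

end CodeSupports

end Cfsg.Agent.Lib.Helper1
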