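import Mathlib
import Cfsg.Prelude.Def_Sporadic_a
import Cfsg.Agent.Lib.Helper1.Golay6

set_option autoImplicit false

namespace Cfsg.Agent.Lib.Helper1

open Cfsg

section Leech

/-- level set of `x` modulo 4 -/
abbrev lvl (x : GolayPt → ℤ) (k : ℤ) : Finset GolayPt :=
  Finset.univ.filter fun i => x i ≡ k [ZMOD 4]

theorem mem_leechSet_iff (x : GolayPt → ℤ) :
    x ∈ leechSet ↔ ∃ m : ℤ, (∀ i, x i ≡ m [ZMOD 2]) ∧ (∑ i, x i ≡ 4 * m [ZMOD 8]) ∧
      ∀ k : ℤ, lvl x k ∈ gC := Iff.rfl

theorem zero_mem_leechSet : (0 : GolayPt → ℤ) ∈ leechSet := by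
  apply Cfsg.Spor.mem_leechSet_of_const_mod_four 0 0 0
  · rfl
  · intro i; rfl
  · simp

theorem neg_mem_leechSet {x : GolayPt → ℤ} (hx : x ∈ leechSet) : -x ∈ leechSet := by
  obtain ⟨m, h1, h2, h3⟩ := hx
  refine ⟨-m, ?_, ?_, ?_⟩
  · intro i
    exact (h1 i).neg
  · simp only [Pi.neg_apply, Finset.sum_neg_distrib]
    have := h2.neg
    rwa [← mul_neg] at this
  · intro k
    have : lvl (-x) k = lvl x (-k) := by
      ext i
      simp only [lvl, Finset.mem_filter, Finset.mem_univ, true_and, Pi.neg_apply]
      simp only [Int.ModEq]
      omega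
    show lvl (-x) k ∈ gC
    rw [this]
    exact h3 (-k)

theorem add_mem_leechSet {x y : GolayPt → ℤ} (hx : x ∈ leechSet) (hy : y ∈ leechSet) :
    x + y ∈ leechSet := by
  obtain ⟨m, h1, h2, h3⟩ := hx
  obtain ⟨m', h1', h2', h3'⟩ := hy
  refine ⟨m + m', ?_, ?_, ?_⟩
  · intro i
    exact (h1 i).add (h1' i)
  · simp only [Pi.add_apply, Finset.sum_add_distrib]
    have := h2.add h2'
    rwa [← mul_add] at this
  · intro k
    simp only [Int.ModEq] at h1 h1'
    by_cases hpar : (m + m' + k) % 2 = 1
    · -- wrong parity: empty
      have : lvl (x + y) k = ∅ := by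
        apply Finset.filter_false_of_mem
        intro i _ hik
        simp only [Pi.add_apply, Int.ModEq] at hik
        have a1 := h1 i
        have a2 := h1' i
        omega
      show lvl (x + y) k ∈ gC
      rw [this]; exact gC_empty
    · rcases Int.emod_two_eq_zero_or_one m with hm | hm
      · -- x even
        have : lvl (x + y) k = symmDiff (lvl x 2) (lvl y k) := by
          ext i
          simp only [lvl, Finset.mem_symmDiff, Finset.mem_filter, Finset.mem_univ, true_and,
            Pi.add_apply]
          simp only [Int.ModEq]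
          have a1 := h1 i
          have a2 := h1' i
          omega
        show lvl (x + y) k ∈ gC
        rw [this]; exact gC_symmDiff (h3 2) (h3' k)
      · rcases Int.emod_two_eq_zero_or_one m' with hm' | hm'
        · -- x odd, y even
          have : lvl (x + y) k = symmDiff (lvl y 2) (lvl x k) := by
            ext i
            simp only [lvl, Finset.mem_symmDiff, Finset.mem_filter, Finset.mem_univ, true_and,
              Pi.add_apply]
            simp only [Int.ModEq]
            have a1 := h1 i
            have a2 := h1' i
            omega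
          show lvl (x + y) k ∈ gC
          rw [this]; exact gC_symmDiff (h3' 2) (h3 k)
        · -- both odd
          have : lvl (x + y) k = (symmDiff (lvl x 1) (lvl y (k - 1)))ᶜ := by
            ext i
            simp only [lvl, Finset.mem_compl, Finset.mem_symmDiff, Finset.mem_filter,
              Finset.mem_univ, true_and, Pi.add_apply]
            simp only [Int.ModEq]
            have a1 := h1 i
            have a2 := h1' i
            omega
          show lvl (x + y) k ∈ gC
          rw [this]; exact gC_compl (gC_symmDiff (h3 1) (h3' (k - 1)))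

/-- `leechSet` as an additive subgroup -/
def leechSubgroup : AddSubgroup (GolayPt → ℤ) where
  carrier := leechSet
  zero_mem' := zero_mem_leechSet
  add_mem' := add_mem_leechSet
  neg_mem' := neg_mem_leechSet

theorem leechLattice_eq : leechLattice = leechSubgroup := by
  apply le_antisymm
  · exact (AddSubgroup.closure_le _).mpr (fun x hx => hx)
  · intro x hx
    exact AddSubgroup.subset_closure hx

theorem mem_leechLattice_iff (x : GolayPt → ℤ) : x ∈ leechLattice ↔ x ∈ leechSet := by
  rw [leechLattice_eq]; rfl

end Leech

end Cfsg.Agent.Lib.Helper1
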