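import Mathlib
import Cfsg.Prelude.Def_Sporadic_a
import Cfsg.Agent.Lib.Helper1.Leech1

set_option autoImplicit false

namespace Cfsg.Agent.Lib.Helper1

open Cfsg
open scoped Pointwise

section LeechInv

theorem smul_mem_gC {σ : Equiv.Perm GolayPt} (hσ : σ ∈ M24) {b : Finset GolayPt} (hb : b ∈ gC) :
    σ • b ∈ gC := by
  have h : σ • gC = gC := MulAction.mem_stabilizer_iff.mp hσ
  rw [← h]
  exact Set.smul_mem_smul_set hb

theorem perm_mem_leechSet {σ : Equiv.Perm GolayPt} (hσ : σ ∈ M24) {x : GolayPt → ℤ}
    (hx : x ∈ leechSet) : (fun i => x (σ i)) ∈ leechSet := by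
  obtain ⟨m, h1, h2, h3⟩ := hx
  refine ⟨m, fun i => h1 (σ i), ?_, ?_⟩
  · rw [Equiv.sum_comp σ x]; exact h2
  · intro k
    have : lvl (fun i => x (σ i)) k = σ⁻¹ • lvl x k := by
      ext p
      rw [Finset.mem_inv_smul_finset_iff]
      simp only [lvl, Finset.mem_filter, Finset.mem_univ, true_and, Equiv.Perm.smul_def]
    show lvl (fun i => x (σ i)) k ∈ gC
    rw [this]
    exact smul_mem_gC (Subgroup.inv_mem _ hσ) (h3 k)

/-- the sum over a code word is divisible by 4 -/
theorem sum_codeword_dvd {x : GolayPt → ℤ} (hx : x ∈ leechSet) {c : Finset GolayPt}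
    (hc : c ∈ gC) : ∃ t : ℤ, ∑ i ∈ c, x i = 4 * t := by
  obtain ⟨m, h1, h2, h3⟩ := hx
  simp only [Int.ModEq] at h1
  rcases Int.emod_two_eq_zero_or_one m with hm | hm
  · -- even
    obtain ⟨e, he⟩ := gC_inter_even hc (h3 2)
    have hdec : ∀ i, x i = 4 * (x i / 4) + (if i ∈ lvl x 2 then 2 else 0) := by
      intro i
      have a1 := h1 i
      by_cases hi : i ∈ lvl x 2
      · rw [if_pos hi]
        simp only [lvl, Finset.mem_filter, Finset.mem_univ, true_and] at hi
        simp only [Int.ModEq] at hi
        omega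
      · rw [if_neg hi]
        simp only [lvl, Finset.mem_filter, Finset.mem_univ, true_and] at hi
        simp only [Int.ModEq] at hi
        omega
    refine ⟨∑ i ∈ c, x i / 4 + e, ?_⟩
    calc ∑ i ∈ c, x i = ∑ i ∈ c, (4 * (x i / 4) + (if i ∈ lvl x 2 then 2 else 0)) :=
          Finset.sum_congr rfl (fun i _ => hdec i)
      _ = 4 * ∑ i ∈ c, x i / 4 + 2 * ((c ∩ lvl x 2).card : ℤ) := by
          rw [Finset.sum_add_distrib, ← Finset.mul_sum, Finset.sum_ite_mem, Finset.sum_const,
            nsmul_eq_mul]
          ring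
      _ = 4 * (∑ i ∈ c, x i / 4 + e) := by rw [he]; push_cast; ring
  · -- odd
    obtain ⟨e, he⟩ := gC_inter_even hc (h3 3)
    obtain ⟨f, hf⟩ := gC_card_dvd hc
    have hdec : ∀ i, x i = 4 * (x i / 4) + 1 + (if i ∈ lvl x 3 then 2 else 0) := by
      intro i
      have a1 := h1 i
      by_cases hi : i ∈ lvl x 3
      · rw [if_pos hi]
        simp only [lvl, Finset.mem_filter, Finset.mem_univ, true_and] at hi
        simp only [Int.ModEq] at hi
        omega
      · rw [if_neg hi]
        simp only [lvl, Finset.mem_filter, Finset.mem_univ, true_and] at hi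
        simp only [Int.ModEq] at hi
        omega
    refine ⟨∑ i ∈ c, x i / 4 + f + e, ?_⟩
    calc ∑ i ∈ c, x i = ∑ i ∈ c, (4 * (x i / 4) + 1 + (if i ∈ lvl x 3 then 2 else 0)) :=
          Finset.sum_congr rfl (fun i _ => hdec i)
      _ = 4 * ∑ i ∈ c, x i / 4 + (c.card : ℤ) + 2 * ((c ∩ lvl x 3).card : ℤ) := by
          rw [Finset.sum_add_distrib, Finset.sum_add_distrib, ← Finset.mul_sum, Finset.sum_ite_mem,
            Finset.sum_const, Finset.sum_const, nsmul_eq_mul, nsmul_eq_mul]
          ring
      _ = 4 * (∑ i ∈ c, x i / 4 + f + e) := by rw [he, hf]; push_cast; ring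

theorem signchange_mem_leechSet {c : Finset GolayPt} (hc : c ∈ gC) {x : GolayPt → ℤ}
    (hx : x ∈ leechSet) : (fun i => if i ∈ c then -x i else x i) ∈ leechSet := by
  obtain ⟨t, ht⟩ := sum_codeword_dvd hx hc
  obtain ⟨m, h1, h2, h3⟩ := hx
  simp only [Int.ModEq] at h1
  refine ⟨m, ?_, ?_, ?_⟩
  · intro i
    have a1 := h1 i
    simp only [Int.ModEq]
    split_ifs <;> omega
  · have hsum : ∑ i, (if i ∈ c then -x i else x i) = ∑ i, x i - 2 * ∑ i ∈ c, x i := by
      have : ∀ i, (if i ∈ c then -x i else x i) = x i - (if i ∈ c then 2 * x i else 0) := by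
        intro i; split_ifs <;> ring
      simp only [this]
      rw [Finset.sum_sub_distrib, Finset.sum_ite_mem, Finset.univ_inter, ← Finset.mul_sum]
    rw [hsum, ht]
    simp only [Int.ModEq] at h2 ⊢
    omega
  · intro k
    show lvl (fun i => if i ∈ c then -x i else x i) k ∈ gC
    by_cases hpar : (m + k) % 2 = 1
    · have : lvl (fun i => if i ∈ c then -x i else x i) k = ∅ := by
        apply Finset.filter_false_of_mem
        intro i _ hik
        simp only [Int.ModEq] at hik
        have a1 := h1 i
        split_ifs at hik <;> omega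
      rw [this]; exact gC_empty
    · rcases Int.emod_two_eq_zero_or_one m with hm | hm
      · have : lvl (fun i => if i ∈ c then -x i else x i) k = lvl x k := by
          ext i
          simp only [lvl, Finset.mem_filter, Finset.mem_univ, true_and]
          simp only [Int.ModEq]
          have a1 := h1 i
          split_ifs <;> omega
        rw [this]; exact h3 k
      · have : lvl (fun i => if i ∈ c then -x i else x i) k = symmDiff (lvl x k) c := by
          ext i
          simp only [lvl, Finset.mem_symmDiff, Finset.mem_filter, Finset.mem_univ, true_and]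
          simp only [Int.ModEq]
          have a1 := h1 i
          by_cases hi : i ∈ c
          · simp only [hi, if_true, not_true_eq_false, and_false, true_and, false_or]; omega
          · simp only [hi, if_false, not_false_eq_true, and_true, false_and, or_false]
        rw [this]; exact gC_symmDiff (h3 k) hc

end LeechInv

end Cfsg.Agent.Lib.Helper1
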