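import Mathlib
import Cfsg.Prelude.Def_Sporadic_a
import Cfsg.Agent.Lib.Helper1.Leech1

set_option autoImplicit false

namespace Cfsg.Agent.Lib.Helper1

open Cfsg

section LeechNorm

theorem card_golayPt : Fintype.card GolayPt = 24 := by decide

theorem sum_ite_const (L : Finset GolayPt) (a b : ℤ) :
    ∑ i : GolayPt, (if i ∈ L then a else b) = 24 * b + (L.card : ℤ) * (a - b) := by
  have : ∀ i : GolayPt, (if i ∈ L then a else b) = b + (if i ∈ L then (a - b) else 0) := by
    intro i; split_ifs <;> ring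
  simp only [this]
  rw [Finset.sum_add_distrib, Finset.sum_const, Finset.sum_ite_mem, Finset.univ_inter,
    Finset.sum_const, Finset.card_univ, card_golayPt, nsmul_eq_mul, nsmul_eq_mul]
  push_cast; ring

theorem mem_lvl_iff (x : GolayPt → ℤ) (k : ℤ) (i : GolayPt) : i ∈ lvl x k ↔ x i % 4 = k % 4 := by
  simp only [lvl, Finset.mem_filter, Finset.mem_univ, true_and]
  rfl

/-- Sum of squares of a lattice vector is divisible by 16. -/
theorem sqNorm_dvd {x : GolayPt → ℤ} (hx : x ∈ leechSet) : (16 : ℤ) ∣ sqNorm x := by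
  obtain ⟨m, h1, h2, h3⟩ := hx
  simp only [Int.ModEq] at h1 h2
  unfold sqNorm
  rcases Int.emod_two_eq_zero_or_one m with hm | hm
  · -- even case
    obtain ⟨f, hf⟩ := gC_card_dvd (h3 2)
    have hdec : ∀ i, x i ^ 2 = 16 * ((x i / 4) ^ 2 + (if i ∈ lvl x 2 then x i / 4 else 0)) +
        (if i ∈ lvl x 2 then 4 else 0) := by
      intro i
      have a1 := h1 i
      by_cases hi : i ∈ lvl x 2
      · rw [if_pos hi, if_pos hi]
        rw [mem_lvl_iff] at hi
        obtain ⟨s, hs⟩ : ∃ s, x i = 4 * s + 2 := ⟨x i / 4, by omega⟩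
        have hs' : x i / 4 = s := by omega
        rw [hs', hs]; ring
      · rw [if_neg hi, if_neg hi]
        rw [mem_lvl_iff] at hi
        obtain ⟨s, hs⟩ : ∃ s, x i = 4 * s := ⟨x i / 4, by omega⟩
        have hs' : x i / 4 = s := by omega
        rw [hs', hs]; ring
    rw [Finset.sum_congr rfl (fun i _ => hdec i), Finset.sum_add_distrib, ← Finset.mul_sum,
      sum_ite_const, hf]
    refine ⟨∑ i, ((x i / 4) ^ 2 + (if i ∈ lvl x 2 then x i / 4 else 0)) + f, ?_⟩
    push_cast; ring
  · -- odd case
    obtain ⟨f, hf⟩ := gC_card_dvd (h3 1)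
    have hdecx : ∀ i, x i = 4 * (x i / 4) + (if i ∈ lvl x 1 then 1 else 3) := by
      intro i
      have a1 := h1 i
      by_cases hi : i ∈ lvl x 1
      · rw [if_pos hi]; rw [mem_lvl_iff] at hi; omega
      · rw [if_neg hi]; rw [mem_lvl_iff] at hi; omega
    have hdec : ∀ i, x i ^ 2 = 16 * ((x i / 4) ^ 2 + (if i ∈ lvl x 1 then 0 else x i / 4)) +
        8 * (x i / 4 + (if i ∈ lvl x 1 then 0 else 1)) + 1 := by
      intro i
      have a1 := hdecx i
      by_cases hi : i ∈ lvl x 1
      · simp only [if_pos hi] at a1 ⊢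
        obtain ⟨s, hs⟩ : ∃ s, x i / 4 = s := ⟨_, rfl⟩
        rw [hs] at a1 ⊢
        rw [a1]; ring
      · simp only [if_neg hi] at a1 ⊢
        obtain ⟨s, hs⟩ : ∃ s, x i / 4 = s := ⟨_, rfl⟩
        rw [hs] at a1 ⊢
        rw [a1]; ring
    have hsumx : ∑ i, x i = 4 * ∑ i, x i / 4 + (24 * 3 + (4 * f : ℤ) * (1 - 3)) := by
      conv_lhs => rw [Finset.sum_congr rfl (fun i _ => hdecx i)]
      rw [Finset.sum_add_distrib, ← Finset.mul_sum, sum_ite_const, hf]
      push_cast; ring
    set S := ∑ i, x i / 4 with hS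
    have hSodd : S % 2 = 1 := by
      rw [hsumx] at h2
      omega
    rw [Finset.sum_congr rfl (fun i _ => hdec i)]
    simp only [Finset.sum_add_distrib, ← Finset.mul_sum, Finset.sum_const, Finset.card_univ,
      card_golayPt, nsmul_eq_mul, Nat.cast_ofNat, mul_one]
    rw [sum_ite_const (lvl x 1) 0 1, hf, ← hS]
    generalize (∑ i, (x i / 4) ^ 2) = X
    generalize (∑ i, if i ∈ lvl x 1 then 0 else x i / 4) = Y
    push_cast
    omega

theorem gC_card_cases {a : Finset GolayPt} (ha : a ∈ gC) :
    a.card = 0 ∨ a.card = 8 ∨ a.card = 12 ∨ a.card = 16 ∨ a.card = 24 := by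
  obtain ⟨v, hv, rfl⟩ := ha
  have h := golay_weight hv
  rw [hammingNorm_eq_card_support₂] at h
  exact h

theorem sqNorm_nonneg' (x : GolayPt → ℤ) : 0 ≤ sqNorm x :=
  Finset.sum_nonneg (fun i _ => sq_nonneg (x i))

/-- Nonzero lattice vectors have sum of squares at least 32. -/
theorem sqNorm_ge {x : GolayPt → ℤ} (hx : x ∈ leechSet) (h0 : x ≠ 0) : 32 ≤ sqNorm x := by
  have h16 := sqNorm_dvd hx
  have hnn := sqNorm_nonneg' x
  suffices hgt : 16 < sqNorm x by
    obtain ⟨t, ht⟩ := h16
    omega
  obtain ⟨m, h1, h2, h3⟩ := hx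
  simp only [Int.ModEq] at h1 h2
  rcases Int.emod_two_eq_zero_or_one m with hm | hm
  · -- even
    rcases gC_card_cases (h3 2) with hc | hc
    · -- all coordinates divisible by 4
      have hL : lvl x 2 = ∅ := Finset.card_eq_zero.mp hc
      have h4 : ∀ i, x i % 4 = 0 := by
        intro i
        have a1 := h1 i
        have : i ∉ lvl x 2 := by rw [hL]; exact Finset.notMem_empty i
        rw [mem_lvl_iff] at this
        omega
      obtain ⟨j, hj⟩ : ∃ j, x j ≠ 0 := by
        by_contra hcon
        push Not at hcon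
        exact h0 (funext hcon)
      by_contra hle
      push Not at hle
      have hsplit : sqNorm x = x j ^ 2 + ∑ i ∈ Finset.univ.erase j, x i ^ 2 := by
        unfold sqNorm
        exact (Finset.add_sum_erase _ (fun i => x i ^ 2) (Finset.mem_univ j)).symm
      have hrest : 0 ≤ ∑ i ∈ Finset.univ.erase j, x i ^ 2 :=
        Finset.sum_nonneg (fun i _ => sq_nonneg (x i))
      have hj16 : 16 ≤ x j ^ 2 := by
        have a4 := h4 j
        have : x j ≥ 4 ∨ x j ≤ -4 := by omega
        rcases this with h | h <;> nlinarith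
      have hrest0 : ∑ i ∈ Finset.univ.erase j, x i ^ 2 = 0 := by omega
      have hj16' : x j ^ 2 = 16 := by omega
      have hzero : ∀ i ∈ Finset.univ.erase j, x i = 0 := by
        intro i hi
        have := (Finset.sum_eq_zero_iff_of_nonneg (fun i _ => sq_nonneg (x i))).mp hrest0 i hi
        exact pow_eq_zero_iff (by norm_num) |>.mp this
      have hsum : ∑ i, x i = x j := by
        rw [← Finset.add_sum_erase _ _ (Finset.mem_univ j), Finset.sum_eq_zero hzero, add_zero]
      have hj4 : x j = 4 ∨ x j = -4 := by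
        have : (x j - 4) * (x j + 4) = 0 := by nlinarith
        rcases mul_eq_zero.mp this with h | h
        · left; omega
        · right; omega
      rw [hsum] at h2
      rcases hj4 with h | h <;> rw [h] at h2 <;> omega
    · -- at least 8 coordinates ≡ 2 mod 4
      have hc8 : 8 ≤ (lvl x 2).card := by
        rcases hc with hc | hc | hc | hc <;> rw [show (lvl x 2).card = _ from hc] <;> norm_num
      have h1' : ∑ i ∈ lvl x 2, (4 : ℤ) ≤ ∑ i ∈ lvl x 2, x i ^ 2 := by
        apply Finset.sum_le_sum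
        intro i hi
        rw [mem_lvl_iff] at hi
        have : x i ≥ 2 ∨ x i ≤ -2 := by omega
        rcases this with h | h <;> nlinarith
      have h2' : ∑ i ∈ lvl x 2, x i ^ 2 ≤ sqNorm x := by
        unfold sqNorm
        exact Finset.sum_le_sum_of_subset_of_nonneg (Finset.subset_univ _)
          (fun i _ _ => sq_nonneg (x i))
      rw [Finset.sum_const, nsmul_eq_mul] at h1'
      have : (8 : ℤ) ≤ ((lvl x 2).card : ℤ) := by exact_mod_cast hc8
      linarith
  · -- odd: all coordinates nonzero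
    have h1' : ∑ i : GolayPt, (1 : ℤ) ≤ sqNorm x := by
      unfold sqNorm
      apply Finset.sum_le_sum
      intro i _
      have a1 := h1 i
      have : x i ≥ 1 ∨ x i ≤ -1 := by omega
      rcases this with h | h <;> nlinarith
    rw [Finset.sum_const, Finset.card_univ, card_golayPt] at h1'
    simp at h1'
    linarith

end LeechNorm

end Cfsg.Agent.Lib.Helper1
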