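import Mathlib
import Cfsg.Prelude.Def_Spor_Conway
import Cfsg.Agent.Lib.Helper1.Leech3
import Cfsg.Agent.Lib.Helper1.Golay3

set_option autoImplicit false

namespace Cfsg.Agent.Lib.Helper1.LeechIndex

open Cfsg

/-- reduction modulo 2 -/
noncomputable def red : (GolayPt → ℤ) →+ (GolayPt → ZMod 2) :=
  (Int.castAddHom (ZMod 2)).compLeft GolayPt

theorem red_apply (x : GolayPt → ℤ) (i : GolayPt) : red x i = ((x i : ℤ) : ZMod 2) := rfl

theorem red_surjective : Function.Surjective red := by
  intro w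
  refine ⟨fun i => ((w i).val : ℤ), ?_⟩
  ext i
  rw [red_apply]
  simp

theorem red_ne_zero_iff (x : GolayPt → ℤ) (i : GolayPt) : red x i ≠ 0 ↔ x i % 2 = 1 := by
  rw [red_apply, Ne, ZMod.intCast_zmod_eq_zero_iff_dvd]
  omega

theorem support_red (x : GolayPt → ℤ) :
    support₂ (red x) = Finset.univ.filter (fun i => x i % 2 = 1) := by
  ext i
  simp only [support₂, Finset.mem_filter, Finset.mem_univ, true_and]
  exact red_ne_zero_iff x i

theorem mem_ker_red (x : GolayPt → ℤ) : x ∈ red.ker ↔ ∀ i, x i % 2 = 0 := by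
  rw [AddMonoidHom.mem_ker]
  constructor
  · intro h i
    have : red x i = 0 := by rw [h]; rfl
    rw [red_apply, ZMod.intCast_zmod_eq_zero_iff_dvd] at this
    omega
  · intro h
    ext i
    rw [red_apply, Pi.zero_apply, ZMod.intCast_zmod_eq_zero_iff_dvd]
    have := h i
    omega

/-- the code as an additive subgroup -/
noncomputable def Cadd : AddSubgroup (GolayPt → ZMod 2) := golayCode.toAddSubgroup

theorem card_fun : Nat.card (GolayPt → ZMod 2) = 2 ^ 24 := by
  rw [Nat.card_eq_fintype_card, Fintype.card_fun, ZMod.card, card_golayPt]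

theorem index_Cadd : Cadd.index = 2 ^ 12 := by
  have h1 : Nat.card Cadd = 4096 := by
    have : Nat.card golayCode = 4096 := by
      rw [← ncard_golayCode]; exact Nat.card_coe_set_eq _
    exact this
  have h2 := Cadd.card_mul_index
  rw [h1, card_fun] at h2
  have : (4096 : ℕ) * 2 ^ 12 = 2 ^ 24 := by norm_num
  exact Nat.eq_of_mul_eq_mul_left (by norm_num : 0 < 4096) (h2.trans this.symm)

/-- vectors whose reduction is a codeword -/
noncomputable def K₁ : AddSubgroup (GolayPt → ℤ) := Cadd.comap red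

theorem mem_K₁ (y : GolayPt → ℤ) : y ∈ K₁ ↔ red y ∈ golayCode := Iff.rfl

theorem index_K₁ : K₁.index = 2 ^ 12 := by
  unfold K₁
  rw [AddSubgroup.index_comap_of_surjective _ red_surjective, index_Cadd]

/-- sum of coordinates modulo 4 -/
noncomputable def sum4 : (GolayPt → ℤ) →+ ZMod 4 :=
  (Int.castAddHom (ZMod 4)).comp
    (AddMonoidHom.mk' (fun x : GolayPt → ℤ => ∑ i, x i) (by
      intro a b; simp [Finset.sum_add_distrib]))

theorem sum4_apply (x : GolayPt → ℤ) : sum4 x = ((∑ i, x i : ℤ) : ZMod 4) := rfl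

theorem mem_ker_sum4 (x : GolayPt → ℤ) : x ∈ sum4.ker ↔ (4 : ℤ) ∣ ∑ i, x i := by
  rw [AddMonoidHom.mem_ker, sum4_apply, ZMod.intCast_zmod_eq_zero_iff_dvd]
  rfl

/-- parity of the sum equals parity of the number of odd coordinates -/
theorem sum_mod_two (y : GolayPt → ℤ) :
    (∑ i, y i) % 2 = ((Finset.univ.filter (fun i => y i % 2 = 1)).card : ℤ) % 2 := by
  have h1 : ∀ i, y i = (if y i % 2 = 1 then 1 else 0) + 2 * (y i / 2) := by
    intro i
    split_ifs with h <;> omega
  have h2 : ∑ i, y i = ∑ i, ((if y i % 2 = 1 then (1 : ℤ) else 0) + 2 * (y i / 2)) :=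
    Finset.sum_congr rfl (fun i _ => h1 i)
  rw [h2, Finset.sum_add_distrib, ← Finset.mul_sum, Finset.sum_boole]
  omega

theorem even_sum_of_mem_K₁ {y : GolayPt → ℤ} (hy : y ∈ K₁) : (∑ i, y i) % 2 = 0 := by
  rw [sum_mod_two, ← support_red]
  have h1 : support₂ (red y) ∈ gC := ⟨red y, hy, rfl⟩
  obtain ⟨k, hk⟩ := gC_card_dvd h1
  rw [hk]
  push_cast
  omega

/-- twice a unit vector -/
def twoE : GolayPt → ℤ := fun p => if p = none then 2 else 0

theorem twoE_mem_K₁ : twoE ∈ K₁ := by
  rw [mem_K₁]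
  have : red twoE = 0 := by
    ext i
    rw [red_apply, Pi.zero_apply, ZMod.intCast_zmod_eq_zero_iff_dvd]
    unfold twoE
    split_ifs <;> norm_num
  rw [this]
  exact golayCode.zero_mem

theorem sum_twoE : ∑ i, twoE i = 2 := by
  unfold twoE
  rw [Finset.sum_ite_eq' Finset.univ none (fun _ => (2 : ℤ))]
  simp

theorem map_sum4_K₁ : K₁.map sum4 = AddSubgroup.zmultiples (2 : ZMod 4) := by
  apply le_antisymm
  · rintro _ ⟨y, hy, rfl⟩
    have h := even_sum_of_mem_K₁ hy
    rw [sum4_apply, AddSubgroup.mem_zmultiples_iff]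
    refine ⟨(∑ i, y i) / 2, ?_⟩
    have : ∑ i, y i = ((∑ i, y i) / 2) * 2 := by omega
    conv_rhs => rw [this]
    push_cast
    simp
  · rw [AddSubgroup.zmultiples_le]
    refine ⟨twoE, twoE_mem_K₁, ?_⟩
    rw [sum4_apply, sum_twoE]
    rfl

theorem card_zmultiples_two : Nat.card (AddSubgroup.zmultiples (2 : ZMod 4)) = 2 := by
  rw [Nat.card_zmultiples]
  exact addOrderOf_eq_prime (by decide) (by decide)

/-- vectors with reduction in the code and sum divisible by 4 -/
noncomputable def K : AddSubgroup (GolayPt → ℤ) := sum4.ker ⊓ K₁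

theorem mem_K (y : GolayPt → ℤ) : y ∈ K ↔ (4 : ℤ) ∣ ∑ i, y i ∧ red y ∈ golayCode := by
  unfold K
  rw [AddSubgroup.mem_inf, mem_ker_sum4, mem_K₁]

theorem index_K : K.index = 2 ^ 13 := by
  have h1 : K.relIndex K₁ = 2 := by
    unfold K
    rw [AddSubgroup.inf_relIndex_right, AddSubgroup.relIndex_ker, map_sum4_K₁,
      card_zmultiples_two]
  have h2 := AddSubgroup.relIndex_mul_index (H := K) (K := K₁) inf_le_right
  rw [h1, index_K₁] at h2
  rw [← h2]
  norm_num

/-- doubling -/
noncomputable def dbl : (GolayPt → ℤ) →+ (GolayPt → ℤ) :=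
  AddMonoidHom.mk' (fun x => fun i => 2 * x i) (by
    intro a b; ext i; simp [mul_add])

theorem dbl_apply (x : GolayPt → ℤ) (i : GolayPt) : dbl x i = 2 * x i := rfl

theorem dbl_injective : Function.Injective dbl := by
  intro a b h
  ext i
  have := congrFun h i
  rw [dbl_apply, dbl_apply] at this
  omega

theorem range_dbl : dbl.range = red.ker := by
  ext x
  rw [AddMonoidHom.mem_range, mem_ker_red]
  constructor
  · rintro ⟨y, rfl⟩ i
    rw [dbl_apply]; omega
  · intro h
    refine ⟨fun i => x i / 2, ?_⟩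
    ext i
    rw [dbl_apply]
    have := h i
    omega

theorem index_ker_red : red.ker.index = 2 ^ 24 := by
  rw [AddSubgroup.index_ker, AddMonoidHom.range_eq_top.mpr red_surjective]
  rw [Nat.card_congr AddSubgroup.topEquiv.toEquiv, card_fun]

theorem index_map_K : (K.map dbl).index = 2 ^ 37 := by
  have h := K.index_map_of_injective dbl_injective
  rw [h, index_K, range_dbl, index_ker_red]
  norm_num

end Cfsg.Agent.Lib.Helper1.LeechIndex
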