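import Mathlib
import Cfsg.Agent.Lib.Helper1.LeechIndex

set_option autoImplicit false

namespace Cfsg.Agent.Lib.Helper1.LeechIndex

open Cfsg

theorem lvl_dbl_two (y : GolayPt → ℤ) : lvl (dbl y) 2 = support₂ (red y) := by
  ext i
  rw [mem_lvl_iff, support_red, Finset.mem_filter, dbl_apply]
  simp only [Finset.mem_univ, true_and]
  omega

theorem dbl_mem_leechSet {y : GolayPt → ℤ} (hy : y ∈ K) : dbl y ∈ leechSet := by
  rw [mem_K] at hy
  obtain ⟨⟨t, ht⟩, h2⟩ := hy
  have hsupp : support₂ (red y) ∈ gC := ⟨red y, h2, rfl⟩
  refine ⟨0, ?_, ?_, ?_⟩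
  · intro i
    simp only [Int.ModEq, dbl_apply]
    omega
  · simp only [Int.ModEq, dbl_apply]
    rw [← Finset.mul_sum, ht]
    omega
  · intro k
    show lvl (dbl y) k ∈ gC
    by_cases hk2 : k % 4 = 2
    · have : lvl (dbl y) k = lvl (dbl y) 2 := by
        ext i
        rw [mem_lvl_iff, mem_lvl_iff, hk2]
        rfl
      rw [this, lvl_dbl_two]
      exact hsupp
    · by_cases hk0 : k % 4 = 0
      · have : lvl (dbl y) k = (lvl (dbl y) 2)ᶜ := by
          ext i
          rw [Finset.mem_compl, mem_lvl_iff, mem_lvl_iff, hk0, dbl_apply]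
          omega
        rw [this, lvl_dbl_two]
        exact gC_compl hsupp
      · have : lvl (dbl y) k = ∅ := by
          ext i
          rw [mem_lvl_iff, dbl_apply]
          simp only [Finset.notMem_empty, iff_false]
          omega
        rw [this]
        exact gC_empty

theorem inf_ker_eq : leechLattice ⊓ red.ker = K.map dbl := by
  ext x
  rw [AddSubgroup.mem_inf, mem_leechLattice_iff, mem_ker_red, AddSubgroup.mem_map]
  constructor
  · rintro ⟨h1, h2⟩
    refine ⟨fun i => x i / 2, ?_, ?_⟩
    · have hx : dbl (fun i => x i / 2) = x := by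
        ext i
        rw [dbl_apply]
        have := h2 i
        omega
      obtain ⟨m, hm1, hm2, hm3⟩ := h1
      simp only [Int.ModEq] at hm1 hm2
      rw [mem_K]
      constructor
      · have hm : m % 2 = 0 := by
          have a1 := hm1 none
          have a2 := h2 none
          omega
        have hs : ∑ i, x i = 2 * ∑ i, x i / 2 := by
          rw [Finset.mul_sum]
          apply Finset.sum_congr rfl
          intro i _
          have := h2 i
          omega
        rw [hs] at hm2
        omega
      · have h3 := hm3 2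
        obtain ⟨w, hw, hws⟩ := h3
        have : w = red (fun i => x i / 2) := by
          apply support₂_injective
          rw [hws, ← lvl_dbl_two, hx]
        rw [← this]
        exact hw
    · ext i
      rw [dbl_apply]
      have := h2 i
      omega
  · rintro ⟨y, hy, rfl⟩
    refine ⟨dbl_mem_leechSet hy, ?_⟩
    intro i
    rw [dbl_apply]
    omega

/-- the all-ones word -/
def ones : GolayPt → ZMod 2 := fun _ => 1

theorem red_vecV : red Cfsg.Spor.vecV = ones := by
  ext i
  rw [red_apply]
  unfold Cfsg.Spor.vecV ones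
  split_ifs <;> decide

theorem map_red_leech : leechLattice.map red = AddSubgroup.zmultiples ones := by
  apply le_antisymm
  · rintro _ ⟨x, hx, rfl⟩
    rw [SetLike.mem_coe, mem_leechLattice_iff] at hx
    obtain ⟨m, hm1, _, _⟩ := hx
    simp only [Int.ModEq] at hm1
    rw [AddSubgroup.mem_zmultiples_iff]
    refine ⟨m, ?_⟩
    ext i
    rw [red_apply, Pi.smul_apply]
    unfold ones
    rw [zsmul_eq_mul, mul_one, ZMod.intCast_eq_intCast_iff]
    exact (hm1 i).symm
  · rw [AddSubgroup.zmultiples_le]
    refine ⟨Cfsg.Spor.vecV, ?_, red_vecV⟩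
    rw [SetLike.mem_coe, mem_leechLattice_iff]
    exact Cfsg.Spor.vecV_mem_leechSet

theorem card_zmultiples_ones : Nat.card (AddSubgroup.zmultiples ones) = 2 := by
  rw [Nat.card_zmultiples]
  apply addOrderOf_eq_prime
  · ext i
    unfold ones
    simp only [Pi.smul_apply, Pi.zero_apply]
    exact (by decide : (2 : ℕ) • (1 : ZMod 2) = 0)
  · intro h
    have := congrFun h none
    unfold ones at this
    simp at this

theorem index_leech : leechLattice.index = 2 ^ 36 := by
  have h1 : (leechLattice ⊓ red.ker).relIndex leechLattice = 2 := by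
    rw [AddSubgroup.inf_relIndex_left, AddSubgroup.relIndex_ker, map_red_leech,
      card_zmultiples_ones]
  have h2 := AddSubgroup.relIndex_mul_index (H := leechLattice ⊓ red.ker) (K := leechLattice)
    inf_le_left
  rw [h1, inf_ker_eq, index_map_K] at h2
  have : (2 : ℕ) * 2 ^ 36 = 2 ^ 37 := by norm_num
  exact Nat.eq_of_mul_eq_mul_left (by norm_num : 0 < 2) (h2.trans this.symm)

end Cfsg.Agent.Lib.Helper1.LeechIndex
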