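import Mathlib
import Cfsg.Agent.Lib.Helper1.LeechIndex2

set_option autoImplicit false

namespace Cfsg.Agent.Lib.Helper1.LeechCross

open Cfsg Cfsg.Agent.Lib.Helper1.LeechIndex

/-- twice the lattice -/
noncomputable def twoL : AddSubgroup (GolayPt → ℤ) := leechLattice.map dbl

theorem dbl_eq (x : GolayPt → ℤ) : dbl x = x + x := by
  ext i
  rw [dbl_apply, Pi.add_apply]
  ring

theorem twoL_le : twoL ≤ leechLattice := by
  rintro _ ⟨x, hx, rfl⟩
  rw [dbl_eq]
  exact leechLattice.add_mem hx hx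

theorem mem_twoL (x : GolayPt → ℤ) : x ∈ twoL ↔ ∃ z ∈ leechLattice, dbl z = x := by
  unfold twoL
  rw [AddSubgroup.mem_map]

theorem index_twoL : twoL.index = 2 ^ 36 * 2 ^ 24 := by
  have h := leechLattice.index_map_of_injective dbl_injective
  unfold twoL
  rw [h, index_leech, range_dbl, index_ker_red]

theorem relIndex_twoL : twoL.relIndex leechLattice = 2 ^ 24 := by
  have h := AddSubgroup.relIndex_mul_index twoL_le
  rw [index_twoL, index_leech] at h
  have : (2 : ℕ) ^ 36 * 2 ^ 24 = 2 ^ 24 * 2 ^ 36 := by ring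
  rw [this] at h
  exact Nat.eq_of_mul_eq_mul_right (by positivity) h

theorem sqNorm_add (x y : GolayPt → ℤ) :
    sqNorm (x + y) = sqNorm x + 2 * dotInt x y + sqNorm y := by
  unfold sqNorm dotInt
  rw [Finset.mul_sum, ← Finset.sum_add_distrib, ← Finset.sum_add_distrib]
  apply Finset.sum_congr rfl
  intro i _
  rw [Pi.add_apply]
  ring

theorem sqNorm_sub (x y : GolayPt → ℤ) :
    sqNorm (x - y) = sqNorm x - 2 * dotInt x y + sqNorm y := by
  unfold sqNorm dotInt
  rw [Finset.mul_sum, ← Finset.sum_sub_distrib, ← Finset.sum_add_distrib]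
  apply Finset.sum_congr rfl
  intro i _
  rw [Pi.sub_apply]
  ring

theorem sqNorm_dbl (z : GolayPt → ℤ) : sqNorm (dbl z) = 4 * sqNorm z := by
  unfold sqNorm
  rw [Finset.mul_sum]
  apply Finset.sum_congr rfl
  intro i _
  rw [dbl_apply]
  ring

theorem sqNorm_neg (x : GolayPt → ℤ) : sqNorm (-x) = sqNorm x := by
  unfold sqNorm
  apply Finset.sum_congr rfl
  intro i _
  rw [Pi.neg_apply]
  ring

theorem sqNorm_eq_zero {x : GolayPt → ℤ} (h : sqNorm x = 0) : x = 0 := by
  unfold sqNorm at h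
  have := (Finset.sum_eq_zero_iff_of_nonneg (fun i _ => sq_nonneg (x i))).mp h
  ext i
  have h1 := this i (Finset.mem_univ i)
  exact pow_eq_zero_iff (two_ne_zero) |>.mp h1

theorem sqNorm_ge_of_mem {z : GolayPt → ℤ} (hz : z ∈ leechLattice) (h0 : z ≠ 0) :
    32 ≤ sqNorm z :=
  sqNorm_ge ((mem_leechLattice_iff z).mp hz) h0

/-- two short congruent lattice vectors are equal, opposite, or orthogonal of norm 64 -/
theorem short_congruent {x y : GolayPt → ℤ} (hx : x ∈ leechLattice) (hy : y ∈ leechLattice)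
    (hnx : sqNorm x ≤ 64) (hny : sqNorm y ≤ 64) (hxy : x - y ∈ twoL) (h1 : y ≠ x) (h2 : y ≠ -x) :
    sqNorm x = 64 ∧ sqNorm y = 64 ∧ dotInt x y = 0 := by
  obtain ⟨z, hz, hzd⟩ := (mem_twoL _).mp hxy
  have hz0 : z ≠ 0 := by
    rintro rfl
    apply h1
    have : x - y = 0 := by rw [← hzd]; exact map_zero dbl
    exact (sub_eq_zero.mp this).symm
  have hzy : z + y ∈ leechLattice := leechLattice.add_mem hz hy
  have hzy0 : z + y ≠ 0 := by
    intro h
    apply h2
    have h3 : dbl (z + y) = x + y := by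
      rw [map_add, hzd, dbl_eq]
      abel
    rw [h, map_zero] at h3
    exact (eq_neg_of_add_eq_zero_right h3.symm)
  have e1 : sqNorm (x - y) = 4 * sqNorm z := by rw [← hzd, sqNorm_dbl]
  have e2 : sqNorm (x + y) = 4 * sqNorm (z + y) := by
    rw [← sqNorm_dbl, map_add, hzd, dbl_eq]
    congr 1
    abel
  have g1 := sqNorm_ge_of_mem hz hz0
  have g2 := sqNorm_ge_of_mem hzy hzy0
  rw [sqNorm_sub] at e1
  rw [sqNorm_add] at e2
  refine ⟨by omega, by omega, by omega⟩

end Cfsg.Agent.Lib.Helper1.LeechCross
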