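import Mathlib
import Cfsg.Agent.Lib.Helper1.LeechCross1

set_option autoImplicit false

namespace Cfsg.Agent.Lib.Helper1.LeechCross

open Cfsg Cfsg.Agent.Lib.Helper1.LeechIndex

theorem dotInt_self (y : GolayPt → ℤ) : dotInt y y = sqNorm y := by
  unfold dotInt sqNorm
  apply Finset.sum_congr rfl
  intro i _
  ring

theorem dotInt_neg_right (x y : GolayPt → ℤ) : dotInt x (-y) = -dotInt x y := by
  unfold dotInt
  rw [← Finset.sum_neg_distrib]
  apply Finset.sum_congr rfl
  intro i _
  rw [Pi.neg_apply]
  ring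

theorem dotInt_neg_left (x y : GolayPt → ℤ) : dotInt (-x) y = -dotInt x y := by
  unfold dotInt
  rw [← Finset.sum_neg_distrib]
  apply Finset.sum_congr rfl
  intro i _
  rw [Pi.neg_apply]
  ring

/-- the Gram-type matrix of a family -/
def MM (G : Finset (GolayPt → ℤ)) (j k : GolayPt) : ℤ := ∑ y ∈ G, y j * y k

theorem MM_symm (G : Finset (GolayPt → ℤ)) (j k : GolayPt) : MM G j k = MM G k j := by
  unfold MM
  apply Finset.sum_congr rfl
  intro y _
  ring

/-- closed orthogonal families: the matrix is 128 times an idempotent -/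
theorem MM_mul (G : Finset (GolayPt → ℤ)) (hneg : ∀ y ∈ G, -y ∈ G)
    (hn : ∀ y ∈ G, sqNorm y = 64)
    (hp : ∀ x ∈ G, ∀ y ∈ G, y = x ∨ y = -x ∨ dotInt x y = 0) (i l : GolayPt) :
    ∑ k, MM G i k * MM G k l = 128 * MM G i l := by
  have inner : ∀ y ∈ G, ∑ y' ∈ G, y' l * dotInt y y' = 128 * y l := by
    intro y hy
    have hne : y ≠ -y := by
      intro h
      have h0 : y = 0 := by
        ext j
        have := congrFun h j
        rw [Pi.neg_apply] at this
        rw [Pi.zero_apply]
        omega
      have := hn y hy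
      rw [h0] at this
      unfold sqNorm at this
      simp at this
    rw [Finset.sum_eq_add_of_mem y (-y) hy (hneg y hy) hne]
    · rw [dotInt_self, dotInt_neg_right, dotInt_self, hn y hy, Pi.neg_apply]
      ring
    · intro c hc hcc
      rcases hp y hy c hc with h | h | h
      · exact absurd h hcc.1
      · exact absurd h hcc.2
      · rw [h, mul_zero]
  unfold MM
  simp_rw [Finset.sum_mul_sum]
  rw [Finset.sum_comm]
  rw [Finset.mul_sum]
  apply Finset.sum_congr rfl
  intro y hy
  rw [Finset.sum_comm]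
  have : ∀ y' ∈ G, ∑ k, y i * y k * (y' k * y' l) = y i * (y' l * dotInt y y') := by
    intro y' _
    unfold dotInt
    rw [Finset.mul_sum, Finset.mul_sum]
    apply Finset.sum_congr rfl
    intro k _
    ring
  rw [Finset.sum_congr rfl this, ← Finset.mul_sum, inner y hy]
  ring

theorem MM_diag_le (G : Finset (GolayPt → ℤ)) (hneg : ∀ y ∈ G, -y ∈ G)
    (hn : ∀ y ∈ G, sqNorm y = 64)
    (hp : ∀ x ∈ G, ∀ y ∈ G, y = x ∨ y = -x ∨ dotInt x y = 0) (i : GolayPt) :
    MM G i i ≤ 128 := by
  have h1 := MM_mul G hneg hn hp i i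
  have h2 : ∑ k, MM G i k * MM G k i = ∑ k, (MM G i k) ^ 2 := by
    apply Finset.sum_congr rfl
    intro k _
    rw [MM_symm G k i]
    ring
  rw [h2] at h1
  have h3 : (MM G i i) ^ 2 ≤ ∑ k, (MM G i k) ^ 2 :=
    Finset.single_le_sum (f := fun k => (MM G i k) ^ 2) (fun k _ => sq_nonneg _)
      (Finset.mem_univ i)
  rw [h1] at h3
  nlinarith

theorem card_le_of_closed (G : Finset (GolayPt → ℤ)) (hneg : ∀ y ∈ G, -y ∈ G)
    (hn : ∀ y ∈ G, sqNorm y = 64)
    (hp : ∀ x ∈ G, ∀ y ∈ G, y = x ∨ y = -x ∨ dotInt x y = 0) : G.card ≤ 48 := by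
  have h1 : ∑ i, MM G i i = 64 * (G.card : ℤ) := by
    unfold MM
    rw [Finset.sum_comm]
    have : ∀ y ∈ G, ∑ i, y i * y i = 64 := by
      intro y hy
      rw [← hn y hy]
      unfold sqNorm
      apply Finset.sum_congr rfl
      intro i _
      ring
    rw [Finset.sum_congr rfl this, Finset.sum_const]
    simp
    ring
  have h2 : ∑ i : GolayPt, MM G i i ≤ ∑ _i : GolayPt, (128 : ℤ) :=
    Finset.sum_le_sum (fun i _ => MM_diag_le G hneg hn hp i)
  rw [Finset.sum_const, Finset.card_univ, card_golayPt, h1] at h2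
  simp at h2
  omega

/-- a family of norm-64 vectors, pairwise equal, opposite or orthogonal, has at most 48 members -/
theorem card_le_of_orth (F : Finset (GolayPt → ℤ)) (hn : ∀ y ∈ F, sqNorm y = 64)
    (hp : ∀ x ∈ F, ∀ y ∈ F, y = x ∨ y = -x ∨ dotInt x y = 0) : F.card ≤ 48 := by
  classical
  let G := F ∪ F.image (fun y => -y)
  have hG : ∀ y, y ∈ G ↔ y ∈ F ∨ -y ∈ F := by
    intro y
    simp only [G, Finset.mem_union, Finset.mem_image]
    constructor
    · rintro (h | ⟨z, hz, rfl⟩)
      · exact Or.inl h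
      · right; rwa [neg_neg]
    · rintro (h | h)
      · exact Or.inl h
      · exact Or.inr ⟨-y, h, neg_neg y⟩
  have hle : F.card ≤ G.card := Finset.card_le_card Finset.subset_union_left
  refine hle.trans (card_le_of_closed G ?_ ?_ ?_)
  · intro y hy
    rw [hG] at hy ⊢
    rw [neg_neg]
    exact hy.symm
  · intro y hy
    rw [hG] at hy
    rcases hy with h | h
    · exact hn y h
    · rw [← sqNorm_neg]; exact hn _ h
  · intro x hx y hy
    rw [hG] at hx hy
    rcases hx with hx | hx <;> rcases hy with hy | hy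
    · exact hp x hx y hy
    · rcases hp x hx (-y) hy with h | h | h
      · right; left; rw [← h, neg_neg]
      · left; rw [← neg_neg y, h, neg_neg]
      · right; right
        rw [dotInt_neg_right] at h
        omega
    · rcases hp (-x) hx y hy with h | h | h
      · right; left; exact h
      · left; rw [h, neg_neg]
      · right; right
        rw [dotInt_neg_left] at h
        omega
    · rcases hp (-x) hx (-y) hy with h | h | h
      · left; exact neg_injective h
      · right; left; rw [neg_neg] at h; rw [← h, neg_neg]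
      · right; right
        rw [dotInt_neg_left, dotInt_neg_right] at h
        omega

end Cfsg.Agent.Lib.Helper1.LeechCross
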