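import Mathlib
import Cfsg.Prelude.Def_Sporadic_a
import Cfsg.Agent.Lib.Helper1.Golay6

set_option autoImplicit false

namespace Cfsg.Agent.Lib.Helper1.M24

open Cfsg Cfsg.Agent.Lib.Helper1
open scoped Pointwise

/-- permutations of the 24 points -/
abbrev P24 := Equiv.Perm GolayPt

/-- table lookup -/
def tg (t : List ℕ) (i : ℕ) : ℕ := t.getD i 0

theorem gUnidx_inj {i j : ℕ} (hi : i < 24) (hj : j < 24) (h : gUnidx i = gUnidx j) : i = j := by
  rw [← gIdx_gUnidx i hi, ← gIdx_gUnidx j hj, h]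

/-- an element of a subgroup together with its table -/
structure El (H : Subgroup P24) where
  σ : P24
  t : List ℕ
  mem : σ ∈ H
  lt : ∀ i < 24, tg t i < 24
  tab : ∀ i < 24, σ (gUnidx i) = gUnidx (tg t i)

namespace El

variable {H : Subgroup P24}

/-- product, with a supplied table -/
def mul (a b : El H) (t : List ℕ) (h : ∀ i < 24, tg t i = tg a.t (tg b.t i)) : El H where
  σ := a.σ * b.σ
  t := t
  mem := H.mul_mem a.mem b.mem
  lt := fun i hi => by rw [h i hi]; exact a.lt _ (b.lt i hi)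
  tab := fun i hi => by
    rw [Equiv.Perm.mul_apply, b.tab i hi, a.tab _ (b.lt i hi), h i hi]

/-- inverse, with a supplied table -/
def inv (a : El H) (t : List ℕ) (h : ∀ i < 24, tg t i < 24 ∧ tg t (tg a.t i) = i) : El H where
  σ := a.σ⁻¹
  t := t
  mem := H.inv_mem a.mem
  lt := fun i hi => (h i hi).1
  tab := fun j hj => by
    rw [Equiv.Perm.inv_eq_iff_eq]
    have hk := (h j hj).1
    rw [a.tab _ hk]
    have hi : gIdx (a.σ⁻¹ (gUnidx j)) < 24 := gIdx_lt _
    have h1 : a.σ (gUnidx (gIdx (a.σ⁻¹ (gUnidx j)))) =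
        gUnidx (tg a.t (gIdx (a.σ⁻¹ (gUnidx j)))) := a.tab _ hi
    rw [gUnidx_gIdx, show a.σ (a.σ⁻¹ (gUnidx j)) = gUnidx j from by simp] at h1
    have h2 : j = tg a.t (gIdx (a.σ⁻¹ (gUnidx j))) := gUnidx_inj hj (a.lt _ hi) h1
    have h3 : tg t j = gIdx (a.σ⁻¹ (gUnidx j)) := by
      conv_lhs => rw [h2]
      exact (h _ hi).2
    rw [h3, ← h2]

/-- the same element in another subgroup -/
def cast {H' : Subgroup P24} (a : El H) (h : a.σ ∈ H') : El H' where
  σ := a.σ
  t := a.t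
  mem := h
  lt := a.lt
  tab := a.tab

theorem apply_idx (a : El H) (p : GolayPt) : gIdx (a.σ p) = tg a.t (gIdx p) := by
  have h := a.tab (gIdx p) (gIdx_lt p)
  rw [gUnidx_gIdx] at h
  rw [h, gIdx_gUnidx _ (a.lt _ (gIdx_lt p))]

end El

/-- `q` is the image of `b` under an element of `H` fixing the points of `fx` -/
def Reach (H : Subgroup P24) (fx : List ℕ) (b q : ℕ) : Prop :=
  ∃ σ ∈ H, (∀ j ∈ fx, σ (gUnidx j) = gUnidx j) ∧ σ (gUnidx b) = gUnidx q

theorem Reach.refl (H : Subgroup P24) (fx : List ℕ) (b : ℕ) : Reach H fx b b :=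
  ⟨1, H.one_mem, fun _ _ => rfl, rfl⟩

theorem Reach.step {H : Subgroup P24} {fx : List ℕ} {b q : ℕ} (e : El H)
    (he : ∀ j ∈ fx, j < 24 ∧ tg e.t j = j) (hq : q < 24)
    (h : Reach H fx b q) : Reach H fx b (tg e.t q) := by
  obtain ⟨σ, hσ, hfix, hb⟩ := h
  refine ⟨e.σ * σ, H.mul_mem e.mem hσ, ?_, ?_⟩
  · intro j hj
    rw [Equiv.Perm.mul_apply, hfix j hj, e.tab j (he j hj).1, (he j hj).2]
  · rw [Equiv.Perm.mul_apply, hb, e.tab q hq]

theorem Reach.mono {H H' : Subgroup P24} (hH : H ≤ H') {fx : List ℕ} {b q : ℕ}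
    (h : Reach H fx b q) : Reach H' fx b q := by
  obtain ⟨σ, hσ, h1, h2⟩ := h
  exact ⟨σ, hH hσ, h1, h2⟩

/-- one round of orbit closure -/
def rnd (gs : List (List ℕ)) (l : List ℕ) : List ℕ :=
  (l ++ gs.flatMap (fun t => l.map (tg t))).dedup

/-- several rounds -/
def rnds (gs : List (List ℕ)) : ℕ → List ℕ → List ℕ
  | 0, l => l
  | n + 1, l => rnds gs n (rnd gs l)

theorem reach_rnd {H : Subgroup P24} {fx : List ℕ} {b : ℕ} (gs : List (El H))
    (hgs : ∀ e ∈ gs, ∀ j ∈ fx, j < 24 ∧ tg e.t j = j) (l : List ℕ)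
    (hl : ∀ q ∈ l, q < 24 ∧ Reach H fx b q) :
    ∀ q ∈ rnd (gs.map El.t) l, q < 24 ∧ Reach H fx b q := by
  intro q hq
  unfold rnd at hq
  rw [List.mem_dedup, List.mem_append] at hq
  rcases hq with hq | hq
  · exact hl q hq
  · rw [List.mem_flatMap] at hq
    obtain ⟨t, ht, hq⟩ := hq
    rw [List.mem_map] at ht hq
    obtain ⟨e, he, rfl⟩ := ht
    obtain ⟨q', hq', rfl⟩ := hq
    exact ⟨e.lt _ (hl q' hq').1, Reach.step e (hgs e he) (hl q' hq').1 (hl q' hq').2⟩

theorem reach_rnds {H : Subgroup P24} {fx : List ℕ} {b : ℕ} (gs : List (El H))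
    (hgs : ∀ e ∈ gs, ∀ j ∈ fx, j < 24 ∧ tg e.t j = j) (n : ℕ) (l : List ℕ)
    (hl : ∀ q ∈ l, q < 24 ∧ Reach H fx b q) :
    ∀ q ∈ rnds (gs.map El.t) n l, q < 24 ∧ Reach H fx b q := by
  induction n generalizing l with
  | zero => exact hl
  | succ n ih =>
    intro q hq
    exact ih (rnd (gs.map El.t) l) (reach_rnd gs hgs l hl) q hq

/-- orbit closure starting from the base point -/
theorem reach_of_rnds {H : Subgroup P24} {fx : List ℕ} {b : ℕ} (hb : b < 24) (gs : List (El H))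
    (hgs : ∀ e ∈ gs, ∀ j ∈ fx, j < 24 ∧ tg e.t j = j) (n : ℕ) {q : ℕ}
    (hq : q ∈ rnds (gs.map El.t) n [b]) : Reach H fx b q := by
  refine (reach_rnds gs hgs n [b] ?_ q hq).2
  intro q hq
  rw [List.mem_singleton] at hq
  subst hq
  exact ⟨hb, Reach.refl H fx q⟩

/-! ### invariant masks -/

theorem smul_mem_octads {g : P24} (hg : g ∈ M24) {o : Finset GolayPt} (ho : o ∈ octads) :
    g • o ∈ octads := by
  have hg' : g • supports (golayCode : Set (GolayPt → ZMod 2)) =
      supports (golayCode : Set (GolayPt → ZMod 2)) := hg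
  refine ⟨?_, ?_⟩
  · rw [← hg']
    exact Set.smul_mem_smul_set ho.1
  · rw [Finset.card_smul_finset]
    exact ho.2

theorem smul_mem_dodecads {g : P24} (hg : g ∈ M24) {o : Finset GolayPt} (ho : o ∈ dodecads) :
    g • o ∈ dodecads := by
  have hg' : g • supports (golayCode : Set (GolayPt → ZMod 2)) =
      supports (golayCode : Set (GolayPt → ZMod 2)) := hg
  refine ⟨?_, ?_⟩
  · rw [← hg']
    exact Set.smul_mem_smul_set ho.1
  · rw [Finset.card_smul_finset]
    exact ho.2

/-- an octad five of whose points are fixed is fixed (as a set) -/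
theorem octad_fixed {g : P24} (hg : g ∈ M24) {o : Finset GolayPt} (ho : o ∈ octads)
    (s : Finset GolayPt) (hs : s ⊆ o) (h5 : 5 ≤ s.card) (hfix : ∀ p ∈ s, g p = p) :
    g • o = o := by
  obtain ⟨s', hs', hc⟩ := Finset.exists_subset_card_eq h5
  refine octads_unique (smul_mem_octads hg ho) ho hc ?_ (hs'.trans hs)
  intro p hp
  have h1 : g • p ∈ g • o := Finset.smul_mem_smul_finset (hs (hs' hp))
  rw [Equiv.Perm.smul_def, hfix p (hs' hp)] at h1
  exact h1

/-- the set with bit mask `m` is mapped to itself -/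
def InvMask (g : P24) (m : ℕ) : Prop :=
  ∀ p : GolayPt, m.testBit (gIdx (g p)) = m.testBit (gIdx p)

theorem mem_support₂_ofMask (m : ℕ) (p : GolayPt) :
    p ∈ support₂ (ofMask m) ↔ m.testBit (gIdx p) = true := by
  rw [support₂_ofMask]
  simp

theorem invMask_of_smul_eq {g : P24} {m : ℕ}
    (h : g • support₂ (ofMask m) = support₂ (ofMask m)) : InvMask g m := by
  intro p
  have h1 : g • p ∈ g • support₂ (ofMask m) ↔ p ∈ support₂ (ofMask m) :=
    Finset.smul_mem_smul_finset_iff g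
  rw [h, Equiv.Perm.smul_def, mem_support₂_ofMask, mem_support₂_ofMask] at h1
  cases h2 : m.testBit (gIdx p)
  · cases h3 : m.testBit (gIdx (g p))
    · rfl
    · rw [h1] at h3; rw [h3] at h2; exact h2
  · exact h1.mpr h2

theorem smul_eq_of_invMask {g : P24} {m : ℕ} (h : InvMask g m) :
    g • support₂ (ofMask m) = support₂ (ofMask m) := by
  apply Finset.eq_of_subset_of_card_le
  · intro p hp
    rw [Finset.mem_smul_finset] at hp
    obtain ⟨q, hq, rfl⟩ := hp
    rw [mem_support₂_ofMask] at hq ⊢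
    rw [Equiv.Perm.smul_def, h q]
    exact hq
  · rw [Finset.card_smul_finset]

theorem octad_of_idx {c : ℕ} (hc : c < 4096) (h8 : popcN 24 (cw c) = 8) :
    support₂ (ofMask (cw c)) ∈ octads := by
  rw [mem_octads_iff]
  refine ⟨ofMask (cw c), (mem_golayCode_iff _).mpr ⟨c, hc, rfl⟩, rfl, ?_⟩
  rw [card_support₂_ofMask, h8]

theorem dodecad_of_idx {c : ℕ} (hc : c < 4096) (h12 : popcN 24 (cw c) = 12) :
    support₂ (ofMask (cw c)) ∈ dodecads := by
  refine ⟨⟨ofMask (cw c), (mem_golayCode_iff _).mpr ⟨c, hc, rfl⟩, rfl⟩, ?_⟩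
  rw [card_support₂_ofMask, h12]

/-- an octad at least five of whose points are in the fixed list is invariant -/
theorem invMask_octad {g : P24} (hg : g ∈ M24) (fx : List ℕ) (hnd : fx.Nodup)
    (hfix : ∀ j ∈ fx, j < 24 ∧ g (gUnidx j) = gUnidx j) (c : ℕ) (hc : c < 4096)
    (h8 : popcN 24 (cw c) = 8)
    (h5 : 5 ≤ (fx.filter (fun j => (cw c).testBit j)).length) : InvMask g (cw c) := by
  apply invMask_of_smul_eq
  have hnd2 : ((fx.filter (fun j => (cw c).testBit j)).map gUnidx).Nodup := by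
    apply List.Nodup.map_on _ (hnd.filter _)
    intro x hx y hy hxy
    rw [List.mem_filter] at hx hy
    exact gUnidx_inj (hfix x hx.1).1 (hfix y hy.1).1 hxy
  refine octad_fixed hg (octad_of_idx hc h8)
    ((fx.filter (fun j => (cw c).testBit j)).map gUnidx).toFinset ?_ ?_ ?_
  · intro p hp
    rw [List.mem_toFinset, List.mem_map] at hp
    obtain ⟨j, hj, rfl⟩ := hp
    rw [List.mem_filter] at hj
    rw [mem_support₂_ofMask, gIdx_gUnidx j (hfix j hj.1).1]
    exact hj.2
  · rw [List.toFinset_card_of_nodup hnd2, List.length_map]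
    exact h5
  · intro p hp
    rw [List.mem_toFinset, List.mem_map] at hp
    obtain ⟨j, hj, rfl⟩ := hp
    rw [List.mem_filter] at hj
    exact (hfix j hj.1).2

/-- a point separated from all others by invariant masks is fixed -/
theorem fixed_of_sep {g : P24} (ms : List ℕ) (hms : ∀ m ∈ ms, InvMask g m) (i : ℕ) (hi : i < 24)
    (hsep : ∀ q < 24, q ≠ i → ∃ m ∈ ms, m.testBit q ≠ m.testBit i) :
    g (gUnidx i) = gUnidx i := by
  by_contra hne
  have hq : gIdx (g (gUnidx i)) < 24 := gIdx_lt _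
  have hqi : gIdx (g (gUnidx i)) ≠ i := by
    intro h
    apply hne
    have h2 := gUnidx_gIdx (g (gUnidx i))
    rw [h] at h2
    exact h2.symm
  obtain ⟨m, hm, hmne⟩ := hsep _ hq hqi
  apply hmne
  rw [hms m hm (gUnidx i), gIdx_gUnidx i hi]

theorem eq_one_of_fixes {g : P24} (h : ∀ i < 24, g (gUnidx i) = gUnidx i) : g = 1 := by
  ext p
  have := h (gIdx p) (gIdx_lt p)
  rw [gUnidx_gIdx] at this
  rw [this]
  rfl

/-- boolean form of the octad condition -/
def octOK (fx cs : List ℕ) : Bool :=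
  cs.all (fun c => decide (c < 4096) && (popcN 24 (cw c) == 8) &&
    decide (5 ≤ (fx.filter (fun j => (cw c).testBit j)).length))

/-- boolean form of separation -/
def sepOK (ms : List ℕ) (i : ℕ) : Bool :=
  (List.range 24).all (fun q => (q == i) || ms.any (fun m => m.testBit q != m.testBit i))

theorem invMask_of_octOK {g : P24} (hg : g ∈ M24) (fx : List ℕ) (hnd : fx.Nodup)
    (hfix : ∀ j ∈ fx, j < 24 ∧ g (gUnidx j) = gUnidx j) (cs : List ℕ)
    (hok : octOK fx cs = true) : ∀ m ∈ cs.map cw, InvMask g m := by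
  intro m hm
  rw [List.mem_map] at hm
  obtain ⟨c, hc, rfl⟩ := hm
  unfold octOK at hok
  rw [List.all_eq_true] at hok
  have := hok c hc
  simp only [Bool.and_eq_true, decide_eq_true_eq, beq_iff_eq] at this
  exact invMask_octad hg fx hnd hfix c this.1.1 this.1.2 this.2

theorem fixed_of_sepOK {g : P24} (ms : List ℕ) (hms : ∀ m ∈ ms, InvMask g m) (i : ℕ)
    (hi : i < 24) (hsep : sepOK ms i = true) : g (gUnidx i) = gUnidx i := by
  apply fixed_of_sep ms hms i hi
  intro q hq hqi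
  unfold sepOK at hsep
  rw [List.all_eq_true] at hsep
  have := hsep q (List.mem_range.mpr hq)
  simp only [Bool.or_eq_true, beq_iff_eq, List.any_eq_true, bne_iff_ne] at this
  rcases this with h | h
  · exact absurd h hqi
  · exact h

/-- one round of the fixed-point closure -/
theorem fixed_round {g : P24} (ms : List ℕ) (hms : ∀ m ∈ ms, InvMask g m) (fx : List ℕ)
    (hfix : ∀ j ∈ fx, j < 24 ∧ g (gUnidx j) = gUnidx j) :
    ∀ j ∈ fx ++ (List.range 24).filter (fun i => sepOK ms i),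
      j < 24 ∧ g (gUnidx j) = gUnidx j := by
  intro j hj
  rw [List.mem_append] at hj
  rcases hj with hj | hj
  · exact hfix j hj
  · rw [List.mem_filter, List.mem_range] at hj
    exact ⟨hj.1, fixed_of_sepOK ms hms j hj.1 hj.2⟩

/-! ### counting -/

theorem card_eq_orbit_mul (H : Subgroup P24) (b : GolayPt) (O : Finset GolayPt)
    (hO : ∀ q, q ∈ O ↔ ∃ g ∈ H, g b = q) :
    Nat.card H = O.card * Nat.card ↥(H ⊓ MulAction.stabilizer P24 b) := by
  classical
  have h1 := MulAction.card_orbit_mul_card_stabilizer_eq_card_group (↥H) b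
  have h2 : Nat.card (MulAction.orbit (↥H) b) = O.card := by
    have : MulAction.orbit (↥H) b = (O : Set GolayPt) := by
      ext q
      rw [MulAction.mem_orbit_iff, Finset.mem_coe, hO]
      constructor
      · rintro ⟨g, hg⟩; exact ⟨g.1, g.2, hg⟩
      · rintro ⟨g, hg, hq⟩; exact ⟨⟨g, hg⟩, hq⟩
    rw [this, Nat.card_coe_set_eq, Set.ncard_coe_finset]
  have h3 : Nat.card (MulAction.stabilizer (↥H) b) =
      Nat.card ↥(H ⊓ MulAction.stabilizer P24 b) := by
    apply Nat.card_congr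
    refine ⟨fun g => ⟨g.1.1, g.1.2, g.2⟩, fun g => ⟨⟨g.1, g.2.1⟩, g.2.2⟩, ?_, ?_⟩
    · intro g; rfl
    · intro g; rfl
  rw [← h2, ← h3, Nat.card_eq_fintype_card, Nat.card_eq_fintype_card, Nat.card_eq_fintype_card, h1]

end Cfsg.Agent.Lib.Helper1.M24
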