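import Mathlib
import Cfsg.Prelude.Def_Sporadic_a
import Cfsg.Agent.Lib.Helper1.Golay3

set_option autoImplicit false

namespace Cfsg.Agent.Lib.Helper1

open Cfsg
open scoped Pointwise

section GolayAut

theorem smul_support₂ (σ : Equiv.Perm GolayPt) (w : GolayPt → ZMod 2) :
    σ • support₂ w = support₂ (fun p => w (σ.symm p)) := by
  ext p
  rw [Finset.mem_smul_finset]
  simp only [support₂, Finset.mem_filter, Finset.mem_univ, true_and]
  constructor
  · rintro ⟨q, hq, rfl⟩
    rw [Equiv.Perm.smul_def, Equiv.symm_apply_apply]; exact hq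
  · intro h
    exact ⟨σ.symm p, h, by rw [Equiv.Perm.smul_def, Equiv.apply_symm_apply]⟩

/-- A permutation whose coordinate action preserves the code lies in its group. -/
theorem mem_M24_of_preserves (σ : Equiv.Perm GolayPt)
    (h : ∀ w ∈ golayCode, (fun p => w (σ.symm p)) ∈ golayCode) : σ ∈ M24 := by
  show σ ∈ MulAction.stabilizer (Equiv.Perm GolayPt)
    (supports (golayCode : Set (GolayPt → ZMod 2)))
  rw [MulAction.mem_stabilizer_set' (Set.toFinite _)]
  rintro _ ⟨w, hw, rfl⟩
  rw [smul_support₂]
  exact ⟨_, h w hw, rfl⟩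

/-- It suffices to check a spanning set. -/
theorem preserves_of_span (σ : Equiv.Perm GolayPt) (S : Set (GolayPt → ZMod 2))
    (hS : golayCode = Submodule.span (ZMod 2) S)
    (h : ∀ g ∈ S, (fun p => g (σ.symm p)) ∈ golayCode) :
    ∀ w ∈ golayCode, (fun p => w (σ.symm p)) ∈ golayCode := by
  intro w hw
  rw [hS] at hw
  induction hw using Submodule.span_induction with
  | mem x hx => exact h x hx
  | zero => exact golayCode.zero_mem
  | add x y _ _ hx hy => exact golayCode.add_mem hx hy
  | smul a x _ hx => exact golayCode.smul_mem a hx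

/-- Computational criterion via the echelon basis. -/
theorem mem_M24_of_table (σ : Equiv.Perm GolayPt) (cTab : ℕ → ℕ)
    (hlt : ∀ i < 12, cTab i < 4096)
    (h : ∀ i < 12, ∀ p : GolayPt, ofMask (cw (cTab i)) (σ p) = ofMask (bTab i) p) : σ ∈ M24 := by
  apply mem_M24_of_preserves
  apply preserves_of_span σ _ golayCode_eq_span
  rintro _ ⟨i, hi, rfl⟩
  rw [mem_golayCode_iff]
  refine ⟨cTab i, hlt i hi, ?_⟩
  funext q
  have := h i hi (σ.symm q)
  rw [Equiv.apply_symm_apply] at this
  exact this.symm

end GolayAut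

end Cfsg.Agent.Lib.Helper1
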