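import Mathlib
import Cfsg.Agent.Lib.Helper1.M24A
import Cfsg.Agent.S0370
import Cfsg.Agent.S0372
import Cfsg.Agent.S0373

set_option autoImplicit false

namespace Cfsg.Agent.Lib.Helper1.M24

open Cfsg Cfsg.Agent.Lib.Helper1

noncomputable section

/-- the shift `x ↦ x + 1` -/
def gA : P24 := Equiv.optionCongr (Equiv.addRight (1 : ZMod 23))

/-- the subgroup generated by the three standard permutations -/
def K : Subgroup P24 := Subgroup.closure {gA, Cfsg.projInv, Cfsg.cubeTwist}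

theorem K_le : K ≤ M24 := by
  unfold K
  rw [Subgroup.closure_le]
  intro g hg
  rcases hg with rfl | rfl | rfl
  · exact Cfsg.Agent.S0370.result
  · exact Cfsg.Agent.S0372.result
  · exact Cfsg.Agent.S0373.result

theorem gA_mem : gA ∈ K := Subgroup.subset_closure (by simp)
theorem gB_mem : Cfsg.projInv ∈ K := Subgroup.subset_closure (by simp)
theorem gC_mem : Cfsg.cubeTwist ∈ K := Subgroup.subset_closure (by simp)

theorem cubeTwist_apply (p : GolayPt) : Cfsg.cubeTwist p = Cfsg.cubeTwistFun p := rfl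

def n0 : El K := ⟨gA, [1, 2, 3, 4, 5, 6, 7, 8, 9, 10, 11, 12, 13, 14, 15, 16, 17, 18, 19, 20, 21, 22, 0, 23], gA_mem, by decide, by decide⟩
def n1 : El K := ⟨Cfsg.projInv, [23, 22, 11, 15, 17, 9, 19, 13, 20, 5, 16, 2, 21, 7, 18, 3, 10, 4, 14, 6, 8, 12, 1, 0], gB_mem, by decide, by decide⟩
def n2 : El K := ⟨Cfsg.cubeTwist, [0, 18, 6, 3, 2, 21, 1, 5, 16, 12, 7, 19, 8, 9, 17, 15, 13, 11, 4, 22, 10, 20, 14, 23], gC_mem, by decide, by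
  simp only [cubeTwist_apply]; decide⟩
def n4 : El K := El.mul n2 n1 [23, 14, 19, 15, 11, 12, 22, 9, 10, 21, 13, 6, 20, 5, 4, 3, 7, 2, 17, 1, 16, 8, 18, 0] (by decide +kernel)
def n5 : El K := El.mul n1 n0 [22, 11, 15, 17, 9, 19, 13, 20, 5, 16, 2, 21, 7, 18, 3, 10, 4, 14, 6, 8, 12, 1, 23, 0] (by decide +kernel)
def n6 : El K := El.mul n0 n0 [2, 3, 4, 5, 6, 7, 8, 9, 10, 11, 12, 13, 14, 15, 16, 17, 18, 19, 20, 21, 22, 0, 1, 23] (by decide +kernel)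
def n7 : El K := El.mul n0 n6 [3, 4, 5, 6, 7, 8, 9, 10, 11, 12, 13, 14, 15, 16, 17, 18, 19, 20, 21, 22, 0, 1, 2, 23] (by decide +kernel)
def n8 : El K := El.mul n7 n5 [2, 14, 18, 20, 12, 22, 16, 0, 8, 19, 5, 1, 10, 21, 6, 13, 7, 17, 9, 11, 15, 4, 23, 3] (by decide +kernel)
def n9 : El K := El.mul n8 n0 [14, 18, 20, 12, 22, 16, 0, 8, 19, 5, 1, 10, 21, 6, 13, 7, 17, 9, 11, 15, 4, 23, 2, 3] (by decide +kernel)
def n10 : El K := El.mul n9 n2 [14, 11, 0, 12, 20, 23, 18, 16, 17, 21, 8, 15, 19, 5, 9, 7, 6, 10, 22, 2, 1, 4, 13, 3] (by decide +kernel)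
def n11 : El K := El.mul n5 n6 [15, 17, 9, 19, 13, 20, 5, 16, 2, 21, 7, 18, 3, 10, 4, 14, 6, 8, 12, 1, 23, 22, 11, 0] (by decide +kernel)
def n12 : El K := El.mul n9 n10 [13, 10, 14, 21, 4, 3, 11, 17, 9, 23, 19, 7, 15, 16, 5, 8, 0, 1, 2, 20, 18, 22, 6, 12] (by decide +kernel)
def n13 : El K := El.mul n0 n5 [0, 12, 16, 18, 10, 20, 14, 21, 6, 17, 3, 22, 8, 19, 4, 11, 5, 15, 7, 9, 13, 2, 23, 1] (by decide +kernel)
def n14 : El K := El.mul n5 n2 [22, 6, 13, 17, 15, 1, 11, 19, 4, 7, 20, 8, 5, 16, 14, 10, 18, 21, 9, 23, 2, 12, 3, 0] (by decide +kernel)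
def n15 : El K := El.mul n1 n13 [23, 21, 10, 14, 16, 8, 18, 12, 19, 4, 15, 1, 20, 6, 17, 2, 9, 3, 13, 5, 7, 11, 0, 22] (by decide +kernel)
def n16 : El K := El.mul n10 n11 [7, 10, 21, 2, 5, 1, 23, 6, 0, 4, 16, 22, 12, 8, 20, 9, 18, 17, 19, 11, 3, 13, 15, 14] (by decide +kernel)
def n17 : El K := El.mul n16 n10 [20, 22, 7, 12, 3, 14, 19, 18, 17, 13, 0, 9, 11, 1, 4, 6, 23, 16, 15, 21, 10, 5, 8, 2] (by decide +kernel)
def n18 : El K := El.mul n5 n4 [0, 3, 8, 10, 21, 7, 23, 16, 2, 1, 18, 13, 12, 19, 9, 17, 20, 15, 14, 11, 4, 5, 6, 22] (by decide +kernel)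
def n19 : El K := El.mul n15 n17 [7, 0, 12, 20, 14, 17, 5, 13, 3, 6, 23, 4, 1, 21, 16, 18, 22, 9, 2, 11, 15, 8, 19, 10] (by decide +kernel)
def n20 : El K := El.mul n12 n19 [17, 13, 15, 18, 5, 1, 3, 16, 21, 11, 12, 4, 10, 22, 0, 2, 6, 23, 14, 7, 8, 9, 20, 19] (by decide +kernel)
def n21 : El K := El.mul n0 n16 [8, 11, 22, 3, 6, 2, 23, 7, 1, 5, 17, 0, 13, 9, 21, 10, 19, 18, 20, 12, 4, 14, 16, 15] (by decide +kernel)
def n22 : El K := El.mul n17 n14 [8, 19, 1, 16, 6, 22, 9, 21, 3, 18, 10, 17, 14, 23, 4, 0, 15, 5, 13, 2, 7, 11, 12, 20] (by decide +kernel)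
def n23 : El K := El.mul n22 n2 [8, 13, 9, 16, 1, 11, 19, 22, 15, 14, 21, 2, 3, 18, 5, 0, 23, 17, 6, 12, 10, 7, 4, 20] (by decide +kernel)
def n24 : El K := El.mul n2 n17 [10, 14, 5, 8, 3, 17, 22, 4, 11, 9, 0, 12, 19, 18, 2, 1, 23, 13, 15, 20, 7, 21, 16, 6] (by decide +kernel)
def n25 : El K := El.mul n24 n21 [11, 12, 16, 8, 22, 5, 6, 4, 14, 17, 13, 10, 18, 9, 21, 0, 20, 15, 7, 19, 3, 2, 23, 1] (by decide +kernel)
def n26 : El K := El.mul n20 n19 [16, 17, 10, 8, 0, 23, 1, 22, 18, 3, 19, 5, 13, 9, 6, 14, 20, 11, 15, 4, 2, 21, 7, 12] (by decide +kernel)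
def n27 : El K := El.mul n21 n0 [11, 22, 3, 6, 2, 23, 7, 1, 5, 17, 0, 13, 9, 21, 10, 19, 18, 20, 12, 4, 14, 16, 8, 15] (by decide +kernel)
def n28 : El K := El.mul n4 n25 [6, 20, 7, 10, 18, 12, 22, 11, 4, 2, 5, 13, 17, 21, 8, 23, 16, 3, 9, 1, 15, 19, 0, 14] (by decide +kernel)
def n29 : El K := El.mul n18 n26 [20, 15, 18, 2, 0, 22, 3, 6, 14, 10, 11, 7, 19, 1, 23, 9, 4, 13, 17, 21, 8, 5, 16, 12] (by decide +kernel)
def n30 : El K := El.mul n25 n18 [11, 8, 14, 13, 2, 4, 1, 20, 16, 12, 7, 9, 18, 19, 17, 15, 3, 0, 21, 10, 22, 5, 6, 23] (by decide +kernel)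
def n31 : El K := El.mul n23 n27 [2, 4, 16, 19, 9, 20, 22, 13, 11, 17, 8, 18, 14, 7, 21, 12, 6, 10, 3, 1, 5, 23, 15, 0] (by decide +kernel)
def n32 : El K := El.mul n30 n4 [23, 17, 10, 15, 9, 18, 6, 12, 7, 5, 19, 1, 22, 4, 2, 13, 20, 14, 0, 8, 3, 16, 21, 11] (by decide +kernel)
def n33 : El K := El.mul n21 n29 [4, 10, 20, 22, 8, 16, 3, 23, 21, 17, 0, 7, 12, 11, 15, 5, 6, 9, 18, 14, 1, 2, 19, 13] (by decide +kernel)
def n34 : El K := El.mul n28 n30 [13, 4, 8, 21, 7, 18, 20, 15, 16, 17, 11, 2, 9, 1, 3, 23, 10, 6, 19, 5, 0, 12, 22, 14] (by decide +kernel)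
def n35 : El K := El.mul n34 n18 [13, 21, 16, 11, 12, 15, 14, 10, 8, 4, 19, 1, 9, 5, 17, 6, 0, 23, 3, 2, 7, 18, 20, 22] (by decide +kernel)
def n36 : El K := El.mul n19 n33 [14, 23, 15, 19, 3, 22, 20, 10, 8, 9, 7, 13, 1, 4, 18, 17, 5, 6, 2, 16, 0, 12, 11, 21] (by decide +kernel)
def n37 : El K := El.mul n27 n35 [21, 16, 18, 13, 9, 19, 10, 0, 5, 2, 4, 22, 17, 23, 20, 7, 11, 15, 6, 3, 1, 12, 14, 8] (by decide +kernel)
def n38 : El K := El.mul n35 n21 [8, 1, 20, 11, 14, 16, 22, 10, 21, 15, 23, 13, 5, 4, 18, 19, 2, 3, 7, 9, 12, 17, 0, 6] (by decide +kernel)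
def n39 : El K := El.mul n31 n21 [11, 18, 15, 19, 22, 16, 0, 13, 4, 20, 10, 2, 7, 17, 23, 8, 1, 3, 5, 14, 9, 21, 6, 12] (by decide +kernel)
def n40 : El K := El.mul n37 n38 [5, 16, 1, 22, 20, 11, 14, 4, 12, 7, 8, 23, 19, 9, 6, 3, 18, 13, 0, 2, 17, 15, 21, 10] (by decide +kernel)
def n41 : El K := El.mul n37 n39 [22, 6, 7, 3, 14, 11, 21, 23, 9, 1, 4, 18, 0, 15, 8, 5, 16, 13, 19, 20, 2, 12, 10, 17] (by decide +kernel)
def n42 : El K := El.mul n18 n36 [9, 22, 17, 11, 10, 6, 4, 18, 2, 1, 16, 19, 3, 21, 14, 15, 7, 23, 8, 20, 0, 12, 13, 5] (by decide +kernel)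
def n43 : El K := El.mul n28 n40 [12, 16, 20, 0, 15, 13, 8, 18, 17, 11, 4, 14, 1, 2, 22, 10, 9, 21, 6, 7, 3, 23, 19, 5] (by decide +kernel)
def n44 : El K := El.mul n43 n32 [5, 21, 4, 10, 11, 6, 8, 1, 18, 13, 7, 16, 19, 15, 20, 2, 3, 22, 12, 17, 0, 9, 23, 14] (by decide +kernel)
def n45 : El K := El.mul n41 n2 [22, 19, 21, 3, 7, 12, 6, 11, 16, 0, 23, 20, 9, 1, 13, 5, 15, 18, 14, 10, 4, 2, 8, 17] (by decide +kernel)
def n46 : El K := El.mul n42 n19 [18, 9, 3, 0, 14, 23, 6, 21, 11, 4, 5, 10, 22, 12, 7, 8, 13, 1, 17, 19, 15, 2, 20, 16] (by decide +kernel)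
def n47 : El K := El.mul n32 n18 [23, 15, 7, 19, 16, 12, 11, 20, 10, 17, 0, 4, 22, 8, 5, 14, 3, 13, 2, 1, 9, 18, 6, 21] (by decide +kernel)
def n48 : El K := El.mul n41 n28 [21, 2, 23, 4, 19, 0, 10, 18, 14, 7, 11, 15, 13, 12, 9, 17, 16, 3, 1, 6, 5, 20, 22, 8] (by decide +kernel)
def n49 : El K := El.mul n45 n28 [6, 4, 11, 23, 14, 9, 8, 20, 7, 21, 12, 1, 18, 2, 16, 17, 15, 3, 0, 19, 5, 10, 22, 13] (by decide +kernel)
def n50 : El K := El.mul n28 n44 [12, 19, 18, 5, 13, 22, 4, 20, 9, 21, 11, 16, 1, 23, 15, 7, 10, 0, 17, 3, 6, 2, 14, 8] (by decide +kernel)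
def n51 : El K := El.mul n46 n47 [16, 8, 21, 19, 13, 22, 10, 15, 5, 1, 18, 14, 20, 11, 23, 7, 0, 12, 3, 9, 4, 17, 6, 2] (by decide +kernel)
def n52 : El K := El.mul n46 n48 [2, 3, 16, 14, 19, 18, 5, 17, 7, 21, 10, 8, 12, 22, 4, 1, 13, 0, 9, 6, 23, 15, 20, 11] (by decide +kernel)
def n53 : El K := El.mul n51 n21 [5, 14, 6, 19, 10, 21, 2, 15, 8, 22, 12, 16, 11, 1, 17, 18, 9, 3, 4, 20, 13, 23, 0, 7] (by decide +kernel)
def n54 : El K := El.mul n18 n53 [7, 9, 23, 11, 18, 5, 8, 17, 2, 6, 12, 20, 13, 3, 15, 14, 1, 10, 21, 4, 19, 22, 0, 16] (by decide +kernel)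
def n55 : El K := El.mul n54 n50 [13, 4, 21, 5, 3, 0, 18, 19, 6, 22, 20, 1, 9, 16, 14, 17, 12, 7, 10, 11, 8, 23, 15, 2] (by decide +kernel)
def n56 : El K := El.mul n21 n42 [5, 16, 18, 0, 17, 23, 6, 20, 22, 11, 19, 12, 3, 14, 21, 10, 7, 15, 1, 4, 8, 13, 9, 2] (by decide +kernel)
def n57 : El K := El.mul n56 n28 [6, 8, 20, 19, 1, 3, 9, 12, 17, 18, 23, 14, 15, 13, 22, 2, 7, 0, 11, 16, 10, 4, 5, 21] (by decide +kernel)
def n58 : El K := El.mul n52 n28 [5, 23, 17, 10, 9, 12, 20, 8, 19, 16, 18, 22, 0, 15, 7, 11, 13, 14, 21, 3, 1, 6, 2, 4] (by decide +kernel)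
def n59 : El K := El.mul n55 n57 [18, 6, 8, 11, 4, 5, 22, 9, 7, 10, 2, 14, 17, 16, 15, 21, 19, 13, 1, 12, 20, 3, 0, 23] (by decide +kernel)
def n60 : El K := El.mul n55 n52 [21, 5, 12, 14, 11, 10, 0, 7, 19, 23, 20, 6, 9, 15, 3, 4, 16, 13, 22, 18, 2, 17, 8, 1] (by decide +kernel)
def n61 : El K := El.mul n59 n42 [10, 0, 13, 14, 2, 22, 4, 1, 8, 6, 19, 12, 11, 3, 15, 21, 9, 23, 7, 20, 18, 17, 16, 5] (by decide +kernel)
def n62 : El K := El.mul n39 n59 [5, 0, 4, 2, 22, 16, 6, 20, 13, 10, 15, 23, 3, 1, 8, 21, 14, 17, 18, 7, 9, 19, 11, 12] (by decide +kernel)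
def n63 : El K := El.mul n58 n53 [12, 7, 20, 3, 18, 6, 17, 11, 19, 2, 0, 13, 22, 23, 14, 21, 16, 10, 9, 1, 15, 4, 5, 8] (by decide +kernel)
def n64 : El K := El.mul n61 n63 [11, 1, 18, 14, 7, 4, 23, 12, 20, 13, 10, 3, 16, 5, 15, 17, 9, 19, 6, 0, 21, 2, 22, 8] (by decide +kernel)
def n65 : El K := El.mul n63 n49 [17, 18, 13, 8, 14, 2, 19, 15, 11, 4, 22, 7, 9, 20, 16, 10, 21, 3, 12, 1, 6, 0, 5, 23] (by decide +kernel)
def n66 : El K := El.mul n63 n58 [6, 8, 10, 0, 2, 22, 15, 19, 1, 16, 9, 5, 12, 21, 11, 13, 23, 14, 4, 3, 7, 17, 20, 18] (by decide +kernel)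
def n67 : El K := El.mul n66 n58 [22, 18, 14, 9, 16, 12, 7, 1, 3, 23, 4, 20, 6, 13, 19, 5, 21, 11, 17, 0, 8, 15, 10, 2] (by decide +kernel)
def n68 : El K := El.mul n54 n64 [20, 9, 21, 15, 17, 18, 16, 13, 19, 3, 12, 11, 1, 5, 14, 10, 6, 4, 8, 7, 22, 23, 0, 2] (by decide +kernel)
def n69 : El K := El.mul n48 n52 [23, 4, 16, 9, 6, 1, 0, 3, 18, 20, 11, 14, 13, 22, 19, 2, 12, 21, 7, 10, 8, 17, 5, 15] (by decide +kernel)
def n70 : El K := El.mul n69 n60 [17, 1, 13, 19, 14, 11, 23, 3, 10, 15, 8, 0, 20, 2, 9, 6, 12, 22, 5, 7, 16, 21, 18, 4] (by decide +kernel)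
def n71 : El K := El.mul n54 n62 [5, 7, 18, 23, 0, 1, 8, 19, 3, 12, 14, 16, 11, 9, 2, 22, 15, 10, 21, 17, 6, 4, 20, 13] (by decide +kernel)
def n72 : El K := El.mul n59 n70 [13, 6, 16, 12, 15, 14, 23, 11, 2, 21, 7, 18, 20, 8, 10, 22, 17, 0, 5, 9, 19, 3, 1, 4] (by decide +kernel)
def n73 : El K := El.mul n65 n52 [13, 8, 21, 16, 1, 12, 2, 3, 15, 0, 22, 11, 9, 5, 14, 18, 20, 17, 4, 19, 23, 10, 6, 7] (by decide +kernel)
def n74 : El K := El.mul n67 n59 [17, 7, 3, 20, 16, 12, 10, 23, 1, 4, 14, 19, 11, 21, 5, 15, 0, 13, 18, 6, 8, 9, 22, 2] (by decide +kernel)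
def n75 : El K := El.mul n62 n68 [9, 10, 19, 21, 17, 18, 14, 1, 7, 2, 3, 23, 0, 16, 8, 15, 6, 22, 13, 20, 11, 12, 5, 4] (by decide +kernel)
def n76 : El K := El.mul n74 n67 [22, 18, 5, 4, 0, 11, 23, 7, 20, 2, 16, 8, 10, 21, 6, 12, 9, 19, 13, 17, 1, 15, 14, 3] (by decide +kernel)
def n77 : El K := El.mul n62 n71 [16, 20, 18, 12, 5, 0, 13, 7, 2, 3, 8, 14, 23, 10, 4, 11, 21, 15, 19, 17, 6, 22, 9, 1] (by decide +kernel)
def n78 : El K := El.mul n72 n58 [14, 4, 0, 7, 21, 20, 19, 2, 9, 17, 5, 1, 13, 22, 11, 18, 8, 10, 3, 12, 6, 23, 16, 15] (by decide +kernel)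
def n79 : El K := El.mul n67 n77 [21, 8, 17, 6, 12, 22, 13, 1, 14, 9, 3, 19, 2, 4, 16, 20, 15, 5, 0, 11, 7, 10, 23, 18] (by decide +kernel)
def n80 : El K := El.mul n76 n60 [15, 11, 10, 6, 8, 16, 22, 7, 17, 3, 1, 23, 2, 12, 4, 0, 9, 21, 14, 13, 5, 19, 20, 18] (by decide +kernel)
def n81 : El K := El.mul n73 n60 [10, 12, 9, 14, 11, 22, 13, 3, 19, 7, 23, 2, 0, 18, 16, 1, 20, 5, 6, 4, 21, 17, 15, 8] (by decide +kernel)
def n82 : El K := El.mul n81 n79 [17, 19, 5, 13, 0, 15, 18, 12, 16, 7, 14, 4, 9, 11, 20, 21, 1, 22, 10, 2, 3, 23, 8, 6] (by decide +kernel)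
def n83 : El K := El.mul n75 n65 [22, 13, 16, 7, 8, 19, 20, 15, 23, 17, 5, 1, 2, 11, 6, 3, 12, 21, 0, 10, 14, 9, 18, 4] (by decide +kernel)
def n84 : El K := El.mul n58 n82 [14, 3, 12, 15, 5, 11, 21, 0, 13, 8, 7, 9, 16, 22, 1, 6, 23, 2, 18, 17, 10, 4, 19, 20] (by decide +kernel)
def n85 : El K := El.mul n82 n62 [15, 17, 0, 5, 8, 1, 18, 3, 11, 14, 21, 6, 13, 19, 16, 23, 20, 22, 10, 12, 7, 2, 4, 9] (by decide +kernel)
def n86 : El K := El.mul n85 n78 [16, 8, 15, 3, 2, 7, 12, 0, 14, 22, 1, 17, 19, 4, 6, 10, 11, 21, 5, 13, 18, 9, 20, 23] (by decide +kernel)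
def n87 : El K := El.mul n79 n67 [23, 0, 16, 9, 15, 2, 1, 8, 6, 18, 12, 7, 13, 4, 11, 22, 10, 19, 5, 21, 14, 20, 3, 17] (by decide +kernel)
def n88 : El K := El.mul n78 n73 [22, 9, 23, 8, 4, 13, 0, 7, 18, 14, 16, 1, 17, 20, 11, 3, 6, 10, 21, 12, 15, 5, 19, 2] (by decide +kernel)
def n89 : El K := El.mul n82 n65 [22, 10, 11, 16, 20, 5, 2, 21, 4, 0, 8, 12, 7, 3, 1, 14, 23, 13, 9, 19, 18, 17, 15, 6] (by decide +kernel)
def n90 : El K := El.mul n80 n65 [21, 14, 12, 17, 4, 10, 13, 0, 23, 8, 20, 7, 3, 5, 9, 1, 19, 6, 2, 11, 22, 15, 16, 18] (by decide +kernel)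
def n91 : El K := El.mul n84 n88 [19, 8, 20, 13, 5, 22, 14, 0, 18, 1, 23, 3, 2, 10, 9, 15, 21, 7, 4, 16, 6, 11, 17, 12] (by decide +kernel)
def n93 : El K := El.mul n79 n89 [23, 3, 19, 15, 7, 22, 17, 10, 12, 21, 14, 2, 1, 6, 8, 16, 18, 4, 9, 11, 0, 5, 20, 13] (by decide +kernel)
def n94 : El K := El.mul n86 n87 [23, 16, 11, 22, 10, 15, 8, 14, 12, 5, 19, 0, 4, 2, 17, 20, 1, 13, 7, 9, 6, 18, 3, 21] (by decide +kernel)
def n96 : El K := El.mul n73 n94 [7, 20, 11, 6, 22, 18, 15, 14, 9, 12, 19, 13, 1, 21, 17, 23, 8, 5, 3, 0, 2, 4, 16, 10] (by decide +kernel)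
def n97 : El K := El.mul n83 n94 [4, 12, 1, 18, 5, 3, 23, 6, 2, 19, 10, 22, 8, 16, 21, 14, 13, 11, 15, 17, 20, 0, 7, 9] (by decide +kernel)
def n98 : El K := El.mul n97 n65 [11, 15, 16, 2, 21, 1, 17, 14, 22, 5, 7, 6, 19, 20, 13, 10, 0, 18, 8, 12, 23, 4, 3, 9] (by decide +kernel)
def n99 : El K := El.mul n98 n79 [4, 22, 18, 17, 19, 3, 20, 15, 13, 5, 2, 12, 16, 21, 0, 23, 10, 1, 11, 6, 14, 7, 9, 8] (by decide +kernel)
def n101 : El K := El.mul n0 n1 [23, 0, 12, 16, 18, 10, 20, 14, 21, 6, 17, 3, 22, 8, 19, 4, 11, 5, 15, 7, 9, 13, 2, 1] (by decide +kernel)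
def n102 : El K := El.mul n0 n101 [23, 1, 13, 17, 19, 11, 21, 15, 22, 7, 18, 4, 0, 9, 20, 5, 12, 6, 16, 8, 10, 14, 3, 2] (by decide +kernel)
def n103 : El K := El.mul n1 n101 [0, 23, 21, 10, 14, 16, 8, 18, 12, 19, 4, 15, 1, 20, 6, 17, 2, 9, 3, 13, 5, 7, 11, 22] (by decide +kernel)
def n105 : El K := El.mul n0 n102 [23, 2, 14, 18, 20, 12, 22, 16, 0, 8, 19, 5, 1, 10, 21, 6, 13, 7, 17, 9, 11, 15, 4, 3] (by decide +kernel)
def n106 : El K := El.mul n1 n102 [0, 22, 7, 4, 6, 2, 12, 3, 1, 13, 14, 17, 23, 5, 8, 9, 21, 19, 10, 20, 16, 18, 15, 11] (by decide +kernel)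
def n112 : El K := El.mul n0 n106 [1, 0, 8, 5, 7, 3, 13, 4, 2, 14, 15, 18, 23, 6, 9, 10, 22, 20, 11, 21, 17, 19, 16, 12] (by decide +kernel)
def n123 : El K := El.mul n91 n96 [0, 6, 3, 14, 17, 4, 15, 9, 1, 2, 16, 10, 8, 11, 7, 12, 18, 22, 13, 19, 20, 5, 21, 23] (by decide +kernel)
def n135 : El K := El.mul n123 n123 [0, 15, 14, 7, 22, 17, 12, 2, 6, 3, 18, 16, 1, 10, 9, 8, 13, 21, 11, 19, 20, 4, 5, 23] (by decide +kernel)
def n136 : El K := El.mul n123 n135 [0, 12, 7, 9, 21, 22, 8, 3, 15, 14, 13, 18, 6, 16, 2, 1, 11, 5, 10, 19, 20, 17, 4, 23] (by decide +kernel)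
def n138 : El K := El.mul n91 n65 [7, 4, 10, 18, 9, 20, 16, 15, 3, 5, 17, 0, 1, 6, 21, 23, 11, 13, 2, 8, 14, 19, 22, 12] (by decide +kernel)
def n139 : El K := El.mul n112 n138 [4, 7, 15, 11, 14, 17, 22, 10, 5, 3, 20, 1, 0, 13, 19, 12, 18, 6, 8, 2, 9, 21, 16, 23] (by decide +kernel)
def n140 : El K := El.mul n139 n1 [23, 16, 1, 12, 6, 3, 2, 13, 9, 17, 18, 15, 21, 10, 8, 11, 20, 14, 19, 22, 5, 0, 7, 4] (by decide +kernel)
def n141 : El K := El.mul n139 n101 [23, 4, 0, 18, 8, 20, 9, 19, 21, 22, 6, 11, 16, 5, 2, 14, 1, 17, 12, 10, 3, 13, 15, 7] (by decide +kernel)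
def n144 : El K := El.mul n139 n140 [23, 18, 7, 0, 22, 11, 15, 13, 3, 6, 8, 12, 21, 20, 5, 1, 9, 19, 2, 16, 17, 4, 10, 14] (by decide +kernel)
def n149 : El K := El.mul n123 n141 [23, 17, 0, 13, 1, 20, 2, 19, 5, 21, 15, 10, 18, 4, 3, 7, 6, 22, 8, 16, 14, 11, 12, 9] (by decide +kernel)
def n150 : El K := El.mul n139 n139 [14, 10, 12, 1, 19, 6, 16, 20, 17, 11, 9, 7, 4, 13, 2, 0, 8, 22, 5, 15, 3, 21, 18, 23] (by decide +kernel)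
def n151 : El K := El.mul n123 n139 [17, 9, 12, 10, 7, 22, 21, 16, 4, 14, 20, 6, 0, 11, 19, 8, 13, 15, 1, 3, 2, 5, 18, 23] (by decide +kernel)
def n153 : El K := El.mul n123 n150 [7, 16, 8, 6, 19, 15, 18, 20, 22, 10, 2, 9, 17, 11, 3, 0, 1, 21, 4, 12, 14, 5, 13, 23] (by decide +kernel)
def n154 : El K := El.mul n139 n151 [6, 3, 0, 20, 10, 16, 21, 18, 14, 19, 9, 22, 4, 1, 2, 5, 13, 12, 7, 11, 15, 17, 8, 23] (by decide +kernel)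
def n159 : El K := El.mul n123 n154 [15, 14, 0, 20, 16, 18, 5, 13, 7, 19, 2, 21, 17, 6, 3, 4, 11, 8, 9, 10, 12, 22, 1, 23] (by decide +kernel)
def n164 : El K := El.mul n139 n159 [12, 19, 4, 9, 18, 8, 17, 13, 10, 2, 15, 21, 6, 22, 11, 14, 1, 5, 3, 20, 0, 16, 7, 23] (by decide +kernel)
def n168 : El K := El.mul n123 n164 [8, 19, 17, 2, 13, 1, 22, 11, 16, 3, 12, 5, 15, 21, 10, 7, 6, 4, 14, 20, 0, 18, 9, 23] (by decide +kernel)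
def n171 : El K := El.mul n93 n90 [5, 8, 1, 4, 7, 14, 6, 23, 13, 12, 0, 10, 15, 22, 21, 3, 11, 17, 19, 2, 20, 16, 18, 9] (by decide +kernel)
def n172 : El K := El.inv n149 [2, 4, 6, 14, 13, 8, 16, 15, 18, 23, 11, 21, 22, 3, 20, 10, 19, 1, 12, 7, 5, 9, 17, 0] (by decide +kernel)
def n173 : El K := El.mul n172 n171 [8, 18, 4, 13, 15, 20, 16, 0, 3, 22, 2, 11, 10, 17, 9, 14, 21, 1, 7, 6, 5, 19, 12, 23] (by decide +kernel)
def n174 : El K := El.inv n168 [20, 5, 3, 9, 17, 11, 16, 15, 0, 22, 14, 7, 10, 4, 18, 12, 8, 2, 21, 1, 19, 13, 6, 23] (by decide +kernel)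
def n175 : El K := El.mul n174 n173 [0, 21, 17, 4, 12, 19, 8, 20, 9, 6, 3, 7, 14, 2, 22, 18, 13, 5, 15, 16, 11, 1, 10, 23] (by decide +kernel)
def n176 : El K := El.mul n175 n101 [23, 0, 14, 13, 15, 3, 11, 22, 1, 8, 5, 4, 10, 9, 16, 12, 7, 19, 18, 20, 6, 2, 17, 21] (by decide +kernel)
def n177 : El K := El.mul n175 n140 [23, 13, 21, 14, 8, 4, 17, 2, 6, 5, 15, 18, 1, 3, 9, 7, 11, 22, 16, 10, 19, 0, 20, 12] (by decide +kernel)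
def n197 : El K := El.mul n175 n136 [0, 14, 20, 6, 1, 10, 9, 4, 18, 22, 2, 15, 8, 13, 17, 21, 7, 19, 3, 16, 11, 5, 12, 23] (by decide +kernel)
def n203 : El K := El.mul n175 n197 [0, 22, 11, 8, 21, 3, 6, 12, 15, 10, 17, 18, 9, 2, 5, 1, 20, 16, 4, 13, 7, 19, 14, 23] (by decide +kernel)
def n208 : El K := El.mul n94 n93 [21, 22, 9, 20, 14, 3, 13, 19, 4, 18, 17, 11, 16, 8, 12, 1, 7, 10, 5, 0, 23, 15, 6, 2] (by decide +kernel)
def n209 : El K := El.inv n102 [12, 1, 23, 22, 11, 15, 17, 9, 19, 13, 20, 5, 16, 2, 21, 7, 18, 3, 10, 4, 14, 6, 8, 0] (by decide +kernel)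
def n210 : El K := El.mul n209 n208 [6, 8, 13, 14, 21, 22, 2, 4, 11, 10, 3, 5, 18, 19, 16, 1, 9, 20, 15, 12, 0, 7, 17, 23] (by decide +kernel)
def n211 : El K := El.inv n154 [2, 13, 14, 1, 12, 15, 0, 18, 22, 10, 4, 19, 17, 16, 8, 20, 5, 21, 7, 9, 3, 6, 11, 23] (by decide +kernel)
def n212 : El K := El.mul n211 n210 [0, 22, 16, 8, 6, 11, 14, 12, 19, 4, 1, 15, 7, 9, 5, 13, 10, 3, 20, 17, 2, 18, 21, 23] (by decide +kernel)
def n213 : El K := El.inv n203 [0, 15, 13, 5, 18, 14, 6, 20, 3, 12, 9, 2, 7, 19, 22, 8, 17, 10, 11, 21, 16, 4, 1, 23] (by decide +kernel)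
def n214 : El K := El.mul n213 n212 [0, 1, 17, 3, 6, 2, 22, 7, 21, 18, 15, 8, 20, 12, 14, 19, 9, 5, 16, 10, 13, 11, 4, 23] (by decide +kernel)
def n215 : El K := El.mul n214 n139 [6, 7, 19, 8, 14, 5, 4, 15, 2, 3, 13, 1, 0, 12, 10, 20, 16, 22, 21, 17, 18, 11, 9, 23] (by decide +kernel)
def n217 : El K := El.mul n123 n215 [15, 9, 19, 1, 7, 4, 17, 12, 3, 14, 11, 6, 0, 8, 16, 20, 18, 21, 5, 22, 13, 10, 2, 23] (by decide +kernel)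
def n221 : El K := El.mul n175 n217 [18, 6, 16, 21, 20, 12, 5, 14, 4, 22, 7, 8, 0, 9, 13, 11, 15, 1, 19, 10, 2, 3, 17, 23] (by decide +kernel)
def n222 : El K := El.mul n214 n123 [0, 22, 3, 14, 5, 6, 19, 18, 1, 17, 9, 15, 21, 8, 7, 20, 16, 4, 12, 10, 13, 2, 11, 23] (by decide +kernel)
def n223 : El K := El.mul n214 n175 [0, 11, 5, 6, 20, 10, 21, 13, 18, 22, 3, 7, 14, 17, 4, 16, 12, 2, 19, 9, 8, 1, 15, 23] (by decide +kernel)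
def n226 : El K := El.mul n214 n222 [0, 4, 3, 14, 2, 22, 10, 16, 1, 5, 18, 19, 11, 21, 7, 13, 9, 6, 20, 15, 12, 17, 8, 23] (by decide +kernel)
def n232 : El K := El.mul n123 n226 [0, 17, 14, 7, 3, 21, 16, 18, 6, 4, 13, 19, 10, 5, 9, 11, 2, 15, 20, 12, 8, 22, 1, 23] (by decide +kernel)
def n233 : El K := El.mul n214 n214 [0, 1, 5, 3, 22, 17, 4, 7, 11, 16, 19, 21, 13, 20, 14, 10, 18, 2, 9, 15, 12, 8, 6, 23] (by decide +kernel)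
def n234 : El K := El.mul n123 n86 [18, 1, 12, 14, 3, 9, 8, 0, 7, 21, 6, 22, 19, 17, 15, 16, 10, 5, 4, 11, 13, 2, 20, 23] (by decide +kernel)
def n235 : El K := El.inv n221 [12, 17, 20, 21, 8, 6, 1, 10, 11, 13, 19, 15, 5, 14, 7, 16, 2, 22, 0, 18, 4, 3, 9, 23] (by decide +kernel)
def n236 : El K := El.mul n235 n234 [0, 17, 5, 7, 21, 13, 11, 12, 10, 3, 1, 9, 18, 22, 16, 2, 19, 6, 8, 15, 14, 20, 4, 23] (by decide +kernel)
def n237 : El K := El.inv n232 [0, 22, 16, 4, 9, 13, 8, 3, 20, 14, 12, 15, 19, 10, 2, 17, 6, 1, 7, 11, 18, 5, 21, 23] (by decide +kernel)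
def n238 : El K := El.mul n237 n236 [0, 1, 13, 3, 5, 10, 15, 19, 12, 4, 22, 14, 7, 21, 6, 16, 11, 8, 20, 17, 2, 18, 9, 23] (by decide +kernel)
def n240 : El K := El.mul n238 n103 [0, 23, 18, 22, 6, 11, 12, 20, 7, 17, 5, 16, 1, 2, 15, 8, 13, 4, 3, 21, 10, 19, 14, 9] (by decide +kernel)
def n248 : El K := El.mul n238 n175 [0, 18, 8, 5, 7, 17, 12, 2, 4, 15, 3, 19, 6, 13, 9, 20, 21, 10, 16, 11, 14, 1, 22, 23] (by decide +kernel)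
def n250 : El K := El.mul n238 n223 [0, 14, 10, 15, 2, 22, 18, 21, 20, 9, 3, 19, 6, 8, 5, 11, 7, 13, 17, 4, 12, 1, 16, 23] (by decide +kernel)
def n254 : El K := El.mul n238 n214 [0, 1, 8, 3, 15, 13, 9, 19, 18, 20, 16, 12, 2, 7, 6, 17, 4, 10, 11, 22, 21, 14, 5, 23] (by decide +kernel)
def n255 : El K := El.mul n214 n238 [0, 1, 12, 3, 2, 15, 19, 10, 20, 6, 4, 14, 7, 11, 22, 9, 8, 21, 13, 5, 17, 16, 18, 23] (by decide +kernel)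
def n257 : El K := El.mul n238 n233 [0, 1, 10, 3, 9, 8, 5, 19, 14, 11, 17, 18, 21, 2, 6, 22, 20, 13, 4, 16, 7, 12, 15, 23] (by decide +kernel)
def n259 : El K := El.mul n238 n255 [0, 1, 7, 3, 13, 16, 17, 22, 2, 15, 5, 6, 19, 14, 9, 4, 12, 18, 21, 10, 8, 11, 20, 23] (by decide +kernel)
def n263 : El K := El.mul n238 n257 [0, 1, 22, 3, 4, 12, 10, 17, 6, 14, 8, 20, 18, 13, 15, 9, 2, 21, 5, 11, 19, 7, 16, 23] (by decide +kernel)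
def n264 : El K := El.mul n238 n259 [0, 1, 19, 3, 21, 11, 8, 9, 13, 16, 10, 15, 17, 6, 4, 5, 7, 20, 18, 22, 12, 14, 2, 23] (by decide +kernel)
def n270 : El K := El.mul n86 n99 [2, 20, 5, 21, 13, 3, 18, 10, 4, 7, 15, 19, 11, 9, 16, 23, 1, 8, 17, 12, 6, 0, 22, 14] (by decide +kernel)
def n271 : El K := El.inv n144 [3, 15, 18, 8, 21, 14, 9, 2, 10, 16, 22, 5, 11, 7, 23, 6, 19, 20, 1, 17, 13, 12, 4, 0] (by decide +kernel)
def n272 : El K := El.mul n271 n270 [18, 13, 14, 12, 7, 8, 1, 22, 21, 2, 6, 17, 5, 16, 19, 0, 15, 10, 20, 11, 9, 3, 4, 23] (by decide +kernel)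
def n273 : El K := El.mul n235 n272 [0, 14, 7, 5, 10, 11, 17, 9, 3, 20, 1, 22, 6, 2, 18, 12, 16, 19, 4, 15, 13, 21, 8, 23] (by decide +kernel)
def n274 : El K := El.inv n250 [0, 21, 4, 10, 19, 14, 12, 16, 13, 9, 2, 15, 20, 17, 1, 3, 22, 18, 6, 11, 8, 7, 5, 23] (by decide +kernel)
def n275 : El K := El.mul n274 n273 [0, 1, 16, 14, 2, 15, 18, 9, 10, 8, 21, 5, 12, 4, 6, 20, 22, 11, 19, 3, 17, 7, 13, 23] (by decide +kernel)
def n276 : El K := El.mul n263 n275 [0, 1, 2, 15, 22, 9, 5, 14, 8, 6, 7, 12, 18, 4, 10, 19, 16, 20, 11, 3, 21, 17, 13, 23] (by decide +kernel)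
def n278 : El K := El.mul n276 n150 [10, 7, 18, 1, 3, 5, 16, 21, 20, 12, 6, 14, 22, 4, 2, 0, 8, 13, 9, 19, 15, 17, 11, 23] (by decide +kernel)
def n279 : El K := El.mul n276 n151 [20, 6, 18, 7, 14, 13, 17, 16, 22, 10, 21, 5, 0, 12, 3, 8, 4, 19, 1, 15, 2, 9, 11, 23] (by decide +kernel)
def n287 : El K := El.mul n276 n123 [0, 5, 15, 10, 20, 22, 19, 6, 1, 2, 16, 7, 8, 12, 14, 18, 11, 13, 4, 3, 21, 9, 17, 23] (by decide +kernel)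
def n290 : El K := El.mul n214 n287 [0, 2, 19, 15, 13, 4, 10, 22, 1, 17, 9, 7, 21, 20, 14, 16, 8, 12, 6, 3, 11, 18, 5, 23] (by decide +kernel)
def n293 : El K := El.mul n276 n238 [0, 1, 4, 15, 9, 7, 19, 3, 18, 22, 13, 10, 14, 17, 5, 16, 12, 8, 21, 20, 2, 11, 6, 23] (by decide +kernel)
def n295 : El K := El.mul n276 n255 [0, 1, 18, 15, 2, 19, 3, 7, 21, 5, 22, 10, 14, 12, 13, 6, 8, 17, 4, 9, 20, 16, 11, 23] (by decide +kernel)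
def n296 : El K := El.mul n214 n293 [0, 1, 6, 19, 18, 7, 10, 3, 16, 4, 12, 15, 14, 5, 2, 9, 20, 21, 11, 13, 17, 8, 22, 23] (by decide +kernel)
def n299 : El K := El.mul n214 n295 [0, 1, 16, 19, 17, 10, 3, 7, 11, 2, 4, 15, 14, 20, 12, 22, 21, 5, 6, 18, 13, 9, 8, 23] (by decide +kernel)
def n302 : El K := El.mul n208 n270 [9, 23, 3, 15, 8, 20, 5, 17, 14, 19, 1, 0, 11, 18, 7, 2, 22, 4, 10, 16, 13, 21, 6, 12] (by decide +kernel)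
def n303 : El K := El.inv n177 [21, 12, 7, 13, 5, 9, 8, 15, 4, 14, 19, 16, 23, 1, 3, 10, 18, 6, 11, 20, 22, 2, 17, 0] (by decide +kernel)
def n304 : El K := El.mul n303 n302 [14, 0, 13, 10, 4, 22, 9, 6, 3, 20, 12, 21, 16, 11, 15, 7, 17, 5, 19, 18, 1, 2, 8, 23] (by decide +kernel)
def n305 : El K := El.inv n150 [15, 3, 14, 20, 12, 18, 5, 11, 16, 10, 1, 9, 2, 13, 0, 19, 6, 8, 22, 4, 7, 21, 17, 23] (by decide +kernel)
def n306 : El K := El.mul n305 n304 [0, 15, 13, 1, 12, 17, 10, 5, 20, 7, 2, 21, 6, 9, 19, 11, 8, 18, 4, 22, 3, 14, 16, 23] (by decide +kernel)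
def n307 : El K := El.mul n136 n306 [0, 1, 16, 12, 6, 5, 13, 22, 20, 3, 7, 17, 8, 14, 19, 18, 15, 10, 21, 4, 9, 2, 11, 23] (by decide +kernel)
def n308 : El K := El.inv n299 [0, 1, 9, 6, 10, 17, 18, 7, 22, 21, 5, 8, 14, 20, 12, 11, 2, 4, 19, 3, 13, 16, 15, 23] (by decide +kernel)
def n309 : El K := El.mul n308 n307 [0, 1, 2, 14, 18, 17, 20, 15, 13, 6, 7, 4, 22, 12, 3, 19, 11, 5, 16, 10, 21, 9, 8, 23] (by decide +kernel)
def n311 : El K := El.mul n309 n139 [18, 15, 19, 4, 3, 5, 8, 7, 17, 14, 21, 1, 0, 12, 10, 22, 16, 20, 13, 2, 6, 9, 11, 23] (by decide +kernel)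
def n315 : El K := El.mul n309 n175 [0, 9, 5, 18, 22, 10, 13, 21, 6, 20, 14, 15, 3, 2, 8, 16, 12, 17, 19, 11, 4, 1, 7, 23] (by decide +kernel)
def n318 : El K := El.mul n276 n309 [0, 1, 2, 10, 11, 20, 21, 19, 4, 5, 14, 22, 13, 18, 15, 3, 12, 9, 16, 7, 17, 6, 8, 23] (by decide +kernel)
def n320 : El K := El.mul n270 n171 [3, 4, 20, 13, 10, 16, 18, 14, 9, 11, 2, 15, 23, 22, 0, 21, 19, 8, 12, 5, 6, 1, 17, 7] (by decide +kernel)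
def n321 : El K := El.inv n141 [2, 16, 14, 20, 1, 13, 10, 23, 4, 6, 19, 11, 18, 21, 15, 22, 12, 17, 3, 7, 5, 8, 9, 0] (by decide +kernel)
def n322 : El K := El.mul n321 n320 [20, 1, 5, 21, 19, 12, 3, 15, 6, 11, 14, 22, 0, 9, 2, 8, 7, 4, 18, 13, 10, 16, 17, 23] (by decide +kernel)
def n323 : El K := El.inv n279 [12, 18, 20, 14, 16, 11, 1, 3, 15, 21, 9, 22, 13, 5, 4, 19, 7, 6, 2, 17, 0, 10, 8, 23] (by decide +kernel)
def n324 : El K := El.mul n323 n322 [0, 18, 11, 10, 17, 13, 14, 19, 1, 22, 4, 8, 12, 21, 20, 15, 3, 16, 2, 5, 9, 7, 6, 23] (by decide +kernel)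
def n325 : El K := El.inv n248 [0, 21, 7, 10, 8, 3, 12, 4, 2, 14, 17, 19, 6, 13, 20, 9, 18, 5, 1, 11, 15, 16, 22, 23] (by decide +kernel)
def n326 : El K := El.mul n325 n324 [0, 1, 19, 17, 5, 13, 20, 11, 21, 22, 8, 2, 6, 16, 15, 9, 10, 18, 7, 3, 14, 4, 12, 23] (by decide +kernel)
def n327 : El K := El.inv n264 [0, 1, 22, 3, 14, 15, 13, 16, 6, 7, 10, 5, 20, 8, 21, 11, 9, 12, 18, 2, 17, 4, 19, 23] (by decide +kernel)
def n328 : El K := El.mul n327 n326 [0, 1, 2, 12, 15, 8, 17, 5, 4, 19, 6, 22, 13, 9, 11, 7, 10, 18, 16, 3, 21, 14, 20, 23] (by decide +kernel)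
def n340 : El K := El.mul n328 n214 [0, 1, 18, 12, 17, 2, 20, 5, 14, 16, 7, 4, 21, 13, 11, 3, 19, 8, 10, 6, 9, 22, 15, 23] (by decide +kernel)
def n342 : El K := El.mul n214 n340 [0, 1, 16, 20, 5, 17, 13, 2, 14, 9, 7, 6, 11, 12, 8, 3, 10, 21, 15, 22, 18, 4, 19, 23] (by decide +kernel)
def n349 : El K := El.mul n328 n309 [0, 1, 2, 11, 16, 18, 21, 7, 9, 17, 5, 15, 20, 13, 12, 3, 22, 8, 10, 6, 14, 19, 4, 23] (by decide +kernel)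
def n354 : El K := El.mul n328 n318 [0, 1, 2, 6, 22, 21, 14, 3, 15, 8, 11, 20, 9, 16, 7, 12, 13, 19, 10, 5, 18, 17, 4, 23] (by decide +kernel)
def n355 : El K := El.mul n309 n349 [0, 1, 2, 4, 11, 16, 9, 15, 6, 5, 17, 19, 21, 12, 22, 14, 8, 13, 7, 20, 3, 10, 18, 23] (by decide +kernel)
def n362 : El K := El.mul n320 n234 [12, 4, 23, 0, 13, 11, 9, 3, 14, 1, 18, 17, 5, 8, 21, 19, 2, 16, 10, 15, 22, 20, 6, 7] (by decide +kernel)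
def n363 : El K := El.mul n321 n362 [18, 1, 0, 2, 21, 11, 6, 20, 15, 16, 3, 17, 13, 4, 8, 7, 14, 12, 19, 22, 9, 5, 10, 23] (by decide +kernel)
def n364 : El K := El.inv n311 [12, 11, 19, 4, 3, 5, 20, 7, 6, 21, 14, 22, 13, 18, 9, 1, 16, 8, 0, 2, 17, 10, 15, 23] (by decide +kernel)
def n365 : El K := El.mul n364 n363 [0, 11, 12, 19, 10, 22, 20, 17, 1, 16, 4, 8, 18, 3, 6, 7, 9, 13, 2, 15, 21, 5, 14, 23] (by decide +kernel)
def n366 : El K := El.inv n223 [0, 21, 17, 10, 14, 2, 3, 11, 20, 19, 5, 1, 16, 7, 12, 22, 15, 13, 8, 18, 4, 6, 9, 23] (by decide +kernel)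
def n367 : El K := El.mul n366 n365 [0, 1, 16, 18, 5, 9, 4, 13, 21, 15, 14, 20, 8, 10, 3, 11, 19, 7, 17, 22, 6, 2, 12, 23] (by decide +kernel)
def n368 : El K := El.inv n342 [0, 1, 7, 15, 21, 4, 11, 10, 14, 9, 16, 12, 13, 6, 8, 18, 2, 5, 20, 22, 3, 17, 19, 23] (by decide +kernel)
def n369 : El K := El.mul n368 n367 [0, 1, 2, 20, 4, 9, 21, 6, 17, 18, 8, 3, 14, 16, 15, 12, 22, 10, 5, 19, 11, 7, 13, 23] (by decide +kernel)
def n370 : El K := El.mul n355 n369 [0, 1, 2, 3, 11, 5, 10, 9, 13, 7, 6, 4, 22, 8, 14, 21, 18, 17, 16, 20, 19, 15, 12, 23] (by decide +kernel)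
def n374 : El K := El.mul n370 n123 [0, 10, 3, 14, 17, 11, 21, 7, 1, 2, 18, 6, 13, 4, 9, 22, 16, 12, 8, 20, 19, 5, 15, 23] (by decide +kernel)
def n383 : El K := El.mul n93 n79 [5, 12, 4, 17, 1, 20, 6, 3, 8, 21, 15, 11, 19, 7, 18, 0, 16, 22, 23, 2, 10, 14, 13, 9] (by decide +kernel)
def n384 : El K := El.inv n240 [0, 12, 13, 18, 17, 10, 4, 8, 15, 23, 20, 5, 6, 16, 22, 14, 11, 9, 2, 21, 7, 19, 3, 1] (by decide +kernel)
def n385 : El K := El.mul n384 n383 [10, 6, 17, 9, 12, 7, 4, 18, 15, 19, 14, 5, 21, 8, 2, 0, 11, 3, 1, 13, 20, 22, 16, 23] (by decide +kernel)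
def n386 : El K := El.inv n278 [15, 3, 14, 4, 13, 5, 10, 1, 16, 18, 0, 22, 9, 17, 11, 20, 6, 21, 2, 19, 8, 7, 12, 23] (by decide +kernel)
def n387 : El K := El.mul n386 n385 [0, 10, 21, 18, 9, 1, 13, 2, 20, 19, 11, 5, 7, 16, 14, 15, 22, 4, 3, 17, 8, 12, 6, 23] (by decide +kernel)
def n388 : El K := El.inv n374 [0, 8, 9, 2, 13, 21, 11, 7, 18, 14, 1, 5, 17, 12, 3, 22, 16, 4, 10, 20, 19, 6, 15, 23] (by decide +kernel)
def n389 : El K := El.mul n388 n387 [0, 1, 6, 10, 14, 8, 12, 9, 19, 20, 5, 21, 7, 16, 3, 22, 15, 13, 2, 4, 18, 17, 11, 23] (by decide +kernel)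
def n390 : El K := El.inv n296 [0, 1, 14, 7, 9, 13, 2, 5, 21, 15, 6, 18, 10, 19, 12, 11, 8, 20, 4, 3, 16, 17, 22, 23] (by decide +kernel)
def n391 : El K := El.mul n390 n389 [0, 1, 2, 6, 12, 21, 10, 15, 3, 16, 13, 17, 5, 8, 7, 22, 11, 19, 14, 9, 4, 20, 18, 23] (by decide +kernel)
def n392 : El K := El.inv n354 [0, 1, 2, 7, 22, 19, 3, 14, 9, 12, 18, 10, 15, 16, 6, 8, 13, 21, 20, 17, 11, 5, 4, 23] (by decide +kernel)
def n393 : El K := El.mul n392 n391 [0, 1, 2, 3, 15, 5, 18, 8, 7, 13, 16, 21, 19, 9, 14, 4, 10, 17, 6, 12, 22, 11, 20, 23] (by decide +kernel)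
def n401 : El K := El.mul n393 n318 [0, 1, 2, 16, 21, 22, 11, 12, 15, 5, 14, 20, 9, 6, 4, 3, 19, 13, 10, 8, 17, 18, 7, 23] (by decide +kernel)
def n412 : El K := El.mul n93 n383 [22, 1, 7, 4, 3, 0, 17, 15, 12, 5, 16, 2, 11, 10, 9, 23, 18, 20, 13, 19, 14, 8, 6, 21] (by decide +kernel)
def n413 : El K := El.inv n176 [1, 8, 21, 5, 11, 10, 20, 16, 9, 13, 12, 6, 15, 3, 2, 4, 14, 22, 18, 17, 19, 23, 7, 0] (by decide +kernel)
def n414 : El K := El.mul n413 n412 [7, 8, 16, 11, 5, 1, 22, 4, 15, 10, 14, 21, 6, 12, 13, 0, 18, 19, 3, 17, 2, 9, 20, 23] (by decide +kernel)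
def n415 : El K := El.inv n153 [15, 16, 10, 14, 18, 21, 3, 0, 2, 11, 9, 13, 19, 22, 20, 5, 1, 12, 6, 4, 7, 17, 8, 23] (by decide +kernel)
def n416 : El K := El.mul n415 n414 [0, 2, 1, 13, 21, 16, 8, 18, 5, 9, 20, 17, 3, 19, 22, 15, 6, 4, 14, 12, 10, 11, 7, 23] (by decide +kernel)
def n417 : El K := El.inv n290 [0, 8, 1, 19, 5, 22, 18, 11, 16, 10, 6, 20, 17, 4, 14, 3, 15, 9, 21, 2, 13, 12, 7, 23] (by decide +kernel)
def n418 : El K := El.mul n417 n416 [0, 1, 8, 4, 12, 15, 16, 21, 22, 10, 13, 9, 19, 2, 7, 3, 18, 5, 14, 17, 6, 20, 11, 23] (by decide +kernel)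
def n419 : El K := El.inv n254 [0, 1, 12, 3, 16, 22, 14, 13, 2, 6, 17, 18, 11, 5, 21, 4, 10, 15, 8, 7, 9, 20, 19, 23] (by decide +kernel)
def n420 : El K := El.mul n419 n418 [0, 1, 2, 16, 11, 4, 10, 20, 19, 17, 5, 6, 7, 12, 13, 3, 8, 22, 21, 15, 14, 9, 18, 23] (by decide +kernel)
def n421 : El K := El.inv n401 [0, 1, 2, 15, 14, 9, 13, 22, 19, 12, 18, 6, 7, 17, 10, 8, 3, 20, 21, 16, 11, 4, 5, 23] (by decide +kernel)
def n422 : El K := El.mul n421 n420 [0, 1, 2, 3, 6, 14, 18, 11, 16, 20, 9, 13, 22, 7, 17, 15, 19, 5, 4, 8, 10, 12, 21, 23] (by decide +kernel)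
def n433 : El K := El.mul n393 n422 [0, 1, 2, 3, 18, 14, 6, 21, 10, 22, 13, 9, 20, 8, 17, 4, 12, 5, 15, 7, 16, 19, 11, 23] (by decide +kernel)
def n442 : El K := El.mul n383 n362 [19, 1, 9, 5, 7, 11, 21, 17, 18, 12, 23, 22, 20, 8, 14, 2, 4, 16, 15, 0, 13, 10, 6, 3] (by decide +kernel)
def n443 : El K := El.inv n105 [8, 12, 1, 23, 22, 11, 15, 17, 9, 19, 13, 20, 5, 16, 2, 21, 7, 18, 3, 10, 4, 14, 6, 0] (by decide +kernel)
def n444 : El K := El.mul n443 n442 [10, 12, 19, 11, 17, 20, 14, 18, 3, 5, 0, 6, 4, 9, 2, 1, 22, 7, 21, 8, 16, 13, 15, 23] (by decide +kernel)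
def n445 : El K := El.mul n386 n444 [0, 9, 19, 22, 21, 8, 11, 2, 4, 5, 15, 10, 13, 18, 14, 3, 12, 1, 7, 16, 6, 17, 20, 23] (by decide +kernel)
def n446 : El K := El.inv n315 [0, 21, 13, 12, 20, 2, 8, 22, 14, 1, 5, 19, 16, 6, 10, 11, 15, 17, 3, 18, 9, 7, 4, 23] (by decide +kernel)
def n447 : El K := El.mul n446 n445 [0, 1, 18, 4, 7, 14, 19, 13, 20, 2, 11, 5, 6, 3, 10, 12, 16, 21, 22, 15, 8, 17, 9, 23] (by decide +kernel)
def n448 : El K := El.inv n340 [0, 1, 5, 15, 11, 7, 19, 10, 17, 20, 18, 14, 3, 13, 8, 22, 9, 4, 2, 16, 6, 12, 21, 23] (by decide +kernel)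
def n449 : El K := El.mul n448 n447 [0, 1, 2, 11, 10, 8, 16, 13, 6, 5, 14, 7, 19, 15, 18, 3, 9, 12, 21, 22, 17, 4, 20, 23] (by decide +kernel)
def n450 : El K := El.inv n349 [0, 1, 2, 15, 22, 10, 19, 7, 17, 8, 18, 3, 14, 13, 20, 11, 4, 9, 5, 21, 12, 6, 16, 23] (by decide +kernel)
def n451 : El K := El.mul n450 n449 [0, 1, 2, 3, 18, 17, 4, 13, 19, 10, 20, 7, 21, 11, 5, 15, 8, 14, 6, 16, 9, 22, 12, 23] (by decide +kernel)
def n452 : El K := El.inv n433 [0, 1, 2, 3, 15, 17, 6, 19, 13, 11, 8, 22, 16, 10, 5, 18, 20, 14, 4, 21, 12, 7, 9, 23] (by decide +kernel)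
def n453 : El K := El.mul n452 n451 [0, 1, 2, 3, 4, 14, 15, 10, 21, 8, 12, 19, 7, 22, 17, 18, 13, 5, 6, 20, 11, 9, 16, 23] (by decide +kernel)

def gens0 : List (El K) := [n0, n1, n2, n139, n123, n175, n214, n238, n276, n309, n328, n370, n393, n422, n453]
def gens1 : List (El K) := [n139, n123, n175, n214, n238, n276, n309, n328, n370, n393, n422, n453]
def gens2 : List (El K) := [n123, n175, n214, n238, n276, n309, n328, n370, n393, n422, n453]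
def gens3 : List (El K) := [n214, n238, n276, n309, n328, n370, n393, n422, n453]
def gens4 : List (El K) := [n276, n309, n328, n370, n393, n422, n453]
def gens5 : List (El K) := [n370, n393, n422, n453]
def gens6 : List (El K) := [n453]

end

end Cfsg.Agent.Lib.Helper1.M24
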