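import Mathlib
import Cfsg.Agent.Lib.Helper1.M24B

set_option autoImplicit false

namespace Cfsg.Agent.Lib.Helper1.M24

open Cfsg Cfsg.Agent.Lib.Helper1
open scoped Pointwise

/-- the permutations fixing the listed points -/
def FixL (fx : List ℕ) : Subgroup P24 where
  carrier := {g | ∀ j ∈ fx, g (gUnidx j) = gUnidx j}
  one_mem' := fun _ _ => rfl
  mul_mem' := by
    intro a b ha hb j hj
    rw [Equiv.Perm.mul_apply, hb j hj, ha j hj]
  inv_mem' := by
    intro a ha j hj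
    rw [Equiv.Perm.inv_eq_iff_eq, ha j hj]

theorem mem_FixL {fx : List ℕ} {g : P24} : g ∈ FixL fx ↔ ∀ j ∈ fx, g (gUnidx j) = gUnidx j :=
  Iff.rfl

theorem FixL_append (H : Subgroup P24) (fx : List ℕ) (b : ℕ) :
    H ⊓ FixL (fx ++ [b]) = (H ⊓ FixL fx) ⊓ MulAction.stabilizer P24 (gUnidx b) := by
  ext g
  simp only [Subgroup.mem_inf, mem_FixL, MulAction.mem_stabilizer_iff, Equiv.Perm.smul_def,
    List.mem_append, List.mem_singleton]
  constructor
  · rintro ⟨h1, h2⟩
    exact ⟨⟨h1, fun j hj => h2 j (Or.inl hj)⟩, h2 b (Or.inr rfl)⟩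
  · rintro ⟨⟨h1, h2⟩, h3⟩
    refine ⟨h1, ?_⟩
    rintro j (hj | rfl)
    · exact h2 j hj
    · exact h3

/-- the image of a new point avoids the fixed points -/
theorem not_mem_of_fixes {g : P24} {fx : List ℕ} (hfix : ∀ j ∈ fx, j < 24 ∧ g (gUnidx j) = gUnidx j)
    {b : ℕ} (hb : b < 24) (hbfx : b ∉ fx) : gIdx (g (gUnidx b)) ∉ fx := by
  intro h
  have h1 := (hfix _ h).2
  rw [gUnidx_gIdx] at h1
  have h2 := g.injective h1
  rw [h2, gIdx_gUnidx b hb] at h
  exact hbfx h

/-- sifting step -/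
theorem sift {K' H : Subgroup P24} (fx : List ℕ) (b : ℕ)
    (hreach : ∀ g ∈ H, (∀ j ∈ fx, g (gUnidx j) = gUnidx j) →
      Reach K' fx b (gIdx (g (gUnidx b))))
    (hKH : K' ≤ H)
    (hnext : ∀ g ∈ H, (∀ j ∈ fx ++ [b], g (gUnidx j) = gUnidx j) → g ∈ K') :
    ∀ g ∈ H, (∀ j ∈ fx, g (gUnidx j) = gUnidx j) → g ∈ K' := by
  intro g hg hfix
  obtain ⟨σ, hσ, hσfix, hσb⟩ := hreach g hg hfix
  rw [gUnidx_gIdx] at hσb
  have h1 : σ⁻¹ * g ∈ K' := by
    apply hnext _ (H.mul_mem (H.inv_mem (hKH hσ)) hg)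
    intro j hj
    rw [List.mem_append, List.mem_singleton] at hj
    rw [Equiv.Perm.mul_apply, Equiv.Perm.inv_eq_iff_eq]
    rcases hj with hj | rfl
    · rw [hfix j hj, hσfix j hj]
    · exact hσb.symm
  have : g = σ * (σ⁻¹ * g) := by group
  rw [this]
  exact K'.mul_mem hσ h1

/-- counting step -/
theorem level_card {K' H : Subgroup P24} (hKH : K' ≤ H) (fx : List ℕ) (b : ℕ) (pred : ℕ → Bool)
    (hreach : ∀ q < 24, pred q = true → Reach K' fx b q)
    (hup : ∀ g ∈ H, (∀ j ∈ fx, g (gUnidx j) = gUnidx j) → pred (gIdx (g (gUnidx b))) = true) :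
    Nat.card ↥(H ⊓ FixL fx) =
      (Finset.univ.filter (fun p : GolayPt => pred (gIdx p) = true)).card *
        Nat.card ↥(H ⊓ FixL (fx ++ [b])) := by
  rw [FixL_append]
  apply card_eq_orbit_mul
  intro q
  rw [Finset.mem_filter]
  simp only [Finset.mem_univ, true_and]
  constructor
  · intro hq
    obtain ⟨σ, hσ, h1, h2⟩ := hreach (gIdx q) (gIdx_lt q) hq
    rw [gUnidx_gIdx] at h2
    exact ⟨σ, ⟨hKH hσ, h1⟩, h2⟩
  · rintro ⟨g, ⟨hg, hfix⟩, rfl⟩
    exact hup g hg hfix

/-! ### the chain for the group of the code -/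

/-- bit mask of the octad through `∞, 0, 1, 2, 3` -/
def O₀ : ℕ := 8536111

theorem O₀_eq : cw 2084 = O₀ := by decide +kernel

theorem lvl0 : ∀ q < 24, Reach K [] 23 q := by
  intro q hq
  refine reach_of_rnds (by norm_num) gens0 (by decide +kernel) 4 ?_
  revert q
  decide +kernel

theorem lvl1 : ∀ q < 24, q ∉ [23] → Reach K [23] 0 q := by
  intro q hq hq2
  refine reach_of_rnds (by norm_num) gens1 (by decide +kernel) 3 ?_
  revert q
  decide +kernel

theorem lvl2 : ∀ q < 24, q ∉ [23, 0] → Reach K [23, 0] 1 q := by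
  intro q hq hq2
  refine reach_of_rnds (by norm_num) gens2 (by decide +kernel) 3 ?_
  revert q
  decide +kernel

theorem lvl3 : ∀ q < 24, q ∉ [23, 0, 1] → Reach K [23, 0, 1] 2 q := by
  intro q hq hq2
  refine reach_of_rnds (by norm_num) gens3 (by decide +kernel) 4 ?_
  revert q
  decide +kernel

theorem lvl4 : ∀ q < 24, q ∉ [23, 0, 1, 2] → Reach K [23, 0, 1, 2] 3 q := by
  intro q hq hq2
  refine reach_of_rnds (by norm_num) gens4 (by decide +kernel) 3 ?_
  revert q
  decide +kernel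

theorem lvl5 : ∀ q < 24, O₀.testBit q = false → Reach K [23, 0, 1, 2, 3] 4 q := by
  intro q hq hq2
  refine reach_of_rnds (by norm_num) gens5 (by decide +kernel) 3 ?_
  revert q
  decide +kernel

theorem lvl6 : ∀ q < 24, q ∈ [5, 14, 17] → Reach K [23, 0, 1, 2, 3, 4] 5 q := by
  intro q hq hq2
  refine reach_of_rnds (by norm_num) gens6 (by decide +kernel) 2 ?_
  revert q
  decide +kernel

/-- the octad through the first five base points is invariant under their stabilizer -/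
theorem invMask_O₀ {g : P24} (hg : g ∈ M24)
    (hfix : ∀ j ∈ [23, 0, 1, 2, 3], g (gUnidx j) = gUnidx j) : InvMask g O₀ := by
  rw [← O₀_eq]
  refine invMask_octad hg [23, 0, 1, 2, 3] (by decide) ?_ 2084 (by norm_num) (by decide +kernel)
    (by decide +kernel)
  intro j hj
  refine ⟨?_, hfix j hj⟩
  revert j
  decide

/-- the stabilizer of the seven base points is trivial -/
theorem stab_trivial {g : P24} (hg : g ∈ M24)
    (hfix : ∀ j ∈ [23, 0, 1, 2, 3, 4, 5], g (gUnidx j) = gUnidx j) : g = 1 := by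
  have h0 : ∀ j ∈ [23, 0, 1, 2, 3, 4, 5], j < 24 ∧ g (gUnidx j) = gUnidx j := by
    intro j hj
    refine ⟨?_, hfix j hj⟩
    revert j
    decide
  have hm1 := invMask_of_octOK hg [23, 0, 1, 2, 3, 4, 5] (by decide) h0
    [3090, 2084, 2120, 1288, 528, 2817, 2192, 2056, 192, 3072] (by decide +kernel)
  have h1 := fixed_round _ hm1 _ h0
  have h1' : ∀ j ∈ [23, 0, 1, 2, 3, 4, 5, 6, 7, 8, 9, 10, 11, 12, 13, 15, 16, 18, 19, 20, 21, 22],
      j < 24 ∧ g (gUnidx j) = gUnidx j := by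
    intro j hj
    apply h1
    revert j
    decide +kernel
  have hm2 := invMask_of_octOK hg _ (by decide) h1'
    [2282, 318, 3788, 2710, 3330, 1564, 3282, 2800] (by decide +kernel)
  have h2 := fixed_round _ hm2 _ h1'
  apply eq_one_of_fixes
  intro i hi
  apply (h2 i _).2
  revert i
  decide +kernel

end Cfsg.Agent.Lib.Helper1.M24
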