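import Mathlib
import Cfsg.Agent.Lib.Helper1.M24C

set_option autoImplicit false

namespace Cfsg.Agent.Lib.Helper1.M24

open Cfsg Cfsg.Agent.Lib.Helper1
open scoped Pointwise

theorem lt_of_mem_base : ∀ j ∈ [23, 0, 1, 2, 3, 4, 5], j < 24 := by decide

/-- upper bounds for the orbits along the chain -/
theorem up_generic {g : P24} (fx : List ℕ) (hlt : ∀ j ∈ fx, j < 24)
    (hfix : ∀ j ∈ fx, g (gUnidx j) = gUnidx j) {b : ℕ} (hb : b < 24) (hbfx : b ∉ fx) :
    gIdx (g (gUnidx b)) ∉ fx :=
  not_mem_of_fixes (fun j hj => ⟨hlt j hj, hfix j hj⟩) hb hbfx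

theorem up5 {g : P24} (hg : g ∈ M24) (hfix : ∀ j ∈ [23, 0, 1, 2, 3], g (gUnidx j) = gUnidx j) :
    O₀.testBit (gIdx (g (gUnidx 4))) = false := by
  rw [invMask_O₀ hg hfix (gUnidx 4)]
  decide +kernel

theorem up6 {g : P24} (hg : g ∈ M24)
    (hfix : ∀ j ∈ [23, 0, 1, 2, 3, 4], g (gUnidx j) = gUnidx j) :
    gIdx (g (gUnidx 5)) ∈ [5, 14, 17] := by
  have h1 : O₀.testBit (gIdx (g (gUnidx 5))) = true := by
    rw [invMask_O₀ hg (fun j hj => hfix j (by
      revert j; decide)) (gUnidx 5)]
    decide +kernel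
  have h2 : gIdx (g (gUnidx 5)) ∉ [23, 0, 1, 2, 3, 4] :=
    up_generic _ (by decide) hfix (by norm_num) (by decide)
  have h3 : gIdx (g (gUnidx 5)) < 24 := gIdx_lt _
  revert h1 h2
  generalize gIdx (g (gUnidx 5)) = q at h3
  revert q
  decide +kernel

/-- the group of the code is generated by the three standard permutations -/
theorem M24_le_K : M24 ≤ K := by
  intro g hg
  refine sift (K' := K) (H := M24) [] 23 (fun g _ _ => lvl0 _ (gIdx_lt _)) K_le ?_ g hg
    (by simp)
  refine sift (K' := K) (H := M24) [23] 0 (fun g _ hfix => lvl1 _ (gIdx_lt _)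
    (up_generic _ (by decide) hfix (by norm_num) (by decide))) K_le ?_
  refine sift (K' := K) (H := M24) [23, 0] 1 (fun g _ hfix => lvl2 _ (gIdx_lt _)
    (up_generic _ (by decide) hfix (by norm_num) (by decide))) K_le ?_
  refine sift (K' := K) (H := M24) [23, 0, 1] 2 (fun g _ hfix => lvl3 _ (gIdx_lt _)
    (up_generic _ (by decide) hfix (by norm_num) (by decide))) K_le ?_
  refine sift (K' := K) (H := M24) [23, 0, 1, 2] 3 (fun g _ hfix => lvl4 _ (gIdx_lt _)
    (up_generic _ (by decide) hfix (by norm_num) (by decide))) K_le ?_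
  refine sift (K' := K) (H := M24) [23, 0, 1, 2, 3] 4 (fun g hg hfix => lvl5 _ (gIdx_lt _)
    (up5 hg hfix)) K_le ?_
  refine sift (K' := K) (H := M24) [23, 0, 1, 2, 3, 4] 5 (fun g hg hfix => lvl6 _ (gIdx_lt _)
    (up6 hg hfix)) K_le ?_
  intro g hg hfix
  rw [stab_trivial hg hfix]
  exact K.one_mem

theorem K_eq_M24 : K = M24 := le_antisymm K_le M24_le_K

theorem FixL_nil (H : Subgroup P24) : H ⊓ FixL [] = H := by
  ext g
  simp [mem_FixL]

theorem card_M24 : Nat.card M24 = 244823040 := by
  have e0 := level_card (K' := K) (H := M24) K_le [] 23 (fun _ => true)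
    (fun q hq _ => lvl0 q hq) (fun _ _ _ => rfl)
  have e1 := level_card (K' := K) (H := M24) K_le [23] 0 (fun q => decide (q ∉ [23]))
    (fun q hq h => lvl1 q hq (of_decide_eq_true h))
    (fun g _ hfix => decide_eq_true (up_generic _ (by decide) hfix (by norm_num) (by decide)))
  have e2 := level_card (K' := K) (H := M24) K_le [23, 0] 1 (fun q => decide (q ∉ [23, 0]))
    (fun q hq h => lvl2 q hq (of_decide_eq_true h))
    (fun g _ hfix => decide_eq_true (up_generic _ (by decide) hfix (by norm_num) (by decide)))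
  have e3 := level_card (K' := K) (H := M24) K_le [23, 0, 1] 2
    (fun q => decide (q ∉ [23, 0, 1]))
    (fun q hq h => lvl3 q hq (of_decide_eq_true h))
    (fun g _ hfix => decide_eq_true (up_generic _ (by decide) hfix (by norm_num) (by decide)))
  have e4 := level_card (K' := K) (H := M24) K_le [23, 0, 1, 2] 3
    (fun q => decide (q ∉ [23, 0, 1, 2]))
    (fun q hq h => lvl4 q hq (of_decide_eq_true h))
    (fun g _ hfix => decide_eq_true (up_generic _ (by decide) hfix (by norm_num) (by decide)))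
  have e5 := level_card (K' := K) (H := M24) K_le [23, 0, 1, 2, 3] 4
    (fun q => !O₀.testBit q)
    (fun q hq h => lvl5 q hq (by simpa using h))
    (fun g hg hfix => by rw [up5 hg hfix]; rfl)
  have e6 := level_card (K' := K) (H := M24) K_le [23, 0, 1, 2, 3, 4] 5
    (fun q => decide (q ∈ [5, 14, 17]))
    (fun q hq h => lvl6 q hq (of_decide_eq_true h))
    (fun g hg hfix => decide_eq_true (up6 hg hfix))
  have e7 : Nat.card ↥(M24 ⊓ FixL ([23, 0, 1, 2, 3, 4] ++ [5])) = 1 := by
    have : M24 ⊓ FixL ([23, 0, 1, 2, 3, 4] ++ [5]) = ⊥ := by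
      rw [eq_bot_iff]
      rintro g ⟨hg, hfix⟩
      rw [Subgroup.mem_bot]
      exact stab_trivial hg hfix
    rw [this]
    exact Subgroup.card_bot
  rw [FixL_nil] at e0
  have c0 : (Finset.univ.filter (fun p : GolayPt => (fun _ : ℕ => true) (gIdx p) = true)).card = 24 := by
    decide +kernel
  have c1 : (Finset.univ.filter (fun p : GolayPt => (fun q => decide (q ∉ [23])) (gIdx p) = true)).card = 23 := by
    decide +kernel
  have c2 : (Finset.univ.filter (fun p : GolayPt => (fun q => decide (q ∉ [23, 0])) (gIdx p) = true)).card = 22 := by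
    decide +kernel
  have c3 : (Finset.univ.filter (fun p : GolayPt => (fun q => decide (q ∉ [23, 0, 1])) (gIdx p) = true)).card = 21 := by
    decide +kernel
  have c4 : (Finset.univ.filter (fun p : GolayPt => (fun q => decide (q ∉ [23, 0, 1, 2])) (gIdx p) = true)).card = 20 := by
    decide +kernel
  have c5 : (Finset.univ.filter (fun p : GolayPt => (fun q => !O₀.testBit q) (gIdx p) = true)).card = 16 := by
    decide +kernel
  have c6 : (Finset.univ.filter (fun p : GolayPt => (fun q => decide (q ∈ [5, 14, 17])) (gIdx p) = true)).card = 3 := by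
    decide +kernel
  rw [c0] at e0
  rw [c1] at e1
  rw [c2] at e2
  rw [c3] at e3
  rw [c4] at e4
  rw [c5] at e5
  rw [c6] at e6
  simp only [List.nil_append, List.cons_append] at e0 e1 e2 e3 e4 e5 e6 e7
  rw [e0, e1, e2, e3, e4, e5, e6, e7]

end Cfsg.Agent.Lib.Helper1.M24
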