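import Mathlib
import Cfsg.Agent.Lib.Helper1.M24D

set_option autoImplicit false

namespace Cfsg.Agent.Lib.Helper1.M24

open Cfsg Cfsg.Agent.Lib.Helper1
open scoped Pointwise

/-- multiple transitivity from a chain of orbit statements -/
theorem multi_trans (H : Subgroup P24) (B : List ℕ)
    (S : Set GolayPt) (hS : ∀ g ∈ H, ∀ p ∈ S, g p ∈ S)
    (hreach : ∀ k < B.length, ∀ q < 24, gUnidx q ∈ S → q ∉ B.take k →
      Reach H (B.take k) (B.getD k 0) q)
    (x : Fin B.length → GolayPt) (hx : Function.Injective x) (hxS : ∀ i, x i ∈ S) :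
    ∃ g ∈ H, ∀ i : Fin B.length, g (x i) = gUnidx (B.getD i.val 0) := by
  have key : ∀ k ≤ B.length, ∃ g ∈ H, ∀ i : Fin B.length, i.val < k →
      g (x i) = gUnidx (B.getD i.val 0) := by
    intro k
    induction k with
    | zero => intro _; exact ⟨1, H.one_mem, fun i hi => absurd hi (Nat.not_lt_zero _)⟩
    | succ k ih =>
      intro hk
      obtain ⟨g, hg, hgx⟩ := ih (Nat.le_of_succ_le hk)
      have hk' : k < B.length := hk
      set p := g (x ⟨k, hk'⟩) with hp
      have hpS : p ∈ S := hS g hg _ (hxS _)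
      have hq : gIdx p ∉ B.take k := by
        intro hmem
        rw [List.mem_take_iff_getElem] at hmem
        obtain ⟨j, hj, hje⟩ := hmem
        have hjk : j < k := (lt_min_iff.mp hj).1
        have hjB : j < B.length := (lt_min_iff.mp hj).2
        have h1 := hgx ⟨j, hjB⟩ hjk
        have h2 : B.getD j 0 = B[j] := by
          rw [List.getD_eq_getElem?_getD, List.getElem?_eq_getElem hjB]; rfl
        simp only at h1
        rw [h2, hje, gUnidx_gIdx, hp] at h1
        have h3 := hx (g.injective h1)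
        rw [Fin.mk.injEq] at h3
        omega
      obtain ⟨σ, hσ, hσfix, hσb⟩ := hreach k hk' (gIdx p) (gIdx_lt p)
        (by rw [gUnidx_gIdx]; exact hpS) hq
      rw [gUnidx_gIdx] at hσb
      refine ⟨σ⁻¹ * g, H.mul_mem (H.inv_mem hσ) hg, ?_⟩
      intro i hi
      rw [Equiv.Perm.mul_apply, Equiv.Perm.inv_eq_iff_eq]
      rcases Nat.lt_succ_iff_lt_or_eq.mp hi with hlt' | heq
      · rw [hgx i hlt']
        symm
        apply hσfix
        rw [List.mem_take_iff_getElem]
        refine ⟨i.val, lt_min_iff.mpr ⟨hlt', i.isLt⟩, ?_⟩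
        rw [List.getD_eq_getElem?_getD, List.getElem?_eq_getElem i.isLt]; rfl
      · have : i = ⟨k, hk'⟩ := Fin.ext heq
        rw [this]
        exact hσb.symm
  obtain ⟨g, hg, h⟩ := key B.length le_rfl
  exact ⟨g, hg, fun i => h i i.isLt⟩

theorem lvl_all : ∀ k < [23, 0, 1, 2, 3].length, ∀ q < 24, gUnidx q ∈ (Set.univ : Set GolayPt) →
    q ∉ [23, 0, 1, 2, 3].take k → Reach M24 ([23, 0, 1, 2, 3].take k) ([23, 0, 1, 2, 3].getD k 0) q := by
  intro k hk q hq _ hqn
  have hk' : k < 5 := hk
  interval_cases k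
  · exact (lvl0 q hq).mono K_le
  · exact (lvl1 q hq hqn).mono K_le
  · exact (lvl2 q hq hqn).mono K_le
  · exact (lvl3 q hq hqn).mono K_le
  · exact (lvl4 q hq hqn).mono K_le

/-- any five distinct points can be moved to the first five base points -/
theorem five_to_base (x : Fin 5 → GolayPt) (hx : Function.Injective x) :
    ∃ g ∈ M24, ∀ i : Fin 5, g (x i) = gUnidx ([23, 0, 1, 2, 3].getD i.val 0) :=
  multi_trans M24 [23, 0, 1, 2, 3] Set.univ (fun _ _ _ _ => Set.mem_univ _) lvl_all
    x hx (fun _ => Set.mem_univ _)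

theorem five_trans (x y : Fin 5 → GolayPt) (hx : Function.Injective x)
    (hy : Function.Injective y) : ∃ g ∈ M24, ∀ i, g (x i) = y i := by
  obtain ⟨g1, hg1, h1⟩ := five_to_base x hx
  obtain ⟨g2, hg2, h2⟩ := five_to_base y hy
  refine ⟨g2⁻¹ * g1, M24.mul_mem (M24.inv_mem hg2) hg1, ?_⟩
  intro i
  rw [Equiv.Perm.mul_apply, Equiv.Perm.inv_eq_iff_eq, h1, h2]

theorem five_transitive : MulAction.IsMultiplyPretransitive M24 GolayPt 5 := by
  refine ⟨fun x y => ?_⟩
  obtain ⟨g, hg, h⟩ := five_trans x y x.injective y.injective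
  refine ⟨⟨g, hg⟩, ?_⟩
  apply DFunLike.ext
  intro i
  exact h i

theorem two_transitive : MulAction.IsMultiplyPretransitive M24 GolayPt 2 := by
  have := five_transitive
  exact MulAction.isMultiplyPretransitive_of_le (G := M24) (α := GolayPt) (m := 2) (n := 5)
      (by norm_num) (by rw [Nat.card_eq_fintype_card]; decide)

theorem transitive : MulAction.IsPretransitive M24 GolayPt := by
  have := two_transitive
  exact MulAction.isPretransitive_of_is_two_pretransitive

/-- transitivity on octads -/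
theorem octad_trans (o o' : Finset GolayPt) (ho : o ∈ octads) (ho' : o' ∈ octads) :
    ∃ g ∈ M24, g • o = o' := by
  have h5 : 5 ≤ o.card := by rw [ho.2]; norm_num
  have h5' : 5 ≤ o'.card := by rw [ho'.2]; norm_num
  obtain ⟨s, hs, hsc⟩ := Finset.exists_subset_card_eq h5
  obtain ⟨s', hs', hsc'⟩ := Finset.exists_subset_card_eq h5'
  have e : Fin 5 ≃ s := (Fintype.equivFinOfCardEq (by rw [Fintype.card_coe, hsc])).symm
  have e' : Fin 5 ≃ s' := (Fintype.equivFinOfCardEq (by rw [Fintype.card_coe, hsc'])).symm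
  obtain ⟨g, hg, h⟩ := five_trans (fun i => (e i : GolayPt)) (fun i => (e' i : GolayPt))
    (fun i j hij => e.injective (Subtype.ext hij)) (fun i j hij => e'.injective (Subtype.ext hij))
  refine ⟨g, hg, ?_⟩
  refine octads_unique (smul_mem_octads hg ho) ho' hsc' ?_ hs'
  intro p hp
  obtain ⟨i, hi⟩ := e'.surjective ⟨p, hp⟩
  have h1 : p = (e' i : GolayPt) := by rw [hi]
  rw [h1, ← h i]
  exact Finset.smul_mem_smul_finset (hs (e i).2)

end Cfsg.Agent.Lib.Helper1.M24
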