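import Mathlib
import Cfsg.Prelude.Def_Spor_Conway
import Cfsg.Agent.Lib.Helper1.Leech3
import Cfsg.Agent.Lib.Helper1.Leech2
import Cfsg.Agent.Lib.Helper1.LeechCross2
import Cfsg.Agent.Lib.Helper1.M24E

set_option autoImplicit false

namespace Cfsg.Agent.Lib.Helper1.LeechAut

open Cfsg Cfsg.Agent.Lib.Helper1.LeechCross

/-- build a permutation of the lattice from a pair of inverse maps preserving it -/
noncomputable def mkPerm (F G : (GolayPt → ℤ) → (GolayPt → ℤ))
    (hF : ∀ x ∈ leechLattice, F x ∈ leechLattice) (hG : ∀ x ∈ leechLattice, G x ∈ leechLattice)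
    (hFG : ∀ x, F (G x) = x) (hGF : ∀ x, G (F x) = x) : Equiv.Perm leechLattice where
  toFun v := ⟨F v, hF v v.2⟩
  invFun v := ⟨G v, hG v v.2⟩
  left_inv v := Subtype.ext (hGF v)
  right_inv v := Subtype.ext (hFG v)

theorem mkPerm_apply (F G : (GolayPt → ℤ) → (GolayPt → ℤ))
    (hF : ∀ x ∈ leechLattice, F x ∈ leechLattice) (hG : ∀ x ∈ leechLattice, G x ∈ leechLattice)
    (hFG : ∀ x, F (G x) = x) (hGF : ∀ x, G (F x) = x) (v : leechLattice) :
    ((mkPerm F G hF hG hFG hGF v : leechLattice) : GolayPt → ℤ) = F v := rfl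

theorem mkPerm_mem (F G : (GolayPt → ℤ) → (GolayPt → ℤ))
    (hF : ∀ x ∈ leechLattice, F x ∈ leechLattice) (hG : ∀ x ∈ leechLattice, G x ∈ leechLattice)
    (hFG : ∀ x, F (G x) = x) (hGF : ∀ x, G (F x) = x)
    (hadd : ∀ x y, F (x + y) = F x + F y) (hn : ∀ x, sqNorm (F x) = sqNorm x) :
    mkPerm F G hF hG hFG hGF ∈ Co0 := by
  refine ⟨fun v w => ?_, fun v => ?_⟩
  · apply Subtype.ext
    rw [AddSubgroup.coe_add, mkPerm_apply, mkPerm_apply, mkPerm_apply, AddSubgroup.coe_add, hadd]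
  · rw [mkPerm_apply, hn]

/-- negation -/
def negF (x : GolayPt → ℤ) : GolayPt → ℤ := -x

noncomputable def negC : Co0 :=
  ⟨mkPerm negF negF (fun x hx => leechLattice.neg_mem hx) (fun x hx => leechLattice.neg_mem hx)
    (fun x => neg_neg x) (fun x => neg_neg x),
   mkPerm_mem _ _ _ _ _ _ (fun x y => neg_add x y) (fun x => sqNorm_neg x)⟩

theorem negC_apply (v : leechLattice) : ((negC • v : leechLattice) : GolayPt → ℤ) = -v := rfl

/-- sign change on a set -/
def epsF (c : Finset GolayPt) (x : GolayPt → ℤ) : GolayPt → ℤ :=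
  fun i => if i ∈ c then -x i else x i

theorem epsF_epsF (c : Finset GolayPt) (x : GolayPt → ℤ) : epsF c (epsF c x) = x := by
  ext i
  unfold epsF
  split_ifs <;> simp

theorem epsF_mem {c : Finset GolayPt} (hc : c ∈ gC) (x : GolayPt → ℤ) (hx : x ∈ leechLattice) :
    epsF c x ∈ leechLattice := by
  rw [mem_leechLattice_iff] at hx ⊢
  exact signchange_mem_leechSet hc hx

theorem epsF_add (c : Finset GolayPt) (x y : GolayPt → ℤ) :
    epsF c (x + y) = epsF c x + epsF c y := by
  ext i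
  unfold epsF
  simp only [Pi.add_apply]
  split_ifs <;> ring

theorem sqNorm_epsF (c : Finset GolayPt) (x : GolayPt → ℤ) : sqNorm (epsF c x) = sqNorm x := by
  unfold sqNorm epsF
  apply Finset.sum_congr rfl
  intro i _
  split_ifs <;> ring

noncomputable def epsC (c : Finset GolayPt) (hc : c ∈ gC) : Co0 :=
  ⟨mkPerm (epsF c) (epsF c) (epsF_mem hc) (epsF_mem hc) (epsF_epsF c) (epsF_epsF c),
   mkPerm_mem _ _ _ _ _ _ (epsF_add c) (sqNorm_epsF c)⟩

theorem epsC_apply (c : Finset GolayPt) (hc : c ∈ gC) (v : leechLattice) :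
    ((epsC c hc • v : leechLattice) : GolayPt → ℤ) = epsF c v := rfl

/-- coordinate permutation -/
def permF (σ : Equiv.Perm GolayPt) (x : GolayPt → ℤ) : GolayPt → ℤ := fun i => x (σ i)

theorem permF_mem {σ : Equiv.Perm GolayPt} (hσ : σ ∈ M24) (x : GolayPt → ℤ)
    (hx : x ∈ leechLattice) : permF σ x ∈ leechLattice := by
  rw [mem_leechLattice_iff] at hx ⊢
  exact perm_mem_leechSet hσ hx

theorem sqNorm_permF (σ : Equiv.Perm GolayPt) (x : GolayPt → ℤ) :
    sqNorm (permF σ x) = sqNorm x := by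
  unfold sqNorm permF
  exact Equiv.sum_comp σ (fun i => x i ^ 2)

noncomputable def permC (σ : Equiv.Perm GolayPt) (hσ : σ ∈ M24) : Co0 :=
  ⟨mkPerm (permF σ) (permF σ⁻¹) (permF_mem hσ) (permF_mem (M24.inv_mem hσ))
    (fun x => by ext i; simp [permF]) (fun x => by ext i; simp [permF]),
   mkPerm_mem _ _ _ _ _ _ (fun x y => rfl) (sqNorm_permF σ)⟩

theorem permC_apply (σ : Equiv.Perm GolayPt) (hσ : σ ∈ M24) (v : leechLattice) :
    ((permC σ hσ • v : leechLattice) : GolayPt → ℤ) = permF σ v := rfl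

/-- 8 times a unit vector -/
def uu (i : GolayPt) : GolayPt → ℤ := fun j => if j = i then 8 else 0

theorem sum_uu (i : GolayPt) : ∑ j, uu i j = 8 := by
  unfold uu
  rw [Finset.sum_ite_eq' Finset.univ i (fun _ => (8 : ℤ))]
  simp

theorem uu_mem (i : GolayPt) : uu i ∈ leechLattice := by
  rw [mem_leechLattice_iff]
  apply Cfsg.Spor.mem_leechSet_of_const_mod_four (uu i) 0 0 (by rfl)
  · intro j
    unfold uu
    split_ifs <;> decide
  · rw [sum_uu]; decide

theorem dotInt_uu (x : GolayPt → ℤ) (i : GolayPt) : dotInt x (uu i) = 8 * x i := by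
  unfold dotInt uu
  have : ∀ j, x j * (if j = i then (8 : ℤ) else 0) = if j = i then 8 * x j else 0 := by
    intro j; split_ifs <;> ring
  simp only [this]
  rw [Finset.sum_ite_eq' Finset.univ i (fun j => 8 * x j)]
  simp

theorem sqNorm_uu (i : GolayPt) : sqNorm (uu i) = 64 := by
  rw [← dotInt_self, dotInt_uu]
  unfold uu
  simp

/-- automorphisms preserve inner products -/
theorem dot_preserved {g : Equiv.Perm leechLattice} (hg : g ∈ Co0) (v w : leechLattice) :
    dotInt ((g v : leechLattice) : GolayPt → ℤ) (g w : leechLattice) = dotInt (v : GolayPt → ℤ) w := by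
  have h1 := hg.2 (v + w)
  rw [hg.1, AddSubgroup.coe_add, AddSubgroup.coe_add, sqNorm_add, sqNorm_add, hg.2 v, hg.2 w] at h1
  omega

end Cfsg.Agent.Lib.Helper1.LeechAut
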