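import Mathlib
import Cfsg.Agent.Lib.Helper1.LeechAut

set_option autoImplicit false

namespace Cfsg.Agent.Lib.Helper1.LeechAut

open Cfsg Cfsg.Agent.Lib.Helper1.LeechCross

theorem basis_separates : ∀ i j : GolayPt, i ≠ j →
    ∃ k < 12, (bTab k).testBit (gIdx i) ≠ (bTab k).testBit (gIdx j) := by
  decide

theorem bTab_mem (k : ℕ) (hk : k < 12) : ofMask (bTab k) ∈ golayCode := by
  rw [golayCode_eq_span]
  exact Submodule.subset_span ⟨k, hk, rfl⟩

theorem separate (i j : GolayPt) (h : i ≠ j) : ∃ c ∈ gC, j ∈ c ∧ i ∉ c := by
  obtain ⟨k, hk, hne⟩ := basis_separates i j h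
  have hc : support₂ (ofMask (bTab k)) ∈ gC := ⟨_, bTab_mem k hk, rfl⟩
  have hmem : ∀ p, p ∈ support₂ (ofMask (bTab k)) ↔ (bTab k).testBit (gIdx p) = true := by
    intro p
    simp only [support₂, Finset.mem_filter, Finset.mem_univ, true_and]
    exact ofMask_ne_zero_iff _ _
  by_cases hj : (bTab k).testBit (gIdx j) = true
  · refine ⟨_, hc, (hmem j).mpr hj, ?_⟩
    rw [hmem]
    intro hi
    exact hne (hi.trans hj.symm)
  · refine ⟨_, gC_compl hc, ?_, ?_⟩
    · rw [Finset.mem_compl, hmem]; exact hj
    · rw [Finset.mem_compl, hmem, not_not]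
      cases hb : (bTab k).testBit (gIdx i)
      · exfalso
        apply hne
        rw [hb]
        cases hb' : (bTab k).testBit (gIdx j)
        · rfl
        · exact absurd hb' hj
      · rfl

/-- the lattice vector `8 e_i` -/
noncomputable def UU (i : GolayPt) : leechLattice := ⟨uu i, uu_mem i⟩

theorem map_zero' {g : Equiv.Perm leechLattice} (hg : g ∈ Co0) : g 0 = 0 := by
  have := hg.1 0 0
  rw [add_zero] at this
  exact left_eq_add.mp this

theorem map_neg' {g : Equiv.Perm leechLattice} (hg : g ∈ Co0) (v : leechLattice) :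
    g (-v) = -g v := by
  have := hg.1 (-v) v
  rw [neg_add_cancel, map_zero' hg] at this
  exact eq_neg_of_add_eq_zero_left this.symm

theorem negC_ne_one : negC ≠ 1 := by
  intro h
  have h1 : negC • UU none = UU none := by rw [h, one_smul]
  have h2 := congrArg (fun v : leechLattice => (v : GolayPt → ℤ) none) h1
  simp only [negC_apply] at h2
  change -(uu none none) = uu none none at h2
  unfold uu at h2
  simp at h2

theorem negC_central : negC ∈ Subgroup.center Co0 := by
  rw [Subgroup.mem_center_iff]
  intro h
  apply Subtype.ext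
  apply Equiv.ext
  intro v
  show (h : Equiv.Perm leechLattice) ((negC : Equiv.Perm leechLattice) v) =
    (negC : Equiv.Perm leechLattice) ((h : Equiv.Perm leechLattice) v)
  have e1 : (negC : Equiv.Perm leechLattice) v = -v := Subtype.ext (negC_apply v)
  have e2 : (negC : Equiv.Perm leechLattice) ((h : Equiv.Perm leechLattice) v) =
      -((h : Equiv.Perm leechLattice) v) := Subtype.ext (negC_apply _)
  rw [e1, e2, map_neg' h.2]

/-- a central automorphism is the identity or negation -/
theorem central_cases (g : Co0) (hg : g ∈ Subgroup.center Co0) : g = 1 ∨ g = negC := by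
  rw [Subgroup.mem_center_iff] at hg
  set γ : Equiv.Perm leechLattice := (g : Equiv.Perm leechLattice) with hγ
  have hγmem : γ ∈ Co0 := g.2
  -- commutation with an element, applied to a vector
  have hcomm : ∀ (h : Co0) (v : leechLattice),
      (h : Equiv.Perm leechLattice) (γ v) = γ ((h : Equiv.Perm leechLattice) v) := by
    intro h v
    have := congrArg (fun k : Co0 => (k : Equiv.Perm leechLattice) v) (hg h)
    exact this
  -- the image of `8 e_i` is supported at `i`
  have hsupp : ∀ i j, j ≠ i → ((γ (UU i) : leechLattice) : GolayPt → ℤ) j = 0 := by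
    intro i j hji
    obtain ⟨c, hc, hjc, hic⟩ := separate i j (Ne.symm hji)
    have h1 := hcomm (epsC c hc) (UU i)
    have h2 : ((epsC c hc : Co0) : Equiv.Perm leechLattice) (UU i) = UU i := by
      apply Subtype.ext
      show epsF c (uu i) = uu i
      ext p
      unfold epsF uu
      by_cases hp : p ∈ c
      · have : p ≠ i := fun e => hic (e ▸ hp)
        simp [hp, this]
      · simp [hp]
    rw [h2] at h1
    have h3 := congrArg (fun v : leechLattice => (v : GolayPt → ℤ) j) h1
    change epsF c ((γ (UU i) : leechLattice) : GolayPt → ℤ) j = _ at h3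
    unfold epsF at h3
    simp only [hjc, if_true] at h3
    omega
  -- the diagonal entries
  have hdiag : ∀ i, ((γ (UU i) : leechLattice) : GolayPt → ℤ) i = 8 ∨
      ((γ (UU i) : leechLattice) : GolayPt → ℤ) i = -8 := by
    intro i
    have h1 := hγmem.2 (UU i)
    change sqNorm ((γ (UU i) : leechLattice) : GolayPt → ℤ) = sqNorm (uu i) at h1
    rw [sqNorm_uu] at h1
    unfold sqNorm at h1
    rw [Finset.sum_eq_single i] at h1
    · have : (((γ (UU i) : leechLattice) : GolayPt → ℤ) i - 8) *
          (((γ (UU i) : leechLattice) : GolayPt → ℤ) i + 8) = 0 := by nlinarith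
      rcases mul_eq_zero.mp this with h | h
      · left; omega
      · right; omega
    · intro j _ hji
      rw [hsupp i j hji]
      norm_num
    · intro h; exact absurd (Finset.mem_univ i) h
  -- the action is diagonal
  have hact : ∀ (v : leechLattice) (i : GolayPt),
      ((γ v : leechLattice) : GolayPt → ℤ) i * ((γ (UU i) : leechLattice) : GolayPt → ℤ) i =
        8 * (v : GolayPt → ℤ) i := by
    intro v i
    have h1 := dot_preserved hγmem v (UU i)
    change dotInt ((γ v : leechLattice) : GolayPt → ℤ) ((γ (UU i) : leechLattice) : GolayPt → ℤ) =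
      dotInt (v : GolayPt → ℤ) (uu i) at h1
    rw [dotInt_uu] at h1
    unfold dotInt at h1
    rw [Finset.sum_eq_single i] at h1
    · exact h1
    · intro j _ hji
      rw [hsupp i j hji, mul_zero]
    · intro h; exact absurd (Finset.mem_univ i) h
  -- the sign is constant
  have hconst : ∀ i j, ((γ (UU i) : leechLattice) : GolayPt → ℤ) i =
      ((γ (UU j) : leechLattice) : GolayPt → ℤ) j := by
    intro i j
    have := Cfsg.Agent.Lib.Helper1.M24.transitive
    obtain ⟨σ, hσ⟩ := MulAction.exists_smul_eq M24 i j
    have hσ' : (σ : Equiv.Perm GolayPt) i = j := hσ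
    let V : leechLattice := Cfsg.Spor.leechV
    have h1 := hcomm (permC σ σ.2) V
    have h2 := congrArg (fun v : leechLattice => (v : GolayPt → ℤ) i) h1
    change permF σ ((γ V : leechLattice) : GolayPt → ℤ) i =
      ((γ ((permC σ σ.2 : Co0) • V) : leechLattice) : GolayPt → ℤ) i at h2
    unfold permF at h2
    rw [hσ'] at h2
    have h3 := hact V j
    have h4 := hact ((permC σ σ.2 : Co0) • V) i
    rw [permC_apply] at h4
    unfold permF at h4
    rw [hσ'] at h4
    have hVj : ((V : leechLattice) : GolayPt → ℤ) j ≠ 0 := by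
      show Cfsg.Spor.vecV j ≠ 0
      unfold Cfsg.Spor.vecV
      split_ifs <;> norm_num
    rw [← h2] at h4
    rcases hdiag i with hi | hi <;> rcases hdiag j with hj | hj
    · rw [hi, hj]
    · exfalso
      rw [hi] at h4; rw [hj] at h3
      apply hVj
      omega
    · exfalso
      rw [hi] at h4; rw [hj] at h3
      apply hVj
      omega
    · rw [hi, hj]
  rcases hdiag none with h8 | h8
  · left
    apply Subtype.ext
    apply Equiv.ext
    intro v
    apply Subtype.ext
    ext i
    have h1 := hact v i
    rw [hconst i none, h8] at h1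
    show ((γ v : leechLattice) : GolayPt → ℤ) i = _
    simp only [Subgroup.coe_one, Equiv.Perm.coe_one, id_eq]
    omega
  · right
    apply Subtype.ext
    apply Equiv.ext
    intro v
    apply Subtype.ext
    ext i
    have h1 := hact v i
    rw [hconst i none, h8] at h1
    show ((γ v : leechLattice) : GolayPt → ℤ) i = ((negC • v : leechLattice) : GolayPt → ℤ) i
    rw [negC_apply, Pi.neg_apply]
    omega

theorem card_center : Nat.card (Subgroup.center Co0) = 2 := by
  rw [Nat.card_eq_two_iff]
  refine ⟨⟨1, Subgroup.one_mem _⟩, ⟨negC, negC_central⟩, ?_, ?_⟩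
  · intro h
    exact negC_ne_one (Subtype.ext_iff.mp h).symm
  · ext z
    simp only [Set.mem_insert_iff, Set.mem_singleton_iff, Set.mem_univ, iff_true]
    rcases central_cases z.1 z.2 with h | h
    · left; exact Subtype.ext h
    · right; exact Subtype.ext h

end Cfsg.Agent.Lib.Helper1.LeechAut
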