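import Mathlib
import Cfsg.Agent.Lib.Helper1.LeechCenter

set_option autoImplicit false

namespace Cfsg.Agent.Lib.Helper1.LeechChk

open Cfsg

/-- certificate check for lattice membership: parity `m`, code indices of the four level sets -/
def chk (x : GolayPt → ℤ) (m : ℤ) (c0 c1 c2 c3 : ℕ) : Bool :=
  decide (∀ p : GolayPt, x p % 2 = m % 2) && decide ((∑ p, x p) % 8 = (4 * m) % 8) &&
  decide (c0 < 4096 ∧ c1 < 4096 ∧ c2 < 4096 ∧ c3 < 4096) &&
  decide (∀ p : GolayPt, ((x p % 4 = 0) ↔ (cw c0).testBit (gIdx p) = true) ∧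
    ((x p % 4 = 1) ↔ (cw c1).testBit (gIdx p) = true) ∧
    ((x p % 4 = 2) ↔ (cw c2).testBit (gIdx p) = true) ∧
    ((x p % 4 = 3) ↔ (cw c3).testBit (gIdx p) = true))

theorem support_cw_mem {c : ℕ} (hc : c < 4096) : support₂ (ofMask (cw c)) ∈ gC :=
  ⟨ofMask (cw c), (mem_golayCode_iff _).mpr ⟨c, hc, rfl⟩, rfl⟩

theorem chk_sound {x : GolayPt → ℤ} {m : ℤ} {c0 c1 c2 c3 : ℕ} (h : chk x m c0 c1 c2 c3 = true) :
    x ∈ leechLattice := by
  unfold chk at h
  simp only [Bool.and_eq_true, decide_eq_true_eq] at h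
  obtain ⟨⟨⟨h1, h2⟩, hc0, hc1, hc2, hc3⟩, h4⟩ := h
  rw [mem_leechLattice_iff]
  refine ⟨m, fun p => h1 p, h2, fun k => ?_⟩
  show lvl x k ∈ gC
  have key : ∀ (r : ℤ) (c : ℕ), c < 4096 → k % 4 = r →
      (∀ p : GolayPt, (x p % 4 = r) ↔ (cw c).testBit (gIdx p) = true) → lvl x k ∈ gC := by
    intro r c hc hk hp
    have : lvl x k = support₂ (ofMask (cw c)) := by
      ext p
      rw [mem_lvl_iff, hk, hp p]
      simp only [support₂, Finset.mem_filter, Finset.mem_univ, true_and]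
      exact (ofMask_ne_zero_iff _ _).symm
    rw [this]
    exact support_cw_mem hc
  have hk : k % 4 = 0 ∨ k % 4 = 1 ∨ k % 4 = 2 ∨ k % 4 = 3 := by omega
  rcases hk with hk | hk | hk | hk
  · exact key 0 c0 hc0 hk (fun p => (h4 p).1)
  · exact key 1 c1 hc1 hk (fun p => (h4 p).2.1)
  · exact key 2 c2 hc2 hk (fun p => (h4 p).2.2.1)
  · exact key 3 c3 hc3 hk (fun p => (h4 p).2.2.2)

end Cfsg.Agent.Lib.Helper1.LeechChk
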