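import Mathlib
import Cfsg.Agent.Lib.Helper1.LeechCenter

set_option autoImplicit false

namespace Cfsg.Agent.Lib.Helper1.LeechGen

open Cfsg Cfsg.Agent.Lib.Helper1.LeechCross Cfsg.Agent.Lib.Helper1.LeechIndex
  Cfsg.Agent.Lib.Helper1.LeechAut

/-- the minimal vectors -/
def Mn : Set (GolayPt → ℤ) := {x | x ∈ leechLattice ∧ sqNorm x = 32}

/-- the subgroup they generate -/
noncomputable def MM' : AddSubgroup (GolayPt → ℤ) := AddSubgroup.closure Mn

theorem MM'_le : MM' ≤ leechLattice := by
  unfold MM'
  rw [AddSubgroup.closure_le]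
  intro x hx
  exact hx.1

/-- `4 e_i + s 4 e_j` -/
def pm (s : ℤ) (i j : GolayPt) : GolayPt → ℤ :=
  fun p => (if p = i then 4 else 0) + s * (if p = j then 4 else 0)

theorem sum_pm (s : ℤ) (i j : GolayPt) : ∑ p, pm s i j p = 4 + 4 * s := by
  unfold pm
  rw [Finset.sum_add_distrib, ← Finset.mul_sum, Finset.sum_ite_eq' Finset.univ i (fun _ => (4 : ℤ)),
    Finset.sum_ite_eq' Finset.univ j (fun _ => (4 : ℤ))]
  simp
  ring

theorem pm_mem_Mn (s : ℤ) (hs : s = 1 ∨ s = -1) (i j : GolayPt) (hij : i ≠ j) :
    pm s i j ∈ Mn := by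
  constructor
  · rw [mem_leechLattice_iff]
    apply Cfsg.Spor.mem_leechSet_of_const_mod_four (pm s i j) 0 0 (by rfl)
    · intro p
      unfold pm
      simp only [Int.ModEq]
      rcases hs with rfl | rfl <;> split_ifs <;> norm_num
    · rw [sum_pm]
      simp only [Int.ModEq]
      rcases hs with rfl | rfl <;> norm_num
  · unfold sqNorm pm
    have : ∀ p, ((if p = i then (4 : ℤ) else 0) + s * (if p = j then 4 else 0)) ^ 2 =
        (if p = i then 16 else 0) + (if p = j then 16 else 0) := by
      intro p
      by_cases h1 : p = i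
      · have h2 : p ≠ j := fun e => hij (h1.symm.trans e)
        simp [h1, h2, hij]
      · by_cases h2 : p = j
        · have hji : j ≠ i := hij.symm
          subst h2
          simp only [hji, if_true, if_false]
          rcases hs with rfl | rfl <;> norm_num
        · simp [h1, h2]
    simp only [this]
    rw [Finset.sum_add_distrib, Finset.sum_ite_eq' Finset.univ i (fun _ => (16 : ℤ)),
      Finset.sum_ite_eq' Finset.univ j (fun _ => (16 : ℤ))]
    simp

theorem pm_mem (s : ℤ) (hs : s = 1 ∨ s = -1) (i j : GolayPt) (hij : i ≠ j) : pm s i j ∈ MM' :=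
  AddSubgroup.subset_closure (pm_mem_Mn s hs i j hij)

/-- `8 e_i ∈ M` -/
theorem uu_mem_MM' (i : GolayPt) : uu i ∈ MM' := by
  obtain ⟨j, hj⟩ : ∃ j : GolayPt, i ≠ j := by
    by_cases h : i = none
    · exact ⟨some 0, by rw [h]; decide⟩
    · exact ⟨none, h⟩
  have h1 := pm_mem 1 (Or.inl rfl) i j hj
  have h2 := pm_mem (-1) (Or.inr rfl) i j hj
  have : uu i = pm 1 i j + pm (-1) i j := by
    ext p
    unfold uu pm
    simp only [Pi.add_apply]
    split_ifs <;> ring
  rw [this]
  exact MM'.add_mem h1 h2

/-- vectors `4 z` with the sum of `z` even -/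
theorem four_mul_mem (z : GolayPt → ℤ) (t : ℤ) (ht : ∑ i, z i = 2 * t) :
    (fun p => 4 * z p) ∈ MM' := by
  have hm : ∀ i : GolayPt, pm (-1) i none ∈ MM' ∨ i = none := by
    intro i
    by_cases h : i = none
    · exact Or.inr h
    · exact Or.inl (pm_mem (-1) (Or.inr rfl) i none h)
  have hterm : ∀ i : GolayPt, z i • pm (-1) i none ∈ MM' := by
    intro i
    rcases hm i with h | h
    · exact MM'.zsmul_mem h _
    · have : pm (-1) i none = 0 := by
        ext p
        unfold pm
        rw [h, Pi.zero_apply]
        split_ifs <;> norm_num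
      rw [this, smul_zero]
      exact MM'.zero_mem
  have hsum : ∑ i, z i • pm (-1) i none ∈ MM' := MM'.sum_mem (fun i _ => hterm i)
  have hu : t • uu none ∈ MM' := MM'.zsmul_mem (uu_mem_MM' none) _
  have : (fun p => 4 * z p) = ∑ i, z i • pm (-1) i none + t • uu none := by
    ext p
    rw [Pi.add_apply, Finset.sum_apply, Pi.smul_apply]
    simp only [Pi.smul_apply, smul_eq_mul]
    unfold pm uu
    have e : ∀ i : GolayPt, z i * ((if p = i then (4 : ℤ) else 0) + -1 * (if p = none then 4 else 0)) =
        (if p = i then 4 * z i else 0) - (if p = none then 4 else 0) * z i := by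
      intro i
      split_ifs <;> ring
    simp only [e]
    rw [Finset.sum_sub_distrib, ← Finset.mul_sum, ht,
      Finset.sum_ite_eq Finset.univ p (fun i => 4 * z i)]
    simp only [Finset.mem_univ, if_true]
    split_ifs <;> ring
  rw [this]
  exact MM'.add_mem hsum hu

/-- doubles of even vectors of `K` are generated -/
theorem zero_case (y : GolayPt → ℤ) (hy : y ∈ K) (hr : red y = 0) : dbl y ∈ MM' := by
  have hev : ∀ i, y i % 2 = 0 := (mem_ker_red y).mp hr
  rw [mem_K] at hy
  obtain ⟨u, hu⟩ := hy.1
  have hz : ∑ i, y i / 2 = 2 * u := by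
    have : ∑ i, y i = 2 * ∑ i, y i / 2 := by
      rw [Finset.mul_sum]
      apply Finset.sum_congr rfl
      intro i _
      have := hev i
      omega
    omega
  have := four_mul_mem (fun i => y i / 2) u hz
  have e : dbl y = fun p => 4 * (y p / 2) := by
    ext p
    rw [dbl_apply]
    have := hev p
    omega
  rw [e]
  exact this

/-- canonical lift of a binary word -/
def lift (w : GolayPt → ZMod 2) : GolayPt → ℤ := fun i => ((w i).val : ℤ)

theorem red_lift (w : GolayPt → ZMod 2) : red (lift w) = w := by
  ext i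
  rw [red_apply]
  unfold lift
  simp

theorem sum_lift (w : GolayPt → ZMod 2) : ∑ i, lift w i = ((support₂ w).card : ℤ) := by
  unfold lift support₂
  rw [Finset.card_filter]
  push_cast
  apply Finset.sum_congr rfl
  intro i _
  generalize w i = a
  revert a
  decide

theorem lift_mem_K {w : GolayPt → ZMod 2} (hw : w ∈ golayCode) : lift w ∈ K := by
  rw [mem_K, red_lift, sum_lift]
  refine ⟨?_, hw⟩
  have h1 : support₂ w ∈ gC := ⟨w, hw, rfl⟩
  obtain ⟨k, hk⟩ := gC_card_dvd h1
  exact ⟨k, by rw [hk]; push_cast; ring⟩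

/-- twice the indicator of a basis octad is a minimal vector -/
theorem basis_mem (k : ℕ) (hk : k < 12) : dbl (lift (ofMask (bTab k))) ∈ MM' := by
  apply AddSubgroup.subset_closure
  have hK := lift_mem_K (bTab_mem k hk)
  refine ⟨?_, ?_⟩
  · rw [mem_leechLattice_iff]
    exact dbl_mem_leechSet hK
  · rw [sqNorm_dbl]
    have h1 : sqNorm (lift (ofMask (bTab k))) = ∑ i, lift (ofMask (bTab k)) i := by
      unfold sqNorm
      apply Finset.sum_congr rfl
      intro i _
      unfold lift
      generalize ofMask (bTab k) i = a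
      revert a
      decide
    rw [h1, sum_lift, card_support₂_ofMask]
    have : popcN 24 (bTab k) = 8 := by
      interval_cases k <;> decide
    rw [this]
    norm_num

theorem code_case (w : GolayPt → ZMod 2) (hw : w ∈ golayCode) : dbl (lift w) ∈ MM' := by
  have hw' := hw
  rw [golayCode_eq_span] at hw
  induction hw using Submodule.span_induction with
  | mem x hx =>
    obtain ⟨k, hk, rfl⟩ := hx
    exact basis_mem k hk
  | zero =>
    have : lift 0 = 0 := by
      ext i
      unfold lift
      simp
    rw [this, map_zero]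
    exact MM'.zero_mem
  | add x y hx hy ihx ihy =>
    have hx' : x ∈ golayCode := by rw [golayCode_eq_span]; exact hx
    have hy' : y ∈ golayCode := by rw [golayCode_eq_span]; exact hy
    have h1 := ihx hx'
    have h2 := ihy hy'
    have hd : lift (x + y) - lift x - lift y ∈ K :=
      K.sub_mem (K.sub_mem (lift_mem_K hw') (lift_mem_K hx')) (lift_mem_K hy')
    have hr : red (lift (x + y) - lift x - lift y) = 0 := by
      rw [map_sub, map_sub, red_lift, red_lift, red_lift]
      abel
    have h3 := zero_case _ hd hr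
    have : dbl (lift (x + y)) = dbl (lift (x + y) - lift x - lift y) + dbl (lift x) + dbl (lift y) := by
      rw [← map_add, ← map_add]
      congr 1
      abel
    rw [this]
    exact MM'.add_mem (MM'.add_mem h3 h1) h2
  | smul a x hx ihx =>
    have hx' : x ∈ golayCode := by rw [golayCode_eq_span]; exact hx
    have ha' : ∀ b : ZMod 2, b = 0 ∨ b = 1 := by decide
    rcases ha' a with rfl | rfl
    · rw [zero_smul]
      have : lift 0 = 0 := by
        ext i
        unfold lift
        simp
      rw [this, map_zero]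
      exact MM'.zero_mem
    · rw [one_smul]
      exact ihx hx'

/-- even lattice vectors are generated -/
theorem even_case (x : GolayPt → ℤ) (hx : x ∈ leechLattice) (hev : ∀ i, x i % 2 = 0) :
    x ∈ MM' := by
  have h1 : x ∈ leechLattice ⊓ red.ker := ⟨hx, (mem_ker_red x).mpr hev⟩
  rw [inf_ker_eq] at h1
  obtain ⟨y, hy, rfl⟩ := h1
  have hw : red y ∈ golayCode := ((mem_K y).mp hy).2
  have h2 := code_case (red y) hw
  have hd : y - lift (red y) ∈ K := K.sub_mem hy (lift_mem_K hw)
  have hr : red (y - lift (red y)) = 0 := by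
    rw [map_sub, red_lift, sub_self]
  have h3 := zero_case _ hd hr
  have : dbl y = dbl (y - lift (red y)) + dbl (lift (red y)) := by
    rw [← map_add]
    congr 1
    abel
  rw [this]
  exact MM'.add_mem h3 h2

/-- the vector (-3, 1^23) -/
def w₀ : GolayPt → ℤ := fun p => if p = none then -3 else 1

theorem w₀_mem_Mn : w₀ ∈ Mn := by
  constructor
  · rw [mem_leechLattice_iff]
    exact Cfsg.Spor.mem_leechSet_of_const_mod_four w₀ 1 1 (by rfl) (by decide) (by decide)
  · unfold sqNorm
    decide

theorem closure_eq : MM' = leechLattice := by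
  apply le_antisymm MM'_le
  intro x hx
  obtain ⟨m, hm1, _, _⟩ := (mem_leechLattice_iff x).mp hx
  simp only [Int.ModEq] at hm1
  rcases Int.emod_two_eq_zero_or_one m with hm | hm
  · apply even_case x hx
    intro i
    have := hm1 i
    omega
  · have hw := w₀_mem_Mn
    have h1 : x - w₀ ∈ MM' := by
      apply even_case _ (leechLattice.sub_mem hx hw.1)
      intro i
      rw [Pi.sub_apply]
      have := hm1 i
      unfold w₀
      split_ifs <;> omega
    have : x = (x - w₀) + w₀ := by abel
    rw [this]
    exact MM'.add_mem h1 (AddSubgroup.subset_closure hw)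

end Cfsg.Agent.Lib.Helper1.LeechGen
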