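import Mathlib
import Cfsg.Agent.Lib.Helper1.LeechGen

set_option autoImplicit false

namespace Cfsg.Agent.Lib.Helper1.LeechGen

open Cfsg Cfsg.Agent.Lib.Helper1.LeechCross Cfsg.Agent.Lib.Helper1.LeechIndex
  Cfsg.Agent.Lib.Helper1.LeechAut

section
variable (M : AddSubgroup (GolayPt → ℤ))
  (h1 : ∀ i : GolayPt, i ≠ none → pm (-1) i none ∈ M)
  (h2 : pm 1 none (some 0) ∈ M) (h3 : pm (-1) none (some 0) ∈ M)
  (h4 : ∀ k < 12, dbl (lift (ofMask (bTab k))) ∈ M) (h5 : w₀ ∈ M)

include h2 h3 in
theorem uu_none_mem : uu none ∈ M := by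
  have : uu none = pm 1 none (some 0) + pm (-1) none (some 0) := by
    ext p
    unfold uu pm
    simp only [Pi.add_apply]
    split_ifs <;> ring
  rw [this]
  exact M.add_mem h2 h3

include h1 h2 h3 in
theorem four_mul_mem' (z : GolayPt → ℤ) (t : ℤ) (ht : ∑ i, z i = 2 * t) :
    (fun p => 4 * z p) ∈ M := by
  have hterm : ∀ i : GolayPt, z i • pm (-1) i none ∈ M := by
    intro i
    by_cases h : i = none
    · have : pm (-1) i none = 0 := by
        ext p
        unfold pm
        rw [h, Pi.zero_apply]
        split_ifs <;> norm_num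
      rw [this, smul_zero]
      exact M.zero_mem
    · exact M.zsmul_mem (h1 i h) _
  have hsum : ∑ i, z i • pm (-1) i none ∈ M := M.sum_mem (fun i _ => hterm i)
  have hu : t • uu none ∈ M := M.zsmul_mem (uu_none_mem M h2 h3) _
  have : (fun p => 4 * z p) = ∑ i, z i • pm (-1) i none + t • uu none := by
    ext p
    rw [Pi.add_apply, Finset.sum_apply, Pi.smul_apply]
    simp only [Pi.smul_apply, smul_eq_mul]
    unfold pm uu
    have e : ∀ i : GolayPt, z i * ((if p = i then (4 : ℤ) else 0) + -1 * (if p = none then 4 else 0)) =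
        (if p = i then 4 * z i else 0) - (if p = none then 4 else 0) * z i := by
      intro i
      split_ifs <;> ring
    simp only [e]
    rw [Finset.sum_sub_distrib, ← Finset.mul_sum, ht,
      Finset.sum_ite_eq Finset.univ p (fun i => 4 * z i)]
    simp only [Finset.mem_univ, if_true]
    split_ifs <;> ring
  rw [this]
  exact M.add_mem hsum hu

include h1 h2 h3 in
theorem zero_case' (y : GolayPt → ℤ) (hy : y ∈ K) (hr : red y = 0) : dbl y ∈ M := by
  have hev : ∀ i, y i % 2 = 0 := (mem_ker_red y).mp hr
  rw [mem_K] at hy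
  obtain ⟨u, hu⟩ := hy.1
  have hz : ∑ i, y i / 2 = 2 * u := by
    have : ∑ i, y i = 2 * ∑ i, y i / 2 := by
      rw [Finset.mul_sum]
      apply Finset.sum_congr rfl
      intro i _
      have := hev i
      omega
    omega
  have := four_mul_mem' M h1 h2 h3 (fun i => y i / 2) u hz
  have e : dbl y = fun p => 4 * (y p / 2) := by
    ext p
    rw [dbl_apply]
    have := hev p
    omega
  rw [e]
  exact this

include h1 h2 h3 h4 in
theorem code_case' (w : GolayPt → ZMod 2) (hw : w ∈ golayCode) : dbl (lift w) ∈ M := by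
  have hw' := hw
  rw [golayCode_eq_span] at hw
  induction hw using Submodule.span_induction with
  | mem x hx =>
    obtain ⟨k, hk, rfl⟩ := hx
    exact h4 k hk
  | zero =>
    have : lift 0 = 0 := by
      ext i
      unfold lift
      simp
    rw [this, map_zero]
    exact M.zero_mem
  | add x y hx hy ihx ihy =>
    have hx' : x ∈ golayCode := by rw [golayCode_eq_span]; exact hx
    have hy' : y ∈ golayCode := by rw [golayCode_eq_span]; exact hy
    have g1 := ihx hx'
    have g2 := ihy hy'
    have hd : lift (x + y) - lift x - lift y ∈ K :=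
      K.sub_mem (K.sub_mem (lift_mem_K hw') (lift_mem_K hx')) (lift_mem_K hy')
    have hr : red (lift (x + y) - lift x - lift y) = 0 := by
      rw [map_sub, map_sub, red_lift, red_lift, red_lift]
      abel
    have g3 := zero_case' M h1 h2 h3 _ hd hr
    have : dbl (lift (x + y)) = dbl (lift (x + y) - lift x - lift y) + dbl (lift x) + dbl (lift y) := by
      rw [← map_add, ← map_add]
      congr 1
      abel
    rw [this]
    exact M.add_mem (M.add_mem g3 g1) g2
  | smul a x hx ihx =>
    have hx' : x ∈ golayCode := by rw [golayCode_eq_span]; exact hx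
    have ha' : ∀ b : ZMod 2, b = 0 ∨ b = 1 := by decide
    rcases ha' a with rfl | rfl
    · rw [zero_smul]
      have : lift 0 = 0 := by
        ext i
        unfold lift
        simp
      rw [this, map_zero]
      exact M.zero_mem
    · rw [one_smul]
      exact ihx hx'

include h1 h2 h3 h4 in
theorem even_case' (x : GolayPt → ℤ) (hx : x ∈ leechLattice) (hev : ∀ i, x i % 2 = 0) :
    x ∈ M := by
  have g1 : x ∈ leechLattice ⊓ red.ker := ⟨hx, (mem_ker_red x).mpr hev⟩
  rw [inf_ker_eq] at g1
  obtain ⟨y, hy, rfl⟩ := g1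
  have hw : red y ∈ golayCode := ((mem_K y).mp hy).2
  have g2 := code_case' M h1 h2 h3 h4 (red y) hw
  have hd : y - lift (red y) ∈ K := K.sub_mem hy (lift_mem_K hw)
  have hr : red (y - lift (red y)) = 0 := by
    rw [map_sub, red_lift, sub_self]
  have g3 := zero_case' M h1 h2 h3 _ hd hr
  have : dbl y = dbl (y - lift (red y)) + dbl (lift (red y)) := by
    rw [← map_add]
    congr 1
    abel
  rw [this]
  exact M.add_mem g3 g2

include h1 h2 h3 h4 h5 in
/-- the lattice is generated by 38 explicit vectors -/
theorem le_of_gens : leechLattice ≤ M := by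
  intro x hx
  obtain ⟨m, hm1, _, _⟩ := (mem_leechLattice_iff x).mp hx
  simp only [Int.ModEq] at hm1
  rcases Int.emod_two_eq_zero_or_one m with hm | hm
  · apply even_case' M h1 h2 h3 h4 x hx
    intro i
    have := hm1 i
    omega
  · have hw := w₀_mem_Mn
    have g1 : x - w₀ ∈ M := by
      apply even_case' M h1 h2 h3 h4 _ (leechLattice.sub_mem hx hw.1)
      intro i
      rw [Pi.sub_apply]
      have := hm1 i
      unfold w₀
      split_ifs <;> omega
    have : x = (x - w₀) + w₀ := by abel
    rw [this]
    exact M.add_mem g1 h5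

end

end Cfsg.Agent.Lib.Helper1.LeechGen
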