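import Mathlib
import Cfsg.Agent.Lib.Helper1.LeechCenter

set_option autoImplicit false

namespace Cfsg.Agent.Lib.Helper1.LeechXi

open Cfsg Cfsg.Agent.Lib.Helper1.LeechCross Cfsg.Agent.Lib.Helper1.LeechAut

/-- the tetrad index of each coordinate (a sextet) -/
def blkTab : List ℕ := [0,0,0,2,1,2,3,3,5,4,4,5,5,1,2,4,1,2,5,3,4,3,1,0]

def blk (p : GolayPt) : ℕ := blkTab.getD (gIdx p) 0

theorem blk_card : ∀ p : GolayPt, (Finset.univ.filter (fun q => blk q = blk p)).card = 4 := by
  decide

/-- the sum over the tetrad of `p` -/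
def bsum (x : GolayPt → ℤ) (p : GolayPt) : ℤ := ∑ q, if blk q = blk p then x q else 0

def sgn (p : GolayPt) : ℤ := if blk p = 0 then -1 else 1

theorem sgn_sq (p : GolayPt) : sgn p * sgn p = 1 := by
  unfold sgn; split_ifs <;> norm_num

theorem sgn_congr {p q : GolayPt} (h : blk q = blk p) : sgn q = sgn p := by
  unfold sgn; rw [h]

theorem bsum_congr (x : GolayPt → ℤ) {p q : GolayPt} (h : blk q = blk p) : bsum x q = bsum x p := by
  unfold bsum; rw [h]

/-- the extra automorphism -/
def xiF (x : GolayPt → ℤ) : GolayPt → ℤ := fun p => sgn p * (bsum x p / 2 - x p)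

/-- tetrad sums are even -/
def Ev (x : GolayPt → ℤ) : Prop := ∀ p, bsum x p % 2 = 0

theorem bsum_add (x y : GolayPt → ℤ) (p : GolayPt) : bsum (x + y) p = bsum x p + bsum y p := by
  unfold bsum
  rw [← Finset.sum_add_distrib]
  apply Finset.sum_congr rfl
  intro q _
  rw [Pi.add_apply]
  split_ifs <;> ring

theorem bsum_const (c : ℤ) (p : GolayPt) : bsum (fun _ => c) p = 4 * c := by
  unfold bsum
  rw [← Finset.sum_filter, Finset.sum_const, blk_card]
  simp

theorem Ev_of_parity {x : GolayPt → ℤ} {m : ℤ} (h : ∀ p, x p % 2 = m % 2) : Ev x := by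
  intro p
  have h1 : bsum x p = bsum (fun _ => m) p + bsum (fun q => x q - m) p := by
    rw [← bsum_add]
    congr 1
    ext q
    simp
  have h2 : (2 : ℤ) ∣ bsum (fun q => x q - m) p := by
    unfold bsum
    apply Finset.dvd_sum
    intro q _
    split_ifs
    · show (2 : ℤ) ∣ x q - m
      have := h q
      omega
    · exact dvd_zero _
  rw [h1, bsum_const]
  omega

theorem Ev_of_mem {x : GolayPt → ℤ} (hx : x ∈ leechLattice) : Ev x := by
  obtain ⟨m, hm, _, _⟩ := (mem_leechLattice_iff x).mp hx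
  exact Ev_of_parity (fun p => hm p)

theorem xiF_add {x y : GolayPt → ℤ} (hx : Ev x) (hy : Ev y) : xiF (x + y) = xiF x + xiF y := by
  ext p
  unfold xiF
  rw [Pi.add_apply, Pi.add_apply, bsum_add]
  have h1 := hx p
  have h2 := hy p
  have : (bsum x p + bsum y p) / 2 = bsum x p / 2 + bsum y p / 2 := by omega
  rw [this]
  ring

/-- the tetrad sums of the image -/
theorem bsum_xiF {x : GolayPt → ℤ} (hx : Ev x) (p : GolayPt) :
    bsum (xiF x) p = sgn p * bsum x p := by
  have h1 : bsum (xiF x) p = ∑ q, if blk q = blk p then sgn p * (bsum x p / 2 - x q) else 0 := by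
    show (∑ q, if blk q = blk p then xiF x q else 0) = _
    apply Finset.sum_congr rfl
    intro q _
    split_ifs with h
    · show sgn q * (bsum x q / 2 - x q) = _
      rw [sgn_congr h, bsum_congr x h]
    · rfl
  have h2 : ∀ q, (if blk q = blk p then sgn p * (bsum x p / 2 - x q) else 0) =
      sgn p * ((if blk q = blk p then bsum x p / 2 else 0) - (if blk q = blk p then x q else 0)) := by
    intro q; split_ifs <;> ring
  rw [h1, Finset.sum_congr rfl (fun q _ => h2 q), ← Finset.mul_sum, Finset.sum_sub_distrib,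
    ← Finset.sum_filter, Finset.sum_const, blk_card]
  have h3 := hx p
  have : (∑ q, if blk q = blk p then x q else 0) = bsum x p := rfl
  rw [this]
  congr 1
  simp only [nsmul_eq_mul, Nat.cast_ofNat]
  omega

theorem Ev_xiF {x : GolayPt → ℤ} (hx : Ev x) : Ev (xiF x) := by
  intro p
  rw [bsum_xiF hx]
  have := hx p
  unfold sgn
  split_ifs <;> omega

theorem xiF_xiF {x : GolayPt → ℤ} (hx : Ev x) : xiF (xiF x) = x := by
  ext p
  have h1 : xiF (xiF x) p = sgn p * (bsum (xiF x) p / 2 - xiF x p) := rfl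
  rw [h1, bsum_xiF hx]
  have h2 : xiF x p = sgn p * (bsum x p / 2 - x p) := rfl
  rw [h2]
  have h3 := hx p
  have h4 : sgn p * bsum x p / 2 = sgn p * (bsum x p / 2) := by
    unfold sgn
    split_ifs <;> omega
  rw [h4]
  have := sgn_sq p
  calc sgn p * (sgn p * (bsum x p / 2) - sgn p * (bsum x p / 2 - x p))
      = (sgn p * sgn p) * x p := by ring
    _ = x p := by rw [this, one_mul]

/-- a weight constant on tetrads against a vector -/
theorem four_mul_sum (c : GolayPt → ℤ) (hc : ∀ p q, blk q = blk p → c q = c p) (y : GolayPt → ℤ) :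
    4 * ∑ p, c p * y p = ∑ p, c p * bsum y p := by
  have h1 : ∑ p, c p * bsum y p = ∑ p, ∑ q, if blk q = blk p then c q * y q else 0 := by
    apply Finset.sum_congr rfl
    intro p _
    unfold bsum
    rw [Finset.mul_sum]
    apply Finset.sum_congr rfl
    intro q _
    split_ifs with h
    · rw [hc p q h]
    · rw [mul_zero]
  rw [h1, Finset.sum_comm]
  rw [Finset.mul_sum]
  apply Finset.sum_congr rfl
  intro q _
  have h2 : ∀ p, (if blk q = blk p then c q * y q else 0) =
      if blk p = blk q then c q * y q else 0 := by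
    intro p
    by_cases h : blk q = blk p
    · rw [if_pos h, if_pos h.symm]
    · rw [if_neg h, if_neg (fun e => h e.symm)]
  rw [Finset.sum_congr rfl (fun p _ => h2 p), ← Finset.sum_filter, Finset.sum_const, blk_card]
  simp

theorem sqNorm_xiF {x : GolayPt → ℤ} (hx : Ev x) : sqNorm (xiF x) = sqNorm x := by
  have hc : ∀ p q, blk q = blk p → bsum x q / 2 = bsum x p / 2 := by
    intro p q h
    rw [bsum_congr x h]
  have h1 := four_mul_sum (fun p => bsum x p / 2) hc x
  have h2 : ∀ p, bsum x p / 2 * bsum x p = 2 * (bsum x p / 2) ^ 2 := by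
    intro p
    have := hx p
    have e : bsum x p = 2 * (bsum x p / 2) := by omega
    conv_lhs => rw [e]
    have e2 : 2 * (bsum x p / 2) / 2 = bsum x p / 2 := by omega
    rw [e2]
    ring
  rw [Finset.sum_congr rfl (fun p _ => h2 p), ← Finset.mul_sum] at h1
  unfold sqNorm
  have h3 : ∀ p, xiF x p ^ 2 = (bsum x p / 2) ^ 2 - 2 * (bsum x p / 2 * x p) + x p ^ 2 := by
    intro p
    have h4 : xiF x p = sgn p * (bsum x p / 2 - x p) := rfl
    rw [h4]
    have := sgn_sq p
    calc (sgn p * (bsum x p / 2 - x p)) ^ 2 = (sgn p * sgn p) * (bsum x p / 2 - x p) ^ 2 := by ring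
      _ = (bsum x p / 2 - x p) ^ 2 := by rw [this, one_mul]
      _ = _ := by ring
  rw [Finset.sum_congr rfl (fun p _ => h3 p), Finset.sum_add_distrib, Finset.sum_sub_distrib,
    ← Finset.mul_sum]
  omega

theorem xiF_zero : xiF 0 = 0 := by
  ext p
  unfold xiF bsum
  simp

theorem Ev_neg {x : GolayPt → ℤ} (hx : Ev x) : Ev (-x) := by
  intro p
  have h1 : bsum (-x) p = -bsum x p := by
    unfold bsum
    rw [← Finset.sum_neg_distrib]
    apply Finset.sum_congr rfl
    intro q _
    rw [Pi.neg_apply]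
    split_ifs <;> ring
  rw [h1]
  have := hx p
  omega

theorem xiF_neg {x : GolayPt → ℤ} (hx : Ev x) : xiF (-x) = -xiF x := by
  have h := xiF_add hx (Ev_neg hx)
  rw [add_neg_cancel, xiF_zero] at h
  exact (neg_eq_of_add_eq_zero_right h.symm).symm

end Cfsg.Agent.Lib.Helper1.LeechXi
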