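import Mathlib
import Cfsg.Agent.Lib.Helper1.LeechXi
import Cfsg.Agent.Lib.Helper1.LeechGen2
import Cfsg.Agent.Lib.Helper1.LeechChk

set_option autoImplicit false

namespace Cfsg.Agent.Lib.Helper1.LeechXi

open Cfsg Cfsg.Agent.Lib.Helper1.LeechCross Cfsg.Agent.Lib.Helper1.LeechAut
  Cfsg.Agent.Lib.Helper1.LeechGen Cfsg.Agent.Lib.Helper1.LeechIndex
  Cfsg.Agent.Lib.Helper1.LeechChk

def pmT0 : List ℕ := [4095, 4095, 4095, 2011, 1005, 2011, 1407, 1407, 1982, 1783, 1783, 1982, 1982,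
  1005, 2011, 1783, 1005, 2011, 1982, 1407, 1783, 1407, 1005]
def pmT2 : List ℕ := [0, 0, 0, 2084, 3090, 2084, 2688, 2688, 2113, 2312, 2312, 2113, 2113, 3090,
  2084, 2312, 3090, 2084, 2113, 2688, 2312, 2688, 3090]

set_option maxRecDepth 100000 in
theorem xi_pm_chk : ∀ t : ZMod 23,
    chk (xiF (pm (-1) (some t) none)) 0 (pmT0.getD t.val 0) 0 (pmT2.getD t.val 0) 0 = true := by
  decide +kernel

set_option maxRecDepth 100000 in
theorem xi_pm1_chk : chk (xiF (pm 1 none (some 0))) 0 4095 0 0 0 = true := by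
  decide +kernel

set_option maxRecDepth 100000 in
theorem xi_pm2_chk : chk (xiF (pm (-1) none (some 0))) 0 4095 0 0 0 = true := by
  decide +kernel

def bM : List ℤ := [1, 0, 0, 0, 0, 1, 0, 1, 1, 0, 1, 1]
def bC0 : List ℕ := [0, 906, 1111, 1086, 692, 0, 1370, 0, 0, 3602, 0, 0]
def bC1 : List ℕ := [4094, 0, 0, 0, 0, 2043, 0, 1535, 2039, 0, 3071, 2047]
def bC2 : List ℕ := [0, 3189, 2984, 3009, 3403, 0, 2725, 0, 0, 493, 0, 0]
def bC3 : List ℕ := [1, 0, 0, 0, 0, 2052, 0, 2560, 2056, 0, 1024, 2048]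

set_option maxRecDepth 100000 in
theorem xi_basis_chk : ∀ k < 12,
    chk (xiF (dbl (lift (ofMask (bTab k))))) (bM.getD k 0) (bC0.getD k 0) (bC1.getD k 0)
      (bC2.getD k 0) (bC3.getD k 0) = true := by
  decide +kernel

set_option maxRecDepth 100000 in
theorem xi_w0_chk : chk (xiF w₀) 1 0 4095 0 0 = true := by
  decide +kernel

/-- the vectors of the lattice whose image lies in the lattice -/
def xiSub : AddSubgroup (GolayPt → ℤ) where
  carrier := {x | x ∈ leechLattice ∧ xiF x ∈ leechLattice}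
  zero_mem' := ⟨leechLattice.zero_mem, by rw [xiF_zero]; exact leechLattice.zero_mem⟩
  add_mem' := by
    rintro a b ⟨ha1, ha2⟩ ⟨hb1, hb2⟩
    refine ⟨leechLattice.add_mem ha1 hb1, ?_⟩
    rw [xiF_add (Ev_of_mem ha1) (Ev_of_mem hb1)]
    exact leechLattice.add_mem ha2 hb2
  neg_mem' := by
    rintro a ⟨ha1, ha2⟩
    refine ⟨leechLattice.neg_mem ha1, ?_⟩
    rw [xiF_neg (Ev_of_mem ha1)]
    exact leechLattice.neg_mem ha2

theorem xiF_mem {x : GolayPt → ℤ} (hx : x ∈ leechLattice) : xiF x ∈ leechLattice := by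
  have h : leechLattice ≤ xiSub := by
    apply le_of_gens xiSub
    · intro i hi
      cases i with
      | none => exact absurd rfl hi
      | some t =>
        exact ⟨(pm_mem_Mn (-1) (Or.inr rfl) (some t) none (by simp)).1, chk_sound (xi_pm_chk t)⟩
    · exact ⟨(pm_mem_Mn 1 (Or.inl rfl) none (some 0) (by simp)).1, chk_sound xi_pm1_chk⟩
    · exact ⟨(pm_mem_Mn (-1) (Or.inr rfl) none (some 0) (by simp)).1, chk_sound xi_pm2_chk⟩
    · intro k hk
      refine ⟨?_, chk_sound (xi_basis_chk k hk)⟩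
      rw [mem_leechLattice_iff]
      exact dbl_mem_leechSet (lift_mem_K (bTab_mem k hk))
    · exact ⟨w₀_mem_Mn.1, chk_sound xi_w0_chk⟩
  exact (h hx).2

/-- the extra automorphism as a permutation of the lattice -/
noncomputable def xiPerm : Equiv.Perm leechLattice where
  toFun v := ⟨xiF v, xiF_mem v.2⟩
  invFun v := ⟨xiF v, xiF_mem v.2⟩
  left_inv v := Subtype.ext (xiF_xiF (Ev_of_mem v.2))
  right_inv v := Subtype.ext (xiF_xiF (Ev_of_mem v.2))

theorem xiPerm_mem : xiPerm ∈ Co0 := by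
  refine ⟨fun v w => ?_, fun v => ?_⟩
  · apply Subtype.ext
    show xiF ((v + w : leechLattice) : GolayPt → ℤ) = xiF v + xiF w
    rw [AddSubgroup.coe_add, xiF_add (Ev_of_mem v.2) (Ev_of_mem w.2)]
  · exact sqNorm_xiF (Ev_of_mem v.2)

noncomputable def xiC : Co0 := ⟨xiPerm, xiPerm_mem⟩

theorem xiC_apply (v : leechLattice) : ((xiC • v : leechLattice) : GolayPt → ℤ) = xiF v := rfl

end Cfsg.Agent.Lib.Helper1.LeechXi
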