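import Mathlib
import Cfsg.Agent.Lib.Helper1.LeechChk

set_option autoImplicit false

namespace Cfsg.Agent.Lib.Helper1.MaskOf

open Cfsg Cfsg.Agent.Lib.Helper1.LeechChk

/-- the bit mask of a set of points -/
def maskOf (S : Finset GolayPt) : ℕ := Nat.ofBits (fun i : Fin 24 => decide (gUnidx i.val ∈ S))

theorem testBit_maskOf (S : Finset GolayPt) (p : GolayPt) :
    (maskOf S).testBit (gIdx p) = decide (p ∈ S) := by
  unfold maskOf
  rw [Nat.testBit_ofBits_lt _ _ (gIdx_lt p)]
  simp only [gUnidx_gIdx]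

theorem maskOf_lt (S : Finset GolayPt) : maskOf S < 2 ^ 24 := Nat.ofBits_lt_two_pow _

theorem mem_support_ofMask (n : ℕ) (p : GolayPt) :
    p ∈ support₂ (ofMask n) ↔ n.testBit (gIdx p) = true := by
  simp only [support₂, Finset.mem_filter, Finset.mem_univ, true_and]
  exact ofMask_ne_zero_iff _ _

theorem support_maskOf (S : Finset GolayPt) : support₂ (ofMask (maskOf S)) = S := by
  ext p
  rw [mem_support_ofMask, testBit_maskOf]
  simp

theorem card_eq_popc (S : Finset GolayPt) : S.card = popcN 24 (maskOf S) := by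
  rw [← card_support₂_ofMask, support_maskOf]

/-- every index below 24 is the index of a point -/
theorem exists_gIdx {i : ℕ} (hi : i < 24) : ∃ p : GolayPt, gIdx p = i :=
  ⟨gUnidx i, gIdx_gUnidx i hi⟩

theorem maskOf_and_of_subset {S : Finset GolayPt} {X : ℕ} (h : S ⊆ support₂ (ofMask X)) :
    maskOf S &&& X = maskOf S := by
  apply Nat.eq_of_testBit_eq
  intro i
  rw [Nat.testBit_and]
  by_cases hi : i < 24
  · obtain ⟨p, rfl⟩ := exists_gIdx hi
    rw [testBit_maskOf]
    by_cases hp : p ∈ S
    · have := (mem_support_ofMask X p).mp (h hp)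
      simp [hp, this]
    · simp [hp]
  · have : (maskOf S).testBit i = false := by
      apply Nat.testBit_lt_two_pow
      calc maskOf S < 2 ^ 24 := maskOf_lt S
        _ ≤ 2 ^ i := Nat.pow_le_pow_right (by norm_num) (by omega)
    rw [this, Bool.false_and]

/-- sets meeting a fixed set `X` in prescribed even subsets, via a table of code indices -/
theorem exists_code_inter_of (X : ℕ) (cidx : ℕ → ℕ)
    (h : ∀ s ≤ X, s &&& X = s → popcN 24 s % 2 = 0 → cidx s < 4096 ∧ cw (cidx s) &&& X = s)
    (S : Finset GolayPt) (hS : S ⊆ support₂ (ofMask X)) (hev : Even S.card) :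
    ∃ C ∈ gC, C ∩ support₂ (ofMask X) = S := by
  have h1 := maskOf_and_of_subset hS
  have h2 : maskOf S ≤ X := by
    rw [← h1]
    exact Nat.and_le_right
  have h3 : popcN 24 (maskOf S) % 2 = 0 := by
    rw [← card_eq_popc]
    exact Nat.even_iff.mp hev
  obtain ⟨hc, hcw⟩ := h (maskOf S) h2 h1 h3
  refine ⟨support₂ (ofMask (cw (cidx (maskOf S)))), support_cw_mem hc, ?_⟩
  ext p
  rw [Finset.mem_inter, mem_support_ofMask, mem_support_ofMask]
  have h4 : (cw (cidx (maskOf S)) &&& X).testBit (gIdx p) = (maskOf S).testBit (gIdx p) := by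
    rw [hcw]
  rw [Nat.testBit_and, testBit_maskOf] at h4
  constructor
  · rintro ⟨a, b⟩
    rw [a, b] at h4
    simpa using h4.symm
  · intro hp
    have : decide (p ∈ S) = true := by simpa using hp
    rw [this] at h4
    simpa using h4

end Cfsg.Agent.Lib.Helper1.MaskOf
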