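import Mathlib
import Cfsg.Agent.Lib.Helper1.LeechXi2
import Cfsg.Agent.Lib.Helper1.MaskOf

set_option autoImplicit false

namespace Cfsg.Agent.Lib.Helper1.LeechEnum

open Cfsg Cfsg.Agent.Lib.Helper1.LeechCross Cfsg.Agent.Lib.Helper1.LeechAut
  Cfsg.Agent.Lib.Helper1.LeechXi

/-! ### Packed vectors: 24 fields of 16 bits, offset 256 -/

/-- pack a list of digits in base `65536` (written with raw operations for fast evaluation) -/
def pk (l : List ℕ) : ℕ :=
  List.rec (motive := fun _ => ℕ) 0 (fun a _ ih => Nat.add a (Nat.mul 65536 ih)) l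

@[simp] theorem pk_nil : pk [] = 0 := rfl

theorem pk_cons (a : ℕ) (l : List ℕ) : pk (a :: l) = a + 65536 * pk l := rfl

/-- the `k`-th field -/
def fld (k v : ℕ) : ℕ := Nat.mod (Nat.shiftRight v (Nat.mul 16 k)) 65536

theorem fld_eq (k v : ℕ) : fld k v = v / 65536 ^ k % 65536 := by
  show (v >>> (16 * k)) % 65536 = _
  rw [Nat.shiftRight_eq_div_pow, pow_mul]
  norm_num

theorem fld_lt (k v : ℕ) : fld k v < 65536 := by
  rw [fld_eq]; exact Nat.mod_lt _ (by norm_num)

theorem fld_pk (l : List ℕ) (h : ∀ a ∈ l, a < 65536) (k : ℕ) : fld k (pk l) = l.getD k 0 := by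
  induction l generalizing k with
  | nil => simp [fld_eq]
  | cons a l ih =>
    have ha : a < 65536 := h a (by simp)
    have hl : ∀ b ∈ l, b < 65536 := fun b hb => h b (by simp [hb])
    cases k with
    | zero =>
      rw [fld_eq, pk_cons]
      simp only [pow_zero, Nat.div_one, List.getD_cons_zero]
      rw [Nat.add_mul_mod_self_left, Nat.mod_eq_of_lt ha]
    | succ k =>
      rw [List.getD_cons_succ, ← ih hl k, fld_eq, fld_eq, pk_cons, pow_succ, mul_comm (65536 ^ k),
        ← Nat.div_div_eq_div_mul]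
      congr 2
      rw [Nat.add_mul_div_left _ _ (by norm_num : 0 < 65536), Nat.div_eq_of_lt ha, zero_add]

theorem pk_lt (l : List ℕ) (h : ∀ a ∈ l, a < 65536) : pk l < 65536 ^ l.length := by
  induction l with
  | nil => simp
  | cons a l ih =>
    have ha : a < 65536 := h a (by simp)
    have hl : ∀ b ∈ l, b < 65536 := fun b hb => h b (by simp [hb])
    have := ih hl
    rw [pk_cons, List.length_cons, pow_succ]
    nlinarith

/-- the integer vector of a packed number -/
def vec (v : ℕ) : GolayPt → ℤ := fun p => (fld (gIdx p) v : ℤ) - 256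

theorem vec_apply (v : ℕ) (p : GolayPt) : vec v p = (fld (gIdx p) v : ℤ) - 256 := rfl

/-- a packed lattice vector of squared length at most 64 -/
def Good (v : ℕ) : Prop := vec v ∈ leechLattice ∧ sqNorm (vec v) ≤ 64

theorem Good.bounds {v : ℕ} (h : Good v) (p : GolayPt) :
    248 ≤ fld (gIdx p) v ∧ fld (gIdx p) v ≤ 264 := by
  have h1 : vec v p ^ 2 ≤ sqNorm (vec v) := by
    unfold sqNorm
    exact Finset.single_le_sum (f := fun q => vec v q ^ 2) (fun q _ => sq_nonneg _) (Finset.mem_univ p)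
  have h2 : vec v p ^ 2 ≤ 64 := le_trans h1 h.2
  rw [vec_apply] at h2
  constructor
  · have : -8 ≤ (fld (gIdx p) v : ℤ) - 256 := by nlinarith
    omega
  · have : (fld (gIdx p) v : ℤ) - 256 ≤ 8 := by nlinarith
    omega

theorem Good.bounds' {v : ℕ} (h : Good v) {k : ℕ} (hk : k < 24) :
    248 ≤ fld k v ∧ fld k v ≤ 264 := by
  have := h.bounds (gUnidx k)
  rwa [gIdx_gUnidx k hk] at this

/-! ### Maps induced by automorphisms -/

/-- `F` is the coordinate description of an automorphism of the lattice -/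
def IsAct (F : (GolayPt → ℤ) → (GolayPt → ℤ)) : Prop :=
  ∃ g : Co0, ∀ x : leechLattice, ((g • x : leechLattice) : GolayPt → ℤ) = F x

theorem IsAct.id : IsAct (fun x => x) := ⟨1, fun x => by simp⟩

theorem IsAct.comp {F G : (GolayPt → ℤ) → (GolayPt → ℤ)} (hF : IsAct F) (hG : IsAct G) :
    IsAct (fun x => G (F x)) := by
  obtain ⟨f, hf⟩ := hF
  obtain ⟨g, hg⟩ := hG
  refine ⟨g * f, fun x => ?_⟩
  rw [mul_smul, hg, hf]

theorem IsAct.mem {F : (GolayPt → ℤ) → (GolayPt → ℤ)} (hF : IsAct F) {x : GolayPt → ℤ}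
    (hx : x ∈ leechLattice) : F x ∈ leechLattice := by
  obtain ⟨f, hf⟩ := hF
  have := hf ⟨x, hx⟩
  rw [← this]
  exact (f • (⟨x, hx⟩ : leechLattice)).2

theorem IsAct.sqNorm {F : (GolayPt → ℤ) → (GolayPt → ℤ)} (hF : IsAct F) {x : GolayPt → ℤ}
    (hx : x ∈ leechLattice) : sqNorm (F x) = sqNorm x := by
  obtain ⟨f, hf⟩ := hF
  have := hf ⟨x, hx⟩
  rw [← this]
  exact f.2.2 ⟨x, hx⟩

theorem IsAct.good {F : (GolayPt → ℤ) → (GolayPt → ℤ)} (hF : IsAct F) {v w : ℕ} (hv : Good v)
    (h : vec w = F (vec v)) : Good w := by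
  unfold Good
  rw [h]
  exact ⟨hF.mem hv.1, by rw [hF.sqNorm hv.1]; exact hv.2⟩

theorem isAct_perm {σ : Equiv.Perm GolayPt} (hσ : σ ∈ M24) : IsAct (permF σ) :=
  ⟨permC σ hσ, fun x => permC_apply σ hσ x⟩

theorem isAct_eps {c : Finset GolayPt} (hc : c ∈ gC) : IsAct (epsF c) :=
  ⟨epsC c hc, fun x => epsC_apply c hc x⟩

theorem isAct_xi : IsAct xiF := ⟨xiC, fun x => xiC_apply x⟩


/-! ### Bounded quantification with the raw recursor -/

/-- `f k` holds for all `k < n` -/
def allB (f : ℕ → Bool) (n : ℕ) : Bool :=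
  Nat.rec (motive := fun _ => Bool) true (fun k ih => and (f k) ih) n

theorem allB_succ (f : ℕ → Bool) (n : ℕ) : allB f (n + 1) = (f n && allB f n) := rfl

theorem allB_iff (f : ℕ → Bool) (n : ℕ) : allB f n = true ↔ ∀ k < n, f k = true := by
  induction n with
  | zero => simp [allB]
  | succ n ih =>
    rw [allB_succ, Bool.and_eq_true, ih]
    constructor
    · rintro ⟨h1, h2⟩ k hk
      rcases Nat.lt_succ_iff_lt_or_eq.mp hk with h | h
      · exact h2 k h
      · rw [h]; exact h1
    · intro h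
      exact ⟨h n (Nat.lt_succ_self n), fun k hk => h k (Nat.lt_succ_of_lt hk)⟩

/-! ### Sums over the coordinates as list sums -/

theorem sum_pts (f : GolayPt → ℤ) :
    ∑ p, f p = ((List.range 24).map (fun i => f (gUnidx i))).sum := by
  have h : (Finset.univ : Finset GolayPt) = ((List.range 24).map gUnidx).toFinset := by decide
  rw [h, List.sum_toFinset _ (by decide : ((List.range 24).map gUnidx).Nodup), List.map_map]
  rfl

/-! ### Signed coordinate permutations -/

/-- the signed field selected by the entry `e`: source index `e / 2`, sign bit `e % 2` -/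
def sfld (e v : ℕ) : ℕ :=
  cond (Nat.beq (Nat.mod e 2) 1) (Nat.sub 512 (fld (Nat.div e 2) v)) (fld (Nat.div e 2) v)

theorem nbeq_iff (a b : ℕ) : Nat.beq a b = true ↔ a = b :=
  ⟨Nat.eq_of_beq_eq_true, fun h => h ▸ Nat.beq_refl a⟩

theorem nbeq_false_iff (a b : ℕ) : Nat.beq a b = false ↔ a ≠ b := by
  rw [← Bool.not_eq_true, nbeq_iff]

theorem sfld_eq (e v : ℕ) :
    sfld e v = if e % 2 = 1 then 512 - fld (e / 2) v else fld (e / 2) v := by
  unfold sfld
  by_cases h : e % 2 = 1
  · have : Nat.beq (Nat.mod e 2) 1 = true := (nbeq_iff _ _).mpr h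
    rw [this, if_pos h]; rfl
  · have : Nat.beq (Nat.mod e 2) 1 = false := (nbeq_false_iff _ _).mpr h
    rw [this, if_neg h]; rfl

theorem sfld_lt (e v : ℕ) : sfld e v < 65536 := by
  rw [sfld_eq]
  split_ifs
  · omega
  · exact fld_lt _ _

/-- apply a signed permutation given by its table -/
def monoN (tab : List ℕ) (v : ℕ) : ℕ :=
  List.rec (motive := fun _ => ℕ) 0 (fun e _ ih => Nat.add (sfld e v) (Nat.mul 65536 ih)) tab

theorem monoN_eq (tab : List ℕ) (v : ℕ) : monoN tab v = pk (tab.map (fun e => sfld e v)) := by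
  induction tab with
  | nil => rfl
  | cons e t ih =>
    show sfld e v + 65536 * monoN t v = _
    rw [ih]; rfl

theorem fld_monoN (tab : List ℕ) (v k : ℕ) (hk : k < tab.length) :
    fld k (monoN tab v) = sfld (tab.getD k 0) v := by
  rw [monoN_eq, fld_pk]
  · rw [List.getD_eq_getElem?_getD, List.getElem?_map, List.getD_eq_getElem?_getD,
      List.getElem?_eq_getElem hk]
    rfl
  · intro a ha
    obtain ⟨e, _, rfl⟩ := List.mem_map.mp ha
    exact sfld_lt e v

/-- source index and sign of the `i`-th entry -/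
def tI (tab : List ℕ) (i : ℕ) : ℕ := tab.getD i 0 / 2
def sI (tab : List ℕ) (i : ℕ) : ℕ := tab.getD i 0 % 2

theorem vec_monoN (tab : List ℕ) (hlen : tab.length = 24) (ht : ∀ i < 24, tI tab i < 24)
    {v : ℕ} (hv : Good v) (p : GolayPt) :
    vec (monoN tab v) p =
      if sI tab (gIdx p) = 1 then - vec v (gUnidx (tI tab (gIdx p))) else vec v (gUnidx (tI tab (gIdx p))) := by
  have hp := gIdx_lt p
  rw [vec_apply, fld_monoN tab v _ (by rw [hlen]; exact hp), sfld_eq, vec_apply,
    gIdx_gUnidx _ (ht _ hp)]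
  have hb := hv.bounds' (ht _ hp)
  unfold sI tI at *
  split_ifs with h
  · have : fld (tab.getD (gIdx p) 0 / 2) v ≤ 512 := by omega
    push_cast [Nat.cast_sub this]
    ring
  · rfl


/-! ### The extra automorphism on packed vectors -/

/-- members of the six tetrads -/
def blkIdx : List (List ℕ) :=
  [[0,1,2,23],[4,13,16,22],[3,5,14,17],[6,7,19,21],[9,10,15,20],[8,11,12,18]]

/-- half the sum of four fields -/
def hsum (v a b c d : ℕ) : ℕ :=
  Nat.div (Nat.add (Nat.add (fld a v) (fld b v)) (Nat.add (fld c v) (fld d v))) 2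

def xiN' (v h0 h1 h2 h3 h4 h5 : ℕ) : ℕ :=
  pk [Nat.sub (Nat.add (fld 0 v) 512) h0, Nat.sub (Nat.add (fld 1 v) 512) h0,
    Nat.sub (Nat.add (fld 2 v) 512) h0, Nat.sub h2 (fld 3 v), Nat.sub h1 (fld 4 v),
    Nat.sub h2 (fld 5 v), Nat.sub h3 (fld 6 v), Nat.sub h3 (fld 7 v), Nat.sub h5 (fld 8 v),
    Nat.sub h4 (fld 9 v), Nat.sub h4 (fld 10 v), Nat.sub h5 (fld 11 v), Nat.sub h5 (fld 12 v),
    Nat.sub h1 (fld 13 v), Nat.sub h2 (fld 14 v), Nat.sub h4 (fld 15 v), Nat.sub h1 (fld 16 v),
    Nat.sub h2 (fld 17 v), Nat.sub h5 (fld 18 v), Nat.sub h3 (fld 19 v), Nat.sub h4 (fld 20 v),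
    Nat.sub h3 (fld 21 v), Nat.sub h1 (fld 22 v), Nat.sub (Nat.add (fld 23 v) 512) h0]

def xiN (v : ℕ) : ℕ :=
  xiN' v (hsum v 0 1 2 23) (hsum v 4 13 16 22) (hsum v 3 5 14 17) (hsum v 6 7 19 21)
    (hsum v 9 10 15 20) (hsum v 8 11 12 18)

/-- half the field sum of the tetrad `b` -/
def hS (b v : ℕ) : ℕ := ((blkIdx.getD b []).map (fun j => fld j v)).sum / 2

/-- the generic description of the fields of `xiN v` -/
def xiE (k v : ℕ) : ℕ :=
  if blkTab.getD k 0 = 0 then fld k v + 512 - hS (blkTab.getD k 0) v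
  else hS (blkTab.getD k 0) v - fld k v

theorem hsum_eq (v a b c d : ℕ) :
    hsum v a b c d = (fld a v + fld b v + (fld c v + fld d v)) / 2 := rfl

theorem xiN'_eq (v h0 h1 h2 h3 h4 h5 : ℕ) : xiN' v h0 h1 h2 h3 h4 h5 =
  pk [fld 0 v + 512 - h0, fld 1 v + 512 - h0,
    fld 2 v + 512 - h0, h2 - fld 3 v, h1 - fld 4 v,
    h2 - fld 5 v, h3 - fld 6 v, h3 - fld 7 v, h5 - fld 8 v,
    h4 - fld 9 v, h4 - fld 10 v, h5 - fld 11 v, h5 - fld 12 v,
    h1 - fld 13 v, h2 - fld 14 v, h4 - fld 15 v, h1 - fld 16 v,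
    h2 - fld 17 v, h5 - fld 18 v, h3 - fld 19 v, h4 - fld 20 v,
    h3 - fld 21 v, h1 - fld 22 v, fld 23 v + 512 - h0] := rfl

theorem fld_xiN {v : ℕ} (hv : Good v) {k : ℕ} (hk : k < 24) : fld k (xiN v) = xiE k v := by
  have hb : ∀ j < 24, 248 ≤ fld j v ∧ fld j v ≤ 264 := fun j hj => hv.bounds' hj
  have b0 := hb 0 (by norm_num); have b1 := hb 1 (by norm_num); have b2 := hb 2 (by norm_num)
  have b3 := hb 3 (by norm_num); have b4 := hb 4 (by norm_num); have b5 := hb 5 (by norm_num)
  have b6 := hb 6 (by norm_num); have b7 := hb 7 (by norm_num); have b8 := hb 8 (by norm_num)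
  have b9 := hb 9 (by norm_num); have b10 := hb 10 (by norm_num); have b11 := hb 11 (by norm_num)
  have b12 := hb 12 (by norm_num); have b13 := hb 13 (by norm_num); have b14 := hb 14 (by norm_num)
  have b15 := hb 15 (by norm_num); have b16 := hb 16 (by norm_num); have b17 := hb 17 (by norm_num)
  have b18 := hb 18 (by norm_num); have b19 := hb 19 (by norm_num); have b20 := hb 20 (by norm_num)
  have b21 := hb 21 (by norm_num); have b22 := hb 22 (by norm_num); have b23 := hb 23 (by norm_num)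
  unfold xiN
  rw [xiN'_eq, fld_pk]
  · unfold xiE hS
    simp only [hsum_eq]
    interval_cases k <;>
      simp only [List.getD_cons_zero, List.getD_cons_succ, blkTab, blkIdx, List.map_cons,
        List.map_nil, List.sum_cons, List.sum_nil,
        add_zero, if_true, reduceCtorEq, OfNat.ofNat_ne_zero, OfNat.zero_ne_ofNat,
        one_ne_zero, if_false] <;> omega
  · intro a ha
    simp only [List.mem_cons, List.not_mem_nil, or_false, hsum_eq] at ha
    rcases ha with h | h | h | h | h | h | h | h | h | h | h | h | h | h | h | h | h | h | h | h |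
      h | h | h | h <;> omega

theorem sum_map_sub (l : List ℕ) (f : ℕ → ℕ) :
    (l.map (fun j => (f j : ℤ) - 256)).sum = ((l.map f).sum : ℕ) - 256 * (l.length : ℤ) := by
  induction l with
  | nil => simp
  | cons a l ih =>
    rw [List.map_cons, List.sum_cons, ih, List.map_cons, List.sum_cons, List.length_cons]
    push_cast
    ring

theorem bsum_list (x : GolayPt → ℤ) (p : GolayPt) :
    bsum x p = ((blkIdx.getD (blk p) []).map (fun j => x (gUnidx j))).sum := by
  unfold bsum
  rw [← Finset.sum_filter]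
  have h : ∀ p : GolayPt, Finset.univ.filter (fun q => blk q = blk p) =
      ((blkIdx.getD (blk p) []).map gUnidx).toFinset := by decide
  have hn : ∀ p : GolayPt, ((blkIdx.getD (blk p) []).map gUnidx).Nodup := by decide
  rw [h p, List.sum_toFinset _ (hn p), List.map_map]
  rfl

theorem blk_len : ∀ p : GolayPt, (blkIdx.getD (blk p) []).length = 4 := by decide

theorem blk_idx_lt : ∀ p : GolayPt, ∀ j ∈ blkIdx.getD (blk p) [], j < 24 := by decide

theorem vec_xiN {v : ℕ} (hv : Good v) : vec (xiN v) = xiF (vec v) := by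
  have hx : xiF (vec v) ∈ leechLattice := isAct_xi.mem hv.1
  have hxn : sqNorm (xiF (vec v)) ≤ 64 := by rw [isAct_xi.sqNorm hv.1]; exact hv.2
  funext p
  have hbd : xiF (vec v) p ^ 2 ≤ 64 := by
    refine le_trans ?_ hxn
    unfold sqNorm
    exact Finset.single_le_sum (f := fun q => xiF (vec v) q ^ 2) (fun q _ => sq_nonneg _)
      (Finset.mem_univ p)
  have hbd1 : -8 ≤ xiF (vec v) p := by nlinarith
  have hbd2 : xiF (vec v) p ≤ 8 := by nlinarith
  rw [vec_apply, fld_xiN hv (gIdx_lt p)]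
  have hbs : bsum (vec v) p = (((blkIdx.getD (blk p) []).map (fun j => fld j v)).sum : ℕ) - 1024 := by
    rw [bsum_list]
    have : (blkIdx.getD (blk p) []).map (fun j => vec v (gUnidx j)) =
        (blkIdx.getD (blk p) []).map (fun j => (fld j v : ℤ) - 256) := by
      apply List.map_congr_left
      intro j hj
      rw [vec_apply, gIdx_gUnidx j (blk_idx_lt p j hj)]
    rw [this, sum_map_sub, blk_len p]
    norm_num
  have hxi : xiF (vec v) p = sgn p * (bsum (vec v) p / 2 - vec v p) := rfl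
  rw [hbs, vec_apply] at hxi
  have hblk : blk p = blkTab.getD (gIdx p) 0 := rfl
  unfold xiE hS
  rw [← hblk]
  set S := ((blkIdx.getD (blk p) []).map (fun j => fld j v)).sum with hS
  set f := fld (gIdx p) v with hf
  unfold sgn at hxi
  split_ifs at hxi ⊢ with h0
  · rw [hxi] at hbd1 hbd2 ⊢
    have e1 : ((S : ℤ) - 1024) / 2 = ((S / 2 : ℕ) : ℤ) - 512 := by
      rw [Int.natCast_div]; omega
    rw [e1] at hbd1 hbd2 ⊢
    have : S / 2 ≤ f + 512 := by omega
    push_cast [Nat.cast_sub this]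
    ring
  · rw [hxi] at hbd1 hbd2 ⊢
    have e1 : ((S : ℤ) - 1024) / 2 = ((S / 2 : ℕ) : ℤ) - 512 := by
      rw [Int.natCast_div]; omega
    rw [e1] at hbd1 hbd2 ⊢
    have : f ≤ S / 2 := by omega
    push_cast [Nat.cast_sub this]
    ring

end Cfsg.Agent.Lib.Helper1.LeechEnum
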