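import Mathlib
import Cfsg.Agent.Lib.Helper1.LeechEnum1

set_option autoImplicit false

namespace Cfsg.Agent.Lib.Helper1.LeechEnum

open Cfsg Cfsg.Agent.Lib.Helper1.LeechCross Cfsg.Agent.Lib.Helper1.LeechAut
  Cfsg.Agent.Lib.Helper1.LeechXi Cfsg.Agent.Lib.Helper1.LeechChk Cfsg.Agent.Lib.Helper1.MaskOf

/-! ### Validity of a signed-permutation table -/

/-- image of a mask under the index map of the table -/
def imgMask (tab : List ℕ) (m : ℕ) : ℕ :=
  ((List.range 24).map (fun i => if m.testBit i then 2 ^ tI tab i else 0)).sum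

/-- the mask of negated positions -/
def sMask (tab : List ℕ) : ℕ :=
  ((List.range 24).map (fun i => if sI tab i = 1 then 2 ^ i else 0)).sum

def ct (tab : List ℕ) (k : ℕ) : ℕ := imgMask tab (bTab k) >>> 12

def sc (tab : List ℕ) : ℕ := sMask tab >>> 12

def tabOK (tab : List ℕ) : Bool :=
  decide (tab.length = 24) && allB (fun i => decide (tI tab i < 24)) 24 &&
  allB (fun i => allB (fun j => decide (tI tab i = tI tab j → i = j)) 24) 24 &&
  allB (fun k => decide (ct tab k < 4096) &&
    allB (fun i => (cw (ct tab k)).testBit (tI tab i) == (bTab k).testBit i) 24) 12 &&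
  (decide (sc tab < 4096) && allB (fun i => (cw (sc tab)).testBit i == decide (sI tab i = 1)) 24)

/-- `f` on packed vectors follows an automorphism -/
def Tracks (f : ℕ → ℕ) : Prop :=
  ∃ F, IsAct F ∧ ∀ v, Good v → vec (f v) = F (vec v)

theorem Tracks.id : Tracks (fun v => v) := ⟨fun x => x, IsAct.id, fun _ _ => rfl⟩

theorem Tracks.comp {f g : ℕ → ℕ} (hf : Tracks f) (hg : Tracks g) : Tracks (fun v => g (f v)) := by
  obtain ⟨F, hF, hf⟩ := hf
  obtain ⟨G, hG, hg⟩ := hg
  refine ⟨fun x => G (F x), hF.comp hG, fun v hv => ?_⟩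
  have h1 := hf v hv
  have h2 : Good (f v) := hF.good hv h1
  rw [hg (f v) h2, h1]

theorem tracks_xi : Tracks xiN := ⟨xiF, isAct_xi, fun _ hv => vec_xiN hv⟩

theorem tabOK_sound {tab : List ℕ} (h : tabOK tab = true) : Tracks (monoN tab) := by
  unfold tabOK at h
  simp only [Bool.and_eq_true, decide_eq_true_eq, allB_iff, beq_iff_eq] at h
  obtain ⟨⟨⟨⟨hlen, hlt⟩, hinj⟩, hM⟩, hsc, hS⟩ := h
  -- the permutation
  let f : GolayPt → GolayPt := fun p => gUnidx (tI tab (gIdx p))
  have hfinj : Function.Injective f := by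
    intro p q hpq
    have h1 := M24.gUnidx_inj (hlt _ (gIdx_lt p)) (hlt _ (gIdx_lt q)) hpq
    exact gIdx_injective (hinj _ (gIdx_lt p) _ (gIdx_lt q) h1)
  let σ : Equiv.Perm GolayPt := Equiv.ofBijective f (Finite.injective_iff_bijective.mp hfinj)
  have hσ : ∀ p, σ p = gUnidx (tI tab (gIdx p)) := fun p => rfl
  have hσM : σ ∈ M24 := by
    apply mem_M24_of_table σ (ct tab) (fun k hk => (hM k hk).1)
    intro k hk p
    rw [ofMask_apply, ofMask_apply, hσ, gIdx_gUnidx _ (hlt _ (gIdx_lt p)),
      (hM k hk).2 _ (gIdx_lt p)]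
  -- the sign set
  let c : Finset GolayPt := Finset.univ.filter (fun p => sI tab (gIdx p) = 1)
  have hc : c ∈ gC := by
    have : c = support₂ (ofMask (cw (sc tab))) := by
      ext p
      rw [mem_support_ofMask, hS _ (gIdx_lt p)]
      simp [c]
    rw [this]
    exact support_cw_mem hsc
  refine ⟨fun x => epsF c (permF σ x), (isAct_perm hσM).comp (isAct_eps hc), fun v hv => ?_⟩
  funext p
  rw [vec_monoN tab hlen hlt hv p]
  unfold epsF permF
  simp only [c, Finset.mem_filter, Finset.mem_univ, true_and, hσ]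

/-! ### Generators -/

/-- a primitive: the empty table stands for the extra automorphism -/
def applyPrim (pr : List ℕ) (v : ℕ) : ℕ :=
  List.casesOn (motive := fun _ => ℕ) pr (xiN v) (fun _ _ => monoN pr v)

def primOK (pr : List ℕ) : Bool :=
  List.casesOn (motive := fun _ => Bool) pr true (fun _ _ => tabOK pr)

theorem primOK_sound {pr : List ℕ} (h : primOK pr = true) : Tracks (applyPrim pr) := by
  cases pr with
  | nil => exact tracks_xi
  | cons a l => exact tabOK_sound h

/-- a generator is a list of primitives, applied from the head -/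
def applyGen (g : List (List ℕ)) (v : ℕ) : ℕ :=
  List.rec (motive := fun _ => ℕ → ℕ) (fun v => v) (fun pr _ ih v => ih (applyPrim pr v)) g v

theorem applyGen_nil (v : ℕ) : applyGen [] v = v := rfl

theorem applyGen_cons (pr : List ℕ) (g : List (List ℕ)) (v : ℕ) :
    applyGen (pr :: g) v = applyGen g (applyPrim pr v) := rfl

theorem applyGen_tracks {g : List (List ℕ)} (h : ∀ pr ∈ g, primOK pr = true) :
    Tracks (applyGen g) := by
  induction g with
  | nil => exact Tracks.id
  | cons pr g ih =>
    have h1 := primOK_sound (h pr (by simp))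
    have h2 := ih (fun q hq => h q (by simp [hq]))
    exact h1.comp h2

/-- `f` follows an automorphism fixing the vectors of `Y` -/
def TracksFix (Y : List ℕ) (f : ℕ → ℕ) : Prop :=
  ∃ F, IsAct F ∧ (∀ y ∈ Y, F (vec y) = vec y) ∧ ∀ v, Good v → vec (f v) = F (vec v)

theorem TracksFix.id (Y : List ℕ) : TracksFix Y (fun v => v) :=
  ⟨fun x => x, IsAct.id, fun _ _ => rfl, fun _ _ => rfl⟩

theorem TracksFix.comp {Y : List ℕ} {f g : ℕ → ℕ} (hf : TracksFix Y f) (hg : TracksFix Y g) :
    TracksFix Y (fun v => g (f v)) := by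
  obtain ⟨F, hF, hFY, hf⟩ := hf
  obtain ⟨G, hG, hGY, hg⟩ := hg
  refine ⟨fun x => G (F x), hF.comp hG, fun y hy => ?_, fun v hv => ?_⟩
  · show G (F (vec y)) = vec y
    rw [hFY y hy, hGY y hy]
  · have h1 := hf v hv
    have h2 : Good (f v) := hF.good hv h1
    rw [hg (f v) h2, h1]

def genOK (Y : List ℕ) (g : List (List ℕ)) : Bool :=
  g.all primOK && Y.all (fun y => Nat.beq (applyGen g y) y)

theorem genOK_sound {Y : List ℕ} (hY : ∀ y ∈ Y, Good y) {g : List (List ℕ)}
    (h : genOK Y g = true) : TracksFix Y (applyGen g) := by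
  unfold genOK at h
  rw [Bool.and_eq_true, List.all_eq_true, List.all_eq_true] at h
  obtain ⟨F, hF, hf⟩ := applyGen_tracks h.1
  refine ⟨F, hF, fun y hy => ?_, hf⟩
  have h1 := (nbeq_iff _ _).mp (h.2 y hy)
  rw [← hf y (hY y hy), h1]

/-- generator lookup -/
def nthG (G : List (List (List ℕ))) (n : ℕ) : List (List ℕ) :=
  List.rec (motive := fun _ => ℕ → List (List ℕ)) (fun _ => [])
    (fun g _ ih n => Nat.casesOn (motive := fun _ => List (List ℕ)) n g (fun m => ih m)) G n

theorem nthG_mem (G : List (List (List ℕ))) (n : ℕ) : nthG G n = [] ∨ nthG G n ∈ G := by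
  induction G generalizing n with
  | nil => exact Or.inl rfl
  | cons g G ih =>
    cases n with
    | zero => exact Or.inr (by show g ∈ g :: G; simp)
    | succ m =>
      have : nthG (g :: G) (m + 1) = nthG G m := rfl
      rw [this]
      rcases ih m with h | h
      · exact Or.inl h
      · exact Or.inr (by simp [h])

/-- follow a path: base-64 digits, digit `d ≥ 1` is generator `d - 1`, the path ends at `0` -/
def evalPath (G : List (List (List ℕ))) (fuel : ℕ) : ℕ → ℕ → ℕ :=
  Nat.rec (motive := fun _ => ℕ → ℕ → ℕ) (fun _ v => v)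
    (fun _ ih path v => cond (Nat.beq path 0) v
      (ih (Nat.div path 64) (applyGen (nthG G (Nat.pred (Nat.mod path 64))) v))) fuel

theorem evalPath_zero (G : List (List (List ℕ))) (path v : ℕ) : evalPath G 0 path v = v := rfl

theorem evalPath_succ (G : List (List (List ℕ))) (fuel path v : ℕ) :
    evalPath G (fuel + 1) path v = cond (Nat.beq path 0) v
      (evalPath G fuel (path / 64) (applyGen (nthG G (Nat.pred (path % 64))) v)) := rfl

def gensOK (Y : List ℕ) (G : List (List (List ℕ))) : Bool := G.all (genOK Y)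

theorem evalPath_sound {Y : List ℕ} (hY : ∀ y ∈ Y, Good y) {G : List (List (List ℕ))}
    (hG : gensOK Y G = true) (fuel : ℕ) : ∀ path, TracksFix Y (evalPath G fuel path) := by
  unfold gensOK at hG
  rw [List.all_eq_true] at hG
  induction fuel with
  | zero => intro path; exact TracksFix.id Y
  | succ n ih =>
    intro path
    have hfun : evalPath G (n + 1) path = fun v => cond (Nat.beq path 0) v
      (evalPath G n (path / 64) (applyGen (nthG G (Nat.pred (path % 64))) v)) := by
      funext v; exact evalPath_succ G n path v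
    rw [hfun]
    cases hb : Nat.beq path 0 with
    | true => exact TracksFix.id Y
    | false =>
      simp only [cond_false]
      have hg : TracksFix Y (applyGen (nthG G (Nat.pred (path % 64)))) := by
        rcases nthG_mem G (Nat.pred (path % 64)) with h | h
        · rw [h]; exact TracksFix.id Y
        · exact genOK_sound hY (hG _ h)
      exact hg.comp (ih (path / 64))

end Cfsg.Agent.Lib.Helper1.LeechEnum
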