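import Mathlib
import Cfsg.Agent.Lib.Helper1.LeechEnum2

set_option autoImplicit false

namespace Cfsg.Agent.Lib.Helper1.LeechEnum

open Cfsg

/-! ### Packing a function on an initial segment -/

/-- pack `f 0, …, f (n-1)` -/
def pkr (n : ℕ) (f : ℕ → ℕ) : ℕ := pk ((List.range n).map f)

theorem pk_append_singleton (l : List ℕ) (a : ℕ) :
    pk (l ++ [a]) = pk l + a * 65536 ^ l.length := by
  induction l with
  | nil => simp [pk_cons]
  | cons b l ih =>
    rw [List.cons_append, pk_cons, ih, pk_cons, List.length_cons, pow_succ]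
    ring

theorem pkr_zero (f : ℕ → ℕ) : pkr 0 f = 0 := rfl

theorem pkr_succ (n : ℕ) (f : ℕ → ℕ) : pkr (n + 1) f = pkr n f + f n * 65536 ^ n := by
  unfold pkr
  rw [List.range_succ, List.map_append, List.map_singleton, pk_append_singleton, List.length_map,
    List.length_range]

theorem pkr_congr {n : ℕ} {f g : ℕ → ℕ} (h : ∀ k < n, f k = g k) : pkr n f = pkr n g := by
  induction n with
  | zero => rfl
  | succ n ih =>
    rw [pkr_succ, pkr_succ, ih (fun k hk => h k (Nat.lt_succ_of_lt hk)), h n (Nat.lt_succ_self n)]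

theorem pkr_add (n : ℕ) (f g : ℕ → ℕ) : pkr n f + pkr n g = pkr n (fun k => f k + g k) := by
  induction n with
  | zero => rfl
  | succ n ih => rw [pkr_succ, pkr_succ, pkr_succ, ← ih]; ring

theorem pkr_le {n : ℕ} {f g : ℕ → ℕ} (h : ∀ k < n, g k ≤ f k) : pkr n g ≤ pkr n f := by
  induction n with
  | zero => exact le_refl _
  | succ n ih =>
    rw [pkr_succ, pkr_succ]
    exact Nat.add_le_add (ih (fun k hk => h k (Nat.lt_succ_of_lt hk)))
      (Nat.mul_le_mul_right _ (h n (Nat.lt_succ_self n)))

theorem pkr_sub {n : ℕ} {f g : ℕ → ℕ} (h : ∀ k < n, g k ≤ f k) :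
    pkr n f - pkr n g = pkr n (fun k => f k - g k) := by
  have h1 := pkr_add n (fun k => f k - g k) g
  have h2 : pkr n (fun k => f k - g k + g k) = pkr n f :=
    pkr_congr (fun k hk => Nat.sub_add_cancel (h k hk))
  rw [h2] at h1
  omega

theorem pkr_smul (n c : ℕ) (f : ℕ → ℕ) : c * pkr n f = pkr n (fun k => c * f k) := by
  induction n with
  | zero => simp [pkr_zero]
  | succ n ih => rw [pkr_succ, pkr_succ, ← ih]; ring

theorem pkr_single (n i c : ℕ) :
    pkr n (fun p => if p = i then c else 0) = if i < n then c * 65536 ^ i else 0 := by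
  induction n with
  | zero => simp [pkr_zero]
  | succ n ih =>
    rw [pkr_succ, ih]
    by_cases h1 : i < n
    · have : n ≠ i := by omega
      rw [if_pos h1, if_neg this, if_pos (by omega)]; ring
    · by_cases h2 : i = n
      · subst h2
        simp
      · have : n ≠ i := fun h => h2 h.symm
        rw [if_neg h1, if_neg this, if_neg (by omega)]; ring

theorem fld_pkr {n : ℕ} {f : ℕ → ℕ} (h : ∀ k < n, f k < 65536) {k : ℕ} (hk : k < n) :
    fld k (pkr n f) = f k := by
  unfold pkr
  rw [fld_pk]
  · rw [List.getD_eq_getElem?_getD, List.getElem?_map, List.getElem?_range hk]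
    rfl
  · intro a ha
    obtain ⟨j, hj, rfl⟩ := List.mem_map.mp ha
    exact h j (List.mem_range.mp hj)

theorem pkr_lt24 (f : ℕ → ℕ) (h : ∀ k < 24, f k < 65536) : pkr 24 f < 65536 ^ 24 := by
  unfold pkr
  have := pk_lt ((List.range 24).map f) (by
    intro a ha
    obtain ⟨j, hj, rfl⟩ := List.mem_map.mp ha
    exact h j (List.mem_range.mp hj))
  rwa [List.length_map, List.length_range] at this

theorem vec_pkr {f : ℕ → ℕ} (h : ∀ k < 24, f k < 65536) (p : GolayPt) :
    vec (pkr 24 f) p = (f (gIdx p) : ℤ) - 256 := by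
  rw [vec_apply, fld_pkr h (gIdx_lt p)]

/-! ### Spreading a bit mask over the fields -/

/-- `∑ bit k * 65536 ^ k` over `k < n` -/
def spreadN (m n : ℕ) : ℕ :=
  Nat.rec (motive := fun _ => ℕ) 0
    (fun k ih => Nat.add ih (Nat.shiftLeft (Nat.mod (Nat.shiftRight m k) 2) (Nat.mul 16 k))) n

theorem bit_eq (m k : ℕ) : (m >>> k) % 2 = if m.testBit k then 1 else 0 := by
  rw [Nat.shiftRight_eq_div_pow, ← Nat.toNat_testBit]
  cases m.testBit k <;> rfl

theorem spreadN_eq (m n : ℕ) : spreadN m n = pkr n (fun k => if m.testBit k then 1 else 0) := by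
  induction n with
  | zero => rfl
  | succ n ih =>
    rw [pkr_succ, ← ih, ← bit_eq]
    show spreadN m n + ((m >>> n) % 2) <<< (16 * n) = _
    rw [Nat.shiftLeft_eq, pow_mul]
    norm_num


theorem shl_eq (c i : ℕ) : Nat.shiftLeft c (Nat.mul 16 i) = c * 65536 ^ i := by
  show c <<< (16 * i) = _
  rw [Nat.shiftLeft_eq, pow_mul]
  norm_num

theorem shl_pkr (c i : ℕ) (hi : i < 24) :
    Nat.shiftLeft c (Nat.mul 16 i) = pkr 24 (fun p => if p = i then c else 0) := by
  rw [shl_eq, pkr_single, if_pos hi]

/-- the raw bit test -/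
def tb (m k : ℕ) : Bool := Nat.beq (Nat.mod (Nat.shiftRight m k) 2) 1

theorem tb_eq (m k : ℕ) : tb m k = m.testBit k := by
  unfold tb
  have h := bit_eq m k
  cases hb : m.testBit k
  · rw [hb] at h
    exact (nbeq_false_iff _ _).mpr (by show (m >>> k) % 2 ≠ 1; rw [h]; simp)
  · rw [hb] at h
    exact (nbeq_iff _ _).mpr (by show (m >>> k) % 2 = 1; rw [h]; simp)

/-! ### Candidates of the odd shape -/

def BASE : ℕ :=
  153916435283085170952062779669440224827960833954972981567021638994230636659850246685313987354093818631975231029504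

def ONES : ℕ :=
  154517671358409722401094274902523975706195055962609594776267817271551850084302786711428495117195747611006384275713

theorem BASE_eq : BASE = pkr 24 (fun _ => 256) := by decide +kernel

theorem ONES_eq : ONES = pkr 24 (fun _ => 257) := by decide +kernel

def dC (C : ℕ) : ℕ := Nat.sub ONES (Nat.mul 2 (spreadN C 24))

def candC (D C i : ℕ) : ℕ :=
  cond (tb C i) (Nat.add D (Nat.shiftLeft 4 (Nat.mul 16 i))) (Nat.sub D (Nat.shiftLeft 4 (Nat.mul 16 i)))

def fC (C i p : ℕ) : ℕ :=
  if p = i then (if C.testBit i then 259 else 253) else (if C.testBit p then 255 else 257)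

theorem dC_eq (C : ℕ) : dC C = pkr 24 (fun p => if C.testBit p then 255 else 257) := by
  show ONES - 2 * spreadN C 24 = _
  rw [ONES_eq, spreadN_eq, pkr_smul, pkr_sub]
  · apply pkr_congr
    intro k _
    split_ifs <;> rfl
  · intro k _
    show 2 * (if C.testBit k then 1 else 0) ≤ 257
    split_ifs <;> norm_num

theorem candC_eq (C i : ℕ) (hi : i < 24) : candC (dC C) C i = pkr 24 (fC C i) := by
  unfold candC
  rw [tb_eq, shl_pkr 4 i hi, dC_eq]
  cases hb : C.testBit i
  · show pkr 24 _ - pkr 24 _ = _
    rw [pkr_sub]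
    · apply pkr_congr
      intro k _
      unfold fC
      by_cases hk : k = i
      · subst hk; simp [hb]
      · simp [hk]
    · intro k _
      by_cases hk : k = i
      · subst hk; simp [hb]
      · simp [hk]
  · show pkr 24 _ + pkr 24 _ = _
    rw [pkr_add]
    apply pkr_congr
    intro k _
    unfold fC
    by_cases hk : k = i
    · subst hk; simp [hb]
    · simp [hk]

theorem fC_lt (C i p : ℕ) : fC C i p < 65536 := by
  unfold fC; split_ifs <;> norm_num

/-! ### Candidates of the octad shape -/

def dB (C : ℕ) : ℕ := Nat.add BASE (Nat.mul 2 (spreadN C 24))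

theorem dB_eq (C : ℕ) : dB C = pkr 24 (fun p => if C.testBit p then 258 else 256) := by
  show BASE + 2 * spreadN C 24 = _
  rw [BASE_eq, spreadN_eq, pkr_smul, pkr_add]
  apply pkr_congr
  intro k _
  split_ifs <;> rfl

/-- visit all sign patterns on the positions `ps` -/
def trav (leaf : ℕ → Bool → ℕ → Bool) (ps : List ℕ) : ℕ → Bool → ℕ → ℕ → Bool :=
  List.rec (motive := fun _ => ℕ → Bool → ℕ → ℕ → Bool)
    (fun D par idx _ => leaf D par idx)
    (fun p _ ih D par idx bp => and (ih D par idx (Nat.mul 2 bp))
      (ih (Nat.sub D (Nat.shiftLeft 4 (Nat.mul 16 p))) (not par) (Nat.add idx bp) (Nat.mul 2 bp))) ps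

theorem trav_nil (leaf : ℕ → Bool → ℕ → Bool) (D : ℕ) (par : Bool) (idx bp : ℕ) :
    trav leaf [] D par idx bp = leaf D par idx := rfl

theorem trav_cons (leaf : ℕ → Bool → ℕ → Bool) (p : ℕ) (ps : List ℕ) (D : ℕ) (par : Bool)
    (idx bp : ℕ) : trav leaf (p :: ps) D par idx bp =
      (trav leaf ps D par idx (2 * bp) &&
        trav leaf ps (D - 4 * 65536 ^ p) (!par) (idx + bp) (2 * bp)) := by
  show and (trav leaf ps D par idx (Nat.mul 2 bp))
    (trav leaf ps (Nat.sub D (Nat.shiftLeft 4 (Nat.mul 16 p))) (not par) (Nat.add idx bp)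
      (Nat.mul 2 bp)) = _
  rw [shl_eq]
  rfl

def wsum : List ℕ → List Bool → ℕ
  | p :: ps, b :: S => (if b then 65536 ^ p else 0) + wsum ps S
  | _, _ => 0

def bnum : List Bool → ℕ
  | [] => 0
  | b :: S => (if b then 1 else 0) + 2 * bnum S

def parL : List Bool → Bool
  | [] => false
  | b :: S => xor b (parL S)

theorem trav_spec (leaf : ℕ → Bool → ℕ → Bool) :
    ∀ (ps : List ℕ) (D : ℕ) (par : Bool) (idx bp : ℕ), trav leaf ps D par idx bp = true →
      ∀ S : List Bool, S.length = ps.length →
        leaf (D - 4 * wsum ps S) (xor par (parL S)) (idx + bp * bnum S) = true := by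
  intro ps
  induction ps with
  | nil =>
    intro D par idx bp h S hS
    have : S = [] := List.length_eq_zero_iff.mp hS
    subst this
    simpa [wsum, bnum, parL, trav_nil] using h
  | cons p ps ih =>
    intro D par idx bp h S hS
    rw [trav_cons, Bool.and_eq_true] at h
    cases S with
    | nil => simp at hS
    | cons b S =>
      have hS' : S.length = ps.length := by simpa using hS
      cases b with
      | false =>
        have := ih D par idx (2 * bp) h.1 S hS'
        simp only [wsum, bnum, parL, Bool.false_xor, if_false, Bool.false_eq_true, zero_add]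
        rw [show bp * (2 * bnum S) = 2 * bp * bnum S by ring]
        exact this
      | true =>
        have := ih (D - 4 * 65536 ^ p) (!par) (idx + bp) (2 * bp) h.2 S hS'
        simp only [wsum, bnum, parL, if_true, Bool.true_xor]
        rw [show D - 4 * (65536 ^ p + wsum ps S) = D - 4 * 65536 ^ p - 4 * wsum ps S by
          rw [Nat.mul_add, Nat.sub_sub],
          show idx + bp * (1 + 2 * bnum S) = idx + bp + 2 * bp * bnum S by ring,
          show xor par (!parL S) = xor (!par) (parL S) by cases par <;> cases parL S <;> rfl]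
        exact this

theorem wsum_map (ps : List ℕ) (hnd : ps.Nodup) (hlt : ∀ p ∈ ps, p < 24) (T : ℕ → Bool) :
    wsum ps (ps.map T) = pkr 24 (fun q => if q ∈ ps ∧ T q = true then 1 else 0) := by
  induction ps with
  | nil =>
    show 0 = _
    have : pkr 24 (fun q => if q ∈ ([] : List ℕ) ∧ T q = true then 1 else 0) = pkr 24 (fun q => 0 * 0) :=
      pkr_congr (fun k _ => by simp)
    rw [this, ← pkr_smul]; simp
  | cons p ps ih =>
    have hp : p < 24 := hlt p (by simp)
    have hnd' := (List.nodup_cons.mp hnd)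
    rw [List.map_cons]
    show (if T p then 65536 ^ p else 0) + wsum ps (ps.map T) = _
    rw [ih hnd'.2 (fun q hq => hlt q (by simp [hq]))]
    have h1 : (if T p then 65536 ^ p else 0) = pkr 24 (fun q => if q = p then (if T p then 1 else 0) else 0) := by
      rw [pkr_single, if_pos hp]
      split_ifs <;> simp
    rw [h1, pkr_add]
    apply pkr_congr
    intro k _
    by_cases hk : k = p
    · subst hk
      have : k ∉ ps := hnd'.1
      simp [this]
    · simp [hk]

/-- the fields of an octad-shaped vector: `T` marks the negative positions -/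
def fB (C : ℕ) (T : ℕ → Bool) (p : ℕ) : ℕ :=
  if C.testBit p then (if T p then 254 else 258) else 256

theorem fB_lt (C : ℕ) (T : ℕ → Bool) (p : ℕ) : fB C T p < 65536 := by
  unfold fB; split_ifs <;> norm_num

/-- positions of the set bits -/
def bitPos (C : ℕ) : List ℕ := (List.range 24).filter (fun p => C.testBit p)

theorem mem_bitPos (C p : ℕ) : p ∈ bitPos C ↔ p < 24 ∧ C.testBit p = true := by
  unfold bitPos
  rw [List.mem_filter, List.mem_range]

theorem bitPos_nodup (C : ℕ) : (bitPos C).Nodup := List.Nodup.filter _ List.nodup_range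

theorem leafB_eq (C q0 : ℕ) (rest : List ℕ) (hq : bitPos C = q0 :: rest) (T : ℕ → Bool)
    (hpar : xor (T q0) (parL (rest.map T)) = false) :
    cond (parL (rest.map T)) (dB C - 4 * wsum rest (rest.map T) - 4 * 65536 ^ q0)
      (dB C - 4 * wsum rest (rest.map T)) = pkr 24 (fB C T) := by
  have hnd : (q0 :: rest).Nodup := hq ▸ bitPos_nodup C
  have hmem : ∀ p, p ∈ q0 :: rest ↔ p < 24 ∧ C.testBit p = true := fun p => hq ▸ mem_bitPos C p
  have hq0 := (hmem q0).mp (by simp)
  have hrest : ∀ p ∈ rest, p < 24 ∧ C.testBit p = true := fun p hp => (hmem p).mp (by simp [hp])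
  have hq0r : q0 ∉ rest := (List.nodup_cons.mp hnd).1
  rw [wsum_map rest (List.nodup_cons.mp hnd).2 (fun p hp => (hrest p hp).1), dB_eq, pkr_smul,
    pkr_sub]
  · cases hp : parL (rest.map T)
    · rw [hp] at hpar
      have hT : T q0 = false := by simpa using hpar
      rw [cond_false]
      apply pkr_congr
      intro k hk
      unfold fB
      by_cases hb : C.testBit k = true
      · have hkm : k ∈ q0 :: rest := (hmem k).mpr ⟨hk, hb⟩
        rcases List.mem_cons.mp hkm with h | h
        · subst h; simp [hb, hT, hq0r]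
        · cases hTk : T k <;> simp [hb, h, hTk]
      · have : k ∉ rest := fun h => hb (hrest k h).2
        simp [hb, this]
    · rw [hp] at hpar
      have hT : T q0 = true := by simpa using hpar
      rw [cond_true, ← shl_eq, shl_pkr 4 q0 hq0.1, pkr_sub]
      · apply pkr_congr
        intro k hk
        unfold fB
        by_cases hb : C.testBit k = true
        · have hkm : k ∈ q0 :: rest := (hmem k).mpr ⟨hk, hb⟩
          rcases List.mem_cons.mp hkm with h | h
          · subst h; simp [hb, hT, hq0r]
          · have hne : k ≠ q0 := fun e => hq0r (e ▸ h)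
            cases hTk : T k <;> simp [hb, h, hTk, hne]
        · have h1 : k ∉ rest := fun h => hb (hrest k h).2
          have h2 : k ≠ q0 := fun e => hb (e ▸ hq0.2)
          simp [hb, h1, h2]
      · intro k _
        by_cases hk : k = q0
        · subst hk; simp [hq0.2, hq0r]
        · simp [hk]
  · intro k _
    show 4 * (if k ∈ rest ∧ T k = true then 1 else 0) ≤ _
    by_cases h : k ∈ rest ∧ T k = true
    · rw [if_pos h, if_pos (hrest k h.1).2]; norm_num
    · rw [if_neg h]; simp

end Cfsg.Agent.Lib.Helper1.LeechEnum
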