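import Mathlib
import Cfsg.Agent.Lib.Helper1.LeechCenter

set_option autoImplicit false

namespace Cfsg.Agent.Lib.Helper1.LeechShape

open Cfsg Cfsg.Agent.Lib.Helper1.LeechCross

/-- shape (±4, ±4, 0^22) -/
def ShI (x : GolayPt → ℤ) : Prop :=
  ∃ i j, i ≠ j ∧ (x i = 4 ∨ x i = -4) ∧ (x j = 4 ∨ x j = -4) ∧ ∀ p, p ≠ i → p ≠ j → x p = 0

/-- shape (±2^8, 0^16) -/
def ShII (x : GolayPt → ℤ) : Prop :=
  ∃ O ∈ octads, (∀ p ∈ O, x p = 2 ∨ x p = -2) ∧ ∀ p ∉ O, x p = 0

/-- shape (∓3, ±1^23) -/
def ShIII (x : GolayPt → ℤ) : Prop :=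
  ∃ i, (x i = 3 ∨ x i = -3) ∧ ∀ p, p ≠ i → (x p = 1 ∨ x p = -1)

theorem coord_sq_le {x : GolayPt → ℤ} (p : GolayPt) : x p ^ 2 ≤ sqNorm x := by
  unfold sqNorm
  exact Finset.single_le_sum (f := fun i => x i ^ 2) (fun j _ => sq_nonneg (x j))
    (Finset.mem_univ p)

theorem sum_eq_zero_of {f : GolayPt → ℤ} (hf : ∀ p, 0 ≤ f p) (h : ∑ p, f p = 0) (p : GolayPt) :
    f p = 0 :=
  (Finset.sum_eq_zero_iff_of_nonneg (fun q _ => hf q)).mp h p (Finset.mem_univ p)

/-- a sum of naturals equal to one -/
theorem sum_eq_one {u : GolayPt → ℕ} (h : ∑ p, u p = 1) :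
    ∃ i, u i = 1 ∧ ∀ p, p ≠ i → u p = 0 := by
  have hex : ∃ i, u i ≠ 0 := by
    by_contra hcon
    push Not at hcon
    rw [Finset.sum_congr rfl (fun p _ => hcon p)] at h
    simp at h
  obtain ⟨i, hi⟩ := hex
  have h1 := Finset.add_sum_erase Finset.univ u (Finset.mem_univ i)
  rw [h] at h1
  have h2 : ∑ p ∈ Finset.univ.erase i, u p = 0 := by omega
  refine ⟨i, by omega, fun p hp => ?_⟩
  exact (Finset.sum_eq_zero_iff.mp h2) p (Finset.mem_erase.mpr ⟨hp, Finset.mem_univ p⟩)

theorem shape32 {x : GolayPt → ℤ} (hx : x ∈ leechLattice) (hn : sqNorm x = 32) :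
    ShI x ∨ ShII x ∨ ShIII x := by
  obtain ⟨m, h1, h2, h3⟩ := (mem_leechLattice_iff x).mp hx
  simp only [Int.ModEq] at h1 h2
  have hb : ∀ p, -5 ≤ x p ∧ x p ≤ 5 := by
    intro p
    have := coord_sq_le (x := x) p
    rw [hn] at this
    constructor <;> nlinarith
  rcases Int.emod_two_eq_zero_or_one m with hm | hm
  · -- even case
    have hev : ∀ p, x p % 2 = 0 := fun p => by have := h1 p; omega
    have hL : lvl x 2 ∈ gC := h3 2
    have hmem : ∀ p, p ∈ lvl x 2 ↔ (x p = 2 ∨ x p = -2) := by
      intro p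
      rw [mem_lvl_iff]
      have := hb p
      have := hev p
      omega
    -- the function measuring the excess
    have hexc : ∑ p, (if p ∈ lvl x 2 then x p ^ 2 - 4 else x p ^ 2) =
        32 - 4 * ((lvl x 2).card : ℤ) := by
      have : ∀ p, (if p ∈ lvl x 2 then x p ^ 2 - 4 else x p ^ 2) =
          x p ^ 2 - (if p ∈ lvl x 2 then 4 else 0) := by
        intro p; split_ifs <;> ring
      rw [Finset.sum_congr rfl (fun p _ => this p), Finset.sum_sub_distrib, Finset.sum_ite_mem,
        Finset.univ_inter, Finset.sum_const]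
      have : ∑ p, x p ^ 2 = 32 := hn
      rw [this]
      simp
      ring
    have hnn : ∀ p, 0 ≤ (if p ∈ lvl x 2 then x p ^ 2 - 4 else x p ^ 2) := by
      intro p
      split_ifs with hp
      · rcases (hmem p).mp hp with h | h <;> rw [h] <;> norm_num
      · exact sq_nonneg _
    have hsumnn : 0 ≤ ∑ p, (if p ∈ lvl x 2 then x p ^ 2 - 4 else x p ^ 2) :=
      Finset.sum_nonneg (fun p _ => hnn p)
    rcases gC_card_cases hL with hc | hc | hc | hc | hc
    · -- all coordinates divisible by 4
      left
      have h4 : ∀ p, x p = 0 ∨ x p = 4 ∨ x p = -4 := by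
        intro p
        have hp : p ∉ lvl x 2 := by
          rw [Finset.card_eq_zero.mp hc]; exact Finset.notMem_empty p
        rw [hmem] at hp
        have := hb p
        have := hev p
        omega
      -- count the nonzero coordinates
      have hsq : ∀ p, x p ^ 2 = if x p ≠ 0 then 16 else 0 := by
        intro p
        rcases h4 p with h | h | h <;> rw [h] <;> norm_num
      have hcount : ((Finset.univ.filter (fun p => x p ≠ 0)).card : ℤ) * 16 = 32 := by
        have : ∑ p, x p ^ 2 = 32 := hn
        rw [Finset.sum_congr rfl (fun p _ => hsq p), ← Finset.sum_filter, Finset.sum_const] at this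
        simpa using this
      have hcard : (Finset.univ.filter (fun p => x p ≠ 0)).card = 2 := by omega
      obtain ⟨i, j, hij, he⟩ := Finset.card_eq_two.mp hcard
      have hi : x i ≠ 0 := by
        have : i ∈ Finset.univ.filter (fun p => x p ≠ 0) := by rw [he]; simp
        exact (Finset.mem_filter.mp this).2
      have hj : x j ≠ 0 := by
        have : j ∈ Finset.univ.filter (fun p => x p ≠ 0) := by rw [he]; simp
        exact (Finset.mem_filter.mp this).2
      refine ⟨i, j, hij, ?_, ?_, ?_⟩
      · rcases h4 i with h | h | h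
        · exact absurd h hi
        · exact Or.inl h
        · exact Or.inr h
      · rcases h4 j with h | h | h
        · exact absurd h hj
        · exact Or.inl h
        · exact Or.inr h
      · intro p hpi hpj
        by_contra hp
        have : p ∈ Finset.univ.filter (fun p => x p ≠ 0) := by simp [hp]
        rw [he] at this
        simp only [Finset.mem_insert, Finset.mem_singleton] at this
        rcases this with h | h
        · exact hpi h
        · exact hpj h
    · -- an octad
      right; left
      rw [hc] at hexc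
      have hzero : ∑ p, (if p ∈ lvl x 2 then x p ^ 2 - 4 else x p ^ 2) = 0 := by
        rw [hexc]; norm_num
      refine ⟨lvl x 2, ⟨hL, hc⟩, fun p hp => (hmem p).mp hp, fun p hp => ?_⟩
      have := sum_eq_zero_of hnn hzero p
      rw [if_neg hp] at this
      exact pow_eq_zero_iff (two_ne_zero) |>.mp this
    · exfalso; rw [hc] at hexc; rw [hexc] at hsumnn; norm_num at hsumnn
    · exfalso; rw [hc] at hexc; rw [hexc] at hsumnn; norm_num at hsumnn
    · exfalso; rw [hc] at hexc; rw [hexc] at hsumnn; norm_num at hsumnn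
  · -- odd case
    right; right
    have hodd : ∀ p, x p % 2 = 1 := fun p => by have := h1 p; omega
    have hval : ∀ p, x p = 1 ∨ x p = -1 ∨ x p = 3 ∨ x p = -3 ∨ x p = 5 ∨ x p = -5 := by
      intro p
      have := hb p
      have := hodd p
      omega
    let u : GolayPt → ℕ := fun p => ((x p ^ 2 - 1) / 8).toNat
    have hu : ∀ p, x p ^ 2 = 1 + 8 * (u p : ℤ) := by
      intro p
      show x p ^ 2 = 1 + 8 * (((x p ^ 2 - 1) / 8).toNat : ℤ)
      rcases hval p with h | h | h | h | h | h <;> rw [h] <;> norm_num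
    have hsum : ∑ p, u p = 1 := by
      have : ∑ p, x p ^ 2 = 32 := hn
      rw [Finset.sum_congr rfl (fun p _ => hu p), Finset.sum_add_distrib, ← Finset.mul_sum,
        Finset.sum_const, Finset.card_univ, card_golayPt] at this
      have h8 : (8 : ℤ) * ∑ p, (u p : ℤ) = 8 := by
        simp only [nsmul_eq_mul, Nat.cast_ofNat, mul_one] at this
        omega
      have : ∑ p, (u p : ℤ) = 1 := by omega
      exact_mod_cast this
    obtain ⟨i, hi, hrest⟩ := sum_eq_one hsum
    refine ⟨i, ?_, fun p hp => ?_⟩
    · have := hu i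
      rw [hi] at this
      rcases hval i with h | h | h | h | h | h <;> rw [h] at this <;> norm_num at this
      · exact Or.inl h
      · exact Or.inr h
    · have := hu p
      rw [hrest p hp] at this
      rcases hval p with h | h | h | h | h | h <;> rw [h] at this <;> norm_num at this
      · exact Or.inl h
      · exact Or.inr h

end Cfsg.Agent.Lib.Helper1.LeechShape
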