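import Mathlib
import Cfsg.Agent.Lib.Helper1.LeechEnum3
import Cfsg.Agent.Lib.Helper1.LeechShape32

set_option autoImplicit false

namespace Cfsg.Agent.Lib.Helper1.LeechEnum

open Cfsg Cfsg.Agent.Lib.Helper1.LeechCross Cfsg.Agent.Lib.Helper1.LeechShape
  Cfsg.Agent.Lib.Helper1.MaskOf

/-! ### Candidates of the shape (±4, ±4) -/

def candA (i j s : ℕ) : ℕ :=
  Nat.sub (Nat.add (Nat.add BASE (Nat.shiftLeft 4 (Nat.mul 16 i))) (Nat.shiftLeft 4 (Nat.mul 16 j)))
    (Nat.add (Nat.shiftLeft (Nat.mul 8 (Nat.mod s 2)) (Nat.mul 16 i))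
      (Nat.shiftLeft (Nat.mul 8 (Nat.div s 2)) (Nat.mul 16 j)))

def fA (i j s p : ℕ) : ℕ :=
  if p = i then (if s % 2 = 0 then 260 else 252)
  else if p = j then (if s / 2 = 0 then 260 else 252) else 256

theorem fA_lt (i j s p : ℕ) : fA i j s p < 65536 := by
  unfold fA; split_ifs <;> norm_num

theorem candA_eq (i j s : ℕ) (hi : i < 24) (hj : j < 24) (hij : i ≠ j) (hs : s < 4) :
    candA i j s = pkr 24 (fA i j s) := by
  show BASE + 4 <<< (16 * i) + 4 <<< (16 * j) -
    ((8 * (s % 2)) <<< (16 * i) + (8 * (s / 2)) <<< (16 * j)) = _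
  have e' : ∀ c k, k < 24 → c <<< (16 * k) = pkr 24 (fun p => if p = k then c else 0) :=
    fun c k hk => shl_pkr c k hk
  rw [e' 4 i hi, e' 4 j hj, e' _ i hi, e' _ j hj, BASE_eq, pkr_add, pkr_add, pkr_add, pkr_sub]
  · apply pkr_congr
    intro k _
    unfold fA
    have h1 : s % 2 = 0 ∨ s % 2 = 1 := by omega
    have h2 : s / 2 = 0 ∨ s / 2 = 1 := by omega
    by_cases hki : k = i
    · subst hki
      have : k ≠ j := hij
      rcases h1 with h1 | h1 <;> simp [h1, this]
    · by_cases hkj : k = j
      · subst hkj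
        rcases h2 with h2 | h2 <;> simp [h2, hki]
      · simp [hki, hkj]
  · intro k _
    have h1 : s % 2 = 0 ∨ s % 2 = 1 := by omega
    have h2 : s / 2 = 0 ∨ s / 2 = 1 := by omega
    by_cases hki : k = i
    · subst hki
      have : k ≠ j := hij
      rcases h1 with h1 | h1 <;> simp [h1, this]
    · by_cases hkj : k = j
      · subst hkj
        rcases h2 with h2 | h2 <;> simp [h2, hki]
      · simp [hki, hkj]

/-! ### Every minimal vector is a candidate -/

theorem caseA {z : GolayPt → ℤ} (h : ShI z) :
    ∃ i j s, i < j ∧ j < 24 ∧ s < 4 ∧ vec (pkr 24 (fA i j s)) = z := by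
  obtain ⟨a, b, hab, ha, hb, hr⟩ := h
  -- order the two positions
  wlog hlt : gIdx a < gIdx b generalizing a b
  · have hne : gIdx a ≠ gIdx b := fun e => hab (gIdx_injective e)
    exact this b a hab.symm hb ha (fun p h1 h2 => hr p h2 h1) (by omega)
  let sa : ℕ := if z a = 4 then 0 else 1
  let sb : ℕ := if z b = 4 then 0 else 1
  refine ⟨gIdx a, gIdx b, sa + 2 * sb, hlt, gIdx_lt b, ?_, ?_⟩
  · simp only [sa, sb]; split_ifs <;> norm_num
  · funext p
    rw [vec_pkr (fun k _ => fA_lt _ _ _ k)]
    unfold fA
    have hsa : (sa + 2 * sb) % 2 = sa := by simp only [sa, sb]; split_ifs <;> norm_num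
    have hsb : (sa + 2 * sb) / 2 = sb := by simp only [sa, sb]; split_ifs <;> norm_num
    rw [hsa, hsb]
    by_cases hpa : p = a
    · subst hpa
      simp only [if_true, sa]
      rcases ha with h | h <;> simp [h]
    · have h1 : gIdx p ≠ gIdx a := fun e => hpa (gIdx_injective e)
      by_cases hpb : p = b
      · subst hpb
        simp only [if_neg h1, if_true, sb]
        rcases hb with h | h <;> simp [h]
      · have h2 : gIdx p ≠ gIdx b := fun e => hpb (gIdx_injective e)
        simp only [if_neg h1, if_neg h2]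
        rw [hr p hpa hpb]; norm_num

theorem caseC {z : GolayPt → ℤ} (hz : z ∈ leechLattice) (h : ShIII z) :
    ∃ c < 4096, ∃ i < 24, vec (pkr 24 (fC (cw c) i)) = z := by
  obtain ⟨a, ha, hr⟩ := h
  obtain ⟨m, _, _, h3⟩ := (mem_leechLattice_iff z).mp hz
  have hL : lvl z 3 ∈ gC := h3 3
  obtain ⟨w, hw, hws⟩ := hL
  obtain ⟨c, hc, rfl⟩ := (mem_golayCode_iff w).mp hw
  have hbit : ∀ p, (cw c).testBit (gIdx p) = true ↔ z p % 4 = 3 := by
    intro p
    rw [← mem_support_ofMask, hws, mem_lvl_iff]
    norm_num
  refine ⟨c, hc, gIdx a, gIdx_lt a, ?_⟩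
  funext p
  rw [vec_pkr (fun k _ => fC_lt _ _ k)]
  unfold fC
  by_cases hpa : p = a
  · subst hpa
    simp only [if_true]
    by_cases hb : (cw c).testBit (gIdx p) = true
    · have := (hbit p).mp hb
      rw [if_pos hb]
      rcases ha with h | h
      · rw [h]; norm_num
      · rw [h] at this; norm_num at this
    · have := mt (hbit p).mpr hb
      rw [if_neg hb]
      rcases ha with h | h
      · rw [h] at this; norm_num at this
      · rw [h]; norm_num
  · have h1 : gIdx p ≠ gIdx a := fun e => hpa (gIdx_injective e)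
    rw [if_neg h1]
    by_cases hb : (cw c).testBit (gIdx p) = true
    · have := (hbit p).mp hb
      rw [if_pos hb]
      rcases hr p hpa with h | h
      · rw [h] at this; norm_num at this
      · rw [h]; norm_num
    · have := mt (hbit p).mpr hb
      rw [if_neg hb]
      rcases hr p hpa with h | h
      · rw [h]; norm_num
      · rw [h] at this; norm_num at this

theorem length_filter_testBit (n k : ℕ) :
    ((List.range k).filter (fun p => n.testBit p)).length = popcN k n := by
  induction k with
  | zero => rfl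
  | succ k ih =>
    rw [List.range_succ, List.filter_append, List.length_append, ih]
    show _ = popcN k n + (if n.testBit k then 1 else 0)
    congr 1
    cases h : n.testBit k <;> simp [h]

theorem parL_eq (S : List Bool) : parL S = decide (S.count true % 2 = 1) := by
  induction S with
  | nil => rfl
  | cons b S ih =>
    show xor b (parL S) = _
    rw [ih]
    cases b
    · simp
    · simp only [Bool.true_xor, List.count_cons_self]
      by_cases h : S.count true % 2 = 1
      · have : (S.count true + 1) % 2 ≠ 1 := by omega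
        simp [h, this]
      · have : (S.count true + 1) % 2 = 1 := by omega
        simp [h, this]

theorem sum_signs (l : List ℕ) (T : ℕ → Bool) :
    (l.map (fun k => (2 : ℤ) - 4 * (if T k then 1 else 0))).sum =
      2 * (l.length : ℤ) - 4 * ((l.map T).count true : ℤ) := by
  induction l with
  | nil => simp
  | cons a l ih =>
    rw [List.map_cons, List.sum_cons, ih, List.map_cons, List.length_cons]
    cases h : T a
    · rw [List.count_cons_of_ne (by simp)]
      push_cast
      ring
    · rw [List.count_cons_self]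
      push_cast
      rw [if_pos rfl]
      ring

theorem sum_filter_of_zero (l : List ℕ) (f : ℕ → ℤ) (P : ℕ → Bool) (h : ∀ k ∈ l, P k = false → f k = 0) :
    (l.map f).sum = ((l.filter P).map f).sum := by
  induction l with
  | nil => rfl
  | cons a l ih =>
    have ih' := ih (fun k hk => h k (by simp [hk]))
    rw [List.map_cons, List.sum_cons, ih']
    cases hP : P a
    · rw [List.filter_cons_of_neg (by simp [hP]), h a (by simp) hP, zero_add]
    · rw [List.filter_cons_of_pos (by simp [hP]), List.map_cons, List.sum_cons]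

theorem caseB {z : GolayPt → ℤ} (hz : z ∈ leechLattice) (h : ShII z) :
    ∃ c < 4096, popcN 24 (cw c) = 8 ∧ ∃ q0 rest, bitPos (cw c) = q0 :: rest ∧
      ∃ T : ℕ → Bool, xor (T q0) (parL (rest.map T)) = false ∧
        vec (pkr 24 (fB (cw c) T)) = z := by
  obtain ⟨O, hO, hon, hoff⟩ := h
  obtain ⟨w, hw, hws, hcard⟩ := (mem_octads_iff O).mp hO
  obtain ⟨c, hc, rfl⟩ := (mem_golayCode_iff w).mp hw
  have hbit : ∀ p, (cw c).testBit (gIdx p) = true ↔ p ∈ O := by
    intro p
    rw [← mem_support_ofMask, hws]
  have hpop : popcN 24 (cw c) = 8 := by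
    rw [← card_support₂_ofMask, hws, hcard]
  have hlen : (bitPos (cw c)).length = 8 := by
    unfold bitPos
    rw [length_filter_testBit, hpop]
  let T : ℕ → Bool := fun k => decide (z (gUnidx k) = -2)
  -- the coordinates
  have hvec : vec (pkr 24 (fB (cw c) T)) = z := by
    funext p
    rw [vec_pkr (fun k _ => fB_lt _ _ k)]
    unfold fB
    by_cases hp : p ∈ O
    · rw [if_pos ((hbit p).mpr hp)]
      simp only [T, gUnidx_gIdx]
      rcases hon p hp with h | h <;> simp [h]
    · rw [if_neg (fun hb => hp ((hbit p).mp hb)), hoff p hp]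
      norm_num
  -- the sum condition
  obtain ⟨m, h1, h2, _⟩ := (mem_leechLattice_iff z).mp hz
  simp only [Int.ModEq] at h1 h2
  have hsum8 : (∑ p, z p) % 8 = 0 := by
    obtain ⟨p, hp⟩ : ∃ p, p ∈ O := Finset.card_pos.mp (by rw [hcard]; norm_num)
    have := h1 p
    rcases hon p hp with h | h <;> rw [h] at this <;> omega
  have hsum : ∑ p, z p = 2 * ((bitPos (cw c)).length : ℤ) -
      4 * (((bitPos (cw c)).map T).count true : ℤ) := by
    rw [sum_pts, sum_filter_of_zero (List.range 24) (fun i => z (gUnidx i))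
      (fun p => (cw c).testBit p), ← sum_signs]
    · apply congrArg
      apply List.map_congr_left
      intro k hk
      have hk' := (mem_bitPos (cw c) k).mp hk
      have hkO : gUnidx k ∈ O := by
        rw [← hbit, gIdx_gUnidx k hk'.1]; exact hk'.2
      simp only [T]
      rcases hon _ hkO with h | h <;> simp [h]
    · intro k hk hb
      have hk' : k < 24 := List.mem_range.mp hk
      apply hoff
      intro hkO
      rw [← hbit, gIdx_gUnidx k hk'] at hkO
      rw [hkO] at hb
      exact Bool.noConfusion hb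
  rw [hlen] at hsum
  match hq : bitPos (cw c), hlen with
  | [], hl => simp at hl
  | q0 :: rest, _ =>
    refine ⟨c, hc, hpop, q0, rest, hq, T, ?_, hvec⟩
    have : parL ((q0 :: rest).map T) = xor (T q0) (parL (rest.map T)) := rfl
    rw [← this, parL_eq, ← hq]
    have : ((bitPos (cw c)).map T).count true % 2 ≠ 1 := by omega
    simp [this]

end Cfsg.Agent.Lib.Helper1.LeechEnum
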