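import Mathlib
import Cfsg.Agent.Lib.Helper1.LeechEnum4

set_option autoImplicit false

namespace Cfsg.Agent.Lib.Helper1.LeechEnum

open Cfsg Cfsg.Agent.Lib.Helper1.LeechCross Cfsg.Agent.Lib.Helper1.LeechShape
  Cfsg.Agent.Lib.Helper1.MaskOf

/-- a transitivity problem: fixed vectors, target, condition on candidates, generators -/
structure Prob where
  Y : List ℕ
  z0 : ℕ
  cond : ℕ → Bool
  G : List (List (List ℕ))

/-- the `idx`-th 64-bit slot of a certificate -/
def slot (cert idx : ℕ) : ℕ :=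
  Nat.mod (Nat.shiftRight cert (Nat.mul 64 idx)) 18446744073709551616

/-- a candidate satisfying the condition is carried to the target by its path -/
def chkCand (P : Prob) (cert z idx : ℕ) : Bool :=
  cond (P.cond z) (Nat.beq (evalPath P.G 10 (slot cert idx) z) P.z0) true

/-- the target is reached from `z` by an automorphism fixing `Y` -/
def Reach (P : Prob) (z : GolayPt → ℤ) : Prop :=
  ∃ F, IsAct F ∧ (∀ y ∈ P.Y, F (vec y) = vec y) ∧ F z = vec P.z0

theorem chkCand_sound {P : Prob} (hY : ∀ y ∈ P.Y, Good y) (hG : gensOK P.Y P.G = true)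
    {cert v idx : ℕ} (h : chkCand P cert v idx = true) (hv : Good v) (hc : P.cond v = true) :
    Reach P (vec v) := by
  unfold chkCand at h
  rw [hc, cond_true] at h
  have h1 := (nbeq_iff _ _).mp h
  obtain ⟨F, hF, hFY, hf⟩ := evalPath_sound hY hG 10 (slot cert idx)
  refine ⟨F, hF, hFY, ?_⟩
  rw [← hf v hv, h1]

/-! ### The three kinds of chunks -/

def chkA (P : Prob) (cert : ℕ) : Bool :=
  allB (fun i => allB (fun j => cond (Nat.blt i j)
    (allB (fun s => chkCand P cert (candA i j s) (Nat.add (Nat.mul (Nat.add (Nat.mul i 24) j) 4) s)) 4)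
    true) 24) 24

def leafB (P : Prob) (cert q0 : ℕ) (D : ℕ) (par : Bool) (idx : ℕ) : Bool :=
  chkCand P cert (cond par (Nat.sub D (Nat.shiftLeft 4 (Nat.mul 16 q0))) D) (Nat.add 32 idx)

def chkB (P : Prob) (cert C : ℕ) : Bool :=
  List.casesOn (motive := fun _ => Bool) (bitPos C) true
    (fun q0 rest => trav (leafB P cert q0) rest (dB C) false 0 1)

def chkC (P : Prob) (cert C : ℕ) : Bool :=
  (fun D => allB (fun i => chkCand P cert (candC D C i) i) 24) (dC C)

/-- is the code word an octad? -/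
def isOct (C : ℕ) : Bool := Nat.beq (popcN 24 C) 8

def chkChunk (P : Prob) (c cert : ℕ) : Bool :=
  (fun C => and (chkC P cert C) (cond (isOct C) (chkB P cert C) true)) (cw c)

theorem chkA_sound {P : Prob} (hY : ∀ y ∈ P.Y, Good y) (hG : gensOK P.Y P.G = true)
    {cert : ℕ} (h : chkA P cert = true) {z : GolayPt → ℤ} (hz : z ∈ leechLattice)
    (hn : sqNorm z = 32) (hc : ∀ v, v < 65536 ^ 24 → vec v = z → P.cond v = true) (hs : ShI z) : Reach P z := by
  obtain ⟨i, j, s, hij, hj, hs4, hv⟩ := caseA hs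
  unfold chkA at h
  rw [allB_iff] at h
  have h1 := h i (by omega)
  rw [allB_iff] at h1
  have h2 := h1 j hj
  have hblt : Nat.blt i j = true := by
    show Nat.ble (i + 1) j = true
    exact Nat.ble_eq_true_of_le hij
  rw [hblt, cond_true, allB_iff] at h2
  have h3 := h2 s hs4
  rw [candA_eq i j s (by omega) hj (by omega) hs4] at h3
  have hg : Good (pkr 24 (fA i j s)) := by
    unfold Good; rw [hv]; exact ⟨hz, by rw [hn]; norm_num⟩
  have := chkCand_sound hY hG h3 hg (hc _ (pkr_lt24 _ (fun k _ => fA_lt _ _ _ k)) hv)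
  rwa [hv] at this

theorem chkC_sound {P : Prob} (hY : ∀ y ∈ P.Y, Good y) (hG : gensOK P.Y P.G = true)
    (hall : ∀ c < 4096, ∃ cert, chkChunk P c cert = true) {z : GolayPt → ℤ}
    (hz : z ∈ leechLattice) (hn : sqNorm z = 32) (hc : ∀ v, v < 65536 ^ 24 → vec v = z → P.cond v = true)
    (hs : ShIII z) : Reach P z := by
  obtain ⟨c, hc4, i, hi, hv⟩ := caseC hz hs
  obtain ⟨cert, h⟩ := hall c hc4
  unfold chkChunk at h
  simp only [Bool.and_eq_true] at h
  have h1 := h.1
  unfold chkC at h1
  simp only [allB_iff] at h1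
  have h3 := h1 i hi
  rw [candC_eq (cw c) i hi] at h3
  have hg : Good (pkr 24 (fC (cw c) i)) := by
    unfold Good; rw [hv]; exact ⟨hz, by rw [hn]; norm_num⟩
  have := chkCand_sound hY hG h3 hg (hc _ (pkr_lt24 _ (fun k _ => fC_lt _ _ k)) hv)
  rwa [hv] at this

theorem chkB_sound {P : Prob} (hY : ∀ y ∈ P.Y, Good y) (hG : gensOK P.Y P.G = true)
    (hall : ∀ c < 4096, ∃ cert, chkChunk P c cert = true) {z : GolayPt → ℤ}
    (hz : z ∈ leechLattice) (hn : sqNorm z = 32) (hc : ∀ v, v < 65536 ^ 24 → vec v = z → P.cond v = true)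
    (hs : ShII z) : Reach P z := by
  obtain ⟨c, hc4, hpop, q0, rest, hq, T, hpar, hv⟩ := caseB hz hs
  obtain ⟨cert, h⟩ := hall c hc4
  unfold chkChunk at h
  simp only [Bool.and_eq_true] at h
  have h1 := h.2
  have hoct : isOct (cw c) = true := (nbeq_iff _ _).mpr hpop
  rw [hoct, cond_true] at h1
  unfold chkB at h1
  rw [hq] at h1
  have h2 : trav (leafB P cert q0) rest (dB (cw c)) false 0 1 = true := h1
  have h3 := trav_spec _ rest _ _ _ _ h2 (rest.map T) (by simp)
  unfold leafB at h3
  rw [Bool.false_xor] at h3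
  have e : Nat.sub (dB (cw c) - 4 * wsum rest (rest.map T)) (Nat.shiftLeft 4 (Nat.mul 16 q0)) =
      dB (cw c) - 4 * wsum rest (rest.map T) - 4 * 65536 ^ q0 := by
    rw [shl_eq]; rfl
  rw [e, leafB_eq (cw c) q0 rest hq T hpar] at h3
  have hg : Good (pkr 24 (fB (cw c) T)) := by
    unfold Good; rw [hv]; exact ⟨hz, by rw [hn]; norm_num⟩
  have := chkCand_sound hY hG h3 hg (hc _ (pkr_lt24 _ (fun k _ => fB_lt _ _ k)) hv)
  rwa [hv] at this

/-- the main theorem: all checks passed, so every minimal vector satisfying the condition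
reaches the target -/
theorem reach_of_checks {P : Prob} (hY : ∀ y ∈ P.Y, Good y) (hG : gensOK P.Y P.G = true)
    (hA : ∃ cert, chkA P cert = true) (hall : ∀ c < 4096, ∃ cert, chkChunk P c cert = true)
    {z : GolayPt → ℤ} (hz : z ∈ leechLattice) (hn : sqNorm z = 32)
    (hc : ∀ v, v < 65536 ^ 24 → vec v = z → P.cond v = true) : Reach P z := by
  rcases shape32 hz hn with h | h | h
  · obtain ⟨cert, hA⟩ := hA
    exact chkA_sound hY hG hA hz hn hc h
  · exact chkB_sound hY hG hall hz hn hc h
  · exact chkC_sound hY hG hall hz hn hc h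

/-! ### Checking a range of chunks -/

def chkFrom (P : Prob) (c : ℕ) (certs : List ℕ) : Bool :=
  List.rec (motive := fun _ => ℕ → Bool) (fun _ => true)
    (fun cert _ ih c => and (chkChunk P c cert) (ih (Nat.succ c))) certs c

theorem chkFrom_cons (P : Prob) (c cert : ℕ) (certs : List ℕ) :
    chkFrom P c (cert :: certs) = (chkChunk P c cert && chkFrom P (c + 1) certs) := rfl

theorem chkFrom_sound (P : Prob) : ∀ (certs : List ℕ) (c : ℕ), chkFrom P c certs = true →
    ∀ k, c ≤ k → k < c + certs.length → ∃ cert, chkChunk P k cert = true := by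
  intro certs
  induction certs with
  | nil => intro c _ k h1 h2; simp at h2; omega
  | cons cert certs ih =>
    intro c h k h1 h2
    rw [chkFrom_cons, Bool.and_eq_true] at h
    by_cases hk : k = c
    · subst hk; exact ⟨cert, h.1⟩
    · exact ih (c + 1) h.2 k (by omega) (by simp at h2; omega)

end Cfsg.Agent.Lib.Helper1.LeechEnum
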