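import Mathlib
import Cfsg.Agent.Lib.Helper1.LeechEnum5

set_option autoImplicit false

namespace Cfsg.Agent.Lib.Helper1.LeechEnum

open Cfsg Cfsg.Agent.Lib.Helper1.LeechCross Cfsg.Agent.Lib.Helper1.LeechAut

/-! ### Field sums -/

theorem pkr_flds (v n : ℕ) : pkr n (fun k => fld k v) = v % 65536 ^ n := by
  induction n with
  | zero => simp [pkr_zero, Nat.mod_one]
  | succ n ih =>
    rw [pkr_succ, ih, fld_eq, Nat.mod_pow_succ]
    ring

theorem pkr_mod (n : ℕ) (f : ℕ → ℕ) :
    pkr n f % 65535 = ((List.range n).map f).sum % 65535 := by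
  induction n with
  | zero => rfl
  | succ n ih =>
    rw [pkr_succ, List.range_succ, List.map_append, List.sum_append, List.map_singleton,
      List.sum_singleton, Nat.add_mod, ih, Nat.mul_mod, Nat.pow_mod]
    norm_num

theorem fsum_eq {v : ℕ} (hv : v < 65536 ^ 24) (hb : ∀ k < 24, fld k v ≤ 264) :
    v % 65535 = ((List.range 24).map (fun k => fld k v)).sum := by
  have h1 : pkr 24 (fun k => fld k v) = v := by
    rw [pkr_flds, Nat.mod_eq_of_lt hv]
  have h2 := pkr_mod 24 (fun k => fld k v)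
  rw [h1] at h2
  rw [h2]
  apply Nat.mod_eq_of_lt
  have : ((List.range 24).map (fun k => fld k v)).sum ≤ 24 * 264 := by
    have := List.sum_le_card_nsmul ((List.range 24).map (fun k => fld k v)) 264 (by
      intro a ha
      obtain ⟨j, hj, rfl⟩ := List.mem_map.mp ha
      exact hb j (List.mem_range.mp hj))
    simpa using this
  omega

theorem dot_list (y : GolayPt → ℤ) (v : ℕ) :
    dotInt y (vec v) =
      ((List.range 24).map (fun i => y (gUnidx i) * ((fld i v : ℤ) - 256))).sum := by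
  unfold dotInt
  rw [sum_pts]
  apply congrArg
  apply List.map_congr_left
  intro i hi
  rw [vec_apply, gIdx_gUnidx i (List.mem_range.mp hi)]

theorem sum_fld_cast (v : ℕ) :
    ((((List.range 24).map (fun k => fld k v)).sum : ℕ) : ℤ) =
      ((List.range 24).map (fun k => (fld k v : ℤ))).sum := by
  rw [Nat.cast_list_sum, List.map_map]
  rfl

/-! ### From coordinate maps back to the group -/

/-- an automorphism fixing the listed vectors and carrying `z` to `z0` -/
def ReachG (Ys : List (GolayPt → ℤ)) (z z0 : GolayPt → ℤ) : Prop :=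
  ∃ g : Co0, (∀ y ∈ Ys, ∀ x : leechLattice, (x : GolayPt → ℤ) = y → g • x = x) ∧
    ∀ x : leechLattice, (x : GolayPt → ℤ) = z → ((g • x : leechLattice) : GolayPt → ℤ) = z0

theorem Reach.toG {P : Prob} {z : GolayPt → ℤ} (h : Reach P z) :
    ReachG (P.Y.map vec) z (vec P.z0) := by
  obtain ⟨F, ⟨g, hg⟩, hFY, hFz⟩ := h
  refine ⟨g, fun y hy x hx => ?_, fun x hx => ?_⟩
  · obtain ⟨y', hy', rfl⟩ := List.mem_map.mp hy
    apply Subtype.ext
    rw [hg, hx, hFY y' hy']
  · rw [hg, hx, hFz]

/-- two vectors reaching the same target are related by an automorphism fixing `Ys` -/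
theorem ReachG.join {Ys : List (GolayPt → ℤ)} {z z' z0 : GolayPt → ℤ} (h : ReachG Ys z z0)
    (h' : ReachG Ys z' z0) :
    ∃ g : Co0, (∀ y ∈ Ys, ∀ x : leechLattice, (x : GolayPt → ℤ) = y → g • x = x) ∧
      ∀ x x' : leechLattice, (x : GolayPt → ℤ) = z → (x' : GolayPt → ℤ) = z' → g • x = x' := by
  obtain ⟨g, hgY, hgz⟩ := h
  obtain ⟨g', hgY', hgz'⟩ := h'
  refine ⟨g'⁻¹ * g, fun y hy x hx => ?_, fun x x' hx hx' => ?_⟩
  · rw [mul_smul, hgY y hy x hx, inv_smul_eq_iff, hgY' y hy x hx]
  · rw [mul_smul, inv_smul_eq_iff]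
    apply Subtype.ext
    rw [hgz x hx, hgz' x' hx']

end Cfsg.Agent.Lib.Helper1.LeechEnum
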