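import Mathlib
import Cfsg.Agent.Lib.Helper1.LeechShape32

set_option autoImplicit false

namespace Cfsg.Agent.Lib.Helper1.LeechShape

open Cfsg Cfsg.Agent.Lib.Helper1.LeechCross

/-- shape (±2^12, 0^12) -/
def ShA (x : GolayPt → ℤ) : Prop :=
  ∃ D ∈ dodecads, (∀ p ∈ D, x p = 2 ∨ x p = -2) ∧ ∀ p ∉ D, x p = 0

/-- shape (∓3^3, ±1^21) -/
def ShB (x : GolayPt → ℤ) : Prop :=
  ∃ i j k, i ≠ j ∧ i ≠ k ∧ j ≠ k ∧ (x i = 3 ∨ x i = -3) ∧ (x j = 3 ∨ x j = -3) ∧
    (x k = 3 ∨ x k = -3) ∧ ∀ p, p ≠ i → p ≠ j → p ≠ k → (x p = 1 ∨ x p = -1)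

/-- shape (±4, ±2^8, 0^15) -/
def ShC (x : GolayPt → ℤ) : Prop :=
  ∃ O ∈ octads, ∃ q, q ∉ O ∧ (x q = 4 ∨ x q = -4) ∧ (∀ p ∈ O, x p = 2 ∨ x p = -2) ∧
    ∀ p, p ∉ O → p ≠ q → x p = 0

/-- shape (∓5, ±1^23) -/
def ShD (x : GolayPt → ℤ) : Prop :=
  ∃ i, (x i = 5 ∨ x i = -5) ∧ ∀ p, p ≠ i → (x p = 1 ∨ x p = -1)

/-- a sum of naturals equal to three, no term being two -/
theorem sum_eq_three {u : GolayPt → ℕ} (h : ∑ p, u p = 3) (h2 : ∀ p, u p ≠ 2) :
    (∃ i, u i = 3 ∧ ∀ p, p ≠ i → u p = 0) ∨
    (∃ i j k, i ≠ j ∧ i ≠ k ∧ j ≠ k ∧ u i = 1 ∧ u j = 1 ∧ u k = 1 ∧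
      ∀ p, p ≠ i → p ≠ j → p ≠ k → u p = 0) := by
  obtain ⟨i, -, hi⟩ := Finset.exists_ne_zero_of_sum_ne_zero (s := Finset.univ) (f := u)
    (by rw [h]; norm_num)
  have h1 := Finset.add_sum_erase Finset.univ u (Finset.mem_univ i)
  rw [h] at h1
  have hi2 := h2 i
  have hcase : u i = 3 ∨ u i = 1 := by omega
  rcases hcase with h3 | h3
  · left
    refine ⟨i, h3, fun p hp => ?_⟩
    have : ∑ p ∈ Finset.univ.erase i, u p = 0 := by omega
    exact (Finset.sum_eq_zero_iff.mp this) p (Finset.mem_erase.mpr ⟨hp, Finset.mem_univ p⟩)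
  · right
    have hs1 : ∑ p ∈ Finset.univ.erase i, u p = 2 := by omega
    obtain ⟨j, hj, hj0⟩ := Finset.exists_ne_zero_of_sum_ne_zero (s := Finset.univ.erase i) (f := u)
      (by rw [hs1]; norm_num)
    have h4 := Finset.add_sum_erase (Finset.univ.erase i) u hj
    rw [hs1] at h4
    have hj2 := h2 j
    have hj1 : u j = 1 := by omega
    have hs2 : ∑ p ∈ (Finset.univ.erase i).erase j, u p = 1 := by omega
    obtain ⟨k, hk, hk0⟩ := Finset.exists_ne_zero_of_sum_ne_zero
      (s := (Finset.univ.erase i).erase j) (f := u) (by rw [hs2]; norm_num)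
    have h5 := Finset.add_sum_erase ((Finset.univ.erase i).erase j) u hk
    rw [hs2] at h5
    have hk1 : u k = 1 := by omega
    have hs3 : ∑ p ∈ ((Finset.univ.erase i).erase j).erase k, u p = 0 := by omega
    have hji : j ≠ i := (Finset.mem_erase.mp hj).1
    have hkj : k ≠ j := (Finset.mem_erase.mp hk).1
    have hki : k ≠ i := (Finset.mem_erase.mp (Finset.mem_erase.mp hk).2).1
    refine ⟨i, j, k, hji.symm, hki.symm, hkj.symm, h3, hj1, hk1, fun p hpi hpj hpk => ?_⟩
    exact (Finset.sum_eq_zero_iff.mp hs3) p (Finset.mem_erase.mpr ⟨hpk,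
      Finset.mem_erase.mpr ⟨hpj, Finset.mem_erase.mpr ⟨hpi, Finset.mem_univ p⟩⟩⟩)

theorem shape48 {x : GolayPt → ℤ} (hx : x ∈ leechLattice) (hn : sqNorm x = 48) :
    ShA x ∨ ShB x ∨ ShC x ∨ ShD x := by
  obtain ⟨m, h1, h2, h3⟩ := (mem_leechLattice_iff x).mp hx
  simp only [Int.ModEq] at h1 h2
  have hb : ∀ p, -6 ≤ x p ∧ x p ≤ 6 := by
    intro p
    have := coord_sq_le (x := x) p
    rw [hn] at this
    constructor <;> nlinarith
  rcases Int.emod_two_eq_zero_or_one m with hm | hm
  · -- even case
    have hev : ∀ p, x p % 2 = 0 := fun p => by have := h1 p; omega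
    have hL : lvl x 2 ∈ gC := h3 2
    have hmem : ∀ p, p ∈ lvl x 2 ↔ (x p = 2 ∨ x p = -2 ∨ x p = 6 ∨ x p = -6) := by
      intro p
      rw [mem_lvl_iff]
      have := hb p
      have := hev p
      omega
    have hnmem : ∀ p, p ∉ lvl x 2 → (x p = 0 ∨ x p = 4 ∨ x p = -4) := by
      intro p hp
      rw [hmem] at hp
      have := hb p
      have := hev p
      omega
    -- the function measuring the excess
    have hexc : ∑ p, (if p ∈ lvl x 2 then x p ^ 2 - 4 else x p ^ 2) =
        48 - 4 * ((lvl x 2).card : ℤ) := by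
      have : ∀ p, (if p ∈ lvl x 2 then x p ^ 2 - 4 else x p ^ 2) =
          x p ^ 2 - (if p ∈ lvl x 2 then 4 else 0) := by
        intro p; split_ifs <;> ring
      rw [Finset.sum_congr rfl (fun p _ => this p), Finset.sum_sub_distrib, Finset.sum_ite_mem,
        Finset.univ_inter, Finset.sum_const]
      have : ∑ p, x p ^ 2 = 48 := hn
      rw [this]
      simp
      ring
    have hnn : ∀ p, 0 ≤ (if p ∈ lvl x 2 then x p ^ 2 - 4 else x p ^ 2) := by
      intro p
      split_ifs with hp
      · rcases (hmem p).mp hp with h | h | h | h <;> rw [h] <;> norm_num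
      · exact sq_nonneg _
    have hsumnn : 0 ≤ ∑ p, (if p ∈ lvl x 2 then x p ^ 2 - 4 else x p ^ 2) :=
      Finset.sum_nonneg (fun p _ => hnn p)
    rcases gC_card_cases hL with hc | hc | hc | hc | hc
    · -- all coordinates divisible by 4: impossible
      exfalso
      have h4 : ∀ p, x p = 0 ∨ x p = 4 ∨ x p = -4 := by
        intro p
        apply hnmem
        rw [Finset.card_eq_zero.mp hc]; exact Finset.notMem_empty p
      have hsq : ∀ p, x p ^ 2 = if x p ≠ 0 then 16 else 0 := by
        intro p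
        rcases h4 p with h | h | h <;> rw [h] <;> norm_num
      have hcount : ((Finset.univ.filter (fun p => x p ≠ 0)).card : ℤ) * 16 = 48 := by
        have : ∑ p, x p ^ 2 = 48 := hn
        rw [Finset.sum_congr rfl (fun p _ => hsq p), ← Finset.sum_filter, Finset.sum_const] at this
        simpa using this
      have hcard : ((Finset.univ.filter (fun p => x p ≠ 0)).card : ℤ) = 3 := by omega
      -- the sum modulo 8
      have hmod : ∀ p, x p % 8 = if x p ≠ 0 then 4 else 0 := by
        intro p
        rcases h4 p with h | h | h <;> rw [h] <;> norm_num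
      have hs : (∑ p, x p) % 8 = 4 := by
        rw [Finset.sum_int_mod, Finset.sum_congr rfl (fun p _ => hmod p), ← Finset.sum_filter,
          Finset.sum_const, nsmul_eq_mul, hcard]
        norm_num
      omega
    · -- an octad
      right; right; left
      rw [hc] at hexc
      have hval : ∀ p, (if p ∈ lvl x 2 then x p ^ 2 - 4 else x p ^ 2) =
          16 * (((if p ∈ lvl x 2 then x p ^ 2 - 4 else x p ^ 2) / 16).toNat : ℤ) := by
        intro p
        split_ifs with hp
        · rcases (hmem p).mp hp with h | h | h | h <;> rw [h] <;> norm_num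
        · rcases hnmem p hp with h | h | h <;> rw [h] <;> norm_num
      set u : GolayPt → ℕ :=
        fun p => ((if p ∈ lvl x 2 then x p ^ 2 - 4 else x p ^ 2) / 16).toNat with hu
      have hsum : ∑ p, u p = 1 := by
        rw [Finset.sum_congr rfl (fun p _ => hval p), ← Finset.mul_sum] at hexc
        have : ∑ p, (u p : ℤ) = 1 := by
          have e : (∑ p, (((if p ∈ lvl x 2 then x p ^ 2 - 4 else x p ^ 2) / 16).toNat : ℤ)) =
              ∑ p, (u p : ℤ) := rfl
          rw [e] at hexc
          omega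
        exact_mod_cast this
      obtain ⟨q, hq, hrest⟩ := sum_eq_one hsum
      have hqv := hval q
      have hq' : (((if q ∈ lvl x 2 then x q ^ 2 - 4 else x q ^ 2) / 16).toNat) = 1 := hq
      rw [hq'] at hqv
      have hqn : q ∉ lvl x 2 := by
        intro hmq
        rw [if_pos hmq] at hqv
        rcases (hmem q).mp hmq with h | h | h | h <;> rw [h] at hqv <;> norm_num at hqv
      rw [if_neg hqn] at hqv
      refine ⟨lvl x 2, ⟨hL, hc⟩, q, hqn, ?_, ?_, ?_⟩
      · rcases hnmem q hqn with h | h | h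
        · rw [h] at hqv; norm_num at hqv
        · exact Or.inl h
        · exact Or.inr h
      · intro p hp
        have hpq : p ≠ q := fun e => hqn (e ▸ hp)
        have hpv := hval p
        have hp' : (((if p ∈ lvl x 2 then x p ^ 2 - 4 else x p ^ 2) / 16).toNat) = 0 :=
          hrest p hpq
        rw [hp', if_pos hp] at hpv
        rcases (hmem p).mp hp with h | h | h | h
        · exact Or.inl h
        · exact Or.inr h
        · rw [h] at hpv; norm_num at hpv
        · rw [h] at hpv; norm_num at hpv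
      · intro p hp hpq
        have hpv := hval p
        have hp' : (((if p ∈ lvl x 2 then x p ^ 2 - 4 else x p ^ 2) / 16).toNat) = 0 :=
          hrest p hpq
        rw [hp', if_neg hp] at hpv
        simpa using hpv
    · -- a dodecad
      left
      rw [hc] at hexc
      have hzero : ∑ p, (if p ∈ lvl x 2 then x p ^ 2 - 4 else x p ^ 2) = 0 := by
        rw [hexc]; norm_num
      refine ⟨lvl x 2, ⟨hL, hc⟩, fun p hp => ?_, fun p hp => ?_⟩
      · have := sum_eq_zero_of hnn hzero p
        rw [if_pos hp] at this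
        rcases (hmem p).mp hp with h | h | h | h
        · exact Or.inl h
        · exact Or.inr h
        · rw [h] at this; norm_num at this
        · rw [h] at this; norm_num at this
      · have := sum_eq_zero_of hnn hzero p
        rw [if_neg hp] at this
        exact pow_eq_zero_iff (two_ne_zero) |>.mp this
    · exfalso; rw [hc] at hexc; rw [hexc] at hsumnn; norm_num at hsumnn
    · exfalso; rw [hc] at hexc; rw [hexc] at hsumnn; norm_num at hsumnn
  · -- odd case
    right
    have hodd : ∀ p, x p % 2 = 1 := fun p => by have := h1 p; omega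
    have hval : ∀ p, x p = 1 ∨ x p = -1 ∨ x p = 3 ∨ x p = -3 ∨ x p = 5 ∨ x p = -5 := by
      intro p
      have := hb p
      have := hodd p
      omega
    let u : GolayPt → ℕ := fun p => ((x p ^ 2 - 1) / 8).toNat
    have hu : ∀ p, x p ^ 2 = 1 + 8 * (u p : ℤ) := by
      intro p
      show x p ^ 2 = 1 + 8 * (((x p ^ 2 - 1) / 8).toNat : ℤ)
      rcases hval p with h | h | h | h | h | h <;> rw [h] <;> norm_num
    have hsum : ∑ p, u p = 3 := by
      have : ∑ p, x p ^ 2 = 48 := hn
      rw [Finset.sum_congr rfl (fun p _ => hu p), Finset.sum_add_distrib, ← Finset.mul_sum,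
        Finset.sum_const, Finset.card_univ, card_golayPt] at this
      have h8 : (8 : ℤ) * ∑ p, (u p : ℤ) = 24 := by
        simp only [nsmul_eq_mul, Nat.cast_ofNat, mul_one] at this
        omega
      have : ∑ p, (u p : ℤ) = 3 := by omega
      exact_mod_cast this
    have hu2 : ∀ p, u p ≠ 2 := by
      intro p hp
      have := hu p
      rw [hp] at this
      rcases hval p with h | h | h | h | h | h <;> rw [h] at this <;> norm_num at this
    have hone : ∀ p, u p = 1 → (x p = 3 ∨ x p = -3) := by
      intro p hp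
      have := hu p
      rw [hp] at this
      rcases hval p with h | h | h | h | h | h <;> rw [h] at this <;> norm_num at this
      · exact Or.inl h
      · exact Or.inr h
    have hzero : ∀ p, u p = 0 → (x p = 1 ∨ x p = -1) := by
      intro p hp
      have := hu p
      rw [hp] at this
      rcases hval p with h | h | h | h | h | h <;> rw [h] at this <;> norm_num at this
      · exact Or.inl h
      · exact Or.inr h
    rcases sum_eq_three hsum hu2 with ⟨i, hi, hrest⟩ | ⟨i, j, k, hij, hik, hjk, hi, hj, hk, hrest⟩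
    · right; right
      refine ⟨i, ?_, fun p hp => hzero p (hrest p hp)⟩
      have := hu i
      rw [hi] at this
      rcases hval i with h | h | h | h | h | h <;> rw [h] at this <;> norm_num at this
      · exact Or.inl h
      · exact Or.inr h
    · left
      exact ⟨i, j, k, hij, hik, hjk, hone i hi, hone j hj, hone k hk,
        fun p hpi hpj hpk => hzero p (hrest p hpi hpj hpk)⟩

end Cfsg.Agent.Lib.Helper1.LeechShape
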