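import Mathlib
import Cfsg.Agent.Lib.Helper1.LeechXi2
import Cfsg.Agent.Lib.Helper1.MaskOf

set_option autoImplicit false

namespace Cfsg.Agent.Lib.Helper1.LeechConn

open Cfsg Cfsg.Agent.Lib.Helper1.LeechCross Cfsg.Agent.Lib.Helper1.LeechAut
  Cfsg.Agent.Lib.Helper1.LeechXi
open scoped Pointwise

/-- two lattice vectors in the same orbit of the automorphism group -/
def Conn (x y : GolayPt → ℤ) : Prop :=
  ∃ (hx : x ∈ leechLattice) (g : Co0), ((g • (⟨x, hx⟩ : leechLattice) : leechLattice) : GolayPt → ℤ) = y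

theorem Conn.mem_left {x y : GolayPt → ℤ} (h : Conn x y) : x ∈ leechLattice := h.1

theorem Conn.mem_right {x y : GolayPt → ℤ} (h : Conn x y) : y ∈ leechLattice := by
  obtain ⟨hx, g, rfl⟩ := h
  exact (g • (⟨x, hx⟩ : leechLattice)).2

theorem Conn.refl {x : GolayPt → ℤ} (hx : x ∈ leechLattice) : Conn x x :=
  ⟨hx, 1, by rw [one_smul]⟩

theorem Conn.trans {x y z : GolayPt → ℤ} (h1 : Conn x y) (h2 : Conn y z) : Conn x z := by
  obtain ⟨hx, g, hg⟩ := h1
  obtain ⟨hy, k, hk⟩ := h2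
  refine ⟨hx, k * g, ?_⟩
  rw [mul_smul]
  have : g • (⟨x, hx⟩ : leechLattice) = ⟨y, hy⟩ := Subtype.ext hg
  rw [this, hk]

theorem Conn.symm {x y : GolayPt → ℤ} (h : Conn x y) : Conn y x := by
  have hy := h.mem_right
  obtain ⟨hx, g, hg⟩ := h
  refine ⟨hy, g⁻¹, ?_⟩
  have : g • (⟨x, hx⟩ : leechLattice) = ⟨y, hy⟩ := Subtype.ext hg
  rw [← this, inv_smul_smul]

theorem conn_eps {c : Finset GolayPt} (hc : c ∈ gC) {x : GolayPt → ℤ} (hx : x ∈ leechLattice) :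
    Conn x (epsF c x) := ⟨hx, epsC c hc, rfl⟩

theorem conn_perm {σ : Equiv.Perm GolayPt} (hσ : σ ∈ M24) {x : GolayPt → ℤ}
    (hx : x ∈ leechLattice) : Conn x (permF σ x) := ⟨hx, permC σ hσ, rfl⟩

theorem conn_xi {x : GolayPt → ℤ} (hx : x ∈ leechLattice) : Conn x (xiF x) := ⟨hx, xiC, rfl⟩

theorem conn_iff_exists {v w : leechLattice} :
    Conn (v : GolayPt → ℤ) (w : GolayPt → ℤ) ↔ ∃ g : Co0, g • v = w := by
  constructor
  · rintro ⟨hx, g, hg⟩
    exact ⟨g, Subtype.ext hg⟩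
  · rintro ⟨g, rfl⟩
    exact ⟨v.2, g, rfl⟩

/-- two-point transitivity of the permutation group, in a convenient form -/
theorem exists_perm_two (i j : GolayPt) (hij : i ≠ j) :
    ∃ σ ∈ M24, σ none = i ∧ σ (some 0) = j := by
  have := Cfsg.Agent.Lib.Helper1.M24.two_transitive
  let e₁ : Fin 2 ↪ GolayPt := ⟨![none, some 0], by
    intro u v h
    fin_cases u <;> fin_cases v <;> simp_all⟩
  let e₂ : Fin 2 ↪ GolayPt := ⟨![i, j], by
    intro u v h
    fin_cases u <;> fin_cases v <;> simp_all [hij.symm]⟩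
  obtain ⟨g, hg⟩ := MulAction.exists_smul_eq M24 e₁ e₂
  refine ⟨g.1, g.2, ?_, ?_⟩
  · have := congrArg (fun e : Fin 2 ↪ GolayPt => e 0) hg
    exact this
  · have := congrArg (fun e : Fin 2 ↪ GolayPt => e 1) hg
    exact this

theorem exists_perm_one (i : GolayPt) : ∃ σ ∈ M24, σ none = i := by
  have := Cfsg.Agent.Lib.Helper1.M24.transitive
  obtain ⟨g, hg⟩ := MulAction.exists_smul_eq M24 (none : GolayPt) i
  exact ⟨g.1, g.2, hg⟩

end Cfsg.Agent.Lib.Helper1.LeechConn
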