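import Mathlib
import Cfsg.Agent.Lib.Helper1.LeechConn
import Cfsg.Agent.Lib.Helper1.LeechShape32

set_option autoImplicit false

namespace Cfsg.Agent.Lib.Helper1.LeechConn

open Cfsg Cfsg.Agent.Lib.Helper1.LeechCross Cfsg.Agent.Lib.Helper1.LeechAut
  Cfsg.Agent.Lib.Helper1.LeechXi Cfsg.Agent.Lib.Helper1.LeechShape
  Cfsg.Agent.Lib.Helper1.MaskOf Cfsg.Agent.Lib.Helper1.LeechChk
open scoped Pointwise

/-! ### Shape I -/

theorem shI_normal {y : GolayPt → ℤ} (hy : y ∈ leechLattice)
    (h0 : y none = 4 ∨ y none = -4) (h1 : y (some 0) = 4 ∨ y (some 0) = -4)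
    (hr : ∀ p, p ≠ none → p ≠ some 0 → y p = 0) : Conn y Cfsg.Spor.vecU := by
  -- fix the sign at `none`
  obtain ⟨c, hc, hcn, hc0⟩ := separate (some 0) none (by simp)
  obtain ⟨d, hd, hd0, hdn⟩ := separate none (some 0) (by simp)
  have key : ∀ z : GolayPt → ℤ, z ∈ leechLattice → z none = 4 → z (some 0) = 4 →
      (∀ p, p ≠ none → p ≠ some 0 → z p = 0) → Conn z Cfsg.Spor.vecU := by
    intro z hz a b r
    have : z = Cfsg.Spor.vecU := by
      ext p
      unfold Cfsg.Spor.vecU
      by_cases hp : p = none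
      · rw [hp, a]; simp
      · by_cases hp0 : p = some 0
        · rw [hp0, b]; simp
        · rw [r p hp hp0]; simp [hp, hp0]
    rw [← this]
    exact Conn.refl hz
  have stepc : ∀ z : GolayPt → ℤ, (∀ p, p ≠ none → p ≠ some 0 → z p = 0) →
      epsF c z none = -z none ∧ epsF c z (some 0) = z (some 0) ∧
        ∀ p, p ≠ none → p ≠ some 0 → epsF c z p = 0 := by
    intro z r
    refine ⟨by simp [epsF, hcn], by simp [epsF, hc0], fun p hp hp0 => ?_⟩
    unfold epsF
    rw [r p hp hp0]
    simp
  have stepd : ∀ z : GolayPt → ℤ, (∀ p, p ≠ none → p ≠ some 0 → z p = 0) →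
      epsF d z none = z none ∧ epsF d z (some 0) = -z (some 0) ∧
        ∀ p, p ≠ none → p ≠ some 0 → epsF d z p = 0 := by
    intro z r
    refine ⟨by simp [epsF, hdn], by simp [epsF, hd0], fun p hp hp0 => ?_⟩
    unfold epsF
    rw [r p hp hp0]
    simp
  -- first normalise at `none`
  have stage1 : ∃ z, Conn y z ∧ z none = 4 ∧ (z (some 0) = 4 ∨ z (some 0) = -4) ∧
      ∀ p, p ≠ none → p ≠ some 0 → z p = 0 := by
    rcases h0 with a | a
    · exact ⟨y, Conn.refl hy, a, h1, hr⟩
    · obtain ⟨s1, s2, s3⟩ := stepc y hr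
      refine ⟨epsF c y, conn_eps hc hy, by rw [s1, a]; norm_num, by rw [s2]; exact h1, s3⟩
  obtain ⟨z, hyz, za, zb, zr⟩ := stage1
  rcases zb with b | b
  · exact hyz.trans (key z hyz.mem_right za b zr)
  · obtain ⟨s1, s2, s3⟩ := stepd z zr
    have hz' := conn_eps hd hyz.mem_right
    exact hyz.trans (hz'.trans (key _ hz'.mem_right (by rw [s1, za]) (by rw [s2, b]; norm_num) s3))

theorem shI_conn {x : GolayPt → ℤ} (hx : x ∈ leechLattice) (h : ShI x) :
    Conn x Cfsg.Spor.vecU := by
  obtain ⟨i, j, hij, hi, hj, hr⟩ := h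
  obtain ⟨σ, hσ, hσ1, hσ2⟩ := exists_perm_two i j hij
  have h1 := conn_perm hσ hx
  refine h1.trans (shI_normal h1.mem_right ?_ ?_ ?_)
  · show x (σ none) = 4 ∨ x (σ none) = -4
    rw [hσ1]; exact hi
  · show x (σ (some 0)) = 4 ∨ x (σ (some 0)) = -4
    rw [hσ2]; exact hj
  · intro p hp hp0
    show x (σ p) = 0
    apply hr
    · intro e; apply hp; rw [← hσ1] at e; exact σ.injective e
    · intro e; apply hp0; rw [← hσ2] at e; exact σ.injective e

/-! ### Shape II -/

/-- the standard octad -/
def O0 : Finset GolayPt := support₂ (ofMask 5279)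

theorem O0_mem : O0 ∈ octads :=
  ⟨support_cw_mem (c := 1) (by norm_num), by unfold O0; rw [card_support₂_ofMask]; decide⟩

/-- twice the indicator of the standard octad -/
def o₀ : GolayPt → ℤ := fun p => if p ∈ O0 then 2 else 0

def cidx8 (s : ℕ) : ℕ :=
  (if s.testBit 1 then 86 else 0) ^^^ (if s.testBit 2 then 12 else 0) ^^^
  (if s.testBit 3 then 52 else 0) ^^^ (if s.testBit 4 then 108 else 0) ^^^
  (if s.testBit 7 then 120 else 0) ^^^ (if s.testBit 10 then 42 else 0) ^^^
  (if s.testBit 12 then 81 else 0)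

theorem cidx8_chk : allBelow (fun s => !(s &&& 5279 == s && popcN 24 s % 2 == 0) ||
    (decide (cidx8 s < 4096) && (cw (cidx8 s) &&& 5279 == s))) 5280 = true := by
  decide +kernel

theorem cidx8_ok : ∀ s ≤ 5279, s &&& 5279 = s → popcN 24 s % 2 = 0 →
    cidx8 s < 4096 ∧ cw (cidx8 s) &&& 5279 = s := by
  intro s hs h1 h2
  have := (allBelow_iff _ _).mp cidx8_chk s (by omega)
  simp only [Bool.or_eq_true, Bool.not_eq_true', Bool.and_eq_false_iff, beq_eq_false_iff_ne,
    Bool.and_eq_true, decide_eq_true_eq, beq_iff_eq] at this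
  rcases this with (h | h) | h
  · exact absurd h1 h
  · exact absurd h2 h
  · exact h

theorem shII_normal {y : GolayPt → ℤ} (hy : y ∈ leechLattice)
    (h1 : ∀ p ∈ O0, y p = 2 ∨ y p = -2) (h0 : ∀ p ∉ O0, y p = 0) : Conn y o₀ := by
  classical
  set S := O0.filter (fun p => y p = -2) with hS
  have hSsub : S ⊆ O0 := Finset.filter_subset _ _
  -- the sum of the coordinates
  have hsum : ∑ p, y p = 16 - 4 * (S.card : ℤ) := by
    have e : ∀ p, y p = (if p ∈ O0 then 2 else 0) - (if p ∈ S then 4 else 0) := by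
      intro p
      by_cases hp : p ∈ O0
      · rcases h1 p hp with h | h
        · have : p ∉ S := by rw [hS, Finset.mem_filter]; rintro ⟨_, h'⟩; rw [h] at h'; norm_num at h'
          simp [hp, this, h]
        · have : p ∈ S := by rw [hS, Finset.mem_filter]; exact ⟨hp, h⟩
          simp [hp, this, h]
      · have : p ∉ S := fun h => hp (hSsub h)
        simp [hp, this, h0 p hp]
    rw [Finset.sum_congr rfl (fun p _ => e p), Finset.sum_sub_distrib, Finset.sum_ite_mem,
      Finset.sum_ite_mem, Finset.univ_inter, Finset.univ_inter, Finset.sum_const, Finset.sum_const,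
      O0_mem.2]
    simp
    ring
  have hev : Even S.card := by
    obtain ⟨m, hm1, hm2, _⟩ := (mem_leechLattice_iff y).mp hy
    simp only [Int.ModEq] at hm1 hm2
    have hpar : y none % 2 = 0 := by
      by_cases hp : (none : GolayPt) ∈ O0
      · rcases h1 none hp with h | h <;> rw [h] <;> norm_num
      · rw [h0 none hp]; norm_num
    have := hm1 none
    rw [hsum] at hm2
    rw [Nat.even_iff]
    omega
  obtain ⟨C, hC, hCS⟩ := exists_code_inter_of 5279 cidx8 cidx8_ok S hSsub hev
  have h2 := conn_eps hC hy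
  have : epsF C y = o₀ := by
    ext p
    unfold epsF o₀
    by_cases hp : p ∈ O0
    · by_cases hpC : p ∈ C
      · have : p ∈ S := by rw [← hCS]; exact Finset.mem_inter.mpr ⟨hpC, hp⟩
        rw [hS, Finset.mem_filter] at this
        simp [hp, hpC, this.2]
      · have : p ∉ S := by rw [← hCS]; intro h; exact hpC (Finset.mem_inter.mp h).1
        rcases h1 p hp with h | h
        · simp [hp, hpC, h]
        · exfalso; apply this; rw [hS, Finset.mem_filter]; exact ⟨hp, h⟩
    · rw [h0 p hp]
      simp [hp]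
  rw [this] at h2
  exact h2

theorem shII_conn {x : GolayPt → ℤ} (hx : x ∈ leechLattice) (h : ShII x) : Conn x o₀ := by
  obtain ⟨O, hO, h1, h0⟩ := h
  obtain ⟨σ, hσ, hσO⟩ := Cfsg.Agent.Lib.Helper1.M24.octad_trans O0 O O0_mem hO
  have hmem : ∀ p, σ p ∈ O ↔ p ∈ O0 := by
    intro p
    rw [← hσO]
    exact Finset.smul_mem_smul_finset_iff σ
  have h2 := conn_perm hσ hx
  refine h2.trans (shII_normal h2.mem_right ?_ ?_)
  · intro p hp
    exact h1 (σ p) ((hmem p).mpr hp)
  · intro p hp
    exact h0 (σ p) (fun h => hp ((hmem p).mp h))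

/-! ### Shape III -/

theorem shIII_conn {x : GolayPt → ℤ} (hx : x ∈ leechLattice) (h : ShIII x) :
    Conn x LeechGen.w₀ := by
  obtain ⟨i, hi, hr⟩ := h
  have hL : lvl x 3 ∈ gC := by
    obtain ⟨m, _, _, h3⟩ := (mem_leechLattice_iff x).mp hx
    exact h3 3
  have h1 := conn_eps hL hx
  have hy : ∀ p, epsF (lvl x 3) x p = if p = i then -3 else 1 := by
    intro p
    unfold epsF
    by_cases hp : p = i
    · rw [hp, if_pos rfl]
      by_cases hm : i ∈ lvl x 3
      · rw [if_pos hm]
        rw [mem_lvl_iff] at hm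
        rcases hi with h | h
        · rw [h]
        · rw [h] at hm; norm_num at hm
      · rw [if_neg hm]
        rw [mem_lvl_iff] at hm
        rcases hi with h | h
        · rw [h] at hm; norm_num at hm
        · exact h
    · rw [if_neg hp]
      by_cases hm : p ∈ lvl x 3
      · rw [if_pos hm]
        rw [mem_lvl_iff] at hm
        rcases hr p hp with h | h
        · rw [h] at hm; norm_num at hm
        · rw [h]; norm_num
      · rw [if_neg hm]
        rw [mem_lvl_iff] at hm
        rcases hr p hp with h | h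
        · exact h
        · rw [h] at hm; norm_num at hm
  obtain ⟨σ, hσ, hσ1⟩ := exists_perm_one i
  have h2 := conn_perm hσ h1.mem_right
  have : permF σ (epsF (lvl x 3) x) = LeechGen.w₀ := by
    ext p
    show epsF (lvl x 3) x (σ p) = _
    rw [hy]
    unfold LeechGen.w₀
    by_cases hp : p = none
    · rw [hp, hσ1]; simp
    · have : σ p ≠ i := by
        intro e; apply hp; rw [← hσ1] at e; exact σ.injective e
      simp [hp, this]
  rw [this] at h2
  exact h1.trans h2

end Cfsg.Agent.Lib.Helper1.LeechConn
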