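import Mathlib
import Cfsg.Agent.Lib.Helper1.LeechTrans32

set_option autoImplicit false

namespace Cfsg.Agent.Lib.Helper1.LeechConn

open Cfsg Cfsg.Agent.Lib.Helper1.LeechCross Cfsg.Agent.Lib.Helper1.LeechAut
  Cfsg.Agent.Lib.Helper1.LeechXi Cfsg.Agent.Lib.Helper1.LeechShape
  Cfsg.Agent.Lib.Helper1.MaskOf Cfsg.Agent.Lib.Helper1.LeechChk
  Cfsg.Agent.Lib.Helper1.LeechGen Cfsg.Agent.Lib.Helper1.LeechIndex
open scoped Pointwise

/-- a vector of shape I with its two coordinates in different tetrads -/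
def u₁ : GolayPt → ℤ := pm 1 none (some 3)

theorem u₁_mem : u₁ ∈ leechLattice := (pm_mem_Mn 1 (Or.inl rfl) none (some 3) (by simp)).1

theorem u₁_shI : ShI u₁ := by
  refine ⟨none, some 3, by simp, Or.inl (by decide), Or.inl (by decide), ?_⟩
  intro p hp hp3
  unfold u₁ pm
  simp [hp, hp3]

set_option maxRecDepth 100000 in
theorem xi_u₁_vals : ∀ p : GolayPt, if (8536111 : ℕ).testBit (gIdx p) = true then
    (xiF u₁ p = 2 ∨ xiF u₁ p = -2) else xiF u₁ p = 0 := by
  decide +kernel

theorem octad_of_code {c : ℕ} (hc : c < 4096) (h8 : popcN 24 (cw c) = 8) :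
    support₂ (ofMask (cw c)) ∈ octads :=
  ⟨support_cw_mem hc, by rw [card_support₂_ofMask, h8]⟩

theorem xi_u₁_shII : ShII (xiF u₁) := by
  have hO : support₂ (ofMask 8536111) ∈ octads :=
    octad_of_code (c := 2084) (by norm_num) (by decide)
  refine ⟨_, hO, fun p hp => ?_, fun p hp => ?_⟩
  · have := xi_u₁_vals p
    rw [if_pos ((mem_support_ofMask _ _).mp hp)] at this
    exact this
  · have := xi_u₁_vals p
    rw [if_neg (fun h => hp ((mem_support_ofMask _ _).mpr h))] at this
    exact this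

/-- twice an octad meeting the sextet in 3+1+1+1+1+1 -/
def o' : GolayPt → ℤ := fun p => if (9347075 : ℕ).testBit (gIdx p) = true then 2 else 0

set_option maxRecDepth 100000 in
theorem o'_chk : chk o' 0 1813 0 2282 0 = true := by
  decide +kernel

theorem o'_mem : o' ∈ leechLattice := chk_sound o'_chk

theorem o'_shII : ShII o' := by
  have hO : support₂ (ofMask 9347075) ∈ octads :=
    octad_of_code (c := 2282) (by norm_num) (by decide)
  refine ⟨_, hO, fun p hp => ?_, fun p hp => ?_⟩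
  · left
    unfold o'
    rw [if_pos ((mem_support_ofMask _ _).mp hp)]
  · unfold o'
    rw [if_neg (fun h => hp ((mem_support_ofMask _ _).mpr h))]

set_option maxRecDepth 100000 in
theorem xi_o'_vals : (xiF o' (some 2) = 3 ∨ xiF o' (some 2) = -3) ∧
    ∀ p : GolayPt, p ≠ some 2 → (xiF o' p = 1 ∨ xiF o' p = -1) := by
  decide +kernel

theorem xi_o'_shIII : ShIII (xiF o') := ⟨some 2, xi_o'_vals.1, xi_o'_vals.2⟩

theorem o₀_conn : Conn o₀ Cfsg.Spor.vecU := by
  have h1 := shI_conn u₁_mem u₁_shI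
  have h2 := conn_xi u₁_mem
  have h3 := shII_conn h2.mem_right xi_u₁_shII
  exact h3.symm.trans (h2.symm.trans h1)

theorem w₀_conn : Conn w₀ Cfsg.Spor.vecU := by
  have h1 := conn_xi o'_mem
  have h2 := shIII_conn h1.mem_right xi_o'_shIII
  have h3 := shII_conn o'_mem o'_shII
  exact h2.symm.trans (h1.symm.trans (h3.trans o₀_conn))

/-- all minimal vectors are in one orbit -/
theorem min_conn {x : GolayPt → ℤ} (hx : x ∈ leechLattice) (hn : sqNorm x = 32) :
    Conn x Cfsg.Spor.vecU := by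
  rcases shape32 hx hn with h | h | h
  · exact shI_conn hx h
  · exact (shII_conn hx h).trans o₀_conn
  · exact (shIII_conn hx h).trans w₀_conn

theorem trans32 (v w : leechLattice) (hv : sqNorm (v : GolayPt → ℤ) = 32)
    (hw : sqNorm (w : GolayPt → ℤ) = 32) : ∃ g : Co0, g • v = w :=
  conn_iff_exists.mp ((min_conn v.2 hv).trans (min_conn w.2 hw).symm)

end Cfsg.Agent.Lib.Helper1.LeechConn
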