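import Mathlib
import Cfsg.Agent.Lib.Helper1.M24B

set_option autoImplicit false

namespace Cfsg.Agent.Lib.Helper1.M24

open Cfsg Cfsg.Agent.Lib.Helper1

noncomputable section

def n3 : El K := El.mul n1 n1 [0, 1, 2, 3, 4, 5, 6, 7, 8, 9, 10, 11, 12, 13, 14, 15, 16, 17, 18, 19, 20, 21, 22, 23] (by decide +kernel)
def n402 : El K := El.mul n393 n370 [0, 1, 2, 3, 21, 5, 16, 13, 9, 8, 18, 15, 20, 7, 14, 11, 6, 17, 10, 22, 12, 4, 19, 23] (by decide +kernel)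
def n431 : El K := El.mul n422 n370 [0, 1, 2, 3, 13, 14, 9, 20, 7, 11, 18, 6, 21, 16, 17, 12, 4, 5, 19, 10, 8, 15, 22, 23] (by decide +kernel)
def n432 : El K := El.mul n370 n422 [0, 1, 2, 3, 10, 14, 16, 4, 18, 19, 7, 8, 12, 9, 17, 21, 20, 5, 11, 13, 6, 22, 15, 23] (by decide +kernel)
def n437 : El K := El.mul n422 n431 [0, 1, 2, 3, 7, 17, 20, 10, 11, 13, 4, 18, 12, 19, 5, 22, 6, 14, 8, 9, 16, 15, 21, 23] (by decide +kernel)
def n461 : El K := El.mul n2 n2 [0, 4, 1, 3, 6, 20, 18, 21, 13, 8, 5, 22, 16, 12, 11, 15, 9, 19, 2, 14, 7, 10, 17, 23] (by decide +kernel)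
def n462 : El K := El.mul n461 n1 [23, 17, 22, 15, 19, 8, 14, 12, 7, 20, 9, 1, 10, 21, 2, 3, 5, 6, 11, 18, 13, 16, 4, 0] (by decide +kernel)
def n463 : El K := El.mul n2 n0 [18, 6, 3, 2, 21, 1, 5, 16, 12, 7, 19, 8, 9, 17, 15, 13, 11, 4, 22, 10, 20, 14, 0, 23] (by decide +kernel)
def n464 : El K := El.mul n462 n463 [11, 14, 15, 22, 16, 17, 8, 5, 10, 12, 18, 7, 20, 6, 3, 21, 1, 19, 4, 9, 13, 2, 23, 0] (by decide +kernel)
def n465 : El K := El.mul n464 n0 [14, 15, 22, 16, 17, 8, 5, 10, 12, 18, 7, 20, 6, 3, 21, 1, 19, 4, 9, 13, 2, 23, 11, 0] (by decide +kernel)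
def n466 : El K := El.mul n5 n465 [3, 10, 23, 4, 14, 5, 19, 2, 7, 6, 20, 12, 13, 17, 1, 11, 8, 9, 16, 18, 15, 0, 21, 22] (by decide +kernel)
def n467 : El K := El.mul n463 n5 [0, 8, 13, 4, 7, 10, 17, 20, 1, 11, 3, 14, 16, 22, 2, 19, 21, 15, 5, 12, 9, 6, 23, 18] (by decide +kernel)
def n468 : El K := El.mul n7 n464 [14, 17, 18, 2, 19, 20, 11, 8, 13, 15, 21, 10, 0, 9, 6, 1, 4, 22, 7, 12, 16, 5, 23, 3] (by decide +kernel)
def n469 : El K := El.mul n468 n2 [14, 7, 11, 2, 18, 5, 17, 20, 4, 0, 8, 12, 13, 15, 22, 1, 9, 10, 19, 23, 21, 16, 6, 3] (by decide +kernel)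
def n470 : El K := El.mul n0 n461 [1, 5, 2, 4, 7, 21, 19, 22, 14, 9, 6, 0, 17, 13, 12, 16, 10, 20, 3, 15, 8, 11, 18, 23] (by decide +kernel)
def n471 : El K := El.mul n467 n468 [2, 15, 5, 13, 12, 9, 14, 1, 22, 19, 6, 3, 0, 11, 17, 8, 7, 23, 20, 16, 21, 10, 18, 4] (by decide +kernel)
def n472 : El K := El.mul n1 n463 [14, 19, 15, 11, 12, 22, 9, 10, 21, 13, 6, 20, 5, 4, 3, 7, 2, 17, 1, 16, 8, 18, 23, 0] (by decide +kernel)
def n473 : El K := El.mul n472 n461 [14, 12, 19, 11, 9, 8, 1, 18, 4, 21, 22, 23, 2, 5, 20, 7, 13, 16, 15, 3, 10, 6, 17, 0] (by decide +kernel)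
def n474 : El K := El.mul n472 n473 [3, 5, 16, 20, 13, 21, 19, 1, 12, 18, 23, 0, 15, 22, 8, 10, 4, 2, 7, 11, 6, 9, 17, 14] (by decide +kernel)
def n475 : El K := El.mul n469 n470 [7, 5, 11, 18, 20, 16, 23, 6, 22, 0, 17, 14, 10, 15, 13, 9, 8, 21, 2, 1, 4, 12, 19, 3] (by decide +kernel)
def n476 : El K := El.mul n7 n463 [21, 9, 6, 5, 1, 4, 8, 19, 15, 10, 22, 11, 12, 20, 18, 16, 14, 7, 2, 13, 0, 17, 3, 23] (by decide +kernel)
def n477 : El K := El.mul n473 n474 [11, 8, 13, 10, 5, 6, 3, 12, 2, 15, 0, 14, 7, 17, 4, 22, 9, 19, 18, 23, 1, 21, 16, 20] (by decide +kernel)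
def n478 : El K := El.mul n466 n471 [23, 11, 5, 17, 13, 6, 1, 10, 21, 18, 19, 4, 3, 12, 9, 7, 2, 22, 15, 8, 0, 20, 16, 14] (by decide +kernel)
def n479 : El K := El.mul n475 n477 [14, 22, 15, 17, 16, 23, 18, 10, 11, 9, 7, 13, 6, 21, 20, 19, 0, 1, 2, 3, 5, 12, 8, 4] (by decide +kernel)
def n480 : El K := El.mul n474 n11 [10, 2, 18, 11, 22, 6, 21, 4, 16, 9, 1, 7, 20, 23, 13, 8, 19, 12, 15, 5, 14, 17, 0, 3] (by decide +kernel)
def n481 : El K := El.mul n463 n478 [23, 8, 1, 4, 17, 5, 6, 19, 14, 22, 10, 21, 2, 9, 7, 16, 3, 0, 13, 12, 18, 20, 11, 15] (by decide +kernel)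
def n482 : El K := El.mul n466 n477 [12, 7, 17, 20, 5, 19, 4, 13, 23, 11, 3, 1, 2, 9, 14, 21, 6, 18, 16, 22, 10, 0, 8, 15] (by decide +kernel)
def n483 : El K := El.mul n480 n466 [11, 1, 3, 22, 13, 6, 5, 18, 4, 21, 14, 20, 23, 12, 2, 7, 16, 9, 19, 15, 8, 10, 17, 0] (by decide +kernel)
def n484 : El K := El.mul n481 n480 [10, 1, 13, 21, 11, 6, 20, 17, 3, 22, 8, 19, 18, 15, 9, 14, 12, 2, 16, 5, 7, 0, 23, 4] (by decide +kernel)
def n485 : El K := El.mul n484 n476 [0, 22, 20, 6, 1, 11, 3, 5, 14, 8, 23, 19, 18, 7, 16, 12, 9, 17, 13, 15, 10, 2, 21, 4] (by decide +kernel)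
def n486 : El K := El.mul n467 n481 [18, 1, 8, 7, 15, 10, 17, 12, 2, 23, 3, 6, 13, 11, 20, 21, 4, 0, 22, 16, 5, 9, 14, 19] (by decide +kernel)
def n487 : El K := El.mul n485 n484 [23, 22, 7, 2, 19, 3, 10, 17, 6, 21, 14, 15, 13, 12, 8, 16, 18, 20, 9, 11, 5, 0, 4, 1] (by decide +kernel)
def n488 : El K := El.mul n11 n482 [3, 16, 8, 23, 20, 1, 13, 10, 0, 18, 19, 17, 9, 21, 4, 22, 5, 12, 6, 11, 7, 15, 2, 14] (by decide +kernel)
def n489 : El K := El.mul n484 n482 [18, 17, 2, 7, 6, 5, 11, 15, 4, 19, 21, 1, 13, 22, 9, 0, 20, 16, 12, 23, 8, 10, 3, 14] (by decide +kernel)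
def n490 : El K := El.mul n486 n489 [22, 0, 8, 12, 17, 10, 6, 21, 15, 16, 9, 1, 11, 14, 23, 18, 5, 4, 13, 19, 2, 3, 7, 20] (by decide +kernel)
def n491 : El K := El.mul n479 n487 [4, 8, 10, 15, 3, 17, 7, 1, 18, 12, 20, 19, 21, 6, 11, 0, 2, 5, 9, 13, 23, 14, 16, 22] (by decide +kernel)
def n492 : El K := El.mul n483 n488 [22, 16, 4, 0, 8, 1, 12, 14, 11, 19, 15, 9, 21, 10, 13, 17, 6, 23, 5, 20, 18, 7, 3, 2] (by decide +kernel)
def n493 : El K := El.mul n489 n490 [3, 18, 4, 13, 16, 21, 11, 10, 0, 20, 19, 17, 1, 9, 14, 12, 5, 6, 22, 23, 2, 7, 15, 8] (by decide +kernel)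
def n494 : El K := El.mul n492 n463 [5, 12, 0, 4, 7, 16, 1, 6, 21, 14, 20, 11, 19, 23, 17, 10, 9, 8, 3, 15, 18, 13, 22, 2] (by decide +kernel)
def n495 : El K := El.mul n494 n479 [17, 22, 10, 8, 9, 2, 3, 20, 11, 14, 6, 23, 1, 13, 18, 15, 5, 12, 0, 4, 16, 19, 21, 7] (by decide +kernel)
def n496 : El K := El.mul n494 n491 [7, 21, 20, 10, 4, 8, 6, 12, 3, 19, 18, 15, 13, 1, 11, 5, 0, 16, 14, 23, 2, 17, 9, 22] (by decide +kernel)
def n497 : El K := El.mul n494 n470 [12, 16, 0, 7, 6, 13, 15, 22, 17, 14, 1, 5, 8, 23, 19, 9, 20, 18, 4, 10, 21, 11, 3, 2] (by decide +kernel)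
def n498 : El K := El.mul n495 n483 [23, 22, 8, 21, 13, 3, 2, 0, 9, 19, 18, 16, 7, 1, 10, 20, 5, 14, 4, 15, 11, 6, 12, 17] (by decide +kernel)
def n499 : El K := El.mul n470 n467 [1, 14, 13, 7, 22, 6, 20, 8, 5, 0, 4, 12, 10, 18, 2, 15, 11, 16, 21, 17, 9, 19, 23, 3] (by decide +kernel)
def n500 : El K := El.mul n483 n498 [0, 17, 4, 10, 12, 22, 3, 11, 21, 15, 19, 16, 18, 1, 14, 8, 6, 2, 13, 7, 20, 5, 23, 9] (by decide +kernel)
def n501 : El K := El.mul n467 n498 [18, 23, 1, 6, 22, 4, 13, 0, 11, 12, 5, 21, 20, 8, 3, 9, 10, 2, 7, 19, 14, 17, 16, 15] (by decide +kernel)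
def n502 : El K := El.mul n500 n482 [18, 11, 2, 20, 22, 7, 12, 1, 9, 16, 10, 17, 4, 15, 14, 5, 3, 13, 6, 23, 19, 0, 21, 8] (by decide +kernel)
def n503 : El K := El.mul n463 n501 [22, 23, 6, 5, 0, 21, 17, 18, 8, 9, 1, 14, 20, 12, 2, 7, 19, 3, 16, 10, 15, 4, 11, 13] (by decide +kernel)
def n504 : El K := El.mul n503 n497 [20, 19, 22, 18, 17, 12, 7, 11, 3, 2, 23, 21, 8, 13, 10, 9, 15, 16, 0, 1, 4, 14, 5, 6] (by decide +kernel)
def n505 : El K := El.mul n497 n490 [3, 12, 17, 8, 18, 1, 15, 11, 9, 20, 14, 16, 5, 19, 2, 4, 13, 6, 23, 10, 0, 7, 22, 21] (by decide +kernel)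
def n506 : El K := El.mul n505 n501 [23, 21, 12, 15, 22, 18, 19, 3, 16, 5, 1, 7, 0, 9, 8, 20, 14, 17, 11, 10, 2, 6, 13, 4] (by decide +kernel)
def n507 : El K := El.mul n499 n493 [7, 21, 22, 18, 11, 19, 12, 4, 1, 9, 17, 16, 14, 0, 2, 10, 6, 20, 23, 3, 13, 8, 15, 5] (by decide +kernel)
def n508 : El K := El.mul n502 n501 [6, 8, 11, 12, 21, 22, 15, 18, 17, 4, 7, 0, 19, 9, 20, 16, 10, 2, 1, 23, 14, 13, 3, 5] (by decide +kernel)
def n509 : El K := El.mul n498 n500 [23, 14, 13, 18, 7, 12, 21, 16, 6, 20, 15, 5, 4, 22, 10, 9, 2, 8, 1, 0, 11, 3, 17, 19] (by decide +kernel)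
def n510 : El K := El.mul n508 n501 [1, 5, 8, 15, 3, 21, 9, 6, 0, 19, 22, 13, 14, 17, 12, 4, 7, 11, 18, 23, 20, 2, 10, 16] (by decide +kernel)
def n511 : El K := El.mul n507 n506 [5, 8, 14, 10, 15, 23, 3, 18, 6, 19, 21, 4, 7, 9, 1, 13, 2, 20, 16, 17, 22, 12, 0, 11] (by decide +kernel)
def n512 : El K := El.mul n510 n496 [6, 2, 20, 22, 3, 0, 9, 14, 15, 23, 18, 4, 17, 5, 13, 21, 1, 7, 12, 16, 8, 11, 19, 10] (by decide +kernel)
def n513 : El K := El.mul n493 n490 [15, 3, 0, 1, 6, 19, 11, 7, 12, 5, 20, 18, 17, 14, 8, 22, 21, 16, 9, 23, 4, 13, 10, 2] (by decide +kernel)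
def n514 : El K := El.mul n513 n509 [2, 8, 14, 9, 7, 17, 13, 21, 11, 4, 22, 19, 6, 10, 20, 5, 0, 12, 3, 15, 18, 1, 16, 23] (by decide +kernel)
def n515 : El K := El.mul n512 n490 [19, 6, 15, 17, 7, 18, 9, 11, 21, 1, 23, 2, 4, 13, 10, 12, 0, 3, 5, 16, 20, 22, 14, 8] (by decide +kernel)
def n516 : El K := El.mul n510 n515 [23, 9, 4, 11, 6, 18, 19, 13, 2, 5, 16, 8, 3, 17, 22, 14, 1, 15, 21, 7, 20, 10, 12, 0] (by decide +kernel)
def n517 : El K := El.mul n498 n504 [11, 15, 12, 4, 14, 7, 0, 16, 21, 8, 17, 6, 9, 1, 18, 19, 20, 5, 23, 22, 13, 10, 3, 2] (by decide +kernel)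
def n518 : El K := El.mul n209 n517 [5, 7, 16, 11, 21, 9, 12, 18, 6, 19, 3, 17, 13, 1, 10, 4, 14, 15, 0, 8, 2, 20, 22, 23] (by decide +kernel)
def n519 : El K := El.mul n518 n1 [23, 22, 17, 4, 15, 19, 8, 1, 2, 9, 14, 16, 20, 18, 0, 11, 3, 21, 10, 12, 6, 13, 7, 5] (by decide +kernel)
def n522 : El K := El.mul n1 n519 [0, 1, 4, 17, 3, 6, 20, 22, 11, 5, 18, 10, 8, 14, 23, 2, 15, 12, 16, 21, 19, 7, 13, 9] (by decide +kernel)
def n523 : El K := El.mul n2 n519 [23, 14, 11, 2, 15, 22, 16, 18, 6, 12, 17, 13, 10, 4, 0, 19, 3, 20, 7, 8, 1, 9, 5, 21] (by decide +kernel)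
def n529 : El K := El.mul n2 n523 [23, 17, 19, 6, 15, 14, 13, 4, 1, 8, 11, 9, 7, 2, 0, 22, 3, 10, 5, 16, 18, 12, 21, 20] (by decide +kernel)
def n531 : El K := El.mul n518 n518 [9, 18, 14, 17, 20, 19, 13, 0, 12, 8, 11, 15, 1, 7, 3, 21, 10, 4, 5, 6, 16, 2, 22, 23] (by decide +kernel)
def n540 : El K := El.mul n504 n516 [6, 2, 17, 21, 7, 0, 1, 13, 22, 12, 15, 3, 18, 16, 5, 10, 19, 9, 14, 11, 4, 23, 8, 20] (by decide +kernel)
def n541 : El K := El.inv n529 [14, 8, 13, 16, 7, 18, 3, 12, 9, 11, 17, 10, 21, 6, 5, 4, 19, 1, 20, 2, 23, 22, 15, 0] (by decide +kernel)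
def n542 : El K := El.mul n541 n540 [3, 13, 1, 22, 12, 14, 8, 6, 15, 21, 4, 16, 20, 19, 18, 17, 2, 11, 5, 10, 7, 0, 9, 23] (by decide +kernel)
def n543 : El K := El.mul n542 n1 [23, 9, 16, 17, 11, 21, 10, 19, 7, 14, 2, 1, 0, 6, 5, 22, 4, 12, 18, 8, 15, 20, 13, 3] (by decide +kernel)
def n545 : El K := El.mul n542 n519 [23, 9, 11, 12, 17, 10, 15, 13, 1, 21, 18, 2, 7, 5, 3, 16, 22, 0, 4, 20, 8, 19, 6, 14] (by decide +kernel)
def n546 : El K := El.mul n0 n543 [23, 10, 17, 18, 12, 22, 11, 20, 8, 15, 3, 2, 1, 7, 6, 0, 5, 13, 19, 9, 16, 21, 14, 4] (by decide +kernel)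
def n547 : El K := El.mul n1 n543 [0, 5, 10, 4, 2, 12, 16, 6, 13, 18, 11, 22, 23, 19, 9, 1, 17, 21, 14, 20, 3, 8, 7, 15] (by decide +kernel)
def n551 : El K := El.mul n518 n542 [11, 1, 7, 22, 13, 10, 6, 12, 4, 20, 21, 14, 2, 8, 0, 15, 16, 17, 9, 3, 18, 5, 19, 23] (by decide +kernel)
def n553 : El K := El.mul n542 n531 [21, 5, 18, 11, 7, 10, 19, 3, 20, 15, 16, 17, 13, 6, 22, 0, 4, 12, 14, 8, 2, 1, 9, 23] (by decide +kernel)
def n557 : El K := El.mul n542 n551 [16, 13, 6, 9, 19, 4, 8, 20, 12, 7, 0, 18, 1, 15, 3, 17, 2, 11, 21, 22, 5, 14, 10, 23] (by decide +kernel)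
def n558 : El K := El.mul n518 n553 [20, 9, 0, 17, 18, 3, 8, 11, 2, 4, 14, 15, 1, 12, 22, 5, 21, 13, 10, 6, 16, 7, 19, 23] (by decide +kernel)
def n562 : El K := El.mul n542 n558 [7, 21, 3, 11, 5, 22, 15, 16, 1, 12, 18, 17, 13, 20, 9, 14, 0, 19, 4, 8, 2, 6, 10, 23] (by decide +kernel)
def n566 : El K := El.mul n501 n540 [13, 1, 2, 17, 0, 18, 23, 8, 16, 20, 9, 6, 7, 10, 4, 5, 19, 12, 3, 21, 22, 15, 11, 14] (by decide +kernel)
def n567 : El K := El.inv n545 [17, 8, 11, 14, 18, 13, 22, 12, 20, 1, 5, 2, 3, 7, 23, 6, 15, 4, 10, 21, 19, 9, 16, 0] (by decide +kernel)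
def n568 : El K := El.mul n567 n566 [7, 8, 11, 4, 17, 10, 0, 20, 15, 19, 1, 22, 12, 5, 18, 13, 21, 3, 14, 9, 16, 6, 2, 23] (by decide +kernel)
def n569 : El K := El.inv n562 [16, 8, 20, 2, 18, 4, 21, 0, 19, 14, 22, 3, 9, 12, 15, 6, 7, 11, 10, 17, 13, 1, 5, 23] (by decide +kernel)
def n570 : El K := El.mul n569 n568 [0, 19, 3, 18, 11, 22, 16, 13, 6, 17, 8, 5, 9, 4, 10, 12, 1, 2, 15, 14, 7, 21, 20, 23] (by decide +kernel)
def n571 : El K := El.mul n570 n101 [23, 0, 9, 1, 15, 8, 7, 10, 21, 16, 2, 18, 20, 6, 14, 11, 5, 22, 12, 13, 17, 4, 3, 19] (by decide +kernel)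
def n575 : El K := El.mul n570 n518 [22, 13, 1, 5, 21, 17, 9, 15, 16, 14, 18, 2, 4, 19, 8, 11, 10, 12, 0, 6, 3, 7, 20, 23] (by decide +kernel)
def n578 : El K := El.mul n570 n575 [20, 4, 19, 22, 21, 2, 17, 12, 1, 10, 15, 3, 11, 14, 6, 5, 8, 9, 0, 16, 18, 13, 7, 23] (by decide +kernel)
def n581 : El K := El.mul n542 n578 [7, 12, 10, 9, 0, 1, 11, 20, 13, 4, 17, 22, 16, 18, 8, 14, 15, 21, 3, 2, 5, 19, 6, 23] (by decide +kernel)
def n584 : El K := El.mul n570 n581 [13, 9, 8, 17, 0, 19, 5, 7, 4, 11, 2, 20, 1, 15, 6, 10, 12, 21, 18, 3, 22, 14, 16, 23] (by decide +kernel)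
def n585 : El K := El.mul n570 n570 [0, 14, 18, 15, 5, 20, 1, 4, 16, 2, 6, 22, 17, 11, 8, 9, 19, 3, 12, 10, 13, 21, 7, 23] (by decide +kernel)
def n586 : El K := El.mul n570 n585 [0, 10, 15, 12, 22, 7, 19, 11, 1, 3, 16, 20, 2, 5, 6, 17, 14, 18, 9, 8, 4, 21, 13, 23] (by decide +kernel)
def n590 : El K := El.mul n490 n515 [19, 6, 18, 4, 21, 13, 16, 1, 3, 0, 20, 8, 17, 14, 9, 11, 22, 12, 10, 5, 2, 7, 23, 15] (by decide +kernel)
def n591 : El K := El.inv n547 [0, 15, 4, 20, 3, 1, 7, 22, 21, 14, 2, 10, 5, 8, 18, 23, 6, 16, 9, 13, 19, 17, 11, 12] (by decide +kernel)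
def n592 : El K := El.mul n591 n590 [13, 7, 9, 3, 17, 8, 6, 15, 20, 0, 19, 21, 16, 18, 14, 10, 11, 5, 2, 1, 4, 22, 12, 23] (by decide +kernel)
def n593 : El K := El.inv n584 [4, 12, 10, 19, 8, 6, 14, 7, 2, 1, 15, 9, 16, 0, 21, 13, 22, 3, 18, 5, 11, 17, 20, 23] (by decide +kernel)
def n594 : El K := El.mul n593 n592 [0, 7, 1, 19, 3, 2, 14, 13, 11, 4, 5, 17, 22, 18, 21, 15, 9, 6, 10, 12, 8, 20, 16, 23] (by decide +kernel)
def n596 : El K := El.mul n594 n571 [23, 0, 4, 7, 15, 11, 13, 5, 20, 9, 1, 10, 8, 14, 21, 17, 2, 16, 22, 18, 6, 3, 19, 12] (by decide +kernel)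
def n597 : El K := El.mul n594 n518 [2, 13, 9, 17, 20, 4, 22, 10, 14, 12, 19, 6, 18, 7, 5, 3, 21, 15, 0, 11, 1, 8, 16, 23] (by decide +kernel)
def n601 : El K := El.mul n542 n597 [1, 19, 21, 11, 7, 12, 9, 4, 18, 20, 10, 8, 5, 6, 14, 22, 0, 17, 3, 16, 13, 15, 2, 23] (by decide +kernel)
def n605 : El K := El.mul n542 n601 [13, 10, 0, 16, 6, 20, 21, 12, 5, 7, 4, 15, 14, 8, 18, 9, 3, 11, 22, 2, 19, 17, 1, 23] (by decide +kernel)
def n606 : El K := El.mul n594 n570 [0, 12, 19, 10, 17, 16, 9, 18, 14, 6, 11, 2, 4, 3, 5, 22, 7, 1, 15, 21, 13, 20, 8, 23] (by decide +kernel)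
def n610 : El K := El.mul n594 n606 [0, 22, 12, 5, 6, 9, 4, 10, 21, 14, 17, 1, 3, 19, 2, 16, 13, 7, 15, 20, 18, 8, 11, 23] (by decide +kernel)
def n621 : El K := El.mul n590 n566 [14, 6, 18, 12, 19, 10, 15, 3, 22, 2, 0, 16, 1, 20, 21, 13, 5, 17, 4, 7, 23, 11, 8, 9] (by decide +kernel)
def n622 : El K := El.inv n522 [0, 1, 15, 4, 2, 9, 5, 21, 12, 23, 11, 8, 17, 22, 13, 16, 18, 3, 10, 20, 6, 19, 7, 14] (by decide +kernel)
def n623 : El K := El.mul n622 n621 [13, 5, 10, 17, 20, 11, 16, 4, 7, 15, 0, 18, 1, 6, 19, 22, 9, 3, 2, 21, 14, 8, 12, 23] (by decide +kernel)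
def n624 : El K := El.inv n605 [2, 22, 19, 16, 10, 8, 4, 9, 13, 15, 1, 17, 7, 0, 12, 11, 3, 21, 14, 20, 5, 6, 18, 23] (by decide +kernel)
def n625 : El K := El.mul n624 n623 [0, 8, 1, 21, 5, 17, 3, 10, 9, 11, 2, 14, 22, 4, 20, 18, 15, 16, 19, 6, 12, 13, 7, 23] (by decide +kernel)
def n626 : El K := El.mul n586 n625 [0, 1, 10, 21, 7, 18, 12, 16, 3, 20, 15, 6, 13, 22, 4, 9, 17, 14, 8, 19, 2, 5, 11, 23] (by decide +kernel)
def n627 : El K := El.mul n626 n102 [23, 1, 22, 14, 19, 6, 5, 9, 11, 16, 8, 7, 0, 20, 2, 18, 13, 12, 17, 3, 15, 4, 21, 10] (by decide +kernel)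
def n629 : El K := El.mul n626 n518 [18, 16, 17, 6, 5, 20, 13, 8, 12, 19, 21, 14, 22, 1, 15, 7, 4, 9, 0, 3, 10, 2, 11, 23] (by decide +kernel)
def n630 : El K := El.mul n626 n542 [21, 22, 1, 11, 13, 4, 3, 12, 9, 5, 7, 17, 2, 19, 8, 14, 10, 6, 18, 15, 16, 0, 20, 23] (by decide +kernel)
def n632 : El K := El.mul n570 n629 [15, 1, 2, 16, 22, 7, 4, 6, 9, 14, 21, 10, 20, 19, 12, 13, 11, 17, 0, 18, 8, 3, 5, 23] (by decide +kernel)
def n633 : El K := El.mul n626 n629 [8, 17, 14, 12, 18, 2, 22, 3, 13, 19, 5, 4, 11, 1, 9, 16, 7, 20, 0, 21, 15, 10, 6, 23] (by decide +kernel)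
def n636 : El K := El.mul n626 n594 [0, 16, 1, 19, 21, 10, 4, 22, 6, 7, 18, 14, 11, 8, 5, 9, 20, 12, 15, 13, 3, 2, 17, 23] (by decide +kernel)
def n638 : El K := El.mul n626 n636 [0, 17, 1, 19, 5, 15, 7, 11, 12, 16, 8, 4, 6, 3, 18, 20, 2, 13, 9, 22, 21, 10, 14, 23] (by decide +kernel)
def n643 : El K := El.mul n594 n638 [0, 6, 7, 12, 2, 15, 13, 17, 22, 9, 11, 3, 14, 19, 10, 8, 1, 18, 4, 16, 20, 5, 21, 23] (by decide +kernel)
def n644 : El K := El.mul n626 n626 [0, 1, 15, 5, 16, 8, 13, 17, 21, 2, 9, 12, 22, 11, 7, 20, 14, 4, 3, 19, 10, 18, 6, 23] (by decide +kernel)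
def n647 : El K := El.mul n516 n517 [8, 14, 3, 6, 22, 13, 23, 1, 10, 2, 15, 19, 5, 9, 21, 7, 20, 18, 0, 12, 17, 16, 11, 4] (by decide +kernel)
def n648 : El K := El.inv n546 [15, 12, 11, 10, 23, 16, 14, 13, 8, 19, 1, 6, 4, 17, 22, 9, 20, 2, 3, 18, 7, 21, 5, 0] (by decide +kernel)
def n649 : El K := El.mul n648 n647 [8, 22, 10, 14, 5, 17, 0, 12, 1, 11, 9, 18, 16, 19, 21, 13, 7, 3, 15, 4, 2, 20, 6, 23] (by decide +kernel)
def n650 : El K := El.inv n633 [18, 13, 5, 7, 11, 10, 22, 16, 0, 14, 21, 12, 3, 8, 2, 20, 15, 1, 4, 9, 17, 19, 6, 23] (by decide +kernel)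
def n651 : El K := El.mul n650 n649 [0, 6, 21, 2, 10, 1, 18, 3, 13, 12, 14, 4, 15, 9, 19, 8, 16, 7, 20, 11, 5, 17, 22, 23] (by decide +kernel)
def n652 : El K := El.inv n643 [0, 16, 4, 11, 18, 21, 1, 2, 15, 9, 14, 10, 3, 6, 12, 5, 19, 7, 17, 13, 20, 22, 8, 23] (by decide +kernel)
def n653 : El K := El.mul n652 n651 [0, 1, 22, 4, 14, 16, 17, 11, 6, 3, 12, 18, 5, 9, 13, 15, 19, 2, 20, 10, 21, 7, 8, 23] (by decide +kernel)
def n662 : El K := El.mul n653 n570 [0, 10, 4, 20, 18, 8, 19, 9, 17, 2, 6, 16, 3, 14, 12, 5, 1, 22, 15, 13, 11, 7, 21, 23] (by decide +kernel)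
def n666 : El K := El.mul n626 n662 [0, 15, 7, 2, 8, 3, 19, 20, 14, 10, 12, 17, 21, 4, 13, 18, 1, 11, 9, 22, 6, 16, 5, 23] (by decide +kernel)
def n669 : El K := El.mul n653 n626 [0, 1, 12, 7, 11, 20, 5, 19, 4, 21, 15, 17, 9, 8, 14, 3, 2, 13, 6, 10, 22, 16, 18, 23] (by decide +kernel)
def n673 : El K := El.mul n653 n669 [0, 1, 5, 11, 18, 21, 16, 10, 14, 7, 15, 2, 3, 6, 13, 4, 22, 9, 17, 12, 8, 19, 20, 23] (by decide +kernel)
def n677 : El K := El.mul n653 n673 [0, 1, 16, 18, 20, 7, 19, 12, 13, 11, 15, 22, 4, 17, 9, 14, 8, 3, 2, 5, 6, 10, 21, 23] (by decide +kernel)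
def n681 : El K := El.mul n653 n677 [0, 1, 19, 20, 21, 11, 10, 5, 9, 18, 15, 8, 14, 2, 3, 13, 6, 4, 22, 16, 17, 12, 7, 23] (by decide +kernel)
def n684 : El K := El.mul n509 n566 [22, 14, 13, 8, 23, 1, 19, 6, 2, 11, 20, 21, 16, 15, 7, 12, 0, 4, 18, 3, 17, 9, 5, 10] (by decide +kernel)
def n685 : El K := El.inv n627 [12, 1, 14, 19, 21, 6, 5, 11, 10, 7, 23, 8, 17, 16, 3, 20, 9, 18, 15, 4, 13, 22, 2, 0] (by decide +kernel)
def n686 : El K := El.mul n685 n684 [2, 3, 16, 10, 0, 1, 4, 5, 14, 8, 13, 22, 9, 20, 11, 17, 12, 21, 15, 19, 18, 7, 6, 23] (by decide +kernel)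
def n687 : El K := El.inv n597 [18, 20, 0, 15, 5, 14, 11, 13, 21, 2, 7, 19, 9, 1, 8, 17, 22, 3, 12, 10, 4, 16, 6, 23] (by decide +kernel)
def n688 : El K := El.mul n687 n686 [0, 15, 22, 7, 18, 20, 5, 14, 8, 21, 1, 6, 2, 4, 19, 3, 9, 16, 17, 10, 12, 13, 11, 23] (by decide +kernel)
def n689 : El K := El.inv n666 [0, 16, 3, 5, 13, 22, 20, 2, 4, 18, 9, 17, 10, 14, 8, 1, 21, 11, 15, 6, 7, 12, 19, 23] (by decide +kernel)
def n690 : El K := El.mul n689 n688 [0, 1, 19, 2, 15, 7, 22, 8, 4, 12, 16, 20, 3, 13, 6, 5, 18, 21, 11, 9, 10, 14, 17, 23] (by decide +kernel)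
def n691 : El K := El.inv n681 [0, 1, 13, 14, 17, 7, 16, 22, 11, 8, 6, 5, 21, 15, 12, 10, 19, 20, 9, 2, 3, 4, 18, 23] (by decide +kernel)
def n692 : El K := El.mul n691 n690 [0, 1, 2, 13, 10, 22, 18, 11, 17, 21, 19, 3, 14, 15, 16, 7, 9, 4, 5, 8, 6, 12, 20, 23] (by decide +kernel)
def n694 : El K := El.mul n692 n570 [0, 8, 13, 5, 3, 20, 9, 15, 18, 4, 17, 22, 21, 10, 19, 14, 1, 2, 7, 16, 11, 12, 6, 23] (by decide +kernel)
def n701 : El K := El.mul n692 n669 [0, 1, 14, 11, 3, 6, 22, 8, 10, 12, 7, 4, 21, 17, 16, 13, 2, 15, 18, 19, 20, 9, 5, 23] (by decide +kernel)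
def n706 : El K := El.mul n626 n701 [0, 1, 4, 6, 21, 12, 11, 3, 15, 13, 16, 7, 5, 14, 17, 22, 10, 9, 8, 19, 2, 20, 18, 23] (by decide +kernel)
def n707 : El K := El.mul n692 n692 [0, 1, 2, 15, 19, 20, 5, 3, 4, 12, 8, 13, 16, 7, 9, 11, 21, 10, 22, 17, 18, 14, 6, 23] (by decide +kernel)
def n708 : El K := El.mul n692 n707 [0, 1, 2, 7, 8, 6, 22, 13, 10, 14, 17, 15, 9, 11, 21, 3, 12, 19, 20, 4, 5, 16, 18, 23] (by decide +kernel)
def n709 : El K := El.mul n692 n708 [0, 1, 2, 11, 17, 18, 20, 15, 19, 16, 4, 7, 21, 3, 12, 13, 14, 8, 6, 10, 22, 9, 5, 23] (by decide +kernel)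
def n710 : El K := El.mul n511 n516 [11, 19, 15, 4, 3, 16, 17, 9, 14, 23, 2, 6, 10, 20, 0, 1, 8, 13, 12, 18, 22, 21, 7, 5] (by decide +kernel)
def n711 : El K := El.inv n519 [14, 7, 8, 16, 3, 23, 20, 22, 6, 9, 18, 15, 19, 21, 10, 4, 11, 2, 13, 5, 12, 17, 1, 0] (by decide +kernel)
def n712 : El K := El.mul n711 n710 [15, 5, 4, 3, 16, 11, 2, 9, 10, 0, 8, 20, 18, 12, 14, 7, 6, 21, 19, 13, 1, 17, 22, 23] (by decide +kernel)
def n713 : El K := El.inv n632 [18, 1, 2, 21, 6, 22, 7, 5, 20, 8, 11, 16, 14, 15, 9, 0, 3, 17, 19, 13, 12, 10, 4, 23] (by decide +kernel)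
def n714 : El K := El.mul n713 n712 [0, 22, 6, 21, 3, 16, 2, 8, 11, 18, 20, 12, 19, 14, 9, 5, 7, 10, 13, 15, 1, 17, 4, 23] (by decide +kernel)
def n715 : El K := El.inv n610 [0, 11, 14, 12, 6, 3, 4, 17, 21, 5, 7, 22, 2, 16, 9, 18, 15, 10, 20, 13, 19, 8, 1, 23] (by decide +kernel)
def n716 : El K := El.mul n715 n714 [0, 1, 4, 8, 12, 15, 14, 21, 22, 20, 19, 2, 13, 9, 5, 3, 17, 7, 16, 18, 11, 10, 6, 23] (by decide +kernel)
def n717 : El K := El.inv n706 [0, 1, 20, 7, 2, 12, 3, 11, 18, 17, 16, 6, 5, 9, 13, 8, 10, 14, 22, 19, 21, 4, 15, 23] (by decide +kernel)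
def n718 : El K := El.mul n717 n716 [0, 1, 2, 18, 5, 8, 13, 4, 15, 21, 19, 20, 9, 17, 12, 7, 14, 11, 10, 22, 6, 16, 3, 23] (by decide +kernel)
def n724 : El K := El.mul n718 n570 [0, 22, 18, 10, 20, 3, 14, 17, 13, 11, 15, 8, 21, 5, 19, 9, 1, 2, 7, 12, 4, 16, 6, 23] (by decide +kernel)
def n727 : El K := El.mul n718 n653 [0, 1, 3, 5, 12, 14, 11, 20, 13, 18, 9, 10, 8, 21, 17, 7, 22, 2, 6, 19, 16, 4, 15, 23] (by decide +kernel)
def n729 : El K := El.mul n718 n692 [0, 1, 2, 17, 19, 3, 10, 20, 11, 16, 22, 18, 12, 7, 14, 4, 21, 5, 8, 15, 13, 9, 6, 23] (by decide +kernel)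
def n730 : El K := El.mul n692 n718 [0, 1, 2, 5, 22, 17, 15, 10, 7, 12, 8, 6, 21, 4, 14, 11, 16, 3, 19, 20, 18, 9, 13, 23] (by decide +kernel)
def n739 : El K := El.mul n509 n511 [12, 6, 10, 15, 9, 19, 18, 1, 21, 0, 3, 7, 16, 20, 14, 22, 13, 11, 2, 8, 17, 4, 23, 5] (by decide +kernel)
def n745 : El K := El.inv n673 [0, 1, 11, 12, 15, 2, 13, 9, 20, 17, 7, 3, 19, 14, 8, 10, 6, 18, 4, 21, 22, 5, 16, 23] (by decide +kernel)
def n759 : El K := El.mul n437 n729 [0, 1, 2, 14, 9, 3, 4, 16, 18, 6, 21, 8, 12, 10, 5, 7, 15, 17, 11, 22, 19, 13, 20, 23] (by decide +kernel)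
def n765 : El K := El.mul n509 n739 [4, 21, 15, 9, 20, 0, 1, 14, 3, 23, 18, 16, 2, 11, 10, 17, 22, 5, 13, 6, 8, 7, 19, 12] (by decide +kernel)
def n766 : El K := El.inv n596 [1, 10, 16, 21, 2, 7, 20, 3, 12, 9, 11, 5, 23, 6, 13, 4, 17, 15, 19, 22, 8, 14, 18, 0] (by decide +kernel)
def n767 : El K := El.mul n766 n765 [2, 14, 4, 9, 8, 1, 10, 13, 21, 0, 19, 17, 16, 5, 11, 15, 18, 7, 6, 20, 12, 3, 22, 23] (by decide +kernel)
def n768 : El K := El.mul n687 n767 [0, 8, 5, 2, 21, 20, 7, 1, 16, 18, 10, 3, 22, 14, 19, 17, 12, 13, 11, 4, 9, 15, 6, 23] (by decide +kernel)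
def n769 : El K := El.inv n694 [0, 16, 17, 4, 9, 3, 22, 18, 1, 6, 13, 20, 21, 2, 15, 7, 19, 10, 8, 14, 5, 12, 11, 23] (by decide +kernel)
def n770 : El K := El.mul n769 n768 [0, 1, 3, 17, 12, 5, 18, 16, 19, 8, 13, 4, 11, 15, 14, 10, 21, 2, 20, 9, 6, 7, 22, 23] (by decide +kernel)
def n771 : El K := El.inv n727 [0, 1, 17, 2, 21, 3, 18, 15, 12, 10, 11, 6, 4, 8, 5, 22, 20, 14, 9, 19, 7, 13, 16, 23] (by decide +kernel)
def n772 : El K := El.mul n771 n770 [0, 1, 2, 14, 4, 3, 9, 20, 19, 12, 8, 21, 6, 22, 5, 11, 13, 17, 7, 10, 18, 15, 16, 23] (by decide +kernel)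
def n773 : El K := El.inv n759 [0, 1, 2, 5, 6, 14, 9, 15, 11, 4, 13, 18, 12, 21, 3, 16, 7, 17, 8, 20, 22, 10, 19, 23] (by decide +kernel)
def n774 : El K := El.mul n773 n772 [0, 1, 2, 3, 6, 5, 4, 22, 20, 12, 11, 10, 9, 19, 14, 18, 21, 17, 15, 13, 8, 16, 7, 23] (by decide +kernel)
def n777 : El K := El.mul n774 n570 [0, 13, 3, 15, 10, 7, 21, 19, 4, 17, 20, 5, 12, 6, 11, 9, 1, 2, 18, 14, 22, 16, 8, 23] (by decide +kernel)
def n778 : El K := El.mul n774 n694 [0, 20, 19, 5, 3, 8, 12, 18, 15, 6, 17, 7, 16, 11, 13, 14, 1, 2, 22, 21, 10, 9, 4, 23] (by decide +kernel)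
def n779 : El K := El.mul n594 n777 [0, 18, 19, 15, 5, 13, 20, 12, 3, 6, 8, 2, 22, 14, 17, 4, 7, 1, 10, 21, 16, 9, 11, 23] (by decide +kernel)
def n782 : El K := El.mul n774 n644 [0, 1, 18, 5, 21, 20, 19, 17, 16, 2, 12, 9, 7, 10, 22, 8, 14, 6, 3, 13, 11, 15, 4, 23] (by decide +kernel)
def n786 : El K := El.mul n501 n710 [21, 19, 9, 22, 6, 10, 2, 12, 3, 15, 1, 13, 5, 14, 18, 23, 11, 8, 20, 7, 16, 17, 0, 4] (by decide +kernel)
def n787 : El K := El.mul n648 n786 [21, 18, 19, 5, 14, 1, 11, 4, 10, 9, 12, 17, 16, 22, 3, 0, 6, 8, 7, 13, 20, 2, 15, 23] (by decide +kernel)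
def n788 : El K := El.inv n630 [21, 2, 12, 6, 5, 9, 17, 10, 14, 8, 16, 3, 7, 4, 15, 19, 20, 11, 18, 13, 22, 0, 1, 23] (by decide +kernel)
def n789 : El K := El.mul n788 n787 [0, 18, 13, 9, 15, 2, 3, 5, 16, 8, 7, 11, 20, 1, 6, 21, 17, 14, 10, 4, 22, 12, 19, 23] (by decide +kernel)
def n790 : El K := El.inv n779 [0, 17, 11, 8, 15, 4, 9, 16, 10, 21, 18, 22, 7, 5, 13, 3, 20, 14, 1, 2, 6, 19, 12, 23] (by decide +kernel)
def n791 : El K := El.mul n790 n789 [0, 1, 5, 21, 3, 11, 8, 4, 20, 10, 16, 22, 6, 17, 9, 19, 14, 13, 18, 15, 12, 7, 2, 23] (by decide +kernel)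
def n792 : El K := El.mul n745 n791 [0, 1, 2, 5, 12, 3, 20, 15, 22, 7, 6, 16, 13, 18, 17, 21, 8, 14, 4, 10, 19, 9, 11, 23] (by decide +kernel)
def n793 : El K := El.inv n730 [0, 1, 2, 17, 13, 3, 11, 8, 10, 21, 7, 15, 9, 22, 14, 6, 16, 5, 20, 18, 19, 12, 4, 23] (by decide +kernel)
def n794 : El K := El.mul n793 n792 [0, 1, 2, 3, 9, 17, 19, 6, 4, 8, 11, 16, 22, 20, 5, 12, 10, 14, 13, 7, 18, 21, 15, 23] (by decide +kernel)
def n795 : El K := El.mul n432 n794 [0, 1, 2, 3, 19, 5, 13, 16, 10, 18, 8, 20, 15, 6, 14, 12, 7, 17, 9, 4, 11, 22, 21, 23] (by decide +kernel)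
def n806 : El K := El.mul n795 n774 [0, 1, 2, 3, 13, 5, 19, 21, 11, 15, 20, 8, 18, 4, 14, 9, 22, 17, 12, 6, 10, 7, 16, 23] (by decide +kernel)
def n807 : El K := El.mul n621 n514 [18, 22, 21, 2, 3, 17, 20, 11, 16, 19, 8, 7, 15, 0, 23, 10, 14, 1, 12, 13, 4, 6, 5, 9] (by decide +kernel)
def n808 : El K := El.mul n622 n807 [10, 7, 19, 15, 4, 3, 6, 8, 18, 20, 12, 21, 16, 0, 14, 11, 13, 1, 17, 22, 2, 5, 9, 23] (by decide +kernel)
def n809 : El K := El.mul n557 n808 [0, 20, 22, 17, 19, 9, 8, 12, 21, 5, 1, 14, 2, 16, 3, 18, 15, 13, 11, 10, 6, 4, 7, 23] (by decide +kernel)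
def n810 : El K := El.inv n778 [0, 16, 17, 4, 22, 3, 9, 11, 5, 21, 20, 13, 6, 14, 15, 8, 12, 10, 7, 2, 1, 19, 18, 23] (by decide +kernel)
def n811 : El K := El.mul n810 n809 [0, 1, 18, 10, 2, 21, 5, 6, 19, 3, 16, 15, 17, 12, 4, 7, 8, 14, 13, 20, 9, 22, 11, 23] (by decide +kernel)
def n812 : El K := El.inv n782 [0, 1, 9, 18, 22, 3, 17, 12, 15, 11, 13, 20, 10, 19, 16, 21, 8, 7, 2, 6, 5, 4, 14, 23] (by decide +kernel)
def n813 : El K := El.mul n812 n811 [0, 1, 2, 13, 9, 4, 3, 17, 6, 18, 8, 21, 7, 10, 22, 12, 15, 16, 19, 5, 11, 14, 20, 23] (by decide +kernel)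
def n814 : El K := El.mul n709 n813 [0, 1, 2, 3, 16, 17, 11, 8, 20, 6, 19, 9, 15, 4, 5, 21, 13, 14, 10, 18, 7, 12, 22, 23] (by decide +kernel)
def n815 : El K := El.mul n432 n814 [0, 1, 2, 3, 20, 5, 8, 18, 6, 16, 13, 19, 21, 10, 14, 22, 9, 17, 7, 11, 4, 12, 15, 23] (by decide +kernel)
def n823 : El K := El.mul n815 n774 [0, 1, 2, 3, 8, 5, 20, 15, 4, 21, 19, 13, 16, 11, 14, 7, 12, 17, 22, 10, 6, 9, 18, 23] (by decide +kernel)
def n824 : El K := El.mul n815 n806 [0, 1, 2, 3, 10, 5, 11, 12, 19, 22, 4, 6, 7, 20, 14, 16, 15, 17, 21, 8, 13, 18, 9, 23] (by decide +kernel)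
def n825 : El K := El.mul n509 n786 [3, 0, 20, 17, 21, 15, 13, 4, 18, 9, 14, 22, 12, 10, 1, 19, 5, 6, 11, 16, 2, 8, 23, 7] (by decide +kernel)
def n832 : El K := El.mul n786 n825 [22, 21, 16, 8, 17, 23, 14, 6, 20, 15, 18, 0, 5, 1, 19, 7, 10, 2, 13, 11, 9, 3, 4, 12] (by decide +kernel)
def n850 : El K := El.mul n832 n765 [17, 3, 7, 15, 9, 22, 21, 19, 8, 12, 13, 10, 16, 0, 18, 2, 4, 23, 1, 14, 20, 6, 11, 5] (by decide +kernel)
def n851 : El K := El.mul n711 n850 [2, 16, 22, 4, 9, 1, 17, 5, 6, 19, 21, 18, 11, 14, 13, 8, 3, 0, 7, 10, 12, 20, 15, 23] (by decide +kernel)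
def n852 : El K := El.mul n687 n851 [0, 22, 6, 5, 2, 20, 3, 14, 11, 10, 16, 12, 19, 8, 1, 21, 15, 18, 13, 7, 9, 4, 17, 23] (by decide +kernel)
def n853 : El K := El.inv n724 [0, 16, 17, 5, 20, 13, 22, 18, 11, 15, 3, 9, 19, 8, 6, 10, 21, 7, 2, 14, 4, 12, 1, 23] (by decide +kernel)
def n854 : El K := El.mul n853 n852 [0, 1, 22, 13, 17, 4, 5, 6, 9, 3, 21, 19, 14, 11, 16, 12, 10, 2, 8, 18, 15, 20, 7, 23] (by decide +kernel)
def n855 : El K := El.inv n653 [0, 1, 17, 9, 3, 12, 8, 21, 22, 13, 19, 7, 10, 14, 4, 15, 5, 6, 11, 16, 18, 20, 2, 23] (by decide +kernel)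
def n856 : El K := El.mul n855 n854 [0, 1, 2, 14, 6, 3, 12, 8, 13, 9, 20, 16, 4, 7, 5, 10, 19, 17, 22, 11, 15, 18, 21, 23] (by decide +kernel)
def n857 : El K := El.mul n773 n856 [0, 1, 2, 3, 9, 5, 12, 11, 21, 4, 22, 7, 6, 15, 14, 13, 20, 17, 19, 18, 16, 8, 10, 23] (by decide +kernel)
def n862 : El K := El.mul n857 n774 [0, 1, 2, 3, 12, 5, 9, 10, 16, 6, 7, 22, 4, 18, 14, 19, 8, 17, 13, 15, 21, 20, 11, 23] (by decide +kernel)
def n863 : El K := El.mul n857 n795 [0, 1, 2, 3, 18, 5, 15, 20, 22, 19, 21, 16, 13, 12, 14, 6, 11, 17, 4, 9, 7, 10, 8, 23] (by decide +kernel)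
def n864 : El K := El.mul n857 n815 [0, 1, 2, 3, 16, 5, 21, 19, 12, 20, 15, 18, 8, 22, 14, 10, 4, 17, 11, 7, 9, 6, 13, 23] (by decide +kernel)
def n865 : El K := El.mul n857 n370 [0, 1, 2, 3, 7, 5, 22, 4, 15, 11, 12, 9, 10, 21, 14, 8, 19, 17, 20, 16, 18, 13, 6, 23] (by decide +kernel)
def n866 : El K := El.mul n857 n824 [0, 1, 2, 3, 22, 5, 7, 6, 18, 10, 9, 12, 11, 16, 14, 20, 13, 17, 8, 21, 15, 19, 4, 23] (by decide +kernel)

/-- the sixteen elements fixing the standard octad pointwise -/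
def els16 : List (El K) := [n3, n774, n865, n823, n857, n824, n370, n862, n806, n393, n864, n863, n795, n815, n402, n866]

end

end Cfsg.Agent.Lib.Helper1.M24
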