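import Mathlib
import Cfsg.Agent.Lib.Helper1.M24F

set_option autoImplicit false

namespace Cfsg.Agent.Lib.Helper1.M24

open Cfsg Cfsg.Agent.Lib.Helper1

noncomputable section

def n104 : El K := El.mul n2 n101 [23, 0, 8, 13, 4, 7, 10, 17, 20, 1, 11, 3, 14, 16, 22, 2, 19, 21, 15, 5, 12, 9, 6, 18] (by decide +kernel)
def n109 : El K := El.mul n0 n104 [23, 1, 9, 14, 5, 8, 11, 18, 21, 2, 12, 4, 15, 17, 0, 3, 20, 22, 16, 6, 13, 10, 7, 19] (by decide +kernel)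
def n869 : El K := El.mul n2 n6 [6, 3, 2, 21, 1, 5, 16, 12, 7, 19, 8, 9, 17, 15, 13, 11, 4, 22, 10, 20, 14, 0, 18, 23] (by decide +kernel)
def n880 : El K := El.mul n0 n869 [7, 4, 3, 22, 2, 6, 17, 13, 8, 20, 9, 10, 18, 16, 14, 12, 5, 0, 11, 21, 15, 1, 19, 23] (by decide +kernel)
def n3392 : El K := El.inv n7 [20, 21, 22, 0, 1, 2, 3, 4, 5, 6, 7, 8, 9, 10, 11, 12, 13, 14, 15, 16, 17, 18, 19, 23] (by decide +kernel)
def n3393 : El K := El.mul n2 n880 [5, 2, 3, 14, 6, 1, 11, 9, 16, 10, 12, 7, 4, 13, 17, 8, 21, 0, 19, 20, 15, 18, 22, 23] (by decide +kernel)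
def n3394 : El K := El.mul n3392 n3393 [2, 22, 0, 11, 3, 21, 8, 6, 13, 7, 9, 4, 1, 10, 14, 5, 18, 20, 16, 17, 12, 15, 19, 23] (by decide +kernel)
def n3395 : El K := El.inv n109 [14, 1, 9, 15, 11, 4, 19, 22, 5, 2, 21, 6, 10, 20, 3, 12, 18, 13, 7, 23, 16, 8, 17, 0] (by decide +kernel)
def n3396 : El K := El.mul n1 n109 [0, 22, 5, 18, 9, 20, 2, 14, 12, 11, 21, 17, 3, 4, 23, 15, 8, 1, 10, 19, 7, 16, 13, 6] (by decide +kernel)
def n3397 : El K := El.mul n3395 n3396 [14, 17, 4, 7, 2, 16, 9, 3, 10, 6, 8, 13, 15, 11, 0, 12, 5, 1, 21, 23, 22, 18, 20, 19] (by decide +kernel)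
def n3398 : El K := El.mul n3394 n3397 [14, 20, 3, 6, 0, 18, 7, 11, 9, 8, 13, 10, 5, 4, 2, 1, 21, 22, 15, 23, 19, 16, 12, 17] (by decide +kernel)
def n3399 : El K := El.mul n3394 n3394 [0, 19, 2, 4, 11, 15, 13, 8, 10, 6, 7, 3, 22, 9, 14, 21, 16, 12, 18, 20, 1, 5, 17, 23] (by decide +kernel)
def n3400 : El K := El.mul n3394 n3398 [14, 12, 11, 8, 2, 16, 6, 4, 7, 13, 10, 9, 21, 3, 0, 22, 15, 19, 5, 23, 17, 18, 1, 20] (by decide +kernel)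
def n3401 : El K := El.mul n3398 n3400 [2, 5, 10, 9, 3, 21, 7, 0, 11, 4, 13, 8, 16, 6, 14, 12, 1, 23, 18, 17, 22, 15, 20, 19] (by decide +kernel)
def n3402 : El K := El.mul n3400 n3394 [11, 1, 14, 9, 8, 18, 7, 6, 3, 4, 13, 2, 12, 10, 0, 16, 5, 17, 15, 19, 21, 22, 23, 20] (by decide +kernel)
def n3403 : El K := El.mul n3397 n3394 [4, 20, 14, 13, 7, 18, 10, 9, 11, 3, 6, 2, 17, 8, 0, 16, 21, 22, 5, 1, 15, 12, 23, 19] (by decide +kernel)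
def n3404 : El K := El.mul n3402 n3394 [14, 23, 11, 2, 9, 22, 3, 7, 10, 6, 4, 8, 1, 13, 0, 18, 15, 21, 5, 17, 12, 16, 19, 20] (by decide +kernel)
def n3405 : El K := El.mul n3394 n3401 [0, 21, 9, 7, 11, 15, 6, 2, 4, 3, 10, 13, 18, 8, 14, 1, 22, 23, 16, 20, 19, 5, 12, 17] (by decide +kernel)
def n3406 : El K := El.mul n3399 n3402 [3, 19, 14, 6, 10, 18, 8, 13, 4, 11, 9, 2, 22, 7, 0, 16, 15, 12, 21, 20, 5, 17, 23, 1] (by decide +kernel)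
def n3407 : El K := El.mul n3405 n3406 [7, 20, 14, 6, 10, 16, 4, 8, 11, 13, 3, 9, 12, 2, 0, 22, 1, 18, 5, 19, 15, 23, 17, 21] (by decide +kernel)
def n3408 : El K := El.mul n3407 n3399 [7, 19, 14, 10, 9, 22, 2, 11, 3, 4, 8, 6, 17, 13, 0, 23, 1, 12, 5, 15, 20, 16, 18, 21] (by decide +kernel)
def n3409 : El K := El.mul n3397 n3399 [14, 23, 4, 2, 13, 12, 11, 10, 8, 9, 3, 7, 20, 6, 0, 18, 5, 15, 21, 22, 17, 16, 1, 19] (by decide +kernel)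
def n3410 : El K := El.mul n3405 n3394 [9, 12, 0, 13, 7, 5, 4, 6, 8, 2, 3, 11, 21, 10, 14, 15, 16, 19, 22, 23, 18, 1, 20, 17] (by decide +kernel)
def n3411 : El K := El.mul n3404 n3394 [11, 19, 14, 8, 2, 16, 10, 3, 13, 7, 6, 9, 23, 4, 0, 22, 5, 12, 15, 21, 1, 18, 17, 20] (by decide +kernel)
def n3412 : El K := El.mul n3409 n3394 [4, 1, 14, 7, 2, 16, 8, 11, 6, 10, 9, 13, 23, 3, 0, 12, 21, 17, 5, 15, 20, 18, 22, 19] (by decide +kernel)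
def n3413 : El K := El.mul n3403 n3411 [2, 1, 0, 11, 14, 21, 6, 13, 8, 9, 10, 3, 19, 7, 4, 23, 18, 17, 16, 12, 20, 5, 22, 15] (by decide +kernel)
def n3414 : El K := El.mul n3410 n3403 [7, 18, 14, 10, 6, 22, 3, 2, 11, 13, 4, 0, 19, 8, 9, 16, 1, 20, 5, 12, 15, 21, 17, 23] (by decide +kernel)
def n3415 : El K := El.mul n3414 n3404 [9, 23, 0, 14, 13, 17, 10, 2, 4, 3, 6, 11, 18, 8, 7, 5, 16, 21, 22, 20, 19, 1, 12, 15] (by decide +kernel)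
def n3416 : El K := El.mul n3412 n3404 [0, 19, 13, 14, 10, 22, 7, 11, 9, 8, 2, 6, 1, 3, 4, 5, 12, 18, 16, 17, 23, 21, 15, 20] (by decide +kernel)
def n3417 : El K := El.mul n3399 n3416 [0, 20, 9, 14, 7, 17, 8, 3, 6, 10, 2, 13, 19, 4, 11, 15, 22, 18, 16, 12, 23, 5, 21, 1] (by decide +kernel)
def n3418 : El K := El.mul n3417 n3403 [7, 23, 11, 4, 3, 16, 2, 10, 13, 14, 8, 9, 18, 6, 0, 22, 5, 21, 17, 20, 15, 19, 1, 12] (by decide +kernel)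
def n3419 : El K := El.mul n3415 n3408 [2, 20, 7, 6, 3, 12, 0, 11, 14, 13, 4, 10, 21, 8, 9, 15, 23, 18, 17, 5, 19, 16, 22, 1] (by decide +kernel)
def n3420 : El K := El.mul n3408 n3403 [9, 20, 0, 13, 11, 5, 8, 4, 6, 10, 2, 14, 12, 3, 7, 1, 16, 18, 22, 19, 23, 17, 21, 15] (by decide +kernel)
def n3421 : El K := El.mul n3411 n3399 [11, 21, 14, 2, 9, 22, 4, 13, 6, 10, 3, 8, 17, 7, 0, 18, 5, 23, 15, 1, 19, 16, 12, 20] (by decide +kernel)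
def n3422 : El K := El.mul n3394 n3403 [3, 12, 14, 10, 6, 16, 9, 7, 4, 11, 8, 0, 20, 13, 2, 18, 15, 19, 21, 22, 5, 1, 23, 17] (by decide +kernel)
def n3423 : El K := El.mul n3421 n3413 [14, 21, 11, 8, 0, 16, 4, 7, 6, 10, 3, 2, 1, 13, 9, 20, 15, 23, 5, 17, 19, 22, 12, 18] (by decide +kernel)
def n3424 : El K := El.mul n3394 n3420 [7, 12, 2, 10, 4, 21, 13, 3, 8, 9, 0, 14, 1, 11, 6, 22, 18, 16, 19, 17, 23, 20, 15, 5] (by decide +kernel)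
def n3425 : El K := El.mul n3423 n3401 [11, 16, 3, 10, 8, 22, 7, 14, 2, 0, 13, 6, 15, 4, 9, 1, 21, 18, 5, 23, 12, 20, 19, 17] (by decide +kernel)
def n3426 : El K := El.mul n3413 n3423 [4, 5, 3, 8, 2, 18, 14, 13, 6, 10, 11, 0, 1, 7, 9, 20, 23, 15, 21, 17, 12, 22, 19, 16] (by decide +kernel)
def n3427 : El K := El.mul n3399 n3424 [8, 22, 2, 7, 11, 5, 9, 4, 10, 6, 0, 14, 19, 3, 13, 17, 18, 16, 20, 12, 23, 1, 21, 15] (by decide +kernel)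
def n3428 : El K := El.mul n3426 n3413 [3, 5, 4, 0, 9, 22, 14, 7, 6, 10, 11, 8, 17, 13, 2, 16, 21, 15, 23, 1, 12, 18, 19, 20] (by decide +kernel)
def n3429 : El K := El.mul n3419 n3424 [11, 21, 7, 4, 3, 16, 8, 6, 14, 13, 2, 9, 20, 10, 0, 22, 17, 23, 5, 18, 1, 19, 15, 12] (by decide +kernel)
def n3430 : El K := El.mul n3413 n3422 [11, 19, 4, 10, 6, 18, 9, 13, 14, 3, 8, 2, 20, 7, 0, 16, 23, 12, 5, 22, 21, 1, 15, 17] (by decide +kernel)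
def n3431 : El K := El.mul n3429 n3418 [6, 12, 9, 3, 4, 17, 7, 2, 10, 0, 14, 13, 5, 8, 11, 15, 16, 19, 23, 1, 22, 18, 21, 20] (by decide +kernel)
def n3432 : El K := El.mul n3427 n3399 [8, 12, 2, 11, 14, 17, 3, 10, 0, 9, 4, 7, 21, 6, 13, 1, 18, 19, 20, 23, 22, 5, 16, 15] (by decide +kernel)
def n3433 : El K := El.mul n3428 n3425 [8, 21, 0, 11, 6, 19, 7, 2, 4, 3, 13, 14, 16, 9, 10, 5, 18, 23, 22, 20, 17, 12, 1, 15] (by decide +kernel)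
def n3434 : El K := El.mul n3422 n3399 [3, 22, 14, 6, 0, 18, 13, 4, 8, 9, 7, 10, 23, 11, 2, 1, 15, 20, 21, 5, 12, 16, 19, 17] (by decide +kernel)
def n3435 : El K := El.mul n3431 n3434 [3, 21, 11, 7, 6, 23, 8, 4, 10, 0, 2, 14, 20, 13, 9, 12, 15, 22, 18, 17, 5, 16, 1, 19] (by decide +kernel)
def n3437 : El K := El.mul n3419 n3433 [14, 16, 2, 10, 0, 5, 11, 7, 3, 6, 8, 9, 23, 13, 4, 12, 17, 1, 22, 19, 18, 21, 20, 15] (by decide +kernel)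
def n3438 : El K := El.mul n3399 n3429 [3, 5, 8, 11, 4, 16, 10, 13, 14, 9, 2, 6, 1, 7, 0, 17, 12, 23, 15, 18, 19, 20, 21, 22] (by decide +kernel)
def n3439 : El K := El.mul n3428 n3419 [4, 12, 7, 14, 0, 17, 3, 8, 2, 13, 9, 11, 18, 6, 10, 16, 20, 23, 15, 22, 1, 21, 19, 5] (by decide +kernel)
def n3440 : El K := El.mul n3438 n3430 [6, 18, 4, 2, 10, 15, 9, 7, 0, 11, 14, 8, 19, 13, 3, 12, 22, 1, 16, 21, 20, 5, 17, 23] (by decide +kernel)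
def n3441 : El K := El.mul n3419 n3437 [9, 23, 7, 4, 2, 12, 10, 11, 6, 0, 14, 13, 1, 8, 3, 21, 18, 20, 22, 5, 17, 16, 19, 15] (by decide +kernel)
def n3442 : El K := El.mul n3441 n3434 [4, 19, 3, 10, 9, 22, 8, 2, 6, 0, 11, 14, 15, 13, 7, 23, 21, 17, 16, 12, 1, 18, 5, 20] (by decide +kernel)
def n3443 : El K := El.mul n3439 n3442 [0, 22, 14, 9, 13, 19, 2, 7, 3, 4, 11, 10, 16, 6, 8, 5, 21, 23, 20, 18, 12, 15, 17, 1] (by decide +kernel)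
def n3444 : El K := El.mul n3440 n3442 [10, 21, 2, 14, 11, 17, 0, 4, 9, 6, 8, 3, 12, 13, 7, 23, 5, 1, 22, 19, 18, 16, 15, 20] (by decide +kernel)
def n3446 : El K := El.mul n3419 n3432 [14, 21, 7, 10, 9, 18, 6, 4, 2, 13, 3, 11, 16, 0, 8, 20, 17, 5, 19, 1, 22, 12, 23, 15] (by decide +kernel)
def n3447 : El K := El.mul n3444 n3443 [10, 15, 7, 6, 13, 19, 2, 4, 14, 11, 3, 8, 5, 0, 9, 17, 16, 20, 18, 22, 12, 23, 1, 21] (by decide +kernel)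
def n3448 : El K := El.mul n3430 n3447 [8, 16, 13, 9, 7, 22, 4, 6, 0, 2, 10, 14, 18, 11, 3, 12, 23, 21, 5, 15, 20, 17, 19, 1] (by decide +kernel)
def n3449 : El K := El.mul n3446 n3441 [13, 15, 4, 9, 7, 16, 3, 11, 6, 14, 8, 0, 21, 2, 10, 12, 19, 22, 23, 18, 5, 17, 1, 20] (by decide +kernel)
def n3450 : El K := El.mul n3435 n3443 [3, 1, 9, 0, 13, 17, 11, 4, 7, 6, 14, 2, 15, 8, 10, 23, 16, 19, 5, 18, 20, 12, 22, 21] (by decide +kernel)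
def n3451 : El K := El.mul n3449 n3450 [9, 15, 14, 13, 2, 22, 0, 7, 11, 3, 10, 4, 12, 6, 8, 20, 19, 18, 16, 23, 5, 21, 1, 17] (by decide +kernel)
def n3452 : El K := El.mul n3430 n3448 [14, 23, 7, 3, 13, 15, 6, 9, 11, 4, 8, 0, 5, 2, 10, 20, 17, 1, 18, 16, 21, 12, 22, 19] (by decide +kernel)
def n3453 : El K := El.mul n3397 n3422 [7, 15, 0, 8, 9, 5, 6, 3, 2, 13, 10, 14, 22, 11, 4, 21, 12, 23, 18, 20, 16, 17, 19, 1] (by decide +kernel)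
def n3455 : El K := El.mul n3394 n3453 [6, 5, 2, 13, 7, 21, 8, 11, 0, 10, 9, 14, 19, 4, 3, 15, 1, 23, 16, 12, 18, 20, 17, 22] (by decide +kernel)
def n3457 : El K := El.mul n3394 n3455 [8, 21, 0, 10, 6, 15, 13, 4, 2, 9, 7, 14, 17, 3, 11, 5, 22, 23, 18, 1, 16, 12, 20, 19] (by decide +kernel)
def n3459 : El K := El.mul n3451 n3452 [8, 17, 7, 13, 6, 20, 0, 3, 4, 2, 11, 9, 22, 14, 10, 5, 18, 15, 16, 19, 21, 12, 1, 23] (by decide +kernel)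
def n3460 : El K := El.inv n3457 [2, 19, 8, 13, 7, 15, 4, 10, 0, 9, 3, 14, 21, 6, 11, 5, 20, 12, 18, 23, 22, 1, 16, 17] (by decide +kernel)
def n3461 : El K := El.mul n3460 n3459 [0, 12, 10, 6, 4, 22, 2, 13, 7, 8, 14, 9, 16, 11, 3, 15, 18, 5, 20, 23, 1, 21, 19, 17] (by decide +kernel)
def n3463 : El K := El.mul n3461 n3397 [3, 5, 4, 13, 10, 18, 8, 6, 14, 2, 7, 11, 15, 9, 0, 16, 22, 12, 21, 17, 19, 20, 1, 23] (by decide +kernel)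
def n3466 : El K := El.mul n3394 n3463 [11, 21, 3, 10, 9, 16, 13, 8, 14, 0, 6, 4, 5, 7, 2, 18, 19, 1, 15, 20, 17, 12, 22, 23] (by decide +kernel)
def n3470 : El K := El.mul n3461 n3461 [0, 16, 14, 2, 4, 19, 10, 11, 13, 7, 3, 8, 18, 9, 6, 15, 20, 22, 1, 17, 12, 21, 23, 5] (by decide +kernel)
def n3471 : El K := El.mul n3461 n3470 [0, 18, 3, 10, 4, 23, 14, 9, 11, 13, 6, 7, 20, 8, 2, 15, 1, 19, 12, 5, 16, 21, 17, 22] (by decide +kernel)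
def n3472 : El K := El.mul n3461 n3471 [0, 20, 6, 14, 4, 17, 3, 8, 9, 11, 2, 13, 1, 7, 10, 15, 12, 23, 16, 22, 18, 21, 5, 19] (by decide +kernel)
def n3473 : El K := El.mul n3441 n3435 [4, 16, 13, 11, 10, 15, 6, 2, 14, 9, 7, 3, 17, 8, 0, 1, 21, 19, 22, 20, 12, 18, 23, 5] (by decide +kernel)
def n3474 : El K := El.inv n3403 [14, 19, 11, 9, 0, 18, 10, 4, 13, 7, 6, 8, 21, 3, 2, 20, 15, 12, 5, 23, 1, 16, 17, 22] (by decide +kernel)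
def n3475 : El K := El.mul n3474 n3473 [0, 15, 3, 8, 6, 20, 10, 11, 2, 7, 4, 9, 12, 13, 14, 19, 16, 23, 17, 1, 21, 5, 22, 18] (by decide +kernel)
def n3476 : El K := El.mul n3470 n3475 [0, 15, 2, 13, 10, 12, 3, 8, 14, 11, 4, 7, 18, 9, 6, 17, 20, 5, 22, 16, 21, 19, 23, 1] (by decide +kernel)
def n3480 : El K := El.mul n3476 n3470 [0, 20, 6, 2, 10, 16, 4, 7, 9, 8, 13, 14, 22, 11, 3, 17, 21, 23, 15, 5, 18, 19, 1, 12] (by decide +kernel)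
def n3481 : El K := El.mul n3476 n3471 [0, 22, 13, 4, 10, 1, 6, 11, 7, 9, 3, 8, 21, 14, 2, 17, 15, 16, 18, 12, 20, 19, 5, 23] (by decide +kernel)
def n3486 : El K := El.mul n3476 n3476 [0, 17, 2, 9, 4, 18, 13, 14, 6, 7, 10, 8, 22, 11, 3, 5, 21, 12, 23, 20, 19, 16, 1, 15] (by decide +kernel)
def n3487 : El K := El.mul n3476 n3486 [0, 5, 2, 11, 10, 22, 9, 6, 3, 8, 4, 14, 23, 7, 13, 12, 19, 18, 1, 21, 16, 20, 15, 17] (by decide +kernel)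
def n3488 : El K := El.mul n3476 n3487 [0, 12, 2, 7, 4, 23, 11, 3, 13, 14, 10, 6, 1, 8, 9, 18, 16, 22, 15, 19, 20, 21, 17, 5] (by decide +kernel)
def n3489 : El K := El.mul n3476 n3488 [0, 18, 2, 8, 10, 1, 7, 13, 9, 6, 4, 3, 15, 14, 11, 22, 20, 23, 17, 16, 21, 19, 5, 12] (by decide +kernel)
def n3492 : El K := El.mul n3451 n3459 [11, 18, 7, 6, 0, 5, 9, 13, 2, 14, 4, 3, 1, 8, 10, 22, 16, 20, 19, 23, 21, 12, 15, 17] (by decide +kernel)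
def n3493 : El K := El.inv n3466 [9, 17, 14, 2, 11, 12, 10, 13, 7, 4, 3, 0, 21, 6, 8, 18, 5, 20, 15, 16, 19, 1, 22, 23] (by decide +kernel)
def n3494 : El K := El.mul n3493 n3492 [0, 15, 13, 10, 9, 12, 4, 6, 14, 8, 11, 2, 17, 7, 3, 22, 5, 19, 16, 23, 1, 21, 18, 20] (by decide +kernel)
def n3495 : El K := El.inv n3481 [0, 5, 14, 10, 3, 22, 6, 8, 11, 9, 4, 7, 19, 2, 13, 16, 17, 15, 18, 21, 20, 12, 1, 23] (by decide +kernel)
def n3496 : El K := El.mul n3495 n3494 [0, 16, 2, 4, 9, 19, 3, 6, 13, 11, 7, 14, 15, 8, 10, 1, 22, 21, 17, 23, 5, 12, 18, 20] (by decide +kernel)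
def n3499 : El K := El.mul n3496 n3461 [0, 15, 7, 3, 9, 18, 2, 8, 6, 13, 10, 11, 22, 14, 4, 1, 17, 19, 5, 20, 16, 12, 23, 21] (by decide +kernel)
def n3509 : El K := El.mul n3492 n3448 [2, 16, 8, 14, 13, 15, 0, 9, 11, 7, 4, 10, 19, 3, 6, 1, 17, 12, 5, 22, 21, 20, 23, 18] (by decide +kernel)
def n3510 : El K := El.inv n3394 [2, 12, 0, 4, 11, 15, 7, 9, 6, 10, 13, 3, 20, 8, 14, 21, 18, 19, 16, 22, 17, 5, 1, 23] (by decide +kernel)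
def n3511 : El K := El.mul n3510 n3509 [0, 18, 6, 14, 8, 21, 2, 10, 3, 9, 11, 13, 22, 4, 7, 12, 19, 20, 15, 1, 5, 17, 23, 16] (by decide +kernel)
def n3512 : El K := El.inv n3480 [0, 22, 3, 14, 6, 19, 2, 7, 9, 8, 4, 13, 23, 10, 11, 18, 5, 15, 20, 21, 1, 16, 12, 17] (by decide +kernel)
def n3513 : El K := El.mul n3512 n3511 [0, 20, 2, 11, 9, 16, 3, 4, 14, 8, 13, 10, 12, 6, 7, 23, 21, 1, 18, 22, 19, 15, 17, 5] (by decide +kernel)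
def n3514 : El K := El.mul n3489 n3513 [0, 21, 2, 3, 6, 20, 8, 10, 11, 9, 14, 4, 15, 7, 13, 12, 19, 18, 17, 5, 16, 22, 23, 1] (by decide +kernel)
def n3516 : El K := El.mul n3514 n3470 [0, 19, 13, 2, 6, 5, 14, 4, 7, 10, 3, 11, 17, 9, 8, 12, 16, 23, 21, 18, 15, 22, 1, 20] (by decide +kernel)
def n3520 : El K := El.mul n3514 n3514 [0, 22, 2, 3, 8, 16, 11, 14, 4, 9, 13, 6, 12, 10, 7, 15, 5, 17, 18, 20, 19, 23, 1, 21] (by decide +kernel)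
def n3521 : El K := El.mul n3514 n3520 [0, 23, 2, 3, 11, 19, 4, 13, 6, 9, 7, 8, 15, 14, 10, 12, 20, 18, 17, 16, 5, 1, 21, 22] (by decide +kernel)
def n3522 : El K := El.mul n3451 n3473 [2, 19, 6, 4, 10, 20, 0, 14, 8, 3, 7, 13, 18, 11, 9, 15, 21, 23, 1, 5, 12, 16, 17, 22] (by decide +kernel)
def n3523 : El K := El.mul n3510 n3522 [0, 22, 7, 11, 13, 17, 2, 14, 6, 4, 9, 8, 16, 3, 10, 21, 5, 23, 12, 15, 20, 18, 19, 1] (by decide +kernel)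
def n3524 : El K := El.inv n3499 [0, 15, 6, 3, 14, 18, 8, 2, 7, 4, 10, 11, 21, 9, 13, 1, 20, 16, 5, 17, 19, 23, 12, 22] (by decide +kernel)
def n3525 : El K := El.mul n3524 n3523 [0, 12, 2, 11, 9, 16, 6, 13, 8, 14, 4, 7, 20, 3, 10, 23, 18, 22, 21, 1, 19, 5, 17, 15] (by decide +kernel)
def n3526 : El K := El.mul n3489 n3525 [0, 15, 2, 3, 6, 20, 7, 14, 9, 11, 10, 13, 21, 8, 4, 12, 17, 5, 19, 18, 16, 1, 23, 22] (by decide +kernel)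
def n3527 : El K := El.mul n3521 n3526 [0, 12, 2, 3, 4, 5, 13, 10, 9, 8, 7, 14, 1, 6, 11, 15, 18, 19, 16, 17, 20, 23, 22, 21] (by decide +kernel)
def n3530 : El K := El.mul n3527 n3476 [0, 15, 2, 6, 7, 1, 3, 9, 11, 14, 4, 10, 16, 8, 13, 19, 20, 5, 22, 18, 23, 17, 21, 12] (by decide +kernel)
def n3531 : El K := El.mul n3527 n3514 [0, 23, 2, 3, 13, 20, 9, 7, 14, 8, 11, 4, 15, 10, 6, 1, 17, 16, 19, 5, 18, 22, 21, 12] (by decide +kernel)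
def n3536 : El K := El.mul n3522 n3440 [0, 1, 10, 6, 7, 15, 3, 14, 2, 13, 9, 8, 5, 11, 4, 18, 17, 19, 21, 16, 12, 20, 23, 22] (by decide +kernel)
def n3537 : El K := El.mul n3472 n3536 [0, 20, 2, 3, 8, 15, 14, 10, 6, 7, 11, 9, 17, 13, 4, 16, 23, 22, 21, 12, 1, 18, 19, 5] (by decide +kernel)
def n3538 : El K := El.mul n3520 n3537 [0, 19, 2, 3, 4, 15, 7, 13, 11, 14, 6, 9, 17, 10, 8, 5, 21, 1, 23, 12, 22, 18, 20, 16] (by decide +kernel)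
def n3539 : El K := El.mul n3538 n3397 [8, 1, 4, 13, 2, 21, 14, 3, 6, 7, 11, 10, 5, 9, 0, 17, 15, 19, 18, 16, 20, 23, 22, 12] (by decide +kernel)
def n3545 : El K := El.mul n3538 n3531 [0, 16, 2, 3, 10, 22, 14, 13, 8, 11, 9, 4, 5, 6, 7, 19, 1, 21, 12, 15, 23, 20, 18, 17] (by decide +kernel)
def n3547 : El K := El.mul n3509 n3419 [8, 21, 9, 0, 14, 19, 2, 10, 6, 3, 13, 4, 20, 11, 7, 1, 18, 5, 12, 15, 22, 17, 23, 16] (by decide +kernel)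
def n3548 : El K := El.inv n3539 [14, 1, 4, 7, 2, 12, 8, 9, 0, 13, 11, 10, 23, 3, 6, 16, 19, 15, 18, 17, 20, 5, 22, 21] (by decide +kernel)
def n3549 : El K := El.mul n3548 n3547 [0, 5, 13, 14, 6, 17, 4, 11, 8, 7, 3, 2, 20, 10, 9, 1, 18, 12, 23, 16, 22, 15, 21, 19] (by decide +kernel)
def n3550 : El K := El.inv n3516 [0, 22, 3, 10, 7, 5, 4, 8, 14, 13, 9, 11, 15, 2, 6, 20, 16, 12, 19, 1, 23, 18, 21, 17] (by decide +kernel)
def n3551 : El K := El.mul n3550 n3549 [0, 5, 2, 6, 4, 12, 7, 11, 14, 8, 10, 3, 23, 9, 13, 22, 19, 15, 17, 16, 21, 20, 18, 1] (by decide +kernel)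
def n3552 : El K := El.inv n3530 [0, 5, 2, 6, 10, 17, 3, 4, 13, 7, 11, 8, 23, 14, 9, 1, 12, 21, 19, 15, 16, 22, 18, 20] (by decide +kernel)
def n3553 : El K := El.mul n3552 n3551 [0, 17, 2, 3, 10, 23, 4, 8, 9, 13, 11, 6, 20, 7, 14, 18, 15, 1, 21, 12, 22, 16, 19, 5] (by decide +kernel)
def n3554 : El K := El.inv n3545 [0, 16, 2, 3, 11, 12, 13, 14, 8, 10, 4, 9, 18, 7, 6, 19, 1, 23, 22, 15, 21, 17, 5, 20] (by decide +kernel)
def n3555 : El K := El.mul n3554 n3553 [0, 23, 2, 3, 4, 20, 11, 8, 10, 7, 9, 13, 21, 14, 6, 22, 19, 16, 17, 18, 5, 1, 15, 12] (by decide +kernel)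
def n3563 : El K := El.mul n3398 n3404 [2, 17, 10, 3, 8, 12, 6, 11, 13, 7, 0, 9, 20, 4, 14, 15, 1, 16, 18, 22, 5, 21, 23, 19] (by decide +kernel)
def n3564 : El K := El.mul n3399 n3563 [2, 12, 7, 4, 10, 22, 13, 3, 9, 8, 0, 6, 1, 11, 14, 21, 19, 16, 18, 17, 15, 5, 23, 20] (by decide +kernel)
def n3565 : El K := El.mul n3563 n3397 [14, 16, 8, 11, 10, 1, 7, 3, 0, 6, 13, 4, 15, 9, 2, 20, 12, 17, 21, 19, 23, 18, 5, 22] (by decide +kernel)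
def n3566 : El K := El.mul n3564 n3394 [7, 23, 2, 6, 4, 5, 9, 13, 11, 3, 8, 10, 12, 0, 14, 22, 18, 15, 19, 16, 1, 21, 17, 20] (by decide +kernel)
def n3567 : El K := El.mul n3566 n3409 [14, 20, 4, 2, 0, 12, 10, 8, 11, 3, 6, 13, 1, 9, 7, 19, 5, 22, 21, 17, 15, 18, 23, 16] (by decide +kernel)
def n3568 : El K := El.mul n3567 n3405 [14, 18, 3, 8, 13, 19, 10, 4, 0, 2, 6, 9, 21, 11, 7, 20, 23, 16, 5, 15, 17, 12, 1, 22] (by decide +kernel)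
def n3569 : El K := El.mul n3565 n3405 [14, 18, 6, 3, 4, 20, 7, 8, 10, 11, 13, 9, 21, 0, 2, 16, 5, 22, 12, 23, 19, 1, 15, 17] (by decide +kernel)
def n3570 : El K := El.mul n3563 n3403 [8, 5, 14, 4, 11, 18, 0, 7, 9, 3, 6, 10, 16, 13, 2, 1, 21, 23, 12, 17, 15, 20, 19, 22] (by decide +kernel)
def n3571 : El K := El.mul n3397 n3570 [10, 16, 0, 2, 13, 21, 14, 3, 6, 7, 9, 8, 5, 11, 4, 17, 18, 19, 15, 1, 12, 22, 23, 20] (by decide +kernel)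
def n3572 : El K := El.mul n3571 n3405 [10, 22, 7, 3, 8, 17, 14, 0, 13, 2, 9, 11, 15, 6, 4, 16, 23, 20, 18, 12, 1, 21, 5, 19] (by decide +kernel)
def n3573 : El K := El.mul n3409 n3570 [8, 12, 0, 13, 7, 21, 14, 10, 9, 2, 11, 3, 5, 6, 4, 23, 16, 19, 20, 15, 18, 17, 22, 1] (by decide +kernel)
def n3574 : El K := El.mul n3572 n3571 [9, 23, 10, 7, 6, 21, 4, 3, 14, 0, 2, 13, 17, 11, 8, 20, 18, 12, 16, 22, 15, 5, 19, 1] (by decide +kernel)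
def n3575 : El K := El.mul n3409 n3573 [8, 20, 14, 6, 10, 16, 0, 3, 9, 4, 7, 2, 12, 11, 13, 19, 5, 22, 17, 18, 21, 15, 1, 23] (by decide +kernel)
def n3576 : El K := El.mul n3399 n3394 [2, 17, 0, 3, 4, 5, 10, 13, 9, 8, 6, 11, 19, 7, 14, 15, 18, 1, 16, 12, 22, 21, 20, 23] (by decide +kernel)
def n3577 : El K := El.mul n3575 n3571 [7, 5, 8, 14, 11, 15, 13, 6, 0, 3, 4, 9, 16, 2, 10, 22, 17, 18, 19, 20, 12, 1, 23, 21] (by decide +kernel)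
def n3578 : El K := El.mul n3397 n3563 [4, 1, 8, 7, 10, 15, 9, 13, 11, 3, 14, 6, 22, 2, 0, 12, 17, 5, 21, 20, 16, 18, 19, 23] (by decide +kernel)
def n3579 : El K := El.mul n3578 n3573 [11, 22, 4, 2, 13, 18, 0, 14, 3, 8, 6, 7, 15, 9, 10, 23, 17, 20, 16, 12, 21, 5, 19, 1] (by decide +kernel)
def n3580 : El K := El.mul n3574 n3575 [14, 15, 8, 4, 2, 18, 9, 7, 0, 6, 3, 10, 17, 13, 11, 22, 21, 19, 12, 16, 5, 20, 23, 1] (by decide +kernel)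
def n3581 : El K := El.mul n3574 n3579 [13, 19, 6, 10, 11, 16, 9, 8, 7, 14, 4, 3, 20, 0, 2, 1, 12, 15, 18, 17, 5, 21, 22, 23] (by decide +kernel)
def n3582 : El K := El.mul n3581 n3571 [4, 12, 13, 6, 0, 21, 2, 10, 9, 8, 14, 7, 16, 3, 11, 15, 18, 17, 1, 19, 20, 22, 23, 5] (by decide +kernel)
def n3583 : El K := El.mul n3571 n3578 [13, 16, 6, 3, 9, 17, 7, 11, 8, 2, 4, 14, 23, 0, 10, 5, 19, 21, 22, 12, 18, 15, 1, 20] (by decide +kernel)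
def n3584 : El K := El.mul n3582 n3576 [13, 17, 4, 6, 0, 21, 14, 3, 8, 9, 2, 7, 19, 10, 11, 15, 1, 12, 18, 16, 23, 22, 20, 5] (by decide +kernel)
def n3585 : El K := El.mul n3578 n3580 [0, 12, 11, 10, 8, 21, 3, 13, 4, 9, 7, 14, 5, 2, 6, 19, 18, 20, 22, 17, 15, 16, 23, 1] (by decide +kernel)
def n3586 : El K := El.mul n3584 n3583 [10, 1, 14, 6, 9, 12, 3, 7, 8, 4, 0, 11, 5, 13, 2, 21, 16, 22, 20, 19, 18, 15, 17, 23] (by decide +kernel)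
def n3587 : El K := El.mul n3585 n3568 [6, 22, 10, 4, 2, 17, 7, 8, 0, 11, 3, 9, 16, 14, 13, 15, 1, 18, 21, 19, 20, 5, 12, 23] (by decide +kernel)
def n3588 : El K := El.mul n3586 n3394 [14, 17, 10, 11, 6, 15, 8, 3, 13, 7, 4, 9, 1, 0, 2, 12, 20, 18, 16, 22, 5, 21, 19, 23] (by decide +kernel)
def n3589 : El K := El.mul n3577 n3569 [10, 19, 13, 14, 11, 12, 6, 0, 4, 9, 2, 3, 1, 7, 8, 17, 15, 23, 16, 21, 20, 5, 22, 18] (by decide +kernel)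
def n3590 : El K := El.mul n3589 n3578 [11, 19, 4, 0, 2, 17, 9, 7, 3, 14, 8, 6, 22, 13, 10, 1, 23, 12, 5, 20, 15, 16, 21, 18] (by decide +kernel)
def n3591 : El K := El.mul n3394 n3588 [14, 20, 9, 4, 8, 5, 13, 11, 10, 6, 3, 7, 22, 2, 0, 1, 12, 16, 18, 19, 21, 15, 17, 23] (by decide +kernel)
def n3592 : El K := El.mul n3587 n3584 [14, 18, 2, 7, 6, 5, 13, 4, 0, 11, 10, 8, 19, 3, 9, 15, 22, 16, 21, 1, 23, 12, 20, 17] (by decide +kernel)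
def n3594 : El K := El.mul n3591 n3563 [9, 16, 3, 4, 10, 22, 13, 7, 2, 11, 14, 6, 21, 8, 0, 1, 20, 12, 18, 17, 5, 15, 23, 19] (by decide +kernel)
def n3595 : El K := El.mul n3592 n3590 [8, 1, 6, 14, 2, 16, 11, 4, 7, 9, 0, 13, 20, 3, 10, 18, 17, 19, 5, 23, 15, 22, 12, 21] (by decide +kernel)
def n3596 : El K := El.mul n3563 n3595 [13, 17, 6, 14, 10, 1, 9, 8, 11, 7, 2, 4, 5, 3, 0, 18, 16, 22, 12, 19, 15, 23, 20, 21] (by decide +kernel)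
def n3597 : El K := El.mul n3577 n3589 [4, 20, 2, 10, 9, 16, 13, 7, 11, 3, 8, 14, 5, 6, 0, 18, 22, 21, 17, 1, 12, 15, 23, 19] (by decide +kernel)
def n3598 : El K := El.mul n3589 n3594 [9, 15, 14, 11, 2, 22, 7, 0, 13, 3, 8, 6, 5, 4, 10, 19, 20, 1, 16, 23, 12, 17, 18, 21] (by decide +kernel)
def n3599 : El K := El.mul n3394 n3597 [3, 12, 0, 9, 7, 18, 10, 6, 4, 11, 13, 14, 21, 8, 2, 16, 19, 15, 20, 22, 1, 5, 23, 17] (by decide +kernel)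
def n3600 : El K := El.mul n3592 n3599 [7, 19, 14, 11, 4, 21, 10, 13, 6, 8, 3, 9, 12, 0, 2, 22, 1, 15, 23, 20, 18, 5, 17, 16] (by decide +kernel)
def n3601 : El K := El.mul n3587 n3598 [11, 15, 13, 9, 10, 12, 8, 6, 14, 4, 0, 7, 17, 2, 3, 19, 20, 22, 1, 23, 16, 18, 21, 5] (by decide +kernel)
def n3602 : El K := El.inv n3402 [14, 1, 11, 8, 9, 16, 7, 6, 4, 3, 13, 0, 12, 10, 2, 18, 15, 17, 5, 19, 23, 20, 21, 22] (by decide +kernel)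
def n3603 : El K := El.mul n3602 n3601 [0, 18, 10, 3, 13, 12, 4, 7, 2, 9, 14, 6, 17, 11, 8, 19, 23, 21, 1, 22, 15, 5, 20, 16] (by decide +kernel)
def n3609 : El K := El.mul n3600 n3394 [14, 17, 7, 9, 11, 5, 6, 10, 0, 13, 8, 4, 19, 3, 2, 21, 23, 18, 1, 15, 12, 22, 20, 16] (by decide +kernel)
def n3610 : El K := El.mul n3397 n3609 [0, 1, 3, 6, 13, 16, 9, 8, 14, 11, 10, 2, 23, 7, 4, 18, 19, 21, 17, 12, 15, 20, 22, 5] (by decide +kernel)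
def n3611 : El K := El.mul n3610 n3394 [3, 22, 0, 2, 6, 20, 14, 9, 7, 8, 11, 13, 1, 10, 4, 16, 17, 15, 19, 21, 23, 18, 12, 5] (by decide +kernel)
def n3612 : El K := El.mul n3394 n3611 [11, 19, 2, 0, 8, 12, 14, 7, 6, 13, 4, 10, 22, 9, 3, 18, 20, 5, 17, 15, 23, 16, 1, 21] (by decide +kernel)
def n3613 : El K := El.mul n3397 n3611 [7, 20, 14, 4, 9, 22, 0, 6, 3, 10, 13, 11, 17, 8, 2, 5, 1, 12, 23, 18, 19, 21, 15, 16] (by decide +kernel)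
def n3615 : El K := El.mul n3610 n3603 [0, 17, 10, 6, 7, 23, 13, 8, 3, 11, 4, 9, 21, 2, 14, 12, 5, 20, 1, 22, 18, 16, 15, 19] (by decide +kernel)
def n3616 : El K := El.mul n3603 n3615 [0, 21, 14, 4, 7, 16, 11, 2, 3, 6, 13, 9, 5, 10, 8, 17, 12, 15, 18, 20, 1, 23, 19, 22] (by decide +kernel)
def n3617 : El K := El.mul n3603 n3616 [0, 5, 8, 13, 7, 23, 6, 10, 3, 4, 11, 9, 12, 14, 2, 21, 17, 19, 1, 15, 18, 16, 22, 20] (by decide +kernel)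
def n3620 : El K := El.mul n3610 n3617 [0, 16, 14, 7, 8, 5, 9, 10, 6, 13, 2, 11, 23, 4, 3, 20, 21, 12, 1, 18, 17, 19, 22, 15] (by decide +kernel)
def n3623 : El K := El.mul n3610 n3620 [0, 19, 4, 8, 14, 16, 11, 10, 9, 7, 3, 2, 5, 13, 6, 15, 20, 23, 1, 17, 21, 12, 22, 18] (by decide +kernel)
def n3625 : El K := El.mul n3610 n3610 [0, 1, 6, 9, 7, 19, 11, 14, 4, 2, 10, 3, 5, 8, 13, 17, 12, 20, 21, 23, 18, 15, 22, 16] (by decide +kernel)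
def n3626 : El K := El.mul n3610 n3625 [0, 1, 9, 11, 8, 12, 2, 4, 13, 3, 10, 6, 16, 14, 7, 21, 23, 15, 20, 5, 17, 18, 22, 19] (by decide +kernel)
def n3628 : El K := El.mul n3596 n3598 [7, 18, 0, 4, 6, 20, 8, 13, 3, 14, 11, 9, 1, 10, 2, 19, 15, 17, 16, 21, 5, 22, 12, 23] (by decide +kernel)
def n3629 : El K := El.inv n3613 [6, 16, 14, 8, 3, 15, 7, 0, 13, 4, 9, 11, 17, 10, 2, 22, 23, 12, 19, 20, 1, 21, 5, 18] (by decide +kernel)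
def n3630 : El K := El.mul n3629 n3628 [0, 19, 6, 3, 7, 1, 13, 10, 8, 2, 11, 4, 16, 9, 14, 20, 22, 12, 23, 21, 15, 5, 17, 18] (by decide +kernel)
def n3631 : El K := El.inv n3623 [0, 18, 11, 10, 2, 12, 14, 9, 3, 8, 7, 6, 21, 13, 4, 15, 5, 19, 23, 1, 16, 20, 22, 17] (by decide +kernel)
def n3632 : El K := El.mul n3631 n3630 [0, 1, 14, 10, 9, 18, 13, 7, 3, 11, 6, 2, 5, 8, 4, 16, 22, 21, 17, 20, 15, 12, 19, 23] (by decide +kernel)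
def n3633 : El K := El.mul n3632 n3403 [9, 15, 4, 8, 7, 17, 6, 11, 2, 10, 13, 14, 21, 3, 0, 22, 12, 19, 18, 1, 16, 5, 23, 20] (by decide +kernel)
def n3643 : El K := El.mul n3589 n3598 [9, 17, 8, 3, 13, 22, 0, 10, 7, 14, 4, 6, 12, 11, 2, 21, 20, 19, 15, 18, 1, 23, 16, 5] (by decide +kernel)
def n3644 : El K := El.inv n3633 [14, 19, 8, 13, 2, 21, 6, 4, 3, 0, 9, 7, 16, 10, 11, 1, 20, 5, 18, 17, 23, 12, 15, 22] (by decide +kernel)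
def n3645 : El K := El.mul n3644 n3643 [0, 5, 3, 13, 10, 15, 14, 9, 4, 11, 2, 6, 16, 7, 8, 12, 23, 17, 1, 18, 19, 22, 20, 21] (by decide +kernel)
def n3646 : El K := El.inv n3617 [0, 18, 14, 8, 9, 1, 6, 4, 2, 11, 7, 10, 12, 3, 13, 19, 21, 16, 20, 17, 23, 15, 22, 5] (by decide +kernel)
def n3647 : El K := El.mul n3646 n3645 [0, 1, 8, 3, 7, 19, 13, 11, 9, 10, 14, 6, 21, 4, 2, 12, 5, 16, 18, 20, 17, 22, 23, 15] (by decide +kernel)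
def n3648 : El K := El.mul n3626 n3647 [0, 1, 13, 11, 4, 5, 14, 6, 3, 10, 7, 2, 18, 8, 9, 16, 12, 23, 20, 17, 15, 22, 19, 21] (by decide +kernel)
def n3652 : El K := El.mul n3648 n3603 [0, 20, 7, 11, 8, 18, 4, 6, 13, 10, 9, 14, 23, 2, 3, 17, 21, 22, 1, 19, 16, 5, 15, 12] (by decide +kernel)
def n3654 : El K := El.mul n3603 n3652 [0, 15, 7, 6, 2, 1, 13, 4, 11, 14, 9, 8, 16, 10, 3, 21, 5, 20, 18, 22, 23, 12, 19, 17] (by decide +kernel)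
def n3657 : El K := El.mul n3603 n3654 [0, 19, 7, 4, 10, 18, 11, 13, 6, 8, 9, 2, 23, 14, 3, 5, 12, 15, 1, 20, 16, 17, 22, 21] (by decide +kernel)
def n3658 : El K := El.mul n3648 n3610 [0, 1, 11, 14, 8, 12, 10, 3, 9, 2, 7, 13, 21, 6, 4, 20, 17, 22, 23, 18, 16, 15, 19, 5] (by decide +kernel)
def n3662 : El K := El.mul n3648 n3648 [0, 1, 8, 2, 4, 5, 9, 14, 11, 7, 6, 13, 20, 3, 10, 12, 18, 21, 15, 23, 16, 19, 17, 22] (by decide +kernel)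
def n3663 : El K := El.mul n3648 n3662 [0, 1, 3, 13, 4, 5, 10, 9, 2, 6, 14, 8, 15, 11, 7, 18, 20, 22, 16, 21, 12, 17, 23, 19] (by decide +kernel)
def n3664 : El K := El.mul n3648 n3663 [0, 1, 11, 8, 4, 5, 7, 10, 13, 14, 9, 3, 16, 2, 6, 20, 15, 19, 12, 22, 18, 23, 21, 17] (by decide +kernel)
def n3665 : El K := El.mul n3599 n3643 [11, 15, 4, 9, 8, 23, 3, 13, 6, 2, 7, 10, 21, 14, 0, 5, 1, 22, 16, 20, 12, 17, 19, 18] (by decide +kernel)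
def n3666 : El K := El.inv n3612 [3, 22, 2, 14, 10, 17, 8, 7, 4, 13, 11, 0, 5, 9, 6, 19, 21, 18, 15, 1, 16, 23, 12, 20] (by decide +kernel)
def n3667 : El K := El.mul n3666 n3665 [0, 19, 10, 13, 4, 20, 14, 9, 8, 2, 7, 11, 23, 6, 3, 17, 22, 12, 21, 16, 5, 18, 1, 15] (by decide +kernel)
def n3668 : El K := El.inv n3657 [0, 18, 11, 14, 3, 15, 8, 2, 9, 10, 4, 6, 16, 7, 13, 17, 20, 21, 5, 1, 19, 23, 22, 12] (by decide +kernel)
def n3669 : El K := El.mul n3668 n3667 [0, 1, 4, 7, 3, 19, 13, 10, 9, 11, 2, 6, 12, 8, 14, 21, 22, 16, 23, 20, 15, 5, 18, 17] (by decide +kernel)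
def n3670 : El K := El.mul n3626 n3669 [0, 1, 8, 4, 11, 5, 14, 10, 3, 6, 9, 2, 16, 13, 7, 18, 22, 23, 19, 17, 21, 12, 20, 15] (by decide +kernel)
def n3671 : El K := El.mul n3648 n3670 [0, 1, 3, 4, 2, 5, 9, 7, 11, 14, 10, 13, 12, 8, 6, 20, 19, 21, 17, 23, 22, 18, 15, 16] (by decide +kernel)
def n3682 : El K := El.mul n3601 n3595 [14, 15, 8, 3, 13, 20, 7, 10, 6, 4, 11, 2, 16, 9, 0, 1, 22, 23, 12, 5, 19, 21, 17, 18] (by decide +kernel)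
def n3689 : El K := El.mul n3682 n3589 [11, 5, 9, 0, 2, 16, 7, 14, 13, 4, 8, 3, 15, 10, 6, 23, 1, 18, 22, 21, 19, 20, 17, 12] (by decide +kernel)
def n3690 : El K := El.mul n3666 n3689 [0, 17, 13, 3, 2, 21, 7, 6, 9, 10, 4, 14, 19, 11, 8, 20, 22, 15, 12, 23, 1, 16, 18, 5] (by decide +kernel)
def n3691 : El K := El.inv n3615 [0, 18, 13, 8, 10, 16, 3, 4, 7, 11, 2, 9, 15, 6, 14, 22, 21, 1, 20, 23, 17, 12, 19, 5] (by decide +kernel)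
def n3692 : El K := El.mul n3691 n3690 [0, 1, 6, 8, 13, 12, 4, 3, 11, 2, 10, 14, 23, 9, 7, 17, 19, 22, 15, 5, 18, 21, 20, 16] (by decide +kernel)
def n3693 : El K := El.inv n3658 [0, 1, 9, 7, 14, 23, 13, 10, 4, 8, 6, 2, 5, 11, 3, 21, 20, 16, 19, 22, 15, 12, 17, 18] (by decide +kernel)
def n3694 : El K := El.mul n3693 n3692 [0, 1, 13, 4, 11, 5, 14, 7, 2, 9, 6, 3, 18, 8, 10, 16, 22, 17, 21, 23, 19, 12, 15, 20] (by decide +kernel)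
def n3695 : El K := El.mul n3664 n3694 [0, 1, 2, 4, 3, 5, 6, 10, 11, 14, 7, 8, 12, 13, 9, 15, 21, 19, 23, 17, 22, 16, 20, 18] (by decide +kernel)

def gensD0 : List (El K) := [n3394, n3397, n3461, n3476, n3496, n3514, n3527, n3538, n3555]
def gensD1 : List (El K) := [n3461, n3476, n3496, n3514, n3527, n3538, n3555]
def gensD2 : List (El K) := [n3476, n3496, n3514, n3527, n3538, n3555]
def gensD3 : List (El K) := [n3514, n3527, n3538, n3555]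
def gensD4 : List (El K) := [n3527, n3538, n3555]
def gensE0 : List (El K) := [n3394, n3397, n3603, n3610, n3632, n3648, n3671, n3695]
def gensE1 : List (El K) := [n3603, n3610, n3632, n3648, n3671, n3695]
def gensE2 : List (El K) := [n3610, n3632, n3648, n3671, n3695]
def gensE3 : List (El K) := [n3648, n3671, n3695]

end

end Cfsg.Agent.Lib.Helper1.M24
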