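import Mathlib
import Cfsg.Agent.Lib.Helper1.M24E

set_option autoImplicit false

namespace Cfsg.Agent.Lib.Helper1.M24

open Cfsg Cfsg.Agent.Lib.Helper1
open scoped Pointwise

/-- image of a bit mask under a table -/
def pm (t : List ℕ) (m : ℕ) : ℕ :=
  (List.range 24).foldl (fun r i => if m.testBit i then r ||| 2 ^ (tg t i) else r) 0

theorem pm_fold_testBit (t : List ℕ) (m : ℕ) (l : List ℕ) (r j : ℕ) :
    (l.foldl (fun r i => if m.testBit i then r ||| 2 ^ (tg t i) else r) r).testBit j = true ↔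
      (r.testBit j = true ∨ ∃ i ∈ l, m.testBit i = true ∧ tg t i = j) := by
  induction l generalizing r with
  | nil => simp
  | cons a l ih =>
    rw [List.foldl_cons, ih]
    by_cases ha : m.testBit a = true
    · rw [if_pos ha, Nat.testBit_or, Nat.testBit_two_pow]
      simp only [Bool.or_eq_true, decide_eq_true_eq, List.mem_cons, exists_eq_or_imp]
      constructor
      · rintro ((h | h) | h)
        · exact Or.inl h
        · exact Or.inr (Or.inl ⟨ha, h⟩)
        · exact Or.inr (Or.inr h)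
      · rintro (h | ⟨_, h⟩ | h)
        · exact Or.inl (Or.inl h)
        · exact Or.inl (Or.inr h)
        · exact Or.inr h
    · rw [if_neg ha]
      simp only [List.mem_cons, exists_eq_or_imp]
      constructor
      · rintro (h | h)
        · exact Or.inl h
        · exact Or.inr (Or.inr h)
      · rintro (h | ⟨h, _⟩ | h)
        · exact Or.inl h
        · exact absurd h ha
        · exact Or.inr h

theorem pm_testBit (t : List ℕ) (m j : ℕ) :
    (pm t m).testBit j = true ↔ ∃ i < 24, m.testBit i = true ∧ tg t i = j := by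
  unfold pm
  rw [pm_fold_testBit]
  simp only [Nat.zero_testBit, Bool.false_eq_true, false_or, List.mem_range]

theorem El.tg_inj {H : Subgroup P24} (e : El H) {i j : ℕ} (hi : i < 24) (hj : j < 24)
    (h : tg e.t i = tg e.t j) : i = j := by
  have h1 := e.tab i hi
  have h2 := e.tab j hj
  rw [h, ← h2] at h1
  exact gUnidx_inj hi hj (e.σ.injective h1)

theorem pm_apply {H : Subgroup P24} (e : El H) (m : ℕ) (p : GolayPt) :
    (pm e.t m).testBit (gIdx (e.σ p)) = m.testBit (gIdx p) := by
  rw [Bool.eq_iff_iff, pm_testBit, e.apply_idx]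
  constructor
  · rintro ⟨i, hi, h1, h2⟩
    rw [← e.tg_inj hi (gIdx_lt p) h2]
    exact h1
  · intro h
    exact ⟨gIdx p, gIdx_lt p, h, rfl⟩

theorem smul_support_eq_pm {H : Subgroup P24} (e : El H) (m : ℕ) :
    e.σ • support₂ (ofMask m) = support₂ (ofMask (pm e.t m)) := by
  ext p
  rw [Finset.mem_smul_finset, mem_support₂_ofMask]
  constructor
  · rintro ⟨q, hq, rfl⟩
    rw [mem_support₂_ofMask] at hq
    rw [Equiv.Perm.smul_def, pm_apply]
    exact hq
  · intro h
    refine ⟨e.σ⁻¹ p, ?_, by simp⟩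
    rw [mem_support₂_ofMask, ← pm_apply e m (e.σ⁻¹ p)]
    simpa using h

/-- one step of the orbit certificate on code indices -/
def dstep (gs : List (List ℕ)) (R : ℕ) (e : ℕ × ℕ) : ℕ :=
  if R.testBit e.1 && decide (e.2 < gs.length) &&
      (cw ((pm (gs.getD e.2 []) (cw e.1)) >>> 12) == pm (gs.getD e.2 []) (cw e.1)) &&
      decide ((pm (gs.getD e.2 []) (cw e.1)) >>> 12 < 4096) then
    R ||| 2 ^ ((pm (gs.getD e.2 []) (cw e.1)) >>> 12)
  else R

/-- the code word with index `c` is in the orbit of the one with index `c₀` -/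
def CReach (H : Subgroup P24) (c₀ c : ℕ) : Prop :=
  c < 4096 ∧ ∃ σ ∈ H, σ • support₂ (ofMask (cw c₀)) = support₂ (ofMask (cw c))

theorem dstep_sound {H : Subgroup P24} (gens : List (El H)) (c₀ : ℕ) (R : ℕ)
    (hR : ∀ c, R.testBit c = true → CReach H c₀ c) (e : ℕ × ℕ) :
    ∀ c, (dstep (gens.map El.t) R e).testBit c = true → CReach H c₀ c := by
  intro c hc
  unfold dstep at hc
  split_ifs at hc with hcond
  · simp only [Bool.and_eq_true, decide_eq_true_eq, beq_iff_eq, List.length_map] at hcond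
    obtain ⟨⟨⟨h1, h2⟩, h3⟩, h4⟩ := hcond
    rw [Nat.testBit_or, Bool.or_eq_true, Nat.testBit_two_pow, decide_eq_true_eq] at hc
    rcases hc with hc | hc
    · exact hR c hc
    · obtain ⟨_, σ, hσ, hσe⟩ := hR _ h1
      have hget : (gens.map El.t).getD e.2 [] = (gens[e.2]'h2).t := by
        rw [List.getD_eq_getElem?_getD, List.getElem?_map, List.getElem?_eq_getElem h2]
        rfl
      rw [hget] at h3 h4 hc
      refine ⟨hc ▸ h4, (gens[e.2]'h2).σ * σ, H.mul_mem (gens[e.2]'h2).mem hσ, ?_⟩
      rw [mul_smul, hσe, smul_support_eq_pm, ← hc, h3]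
  · exact hR c hc

theorem dfold_sound {H : Subgroup P24} (gens : List (El H)) (c₀ : ℕ) (l : List (ℕ × ℕ)) (R : ℕ)
    (hR : ∀ c, R.testBit c = true → CReach H c₀ c) :
    ∀ c, (l.foldl (dstep (gens.map El.t)) R).testBit c = true → CReach H c₀ c := by
  induction l generalizing R with
  | nil => exact hR
  | cons e l ih =>
    rw [List.foldl_cons]
    exact ih _ (dstep_sound gens c₀ R hR e)

theorem creach_init (H : Subgroup P24) {c₀ : ℕ} (hc₀ : c₀ < 4096) :
    ∀ c, (2 ^ c₀).testBit c = true → CReach H c₀ c := by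
  intro c hc
  rw [Nat.testBit_two_pow, decide_eq_true_eq] at hc
  subst hc
  exact ⟨hc₀, 1, H.one_mem, one_smul _ _⟩

end Cfsg.Agent.Lib.Helper1.M24
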