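import Mathlib
import Cfsg.Agent.Lib.Helper1.M24H
import Cfsg.Agent.Lib.Helper1.M24I
import Cfsg.Agent.Lib.Helper1.M24J
import Cfsg.Agent.Lib.Helper1.StabCard

set_option autoImplicit false

namespace Cfsg.Agent.Lib.Helper1.M24

open Cfsg Cfsg.Agent.Lib.Helper1
open scoped Pointwise

set_option maxRecDepth 100000 in
theorem dfold_eq : dCert.foldl (dstep ([n0, n1, n2].map El.t)) (2 ^ 6) = dAll := by decide +kernel

theorem dAll_cover : allBelow (fun c => (popcN 24 (cw c) != 12) || dAll.testBit c) 4096 = true := by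
  decide +kernel

/-- the standard dodecad -/
def d₀fin : Finset GolayPt := support₂ (ofMask (cw 6))

theorem d₀fin_mem : d₀fin ∈ dodecads := dodecad_of_idx (by norm_num) (by decide +kernel)

theorem dodecad_reach (d : Finset GolayPt) (hd : d ∈ dodecads) : ∃ σ ∈ M24, σ • d₀fin = d := by
  unfold dodecads at hd
  rw [wordsOfWeight_eq] at hd
  obtain ⟨c, hc, rfl⟩ := hd
  simp only [Finset.coe_filter, Finset.mem_range, Set.mem_ofPred_eq, beq_iff_eq] at hc
  have h1 := (allBelow_iff _ _).mp dAll_cover c hc.1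
  simp only [Bool.or_eq_true, bne_iff_ne, ne_eq] at h1
  have h2 : dAll.testBit c = true := by
    rcases h1 with h1 | h1
    · exact absurd hc.2 h1
    · exact h1
  rw [← dfold_eq] at h2
  obtain ⟨_, σ, hσ, h3⟩ := dfold_sound (H := K) [n0, n1, n2] 6 dCert (2 ^ 6)
    (creach_init K (by norm_num)) c h2
  exact ⟨σ, K_le hσ, h3⟩

theorem dodecad_trans (d d' : Finset GolayPt) (hd : d ∈ dodecads) (hd' : d' ∈ dodecads) :
    ∃ σ ∈ M24, σ • d = d' := by
  obtain ⟨σ, hσ, rfl⟩ := dodecad_reach d hd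
  obtain ⟨τ, hτ, rfl⟩ := dodecad_reach d' hd'
  refine ⟨τ * σ⁻¹, M24.mul_mem hτ (M24.inv_mem hσ), ?_⟩
  rw [mul_smul, inv_smul_smul]

theorem card_stabilizer_dodecad (d : Finset GolayPt) (hd : d ∈ dodecads) :
    Nat.card (MulAction.stabilizer M24 d) = 95040 := by
  have h1 := StabCard.card_eq_ncard_orbit_mul (G := M24) d
  have h2 : MulAction.orbit M24 d = dodecads := by
    ext d'
    rw [MulAction.mem_orbit_iff]
    constructor
    · rintro ⟨g, rfl⟩
      exact smul_mem_dodecads g.2 hd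
    · intro hd'
      obtain ⟨σ, hσ, h⟩ := dodecad_trans d d' hd hd'
      exact ⟨⟨σ, hσ⟩, h⟩
  rw [h2, ncard_dodecads, card_M24] at h1
  omega

end Cfsg.Agent.Lib.Helper1.M24
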