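import Mathlib
import Cfsg.Agent.Lib.Helper1.LeechTrans32b
import Cfsg.Agent.Lib.Helper1.LeechShape48
import Cfsg.Agent.Lib.Helper1.M24K

set_option autoImplicit false

namespace Cfsg.Agent.Lib.Helper1.LeechConn

open Cfsg Cfsg.Agent.Lib.Helper1.LeechCross Cfsg.Agent.Lib.Helper1.LeechAut
  Cfsg.Agent.Lib.Helper1.LeechXi Cfsg.Agent.Lib.Helper1.LeechShape
  Cfsg.Agent.Lib.Helper1.MaskOf Cfsg.Agent.Lib.Helper1.LeechChk
  Cfsg.Agent.Lib.Helper1.LeechGen Cfsg.Agent.Lib.Helper1.LeechIndex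
open scoped Pointwise

theorem three_transitive : MulAction.IsMultiplyPretransitive M24 GolayPt 3 := by
  have := Cfsg.Agent.Lib.Helper1.M24.five_transitive
  exact MulAction.isMultiplyPretransitive_of_le (G := M24) (α := GolayPt) (m := 3) (n := 5)
      (by norm_num) (by rw [Nat.card_eq_fintype_card]; decide)

/-- three-point transitivity of the permutation group, in a convenient form -/
theorem exists_perm_three (i j k : GolayPt) (hij : i ≠ j) (hik : i ≠ k) (hjk : j ≠ k) :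
    ∃ σ ∈ M24, σ (some 0) = i ∧ σ (some 1) = j ∧ σ (some 2) = k := by
  have := three_transitive
  let e₁ : Fin 3 ↪ GolayPt := ⟨![some 0, some 1, some 2], by
    intro u v h
    fin_cases u <;> fin_cases v <;> first | rfl | (exfalso; revert h; decide)⟩
  let e₂ : Fin 3 ↪ GolayPt := ⟨![i, j, k], by
    intro u v h
    fin_cases u <;> fin_cases v <;> simp_all [hij.symm, hik.symm, hjk.symm]⟩
  obtain ⟨g, hg⟩ := MulAction.exists_smul_eq M24 e₁ e₂
  refine ⟨g.1, g.2, ?_, ?_, ?_⟩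
  · have := congrArg (fun e : Fin 3 ↪ GolayPt => e 0) hg
    exact this
  · have := congrArg (fun e : Fin 3 ↪ GolayPt => e 1) hg
    exact this
  · have := congrArg (fun e : Fin 3 ↪ GolayPt => e 2) hg
    exact this

/-- the octad through the first five base points -/
def Oc : Finset GolayPt := support₂ (ofMask Cfsg.Agent.Lib.Helper1.M24.O₀)

theorem Oc_mem : Oc ∈ octads := by
  unfold Oc
  rw [← Cfsg.Agent.Lib.Helper1.M24.O₀_eq]
  exact octad_of_code (c := 2084) (by norm_num) (by decide +kernel)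

/-- the stabilizer of the octad is transitive on the outside points -/
theorem stab_octad_trans (q : GolayPt) (hq : q ∉ Oc) :
    ∃ σ ∈ M24, σ • Oc = Oc ∧ σ (gUnidx 4) = q := by
  have hb : Cfsg.Agent.Lib.Helper1.M24.O₀.testBit (gIdx q) = false := by
    by_contra h
    apply hq
    unfold Oc
    rw [mem_support_ofMask]
    simpa using h
  obtain ⟨σ, hσ, hfix, hσq⟩ := Cfsg.Agent.Lib.Helper1.M24.lvl5 (gIdx q) (gIdx_lt q) hb
  have hσM : σ ∈ M24 := Cfsg.Agent.Lib.Helper1.M24.K_le hσ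
  refine ⟨σ, hσM, ?_, ?_⟩
  · exact Cfsg.Agent.Lib.Helper1.M24.smul_eq_of_invMask
      (Cfsg.Agent.Lib.Helper1.M24.invMask_O₀ hσM hfix)
  · rw [hσq, gUnidx_gIdx]

theorem smul_mem_iff {σ : Equiv.Perm GolayPt} {A B : Finset GolayPt} (h : σ • A = B)
    (p : GolayPt) : σ p ∈ B ↔ p ∈ A := by
  rw [← h]
  exact Finset.smul_mem_smul_finset_iff σ

/-- transitivity on pairs (octad, outside point) -/
theorem pair_trans (O : Finset GolayPt) (hO : O ∈ octads) (q : GolayPt) (hq : q ∉ O) :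
    ∃ σ ∈ M24, σ • O0 = O ∧ σ (some 5) = q := by
  obtain ⟨τ, hτ, hτO⟩ := Cfsg.Agent.Lib.Helper1.M24.octad_trans O0 Oc O0_mem Oc_mem
  obtain ⟨ρ, hρ, hρO⟩ := Cfsg.Agent.Lib.Helper1.M24.octad_trans O Oc hO Oc_mem
  have h5 : (some 5 : GolayPt) ∉ O0 := by
    unfold O0
    rw [mem_support_ofMask]
    decide
  have h1 : τ (some 5) ∉ Oc := fun h => h5 ((smul_mem_iff hτO _).mp h)
  have h2 : ρ q ∉ Oc := fun h => hq ((smul_mem_iff hρO _).mp h)
  obtain ⟨σ1, hσ1, hσ1O, hσ1q⟩ := stab_octad_trans _ h1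
  obtain ⟨σ2, hσ2, hσ2O, hσ2q⟩ := stab_octad_trans _ h2
  refine ⟨ρ⁻¹ * σ2 * σ1⁻¹ * τ, M24.mul_mem (M24.mul_mem (M24.mul_mem (M24.inv_mem hρ) hσ2)
    (M24.inv_mem hσ1)) hτ, ?_, ?_⟩
  · rw [mul_smul, mul_smul, mul_smul, hτO]
    have : σ1⁻¹ • Oc = Oc := by rw [inv_smul_eq_iff, hσ1O]
    rw [this, hσ2O, inv_smul_eq_iff, hρO]
  · simp only [Equiv.Perm.mul_apply]
    have e1 : σ1⁻¹ (τ (some 5)) = gUnidx 4 := by
      rw [Equiv.Perm.inv_eq_iff_eq, hσ1q]
    rw [e1, hσ2q, Equiv.Perm.inv_eq_iff_eq]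

end Cfsg.Agent.Lib.Helper1.LeechConn
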