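import Mathlib
import Cfsg.Agent.Lib.Helper1.LeechTrans48a

set_option autoImplicit false

namespace Cfsg.Agent.Lib.Helper1.LeechConn

open Cfsg Cfsg.Agent.Lib.Helper1.LeechCross Cfsg.Agent.Lib.Helper1.LeechAut
  Cfsg.Agent.Lib.Helper1.LeechXi Cfsg.Agent.Lib.Helper1.LeechShape
  Cfsg.Agent.Lib.Helper1.MaskOf Cfsg.Agent.Lib.Helper1.LeechChk
  Cfsg.Agent.Lib.Helper1.LeechGen Cfsg.Agent.Lib.Helper1.LeechIndex
open scoped Pointwise

/-- correcting signs on a set all of whose even subsets are cut out by code words -/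
theorem sign_fix (X : ℕ) (cidx : ℕ → ℕ)
    (hok : ∀ s ≤ X, s &&& X = s → popcN 24 s % 2 = 0 → cidx s < 4096 ∧ cw (cidx s) &&& X = s)
    (y c : GolayPt → ℤ)
    (hy : ∀ p ∈ support₂ (ofMask X), y p = 2 ∨ y p = -2)
    (hc : ∀ p ∈ support₂ (ofMask X), c p = 2 ∨ c p = -2)
    (hsum : (∑ p ∈ support₂ (ofMask X), y p) % 8 = (∑ p ∈ support₂ (ofMask X), c p) % 8) :
    ∃ C ∈ gC, ∀ p ∈ support₂ (ofMask X), epsF C y p = c p := by
  classical
  set A := support₂ (ofMask X) with hA
  set T := A.filter (fun p => y p ≠ c p) with hT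
  have hev : Even T.card := by
    have h1 : ∑ p ∈ A, (y p - c p) = ∑ p ∈ T, (y p - c p) := by
      rw [hT, Finset.sum_filter]
      apply Finset.sum_congr rfl
      intro p _
      split_ifs with h
      · rfl
      · push Not at h
        rw [h]; ring
    have h2 : (∑ p ∈ T, (y p - c p)) % 8 = (4 * (T.card : ℤ)) % 8 := by
      rw [Finset.sum_int_mod]
      have : ∀ p ∈ T, (y p - c p) % 8 = 4 := by
        intro p hp
        rw [hT, Finset.mem_filter] at hp
        have hne := hp.2
        rcases hy p hp.1 with h | h <;> rcases hc p hp.1 with h' | h' <;> omega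
      rw [Finset.sum_congr rfl this, Finset.sum_const, nsmul_eq_mul]
      ring_nf
    rw [Finset.sum_sub_distrib] at h1
    rw [← h1] at h2
    rw [Nat.even_iff]
    omega
  obtain ⟨C, hC, hCT⟩ := exists_code_inter_of X cidx hok T (Finset.filter_subset _ _) hev
  refine ⟨C, hC, fun p hp => ?_⟩
  unfold epsF
  by_cases hpC : p ∈ C
  · have : p ∈ T := by rw [← hCT]; exact Finset.mem_inter.mpr ⟨hpC, hp⟩
    rw [hT, Finset.mem_filter] at this
    rw [if_pos hpC]
    have hne := this.2
    rcases hy p hp with h | h <;> rcases hc p hp with h' | h' <;> omega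
  · have : p ∉ T := by rw [← hCT]; intro h; exact hpC (Finset.mem_inter.mp h).1
    rw [if_neg hpC]
    by_contra hne
    exact this (by rw [hT, Finset.mem_filter]; exact ⟨hp, hne⟩)

/-! ### Shape A -/

/-- the standard dodecad -/
def D0 : Finset GolayPt := support₂ (ofMask 28637)

theorem D0_mem : D0 ∈ dodecads := by
  have : (28637 : ℕ) = cw 6 := by decide +kernel
  unfold D0
  rw [this]
  exact Cfsg.Agent.Lib.Helper1.M24.d₀fin_mem

/-- twice the indicator of the standard dodecad -/
def a₀ : GolayPt → ℤ := fun p => if p ∈ D0 then 2 else 0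

def cidx12 (s : ℕ) : ℕ :=
  (if s.testBit 2 then 1441 else 0) ^^^ (if s.testBit 3 then 496 else 0) ^^^
  (if s.testBit 4 then 345 else 0) ^^^ (if s.testBit 6 then 697 else 0) ^^^
  (if s.testBit 7 then 609 else 0) ^^^ (if s.testBit 8 then 1225 else 0) ^^^
  (if s.testBit 9 then 1080 else 0) ^^^ (if s.testBit 10 then 1896 else 0) ^^^
  (if s.testBit 11 then 1744 else 0) ^^^ (if s.testBit 13 then 1811 else 0) ^^^
  (if s.testBit 14 then 908 else 0)

theorem cidx12_chk : allBelow (fun s => !(s &&& 28637 == s && popcN 24 s % 2 == 0) ||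
    (decide (cidx12 s < 4096) && (cw (cidx12 s) &&& 28637 == s))) 28638 = true := by
  decide +kernel

theorem cidx12_ok : ∀ s ≤ 28637, s &&& 28637 = s → popcN 24 s % 2 = 0 →
    cidx12 s < 4096 ∧ cw (cidx12 s) &&& 28637 = s := by
  intro s hs h1 h2
  have := (allBelow_iff _ _).mp cidx12_chk s (by omega)
  simp only [Bool.or_eq_true, Bool.not_eq_true', Bool.and_eq_false_iff, beq_eq_false_iff_ne,
    Bool.and_eq_true, decide_eq_true_eq, beq_iff_eq] at this
  rcases this with (h | h) | h
  · exact absurd h1 h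
  · exact absurd h2 h
  · exact h

theorem sum_eq_sum_of_zero {A : Finset GolayPt} {y : GolayPt → ℤ} (h0 : ∀ p ∉ A, y p = 0) :
    ∑ p, y p = ∑ p ∈ A, y p := by
  classical
  rw [← Finset.sum_add_sum_compl A y]
  have : ∑ p ∈ Aᶜ, y p = 0 :=
    Finset.sum_eq_zero (fun p hp => h0 p (Finset.mem_compl.mp hp))
  rw [this, add_zero]

theorem shA_normal {y : GolayPt → ℤ} (hy : y ∈ leechLattice)
    (h1 : ∀ p ∈ D0, y p = 2 ∨ y p = -2) (h0 : ∀ p ∉ D0, y p = 0) : Conn y a₀ := by
  classical
  have hsum : (∑ p ∈ D0, y p) % 8 = (∑ p ∈ D0, a₀ p) % 8 := by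
    have e : ∑ p ∈ D0, a₀ p = 24 := by
      have : ∀ p ∈ D0, a₀ p = 2 := fun p hp => by unfold a₀; rw [if_pos hp]
      rw [Finset.sum_congr rfl this, Finset.sum_const, D0_mem.2]
      norm_num
    rw [e, ← sum_eq_sum_of_zero h0]
    obtain ⟨m, hm1, hm2, _⟩ := (mem_leechLattice_iff y).mp hy
    simp only [Int.ModEq] at hm1 hm2
    have hpar : y none % 2 = 0 := by
      by_cases hp : (none : GolayPt) ∈ D0
      · rcases h1 none hp with h | h <;> rw [h] <;> norm_num
      · rw [h0 none hp]; norm_num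
    have := hm1 none
    omega
  obtain ⟨C, hC, hCy⟩ := sign_fix 28637 cidx12 cidx12_ok y a₀ h1
    (fun p hp => Or.inl (by unfold a₀; exact if_pos hp)) hsum
  have h2 := conn_eps hC hy
  have : epsF C y = a₀ := by
    ext p
    by_cases hp : p ∈ D0
    · exact hCy p hp
    · unfold epsF a₀
      rw [h0 p hp, if_neg hp]
      simp
  rw [this] at h2
  exact h2

theorem shA_conn {x : GolayPt → ℤ} (hx : x ∈ leechLattice) (h : ShA x) : Conn x a₀ := by
  obtain ⟨D, hD, h1, h0⟩ := h
  obtain ⟨σ, hσ, hσD⟩ := Cfsg.Agent.Lib.Helper1.M24.dodecad_trans D0 D D0_mem hD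
  have hmem := smul_mem_iff hσD
  have h2 := conn_perm hσ hx
  refine h2.trans (shA_normal h2.mem_right ?_ ?_)
  · intro p hp
    exact h1 (σ p) ((hmem p).mpr hp)
  · intro p hp
    exact h0 (σ p) (fun h => hp ((hmem p).mp h))

/-! ### Shapes B and D -/

/-- all coordinates made congruent to one modulo four -/
theorem odd_normal {x : GolayPt → ℤ} (hx : x ∈ leechLattice) :
    Conn x (epsF (lvl x 3) x) := by
  have hL : lvl x 3 ∈ gC := by
    obtain ⟨m, _, _, h3⟩ := (mem_leechLattice_iff x).mp hx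
    exact h3 3
  exact conn_eps hL hx

theorem odd_normal_val (x : GolayPt → ℤ) (p : GolayPt) (a : ℤ) (ha : a % 4 = 1)
    (h : x p = a ∨ x p = -a) : epsF (lvl x 3) x p = a := by
  unfold epsF
  by_cases hm : p ∈ lvl x 3
  · rw [if_pos hm]
    rw [mem_lvl_iff] at hm
    rcases h with h | h
    · rw [h] at hm; omega
    · rw [h]; ring
  · rw [if_neg hm]
    rw [mem_lvl_iff] at hm
    rcases h with h | h
    · exact h
    · rw [h] at hm; omega

def b₀ : GolayPt → ℤ := fun p => if p = some 0 ∨ p = some 1 ∨ p = some 2 then -3 else 1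

def d₀ : GolayPt → ℤ := fun p => if p = none then 5 else 1

theorem shB_conn {x : GolayPt → ℤ} (hx : x ∈ leechLattice) (h : ShB x) : Conn x b₀ := by
  obtain ⟨i, j, k, hij, hik, hjk, hi, hj, hk, hr⟩ := h
  have h1 := odd_normal hx
  have hy : ∀ p, epsF (lvl x 3) x p = if p = i ∨ p = j ∨ p = k then -3 else 1 := by
    intro p
    by_cases hp : p = i ∨ p = j ∨ p = k
    · rw [if_pos hp]
      apply odd_normal_val x p (-3) (by norm_num)
      rcases hp with rfl | rfl | rfl
      · rcases hi with h | h <;> rw [h] <;> norm_num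
      · rcases hj with h | h <;> rw [h] <;> norm_num
      · rcases hk with h | h <;> rw [h] <;> norm_num
    · rw [if_neg hp]
      push Not at hp
      exact odd_normal_val x p 1 (by norm_num) (hr p hp.1 hp.2.1 hp.2.2)
  obtain ⟨σ, hσ, hσ0, hσ1, hσ2⟩ := exists_perm_three i j k hij hik hjk
  have h2 := conn_perm hσ h1.mem_right
  have : permF σ (epsF (lvl x 3) x) = b₀ := by
    ext p
    show epsF (lvl x 3) x (σ p) = _
    rw [hy]
    unfold b₀
    have e : (σ p = i ∨ σ p = j ∨ σ p = k) ↔ (p = some 0 ∨ p = some 1 ∨ p = some 2) := by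
      rw [← hσ0, ← hσ1, ← hσ2]
      simp only [EmbeddingLike.apply_eq_iff_eq]
    simp only [e]
  rw [this] at h2
  exact h1.trans h2

theorem shD_conn {x : GolayPt → ℤ} (hx : x ∈ leechLattice) (h : ShD x) : Conn x d₀ := by
  obtain ⟨i, hi, hr⟩ := h
  have h1 := odd_normal hx
  have hy : ∀ p, epsF (lvl x 3) x p = if p = i then 5 else 1 := by
    intro p
    by_cases hp : p = i
    · rw [if_pos hp]
      apply odd_normal_val x p 5 (by norm_num)
      rw [hp]; exact hi
    · rw [if_neg hp]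
      exact odd_normal_val x p 1 (by norm_num) (hr p hp)
  obtain ⟨σ, hσ, hσ1⟩ := exists_perm_one i
  have h2 := conn_perm hσ h1.mem_right
  have : permF σ (epsF (lvl x 3) x) = d₀ := by
    ext p
    show epsF (lvl x 3) x (σ p) = _
    rw [hy]
    unfold d₀
    have e : σ p = i ↔ p = none := by
      rw [← hσ1]
      simp only [EmbeddingLike.apply_eq_iff_eq]
    simp only [e]
  rw [this] at h2
  exact h1.trans h2

end Cfsg.Agent.Lib.Helper1.LeechConn
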