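import Mathlib
import Cfsg.Agent.Lib.Helper1.LeechTrans48b

set_option autoImplicit false

namespace Cfsg.Agent.Lib.Helper1.LeechConn

open Cfsg Cfsg.Agent.Lib.Helper1.LeechCross Cfsg.Agent.Lib.Helper1.LeechAut
  Cfsg.Agent.Lib.Helper1.LeechXi Cfsg.Agent.Lib.Helper1.LeechShape
  Cfsg.Agent.Lib.Helper1.MaskOf Cfsg.Agent.Lib.Helper1.LeechChk
  Cfsg.Agent.Lib.Helper1.LeechGen Cfsg.Agent.Lib.Helper1.LeechIndex
open scoped Pointwise

/-! ### Shape C -/

def c₀ : GolayPt → ℤ := fun p =>
  if p = some 5 then 4 else if p = some 0 then -2 else if p ∈ O0 then 2 else 0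

theorem five_notMem : (some 5 : GolayPt) ∉ O0 := by
  unfold O0
  rw [mem_support_ofMask]
  decide

theorem none_notMem : (none : GolayPt) ∉ O0 := by
  unfold O0
  rw [mem_support_ofMask]
  decide

theorem zero_mem : (some 0 : GolayPt) ∈ O0 := by
  unfold O0
  rw [mem_support_ofMask]
  decide

theorem c₀_of_mem {p : GolayPt} (hp : p ∈ O0) : c₀ p = if p = some 0 then -2 else 2 := by
  unfold c₀
  have : p ≠ some 5 := fun e => five_notMem (e ▸ hp)
  rw [if_neg this]
  simp only [hp, if_true]

theorem sum_c₀ : ∑ p ∈ O0, c₀ p = 12 := by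
  classical
  rw [Finset.sum_congr rfl (fun p hp => c₀_of_mem hp)]
  have : ∀ p : GolayPt, (if p = some 0 then (-2 : ℤ) else 2) = 2 - (if p = some 0 then 4 else 0) := by
    intro p; split_ifs <;> norm_num
  rw [Finset.sum_congr rfl (fun p _ => this p), Finset.sum_sub_distrib, Finset.sum_const,
    O0_mem.2, Finset.sum_ite_eq' O0 (some 0) (fun _ => (4 : ℤ)), if_pos zero_mem]
  norm_num

theorem shC_normal {y : GolayPt → ℤ} (hy : y ∈ leechLattice)
    (hq : y (some 5) = 4 ∨ y (some 5) = -4)
    (h1 : ∀ p ∈ O0, y p = 2 ∨ y p = -2) (h0 : ∀ p, p ∉ O0 → p ≠ some 5 → y p = 0) :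
    Conn y c₀ := by
  classical
  have htot : ∑ p, y p = ∑ p ∈ O0, y p + y (some 5) := by
    rw [← Finset.sum_add_sum_compl O0 y]
    congr 1
    exact Finset.sum_eq_single (some 5)
      (fun p hp hne => h0 p (Finset.mem_compl.mp hp) hne)
      (fun h => absurd (Finset.mem_compl.mpr five_notMem) h)
  have hsum : (∑ p ∈ O0, y p) % 8 = (∑ p ∈ O0, c₀ p) % 8 := by
    rw [sum_c₀]
    obtain ⟨m, hm1, hm2, _⟩ := (mem_leechLattice_iff y).mp hy
    simp only [Int.ModEq] at hm1 hm2
    have hpar : y none % 2 = 0 := by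
      rw [h0 none none_notMem (by simp)]; norm_num
    have := hm1 none
    rw [htot] at hm2
    rcases hq with h | h <;> rw [h] at hm2 <;> omega
  obtain ⟨C, hC, hCy⟩ := sign_fix 5279 cidx8 cidx8_ok y c₀ h1
    (fun p hp => by
      rw [c₀_of_mem hp]
      split_ifs
      · exact Or.inr rfl
      · exact Or.inl rfl) hsum
  have h2 := conn_eps hC hy
  -- the vector after the first correction
  have hz5 : epsF C y (some 5) = 4 ∨ epsF C y (some 5) = -4 := by
    unfold epsF
    split_ifs
    · rcases hq with h | h <;> rw [h] <;> norm_num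
    · exact hq
  have hz0 : ∀ p, p ∉ O0 → p ≠ some 5 → epsF C y p = 0 := by
    intro p hp hp5
    unfold epsF
    rw [h0 p hp hp5]
    simp
  rcases hz5 with h5 | h5
  · have : epsF C y = c₀ := by
      ext p
      by_cases hp : p ∈ O0
      · exact hCy p hp
      · by_cases hp5 : p = some 5
        · rw [hp5, h5]; unfold c₀; rw [if_pos rfl]
        · rw [hz0 p hp hp5]
          unfold c₀
          rw [if_neg hp5, if_neg (fun e : p = some 0 => hp (e ▸ zero_mem)), if_neg hp]
    rw [this] at h2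
    exact h2
  · have hcomp : O0ᶜ ∈ gC := gC_compl O0_mem.1
    have h3 := conn_eps hcomp h2.mem_right
    have : epsF O0ᶜ (epsF C y) = c₀ := by
      ext p
      by_cases hp : p ∈ O0
      · have : p ∉ O0ᶜ := fun h => (Finset.mem_compl.mp h) hp
        rw [← hCy p hp]
        show (if p ∈ O0ᶜ then _ else _) = _
        rw [if_neg this]
      · have hpc : p ∈ O0ᶜ := Finset.mem_compl.mpr hp
        show (if p ∈ O0ᶜ then -(epsF C y p) else _) = _
        rw [if_pos hpc]
        by_cases hp5 : p = some 5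
        · rw [hp5, h5]; unfold c₀; rw [if_pos rfl]; norm_num
        · rw [hz0 p hp hp5]
          unfold c₀
          rw [if_neg hp5, if_neg (fun e : p = some 0 => hp (e ▸ zero_mem)), if_neg hp]
          norm_num
    rw [this] at h3
    exact h2.trans h3

theorem shC_conn {x : GolayPt → ℤ} (hx : x ∈ leechLattice) (h : ShC x) : Conn x c₀ := by
  obtain ⟨O, hO, q, hqO, hq, h1, h0⟩ := h
  obtain ⟨σ, hσ, hσO, hσq⟩ := pair_trans O hO q hqO
  have hmem := smul_mem_iff hσO
  have h2 := conn_perm hσ hx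
  refine h2.trans (shC_normal h2.mem_right ?_ ?_ ?_)
  · show x (σ (some 5)) = 4 ∨ x (σ (some 5)) = -4
    rw [hσq]; exact hq
  · intro p hp
    exact h1 (σ p) ((hmem p).mpr hp)
  · intro p hp hp5
    apply h0 (σ p) (fun h => hp ((hmem p).mp h))
    intro e
    apply hp5
    rw [← hσq] at e
    exact σ.injective e

/-! ### Connecting the shapes -/

/-- twice a dodecad, mapped to shape B -/
def yA : GolayPt → ℤ := fun p => if (15130653 : ℕ).testBit (gIdx p) = true then 2 else 0

set_option maxRecDepth 100000 in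
theorem yA_chk : chk yA 0 401 0 3694 0 = true := by
  decide +kernel

theorem yA_mem : yA ∈ leechLattice := chk_sound yA_chk

theorem yA_shA : ShA yA := by
  have hD : support₂ (ofMask 15130653) ∈ dodecads := by
    have : (15130653 : ℕ) = cw 3694 := by decide +kernel
    rw [this]
    exact Cfsg.Agent.Lib.Helper1.M24.dodecad_of_idx (by norm_num) (by decide +kernel)
  refine ⟨_, hD, fun p hp => ?_, fun p hp => ?_⟩
  · left
    unfold yA
    rw [if_pos ((mem_support_ofMask _ _).mp hp)]
  · unfold yA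
    rw [if_neg (fun h => hp ((mem_support_ofMask _ _).mpr h))]

set_option maxRecDepth 100000 in
theorem xi_yA_vals : (xiF yA (some 1) = 3 ∨ xiF yA (some 1) = -3) ∧
    (xiF yA (some 5) = 3 ∨ xiF yA (some 5) = -3) ∧
    (xiF yA (some 16) = 3 ∨ xiF yA (some 16) = -3) ∧
    ∀ p : GolayPt, p ≠ some 1 → p ≠ some 5 → p ≠ some 16 → (xiF yA p = 1 ∨ xiF yA p = -1) := by
  decide +kernel

theorem xi_yA_shB : ShB (xiF yA) :=
  ⟨some 1, some 5, some 16, by decide, by decide, by decide, xi_yA_vals.1, xi_yA_vals.2.1,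
    xi_yA_vals.2.2.1, xi_yA_vals.2.2.2⟩

set_option maxRecDepth 100000 in
theorem b₀_chk : chk b₀ 1 0 4095 0 0 = true := by
  decide +kernel

theorem b₀_mem : b₀ ∈ leechLattice := chk_sound b₀_chk

set_option maxRecDepth 100000 in
theorem xi_b₀ : ∀ p : GolayPt, xiF b₀ p = d₀ p := by
  decide +kernel

theorem b₀_d₀ : Conn b₀ d₀ := by
  have h := conn_xi b₀_mem
  have : xiF b₀ = d₀ := funext xi_b₀
  rwa [this] at h

/-- a vector of shape C mapped to shape D -/
def yC : GolayPt → ℤ := fun p =>
  if p = some 2 then 4 else if p = some 0 then -2 else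
    if (9347075 : ℕ).testBit (gIdx p) = true then 2 else 0

set_option maxRecDepth 100000 in
theorem yC_chk : chk yC 0 1813 0 2282 0 = true := by
  decide +kernel

theorem yC_mem : yC ∈ leechLattice := chk_sound yC_chk

set_option maxRecDepth 100000 in
theorem yC_vals : (9347075 : ℕ).testBit (gIdx (some 2 : GolayPt)) = false ∧
    (yC (some 2) = 4 ∨ yC (some 2) = -4) ∧
    ∀ p : GolayPt, if (9347075 : ℕ).testBit (gIdx p) = true then (yC p = 2 ∨ yC p = -2)
      else (p ≠ some 2 → yC p = 0) := by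
  decide +kernel

theorem yC_shC : ShC yC := by
  have hO : support₂ (ofMask 9347075) ∈ octads :=
    octad_of_code (c := 2282) (by norm_num) (by decide)
  refine ⟨_, hO, some 2, ?_, yC_vals.2.1, fun p hp => ?_, fun p hp hp2 => ?_⟩
  · rw [mem_support_ofMask, yC_vals.1]
    simp
  · have := yC_vals.2.2 p
    rw [if_pos ((mem_support_ofMask _ _).mp hp)] at this
    exact this
  · have := yC_vals.2.2 p
    rw [if_neg (fun h => hp ((mem_support_ofMask _ _).mpr h))] at this
    exact this hp2

set_option maxRecDepth 100000 in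
theorem xi_yC_vals : (xiF yC (some 0) = 5 ∨ xiF yC (some 0) = -5) ∧
    ∀ p : GolayPt, p ≠ some 0 → (xiF yC p = 1 ∨ xiF yC p = -1) := by
  decide +kernel

theorem xi_yC_shD : ShD (xiF yC) := ⟨some 0, xi_yC_vals.1, xi_yC_vals.2⟩

theorem a₀_conn : Conn a₀ d₀ := by
  have h1 := shA_conn yA_mem yA_shA
  have h2 := conn_xi yA_mem
  have h3 := shB_conn h2.mem_right xi_yA_shB
  exact h1.symm.trans (h2.trans (h3.trans b₀_d₀))

theorem c₀_conn : Conn c₀ d₀ := by
  have h1 := shC_conn yC_mem yC_shC
  have h2 := conn_xi yC_mem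
  have h3 := shD_conn h2.mem_right xi_yC_shD
  exact h1.symm.trans (h2.trans h3)

/-- all vectors of the second layer are in one orbit -/
theorem norm48_conn {x : GolayPt → ℤ} (hx : x ∈ leechLattice) (hn : sqNorm x = 48) :
    Conn x d₀ := by
  rcases shape48 hx hn with h | h | h | h
  · exact (shA_conn hx h).trans a₀_conn
  · exact (shB_conn hx h).trans b₀_d₀
  · exact (shC_conn hx h).trans c₀_conn
  · exact shD_conn hx h

theorem trans48 (v w : leechLattice) (hv : sqNorm (v : GolayPt → ℤ) = 48)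
    (hw : sqNorm (w : GolayPt → ℤ) = 48) : ∃ g : Co0, g • v = w :=
  conn_iff_exists.mp ((norm48_conn v.2 hv).trans (norm48_conn w.2 hw).symm)

end Cfsg.Agent.Lib.Helper1.LeechConn
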