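import Mathlib
import Cfsg.Agent.Lib.Helper1.LeechEnum6
import Cfsg.Agent.Lib.Helper1.LeechTrans48c

set_option autoImplicit false

namespace Cfsg.Agent.Lib.Helper1.LeechEnum

open Cfsg Cfsg.Agent.Lib.Helper1.LeechCross Cfsg.Agent.Lib.Helper1.LeechAut
  Cfsg.Agent.Lib.Helper1.LeechConn

/-! ### The standard vectors in packed form -/

/-- `(1^23, 5)` -/
def pD0 : ℕ :=
  156922578963170127626453103033636256822227754892691714323872083226400832126020145757535322891541750762911085691137

/-- `(4, 0^22, 4)` -/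
def pU : ℕ :=
  156321342887845576177421607800552505943993532885055101114625904949079618701567605731420815128439821783879932444932

/-- `(-4, 0^22, 4)` -/
def pU' : ℕ :=
  156321342887845576177421607800552505943993532885055101114625904949079618701567605731420815128439821783879932444924

/-- `(0, 4, 0^21, 4)` -/
def pX1 : ℕ :=
  156321342887845576177421607800552505943993532885055101114625904949079618701567605731420815128439821783879932707072

/-- `4 e_∞ + 4 e_1` -/
def vecX1 : GolayPt → ℤ := fun p => if p = none ∨ p = some 1 then 4 else 0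

theorem vec_pD0 : vec pD0 = d₀ := by
  funext p; revert p; decide +kernel

theorem vec_pU : vec pU = Cfsg.Spor.vecU := by
  funext p; revert p; decide +kernel

theorem vec_pU' : vec pU' = Cfsg.Spor.vecU' := by
  funext p; revert p; decide +kernel

theorem vec_pX1 : vec pX1 = vecX1 := by
  funext p; revert p; decide +kernel

theorem d0_mem : d₀ ∈ leechLattice := b₀_d₀.mem_right

theorem d0_norm : sqNorm d₀ = 48 := by decide +kernel

theorem vecU_mem : Cfsg.Spor.vecU ∈ leechLattice := Cfsg.Spor.leechU.2

theorem vecU_norm : sqNorm Cfsg.Spor.vecU = 32 := by decide +kernel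

theorem vecU'_mem : Cfsg.Spor.vecU' ∈ leechLattice := Cfsg.Spor.leechU'.2

theorem vecU'_norm : sqNorm Cfsg.Spor.vecU' = 32 := by decide +kernel

theorem vecX1_norm : sqNorm vecX1 = 32 := by decide +kernel

theorem vecX1_mem : vecX1 ∈ leechLattice := by
  rw [mem_leechLattice_iff]
  exact Cfsg.Spor.mem_leechSet_of_const_mod_four vecX1 0 0 (by decide) (by decide) (by decide)

theorem good_pD0 : Good pD0 := by
  unfold Good; rw [vec_pD0]; exact ⟨d0_mem, by rw [d0_norm]; norm_num⟩

theorem good_pU : Good pU := by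
  unfold Good; rw [vec_pU]; exact ⟨vecU_mem, by rw [vecU_norm]; norm_num⟩

theorem good_pU' : Good pU' := by
  unfold Good; rw [vec_pU']; exact ⟨vecU'_mem, by rw [vecU'_norm]; norm_num⟩

theorem good_pX1 : Good pX1 := by
  unfold Good; rw [vec_pX1]; exact ⟨vecX1_mem, by rw [vecX1_norm]; norm_num⟩

/-! ### Inner products with the standard vectors -/

theorem range24 : List.range 24 =
    [0,1,2,3,4,5,6,7,8,9,10,11,12,13,14,15,16,17,18,19,20,21,22,23] := by decide

theorem dot_d0 (v : ℕ) : dotInt d₀ (vec v) =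
    ((List.range 24).map (fun k => (fld k v : ℤ))).sum + 4 * (fld 23 v : ℤ) - 7168 := by
  rw [dot_list]
  have h : ∀ i, i < 24 → d₀ (gUnidx i) = if i = 23 then 5 else 1 := by decide
  rw [range24]
  simp only [List.map_cons, List.map_nil, List.sum_cons, List.sum_nil]
  rw [h 0 (by norm_num), h 1 (by norm_num), h 2 (by norm_num), h 3 (by norm_num), h 4 (by norm_num),
    h 5 (by norm_num), h 6 (by norm_num), h 7 (by norm_num), h 8 (by norm_num), h 9 (by norm_num),
    h 10 (by norm_num), h 11 (by norm_num), h 12 (by norm_num), h 13 (by norm_num),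
    h 14 (by norm_num), h 15 (by norm_num), h 16 (by norm_num), h 17 (by norm_num),
    h 18 (by norm_num), h 19 (by norm_num), h 20 (by norm_num), h 21 (by norm_num),
    h 22 (by norm_num), h 23 (by norm_num)]
  norm_num
  ring

/-- inner product with a vector supported on two coordinates -/
theorem dot_two (y : GolayPt → ℤ) (a b : ℕ) (ca cb : ℤ) (hab : a ≠ b) (ha : a < 24) (hb : b < 24)
    (hy : ∀ i, i < 24 → y (gUnidx i) = if i = a then ca else if i = b then cb else 0) (v : ℕ) :
    dotInt y (vec v) = ca * ((fld a v : ℤ) - 256) + cb * ((fld b v : ℤ) - 256) := by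
  rw [dot_list]
  have h1 : (List.range 24).map (fun i => y (gUnidx i) * ((fld i v : ℤ) - 256)) =
      (List.range 24).map (fun i => (if i = a then ca * ((fld a v : ℤ) - 256) else 0) +
        (if i = b then cb * ((fld b v : ℤ) - 256) else 0)) := by
    apply List.map_congr_left
    intro i hi
    rw [hy i (List.mem_range.mp hi)]
    by_cases h1 : i = a
    · subst h1; simp [hab]
    · by_cases h2 : i = b
      · subst h2; simp [h1]
      · simp [h1, h2]
  rw [h1, List.sum_map_add]
  have hs : ∀ (c : ℕ) (t : ℤ), c < 24 →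
      ((List.range 24).map (fun i => if i = c then t else 0)).sum = t := by
    intro c t hc
    rw [List.sum_map_ite_eq]
    simp only [List.count_range, List.mem_range]
    simp
    intro h; omega
  rw [hs a _ ha, hs b _ hb]

theorem dot_vecU (v : ℕ) :
    dotInt Cfsg.Spor.vecU (vec v) = 4 * (fld 23 v : ℤ) + 4 * (fld 0 v : ℤ) - 2048 := by
  rw [dot_two Cfsg.Spor.vecU 23 0 4 4 (by norm_num) (by norm_num) (by norm_num) (by decide) v]
  ring

theorem dot_vecU' (v : ℕ) :
    dotInt Cfsg.Spor.vecU' (vec v) = 4 * (fld 23 v : ℤ) - 4 * (fld 0 v : ℤ) := by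
  rw [dot_two Cfsg.Spor.vecU' 23 0 4 (-4) (by norm_num) (by norm_num) (by norm_num) (by decide) v]
  ring

theorem dot_vecX1 (v : ℕ) :
    dotInt vecX1 (vec v) = 4 * (fld 23 v : ℤ) + 4 * (fld 1 v : ℤ) - 2048 := by
  rw [dot_two vecX1 23 1 4 4 (by norm_num) (by norm_num) (by norm_num) (by decide) v]
  ring

theorem dot_of_norms (x y : GolayPt → ℤ) :
    sqNorm (x - y) = sqNorm x + sqNorm y - 2 * dotInt x y := by
  unfold sqNorm dotInt
  rw [Finset.mul_sum, ← Finset.sum_add_distrib, ← Finset.sum_sub_distrib]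
  apply Finset.sum_congr rfl
  intro i _
  simp only [Pi.sub_apply]
  ring

theorem dotInt_comm' (x y : GolayPt → ℤ) : dotInt x y = dotInt y x := by
  unfold dotInt
  apply Finset.sum_congr rfl
  intro i _
  ring

/-- the sum of the fields in terms of `% 65535` -/
theorem sum_flds {v : ℕ} (hv : v < 65536 ^ 24) (hg : Good v) :
    ((List.range 24).map (fun k => (fld k v : ℤ))).sum = ((v % 65535 : ℕ) : ℤ) := by
  rw [fsum_eq hv (fun k hk => (hg.bounds' hk).2), sum_fld_cast]

theorem good_of {v : ℕ} {z : GolayPt → ℤ} (hvz : vec v = z) (hz : z ∈ leechLattice)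
    (hn : sqNorm z ≤ 64) : Good v := by
  unfold Good; rw [hvz]; exact ⟨hz, hn⟩

/-- transitivity of a stabiliser from reachability of a common target -/
theorem stab_trans {Ys : List (GolayPt → ℤ)} {t : GolayPt → ℤ} {C : (GolayPt → ℤ) → Prop}
    (hr : ∀ z, z ∈ leechLattice → C z → ReachG Ys z t)
    (h : Co0) (v v' : leechLattice) (hv : C ((h • v : leechLattice) : GolayPt → ℤ))
    (hv' : C ((h • v' : leechLattice) : GolayPt → ℤ)) :
    ∃ g : Co0, (∀ u : leechLattice, ((h • u : leechLattice) : GolayPt → ℤ) ∈ Ys → g • u = u) ∧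
      g • v = v' := by
  have r1 := hr _ (h • v).2 hv
  have r2 := hr _ (h • v').2 hv'
  obtain ⟨g, hgY, hg⟩ := r1.join r2
  refine ⟨h⁻¹ * g * h, fun u hu => ?_, ?_⟩
  · rw [mul_smul, mul_smul, hgY _ hu (h • u) rfl, inv_smul_smul]
  · rw [mul_smul, mul_smul, hg (h • v) (h • v') rfl rfl, inv_smul_smul]

theorem smul_norm (h : Co0) (w : leechLattice) :
    sqNorm ((h • w : leechLattice) : GolayPt → ℤ) = sqNorm (w : GolayPt → ℤ) := h.2.2 w

theorem smul_dot (h : Co0) (u w : leechLattice) :
    dotInt ((h • u : leechLattice) : GolayPt → ℤ) ((h • w : leechLattice) : GolayPt → ℤ) =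
      dotInt (u : GolayPt → ℤ) w := dot_preserved h.2 u w

end Cfsg.Agent.Lib.Helper1.LeechEnum
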