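import Mathlib

set_option autoImplicit false

namespace Cfsg.Agent.Lib.Helper1.LPoly

open Polynomial

/-- dense list polynomial -/
noncomputable def ofL : List ℤ → ℤ[X]
  | [] => 0
  | a :: l => C a + X * ofL l

theorem coeff_ofL (l : List ℤ) (k : ℕ) : (ofL l).coeff k = l.getD k 0 := by
  induction l generalizing k with
  | nil => simp [ofL]
  | cons a l ih =>
    cases k with
    | zero => simp [ofL]
    | succ k =>
      simp only [ofL, coeff_add, coeff_C_succ, coeff_X_mul, zero_add, ih, List.getD_cons_succ]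

/-- agreement of coefficients up to degree `N` -/
def EqUpTo (N : ℕ) (p q : ℤ[X]) : Prop := ∀ k ≤ N, p.coeff k = q.coeff k

theorem EqUpTo.refl (N : ℕ) (p : ℤ[X]) : EqUpTo N p p := fun _ _ => rfl

theorem EqUpTo.trans {N : ℕ} {p q r : ℤ[X]} (h1 : EqUpTo N p q) (h2 : EqUpTo N q r) :
    EqUpTo N p r := fun k hk => (h1 k hk).trans (h2 k hk)

theorem EqUpTo.add {N : ℕ} {p q p' q' : ℤ[X]} (h1 : EqUpTo N p p') (h2 : EqUpTo N q q') :
    EqUpTo N (p + q) (p' + q') := by
  intro k hk
  rw [coeff_add, coeff_add, h1 k hk, h2 k hk]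

theorem EqUpTo.mul {N : ℕ} {p q p' q' : ℤ[X]} (h1 : EqUpTo N p p') (h2 : EqUpTo N q q') :
    EqUpTo N (p * q) (p' * q') := by
  intro k hk
  rw [coeff_mul, coeff_mul]
  apply Finset.sum_congr rfl
  intro x hx
  have h3 := Finset.HasAntidiagonal.mem_antidiagonal.mp hx
  rw [h1 _ (by omega), h2 _ (by omega)]

theorem EqUpTo.pow {N : ℕ} {p p' : ℤ[X]} (h1 : EqUpTo N p p') (n : ℕ) :
    EqUpTo N (p ^ n) (p' ^ n) := by
  induction n with
  | zero => simp only [pow_zero]; exact EqUpTo.refl _ _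
  | succ n ih => rw [pow_succ, pow_succ]; exact ih.mul h1

/-- addition of list polynomials -/
def addL : List ℤ → List ℤ → List ℤ
  | [], b => b
  | a, [] => a
  | x :: a, y :: b => (x + y) :: addL a b

theorem ofL_addL (a b : List ℤ) : ofL (addL a b) = ofL a + ofL b := by
  induction a generalizing b with
  | nil => simp [addL, ofL]
  | cons x a ih =>
    cases b with
    | nil => simp [addL, ofL]
    | cons y b =>
      simp only [addL, ofL, ih, C_add]
      ring

def scaleL (c : ℤ) (a : List ℤ) : List ℤ := a.map (c * ·)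

theorem ofL_scaleL (c : ℤ) (a : List ℤ) : ofL (scaleL c a) = C c * ofL a := by
  induction a with
  | nil => simp [scaleL, ofL]
  | cons x a ih =>
    simp only [scaleL, List.map_cons, ofL, C_mul] at ih ⊢
    rw [ih]; ring

def shiftL (e : ℕ) (a : List ℤ) : List ℤ := List.replicate e 0 ++ a

theorem ofL_shiftL (e : ℕ) (a : List ℤ) : ofL (shiftL e a) = X ^ e * ofL a := by
  induction e with
  | zero => simp [shiftL]
  | succ e ih =>
    simp only [shiftL, List.replicate_succ, List.cons_append, ofL, C_0, zero_add] at ih ⊢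
    rw [ih]; ring

theorem eqUpTo_take (N : ℕ) (l : List ℤ) : EqUpTo N (ofL (l.take (N + 1))) (ofL l) := by
  intro k hk
  rw [coeff_ofL, coeff_ofL, List.getD_eq_getElem?_getD, List.getD_eq_getElem?_getD,
    List.getElem?_take, if_pos (by omega)]

/-- sparse polynomial: list of (coefficient, exponent) -/
noncomputable def ofS (s : List (ℤ × ℕ)) : ℤ[X] := (s.map fun p => C p.1 * X ^ p.2).sum

theorem ofS_nil : ofS [] = 0 := by simp [ofS]

theorem ofS_cons (p : ℤ × ℕ) (s : List (ℤ × ℕ)) : ofS (p :: s) = C p.1 * X ^ p.2 + ofS s := by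
  simp [ofS]

/-- truncated product of a dense polynomial by a sparse one -/
def mulS (N : ℕ) (a : List ℤ) (s : List (ℤ × ℕ)) : List ℤ :=
  s.foldr (fun p acc => addL ((scaleL p.1 (shiftL p.2 a)).take (N + 1)) acc) []

theorem mulS_spec (N : ℕ) (a : List ℤ) (s : List (ℤ × ℕ)) :
    EqUpTo N (ofL (mulS N a s)) (ofL a * ofS s) := by
  induction s with
  | nil => simp only [mulS, List.foldr_nil, ofL, ofS_nil, mul_zero]; exact EqUpTo.refl _ _
  | cons p s ih =>
    have e : mulS N a (p :: s) = addL ((scaleL p.1 (shiftL p.2 a)).take (N + 1)) (mulS N a s) := rfl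
    rw [e, ofL_addL, ofS_cons, mul_add]
    apply EqUpTo.add _ ih
    refine (eqUpTo_take N _).trans ?_
    rw [ofL_scaleL, ofL_shiftL]
    intro k _
    congr 1
    ring

/-- multiply `k` times by the sparse polynomial `s` -/
def powS (N : ℕ) (s : List (ℤ × ℕ)) : ℕ → List ℤ → List ℤ
  | 0, a => a
  | k + 1, a => powS N s k (mulS N a s)

theorem powS_spec (N : ℕ) (s : List (ℤ × ℕ)) (k : ℕ) (a : List ℤ) (p : ℤ[X])
    (h : EqUpTo N (ofL a) p) : EqUpTo N (ofL (powS N s k a)) (p * ofS s ^ k) := by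
  induction k generalizing a p with
  | zero => simpa [powS] using h
  | succ k ih =>
    have h1 := ih (mulS N a s) (p * ofS s) ((mulS_spec N a s).trans (h.mul (EqUpTo.refl _ _)))
    simp only [powS]
    rw [pow_succ']
    rw [← mul_assoc]
    exact h1

/-- coefficient `N` of `s ^ a * t ^ b` -/
def coefPow (N : ℕ) (s : List (ℤ × ℕ)) (a : ℕ) (t : List (ℤ × ℕ)) (b : ℕ) : ℤ :=
  (powS N t b (powS N s a [1])).getD N 0

theorem ofL_one : ofL [1] = 1 := by simp [ofL]

theorem coefPow_spec (N : ℕ) (s : List (ℤ × ℕ)) (a : ℕ) (t : List (ℤ × ℕ)) (b : ℕ) :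
    (ofS s ^ a * ofS t ^ b).coeff N = coefPow N s a t b := by
  have h1 := powS_spec N s a [1] 1 (by rw [ofL_one]; exact EqUpTo.refl _ _)
  have h2 := powS_spec N t b _ _ h1
  rw [one_mul] at h2
  rw [coefPow, ← coeff_ofL]
  exact (h2 N le_rfl).symm

end Cfsg.Agent.Lib.Helper1.LPoly
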