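import Mathlib
import Cfsg.Agent.Lib.Helper1.Leech3
import Cfsg.Agent.Lib.Helper1.LPoly

set_option autoImplicit false

namespace Cfsg.Agent.Lib.Helper1.LeechGF

open Polynomial Cfsg

/-- generic product expansion -/
theorem prod_sum_expand {ι : Type*} [Fintype ι] [DecidableEq ι] (A : ι → Finset ℤ) (s : ℤ → ℤ)
    (wt : ℤ → ℕ) :
    ∏ i, ∑ v ∈ A i, C (s v) * X ^ (wt v) =
      ∑ x ∈ Fintype.piFinset A, (C (∏ i, s (x i)) * X ^ (∑ i, wt (x i)) : ℤ[X]) := by
  rw [Finset.prod_univ_sum]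
  apply Finset.sum_congr rfl
  intro x _
  rw [Finset.prod_mul_distrib, Finset.prod_pow_eq_pow_sum, map_prod]

theorem coeff_prod_sum {ι : Type*} [Fintype ι] [DecidableEq ι] (A : ι → Finset ℤ) (s : ℤ → ℤ)
    (wt : ℤ → ℕ) (N : ℕ) :
    (∏ i, ∑ v ∈ A i, C (s v) * X ^ (wt v) : ℤ[X]).coeff N =
      ∑ x ∈ (Fintype.piFinset A).filter (fun x => ∑ i, wt (x i) = N), ∏ i, s (x i) := by
  rw [prod_sum_expand, finsetSum_coeff, Finset.sum_filter]
  apply Finset.sum_congr rfl
  intro x _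
  rw [coeff_C_mul, coeff_X_pow]
  by_cases h : ∑ i, wt (x i) = N
  · rw [if_pos h, if_pos h.symm, mul_one]
  · rw [if_neg h, if_neg (fun e => h e.symm), mul_zero]

/-- weight of a coordinate value: its square -/
def wt (v : ℤ) : ℕ := v.natAbs ^ 2

theorem wt_cast (v : ℤ) : ((wt v : ℕ) : ℤ) = v ^ 2 := by
  unfold wt
  push_cast
  exact sq_abs v

theorem sum_wt_cast {ι : Type*} [Fintype ι] (x : ι → ℤ) :
    ((∑ i, wt (x i) : ℕ) : ℤ) = sqNorm x := by
  unfold sqNorm
  push_cast
  apply Finset.sum_congr rfl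
  intro i _
  exact wt_cast _

theorem sum_wt_eq_iff {ι : Type*} [Fintype ι] (x : ι → ℤ) (N : ℕ) :
    ∑ i, wt (x i) = N ↔ sqNorm x = N := by
  rw [← sum_wt_cast]
  exact Nat.cast_inj.symm

/-- sign attached to a coordinate value -/
def sg (v : ℤ) : ℤ := if v % 8 < 4 then 1 else -1

/-- the third binary digit of a coordinate value -/
def hiN (v : ℤ) : ℕ := if v % 8 < 4 then 0 else 1

theorem sg_eq (v : ℤ) : sg v = (-1) ^ hiN v := by
  unfold sg hiN
  split_ifs <;> simp

theorem decomp (v : ℤ) : v = v % 4 + 4 * (hiN v : ℤ) + 8 * (v / 8) := by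
  unfold hiN
  split_ifs with h <;> push_cast <;> omega

theorem prod_sg {ι : Type*} [Fintype ι] (x : ι → ℤ) :
    ∏ i, sg (x i) = (-1) ^ (∑ i, hiN (x i)) := by
  rw [← Finset.prod_pow_eq_pow_sum]
  apply Finset.prod_congr rfl
  intro i _
  exact sg_eq _

theorem sum_decomp {ι : Type*} [Fintype ι] (x : ι → ℤ) :
    ∑ i, x i = ∑ i, x i % 4 + 4 * ((∑ i, hiN (x i) : ℕ) : ℤ) + 8 * ∑ i, x i / 8 := by
  push_cast
  rw [Finset.mul_sum, Finset.mul_sum, ← Finset.sum_add_distrib, ← Finset.sum_add_distrib]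
  apply Finset.sum_congr rfl
  intro i _
  exact decomp _

/-- the residue modulo 4 prescribed at coordinate `i` -/
def res (m : ℤ) (c : Finset GolayPt) (i : GolayPt) : ℤ := if i ∈ c then m + 2 else m

theorem sum_res (m : ℤ) (c : Finset GolayPt) : ∑ i, res m c i = 24 * m + 2 * (c.card : ℤ) := by
  unfold res
  rw [sum_ite_const]
  ring

/-- allowed values at coordinate `i` -/
noncomputable def box (Al : Finset ℤ) (m : ℤ) (c : Finset GolayPt) (i : GolayPt) : Finset ℤ :=
  Al.filter (fun v => v % 4 = res m c i)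

noncomputable def PP (Al : Finset ℤ) (r : ℤ) : ℤ[X] :=
  ∑ v ∈ Al.filter (fun v => v % 4 = r), C ((fun _ => (1 : ℤ)) v) * X ^ wt v

noncomputable def QQ (Al : Finset ℤ) (r : ℤ) : ℤ[X] :=
  ∑ v ∈ Al.filter (fun v => v % 4 = r), C (sg v) * X ^ wt v

/-- the vectors with prescribed residues, given norm, and the sum condition -/
noncomputable def piece (Al : Finset ℤ) (N : ℕ) (m : ℤ) (c : Finset GolayPt) :
    Finset (GolayPt → ℤ) :=
  (Fintype.piFinset (box Al m c)).filter
    (fun x => ∑ i, wt (x i) = N ∧ (∑ i, x i) % 8 = 4 * m)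

theorem mem_box_pi (Al : Finset ℤ) (m : ℤ) (c : Finset GolayPt) (x : GolayPt → ℤ) :
    x ∈ Fintype.piFinset (box Al m c) ↔ ∀ i, x i ∈ Al ∧ x i % 4 = res m c i := by
  simp [Fintype.mem_piFinset, box]

theorem sum_cond (Al : Finset ℤ) (m : ℤ) (hm : m = 0 ∨ m = 1) (c : Finset GolayPt)
    (hc : 4 ∣ c.card) (x : GolayPt → ℤ) (hx : x ∈ Fintype.piFinset (box Al m c)) :
    ((∑ i, x i) % 8 = 4 * m ↔ ((∑ i, hiN (x i) : ℕ) : ℤ) % 2 = m) := by
  rw [mem_box_pi] at hx
  have h1 : ∑ i, x i % 4 = 24 * m + 2 * (c.card : ℤ) := by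
    rw [← sum_res]
    apply Finset.sum_congr rfl
    intro i _
    exact (hx i).2
  rw [sum_decomp, h1]
  obtain ⟨k, hk⟩ := hc
  rw [hk]
  push_cast
  generalize (∑ i, (hiN (x i) : ℤ)) = T
  generalize (∑ i, x i / 8) = U
  rcases hm with rfl | rfl <;> omega

theorem piece_count (Al : Finset ℤ) (N : ℕ) (m : ℤ) (hm : m = 0 ∨ m = 1) (c : Finset GolayPt)
    (hc : 4 ∣ c.card) :
    2 * ((piece Al N m c).card : ℤ) =
      (∏ i, PP Al (res m c i)).coeff N + (1 - 2 * m) * (∏ i, QQ Al (res m c i)).coeff N := by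
  have hP : (∏ i, PP Al (res m c i)).coeff N =
      ∑ x ∈ (Fintype.piFinset (box Al m c)).filter (fun x => ∑ i, wt (x i) = N), 1 := by
    unfold PP
    have := coeff_prod_sum (box Al m c) (fun _ => (1 : ℤ)) wt N
    simp only [box] at this ⊢
    rw [this]
    apply Finset.sum_congr rfl
    intro x _
    simp
  have hQ : (∏ i, QQ Al (res m c i)).coeff N =
      ∑ x ∈ (Fintype.piFinset (box Al m c)).filter (fun x => ∑ i, wt (x i) = N),
        ∏ i, sg (x i) := by
    unfold QQ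
    have := coeff_prod_sum (box Al m c) sg wt N
    simp only [box] at this ⊢
    rw [this]
  rw [hP, hQ, Finset.mul_sum, ← Finset.sum_add_distrib]
  have hpiece : piece Al N m c =
      ((Fintype.piFinset (box Al m c)).filter (fun x => ∑ i, wt (x i) = N)).filter
        (fun x => (∑ i, x i) % 8 = 4 * m) := by
    unfold piece
    rw [Finset.filter_filter]
  rw [hpiece, Finset.card_filter]
  push_cast
  rw [Finset.mul_sum]
  apply Finset.sum_congr rfl
  intro x hx
  rw [Finset.mem_filter] at hx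
  have h1 := sum_cond Al m hm c hc x hx.1
  rw [prod_sg]
  by_cases h2 : (∑ i, x i) % 8 = 4 * m
  · rw [if_pos h2]
    have h3 := h1.mp h2
    rcases hm with rfl | rfl
    · have : Even (∑ i, hiN (x i)) := by
        rw [Nat.even_iff]; omega
      rw [this.neg_one_pow]; norm_num
    · have : Odd (∑ i, hiN (x i)) := by
        rw [Nat.odd_iff]; omega
      rw [this.neg_one_pow]; norm_num
  · rw [if_neg h2]
    have h3 : ¬ ((∑ i, hiN (x i) : ℕ) : ℤ) % 2 = m := fun e => h2 (h1.mpr e)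
    rcases hm with rfl | rfl
    · have : Odd (∑ i, hiN (x i)) := by
        rw [Nat.odd_iff]; omega
      rw [this.neg_one_pow]; norm_num
    · have : Even (∑ i, hiN (x i)) := by
        rw [Nat.even_iff]; omega
      rw [this.neg_one_pow]; norm_num

theorem prod_res (f : ℤ → ℤ[X]) (m : ℤ) (c : Finset GolayPt) :
    ∏ i, f (res m c i) = f (m + 2) ^ c.card * f m ^ (24 - c.card) := by
  unfold res
  have : ∀ i : GolayPt, f (if i ∈ c then m + 2 else m) = if i ∈ c then f (m + 2) else f m := by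
    intro i; split_ifs <;> rfl
  simp only [this]
  rw [Finset.prod_ite, Finset.prod_const, Finset.prod_const]
  congr 2
  · rw [Finset.filter_mem_eq_inter, Finset.univ_inter]
  · rw [Finset.filter_not, Finset.filter_mem_eq_inter, Finset.univ_inter, Finset.card_sdiff_of_subset
      (Finset.subset_univ c), Finset.card_univ, card_golayPt]

end Cfsg.Agent.Lib.Helper1.LeechGF
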