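import Mathlib
import Cfsg.Agent.Lib.Helper1.LeechGF1

set_option autoImplicit false

namespace Cfsg.Agent.Lib.Helper1.LeechGF

open Polynomial Cfsg

open Classical in
/-- the code supports as a finset -/
noncomputable def gCfin : Finset (Finset GolayPt) := Finset.univ.filter (fun c => c ∈ gC)

theorem mem_gCfin (c : Finset GolayPt) : c ∈ gCfin ↔ c ∈ gC := by
  unfold gCfin
  simp

open Classical in
/-- lattice vectors with coordinates in `Al` and norm `N` -/
noncomputable def SN (Al : Finset ℤ) (N : ℕ) : Finset (GolayPt → ℤ) :=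
  (Fintype.piFinset (fun _ : GolayPt => Al)).filter
    (fun x => x ∈ leechSet ∧ ∑ i, wt (x i) = N)

theorem mem_SN (Al : Finset ℤ) (N : ℕ) (x : GolayPt → ℤ) :
    x ∈ SN Al N ↔ (∀ i, x i ∈ Al) ∧ x ∈ leechSet ∧ ∑ i, wt (x i) = N := by
  unfold SN
  simp [Fintype.mem_piFinset]

/-- a fixed coordinate -/
def i₀ : GolayPt := none

/-- classification of a lattice vector by parity and the second level set -/
noncomputable def cls (x : GolayPt → ℤ) : ℤ × Finset GolayPt :=
  (x i₀ % 2, lvl x (x i₀ % 2 + 2))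

theorem mem_piece (Al : Finset ℤ) (N : ℕ) (m : ℤ) (c : Finset GolayPt) (x : GolayPt → ℤ) :
    x ∈ piece Al N m c ↔ (∀ i, x i ∈ Al ∧ x i % 4 = res m c i) ∧ ∑ i, wt (x i) = N ∧
      (∑ i, x i) % 8 = 4 * m := by
  unfold piece
  rw [Finset.mem_filter, mem_box_pi]

theorem leech_cls {x : GolayPt → ℤ} (hx : x ∈ leechSet) :
    (x i₀ % 2 = 0 ∨ x i₀ % 2 = 1) ∧ lvl x (x i₀ % 2 + 2) ∈ gC ∧
      (∀ i, x i % 4 = res (x i₀ % 2) (lvl x (x i₀ % 2 + 2)) i) ∧
      (∑ i, x i) % 8 = 4 * (x i₀ % 2) := by
  obtain ⟨m, h1, h2, h3⟩ := hx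
  simp only [Int.ModEq] at h1 h2
  have hm : x i₀ % 2 = m % 2 := h1 i₀
  refine ⟨by omega, h3 _, ?_, ?_⟩
  · intro i
    unfold res
    have hi := h1 i
    by_cases h : i ∈ lvl x (x i₀ % 2 + 2)
    · rw [if_pos h]
      rw [mem_lvl_iff] at h
      omega
    · rw [if_neg h]
      rw [mem_lvl_iff] at h
      omega
  · omega

theorem piece_leech (Al : Finset ℤ) (N : ℕ) (m : ℤ) (hm : m = 0 ∨ m = 1) (c : Finset GolayPt)
    (hc : c ∈ gC) {x : GolayPt → ℤ} (hx : x ∈ piece Al N m c) :
    x ∈ leechSet ∧ cls x = (m, c) := by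
  rw [mem_piece] at hx
  obtain ⟨h1, h2, h3⟩ := hx
  have hres : ∀ i, x i % 4 = if i ∈ c then m + 2 else m := fun i => (h1 i).2
  have hpar : ∀ i, x i % 2 = m := by
    intro i
    have := hres i
    split_ifs at this <;> rcases hm with rfl | rfl <;> omega
  have hlvl : lvl x (m + 2) = c := by
    ext i
    rw [mem_lvl_iff]
    have := hres i
    split_ifs at this with h
    · simp only [h, iff_true]
      rcases hm with rfl | rfl <;> omega
    · simp only [h, iff_false]
      rcases hm with rfl | rfl <;> omega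
  constructor
  · refine ⟨m, ?_, ?_, ?_⟩
    · intro i
      have := hpar i
      simp only [Int.ModEq]
      rcases hm with rfl | rfl <;> omega
    · simp only [Int.ModEq]
      rcases hm with rfl | rfl <;> omega
    · intro k
      show lvl x k ∈ gC
      have hk : k % 4 = 0 ∨ k % 4 = 1 ∨ k % 4 = 2 ∨ k % 4 = 3 := by omega
      by_cases hk1 : k % 4 = m + 2
      · have : lvl x k = c := by
          ext i
          rw [mem_lvl_iff]
          have := hres i
          split_ifs at this with h
          · simp only [h, iff_true]; omega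
          · simp only [h, iff_false]; rcases hm with rfl | rfl <;> omega
        rw [this]; exact hc
      · by_cases hk2 : k % 4 = m
        · have : lvl x k = cᶜ := by
            ext i
            rw [mem_lvl_iff, Finset.mem_compl]
            have := hres i
            split_ifs at this with h
            · simp only [h, not_true_eq_false, iff_false]; rcases hm with rfl | rfl <;> omega
            · simp only [h, not_false_eq_true, iff_true]; omega
          rw [this]; exact gC_compl hc
        · have : lvl x k = ∅ := by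
            ext i
            rw [mem_lvl_iff]
            have := hres i
            simp only [Finset.notMem_empty, iff_false]
            split_ifs at this with h <;> rcases hm with rfl | rfl <;> omega
          rw [this]; exact gC_empty
  · unfold cls
    rw [hpar i₀, hlvl]

theorem SN_fiber (Al : Finset ℤ) (N : ℕ) (m : ℤ) (hm : m = 0 ∨ m = 1) (c : Finset GolayPt)
    (hc : c ∈ gC) : (SN Al N).filter (fun x => cls x = (m, c)) = piece Al N m c := by
  ext x
  rw [Finset.mem_filter, mem_SN]
  constructor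
  · rintro ⟨⟨h1, h2, h3⟩, h4⟩
    obtain ⟨_, _, h7, h8⟩ := leech_cls h2
    unfold cls at h4
    rw [Prod.mk.injEq] at h4
    obtain ⟨h4a, h4b⟩ := h4
    rw [h4a] at h4b h7 h8
    rw [h4b] at h7
    rw [mem_piece]
    exact ⟨fun i => ⟨h1 i, h7 i⟩, h3, h8⟩
  · intro hx
    obtain ⟨h1, h2⟩ := piece_leech Al N m hm c hc hx
    rw [mem_piece] at hx
    exact ⟨⟨fun i => (hx.1 i).1, h1, hx.2.1⟩, h2⟩

theorem card_SN (Al : Finset ℤ) (N : ℕ) :
    (SN Al N).card = ∑ c ∈ gCfin, ((piece Al N 0 c).card + (piece Al N 1 c).card) := by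
  have h1 : ∀ x ∈ SN Al N, cls x ∈ ({0, 1} : Finset ℤ) ×ˢ gCfin := by
    intro x hx
    rw [mem_SN] at hx
    obtain ⟨h5, h6, _, _⟩ := leech_cls hx.2.1
    unfold cls
    rw [Finset.mem_product, mem_gCfin]
    refine ⟨?_, h6⟩
    simp only [Finset.mem_insert, Finset.mem_singleton]
    exact h5
  rw [Finset.card_eq_sum_card_fiberwise h1, Finset.sum_product, Finset.sum_comm]
  apply Finset.sum_congr rfl
  intro c hc
  rw [mem_gCfin] at hc
  rw [Finset.sum_pair (by norm_num)]
  rw [SN_fiber Al N 0 (Or.inl rfl) c hc, SN_fiber Al N 1 (Or.inr rfl) c hc]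

/-- the generating-function value attached to a codeword weight -/
noncomputable def GG (Al : Finset ℤ) (N : ℕ) (w : ℕ) : ℤ :=
  ((PP Al 2 ^ w * PP Al 0 ^ (24 - w)).coeff N + (QQ Al 2 ^ w * QQ Al 0 ^ (24 - w)).coeff N) +
  ((PP Al 3 ^ w * PP Al 1 ^ (24 - w)).coeff N - (QQ Al 3 ^ w * QQ Al 1 ^ (24 - w)).coeff N)

theorem two_mul_card_SN (Al : Finset ℤ) (N : ℕ) :
    2 * ((SN Al N).card : ℤ) = ∑ c ∈ gCfin, GG Al N c.card := by
  rw [card_SN]
  push_cast
  rw [Finset.mul_sum]
  apply Finset.sum_congr rfl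
  intro c hc
  rw [mem_gCfin] at hc
  have h4 := gC_card_dvd hc
  rw [mul_add, piece_count Al N 0 (Or.inl rfl) c h4, piece_count Al N 1 (Or.inr rfl) c h4]
  rw [prod_res (PP Al), prod_res (QQ Al), prod_res (PP Al), prod_res (QQ Al)]
  unfold GG
  norm_num
  ring

end Cfsg.Agent.Lib.Helper1.LeechGF
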