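import Mathlib
import Cfsg.Agent.Lib.Helper1.LeechGF2
import Cfsg.Agent.Lib.Helper1.Golay3

set_option autoImplicit false

namespace Cfsg.Agent.Lib.Helper1.LeechGF

open Polynomial Cfsg LPoly

theorem count0 : countBelow (fun c => popcN 24 (cw c) == 0) 4096 = 1 := by
  decide +kernel

theorem count16 : countBelow (fun c => popcN 24 (cw c) == 16) 4096 = 759 := by
  decide +kernel

theorem count24 : countBelow (fun c => popcN 24 (cw c) == 24) 4096 = 1 := by
  decide +kernel

theorem card_gCfin_weight (w : ℕ) :
    (gCfin.filter (fun c => c.card = w)).card =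
      countBelow (fun c => popcN 24 (cw c) == w) 4096 := by
  rw [← ncard_wordsOfWeight, ← Set.ncard_coe_finset]
  congr 1
  ext c
  simp only [Finset.coe_filter, mem_gCfin, Set.mem_ofPred_eq, wordsOfWeight]

theorem sum_gCfin (G : ℕ → ℤ) :
    ∑ c ∈ gCfin, G c.card = G 0 + 759 * G 8 + 2576 * G 12 + 759 * G 16 + G 24 := by
  have h1 : ∀ c ∈ gCfin, c.card ∈ ({0, 8, 12, 16, 24} : Finset ℕ) := by
    intro c hc
    rw [mem_gCfin] at hc
    have := gC_card_cases hc
    simp only [Finset.mem_insert, Finset.mem_singleton]
    exact this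
  rw [← Finset.sum_fiberwise_of_maps_to h1]
  have h2 : ∀ w : ℕ, ∑ c ∈ gCfin.filter (fun c => c.card = w), G c.card =
      (countBelow (fun c => popcN 24 (cw c) == w) 4096 : ℤ) * G w := by
    intro w
    rw [← card_gCfin_weight, ← nsmul_eq_mul, ← Finset.sum_const]
    apply Finset.sum_congr rfl
    intro c hc
    rw [Finset.mem_filter] at hc
    rw [hc.2]
  simp only [h2]
  rw [Finset.sum_insert (by decide), Finset.sum_insert (by decide), Finset.sum_insert (by decide),
    Finset.sum_insert (by decide), Finset.sum_singleton, count0, count8, count12, count16, count24]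
  push_cast
  ring

end Cfsg.Agent.Lib.Helper1.LeechGF
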