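import Mathlib
import Cfsg.Agent.Lib.Helper1.LeechGF3

set_option autoImplicit false

namespace Cfsg.Agent.Lib.Helper1.LeechGF

open Polynomial Cfsg LPoly

/-- sparse list for `PP` -/
def spP (l : List ℤ) (r : ℤ) : List (ℤ × ℕ) :=
  (l.filter (fun v => v % 4 = r)).map (fun v => ((1 : ℤ), wt v))

/-- sparse list for `QQ` -/
def spQ (l : List ℤ) (r : ℤ) : List (ℤ × ℕ) :=
  (l.filter (fun v => v % 4 = r)).map (fun v => (sg v, wt v))

theorem toFinset_filter' (l : List ℤ) (r : ℤ) :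
    l.toFinset.filter (fun v => v % 4 = r) = (l.filter (fun v => v % 4 = r)).toFinset := by
  ext v
  simp

theorem PP_eq (l : List ℤ) (hl : l.Nodup) (r : ℤ) : PP l.toFinset r = ofS (spP l r) := by
  unfold PP ofS spP
  rw [toFinset_filter', List.sum_toFinset _ (hl.filter _), List.map_map]
  rfl

theorem QQ_eq (l : List ℤ) (hl : l.Nodup) (r : ℤ) : QQ l.toFinset r = ofS (spQ l r) := by
  unfold QQ ofS spQ
  rw [toFinset_filter', List.sum_toFinset _ (hl.filter _), List.map_map]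
  rfl

/-- computable version of `GG` -/
def GGc (l : List ℤ) (N : ℕ) (w : ℕ) : ℤ :=
  (coefPow N (spP l 2) w (spP l 0) (24 - w) + coefPow N (spQ l 2) w (spQ l 0) (24 - w)) +
  (coefPow N (spP l 3) w (spP l 1) (24 - w) - coefPow N (spQ l 3) w (spQ l 1) (24 - w))

theorem GG_eq (l : List ℤ) (hl : l.Nodup) (N w : ℕ) : GG l.toFinset N w = GGc l N w := by
  unfold GG GGc
  simp only [PP_eq l hl, QQ_eq l hl, coefPow_spec]

/-- the computable total -/
def total (l : List ℤ) (N : ℕ) : ℤ :=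
  GGc l N 0 + 759 * GGc l N 8 + 2576 * GGc l N 12 + 759 * GGc l N 16 + GGc l N 24

theorem two_mul_card_eq (l : List ℤ) (hl : l.Nodup) (N : ℕ) :
    2 * ((SN l.toFinset N).card : ℤ) = total l N := by
  rw [two_mul_card_SN, sum_gCfin (GG l.toFinset N)]
  simp only [GG_eq l hl]
  rfl

theorem card_SN_eq (l : List ℤ) (hl : l.Nodup) (N : ℕ) (K : ℕ) (h : total l N = 2 * (K : ℤ)) :
    (SN l.toFinset N).card = K := by
  have := two_mul_card_eq l hl N
  rw [h] at this
  exact_mod_cast mul_left_cancel₀ (by norm_num : (2 : ℤ) ≠ 0) this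

/-- the list of values from -8 to 8 -/
def fullL : List ℤ := [-8, -7, -6, -5, -4, -3, -2, -1, 0, 1, 2, 3, 4, 5, 6, 7, 8]

theorem fullL_nodup : fullL.Nodup := by decide

theorem mem_fullL (v : ℤ) : v ∈ fullL ↔ -8 ≤ v ∧ v ≤ 8 := by
  unfold fullL
  simp only [List.mem_cons, List.not_mem_nil, or_false]
  omega

theorem coord_bound {x : GolayPt → ℤ} {N : ℕ} (h : sqNorm x = N) (hN : N ≤ 64) (i : GolayPt) :
    -8 ≤ x i ∧ x i ≤ 8 := by
  have h1 : x i ^ 2 ≤ sqNorm x := by
    unfold sqNorm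
    exact Finset.single_le_sum (f := fun i => x i ^ 2) (fun j _ => sq_nonneg (x j))
      (Finset.mem_univ i)
  have h2 : x i ^ 2 ≤ 64 := by
    rw [h] at h1
    have : (N : ℤ) ≤ 64 := by exact_mod_cast hN
    omega
  constructor <;> nlinarith

/-- the lattice vectors of a given norm at most 64, with a side condition, as a finset -/
theorem ncard_eq_card_SN (N : ℕ) (hN : N ≤ 64) :
    {x : GolayPt → ℤ | x ∈ leechLattice ∧ sqNorm x = N}.ncard = (SN fullL.toFinset N).card := by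
  have hset : {x : GolayPt → ℤ | x ∈ leechLattice ∧ sqNorm x = N} =
      ((SN fullL.toFinset N : Finset (GolayPt → ℤ)) : Set (GolayPt → ℤ)) := by
    ext x
    rw [Finset.mem_coe, mem_SN]
    show (x ∈ leechLattice ∧ sqNorm x = N) ↔ _
    constructor
    · rintro ⟨h1, h2⟩
      refine ⟨fun i => ?_, (mem_leechLattice_iff x).mp h1, (sum_wt_eq_iff x N).mpr h2⟩
      rw [List.mem_toFinset, mem_fullL]
      exact coord_bound h2 hN i
    · rintro ⟨_, h1, h2⟩
      exact ⟨(mem_leechLattice_iff x).mpr h1, (sum_wt_eq_iff x N).mp h2⟩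
  rw [hset, Set.ncard_coe_finset]

end Cfsg.Agent.Lib.Helper1.LeechGF
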