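import Mathlib
import Cfsg.Agent.Lib.Helper1.LeechEnum6
import Cfsg.Agent.S0394

set_option autoImplicit false

namespace Cfsg.Agent.Lib.Helper1.LeechEnum

open Cfsg Cfsg.Agent.Lib.Helper1.LeechCross Cfsg.Agent.Lib.Helper1.LeechShape

/-! ### The list of all candidates -/

def listA : List ℕ :=
  (List.range 24).flatMap fun i => (List.range 24).flatMap fun j =>
    if i < j then (List.range 4).map (candA i j) else []

def listC (C : ℕ) : List ℕ := (List.range 24).map (candC (dC C) C)

/-- the leaves of the sign tree -/
def leaves : List ℕ → ℕ → Bool → List (ℕ × Bool)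
  | [], D, par => [(D, par)]
  | p :: ps, D, par => leaves ps D par ++ leaves ps (D - 4 * 65536 ^ p) (!par)

def fixQ (q0 : ℕ) (x : ℕ × Bool) : ℕ := cond x.2 (x.1 - 4 * 65536 ^ q0) x.1

def listB (C : ℕ) : List ℕ :=
  match bitPos C with
  | [] => []
  | q0 :: rest => (leaves rest (dB C) false).map (fixQ q0)

def listChunk (c : ℕ) : List ℕ :=
  listC (cw c) ++ (if isOct (cw c) = true then listB (cw c) else [])

def allCands : List ℕ := listA ++ (List.range 4096).flatMap listChunk

theorem leaves_length (ps : List ℕ) : ∀ D par, (leaves ps D par).length = 2 ^ ps.length := by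
  induction ps with
  | nil => intro D par; rfl
  | cons p ps ih =>
    intro D par
    rw [leaves, List.length_append, ih, ih, List.length_cons, pow_succ]
    ring

theorem leaves_mem (ps : List ℕ) : ∀ (D : ℕ) (par : Bool) (S : List Bool), S.length = ps.length →
    (D - 4 * wsum ps S, xor par (parL S)) ∈ leaves ps D par := by
  induction ps with
  | nil =>
    intro D par S hS
    have : S = [] := List.length_eq_zero_iff.mp hS
    subst this
    simp [leaves, wsum, parL]
  | cons p ps ih =>
    intro D par S hS
    cases S with
    | nil => simp at hS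
    | cons b S =>
      have hS' : S.length = ps.length := by simpa using hS
      rw [leaves, List.mem_append]
      cases b with
      | false =>
        left
        have := ih D par S hS'
        simpa [wsum, parL] using this
      | true =>
        right
        have := ih (D - 4 * 65536 ^ p) (!par) S hS'
        have e1 : D - 4 * wsum (p :: ps) (true :: S) = D - 4 * 65536 ^ p - 4 * wsum ps S := by
          simp only [wsum, if_true]
          rw [Nat.mul_add, Nat.sub_sub]
        have e2 : xor par (parL (true :: S)) = xor (!par) (parL S) := by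
          simp only [parL]
          cases par <;> cases parL S <;> rfl
        rw [e1, e2]
        exact this

/-! ### Lengths -/

theorem listA_length : listA.length = 1104 := by decide +kernel

theorem listC_length (C : ℕ) : (listC C).length = 24 := by
  unfold listC; rw [List.length_map, List.length_range]

theorem isOct_iff (C : ℕ) : isOct C = true ↔ popcN 24 C = 8 := nbeq_iff _ _

theorem listB_length {C : ℕ} (h : isOct C = true) : (listB C).length = 128 := by
  have hlen : (bitPos C).length = 8 := by
    unfold bitPos
    rw [length_filter_testBit, (isOct_iff C).mp h]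
  unfold listB
  match hq : bitPos C, hlen with
  | [], hl => simp at hl
  | q0 :: rest, hl =>
    have : rest.length = 7 := by simpa using hl
    simp only [List.length_map, leaves_length, this]
    norm_num

theorem listChunk_length (c : ℕ) :
    (listChunk c).length = 24 + (if isOct (cw c) = true then 128 else 0) := by
  unfold listChunk
  rw [List.length_append, listC_length]
  split_ifs with h
  · rw [listB_length h]
  · rfl

theorem sum_map_add_ite (l : List ℕ) (P : ℕ → Bool) (a b : ℕ) :
    (l.map (fun c => a + (if P c = true then b else 0))).sum = a * l.length + b * l.countP P := by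
  induction l with
  | nil => simp
  | cons x l ih =>
    rw [List.map_cons, List.sum_cons, ih, List.length_cons, List.countP_cons]
    split_ifs <;> ring

theorem countP_range (P : ℕ → Bool) (n : ℕ) : (List.range n).countP P = countBelow P n := by
  induction n with
  | zero => rfl
  | succ n ih =>
    rw [List.range_succ, List.countP_append, ih, countBelow]
    simp [List.countP_cons]

theorem allCands_length : allCands.length = 196560 := by
  unfold allCands
  rw [List.length_append, listA_length, List.length_flatMap]
  have : (List.range 4096).map (fun c => (listChunk c).length) =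
      (List.range 4096).map (fun c => 24 + (if isOct (cw c) = true then 128 else 0)) :=
    List.map_congr_left (fun c _ => listChunk_length c)
  rw [this, sum_map_add_ite, List.length_range, countP_range]
  have h8 : countBelow (fun c => isOct (cw c)) 4096 = 759 := by
    have := count8
    have e : (fun c => isOct (cw c)) = (fun c => popcN 24 (cw c) == 8) := by
      funext c
      unfold isOct
      cases h : Nat.beq (popcN 24 (cw c)) 8
      · have := (nbeq_false_iff _ _).mp h
        simp [this]
      · have := (nbeq_iff _ _).mp h
        simp [this]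
    rw [e]; exact this
  rw [h8]

/-! ### Completeness -/

theorem mem_listA {i j s : ℕ} (hij : i < j) (hj : j < 24) (hs : s < 4) : candA i j s ∈ listA := by
  unfold listA
  rw [List.mem_flatMap]
  refine ⟨i, List.mem_range.mpr (by omega), ?_⟩
  rw [List.mem_flatMap]
  refine ⟨j, List.mem_range.mpr hj, ?_⟩
  rw [if_pos hij]
  exact List.mem_map.mpr ⟨s, List.mem_range.mpr hs, rfl⟩

theorem mem_allCands_chunk {c v : ℕ} (hc : c < 4096) (hv : v ∈ listChunk c) : v ∈ allCands := by
  unfold allCands
  rw [List.mem_append, List.mem_flatMap]
  exact Or.inr ⟨c, List.mem_range.mpr hc, hv⟩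

/-- every minimal vector is the vector of a candidate -/
theorem exists_cand {z : GolayPt → ℤ} (hz : z ∈ leechLattice) (hn : sqNorm z = 32) :
    ∃ v ∈ allCands, v < 65536 ^ 24 ∧ vec v = z := by
  rcases shape32 hz hn with h | h | h
  · obtain ⟨i, j, s, hij, hj, hs4, hv⟩ := caseA h
    refine ⟨candA i j s, ?_, ?_, ?_⟩
    · unfold allCands
      exact List.mem_append.mpr (Or.inl (mem_listA hij hj hs4))
    · rw [candA_eq i j s (by omega) hj (by omega) hs4]
      exact pkr_lt24 _ (fun k _ => fA_lt _ _ _ k)
    · rw [candA_eq i j s (by omega) hj (by omega) hs4]; exact hv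
  · obtain ⟨c, hc4, hpop, q0, rest, hq, T, hpar, hv⟩ := caseB hz h
    have hoct : isOct (cw c) = true := (isOct_iff _).mpr hpop
    have hleaf := leaves_mem rest (dB (cw c)) false (rest.map T) (by simp)
    rw [Bool.false_xor] at hleaf
    have hmem : pkr 24 (fB (cw c) T) ∈ listB (cw c) := by
      unfold listB
      rw [hq]
      refine List.mem_map.mpr ⟨_, hleaf, ?_⟩
      exact leafB_eq (cw c) q0 rest hq T hpar
    refine ⟨pkr 24 (fB (cw c) T), ?_, pkr_lt24 _ (fun k _ => fB_lt _ _ k), hv⟩
    apply mem_allCands_chunk hc4
    unfold listChunk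
    rw [if_pos hoct]
    exact List.mem_append.mpr (Or.inr hmem)
  · obtain ⟨c, hc4, i, hi, hv⟩ := caseC hz h
    refine ⟨pkr 24 (fC (cw c) i), ?_, pkr_lt24 _ (fun k _ => fC_lt _ _ k), hv⟩
    apply mem_allCands_chunk hc4
    unfold listChunk listC
    apply List.mem_append.mpr
    left
    rw [← candC_eq (cw c) i hi]
    exact List.mem_map.mpr ⟨i, List.mem_range.mpr hi, rfl⟩

/-! ### The candidates are exactly the minimal vectors, without repetition -/

open Classical in
theorem cands_key : (allCands.map vec).Nodup ∧
    ∀ v ∈ allCands, vec v ∈ leechLattice ∧ sqNorm (vec v) = 32 := by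
  classical
  let M : Set (GolayPt → ℤ) := {x | x ∈ leechLattice ∧ sqNorm x = 32}
  have hM : M.ncard = 196560 := Cfsg.Agent.S0394.result
  have hMfin : M.Finite := Set.finite_of_ncard_ne_zero (by rw [hM]; norm_num)
  let F : Finset (GolayPt → ℤ) := (allCands.map vec).toFinset
  have hsub : M ⊆ ↑F := by
    intro x hx
    obtain ⟨v, hv, _, hvx⟩ := exists_cand hx.1 hx.2
    simp only [F, Finset.mem_coe, List.mem_toFinset, List.mem_map]
    exact ⟨v, hv, hvx⟩
  have hFle : F.card ≤ 196560 := by
    have := List.toFinset_card_le (allCands.map vec)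
    rwa [List.length_map, allCands_length] at this
  have hMF : M.ncard ≤ F.card := by
    have := Set.ncard_le_ncard hsub F.finite_toSet
    rwa [Set.ncard_coe_finset] at this
  have hFcard : F.card = 196560 := by omega
  have hnodup : (allCands.map vec).Nodup := by
    have h1 : ((allCands.map vec : List (GolayPt → ℤ)) : Multiset (GolayPt → ℤ)).toFinset.card =
        Multiset.card ((allCands.map vec : List (GolayPt → ℤ)) : Multiset (GolayPt → ℤ)) := by
      rw [Multiset.coe_card, List.length_map, allCands_length]
      exact hFcard
    exact Multiset.coe_nodup.mp (Multiset.toFinset_card_eq_card_iff_nodup.mp h1)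
  have heq : M = ↑F := by
    apply Set.eq_of_subset_of_ncard_le hsub _ F.finite_toSet
    rw [Set.ncard_coe_finset, hFcard, hM]
  refine ⟨hnodup, fun v hv => ?_⟩
  have : vec v ∈ (↑F : Set (GolayPt → ℤ)) := by
    simp only [F, Finset.mem_coe, List.mem_toFinset, List.mem_map]
    exact ⟨v, hv, rfl⟩
  rw [← heq] at this
  exact this

theorem cand_good {v : ℕ} (hv : v ∈ allCands) : Good v := by
  obtain ⟨h1, h2⟩ := cands_key.2 v hv
  exact ⟨h1, by rw [h2]; norm_num⟩

/-- the number of minimal vectors satisfying a condition that is decided by `cond` on candidates -/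
theorem ncard_eq_countP (cond : ℕ → Bool) (C : (GolayPt → ℤ) → Prop)
    (hcond : ∀ v ∈ allCands, (cond v = true ↔ C (vec v))) :
    {z : GolayPt → ℤ | z ∈ leechLattice ∧ sqNorm z = 32 ∧ C z}.ncard = allCands.countP cond := by
  classical
  have hnd : ((allCands.filter cond).map vec).Nodup :=
    cands_key.1.sublist (List.Sublist.map vec List.filter_sublist)
  have heq : {z : GolayPt → ℤ | z ∈ leechLattice ∧ sqNorm z = 32 ∧ C z} =
      ↑(((allCands.filter cond).map vec).toFinset) := by
    ext z
    simp only [Set.mem_ofPred_eq, Finset.mem_coe, List.mem_toFinset, List.mem_map, List.mem_filter]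
    constructor
    · rintro ⟨hz, hn, hC⟩
      obtain ⟨v, hv, _, hvz⟩ := exists_cand hz hn
      exact ⟨v, ⟨hv, (hcond v hv).mpr (hvz ▸ hC)⟩, hvz⟩
    · rintro ⟨v, ⟨hv, hc⟩, rfl⟩
      obtain ⟨h1, h2⟩ := cands_key.2 v hv
      exact ⟨h1, h2, (hcond v hv).mp hc⟩
  rw [heq, Set.ncard_coe_finset, List.toFinset_card_of_nodup hnd, List.length_map,
    List.countP_eq_length_filter]

end Cfsg.Agent.Lib.Helper1.LeechEnum
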