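import Mathlib
import Cfsg.Agent.Lib.Helper1.LeechEnum8

set_option autoImplicit false

namespace Cfsg.Agent.Lib.Helper1.LeechEnum

open Cfsg

/-! ### Fast counting -/

/-- `∑ k < n, f k` with the raw recursor -/
def sumB (f : ℕ → ℕ) (n : ℕ) : ℕ :=
  Nat.rec (motive := fun _ => ℕ) 0 (fun k ih => Nat.add ih (f k)) n

theorem sumB_succ (f : ℕ → ℕ) (n : ℕ) : sumB f (n + 1) = sumB f n + f n := rfl

theorem sumB_eq (f : ℕ → ℕ) (n : ℕ) : sumB f n = ((List.range n).map f).sum := by
  induction n with
  | zero => rfl
  | succ n ih =>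
    rw [sumB_succ, ih, List.range_succ, List.map_append, List.sum_append]
    simp

theorem sumB_congr {f g : ℕ → ℕ} {n : ℕ} (h : ∀ k < n, f k = g k) : sumB f n = sumB g n := by
  induction n with
  | zero => rfl
  | succ n ih =>
    rw [sumB_succ, sumB_succ, ih (fun k hk => h k (Nat.lt_succ_of_lt hk)), h n (Nat.lt_succ_self n)]

theorem sumB_add (f : ℕ → ℕ) (a b : ℕ) :
    sumB f (a + b) = sumB f a + sumB (fun k => f (a + k)) b := by
  induction b with
  | zero => rfl
  | succ b ih =>
    rw [← Nat.add_assoc, sumB_succ, ih, sumB_succ]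
    ring

def b2n (b : Bool) : ℕ := cond b 1 0

theorem countP_map_range (cnd : ℕ → Bool) (g : ℕ → ℕ) (n : ℕ) :
    ((List.range n).map g).countP cnd = sumB (fun k => b2n (cnd (g k))) n := by
  induction n with
  | zero => rfl
  | succ n ih =>
    rw [List.range_succ, List.map_append, List.countP_append, ih, sumB_succ]
    cases h : cnd (g n) <;> simp [List.countP_cons, h, b2n]

theorem countP_flatMap_range (cnd : ℕ → Bool) (g : ℕ → List ℕ) (n : ℕ) :
    ((List.range n).flatMap g).countP cnd = sumB (fun k => (g k).countP cnd) n := by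
  induction n with
  | zero => rfl
  | succ n ih =>
    rw [List.range_succ, List.flatMap_append, List.countP_append, ih, sumB_succ]
    simp

def cntA (cnd : ℕ → Bool) : ℕ :=
  sumB (fun i => sumB (fun j => cond (Nat.blt i j)
    (sumB (fun s => b2n (cnd (candA i j s))) 4) 0) 24) 24

theorem cntA_eq (cnd : ℕ → Bool) : cntA cnd = listA.countP cnd := by
  unfold cntA listA
  rw [countP_flatMap_range]
  apply sumB_congr
  intro i _
  rw [countP_flatMap_range]
  apply sumB_congr
  intro j _
  by_cases hij : i < j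
  · have : Nat.blt i j = true := by
      show Nat.ble (i + 1) j = true
      exact Nat.ble_eq_true_of_le hij
    rw [this, cond_true, if_pos hij, countP_map_range]
  · have : Nat.blt i j = false := by
      show Nat.ble (i + 1) j = false
      rw [← Bool.not_eq_true]
      intro h
      exact hij (Nat.le_of_ble_eq_true h)
    rw [this, cond_false, if_neg hij]
    rfl

def cntC (cnd : ℕ → Bool) (C : ℕ) : ℕ :=
  (fun D => sumB (fun i => b2n (cnd (candC D C i))) 24) (dC C)

theorem cntC_eq (cnd : ℕ → Bool) (C : ℕ) : cntC cnd C = (listC C).countP cnd := by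
  unfold cntC listC
  rw [countP_map_range]

def travCnt (cnd : ℕ → Bool) (q0 : ℕ) (ps : List ℕ) : ℕ → Bool → ℕ :=
  List.rec (motive := fun _ => ℕ → Bool → ℕ)
    (fun D par => b2n (cnd (cond par (Nat.sub D (Nat.shiftLeft 4 (Nat.mul 16 q0))) D)))
    (fun p _ ih D par => Nat.add (ih D par)
      (ih (Nat.sub D (Nat.shiftLeft 4 (Nat.mul 16 p))) (not par))) ps

theorem travCnt_eq (cnd : ℕ → Bool) (q0 : ℕ) (ps : List ℕ) : ∀ (D : ℕ) (par : Bool),
    travCnt cnd q0 ps D par = ((leaves ps D par).map (fixQ q0)).countP cnd := by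
  induction ps with
  | nil =>
    intro D par
    show b2n (cnd (cond par (Nat.sub D (Nat.shiftLeft 4 (Nat.mul 16 q0))) D)) = _
    rw [shl_eq]
    simp only [leaves, List.map_cons, List.map_nil, List.countP_cons, List.countP_nil, zero_add,
      fixQ]
    cases cnd (cond par (D.sub (4 * 65536 ^ q0)) D) <;> rfl
  | cons p ps ih =>
    intro D par
    show Nat.add (travCnt cnd q0 ps D par)
      (travCnt cnd q0 ps (Nat.sub D (Nat.shiftLeft 4 (Nat.mul 16 p))) (not par)) = _
    rw [ih, ih, shl_eq, leaves, List.map_append, List.countP_append]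
    rfl

def cntB (cnd : ℕ → Bool) (C : ℕ) : ℕ :=
  List.casesOn (motive := fun _ => ℕ) (bitPos C) 0
    (fun q0 rest => travCnt cnd q0 rest (dB C) false)

theorem cntB_eq (cnd : ℕ → Bool) (C : ℕ) : cntB cnd C = (listB C).countP cnd := by
  unfold cntB listB
  cases h : bitPos C with
  | nil => rfl
  | cons q0 rest => exact travCnt_eq cnd q0 rest (dB C) false

def cntChunk (cnd : ℕ → Bool) (c : ℕ) : ℕ :=
  (fun C => Nat.add (cntC cnd C) (cond (isOct C) (cntB cnd C) 0)) (cw c)

theorem cntChunk_eq (cnd : ℕ → Bool) (c : ℕ) : cntChunk cnd c = (listChunk c).countP cnd := by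
  unfold cntChunk listChunk
  rw [List.countP_append, ← cntC_eq]
  show cntC cnd (cw c) + cond (isOct (cw c)) (cntB cnd (cw c)) 0 = _
  cases h : isOct (cw c)
  · simp
  · simp [cntB_eq]

theorem countP_all (cnd : ℕ → Bool) :
    allCands.countP cnd = cntA cnd + sumB (cntChunk cnd) 4096 := by
  have e : allCands = listA ++ (List.range 4096).flatMap listChunk := rfl
  have h2 := countP_flatMap_range cnd listChunk 4096
  have h3 : sumB (fun k => (listChunk k).countP cnd) 4096 = sumB (cntChunk cnd) 4096 :=
    sumB_congr (fun c _ => (cntChunk_eq cnd c).symm)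
  rw [e, List.countP_append, h2, h3, cntA_eq]

/-- the count of a range of chunks -/
def cntFrom (cnd : ℕ → Bool) (lo len : ℕ) : ℕ := sumB (fun k => cntChunk cnd (Nat.add lo k)) len

theorem sumB_parts (f : ℕ → ℕ) :
    sumB f 4096 = sumB (fun j => sumB (fun k => f (256 * j + k)) 256) 16 := by
  have h : ∀ m, sumB f (256 * m) = sumB (fun j => sumB (fun k => f (256 * j + k)) 256) m := by
    intro m
    induction m with
    | zero => rfl
    | succ m ih =>
      rw [Nat.mul_succ, sumB_add, ih]
      rfl
  exact h 16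

/-- the census theorem: the number of minimal vectors satisfying `C` is the sum of the
sixteen partial counts and the count of the first kind -/
theorem ncard_eq_parts (cnd : ℕ → Bool) (C : (GolayPt → ℤ) → Prop)
    (hcond : ∀ v, v < 65536 ^ 24 → Good v → (cnd v = true ↔ C (vec v)))
    (nA : ℕ) (hA : cntA cnd = nA) (ns : ℕ → ℕ)
    (hparts : ∀ j < 16, cntFrom cnd (256 * j) 256 = ns j) :
    {z : GolayPt → ℤ | z ∈ leechLattice ∧ sqNorm z = 32 ∧ C z}.ncard = nA + sumB ns 16 := by
  rw [ncard_eq_countP cnd C, countP_all, hA, sumB_parts]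
  · congr 1
    apply sumB_congr
    intro j hj
    exact hparts j hj
  · intro v hv
    have hg := cand_good hv
    obtain ⟨w, hw, hw24, hwv⟩ := exists_cand hg.1 (cands_key.2 v hv).2
    -- `v` itself is below the bound: it is the unique candidate with its vector
    have hvw : v = w := by
      have hnd := cands_key.1
      exact (List.inj_on_of_nodup_map hnd) hv hw hwv.symm
    exact hcond v (hvw ▸ hw24) hg

end Cfsg.Agent.Lib.Helper1.LeechEnum
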