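import Mathlib
import Cfsg.Agent.Lib.Helper1.LeechEnum7
import Cfsg.Agent.Lib.Helper1.LeechEnum9

set_option autoImplicit false

namespace Cfsg.Agent.Lib.Helper1.LeechEnum

open Cfsg Cfsg.Agent.Lib.Helper1.LeechCross Cfsg.Agent.Lib.Helper1.LeechAut

/-! ### Transport of counts -/

theorem smul_sub (h : Co0) (v w : leechLattice) : h • (v - w) = h • v - h • w := by
  show h.1 (v - w) = h.1 v - h.1 w
  rw [sub_eq_add_neg, h.2.1, map_neg' h.2, ← sub_eq_add_neg]

theorem smul_neg' (h : Co0) (v : leechLattice) : h • (-v) = -(h • v) := map_neg' h.2 v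

/-- counting lattice elements is counting their coordinate vectors -/
theorem ncard_subtype (C : (GolayPt → ℤ) → Prop) :
    {v : leechLattice | C (v : GolayPt → ℤ)}.ncard =
      {z : GolayPt → ℤ | z ∈ leechLattice ∧ C z}.ncard := by
  have : {z : GolayPt → ℤ | z ∈ leechLattice ∧ C z} =
      Subtype.val '' {v : leechLattice | C (v : GolayPt → ℤ)} := by
    ext z
    simp only [Set.mem_ofPred_eq, Set.mem_image]
    constructor
    · rintro ⟨hz, hc⟩; exact ⟨⟨z, hz⟩, hc, rfl⟩
    · rintro ⟨v, hc, rfl⟩; exact ⟨v.2, hc⟩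
  rw [this, Set.ncard_image_of_injective _ Subtype.val_injective]

/-- an automorphism transports counts -/
theorem ncard_smul (h : Co0) (Q : leechLattice → Prop) :
    {v : leechLattice | Q (h • v)}.ncard = {w : leechLattice | Q w}.ncard := by
  have : {w : leechLattice | Q w} = (fun v => h • v) '' {v : leechLattice | Q (h • v)} := by
    ext w
    simp only [Set.mem_ofPred_eq, Set.mem_image]
    constructor
    · intro hw; exact ⟨h⁻¹ • w, by rwa [smul_inv_smul], smul_inv_smul h w⟩
    · rintro ⟨v, hv, rfl⟩; exact hv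
  rw [this, Set.ncard_image_of_injective _ (MulAction.injective h)]

end Cfsg.Agent.Lib.Helper1.LeechEnum
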