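import Mathlib
import Cfsg.Agent.Lib.Helper1.LeechEnum10

set_option autoImplicit false

namespace Cfsg.Agent.Lib.Helper1.LeechEnum

open Cfsg Cfsg.Agent.Lib.Helper1.LeechCross Cfsg.Agent.Lib.Helper1.LeechAut
  Cfsg.Agent.Lib.Helper1.LeechConn

/-! ### Small algebra -/

theorem norm_neg (x : GolayPt → ℤ) : sqNorm (-x) = sqNorm x := by
  unfold sqNorm
  apply Finset.sum_congr rfl
  intro i _
  simp only [Pi.neg_apply]
  ring

theorem dot_neg_right (x y : GolayPt → ℤ) : dotInt x (-y) = -dotInt x y := by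
  unfold dotInt
  rw [← Finset.sum_neg_distrib]
  apply Finset.sum_congr rfl
  intro i _
  simp only [Pi.neg_apply]
  ring

theorem dot_neg_left (x y : GolayPt → ℤ) : dotInt (-x) y = -dotInt x y := by
  unfold dotInt
  rw [← Finset.sum_neg_distrib]
  apply Finset.sum_congr rfl
  intro i _
  simp only [Pi.neg_apply]
  ring

theorem dot_add_right (x y z : GolayPt → ℤ) : dotInt x (y + z) = dotInt x y + dotInt x z := by
  unfold dotInt
  rw [← Finset.sum_add_distrib]
  apply Finset.sum_congr rfl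
  intro i _
  simp only [Pi.add_apply]
  ring

theorem dot_sub_right (x y z : GolayPt → ℤ) : dotInt x (y - z) = dotInt x y - dotInt x z := by
  unfold dotInt
  rw [← Finset.sum_sub_distrib]
  apply Finset.sum_congr rfl
  intro i _
  simp only [Pi.sub_apply]
  ring

theorem dot_sub_left (x y z : GolayPt → ℤ) : dotInt (x - y) z = dotInt x z - dotInt y z := by
  unfold dotInt
  rw [← Finset.sum_sub_distrib]
  apply Finset.sum_congr rfl
  intro i _
  simp only [Pi.sub_apply]
  ring

theorem dot_add_left (x y z : GolayPt → ℤ) : dotInt (x + y) z = dotInt x z + dotInt y z := by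
  unfold dotInt
  rw [← Finset.sum_add_distrib]
  apply Finset.sum_congr rfl
  intro i _
  simp only [Pi.add_apply]
  ring

theorem dot_self' (x : GolayPt → ℤ) : dotInt x x = sqNorm x := by
  unfold sqNorm dotInt
  apply Finset.sum_congr rfl
  intro i _
  ring

theorem coe_neg' (v : leechLattice) :
    ((-v : leechLattice) : GolayPt → ℤ) = -(v : GolayPt → ℤ) := rfl

theorem coe_add' (u v : leechLattice) :
    ((u + v : leechLattice) : GolayPt → ℤ) = (u : GolayPt → ℤ) + (v : GolayPt → ℤ) := rfl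

theorem coe_sub'' (u v : leechLattice) :
    ((u - v : leechLattice) : GolayPt → ℤ) = (u : GolayPt → ℤ) - (v : GolayPt → ℤ) := rfl

theorem smul_add' (h : Co0) (v w : leechLattice) : h • (v + w) = h • v + h • w := h.2.1 v w

/-! ### Counting helpers -/

/-- a count in standard position gives the count of any set that an automorphism carries to
the standard description -/
theorem count_via (h : Co0) (S : Set leechLattice) (C : (GolayPt → ℤ) → Prop) (n : ℕ)
    (hS : ∀ y : leechLattice, y ∈ S ↔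
      (sqNorm ((h • y : leechLattice) : GolayPt → ℤ) = 32 ∧
        C ((h • y : leechLattice) : GolayPt → ℤ)))
    (hcount : {z : GolayPt → ℤ | z ∈ leechLattice ∧ sqNorm z = 32 ∧ C z}.ncard = n) :
    S.ncard = n := by
  have e1 : S = {x : leechLattice | (fun w : leechLattice => sqNorm (w : GolayPt → ℤ) = 32 ∧
      C (w : GolayPt → ℤ)) (h • x)} := by
    ext y
    exact hS y
  rw [e1, ncard_smul h (fun w : leechLattice => sqNorm (w : GolayPt → ℤ) = 32 ∧
      C (w : GolayPt → ℤ)), ncard_subtype (fun z => sqNorm z = 32 ∧ C z)]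
  exact hcount

/-- three disjoint pieces of the right total size cover -/
theorem cover3 {α : Type*} (A B1 B2 : Set α) (x : α) (n1 n2 : ℕ)
    (hA : A.ncard = 1 + n1 + n2) (hx : x ∈ A) (h1 : B1 ⊆ A) (h2 : B2 ⊆ A)
    (hx1 : x ∉ B1) (hx2 : x ∉ B2) (h12 : Disjoint B1 B2)
    (c1 : B1.ncard = n1) (c2 : B2.ncard = n2) : ∀ y ∈ A, y = x ∨ y ∈ B1 ∨ y ∈ B2 := by
  have hfin : A.Finite := Set.finite_of_ncard_ne_zero (by rw [hA]; omega)
  have f1 : B1.Finite := hfin.subset h1
  have f2 : B2.Finite := hfin.subset h2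
  have hsub : ({x} ∪ B1) ∪ B2 ⊆ A := by
    intro y hy
    rcases hy with (hy | hy) | hy
    · rw [Set.mem_singleton_iff] at hy; rw [hy]; exact hx
    · exact h1 hy
    · exact h2 hy
  have d1 : Disjoint ({x} : Set α) B1 := Set.disjoint_singleton_left.mpr hx1
  have d2 : Disjoint (({x} : Set α) ∪ B1) B2 :=
    Set.disjoint_union_left.mpr ⟨Set.disjoint_singleton_left.mpr hx2, h12⟩
  have hc : (({x} ∪ B1) ∪ B2).ncard = 1 + n1 + n2 := by
    rw [Set.ncard_union_eq d2 ((Set.finite_singleton x).union f1) f2,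
      Set.ncard_union_eq d1 (Set.finite_singleton x) f1, Set.ncard_singleton, c1, c2]
  have heq := Set.eq_of_subset_of_ncard_le hsub (by rw [hA, hc]) hfin
  intro y hy
  rw [← heq] at hy
  rcases hy with (hy | hy) | hy
  · left; exact hy
  · right; left; exact hy
  · right; right; exact hy

/-- five disjoint pieces of the right total size cover -/
theorem cover5 {α : Type*} (A B1 B2 B3 B4 : Set α) (x : α) (n1 n2 n3 n4 : ℕ)
    (hA : A.ncard = 1 + n1 + n2 + n3 + n4) (hx : x ∈ A) (h1 : B1 ⊆ A) (h2 : B2 ⊆ A)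
    (h3 : B3 ⊆ A) (h4 : B4 ⊆ A)
    (hx1 : x ∉ B1) (hx2 : x ∉ B2) (hx3 : x ∉ B3) (hx4 : x ∉ B4)
    (h12 : Disjoint B1 B2) (h13 : Disjoint B1 B3) (h14 : Disjoint B1 B4)
    (h23 : Disjoint B2 B3) (h24 : Disjoint B2 B4) (h34 : Disjoint B3 B4)
    (c1 : B1.ncard = n1) (c2 : B2.ncard = n2) (c3 : B3.ncard = n3) (c4 : B4.ncard = n4) :
    A = {x} ∪ B1 ∪ B2 ∪ B3 ∪ B4 := by
  have hfin : A.Finite := Set.finite_of_ncard_ne_zero (by rw [hA]; omega)
  have f1 : B1.Finite := hfin.subset h1
  have f2 : B2.Finite := hfin.subset h2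
  have f3 : B3.Finite := hfin.subset h3
  have f4 : B4.Finite := hfin.subset h4
  have hsub : {x} ∪ B1 ∪ B2 ∪ B3 ∪ B4 ⊆ A := by
    intro y hy
    rcases hy with (((hy | hy) | hy) | hy) | hy
    · rw [Set.mem_singleton_iff] at hy; rw [hy]; exact hx
    · exact h1 hy
    · exact h2 hy
    · exact h3 hy
    · exact h4 hy
  have d1 : Disjoint ({x} : Set α) B1 := Set.disjoint_singleton_left.mpr hx1
  have d2 : Disjoint (({x} : Set α) ∪ B1) B2 :=
    Set.disjoint_union_left.mpr ⟨Set.disjoint_singleton_left.mpr hx2, h12⟩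
  have d3 : Disjoint (({x} : Set α) ∪ B1 ∪ B2) B3 :=
    Set.disjoint_union_left.mpr ⟨Set.disjoint_union_left.mpr
      ⟨Set.disjoint_singleton_left.mpr hx3, h13⟩, h23⟩
  have d4 : Disjoint (({x} : Set α) ∪ B1 ∪ B2 ∪ B3) B4 :=
    Set.disjoint_union_left.mpr ⟨Set.disjoint_union_left.mpr ⟨Set.disjoint_union_left.mpr
      ⟨Set.disjoint_singleton_left.mpr hx4, h14⟩, h24⟩, h34⟩
  have g1 := (Set.finite_singleton x).union f1
  have g2 := g1.union f2
  have g3 := g2.union f3
  have hc : ({x} ∪ B1 ∪ B2 ∪ B3 ∪ B4).ncard = 1 + n1 + n2 + n3 + n4 := by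
    rw [Set.ncard_union_eq d4 g3 f4, Set.ncard_union_eq d3 g2 f3, Set.ncard_union_eq d2 g1 f2,
      Set.ncard_union_eq d1 (Set.finite_singleton x) f1, Set.ncard_singleton, c1, c2, c3, c4]
  exact (Set.eq_of_subset_of_ncard_le hsub (by rw [hA, hc]) hfin).symm

end Cfsg.Agent.Lib.Helper1.LeechEnum
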