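import Mathlib

set_option autoImplicit false

namespace Cfsg.Agent.Lib.Helper1.PrimSimple

open Equiv Equiv.Perm

/-! ### The number of solutions of `g ^ p = 1` is divisible by `p` -/

theorem card_pow_eq_one_dvd {G : Type*} [Group G] [Fintype G] (p : ℕ)
    [hp : Fact p.Prime] (hdvd : p ∣ Fintype.card G) :
    p ∣ Nat.card {g : G // g ^ p = 1} := by
  classical
  have hp' : p - 1 ≠ 0 := mt tsub_eq_zero_iff_le.mp (not_le_of_gt hp.out.one_lt)
  have Scard :=
    calc
      p ∣ Fintype.card G ^ (p - 1) := hdvd.trans (dvd_pow (dvd_refl _) hp')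
      _ = Fintype.card (vectorsProdEqOne G p) := (VectorsProdEqOne.card G p).symm
  let f : ℕ → vectorsProdEqOne G p → vectorsProdEqOne G p := fun k v =>
    VectorsProdEqOne.rotate v k
  have hf1 : ∀ v, f 0 v = v := VectorsProdEqOne.rotate_zero
  have hf2 : ∀ j k v, f k (f j v) = f (j + k) v := fun j k v =>
    VectorsProdEqOne.rotate_rotate v j k
  have hf3 : ∀ v, f p v = v := VectorsProdEqOne.rotate_length
  let σ : Perm (vectorsProdEqOne G p) :=
    Equiv.mk (f 1) (f (p - 1)) (fun s => by rw [hf2, add_tsub_cancel_of_le hp.out.one_lt.le, hf3])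
      fun s => by rw [hf2, tsub_add_cancel_of_le hp.out.one_lt.le, hf3]
  have hσ : ∀ k v, (σ ^ k) v = f k v := fun k =>
    Nat.rec (fun v => (hf1 v).symm) (fun k hk v => by
      rw [pow_succ, Perm.mul_apply, hk (σ v), Nat.succ_eq_one_add, ← hf2 1 k]
      simp only [σ, coe_fn_mk]) k
  replace hσ : σ ^ p ^ 1 = 1 := Perm.ext fun v => by rw [pow_one, hσ, hf3, one_apply]
  have hmod := Equiv.Perm.card_compl_support_modEq (p := p) (n := 1) hσ
  have hfix : p ∣ Fintype.card {v // v ∈ σ.supportᶜ} := by
    rw [Fintype.card_coe]
    exact (Nat.modEq_zero_iff_dvd.mp (hmod.trans (Nat.modEq_zero_iff_dvd.mpr Scard)))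
  have hmem : ∀ v, v ∈ σ.supportᶜ ↔ σ v = v := fun v => by
    rw [Finset.mem_compl, Equiv.Perm.mem_support, Classical.not_not]
  -- the fixed points are the constant vectors
  let φ : {g : G // g ^ p = 1} → {v // v ∈ σ.supportᶜ} := fun g =>
    ⟨⟨List.Vector.replicate p g.1, (List.prod_replicate p g.1).trans g.2⟩,
      (hmem _).2 (Subtype.ext (Subtype.ext (List.rotate_replicate g.1 p 1)))⟩
  have hφ : Function.Bijective φ := by
    constructor
    · intro a b hab
      have h1 : (List.Vector.replicate p a.1).toList = (List.Vector.replicate p b.1).toList := by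
        have := congrArg (fun v : {v // v ∈ σ.supportᶜ} => v.1.1.toList) hab
        exact this
      simp only [List.Vector.replicate, List.Vector.toList] at h1
      exact Subtype.ext (List.replicate_right_injective hp.out.pos.ne' h1)
    · intro v
      have hv1 : σ v.1 = v.1 := (hmem _).1 v.2
      obtain ⟨g, hg⟩ := List.rotate_one_eq_self_iff_eq_replicate.mp
        (Subtype.ext_iff.mp (Subtype.ext_iff.mp hv1))
      have hlen : v.1.1.1.length = p := v.1.1.2
      have hgp : g ^ p = 1 := by
        rw [← List.prod_replicate, ← hlen, ← hg]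
        exact v.1.2
      refine ⟨⟨g, hgp⟩, ?_⟩
      apply Subtype.ext
      apply Subtype.ext
      apply Subtype.ext
      show List.replicate p g = v.1.1.1
      rw [hg, hlen]
  rw [Nat.card_eq_fintype_card, Fintype.card_of_bijective hφ]
  exact hfix

/-- the number of elements of order `p` is `-1` modulo `p` -/
theorem card_orderOf_eq_prime_mod {G : Type*} [Group G] [Finite G] (p : ℕ)
    [hp : Fact p.Prime] (hdvd : p ∣ Nat.card G) :
    p ∣ Nat.card {g : G // orderOf g = p} + 1 := by
  classical
  have := Fintype.ofFinite G
  rw [Nat.card_eq_fintype_card] at hdvd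
  have h := card_pow_eq_one_dvd p hdvd
  have e : {g : G // g ^ p = 1} ≃ Option {g : G // orderOf g = p} :=
    { toFun := fun g => if h : g.1 = 1 then none else some ⟨g.1, orderOf_eq_prime g.2 h⟩
      invFun := fun o => match o with
        | none => ⟨1, one_pow p⟩
        | some g => ⟨g.1, by have := pow_orderOf_eq_one g.1; rwa [g.2] at this⟩
      left_inv := by
        intro g
        by_cases h : g.1 = 1
        · simp only [h, dite_true]
          exact Subtype.ext h.symm
        · simp only [h, dite_false]
      right_inv := by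
        intro o
        cases o with
        | none => simp
        | some g =>
          have : g.1 ≠ 1 := by
            intro h1
            have := g.2
            rw [h1, orderOf_one] at this
            exact hp.out.one_lt.ne this
          simp [this] }
  rw [Nat.card_congr e, Nat.card_eq_fintype_card, Fintype.card_option,
    ← Nat.card_eq_fintype_card] at h
  exact h

end Cfsg.Agent.Lib.Helper1.PrimSimple
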