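import Mathlib
import Cfsg.Agent.Lib.Helper1.PrimSimple1

set_option autoImplicit false

namespace Cfsg.Agent.Lib.Helper1.PrimSimple

open MulAction

variable {G Ω : Type*} [Group G] [MulAction G Ω]

/-- suborbit data at a base point: representatives of the orbits of the point stabiliser on the
rest of the orbit, and their sizes -/
structure SubData (G : Type*) {Ω : Type*} [Group G] [MulAction G Ω] (x : Ω) (k : ℕ)
    (y : Fin k → Ω) (n : Fin k → ℕ) : Prop where
  cover : ∀ z ∈ orbit G x, z = x ∨ ∃ i, z ∈ orbit (stabilizer G x) (y i)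
  mem : ∀ i, y i ∈ orbit G x
  ne : ∀ i, y i ≠ x
  disj : ∀ i j, i ≠ j → y j ∉ orbit (stabilizer G x) (y i)
  card : ∀ i, (orbit (stabilizer G x) (y i)).ncard = n i

theorem orbit_finite [Finite G] (z : Ω) : (orbit G z).Finite := Set.finite_range _

theorem orbitH_finite [Finite G] (x z : Ω) : (orbit (stabilizer G x) z).Finite :=
  Set.finite_range _

variable {x : Ω} {k : ℕ} {y : Fin k → Ω} {n : Fin k → ℕ}

theorem SubData.x_notMem (D : SubData G x k y n) (i : Fin k) :
    x ∉ orbit (stabilizer G x) (y i) := by
  rintro ⟨h, hh⟩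
  apply D.ne i
  have h1 : (h : G) • y i = x := hh
  have h2 : (h : G) • x = x := h.2
  have : (h : G) • y i = (h : G) • x := by rw [h1, h2]
  exact smul_left_cancel _ this

theorem SubData.orbits_disjoint (D : SubData G x k y n) {i j : Fin k} (hij : i ≠ j) :
    Disjoint (orbit (stabilizer G x) (y i)) (orbit (stabilizer G x) (y j)) := by
  rw [Set.disjoint_left]
  intro z hzi hzj
  apply D.disj i j hij
  have h1 : orbit (stabilizer G x) z = orbit (stabilizer G x) (y i) := orbit_eq_iff.mpr hzi
  have h2 : orbit (stabilizer G x) z = orbit (stabilizer G x) (y j) := orbit_eq_iff.mpr hzj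
  rw [← h1, h2]
  exact mem_orbit_self _

/-- the union of the suborbits with index in `I` -/
def unionI (G : Type*) {Ω : Type*} [Group G] [MulAction G Ω] (x : Ω) {k : ℕ} (y : Fin k → Ω)
    (I : Finset (Fin k)) : Set Ω :=
  {z | ∃ i ∈ I, z ∈ orbit (stabilizer G x) (y i)}

theorem unionI_finite [Finite G] (I : Finset (Fin k)) : (unionI G x y I).Finite := by
  have : unionI G x y I = ⋃ i ∈ I, orbit (stabilizer G x) (y i) := by
    ext z
    simp [unionI]
  rw [this]
  exact Set.Finite.biUnion I.finite_toSet (fun i _ => orbitH_finite x (y i))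

theorem SubData.ncard_unionI [Finite G] (D : SubData G x k y n) (I : Finset (Fin k)) :
    (unionI G x y I).ncard = ∑ i ∈ I, n i := by
  classical
  induction I using Finset.induction_on with
  | empty =>
    have : unionI G x y ∅ = ∅ := by
      ext z
      simp [unionI]
    rw [this]
    simp
  | insert a I ha ih =>
    have e : unionI G x y (insert a I) = orbit (stabilizer G x) (y a) ∪ unionI G x y I := by
      ext z
      simp [unionI]
    have hd : Disjoint (orbit (stabilizer G x) (y a)) (unionI G x y I) := by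
      rw [Set.disjoint_left]
      rintro z hza ⟨i, hi, hzi⟩
      have hai : a ≠ i := fun h => ha (h ▸ hi)
      exact Set.disjoint_left.mp (D.orbits_disjoint hai) hza hzi
    rw [e, Set.ncard_union_eq hd (orbitH_finite x (y a)) (unionI_finite I), D.card a, ih,
      Finset.sum_insert ha]

/-- an invariant subset of the orbit avoiding the base point is a union of suborbits -/
theorem SubData.invariant_eq [Finite G] (D : SubData G x k y n) (S : Set Ω)
    (hS : S ⊆ orbit G x) (hx : x ∉ S)
    (hinv : ∀ h ∈ stabilizer G x, ∀ z ∈ S, h • z ∈ S) :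
    ∃ I : Finset (Fin k), S = unionI G x y I ∧ ∀ i, i ∈ I ↔ y i ∈ S := by
  classical
  refine ⟨Finset.univ.filter (fun i => y i ∈ S), ?_, fun i => by simp⟩
  ext z
  constructor
  · intro hz
    rcases D.cover z (hS hz) with rfl | ⟨i, hi⟩
    · exact absurd hz hx
    · refine ⟨i, ?_, hi⟩
      simp only [Finset.mem_filter, Finset.mem_univ, true_and]
      obtain ⟨h, hh⟩ := hi
      have h1 : (h : G) • y i = z := hh
      have h2 : y i = (h : G)⁻¹ • z := by rw [← h1, inv_smul_smul]
      rw [h2]
      exact hinv _ (inv_mem h.2) z hz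
  · rintro ⟨i, hi, h, hh⟩
    simp only [Finset.mem_filter, Finset.mem_univ, true_and] at hi
    have h1 : (h : G) • y i = z := hh
    rw [← h1]
    exact hinv _ h.2 _ hi

/-- the size of an invariant subset avoiding the base point -/
theorem SubData.invariant_ncard [Finite G] (D : SubData G x k y n) (S : Set Ω)
    (hS : S ⊆ orbit G x) (hx : x ∉ S)
    (hinv : ∀ h ∈ stabilizer G x, ∀ z ∈ S, h • z ∈ S) :
    ∃ I : Finset (Fin k), S.ncard = ∑ i ∈ I, n i ∧ ∀ i, i ∈ I ↔ y i ∈ S := by
  obtain ⟨I, hI, hmem⟩ := D.invariant_eq S hS hx hinv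
  exact ⟨I, by rw [hI, D.ncard_unionI], hmem⟩

/-- the size of the whole orbit -/
theorem SubData.orbit_ncard [Finite G] (D : SubData G x k y n) :
    (orbit G x).ncard = 1 + ∑ i, n i := by
  classical
  have hS : orbit G x \ {x} ⊆ orbit G x := Set.sdiff_subset
  obtain ⟨I, hI, hmem⟩ := D.invariant_ncard (orbit G x \ {x}) hS (by simp) (by
    intro h hh z hz
    refine ⟨?_, ?_⟩
    · obtain ⟨g, rfl⟩ := hz.1
      exact ⟨h * g, mul_smul h g x⟩
    · intro hzx
      apply hz.2
      have h1 : h • z = x := hzx
      have h2 : h • x = x := hh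
      have : h • z = h • x := by rw [h1, h2]
      exact smul_left_cancel _ this)
  have hIu : I = Finset.univ := by
    ext i
    simp only [Finset.mem_univ, iff_true]
    exact (hmem i).2 ⟨D.mem i, D.ne i⟩
  have := Set.ncard_sdiff_singleton_add_one (mem_orbit_self x) (orbit_finite (G := G) x)
  rw [hI, hIu] at this
  omega

end Cfsg.Agent.Lib.Helper1.PrimSimple
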