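import Mathlib
import Cfsg.Agent.Lib.Helper1.PrimSimple2

set_option autoImplicit false

namespace Cfsg.Agent.Lib.Helper1.PrimSimple

open MulAction

variable {G Ω : Type*} [Group G] [MulAction G Ω]
variable {x : Ω} {k : ℕ} {y : Fin k → Ω} {n : Fin k → ℕ}

/-- the orbit of a subgroup, as a set -/
theorem orbit_subgroup_eq (K : Subgroup G) (z : Ω) :
    orbit K z = {w | ∃ g ∈ K, g • z = w} := by
  ext w
  constructor
  · rintro ⟨g, rfl⟩
    exact ⟨g.1, g.2, rfl⟩
  · rintro ⟨g, hg, rfl⟩
    exact ⟨⟨g, hg⟩, rfl⟩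

/-- the stabiliser inside a subgroup -/
theorem stabilizer_subgroup_eq (K : Subgroup G) (z : Ω) :
    stabilizer K z = (stabilizer G z).subgroupOf K := by
  ext g
  rw [mem_stabilizer_iff, Subgroup.mem_subgroupOf, mem_stabilizer_iff]
  rfl

/-- the size of the orbit of an overgroup of the point stabiliser -/
theorem SubData.overgroup_orbit [Finite G] (D : SubData G x k y n)
    (K : Subgroup G) (hK : stabilizer G x ≤ K) :
    ∃ I : Finset (Fin k), (stabilizer G x).relIndex K = 1 + ∑ i ∈ I, n i := by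
  have h1 : (stabilizer G x).relIndex K = (orbit K x).ncard := by
    rw [← index_stabilizer, stabilizer_subgroup_eq]
    rfl
  have hsub : orbit K x ⊆ orbit G x := by
    rintro z ⟨g, rfl⟩
    exact ⟨g.1, rfl⟩
  obtain ⟨I, hI, _⟩ := D.invariant_ncard (orbit K x \ {x}) (Set.sdiff_subset.trans hsub)
    (by simp) (by
    intro h hh z hz
    refine ⟨?_, ?_⟩
    · obtain ⟨g, rfl⟩ := hz.1
      exact ⟨⟨h, hK hh⟩ * g, mul_smul (⟨h, hK hh⟩ : K) g x⟩
    · intro hzx
      apply hz.2
      have h1 : h • z = x := hzx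
      have h2 : h • x = x := hh
      have : h • z = h • x := by rw [h1, h2]
      exact smul_left_cancel _ this)
  refine ⟨I, ?_⟩
  have := Set.ncard_sdiff_singleton_add_one (mem_orbit_self (M := K) x)
    (orbit_finite (G := K) x)
  rw [h1]
  omega

/-- maximality of the point stabiliser from the suborbit sizes -/
theorem SubData.maximal [Finite G] (D : SubData G x k y n)
    (hprim : ∀ I : Finset (Fin k), (1 + ∑ i ∈ I, n i) ∣ (1 + ∑ i, n i) →
      (∑ i ∈ I, n i = 0) ∨ (∑ i ∈ I, n i = ∑ i, n i))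
    (K : Subgroup G) (hK : stabilizer G x ≤ K) : K = stabilizer G x ∨ K = ⊤ := by
  obtain ⟨I, hI⟩ := D.overgroup_orbit K hK
  have hidx : (stabilizer G x).index = 1 + ∑ i, n i := by
    rw [index_stabilizer, D.orbit_ncard]
  have hmul := Subgroup.relIndex_mul_index hK
  have hdvd : (1 + ∑ i ∈ I, n i) ∣ (1 + ∑ i, n i) := by
    rw [← hI, ← hidx, ← hmul]
    exact dvd_mul_right _ _
  rcases hprim I hdvd with h0 | h1
  · left
    have : (stabilizer G x).relIndex K = 1 := by rw [hI, h0]
    exact le_antisymm (Subgroup.relIndex_eq_one.mp this) hK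
  · right
    have h2 : (stabilizer G x).relIndex K = (stabilizer G x).index := by rw [hI, h1, hidx]
    rw [h2] at hmul
    have hpos : 0 < (stabilizer G x).index := by rw [hidx]; omega
    have : K.index = 1 := by
      have := Nat.eq_of_mul_eq_mul_left hpos (hmul.trans (mul_one _).symm)
      exact this
    exact Subgroup.index_eq_one.mp this

end Cfsg.Agent.Lib.Helper1.PrimSimple
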