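import Mathlib
import Cfsg.Agent.Lib.Helper1.PrimSimple3

set_option autoImplicit false

namespace Cfsg.Agent.Lib.Helper1.PrimSimple

open MulAction

variable {G Ω : Type*} [Group G] [MulAction G Ω]
variable {x : Ω} {k : ℕ} {y : Fin k → Ω} {n : Fin k → ℕ}

/-- a normal point stabiliser fixes the whole orbit -/
theorem SubData.normal_stab_trivial (D : SubData G x k y n)
    (hN : (stabilizer G x).Normal) (i : Fin k) : n i = 1 := by
  rw [← D.card i]
  have : orbit (stabilizer G x) (y i) = {y i} := by
    ext z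
    constructor
    · rintro ⟨h, rfl⟩
      obtain ⟨g, hg⟩ := D.mem i
      have hg' : g • x = y i := hg
      show (h : G) • y i = y i
      have h1 : g⁻¹ * (h : G) * g ∈ stabilizer G x := by
        have := hN.conj_mem (h : G) h.2 g⁻¹
        rwa [inv_inv] at this
      have h2 : (g⁻¹ * (h : G) * g) • x = x := h1
      rw [← hg', ← mul_smul]
      have : (h : G) * g = g * (g⁻¹ * (h : G) * g) := by group
      rw [this, mul_smul, h2]
    · rintro rfl
      exact mem_orbit_self _
  rw [this, Set.ncard_singleton]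

/-- the regular normal subgroup case is governed by element orders -/
theorem SubData.regular_case [Finite G] (D : SubData G x k y n)
    (N : Subgroup G) [hN : N.Normal] (hdisj : Disjoint N (stabilizer G x))
    (hsup : N ⊔ stabilizer G x = ⊤) :
    ∃ c : Fin k → ℕ, ∀ p, p.Prime → p ∣ (1 + ∑ i, n i) →
      p ∣ (∑ i ∈ Finset.univ.filter (fun i => c i = p), n i) + 1 := by
  classical
  -- freeness
  have hinj : ∀ a ∈ N, ∀ b ∈ N, a • x = b • x → a = b := by
    intro a ha b hb hab
    have h1 : (b⁻¹ * a) • x = x := by rw [mul_smul, hab, inv_smul_smul]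
    have h2 : b⁻¹ * a ∈ N ⊓ stabilizer G x := ⟨N.mul_mem (N.inv_mem hb) ha, h1⟩
    rw [hdisj.eq_bot, Subgroup.mem_bot] at h2
    calc a = b * (b⁻¹ * a) := by group
      _ = b := by rw [h2, mul_one]
  -- transitivity
  have hsurj : ∀ z ∈ orbit G x, ∃ a ∈ N, a • x = z := by
    rintro z ⟨g, rfl⟩
    have hg : g ∈ ((N ⊔ stabilizer G x : Subgroup G) : Set G) := by rw [hsup]; trivial
    rw [Subgroup.normal_mul] at hg
    obtain ⟨a, ha, h, hh, rfl⟩ := hg
    refine ⟨a, ha, ?_⟩
    show a • x = (a * h) • x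
    have : h • x = x := hh
    rw [mul_smul, this]
  -- the size of `N`
  have hcardN : Nat.card N = 1 + ∑ i, n i := by
    rw [← D.orbit_ncard]
    have hbij : Function.Bijective (fun a : N => (⟨(a : G) • x, ⟨a, rfl⟩⟩ : orbit G x)) := by
      constructor
      · intro a b hab
        have := congrArg Subtype.val hab
        exact Subtype.ext (hinj a a.2 b b.2 this)
      · rintro ⟨z, hz⟩
        obtain ⟨a, ha, haz⟩ := hsurj z hz
        exact ⟨⟨a, ha⟩, Subtype.ext haz⟩
    rw [Nat.card_congr (Equiv.ofBijective _ hbij)]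
    rfl
  -- the element of `N` reaching `y i`
  have hex : ∀ i, ∃ a ∈ N, a • x = y i := fun i => hsurj _ (D.mem i)
  choose m hmN hm using hex
  refine ⟨fun i => orderOf (m i), ?_⟩
  intro p hp hpd
  have : Fact p.Prime := ⟨hp⟩
  -- the images of the elements of order `p`
  let T : Set Ω := {z | ∃ a ∈ N, orderOf a = p ∧ a • x = z}
  have hTsub : T ⊆ orbit G x := by
    rintro z ⟨a, _, _, rfl⟩
    exact ⟨a, rfl⟩
  have hTx : x ∉ T := by
    rintro ⟨a, ha, hap, hax⟩
    have : a = 1 := hinj a ha 1 N.one_mem (by rw [hax, one_smul])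
    rw [this, orderOf_one] at hap
    exact hp.one_lt.ne hap
  have hTinv : ∀ h ∈ stabilizer G x, ∀ z ∈ T, h • z ∈ T := by
    rintro h hh z ⟨a, ha, hap, rfl⟩
    refine ⟨h * a * h⁻¹, hN.conj_mem a ha h, ?_, ?_⟩
    · have := (MulAut.conj h).orderOf_eq a
      rw [MulAut.conj_apply] at this
      rw [this, hap]
    · have hx : h⁻¹ • x = x := (inv_mem hh : h⁻¹ ∈ stabilizer G x)
      rw [mul_smul, mul_smul, hx]
  obtain ⟨I, hI, hmem⟩ := D.invariant_ncard T hTsub hTx hTinv
  have hIeq : I = Finset.univ.filter (fun i => orderOf (m i) = p) := by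
    ext i
    rw [hmem i]
    simp only [Finset.mem_filter, Finset.mem_univ, true_and]
    constructor
    · rintro ⟨a, ha, hap, hay⟩
      have : a = m i := hinj a ha (m i) (hmN i) (by rw [hay, hm i])
      rw [← this, hap]
    · intro h
      exact ⟨m i, hmN i, h, hm i⟩
  have hTcard : T.ncard = Nat.card {a : N // orderOf a = p} := by
    have hbij : Function.Bijective (fun a : {a : N // orderOf a = p} =>
        (⟨((a : N) : G) • x, ⟨a.1.1, a.1.2, by rw [Subgroup.orderOf_coe]; exact a.2, rfl⟩⟩ : T)) := by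
      constructor
      · intro a b hab
        have := congrArg Subtype.val hab
        exact Subtype.ext (Subtype.ext (hinj a.1.1 a.1.2 b.1.1 b.1.2 this))
      · rintro ⟨z, a, ha, hap, rfl⟩
        exact ⟨⟨⟨a, ha⟩, by rw [Subgroup.orderOf_mk]; exact hap⟩, rfl⟩
    rw [Nat.card_congr (Equiv.ofBijective _ hbij)]
    rfl
  have := card_orderOf_eq_prime_mod (G := N) p (by rw [hcardN]; exact hpd)
  rw [← hTcard, hI, hIeq] at this
  exact this

/-- simplicity from a simple point stabiliser and the arithmetic of the suborbit sizes -/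
theorem SubData.simple [Finite G] (D : SubData G x k y n)
    (hH : IsSimpleGroup (stabilizer G x))
    (hprim : ∀ I : Finset (Fin k), (1 + ∑ i ∈ I, n i) ∣ (1 + ∑ i, n i) →
      (∑ i ∈ I, n i = 0) ∨ (∑ i ∈ I, n i = ∑ i, n i))
    (hbig : ∃ i, n i ≠ 1)
    (hreg : ∀ c : Fin k → ℕ, ¬ ∀ p, p.Prime → p ∣ (1 + ∑ i, n i) →
      p ∣ (∑ i ∈ Finset.univ.filter (fun i => c i = p), n i) + 1) :
    IsSimpleGroup G := by
  have : Nontrivial G := by
    obtain ⟨a, b, hab⟩ := hH.toNontrivial
    exact ⟨⟨a.1, b.1, fun h => hab (Subtype.ext h)⟩⟩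
  refine ⟨fun N hN => ?_⟩
  have hM : (N.subgroupOf (stabilizer G x)).Normal := inferInstance
  rcases hH.eq_bot_or_eq_top_of_normal _ hM with hbot | htop
  · -- `N` meets the stabiliser trivially
    have hdisj : Disjoint N (stabilizer G x) := Subgroup.subgroupOf_eq_bot.mp hbot
    rcases D.maximal hprim (N ⊔ stabilizer G x) le_sup_right with h1 | h2
    · left
      have hle : N ≤ stabilizer G x := by rw [← h1]; exact le_sup_left
      exact hdisj.eq_bot_of_le hle
    · exfalso
      obtain ⟨c, hc⟩ := D.regular_case N hdisj h2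
      exact hreg c hc
  · -- `N` contains the stabiliser
    have hle : stabilizer G x ≤ N := Subgroup.subgroupOf_eq_top.mp htop
    rcases D.maximal hprim N hle with h1 | h2
    · exfalso
      obtain ⟨i, hi⟩ := hbig
      exact hi (D.normal_stab_trivial (h1 ▸ hN) i)
    · right; exact h2

end Cfsg.Agent.Lib.Helper1.PrimSimple
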