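import Mathlib
import Cfsg.Agent.Lib.Helper1.LeechGF4

set_option autoImplicit false

namespace Cfsg.Agent.Lib.Helper1.LeechGF

open Polynomial Cfsg LPoly

theorem ncard_SN_list (l : List ℤ) (N : ℕ) :
    {x : GolayPt → ℤ | x ∈ leechLattice ∧ sqNorm x = N ∧ ∀ i, x i ∈ l}.ncard =
      (SN l.toFinset N).card := by
  have hset : {x : GolayPt → ℤ | x ∈ leechLattice ∧ sqNorm x = N ∧ ∀ i, x i ∈ l} =
      ((SN l.toFinset N : Finset (GolayPt → ℤ)) : Set (GolayPt → ℤ)) := by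
    ext x
    rw [Finset.mem_coe, mem_SN]
    show (x ∈ leechLattice ∧ sqNorm x = N ∧ ∀ i, x i ∈ l) ↔ _
    constructor
    · rintro ⟨h1, h2, h3⟩
      exact ⟨fun i => List.mem_toFinset.mpr (h3 i), (mem_leechLattice_iff x).mp h1,
        (sum_wt_eq_iff x N).mpr h2⟩
    · rintro ⟨h3, h1, h2⟩
      exact ⟨(mem_leechLattice_iff x).mpr h1, (sum_wt_eq_iff x N).mp h2,
        fun i => List.mem_toFinset.mp (h3 i)⟩
  rw [hset, Set.ncard_coe_finset]

theorem SN_mono {A B : Finset ℤ} (h : A ⊆ B) (N : ℕ) : SN A N ⊆ SN B N := by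
  intro x hx
  rw [mem_SN] at hx ⊢
  exact ⟨fun i => h (hx.1 i), hx.2⟩

/-- vectors with some coordinate outside the sublist -/
theorem ncard_exists (l l' : List ℤ) (hsub : l'.toFinset ⊆ l.toFinset) (N : ℕ) (hN : N ≤ 64)
    (hl : ∀ v, -8 ≤ v ∧ v ≤ 8 → v ∈ l) :
    {x : GolayPt → ℤ | x ∈ leechLattice ∧ sqNorm x = N ∧ ∃ i, x i ∉ l'}.ncard =
      (SN l.toFinset N).card - (SN l'.toFinset N).card := by
  have hset : {x : GolayPt → ℤ | x ∈ leechLattice ∧ sqNorm x = N ∧ ∃ i, x i ∉ l'} =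
      ((SN l.toFinset N \ SN l'.toFinset N : Finset (GolayPt → ℤ)) : Set (GolayPt → ℤ)) := by
    ext x
    rw [Finset.mem_coe, Finset.mem_sdiff, mem_SN, mem_SN]
    show (x ∈ leechLattice ∧ sqNorm x = N ∧ ∃ i, x i ∉ l') ↔ _
    constructor
    · rintro ⟨h1, h2, i, h3⟩
      refine ⟨⟨fun j => List.mem_toFinset.mpr (hl _ (coord_bound h2 hN j)),
        (mem_leechLattice_iff x).mp h1, (sum_wt_eq_iff x N).mpr h2⟩, ?_⟩
      intro hcon
      exact h3 (List.mem_toFinset.mp (hcon.1 i))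
    · rintro ⟨⟨_, h1, h2⟩, h4⟩
      refine ⟨(mem_leechLattice_iff x).mpr h1, (sum_wt_eq_iff x N).mp h2, ?_⟩
      by_contra hcon
      push Not at hcon
      exact h4 ⟨fun i => List.mem_toFinset.mpr (hcon i), h1, h2⟩
  rw [hset, Set.ncard_coe_finset, Finset.card_sdiff_of_subset (SN_mono hsub N)]

def no4L : List ℤ := [-8, -7, -6, -5, -3, -2, -1, 0, 1, 2, 3, 5, 6, 7, 8]
def no5L : List ℤ := [-8, -7, -6, -4, -3, -2, -1, 0, 1, 2, 3, 4, 6, 7, 8]
def evL : List ℤ := [0, 2, -2]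
def oddL : List ℤ := [1, -1, 3, -3]

theorem card_full48 : (SN fullL.toFinset 48).card = 16773120 :=
  card_SN_eq fullL fullL_nodup 48 16773120 (by decide +kernel)

theorem card_no4 : (SN no4L.toFinset 48).card = 13664256 :=
  card_SN_eq no4L (by decide) 48 13664256 (by decide +kernel)

theorem card_no5 : (SN no5L.toFinset 48).card = 16674816 :=
  card_SN_eq no5L (by decide) 48 16674816 (by decide +kernel)

theorem card_ev : (SN evL.toFinset 48).card = 5275648 :=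
  card_SN_eq evL (by decide) 48 5275648 (by decide +kernel)

theorem card_odd : (SN oddL.toFinset 48).card = 8290304 :=
  card_SN_eq oddL (by decide) 48 8290304 (by decide +kernel)

end Cfsg.Agent.Lib.Helper1.LeechGF
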