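import Mathlib
import Cfsg.Agent.Lib.Helper1.LeechCross2
import Cfsg.Agent.Lib.Helper1.LeechGF5

set_option autoImplicit false
set_option maxRecDepth 100000
set_option linter.constructorNameAsVariable false

namespace Cfsg.Agent.Lib.Helper1.LeechCross

open Cfsg Cfsg.Agent.Lib.Helper1.LeechIndex Cfsg.Agent.Lib.Helper1.LeechGF

/-- the coordinate range -/
noncomputable def AA : Finset ℤ := fullL.toFinset

theorem AA_eq : AA = fullL.toFinset := rfl

/-- short lattice vectors -/
noncomputable def SS : Finset (GolayPt → ℤ) := SN AA 0 ∪ SN AA 32 ∪ SN AA 48 ∪ SN AA 64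

theorem mem_SN_AA (N : ℕ) (hN : N ≤ 64) (x : GolayPt → ℤ) :
    x ∈ SN AA N ↔ x ∈ leechLattice ∧ sqNorm x = N := by
  rw [mem_SN, mem_leechLattice_iff, sum_wt_eq_iff]
  constructor
  · rintro ⟨_, h1, h2⟩; exact ⟨h1, h2⟩
  · rintro ⟨h1, h2⟩
    refine ⟨fun i => ?_, h1, h2⟩
    rw [AA_eq, List.mem_toFinset, mem_fullL]
    exact coord_bound h2 hN i

theorem mem_SS (x : GolayPt → ℤ) : x ∈ SS ↔ x ∈ leechLattice ∧ sqNorm x ≤ 64 := by
  unfold SS
  simp only [Finset.mem_union, mem_SN_AA 0 (by norm_num), mem_SN_AA 32 (by norm_num),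
    mem_SN_AA 48 (by norm_num), mem_SN_AA 64 (by norm_num)]
  constructor
  · rintro (((h | h) | h) | h) <;> refine ⟨h.1, ?_⟩ <;> rw [h.2] <;> norm_num
  · rintro ⟨h1, h2⟩
    have hd := sqNorm_dvd ((mem_leechLattice_iff x).mp h1)
    have h0 := sqNorm_nonneg' x
    by_cases hx : x = 0
    · left; left; left
      refine ⟨h1, ?_⟩
      rw [hx]; unfold sqNorm; simp
    · have hge := sqNorm_ge_of_mem h1 hx
      obtain ⟨t, ht⟩ := hd
      have : t = 2 ∨ t = 3 ∨ t = 4 := by omega
      rcases this with rfl | rfl | rfl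
      · left; left; right; exact ⟨h1, by rw [ht]; norm_num⟩
      · left; right; exact ⟨h1, by rw [ht]; norm_num⟩
      · right; exact ⟨h1, by rw [ht]; norm_num⟩

/-- the weight of a short vector -/
noncomputable def mu (x : GolayPt → ℤ) : ℕ :=
  if sqNorm x = 0 then 48 else if sqNorm x = 64 then 1 else 24

theorem card_SN0 : (SN AA 0).card = 1 := by
  rw [Finset.card_eq_one]
  refine ⟨0, ?_⟩
  ext x
  rw [mem_SN_AA 0 (by norm_num), Finset.mem_singleton]
  constructor
  · rintro ⟨_, h⟩
    exact sqNorm_eq_zero (by simpa using h)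
  · rintro rfl
    refine ⟨leechLattice.zero_mem, ?_⟩
    unfold sqNorm
    simp
theorem card_SN32 : (SN AA 32).card = 196560 := by
  rw [AA_eq]
  exact card_SN_eq fullL fullL_nodup 32 196560 (by decide +kernel)
theorem card_SN48 : (SN AA 48).card = 16773120 := by
  rw [AA_eq]
  exact card_full48
theorem card_SN64 : (SN AA 64).card = 398034000 := by
  rw [AA_eq]
  exact card_SN_eq fullL fullL_nodup 64 398034000 (by decide +kernel)

theorem sum_mu_SN (N : ℕ) (hN : N ≤ 64) (c : ℕ)
    (hc : ∀ x : GolayPt → ℤ, sqNorm x = N → mu x = c) :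
    ∑ x ∈ SN AA N, mu x = (SN AA N).card * c := by
  have h : ∀ x ∈ SN AA N, mu x = c := fun x hx => hc x ((mem_SN_AA N hN x).mp hx).2
  rw [Finset.sum_congr rfl h, Finset.sum_const, smul_eq_mul]

theorem disj (N M : ℕ) (hN : N ≤ 64) (hM : M ≤ 64) (h : N ≠ M) :
    Disjoint (SN AA N) (SN AA M) := by
  rw [Finset.disjoint_left]
  intro x hx hy
  rw [mem_SN_AA N hN] at hx
  rw [mem_SN_AA M hM] at hy
  apply h
  have := hx.2.symm.trans hy.2
  exact_mod_cast this

theorem sum_mu_SS : ∑ x ∈ SS, mu x = 48 * 2 ^ 24 := by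
  unfold SS
  rw [Finset.sum_union, Finset.sum_union, Finset.sum_union]
  · rw [sum_mu_SN 0 (by norm_num) 48, sum_mu_SN 32 (by norm_num) 24,
      sum_mu_SN 48 (by norm_num) 24, sum_mu_SN 64 (by norm_num) 1,
      card_SN0, card_SN32, card_SN48, card_SN64]
    · norm_num
    · intro x hx; unfold mu; rw [hx]; norm_num
    · intro x hx; unfold mu; rw [hx]; norm_num
    · intro x hx; unfold mu; rw [hx]; norm_num
    · intro x hx; unfold mu; rw [hx]; norm_num
  · exact disj 0 32 (by norm_num) (by norm_num) (by norm_num)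
  · rw [Finset.disjoint_union_left]
    exact ⟨disj 0 48 (by norm_num) (by norm_num) (by norm_num),
      disj 32 48 (by norm_num) (by norm_num) (by norm_num)⟩
  · rw [Finset.disjoint_union_left, Finset.disjoint_union_left]
    exact ⟨⟨disj 0 64 (by norm_num) (by norm_num) (by norm_num),
      disj 32 64 (by norm_num) (by norm_num) (by norm_num)⟩,
      disj 48 64 (by norm_num) (by norm_num) (by norm_num)⟩

end Cfsg.Agent.Lib.Helper1.LeechCross
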