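import Mathlib
import Cfsg.Agent.Lib.Helper1.LeechCross3

set_option autoImplicit false
set_option maxRecDepth 100000
set_option linter.constructorNameAsVariable false

namespace Cfsg.Agent.Lib.Helper1.LeechCross

open Cfsg Cfsg.Agent.Lib.Helper1.LeechIndex Cfsg.Agent.Lib.Helper1.LeechGF

/-- the quotient of the ambient group by twice the lattice -/
abbrev QQq : Type := (GolayPt → ℤ) ⧸ twoL

/-- class of a vector -/
noncomputable def cl (x : GolayPt → ℤ) : QQq := QuotientAddGroup.mk x

theorem cl_eq_iff (x y : GolayPt → ℤ) : cl x = cl y ↔ x - y ∈ twoL := by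
  unfold cl
  rw [QuotientAddGroup.eq]
  constructor
  · intro h
    have := twoL.neg_mem h
    rwa [neg_add, neg_neg, ← sub_eq_add_neg] at this
  · intro h
    have := twoL.neg_mem h
    rwa [neg_sub, sub_eq_neg_add] at this

theorem mu_le (x : GolayPt → ℤ) : mu x ≤ 48 := by
  unfold mu
  split_ifs <;> norm_num

open Classical in
/-- the members of a class among the short vectors weigh at most 48 in total -/
theorem class_bound (q : QQq) : ∑ x ∈ SS.filter (fun x => cl x = q), mu x ≤ 48 := by
  set F := SS.filter (fun x => cl x = q) with hF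
  have hmem : ∀ x ∈ F, x ∈ leechLattice ∧ sqNorm x ≤ 64 ∧ cl x = q := by
    intro x hx
    rw [hF, Finset.mem_filter, mem_SS] at hx
    exact ⟨hx.1.1, hx.1.2, hx.2⟩
  have hpair : ∀ x ∈ F, ∀ y ∈ F, y = x ∨ y = -x ∨
      (sqNorm x = 64 ∧ sqNorm y = 64 ∧ dotInt x y = 0) := by
    intro x hx y hy
    obtain ⟨hx1, hx2, hx3⟩ := hmem x hx
    obtain ⟨hy1, hy2, hy3⟩ := hmem y hy
    by_cases h1 : y = x
    · exact Or.inl h1
    · by_cases h2 : y = -x
      · exact Or.inr (Or.inl h2)
      · right; right
        have hxy : x - y ∈ twoL := (cl_eq_iff x y).mp (hx3.trans hy3.symm)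
        exact short_congruent hx1 hy1 hx2 hy2 hxy h1 h2
  by_cases hall : ∀ x ∈ F, sqNorm x = 64
  · -- all of norm 64
    have h1 : ∑ x ∈ F, mu x = F.card := by
      rw [Finset.card_eq_sum_ones]
      apply Finset.sum_congr rfl
      intro x hx
      unfold mu
      rw [hall x hx]
      norm_num
    rw [h1]
    apply card_le_of_orth F hall
    intro x hx y hy
    rcases hpair x hx y hy with h | h | h
    · exact Or.inl h
    · exact Or.inr (Or.inl h)
    · exact Or.inr (Or.inr h.2.2)
  · push Not at hall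
    obtain ⟨x, hx, hxn⟩ := hall
    have hsub : F ⊆ {x, -x} := by
      intro y hy
      rw [Finset.mem_insert, Finset.mem_singleton]
      rcases hpair x hx y hy with h | h | h
      · exact Or.inl h
      · exact Or.inr h
      · exact absurd h.1 hxn
    have h1 : ∑ y ∈ F, mu y ≤ ∑ y ∈ ({x, -x} : Finset (GolayPt → ℤ)), mu y :=
      Finset.sum_le_sum_of_subset hsub
    refine h1.trans ?_
    by_cases hx0 : x = 0
    · rw [hx0, neg_zero, Finset.pair_eq_singleton, Finset.sum_singleton]
      exact mu_le 0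
    · have hne : x ≠ -x := by
        intro h
        apply hx0
        ext j
        have := congrFun h j
        rw [Pi.neg_apply] at this
        rw [Pi.zero_apply]
        omega
      rw [Finset.sum_pair hne]
      have hn0 : sqNorm x ≠ 0 := fun h => hx0 (sqNorm_eq_zero h)
      have e1 : mu x = 24 := by
        unfold mu
        rw [if_neg hn0, if_neg hxn]
      have e2 : mu (-x) = 24 := by
        unfold mu
        rw [sqNorm_neg, if_neg hn0, if_neg hxn]
      rw [e1, e2]

/-- the classes of lattice vectors -/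
noncomputable def TT : AddSubgroup QQq := leechLattice.map (QuotientAddGroup.mk' twoL)

theorem card_TT : Nat.card TT = 2 ^ 24 := by
  unfold TT
  rw [← AddSubgroup.relIndex_ker, QuotientAddGroup.ker_mk', relIndex_twoL]

theorem cl_mem_TT {x : GolayPt → ℤ} (hx : x ∈ leechLattice) : cl x ∈ TT :=
  ⟨x, hx, rfl⟩

open Classical in
theorem image_card_le : (SS.image cl).card ≤ 2 ^ 24 := by
  have hfin : Finite TT := Nat.finite_of_card_ne_zero (by rw [card_TT]; positivity)
  have hsub : ((SS.image cl : Finset QQq) : Set QQq) ⊆ (TT : Set QQq) := by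
    intro q hq
    rw [Finset.mem_coe, Finset.mem_image] at hq
    obtain ⟨x, hx, rfl⟩ := hq
    exact cl_mem_TT ((mem_SS x).mp hx).1
  have h1 := Set.ncard_le_ncard hsub (Set.toFinite _)
  rw [Set.ncard_coe_finset] at h1
  have h2 : (TT : Set QQq).ncard = 2 ^ 24 := by
    rw [← card_TT]
    exact (Nat.card_coe_set_eq _).symm
  omega

open Classical in
/-- every class sum is exactly 48, and every class of lattice vectors is represented -/
theorem class_sum_eq : (SS.image cl).card = 2 ^ 24 ∧
    ∀ q ∈ SS.image cl, ∑ x ∈ SS.filter (fun x => cl x = q), mu x = 48 := by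
  have h1 : ∑ x ∈ SS, mu x = ∑ q ∈ SS.image cl, ∑ x ∈ SS.filter (fun x => cl x = q), mu x :=
    (Finset.sum_fiberwise_of_maps_to (fun x hx => Finset.mem_image_of_mem cl hx) mu).symm
  rw [sum_mu_SS] at h1
  have h2 : ∑ q ∈ SS.image cl, ∑ x ∈ SS.filter (fun x => cl x = q), mu x ≤
      ∑ _q ∈ SS.image cl, 48 := Finset.sum_le_sum (fun q _ => class_bound q)
  have h3 := image_card_le
  rw [Finset.sum_const, smul_eq_mul] at h2
  have hcard : (SS.image cl).card = 2 ^ 24 := by
    have : 48 * 2 ^ 24 ≤ (SS.image cl).card * 48 := by rw [h1]; exact h2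
    omega
  refine ⟨hcard, ?_⟩
  have h4 : ∑ q ∈ SS.image cl, ∑ x ∈ SS.filter (fun x => cl x = q), mu x =
      ∑ _q ∈ SS.image cl, 48 := by
    rw [Finset.sum_const, smul_eq_mul, hcard, ← h1]
    ring
  exact (Finset.sum_eq_sum_iff_of_le (fun q _ => class_bound q)).mp h4

open Classical in
theorem image_eq_TT : ((SS.image cl : Finset QQq) : Set QQq) = (TT : Set QQq) := by
  have hfin : Finite TT := Nat.finite_of_card_ne_zero (by rw [card_TT]; positivity)
  have hsub : ((SS.image cl : Finset QQq) : Set QQq) ⊆ (TT : Set QQq) := by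
    intro q hq
    rw [Finset.mem_coe, Finset.mem_image] at hq
    obtain ⟨x, hx, rfl⟩ := hq
    exact cl_mem_TT ((mem_SS x).mp hx).1
  apply Set.eq_of_subset_of_ncard_le hsub _ (Set.toFinite _)
  rw [Set.ncard_coe_finset, class_sum_eq.1]
  have h2 : (TT : Set QQq).ncard = 2 ^ 24 := by
    rw [← card_TT]
    exact (Nat.card_coe_set_eq _).symm
  omega

/-- every lattice vector is congruent modulo twice the lattice to a short one -/
theorem exists_short {x : GolayPt → ℤ} (hx : x ∈ leechLattice) :
    ∃ y ∈ leechLattice, sqNorm y ≤ 64 ∧ x - y ∈ twoL := by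
  classical
  have h1 : cl x ∈ (TT : Set QQq) := cl_mem_TT hx
  rw [← image_eq_TT, Finset.mem_coe, Finset.mem_image] at h1
  obtain ⟨y, hy, hyx⟩ := h1
  rw [mem_SS] at hy
  exact ⟨y, hy.1, hy.2, (cl_eq_iff x y).mp hyx.symm⟩

open Classical in
/-- the class of a vector of norm 64 has exactly 48 short members, all of norm 64 -/
theorem class_card {x : GolayPt → ℤ} (hx : x ∈ leechLattice) (hn : sqNorm x = 64) :
    (SS.filter (fun y => cl y = cl x)).card = 48 ∧
      ∀ y ∈ SS.filter (fun y => cl y = cl x), sqNorm y = 64 := by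
  have hxS : x ∈ SS := (mem_SS x).mpr ⟨hx, by rw [hn]⟩
  have hq : cl x ∈ SS.image cl := Finset.mem_image_of_mem cl hxS
  have hsum := class_sum_eq.2 (cl x) hq
  have hall : ∀ y ∈ SS.filter (fun y => cl y = cl x), sqNorm y = 64 := by
    intro y hy
    rw [Finset.mem_filter, mem_SS] at hy
    by_contra hyn
    have hxy : y - x ∈ twoL := (cl_eq_iff y x).mp hy.2
    by_cases h1 : x = y
    · rw [← h1] at hyn; exact hyn hn
    · by_cases h2 : x = -y
      · rw [h2, sqNorm_neg] at hn; exact hyn hn
      · have := short_congruent hy.1.1 hx hy.1.2 (by rw [hn]) hxy h1 h2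
        exact hyn this.1
  refine ⟨?_, hall⟩
  have h1 : ∑ y ∈ SS.filter (fun y => cl y = cl x), mu y =
      (SS.filter (fun y => cl y = cl x)).card := by
    rw [Finset.card_eq_sum_ones]
    apply Finset.sum_congr rfl
    intro y hy
    unfold mu
    rw [hall y hy]
    norm_num
  rw [← h1, hsum]

end Cfsg.Agent.Lib.Helper1.LeechCross
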