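import Mathlib
import Cfsg.Prelude.Def_SporadicCombinatorics
import Cfsg.Agent.Lib.Helper1.LeechGen2

set_option autoImplicit false

namespace Cfsg.Agent.Lib.Helper1.LeechMono

open Cfsg Cfsg.Agent.Lib.Helper1.LeechCross Cfsg.Agent.Lib.Helper1.LeechAut
  Cfsg.Agent.Lib.Helper1.LeechGen
open scoped Pointwise

theorem uu_eq_single (i : GolayPt) : uu i = Pi.single i 8 := by
  ext j
  unfold uu
  rw [Pi.single_apply]

theorem neg_uu_eq_single (i : GolayPt) : -uu i = Pi.single i (-8) := by
  ext j
  rw [Pi.neg_apply]
  unfold uu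
  rw [Pi.single_apply]
  split_ifs <;> simp

theorem mem_stdCross_iff (y : GolayPt → ℤ) : y ∈ stdCross ↔ ∃ i, y = uu i ∨ y = -uu i := by
  constructor
  · rintro ⟨i, s, hs | hs, rfl⟩
    · exact ⟨i, Or.inl (by rw [hs, uu_eq_single])⟩
    · exact ⟨i, Or.inr (by rw [hs, neg_uu_eq_single])⟩
  · rintro ⟨i, h | h⟩
    · exact ⟨i, 8, Or.inl rfl, by rw [h, uu_eq_single]⟩
    · exact ⟨i, -8, Or.inr rfl, by rw [h, neg_uu_eq_single]⟩

theorem uu_mem_stdCross (i : GolayPt) : uu i ∈ stdCross := (mem_stdCross_iff _).mpr ⟨i, Or.inl rfl⟩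

theorem dotInt_uu_uu (i j : GolayPt) : dotInt (uu i) (uu j) = if j = i then 64 else 0 := by
  rw [dotInt_uu]
  unfold uu
  split_ifs <;> norm_num

theorem dotInt_comm (x y : GolayPt → ℤ) : dotInt x y = dotInt y x := by
  unfold dotInt
  exact Finset.sum_congr rfl (fun i _ => mul_comm _ _)

theorem uu_ne_neg_uu (i : GolayPt) : uu i ≠ -uu i := by
  intro h
  have := congrFun h i
  rw [Pi.neg_apply] at this
  unfold uu at this
  simp at this

/-- twice the indicator of a set -/
def ind2 (C : Finset GolayPt) : GolayPt → ℤ := fun p => if p ∈ C then 2 else 0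

theorem lvl_ind2_two (C : Finset GolayPt) : lvl (ind2 C) 2 = C := by
  ext p
  rw [mem_lvl_iff]
  unfold ind2
  split_ifs with h <;> simp [h]

theorem ind2_mem {C : Finset GolayPt} (hC : C ∈ gC) : ind2 C ∈ leechLattice := by
  rw [mem_leechLattice_iff]
  refine ⟨0, fun p => ?_, ?_, fun k => ?_⟩
  · unfold ind2; split_ifs <;> decide
  · have : ∑ p, ind2 C p = 2 * (C.card : ℤ) := by
      unfold ind2
      rw [Finset.sum_ite_mem, Finset.univ_inter, Finset.sum_const]
      simp [mul_comm]
    rw [this]
    obtain ⟨t, ht⟩ := gC_card_dvd hC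
    rw [ht]
    push_cast
    simp only [Int.ModEq]
    omega
  · -- the level sets
    have hk : k % 4 = 0 ∨ k % 4 = 1 ∨ k % 4 = 2 ∨ k % 4 = 3 := by omega
    have key : ∀ S : Finset GolayPt, (∀ p, p ∈ S ↔ ind2 C p % 4 = k % 4) →
        (Finset.univ.filter fun i => ind2 C i ≡ k [ZMOD 4]) = S := by
      intro S hS
      ext p
      rw [Finset.mem_filter, hS p]
      simp [Int.ModEq]
    rcases hk with h | h | h | h
    · rw [key Cᶜ]
      · exact gC_compl hC
      · intro p
        rw [Finset.mem_compl, h]
        unfold ind2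
        split_ifs with hp <;> simp [hp]
    · rw [key ∅]
      · exact gC_empty
      · intro p
        rw [h]
        unfold ind2
        split_ifs with hp <;> simp
    · rw [key C]
      · exact hC
      · intro p
        rw [h]
        unfold ind2
        split_ifs with hp <;> simp [hp]
    · rw [key ∅]
      · exact gC_empty
      · intro p
        rw [h]
        unfold ind2
        split_ifs with hp <;> simp

theorem signedPerm_apply (σ : Equiv.Perm GolayPt) (c : Finset GolayPt) (x : GolayPt → ℤ)
    (p : GolayPt) : signedPerm σ c x p = if p ∈ c then -x (σ.symm p) else x (σ.symm p) := rfl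

/-- an automorphism mapping the standard cross into itself is monomial -/
theorem monomial_of_preserves (g : Co0)
    (h : ∀ v : leechLattice, (v : GolayPt → ℤ) ∈ stdCross →
      ((g • v : leechLattice) : GolayPt → ℤ) ∈ stdCross) :
    ∃ σ ∈ M24, ∃ c ∈ gC, ∀ v : leechLattice,
      ((g • v : leechLattice) : GolayPt → ℤ) = signedPerm σ c v := by
  classical
  have h1 : ∀ i, ∃ j, ((g • UU i : leechLattice) : GolayPt → ℤ) = uu j ∨
      ((g • UU i : leechLattice) : GolayPt → ℤ) = -uu j := fun i =>
    (mem_stdCross_iff _).mp (h (UU i) (uu_mem_stdCross i))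
  choose π hπ using h1
  have hdot : ∀ v w : leechLattice, dotInt ((g • v : leechLattice) : GolayPt → ℤ)
      ((g • w : leechLattice) : GolayPt → ℤ) = dotInt (v : GolayPt → ℤ) w :=
    fun v w => dot_preserved g.2 v w
  have hinj : Function.Injective π := by
    intro i j hij
    by_contra hne
    have h2 := hdot (UU i) (UU j)
    have h3 : dotInt ((UU i : leechLattice) : GolayPt → ℤ) (UU j) = 0 := by
      show dotInt (uu i) (uu j) = 0
      rw [dotInt_uu_uu, if_neg (fun e => hne e.symm)]
    rw [h3] at h2
    have h4 : dotInt (uu (π j)) (uu (π j)) = 64 := by rw [dotInt_uu_uu, if_pos rfl]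
    rcases hπ i with a | a <;> rcases hπ j with b | b <;> rw [a, b, hij] at h2
    · rw [h4] at h2; norm_num at h2
    · rw [dotInt_neg_right, h4] at h2; norm_num at h2
    · rw [dotInt_neg_left, h4] at h2; norm_num at h2
    · rw [dotInt_neg_left, dotInt_neg_right, h4] at h2; norm_num at h2
  have hbij : Function.Bijective π := Finite.injective_iff_bijective.mp hinj
  let σ : Equiv.Perm GolayPt := Equiv.ofBijective π hbij
  have hσ : ∀ i, σ i = π i := fun i => rfl
  -- coordinates of images
  have hcoord : ∀ (v : leechLattice) (i : GolayPt),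
      (((g • UU i : leechLattice) : GolayPt → ℤ) = uu (π i) →
        ((g • v : leechLattice) : GolayPt → ℤ) (π i) = (v : GolayPt → ℤ) i) ∧
      (((g • UU i : leechLattice) : GolayPt → ℤ) = -uu (π i) →
        ((g • v : leechLattice) : GolayPt → ℤ) (π i) = -(v : GolayPt → ℤ) i) := by
    intro v i
    have h2 := hdot v (UU i)
    have h3 : dotInt (v : GolayPt → ℤ) ((UU i : leechLattice) : GolayPt → ℤ) =
        8 * (v : GolayPt → ℤ) i := dotInt_uu _ i
    rw [h3] at h2
    constructor
    · intro a
      rw [a, dotInt_uu] at h2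
      omega
    · intro a
      rw [a, dotInt_neg_right, dotInt_uu] at h2
      omega
  let c : Finset GolayPt := Finset.univ.filter
    (fun p => ((g • UU (σ.symm p) : leechLattice) : GolayPt → ℤ) = -uu p)
  have hform : ∀ v : leechLattice,
      ((g • v : leechLattice) : GolayPt → ℤ) = signedPerm σ c v := by
    intro v
    ext p
    rw [signedPerm_apply]
    have hp : π (σ.symm p) = p := by rw [← hσ]; exact σ.apply_symm_apply p
    by_cases hc : p ∈ c
    · rw [if_pos hc]
      have hc' : ((g • UU (σ.symm p) : leechLattice) : GolayPt → ℤ) = -uu p :=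
        (Finset.mem_filter.mp hc).2
      have := (hcoord v (σ.symm p)).2 (by rw [hp]; exact hc')
      rw [hp] at this
      exact this
    · rw [if_neg hc]
      have hc' : ¬ ((g • UU (σ.symm p) : leechLattice) : GolayPt → ℤ) = -uu p := by
        intro e; exact hc (Finset.mem_filter.mpr ⟨Finset.mem_univ p, e⟩)
      have hpos : ((g • UU (σ.symm p) : leechLattice) : GolayPt → ℤ) = uu (π (σ.symm p)) := by
        rcases hπ (σ.symm p) with a | a
        · exact a
        · rw [hp] at a; exact absurd a hc'
      have := (hcoord v (σ.symm p)).1 hpos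
      rw [hp] at this
      exact this
  -- the permutation preserves the code
  have hσM : σ ∈ M24 := by
    show σ ∈ MulAction.stabilizer (Equiv.Perm GolayPt)
      (supports (golayCode : Set (GolayPt → ZMod 2)))
    rw [MulAction.mem_stabilizer_set' (Set.toFinite _)]
    intro C hC
    have hm : ((g • (⟨ind2 C, ind2_mem hC⟩ : leechLattice) : leechLattice) : GolayPt → ℤ) ∈
        leechLattice := (g • (⟨ind2 C, ind2_mem hC⟩ : leechLattice)).2
    rw [hform] at hm
    obtain ⟨m, _, _, h3⟩ := (mem_leechLattice_iff _).mp hm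
    have h4 : lvl (signedPerm σ c (ind2 C)) 2 ∈ gC := h3 2
    have : lvl (signedPerm σ c (ind2 C)) 2 = σ • C := by
      ext p
      rw [mem_lvl_iff, signedPerm_apply, Finset.mem_smul_finset]
      have e : (∃ y ∈ C, σ • y = p) ↔ σ.symm p ∈ C := by
        constructor
        · rintro ⟨y, hy, rfl⟩
          rw [Equiv.Perm.smul_def, Equiv.symm_apply_apply]; exact hy
        · intro hy
          exact ⟨σ.symm p, hy, by rw [Equiv.Perm.smul_def, Equiv.apply_symm_apply]⟩
      rw [e]
      unfold ind2
      by_cases hq : σ.symm p ∈ C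
      · simp only [hq, if_true, iff_true]
        split_ifs <;> norm_num
      · simp only [hq, if_false, iff_false]
        split_ifs <;> norm_num
    rw [this] at h4
    exact h4
  -- the sign set is a code word
  have hcC : c ∈ gC := by
    have hm : ((g • (⟨w₀, w₀_mem_Mn.1⟩ : leechLattice) : leechLattice) : GolayPt → ℤ) ∈
        leechLattice := (g • (⟨w₀, w₀_mem_Mn.1⟩ : leechLattice)).2
    rw [hform] at hm
    obtain ⟨m, _, _, h3⟩ := (mem_leechLattice_iff _).mp hm
    have h4 : lvl (signedPerm σ c w₀) 3 ∈ gC := h3 3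
    have : lvl (signedPerm σ c w₀) 3 = c := by
      ext p
      rw [mem_lvl_iff, signedPerm_apply]
      show (if p ∈ c then -w₀ (σ.symm p) else w₀ (σ.symm p)) % 4 = 3 % 4 ↔ p ∈ c
      unfold w₀
      by_cases hp : p ∈ c
      · simp only [hp, if_true, iff_true]
        split_ifs <;> norm_num
      · simp only [hp, if_false, iff_false]
        split_ifs <;> norm_num
    rw [this] at h4
    exact h4
  exact ⟨σ, hσM, c, hcC, hform⟩

end Cfsg.Agent.Lib.Helper1.LeechMono
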