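import Mathlib
import Cfsg.Agent.Lib.Helper1.LeechMono1

set_option autoImplicit false

namespace Cfsg.Agent.Lib.Helper1.LeechMono

open Cfsg Cfsg.Agent.Lib.Helper1.LeechCross Cfsg.Agent.Lib.Helper1.LeechAut
  Cfsg.Agent.Lib.Helper1.LeechGen
open scoped Pointwise

/-- the property of mapping the standard cross into itself -/
def Pres (g : Co0) : Prop :=
  ∀ v : leechLattice, (v : GolayPt → ℤ) ∈ stdCross →
    ((g • v : leechLattice) : GolayPt → ℤ) ∈ stdCross

theorem ncard_gC : (gC : Set (Finset GolayPt)).ncard = 4096 := by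
  show (supports (golayCode : Set (GolayPt → ZMod 2))).ncard = 4096
  rw [supports_golayCode_eq, Set.InjOn.ncard_image support_cw_injOn, set_lt_eq,
    Set.ncard_coe_finset, Finset.card_range]

/-- the monomial automorphism with given permutation and sign set -/
noncomputable def mono (c : gC) (σ : M24) : Co0 :=
  epsC c.1 c.2 * permC (σ.1)⁻¹ (M24.inv_mem σ.2)

theorem mono_apply (c : gC) (σ : M24) (v : leechLattice) :
    ((mono c σ • v : leechLattice) : GolayPt → ℤ) = signedPerm σ.1 c.1 v := by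
  unfold mono
  rw [mul_smul, epsC_apply, permC_apply]
  rfl

theorem signedPerm_uu (σ : Equiv.Perm GolayPt) (c : Finset GolayPt) (i : GolayPt) :
    signedPerm σ c (uu i) = if σ i ∈ c then -uu (σ i) else uu (σ i) := by
  ext p
  rw [signedPerm_apply]
  have e : uu i (σ.symm p) = uu (σ i) p := by
    unfold uu
    have : (σ.symm p = i) ↔ (p = σ i) := by
      constructor
      · intro h; rw [← h, Equiv.apply_symm_apply]
      · intro h; rw [h, Equiv.symm_apply_apply]
    simp only [this]
  rw [e]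
  by_cases hp : p = σ i
  · subst hp
    split_ifs <;> rfl
  · have : uu (σ i) p = 0 := by unfold uu; rw [if_neg hp]
    split_ifs <;> simp [this]

theorem signedPerm_neg (σ : Equiv.Perm GolayPt) (c : Finset GolayPt) (x : GolayPt → ℤ) :
    signedPerm σ c (-x) = -signedPerm σ c x := by
  ext p
  rw [Pi.neg_apply, signedPerm_apply, signedPerm_apply]
  simp only [Pi.neg_apply]
  split_ifs <;> ring

theorem mono_pres (c : gC) (σ : M24) : Pres (mono c σ) := by
  intro v hv
  rw [mono_apply]
  obtain ⟨i, h | h⟩ := (mem_stdCross_iff _).mp hv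
  · rw [h, signedPerm_uu, mem_stdCross_iff]
    refine ⟨σ.1 i, ?_⟩
    split_ifs
    · exact Or.inr rfl
    · exact Or.inl rfl
  · rw [h, signedPerm_neg, signedPerm_uu, mem_stdCross_iff]
    refine ⟨σ.1 i, ?_⟩
    split_ifs
    · exact Or.inl (neg_neg _)
    · exact Or.inr rfl

theorem uu_apply_self (i : GolayPt) : uu i i = 8 := by unfold uu; rw [if_pos rfl]

theorem uu_apply_ne {i j : GolayPt} (h : j ≠ i) : uu i j = 0 := by unfold uu; rw [if_neg h]

theorem mono_injective : Function.Injective (fun p : gC × M24 => mono p.1 p.2) := by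
  rintro ⟨c, σ⟩ ⟨c', σ'⟩ h
  have h1 : ∀ i, (if σ.1 i ∈ c.1 then -uu (σ.1 i) else uu (σ.1 i)) =
      (if σ'.1 i ∈ c'.1 then -uu (σ'.1 i) else uu (σ'.1 i)) := by
    intro i
    have h2 := congrArg (fun g : Co0 => ((g • UU i : leechLattice) : GolayPt → ℤ)) h
    simp only [mono_apply] at h2
    have h3 : ((UU i : leechLattice) : GolayPt → ℤ) = uu i := rfl
    rw [h3, signedPerm_uu, signedPerm_uu] at h2
    exact h2
  have hσ : ∀ i, σ.1 i = σ'.1 i := by
    intro i
    by_contra hne
    have := congrFun (h1 i) (σ.1 i)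
    have e0 : uu (σ'.1 i) (σ.1 i) = 0 := uu_apply_ne hne
    split_ifs at this <;> simp [uu_apply_self, e0] at this
  have hσ' : σ = σ' := Subtype.ext (Equiv.ext hσ)
  subst hσ'
  have hc : c = c' := by
    apply Subtype.ext
    ext p
    have := congrFun (h1 (σ.1.symm p)) p
    rw [Equiv.apply_symm_apply] at this
    split_ifs at this with a b b
    · exact ⟨fun _ => b, fun _ => a⟩
    · simp [uu_apply_self] at this
    · simp [uu_apply_self] at this
    · exact ⟨fun x => absurd x a, fun x => absurd x b⟩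
  rw [hc]

theorem mono_surjective (g : Co0) (hg : Pres g) : ∃ p : gC × M24, mono p.1 p.2 = g := by
  obtain ⟨σ, hσ, c, hc, hform⟩ := monomial_of_preserves g hg
  refine ⟨(⟨c, hc⟩, ⟨σ, hσ⟩), ?_⟩
  apply Subtype.ext
  apply Equiv.ext
  intro v
  apply Subtype.ext
  have := mono_apply ⟨c, hc⟩ ⟨σ, hσ⟩ v
  rw [← hform v] at this
  exact this

theorem card_pres : Nat.card {g : Co0 // Pres g} = 4096 * 244823040 := by
  let Φ : gC × M24 → {g : Co0 // Pres g} := fun p => ⟨mono p.1 p.2, mono_pres p.1 p.2⟩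
  have hΦ : Function.Bijective Φ := by
    constructor
    · intro p q h
      exact mono_injective (congrArg Subtype.val h)
    · rintro ⟨g, hg⟩
      obtain ⟨p, hp⟩ := mono_surjective g hg
      exact ⟨p, Subtype.ext hp⟩
  rw [← Nat.card_congr (Equiv.ofBijective Φ hΦ), Nat.card_prod,
    Cfsg.Agent.Lib.Helper1.M24.card_M24]
  congr 1
  rw [Nat.card_coe_set_eq]
  exact ncard_gC

end Cfsg.Agent.Lib.Helper1.LeechMono
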