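import Mathlib
import Cfsg.Agent.Lib.Helper1.LeechMono2
import Cfsg.Agent.Lib.Helper1.LeechCross4
import Cfsg.Agent.Lib.Helper1.LeechConn

set_option autoImplicit false
set_option maxRecDepth 100000
set_option linter.constructorNameAsVariable false

namespace Cfsg.Agent.Lib.Helper1.LeechMono

open Cfsg Cfsg.Agent.Lib.Helper1.LeechCross Cfsg.Agent.Lib.Helper1.LeechAut
  Cfsg.Agent.Lib.Helper1.LeechGen Cfsg.Agent.Lib.Helper1.LeechIndex
open scoped Pointwise

/-- the vectors of the standard cross, indexed -/
def crossVec (p : GolayPt × Bool) : GolayPt → ℤ := if p.2 then uu p.1 else -uu p.1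

theorem crossVec_mem (p : GolayPt × Bool) : crossVec p ∈ leechLattice := by
  unfold crossVec
  split_ifs
  · exact uu_mem _
  · exact leechLattice.neg_mem (uu_mem _)

theorem crossVec_injective : Function.Injective crossVec := by
  rintro ⟨i, b⟩ ⟨j, b'⟩ h
  have hi := congrFun h i
  unfold crossVec at hi
  simp only at hi
  have hij : i = j := by
    by_contra hne
    have e0 : uu j i = 0 := uu_apply_ne hne
    cases b <;> cases b' <;> simp [uu_apply_self, e0] at hi
  subst hij
  cases b <;> cases b' <;> simp [uu_apply_self] at hi ⊢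

theorem mem_stdCross_iff' (y : GolayPt → ℤ) : y ∈ stdCross ↔ ∃ p, crossVec p = y := by
  rw [mem_stdCross_iff]
  constructor
  · rintro ⟨i, h | h⟩
    · exact ⟨(i, true), by rw [h]; rfl⟩
    · exact ⟨(i, false), by rw [h]; rfl⟩
  · rintro ⟨⟨i, b⟩, rfl⟩
    cases b
    · exact ⟨i, Or.inr rfl⟩
    · exact ⟨i, Or.inl rfl⟩

/-- the standard cross as a finset -/
noncomputable def TT48 : Finset (GolayPt → ℤ) := Finset.univ.image crossVec

theorem TT48_card : TT48.card = 48 := by
  unfold TT48
  rw [Finset.card_image_of_injective _ crossVec_injective, Finset.card_univ]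
  simp

theorem mem_TT48 (y : GolayPt → ℤ) : y ∈ TT48 ↔ y ∈ stdCross := by
  unfold TT48
  rw [Finset.mem_image, mem_stdCross_iff']
  simp

theorem sqNorm_crossVec (p : GolayPt × Bool) : sqNorm (crossVec p) = 64 := by
  unfold crossVec
  split_ifs
  · exact sqNorm_uu _
  · rw [sqNorm_neg]; exact sqNorm_uu _

theorem two_pm (s : ℤ) (i : GolayPt) (p : GolayPt) :
    dbl (pm s i none) p = uu i p + s * uu none p := by
  rw [dbl_apply]
  unfold pm uu
  split_ifs <;> ring

/-- the vectors of the standard cross are congruent modulo twice the lattice -/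
theorem crossVec_cl (p : GolayPt × Bool) : cl (crossVec p) = cl (uu none) := by
  rw [cl_eq_iff, mem_twoL]
  obtain ⟨i, b⟩ := p
  by_cases hi : i = none
  · subst hi
    cases b
    · refine ⟨-uu none, leechLattice.neg_mem (uu_mem _), ?_⟩
      ext q
      show dbl (-uu none) q = (-uu none - uu none) q
      rw [dbl_apply]
      simp only [Pi.neg_apply, Pi.sub_apply]
      ring
    · refine ⟨0, leechLattice.zero_mem, ?_⟩
      show dbl 0 = uu none - uu none
      rw [map_zero, sub_self]
  · cases b
    · refine ⟨-pm 1 i none, leechLattice.neg_mem (pm_mem_Mn 1 (Or.inl rfl) i none hi).1, ?_⟩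
      ext q
      show dbl (-pm 1 i none) q = (-uu i - uu none) q
      rw [map_neg, Pi.neg_apply, two_pm]
      simp only [Pi.neg_apply, Pi.sub_apply]
      ring
    · refine ⟨pm (-1) i none, (pm_mem_Mn (-1) (Or.inr rfl) i none hi).1, ?_⟩
      ext q
      show dbl (pm (-1) i none) q = (uu i - uu none) q
      rw [two_pm]
      simp only [Pi.sub_apply]
      ring

open Classical in
/-- the class of the standard cross -/
theorem class_eq : SS.filter (fun y => cl y = cl (uu none)) = TT48 := by
  symm
  apply Finset.eq_of_subset_of_card_le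
  · intro y hy
    unfold TT48 at hy
    rw [Finset.mem_image] at hy
    obtain ⟨p, -, rfl⟩ := hy
    rw [Finset.mem_filter, mem_SS]
    exact ⟨⟨crossVec_mem p, by rw [sqNorm_crossVec]⟩, crossVec_cl p⟩
  · rw [(class_card (uu_mem none) (sqNorm_uu none)).1, TT48_card]

theorem map_sub' {g : Equiv.Perm leechLattice} (hg : g ∈ Co0) (v w : leechLattice) :
    g (v - w) = g v - g w := by
  rw [sub_eq_add_neg, hg.1, map_neg' hg, ← sub_eq_add_neg]

open Classical in
/-- an automorphism fixing a vector of the standard cross preserves the cross -/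
theorem pres_of_fix (g : Co0) (hg : g • UU none = UU none) : Pres g := by
  intro v hv
  rw [← mem_TT48, ← class_eq, Finset.mem_filter, mem_SS]
  have hvn : sqNorm (v : GolayPt → ℤ) = 64 := by
    obtain ⟨p, hp⟩ := (mem_stdCross_iff' _).mp hv
    rw [← hp, sqNorm_crossVec]
  have hn : sqNorm ((g • v : leechLattice) : GolayPt → ℤ) = 64 := by
    rw [← hvn]; exact g.2.2 v
  refine ⟨⟨(g • v).2, by rw [hn]⟩, ?_⟩
  -- congruence
  have hcl : cl (v : GolayPt → ℤ) = cl (uu none) := by
    obtain ⟨p, hp⟩ := (mem_stdCross_iff' _).mp hv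
    rw [← hp]; exact crossVec_cl p
  rw [cl_eq_iff, mem_twoL] at hcl ⊢
  obtain ⟨z, hz, hzd⟩ := hcl
  refine ⟨((g • (⟨z, hz⟩ : leechLattice) : leechLattice) : GolayPt → ℤ),
    (g • (⟨z, hz⟩ : leechLattice)).2, ?_⟩
  have h1 : v - UU none = (⟨z, hz⟩ : leechLattice) + ⟨z, hz⟩ := by
    apply Subtype.ext
    show (v : GolayPt → ℤ) - uu none = z + z
    rw [← hzd, dbl_eq]
  have h2 : g.1 (v - UU none) = g.1 v - g.1 (UU none) := map_sub' g.2 v (UU none)
  have h3 : g.1 (UU none) = UU none := hg
  rw [h1, g.2.1, h3] at h2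
  have h4 := congrArg (fun w : leechLattice => (w : GolayPt → ℤ)) h2
  simp only [AddSubgroup.coe_add, AddSubgroup.coe_sub] at h4
  rw [dbl_eq]
  exact h4

/-- the monomial subgroup -/
noncomputable def NN : Subgroup Co0 where
  carrier := {g | Pres g}
  one_mem' := fun v hv => by rw [one_smul]; exact hv
  mul_mem' := by
    intro a b ha hb v hv
    rw [mul_smul]
    exact ha _ (hb v hv)
  inv_mem' := by
    intro g hg v hv
    -- the action on the finite set of cross vectors is bijective
    let X : Set leechLattice := {w | (w : GolayPt → ℤ) ∈ stdCross}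
    have hXfin : X.Finite := by
      have : X ⊆ Set.range (fun p : GolayPt × Bool => (⟨crossVec p, crossVec_mem p⟩ : leechLattice)) := by
        intro w hw
        obtain ⟨p, hp⟩ := (mem_stdCross_iff' _).mp hw
        exact ⟨p, Subtype.ext hp⟩
      exact (Set.finite_range _).subset this
    have hmaps : Set.MapsTo (fun w => g • w) X X := fun w hw => hg w hw
    have hinj : Set.InjOn (fun w => g • w) X := fun a _ b _ h => smul_left_cancel g h
    have hbij := (hXfin.injOn_iff_bijOn_of_mapsTo hmaps).mp hinj
    obtain ⟨u, hu, huv⟩ := hbij.surjOn hv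
    have : g⁻¹ • v = u := by
      rw [← huv]
      exact inv_smul_smul g u
    rw [this]
    exact hu

theorem mem_NN (g : Co0) : g ∈ NN ↔ Pres g := Iff.rfl

theorem card_NN : Nat.card NN = 4096 * 244823040 := card_pres

end Cfsg.Agent.Lib.Helper1.LeechMono
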