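import Mathlib
import Cfsg.Agent.Lib.Helper1.LeechShape48

set_option autoImplicit false

namespace Cfsg.Agent.Lib.Helper1.LeechShape

open Cfsg Cfsg.Agent.Lib.Helper1.LeechCross

/-- shape (±8, 0^23) -/
def ShE1 (x : GolayPt → ℤ) : Prop :=
  ∃ i, (x i = 8 ∨ x i = -8) ∧ ∀ p, p ≠ i → x p = 0

/-- shape (±4^4, 0^20) -/
def ShE2 (x : GolayPt → ℤ) : Prop :=
  ∃ T : Finset GolayPt, T.card = 4 ∧ (∀ p ∈ T, x p = 4 ∨ x p = -4) ∧ ∀ p ∉ T, x p = 0

/-- shape (±6, ±2^7, 0^16) -/
def ShE3 (x : GolayPt → ℤ) : Prop :=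
  ∃ O ∈ octads, ∃ q ∈ O, (x q = 6 ∨ x q = -6) ∧ (∀ p ∈ O, p ≠ q → x p = 2 ∨ x p = -2) ∧
    ∀ p ∉ O, x p = 0

/-- shape (±4^2, ±2^8, 0^14) -/
def ShE4 (x : GolayPt → ℤ) : Prop :=
  ∃ O ∈ octads, ∃ q₁ q₂, q₁ ∉ O ∧ q₂ ∉ O ∧ q₁ ≠ q₂ ∧ (x q₁ = 4 ∨ x q₁ = -4) ∧
    (x q₂ = 4 ∨ x q₂ = -4) ∧ (∀ p ∈ O, x p = 2 ∨ x p = -2) ∧
    ∀ p, p ∉ O → p ≠ q₁ → p ≠ q₂ → x p = 0

/-- shape (±4, ±2^12, 0^11) -/
def ShE5 (x : GolayPt → ℤ) : Prop :=
  ∃ D ∈ dodecads, ∃ q, q ∉ D ∧ (x q = 4 ∨ x q = -4) ∧ (∀ p ∈ D, x p = 2 ∨ x p = -2) ∧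
    ∀ p, p ∉ D → p ≠ q → x p = 0

/-- shape (±2^16, 0^8) -/
def ShE6 (x : GolayPt → ℤ) : Prop :=
  ∃ O ∈ octads, (∀ p ∈ O, x p = 0) ∧ ∀ p ∉ O, x p = 2 ∨ x p = -2

/-- shape (±5, ±3^2, ±1^21) -/
def ShO1 (x : GolayPt → ℤ) : Prop :=
  ∃ i j k, i ≠ j ∧ i ≠ k ∧ j ≠ k ∧ (x i = 5 ∨ x i = -5) ∧ (x j = 3 ∨ x j = -3) ∧
    (x k = 3 ∨ x k = -3) ∧ ∀ p, p ≠ i → p ≠ j → p ≠ k → (x p = 1 ∨ x p = -1)

/-- shape (±3^5, ±1^19) -/
def ShO2 (x : GolayPt → ℤ) : Prop :=
  ∃ T : Finset GolayPt, T.card = 5 ∧ (∀ p ∈ T, x p = 3 ∨ x p = -3) ∧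
    ∀ p ∉ T, x p = 1 ∨ x p = -1

theorem sum_eq_two {u : GolayPt → ℕ} (h : ∑ p, u p = 2) :
    (∃ i, u i = 2 ∧ ∀ p, p ≠ i → u p = 0) ∨
    (∃ i j, i ≠ j ∧ u i = 1 ∧ u j = 1 ∧ ∀ p, p ≠ i → p ≠ j → u p = 0) := by
  obtain ⟨i, -, hi⟩ := Finset.exists_ne_zero_of_sum_ne_zero (s := Finset.univ) (f := u)
    (by rw [h]; norm_num)
  have h1 := Finset.add_sum_erase Finset.univ u (Finset.mem_univ i)
  rw [h] at h1
  have hcase : u i = 2 ∨ u i = 1 := by omega
  rcases hcase with h3 | h3
  · left
    refine ⟨i, h3, fun p hp => ?_⟩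
    have : ∑ p ∈ Finset.univ.erase i, u p = 0 := by omega
    exact (Finset.sum_eq_zero_iff.mp this) p (Finset.mem_erase.mpr ⟨hp, Finset.mem_univ p⟩)
  · right
    have hs1 : ∑ p ∈ Finset.univ.erase i, u p = 1 := by omega
    obtain ⟨j, hj, hj0⟩ := Finset.exists_ne_zero_of_sum_ne_zero (s := Finset.univ.erase i) (f := u)
      (by rw [hs1]; norm_num)
    have h4 := Finset.add_sum_erase (Finset.univ.erase i) u hj
    rw [hs1] at h4
    have hj1 : u j = 1 := by omega
    have hs2 : ∑ p ∈ (Finset.univ.erase i).erase j, u p = 0 := by omega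
    have hji : j ≠ i := (Finset.mem_erase.mp hj).1
    refine ⟨i, j, hji.symm, h3, hj1, fun p hpi hpj => ?_⟩
    exact (Finset.sum_eq_zero_iff.mp hs2) p (Finset.mem_erase.mpr ⟨hpj,
      Finset.mem_erase.mpr ⟨hpi, Finset.mem_univ p⟩⟩)

theorem sum_le_one {u : GolayPt → ℕ} (h : ∀ p, u p ≤ 1) :
    ∑ p, u p = (Finset.univ.filter (fun p => u p = 1)).card := by
  classical
  rw [Finset.card_filter]
  apply Finset.sum_congr rfl
  intro p _
  have := h p
  split_ifs with h1
  · exact h1
  · omega

/-- a sum equal to `n` one of whose terms is `n` -/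
theorem rest_zero {u : GolayPt → ℕ} {n : ℕ} (h : ∑ p, u p = n) {i : GolayPt} (hi : u i = n) :
    ∀ p, p ≠ i → u p = 0 := by
  intro p hp
  have h1 := Finset.add_sum_erase Finset.univ u (Finset.mem_univ i)
  rw [h, hi] at h1
  have : ∑ p ∈ Finset.univ.erase i, u p = 0 := by omega
  exact (Finset.sum_eq_zero_iff.mp this) p (Finset.mem_erase.mpr ⟨hp, Finset.mem_univ p⟩)

theorem shape64_even {x : GolayPt → ℤ} (hx : x ∈ leechLattice) (hn : sqNorm x = 64)
    (hev : ∀ p, x p % 2 = 0) :
    ShE1 x ∨ ShE2 x ∨ ShE3 x ∨ ShE4 x ∨ ShE5 x ∨ ShE6 x := by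
  classical
  obtain ⟨m, h1, h2, h3⟩ := (mem_leechLattice_iff x).mp hx
  have hb : ∀ p, -8 ≤ x p ∧ x p ≤ 8 := by
    intro p
    have := coord_sq_le (x := x) p
    rw [hn] at this
    constructor <;> nlinarith
  have hL : lvl x 2 ∈ gC := h3 2
  have hmem : ∀ p, p ∈ lvl x 2 → (x p = 2 ∨ x p = -2 ∨ x p = 6 ∨ x p = -6) := by
    intro p hp
    rw [mem_lvl_iff] at hp
    have := hb p
    have := hev p
    omega
  have hnmem : ∀ p, p ∉ lvl x 2 → (x p = 0 ∨ x p = 4 ∨ x p = -4 ∨ x p = 8 ∨ x p = -8) := by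
    intro p hp
    rw [mem_lvl_iff] at hp
    have := hb p
    have := hev p
    omega
  -- the function measuring the excess
  have hexc : ∑ p, (if p ∈ lvl x 2 then x p ^ 2 - 4 else x p ^ 2) =
      64 - 4 * ((lvl x 2).card : ℤ) := by
    have : ∀ p, (if p ∈ lvl x 2 then x p ^ 2 - 4 else x p ^ 2) =
        x p ^ 2 - (if p ∈ lvl x 2 then 4 else 0) := by
      intro p; split_ifs <;> ring
    rw [Finset.sum_congr rfl (fun p _ => this p), Finset.sum_sub_distrib, Finset.sum_ite_mem,
      Finset.univ_inter, Finset.sum_const]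
    have : ∑ p, x p ^ 2 = 64 := hn
    rw [this]
    simp
    ring
  set u : GolayPt → ℕ :=
    fun p => ((if p ∈ lvl x 2 then x p ^ 2 - 4 else x p ^ 2) / 16).toNat with hu
  have hval : ∀ p, (if p ∈ lvl x 2 then x p ^ 2 - 4 else x p ^ 2) = 16 * (u p : ℤ) := by
    intro p
    show _ = 16 * (((if p ∈ lvl x 2 then x p ^ 2 - 4 else x p ^ 2) / 16).toNat : ℤ)
    split_ifs with hp
    · rcases hmem p hp with h | h | h | h <;> rw [h] <;> norm_num
    · rcases hnmem p hp with h | h | h | h | h <;> rw [h] <;> norm_num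
  have hsumu : 4 * ∑ p, (u p : ℤ) = 16 - ((lvl x 2).card : ℤ) := by
    rw [Finset.sum_congr rfl (fun p _ => hval p), ← Finset.mul_sum] at hexc
    omega
  -- values of `u`
  have hu_in : ∀ p, p ∈ lvl x 2 → (u p = 0 ∧ (x p = 2 ∨ x p = -2)) ∨
      (u p = 2 ∧ (x p = 6 ∨ x p = -6)) := by
    intro p hp
    have hv := hval p
    rw [if_pos hp] at hv
    rcases hmem p hp with h | h | h | h <;> rw [h] at hv
    · left; exact ⟨by omega, Or.inl h⟩
    · left; exact ⟨by omega, Or.inr h⟩
    · right; exact ⟨by omega, Or.inl h⟩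
    · right; exact ⟨by omega, Or.inr h⟩
  have hu_out : ∀ p, p ∉ lvl x 2 → (u p = 0 ∧ x p = 0) ∨ (u p = 1 ∧ (x p = 4 ∨ x p = -4)) ∨
      (u p = 4 ∧ (x p = 8 ∨ x p = -8)) := by
    intro p hp
    have hv := hval p
    rw [if_neg hp] at hv
    rcases hnmem p hp with h | h | h | h | h <;> rw [h] at hv
    · left; exact ⟨by omega, h⟩
    · right; left; exact ⟨by omega, Or.inl h⟩
    · right; left; exact ⟨by omega, Or.inr h⟩
    · right; right; exact ⟨by omega, Or.inl h⟩
    · right; right; exact ⟨by omega, Or.inr h⟩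
  rcases gC_card_cases hL with hc | hc | hc | hc | hc
  · -- all coordinates divisible by 4
    have hempty : ∀ p, p ∉ lvl x 2 := by
      intro p
      rw [Finset.card_eq_zero.mp hc]; exact Finset.notMem_empty p
    have hsum : ∑ p, u p = 4 := by
      rw [hc] at hsumu
      have : ∑ p, (u p : ℤ) = 4 := by push_cast at hsumu; omega
      exact_mod_cast this
    by_cases h8 : ∃ i, u i = 4
    · left
      obtain ⟨i, hi⟩ := h8
      have hrest := rest_zero hsum hi
      refine ⟨i, ?_, fun p hp => ?_⟩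
      · rcases hu_out i (hempty i) with h | h | h
        · omega
        · omega
        · exact h.2
      · rcases hu_out p (hempty p) with h | h | h
        · exact h.2
        · have := hrest p hp; omega
        · have := hrest p hp; omega
    · right; left
      push Not at h8
      have hle : ∀ p, u p ≤ 1 := by
        intro p
        rcases hu_out p (hempty p) with h | h | h
        · omega
        · omega
        · exact absurd h.1 (h8 p)
      refine ⟨Finset.univ.filter (fun p => u p = 1), ?_, fun p hp => ?_, fun p hp => ?_⟩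
      · rw [← sum_le_one hle, hsum]
      · have hp1 : u p = 1 := (Finset.mem_filter.mp hp).2
        rcases hu_out p (hempty p) with h | h | h
        · omega
        · exact h.2
        · omega
      · have hp1 : u p ≠ 1 := fun e => hp (Finset.mem_filter.mpr ⟨Finset.mem_univ p, e⟩)
        rcases hu_out p (hempty p) with h | h | h
        · exact h.2
        · exact absurd h.1 hp1
        · exact absurd h.1 (h8 p)
  · -- an octad
    have hsum : ∑ p, u p = 2 := by
      rw [hc] at hsumu
      have : ∑ p, (u p : ℤ) = 2 := by push_cast at hsumu; omega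
      exact_mod_cast this
    rcases sum_eq_two hsum with ⟨i, hi, hrest⟩ | ⟨i, j, hij, hi, hj, hrest⟩
    · right; right; left
      have hiL : i ∈ lvl x 2 := by
        by_contra hne
        rcases hu_out i hne with h | h | h <;> omega
      refine ⟨lvl x 2, ⟨hL, hc⟩, i, hiL, ?_, fun p hp hpi => ?_, fun p hp => ?_⟩
      · rcases hu_in i hiL with h | h
        · omega
        · exact h.2
      · rcases hu_in p hp with h | h
        · exact h.2
        · have := hrest p hpi; omega
      · rcases hu_out p hp with h | h | h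
        · exact h.2
        · have : p ≠ i := fun e => hp (e ▸ hiL)
          have := hrest p this; omega
        · have : p ≠ i := fun e => hp (e ▸ hiL)
          have := hrest p this; omega
    · right; right; right; left
      have hiL : i ∉ lvl x 2 := by
        intro hne
        rcases hu_in i hne with h | h <;> omega
      have hjL : j ∉ lvl x 2 := by
        intro hne
        rcases hu_in j hne with h | h <;> omega
      refine ⟨lvl x 2, ⟨hL, hc⟩, i, j, hiL, hjL, hij, ?_, ?_, fun p hp => ?_,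
        fun p hp hpi hpj => ?_⟩
      · rcases hu_out i hiL with h | h | h
        · omega
        · exact h.2
        · omega
      · rcases hu_out j hjL with h | h | h
        · omega
        · exact h.2
        · omega
      · have hpi : p ≠ i := fun e => hiL (e ▸ hp)
        have hpj : p ≠ j := fun e => hjL (e ▸ hp)
        rcases hu_in p hp with h | h
        · exact h.2
        · have := hrest p hpi hpj; omega
      · rcases hu_out p hp with h | h | h
        · exact h.2
        · have := hrest p hpi hpj; omega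
        · have := hrest p hpi hpj; omega
  · -- a dodecad
    right; right; right; right; left
    have hsum : ∑ p, u p = 1 := by
      rw [hc] at hsumu
      have : ∑ p, (u p : ℤ) = 1 := by push_cast at hsumu; omega
      exact_mod_cast this
    obtain ⟨i, hi, hrest⟩ := sum_eq_one hsum
    have hiL : i ∉ lvl x 2 := by
      intro hne
      rcases hu_in i hne with h | h <;> omega
    refine ⟨lvl x 2, ⟨hL, hc⟩, i, hiL, ?_, fun p hp => ?_, fun p hp hpi => ?_⟩
    · rcases hu_out i hiL with h | h | h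
      · omega
      · exact h.2
      · omega
    · have hpi : p ≠ i := fun e => hiL (e ▸ hp)
      rcases hu_in p hp with h | h
      · exact h.2
      · have := hrest p hpi; omega
    · rcases hu_out p hp with h | h | h
      · exact h.2
      · have := hrest p hpi; omega
      · have := hrest p hpi; omega
  · -- the complement of an octad
    right; right; right; right; right
    have hsum : ∑ p, u p = 0 := by
      rw [hc] at hsumu
      have : ∑ p, (u p : ℤ) = 0 := by push_cast at hsumu; omega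
      exact_mod_cast this
    have hzero : ∀ p, u p = 0 := fun p =>
      (Finset.sum_eq_zero_iff.mp hsum) p (Finset.mem_univ p)
    refine ⟨(lvl x 2)ᶜ, ⟨gC_compl hL, ?_⟩, fun p hp => ?_, fun p hp => ?_⟩
    · rw [Finset.card_compl, hc, card_golayPt]
    · rcases hu_out p (Finset.mem_compl.mp hp) with h | h | h
      · exact h.2
      · have := hzero p; omega
      · have := hzero p; omega
    · have hpL : p ∈ lvl x 2 := by
        by_contra hne
        exact hp (Finset.mem_compl.mpr hne)
      rcases hu_in p hpL with h | h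
      · exact h.2
      · have := hzero p; omega
  · exfalso
    rw [hc] at hsumu
    have : 0 ≤ ∑ p, (u p : ℤ) := Finset.sum_nonneg (fun p _ => Int.natCast_nonneg _)
    push_cast at hsumu
    omega

theorem shape64_odd {x : GolayPt → ℤ} (hn : sqNorm x = 64)
    (hodd : ∀ p, x p % 2 = 1) : ShO1 x ∨ ShO2 x := by
  classical
  have hb : ∀ p, -8 ≤ x p ∧ x p ≤ 8 := by
    intro p
    have := coord_sq_le (x := x) p
    rw [hn] at this
    constructor <;> nlinarith
  have hval : ∀ p, x p = 1 ∨ x p = -1 ∨ x p = 3 ∨ x p = -3 ∨ x p = 5 ∨ x p = -5 ∨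
      x p = 7 ∨ x p = -7 := by
    intro p
    have := hb p
    have := hodd p
    omega
  let u : GolayPt → ℕ := fun p => ((x p ^ 2 - 1) / 8).toNat
  have hu : ∀ p, x p ^ 2 = 1 + 8 * (u p : ℤ) := by
    intro p
    show x p ^ 2 = 1 + 8 * (((x p ^ 2 - 1) / 8).toNat : ℤ)
    rcases hval p with h | h | h | h | h | h | h | h <;> rw [h] <;> norm_num
  have hsum : ∑ p, u p = 5 := by
    have : ∑ p, x p ^ 2 = 64 := hn
    rw [Finset.sum_congr rfl (fun p _ => hu p), Finset.sum_add_distrib, ← Finset.mul_sum,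
      Finset.sum_const, Finset.card_univ, card_golayPt] at this
    have h8 : (8 : ℤ) * ∑ p, (u p : ℤ) = 40 := by
      simp only [nsmul_eq_mul, Nat.cast_ofNat, mul_one] at this
      omega
    have : ∑ p, (u p : ℤ) = 5 := by omega
    exact_mod_cast this
  have hle : ∀ p, u p ≤ 5 := by
    intro p
    rw [← hsum]
    exact Finset.single_le_sum (f := u) (fun _ _ => Nat.zero_le _) (Finset.mem_univ p)
  have hcases : ∀ p, (u p = 0 ∧ (x p = 1 ∨ x p = -1)) ∨ (u p = 1 ∧ (x p = 3 ∨ x p = -3)) ∨
      (u p = 3 ∧ (x p = 5 ∨ x p = -5)) := by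
    intro p
    have h1 := hu p
    have h2 := hle p
    rcases hval p with h | h | h | h | h | h | h | h <;> rw [h] at h1
    · left; exact ⟨by omega, Or.inl h⟩
    · left; exact ⟨by omega, Or.inr h⟩
    · right; left; exact ⟨by omega, Or.inl h⟩
    · right; left; exact ⟨by omega, Or.inr h⟩
    · right; right; exact ⟨by omega, Or.inl h⟩
    · right; right; exact ⟨by omega, Or.inr h⟩
    · omega
    · omega
  by_cases h3 : ∃ i, u i = 3
  · left
    obtain ⟨i, hi⟩ := h3
    -- the remaining terms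
    let u' : GolayPt → ℕ := fun p => if p = i then 0 else u p
    have hsum' : ∑ p, u' p = 2 := by
      have h1 := Finset.add_sum_erase Finset.univ u (Finset.mem_univ i)
      have h2 := Finset.add_sum_erase Finset.univ u' (Finset.mem_univ i)
      have h3 : ∑ p ∈ Finset.univ.erase i, u' p = ∑ p ∈ Finset.univ.erase i, u p := by
        apply Finset.sum_congr rfl
        intro p hp
        show (if p = i then 0 else u p) = u p
        rw [if_neg (Finset.mem_erase.mp hp).1]
      have h4 : u' i = 0 := by show (if i = i then 0 else u i) = 0; rw [if_pos rfl]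
      rw [hsum, hi] at h1
      rw [h3, h4] at h2
      omega
    have hu'_ne : ∀ p, p ≠ i → u' p = u p := fun p hp => by
      show (if p = i then 0 else u p) = u p
      rw [if_neg hp]
    have hu'_i : u' i = 0 := by show (if i = i then 0 else u i) = 0; rw [if_pos rfl]
    rcases sum_eq_two hsum' with ⟨j, hj, hrest⟩ | ⟨j, k, hjk, hj, hk, hrest⟩
    · exfalso
      have hji : j ≠ i := by intro e; rw [e, hu'_i] at hj; omega
      rw [hu'_ne j hji] at hj
      rcases hcases j with h | h | h <;> omega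
    · have hji : j ≠ i := by intro e; rw [e, hu'_i] at hj; omega
      have hki : k ≠ i := by intro e; rw [e, hu'_i] at hk; omega
      rw [hu'_ne j hji] at hj
      rw [hu'_ne k hki] at hk
      refine ⟨i, j, k, hji.symm, hki.symm, hjk, ?_, ?_, ?_, fun p hpi hpj hpk => ?_⟩
      · rcases hcases i with h | h | h
        · omega
        · omega
        · exact h.2
      · rcases hcases j with h | h | h
        · omega
        · exact h.2
        · omega
      · rcases hcases k with h | h | h
        · omega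
        · exact h.2
        · omega
      · have := hrest p hpj hpk
        rw [hu'_ne p hpi] at this
        rcases hcases p with h | h | h
        · exact h.2
        · omega
        · omega
  · right
    push Not at h3
    have hle1 : ∀ p, u p ≤ 1 := by
      intro p
      rcases hcases p with h | h | h
      · omega
      · omega
      · exact absurd h.1 (h3 p)
    refine ⟨Finset.univ.filter (fun p => u p = 1), ?_, fun p hp => ?_, fun p hp => ?_⟩
    · rw [← sum_le_one hle1, hsum]
    · have hp1 : u p = 1 := (Finset.mem_filter.mp hp).2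
      rcases hcases p with h | h | h
      · omega
      · exact h.2
      · omega
    · have hp1 : u p ≠ 1 := fun e => hp (Finset.mem_filter.mpr ⟨Finset.mem_univ p, e⟩)
      rcases hcases p with h | h | h
      · exact h.2
      · exact absurd h.1 hp1
      · exact absurd h.1 (h3 p)

theorem shape64 {x : GolayPt → ℤ} (hx : x ∈ leechLattice) (hn : sqNorm x = 64) :
    ShE1 x ∨ ShE2 x ∨ ShE3 x ∨ ShE4 x ∨ ShE5 x ∨ ShE6 x ∨ ShO1 x ∨ ShO2 x := by
  obtain ⟨m, h1, h2, h3⟩ := (mem_leechLattice_iff x).mp hx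
  simp only [Int.ModEq] at h1 h2
  rcases Int.emod_two_eq_zero_or_one m with hm | hm
  · have hev : ∀ p, x p % 2 = 0 := fun p => by have := h1 p; omega
    rcases shape64_even hx hn hev with h | h | h | h | h | h
    · exact Or.inl h
    · exact Or.inr (Or.inl h)
    · exact Or.inr (Or.inr (Or.inl h))
    · exact Or.inr (Or.inr (Or.inr (Or.inl h)))
    · exact Or.inr (Or.inr (Or.inr (Or.inr (Or.inl h))))
    · exact Or.inr (Or.inr (Or.inr (Or.inr (Or.inr (Or.inl h)))))
  · have hodd : ∀ p, x p % 2 = 1 := fun p => by have := h1 p; omega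
    rcases shape64_odd hn hodd with h | h
    · exact Or.inr (Or.inr (Or.inr (Or.inr (Or.inr (Or.inr (Or.inl h))))))
    · exact Or.inr (Or.inr (Or.inr (Or.inr (Or.inr (Or.inr (Or.inr h))))))

end Cfsg.Agent.Lib.Helper1.LeechShape
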