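import Mathlib
import Cfsg.Agent.Lib.Helper1.M24K

set_option autoImplicit false

namespace Cfsg.Agent.Lib.Helper1.M24

open Cfsg Cfsg.Agent.Lib.Helper1
open scoped Pointwise

/-! ### orbit closure with generators taken from a bigger group -/

theorem Reach.step' {K' H : Subgroup P24} {fx : List ℕ} {b q : ℕ} (e : El K') (heH : e.σ ∈ H)
    (he : ∀ j ∈ fx, j < 24 ∧ tg e.t j = j) (hq : q < 24)
    (h : Reach H fx b q) : Reach H fx b (tg e.t q) :=
  Reach.step (e.cast heH) he hq h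

theorem reach_rnd' {K' H : Subgroup P24} {fx : List ℕ} {b : ℕ} (gs : List (El K'))
    (hH : ∀ e ∈ gs, e.σ ∈ H)
    (hgs : ∀ e ∈ gs, ∀ j ∈ fx, j < 24 ∧ tg e.t j = j) (l : List ℕ)
    (hl : ∀ q ∈ l, q < 24 ∧ Reach H fx b q) :
    ∀ q ∈ rnd (gs.map El.t) l, q < 24 ∧ Reach H fx b q := by
  intro q hq
  unfold rnd at hq
  rw [List.mem_dedup, List.mem_append] at hq
  rcases hq with hq | hq
  · exact hl q hq
  · rw [List.mem_flatMap] at hq
    obtain ⟨t, ht, hq⟩ := hq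
    rw [List.mem_map] at ht hq
    obtain ⟨e, he, rfl⟩ := ht
    obtain ⟨q', hq', rfl⟩ := hq
    exact ⟨e.lt _ (hl q' hq').1, Reach.step' e (hH e he) (hgs e he) (hl q' hq').1 (hl q' hq').2⟩

theorem reach_rnds' {K' H : Subgroup P24} {fx : List ℕ} {b : ℕ} (gs : List (El K'))
    (hH : ∀ e ∈ gs, e.σ ∈ H)
    (hgs : ∀ e ∈ gs, ∀ j ∈ fx, j < 24 ∧ tg e.t j = j) (n : ℕ) (l : List ℕ)
    (hl : ∀ q ∈ l, q < 24 ∧ Reach H fx b q) :
    ∀ q ∈ rnds (gs.map El.t) n l, q < 24 ∧ Reach H fx b q := by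
  induction n generalizing l with
  | zero => exact hl
  | succ n ih =>
    intro q hq
    exact ih (rnd (gs.map El.t) l) (reach_rnd' gs hH hgs l hl) q hq

theorem reach_of_rnds' {K' H : Subgroup P24} {fx : List ℕ} {b : ℕ} (hb : b < 24)
    (gs : List (El K')) (hH : ∀ e ∈ gs, e.σ ∈ H)
    (hgs : ∀ e ∈ gs, ∀ j ∈ fx, j < 24 ∧ tg e.t j = j) (n : ℕ) {q : ℕ}
    (hq : q ∈ rnds (gs.map El.t) n [b]) : Reach H fx b q := by
  refine (reach_rnds' gs hH hgs n [b] ?_ q hq).2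
  intro q hq
  rw [List.mem_singleton] at hq
  subst hq
  exact ⟨hb, Reach.refl H fx q⟩

/-! ### the stabilizer of the standard dodecad -/

/-- the stabilizer of the standard dodecad -/
def H12 : Subgroup P24 := M24 ⊓ MulAction.stabilizer P24 d₀fin

/-- the points of the standard dodecad -/
def d₀pts : List ℕ := [0, 2, 3, 4, 6, 7, 8, 9, 10, 11, 13, 14]

theorem mem_d₀fin_iff (p : GolayPt) : p ∈ d₀fin ↔ gIdx p ∈ d₀pts := by
  unfold d₀fin
  rw [mem_support₂_ofMask]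
  revert p
  decide +kernel

theorem mem_H12_of_pm {e : El K} (h : pm e.t (cw 6) = cw 6) : e.σ ∈ H12 := by
  refine ⟨K_le e.mem, ?_⟩
  show e.σ • d₀fin = d₀fin
  unfold d₀fin
  rw [smul_support_eq_pm, h]

theorem invMask_d₀ {g : P24} (hg : g ∈ H12) : InvMask g (cw 6) :=
  invMask_of_smul_eq (MulAction.mem_stabilizer_iff.mp hg.2)

theorem gensD0_mem : ∀ e ∈ gensD0, e.σ ∈ H12 := by
  have h : ∀ e ∈ gensD0, pm e.t (cw 6) = cw 6 := by decide +kernel
  exact fun e he => mem_H12_of_pm (h e he)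

theorem gensD1_mem : ∀ e ∈ gensD1, e.σ ∈ H12 := by
  have h : ∀ e ∈ gensD1, pm e.t (cw 6) = cw 6 := by decide +kernel
  exact fun e he => mem_H12_of_pm (h e he)

theorem gensD2_mem : ∀ e ∈ gensD2, e.σ ∈ H12 := by
  have h : ∀ e ∈ gensD2, pm e.t (cw 6) = cw 6 := by decide +kernel
  exact fun e he => mem_H12_of_pm (h e he)

theorem gensD3_mem : ∀ e ∈ gensD3, e.σ ∈ H12 := by
  have h : ∀ e ∈ gensD3, pm e.t (cw 6) = cw 6 := by decide +kernel
  exact fun e he => mem_H12_of_pm (h e he)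

theorem gensD4_mem : ∀ e ∈ gensD4, e.σ ∈ H12 := by
  have h : ∀ e ∈ gensD4, pm e.t (cw 6) = cw 6 := by decide +kernel
  exact fun e he => mem_H12_of_pm (h e he)

theorem gensE1_mem : ∀ e ∈ gensE1, e.σ ∈ H12 := by
  have h : ∀ e ∈ gensE1, pm e.t (cw 6) = cw 6 := by decide +kernel
  exact fun e he => mem_H12_of_pm (h e he)

theorem gensE2_mem : ∀ e ∈ gensE2, e.σ ∈ H12 := by
  have h : ∀ e ∈ gensE2, pm e.t (cw 6) = cw 6 := by decide +kernel
  exact fun e he => mem_H12_of_pm (h e he)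

theorem gensE3_mem : ∀ e ∈ gensE3, e.σ ∈ H12 := by
  have h : ∀ e ∈ gensE3, pm e.t (cw 6) = cw 6 := by decide +kernel
  exact fun e he => mem_H12_of_pm (h e he)

theorem lvlD0 : ∀ q < 24, q ∈ d₀pts → Reach H12 [] 0 q := by
  intro q hq hq2
  refine reach_of_rnds' (by norm_num) gensD0 gensD0_mem (by decide +kernel) 3 ?_
  revert q
  decide +kernel

theorem lvlD1 : ∀ q < 24, q ∈ d₀pts → q ∉ [0] → Reach H12 [0] 2 q := by
  intro q hq hq2 hq3
  refine reach_of_rnds' (by norm_num) gensD1 gensD1_mem (by decide +kernel) 3 ?_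
  revert q
  decide +kernel

theorem lvlD2 : ∀ q < 24, q ∈ d₀pts → q ∉ [0, 2] → Reach H12 [0, 2] 3 q := by
  intro q hq hq2 hq3
  refine reach_of_rnds' (by norm_num) gensD2 gensD2_mem (by decide +kernel) 3 ?_
  revert q
  decide +kernel

theorem lvlD3 : ∀ q < 24, q ∈ d₀pts → q ∉ [0, 2, 3] → Reach H12 [0, 2, 3] 4 q := by
  intro q hq hq2 hq3
  refine reach_of_rnds' (by norm_num) gensD3 gensD3_mem (by decide +kernel) 3 ?_
  revert q
  decide +kernel

theorem lvlD4 : ∀ q < 24, q ∈ d₀pts → q ∉ [0, 2, 3, 4] → Reach H12 [0, 2, 3, 4] 6 q := by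
  intro q hq hq2 hq3
  refine reach_of_rnds' (by norm_num) gensD4 gensD4_mem (by decide +kernel) 2 ?_
  revert q
  decide +kernel

theorem lvlE1 : ∀ q < 24, q ∉ d₀pts → Reach H12 [0] 1 q := by
  intro q hq hq2
  refine reach_of_rnds' (by norm_num) gensE1 gensE1_mem (by decide +kernel) 4 ?_
  revert q
  decide +kernel

theorem lvlE2 : ∀ q < 24, q ∉ d₀pts → q ∉ [1] → Reach H12 [0, 1] 5 q := by
  intro q hq hq2 hq3
  refine reach_of_rnds' (by norm_num) gensE2 gensE2_mem (by decide +kernel) 3 ?_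
  revert q
  decide +kernel

theorem lvlE3 : ∀ q < 24, q ∉ d₀pts → q ∉ [1, 5] → Reach H12 [0, 1, 5] 12 q := by
  intro q hq hq2 hq3
  refine reach_of_rnds' (by norm_num) gensE3 gensE3_mem (by decide +kernel) 3 ?_
  revert q
  decide +kernel

end Cfsg.Agent.Lib.Helper1.M24
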