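import Mathlib
import Cfsg.Agent.Lib.Helper1.LeechTrans48c
import Cfsg.Agent.Lib.Helper1.LeechShape64
import Cfsg.Agent.Lib.Helper1.M24L

set_option autoImplicit false

namespace Cfsg.Agent.Lib.Helper1.LeechConn

open Cfsg Cfsg.Agent.Lib.Helper1.LeechCross Cfsg.Agent.Lib.Helper1.LeechAut
  Cfsg.Agent.Lib.Helper1.LeechXi Cfsg.Agent.Lib.Helper1.LeechShape
  Cfsg.Agent.Lib.Helper1.MaskOf Cfsg.Agent.Lib.Helper1.LeechChk
  Cfsg.Agent.Lib.Helper1.LeechGen Cfsg.Agent.Lib.Helper1.LeechIndex
open scoped Pointwise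

/-! ### Transitivity tools -/

/-- transitivity on pairs (set of at most four points, a further point) -/
theorem finset_pt_trans {k : ℕ} (hk : k + 1 ≤ 5) (A B : Finset GolayPt) (hA : A.card = k)
    (hB : B.card = k) (a b : GolayPt) (ha : a ∉ A) (hb : b ∉ B) :
    ∃ σ ∈ M24, σ • A = B ∧ σ a = b := by
  have := Cfsg.Agent.Lib.Helper1.M24.five_transitive
  have hpre : MulAction.IsMultiplyPretransitive M24 GolayPt (k + 1) :=
    MulAction.isMultiplyPretransitive_of_le (G := M24) (α := GolayPt) (m := k + 1) (n := 5)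
      hk (by rw [Nat.card_eq_fintype_card]; decide)
  let eA : Fin k ≃ A := (A.equivFinOfCardEq hA).symm
  let eB : Fin k ≃ B := (B.equivFinOfCardEq hB).symm
  let x : Fin (k + 1) → GolayPt := Fin.cons a (fun i => (eA i : GolayPt))
  let y : Fin (k + 1) → GolayPt := Fin.cons b (fun i => (eB i : GolayPt))
  have hx : Function.Injective x := by
    rw [Fin.cons_injective_iff]
    refine ⟨?_, fun i j hij => eA.injective (Subtype.ext hij)⟩
    rintro ⟨i, hi⟩
    exact ha (hi ▸ (eA i).2)
  have hy : Function.Injective y := by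
    rw [Fin.cons_injective_iff]
    refine ⟨?_, fun i j hij => eB.injective (Subtype.ext hij)⟩
    rintro ⟨i, hi⟩
    exact hb (hi ▸ (eB i).2)
  obtain ⟨g, hg⟩ := MulAction.exists_smul_eq M24 (⟨x, hx⟩ : Fin (k + 1) ↪ GolayPt) ⟨y, hy⟩
  have hgi : ∀ i, g.1 (x i) = y i := by
    intro i
    have := congrArg (fun e : Fin (k + 1) ↪ GolayPt => e i) hg
    exact this
  refine ⟨g.1, g.2, ?_, ?_⟩
  · ext p
    rw [Finset.mem_smul_finset]
    constructor
    · rintro ⟨q, hq, rfl⟩
      obtain ⟨i, hi⟩ := eA.surjective ⟨q, hq⟩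
      have h1 : q = x i.succ := by
        show q = Fin.cons (α := fun _ => GolayPt) a (fun i => (eA i : GolayPt)) i.succ
        rw [Fin.cons_succ, hi]
      rw [Equiv.Perm.smul_def, h1, hgi]
      show Fin.cons (α := fun _ => GolayPt) b (fun i => (eB i : GolayPt)) i.succ ∈ B
      rw [Fin.cons_succ]
      exact (eB i).2
    · intro hp
      obtain ⟨i, hi⟩ := eB.surjective ⟨p, hp⟩
      refine ⟨(eA i : GolayPt), (eA i).2, ?_⟩
      have h1 : (eA i : GolayPt) = x i.succ := by
        show _ = Fin.cons (α := fun _ => GolayPt) a (fun i => (eA i : GolayPt)) i.succ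
        rw [Fin.cons_succ]
      rw [Equiv.Perm.smul_def, h1, hgi]
      show Fin.cons (α := fun _ => GolayPt) b (fun i => (eB i : GolayPt)) i.succ = p
      rw [Fin.cons_succ, hi]
  · have := hgi 0
    exact this

/-- transitivity on sets of at most five points -/
theorem finset_trans {k : ℕ} (hk : k ≤ 5) (A B : Finset GolayPt) (hA : A.card = k)
    (hB : B.card = k) : ∃ σ ∈ M24, σ • A = B := by
  classical
  rcases Nat.eq_zero_or_pos k with h0 | h0
  · subst h0
    rw [Finset.card_eq_zero] at hA hB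
    subst hA; subst hB
    exact ⟨1, M24.one_mem, one_smul _ _⟩
  · obtain ⟨a, ha⟩ := Finset.card_pos.mp (by rw [hA]; exact h0)
    obtain ⟨b, hb⟩ := Finset.card_pos.mp (by rw [hB]; exact h0)
    obtain ⟨σ, hσ, h1, h2⟩ := finset_pt_trans (k := k - 1) (by omega) (A.erase a) (B.erase b)
      (by rw [Finset.card_erase_of_mem ha, hA]) (by rw [Finset.card_erase_of_mem hb, hB]) a b
      (Finset.notMem_erase a A) (Finset.notMem_erase b B)
    refine ⟨σ, hσ, ?_⟩
    rw [← Finset.insert_erase ha, ← Finset.insert_erase hb, Finset.smul_finset_insert, h1,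
      Equiv.Perm.smul_def, h2]

/-- transitivity on pairs (octad, point on it) -/
theorem octad_pt_trans (O : Finset GolayPt) (hO : O ∈ octads) (q : GolayPt) (hq : q ∈ O) :
    ∃ σ ∈ M24, σ • O0 = O ∧ σ (some 0) = q := by
  classical
  have h4 : 4 ≤ (O.erase q).card := by rw [Finset.card_erase_of_mem hq, hO.2]; norm_num
  have h4' : 4 ≤ (O0.erase (some 0)).card := by
    rw [Finset.card_erase_of_mem zero_mem, O0_mem.2]; norm_num
  obtain ⟨B, hB, hBc⟩ := Finset.exists_subset_card_eq h4
  obtain ⟨A, hA, hAc⟩ := Finset.exists_subset_card_eq h4'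
  have hqB : q ∉ B := fun h => Finset.notMem_erase q O (hB h)
  have h0A : (some 0 : GolayPt) ∉ A := fun h => Finset.notMem_erase _ O0 (hA h)
  obtain ⟨σ, hσ, h1, h2⟩ := finset_pt_trans (k := 4) (by norm_num) A B hAc hBc (some 0) q h0A hqB
  refine ⟨σ, hσ, ?_, h2⟩
  have hins : (insert q B).card = 5 := by rw [Finset.card_insert_of_notMem hqB, hBc]
  refine octads_unique (Cfsg.Agent.Lib.Helper1.M24.smul_mem_octads hσ O0_mem) hO hins ?_ ?_
  · intro p hp
    rw [Finset.mem_insert] at hp
    rcases hp with rfl | hp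
    · rw [← h2]
      exact Finset.smul_mem_smul_finset zero_mem
    · rw [← h1] at hp
      obtain ⟨r, hr, rfl⟩ := Finset.mem_smul_finset.mp hp
      exact Finset.smul_mem_smul_finset (Finset.mem_of_mem_erase (hA hr))
  · intro p hp
    rw [Finset.mem_insert] at hp
    rcases hp with rfl | hp
    · exact hq
    · exact Finset.mem_of_mem_erase (hB hp)

theorem D0_eq : D0 = Cfsg.Agent.Lib.Helper1.M24.d₀fin := by
  have : (28637 : ℕ) = cw 6 := by decide +kernel
  unfold D0 Cfsg.Agent.Lib.Helper1.M24.d₀fin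
  rw [this]

theorem one_notMem_D0 : (some 1 : GolayPt) ∉ D0 := by
  unfold D0
  rw [mem_support_ofMask]
  decide

/-- transitivity on pairs (dodecad, outside point) -/
theorem dodecad_pt_trans (D : Finset GolayPt) (hD : D ∈ dodecads) (q : GolayPt) (hq : q ∉ D) :
    ∃ σ ∈ M24, σ • D0 = D ∧ σ (some 1) = q := by
  obtain ⟨τ, hτ, hτD⟩ := Cfsg.Agent.Lib.Helper1.M24.dodecad_trans D0 D D0_mem hD
  have hmem := smul_mem_iff hτD
  -- pull the point back
  have hq' : τ⁻¹ q ∉ D0 := by
    intro h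
    apply hq
    have := (hmem (τ⁻¹ q)).mpr h
    have e : τ (τ⁻¹ q) = q := (Equiv.eq_symm_apply τ).mp rfl
    rwa [e] at this
  have hidx : gIdx (τ⁻¹ q) ∉ Cfsg.Agent.Lib.Helper1.M24.d₀pts := by
    intro h
    apply hq'
    rw [D0_eq, Cfsg.Agent.Lib.Helper1.M24.mem_d₀fin_iff]
    exact h
  obtain ⟨ρ, hρ, -, hρq⟩ := Cfsg.Agent.Lib.Helper1.M24.lvlE1 (gIdx (τ⁻¹ q)) (gIdx_lt _) hidx
  rw [gUnidx_gIdx] at hρq
  refine ⟨τ * ρ, M24.mul_mem hτ hρ.1, ?_, ?_⟩
  · rw [mul_smul]
    have : ρ • D0 = D0 := by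
      rw [D0_eq]
      exact MulAction.mem_stabilizer_iff.mp hρ.2
    rw [this, hτD]
  · rw [Equiv.Perm.mul_apply]
    have : (some 1 : GolayPt) = gUnidx 1 := by decide
    rw [this, hρq]
    exact (Equiv.eq_symm_apply τ).mp rfl

/-! ### Sign tools -/

/-- correcting signs on a set all of whose even subsets are cut out by code words (general
absolute values congruent to two modulo four) -/
theorem sign_fix' (X : ℕ) (cidx : ℕ → ℕ)
    (hok : ∀ s ≤ X, s &&& X = s → popcN 24 s % 2 = 0 → cidx s < 4096 ∧ cw (cidx s) &&& X = s)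
    (y c : GolayPt → ℤ)
    (hy : ∀ p ∈ support₂ (ofMask X), y p = c p ∨ y p = -c p)
    (hc : ∀ p ∈ support₂ (ofMask X), c p % 4 = 2)
    (hsum : (∑ p ∈ support₂ (ofMask X), y p) % 8 = (∑ p ∈ support₂ (ofMask X), c p) % 8) :
    ∃ C ∈ gC, ∀ p ∈ support₂ (ofMask X), epsF C y p = c p := by
  classical
  set A := support₂ (ofMask X) with hA
  set T := A.filter (fun p => y p ≠ c p) with hT
  have hev : Even T.card := by
    have h1 : ∑ p ∈ A, (y p - c p) = ∑ p ∈ T, (y p - c p) := by
      rw [hT, Finset.sum_filter]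
      apply Finset.sum_congr rfl
      intro p _
      split_ifs with h
      · rfl
      · push Not at h
        rw [h]; ring
    have h2 : (∑ p ∈ T, (y p - c p)) % 8 = (4 * (T.card : ℤ)) % 8 := by
      rw [Finset.sum_int_mod]
      have : ∀ p ∈ T, (y p - c p) % 8 = 4 := by
        intro p hp
        rw [hT, Finset.mem_filter] at hp
        have hne := hp.2
        have h4 := hc p hp.1
        rcases hy p hp.1 with h | h
        · exact absurd h hne
        · rw [h]; omega
      rw [Finset.sum_congr rfl this, Finset.sum_const, nsmul_eq_mul]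
      ring_nf
    rw [Finset.sum_sub_distrib] at h1
    rw [← h1] at h2
    rw [Nat.even_iff]
    omega
  obtain ⟨C, hC, hCT⟩ := exists_code_inter_of X cidx hok T (Finset.filter_subset _ _) hev
  refine ⟨C, hC, fun p hp => ?_⟩
  unfold epsF
  by_cases hpC : p ∈ C
  · have : p ∈ T := by rw [← hCT]; exact Finset.mem_inter.mpr ⟨hpC, hp⟩
    rw [hT, Finset.mem_filter] at this
    rw [if_pos hpC]
    rcases hy p hp with h | h
    · exact absurd h this.2
    · rw [h]; ring
  · have : p ∉ T := by rw [← hCT]; intro h; exact hpC (Finset.mem_inter.mp h).1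
    rw [if_neg hpC]
    by_contra hne
    exact this (by rw [hT, Finset.mem_filter]; exact ⟨hp, hne⟩)

/-- sets meeting a fixed set `X` in arbitrary prescribed subsets -/
theorem exists_code_inter_all (X : ℕ) (cidx : ℕ → ℕ)
    (h : ∀ s ≤ X, s &&& X = s → cidx s < 4096 ∧ cw (cidx s) &&& X = s)
    (S : Finset GolayPt) (hS : S ⊆ support₂ (ofMask X)) :
    ∃ C ∈ gC, C ∩ support₂ (ofMask X) = S := by
  have h1 := maskOf_and_of_subset hS
  have h2 : maskOf S ≤ X := by
    rw [← h1]
    exact Nat.and_le_right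
  obtain ⟨hc, hcw⟩ := h (maskOf S) h2 h1
  refine ⟨support₂ (ofMask (cw (cidx (maskOf S)))), support_cw_mem hc, ?_⟩
  ext p
  rw [Finset.mem_inter, mem_support_ofMask, mem_support_ofMask]
  have h4 : (cw (cidx (maskOf S)) &&& X).testBit (gIdx p) = (maskOf S).testBit (gIdx p) := by
    rw [hcw]
  rw [Nat.testBit_and, testBit_maskOf] at h4
  constructor
  · rintro ⟨a, b⟩
    rw [a, b] at h4
    simpa using h4.symm
  · intro hp
    have : decide (p ∈ S) = true := by simpa using hp
    rw [this] at h4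
    simpa using h4

def cidx4 (s : ℕ) : ℕ :=
  (if s.testBit 0 then 3 else 0) ^^^ (if s.testBit 1 then 7 else 0) ^^^
  (if s.testBit 2 then 15 else 0) ^^^ (if s.testBit 3 then 10 else 0)

theorem cidx4_ok : ∀ s ≤ 15, s &&& 15 = s → cidx4 s < 4096 ∧ cw (cidx4 s) &&& 15 = s := by
  decide +kernel

/-- the first four points -/
def T4 : Finset GolayPt := support₂ (ofMask 15)

theorem T4_card : T4.card = 4 := by
  unfold T4
  rw [card_support₂_ofMask]
  decide

end Cfsg.Agent.Lib.Helper1.LeechConn
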