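import Mathlib
import Cfsg.Agent.Lib.Helper1.LeechTrans64a

set_option autoImplicit false

namespace Cfsg.Agent.Lib.Helper1.LeechConn

open Cfsg Cfsg.Agent.Lib.Helper1.LeechCross Cfsg.Agent.Lib.Helper1.LeechAut
  Cfsg.Agent.Lib.Helper1.LeechXi Cfsg.Agent.Lib.Helper1.LeechShape
  Cfsg.Agent.Lib.Helper1.MaskOf Cfsg.Agent.Lib.Helper1.LeechChk
  Cfsg.Agent.Lib.Helper1.LeechGen Cfsg.Agent.Lib.Helper1.LeechIndex
open scoped Pointwise

/-! ### Shape E1 -/

theorem shE1_conn {x : GolayPt → ℤ} (hx : x ∈ leechLattice) (h : ShE1 x) : Conn x (uu none) := by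
  obtain ⟨i, hi, hr⟩ := h
  -- make the nonzero coordinate positive
  have stage1 : ∃ z, Conn x z ∧ z i = 8 ∧ ∀ p, p ≠ i → z p = 0 := by
    rcases hi with a | a
    · exact ⟨x, Conn.refl hx, a, hr⟩
    · refine ⟨epsF Finset.univ x, conn_eps gC_univ hx, ?_, fun p hp => ?_⟩
      · unfold epsF; rw [if_pos (Finset.mem_univ i), a]; norm_num
      · unfold epsF; rw [if_pos (Finset.mem_univ p), hr p hp]; norm_num
  obtain ⟨z, hxz, zi, zr⟩ := stage1
  obtain ⟨σ, hσ, hσ1⟩ := exists_perm_one i
  have h2 := conn_perm hσ hxz.mem_right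
  have : permF σ z = uu none := by
    ext p
    show z (σ p) = _
    unfold uu
    by_cases hp : p = none
    · rw [hp, hσ1, zi, if_pos rfl]
    · rw [if_neg hp]
      apply zr
      intro e; apply hp; rw [← hσ1] at e; exact σ.injective e
  rw [this] at h2
  exact hxz.trans h2

/-! ### Shape E2 -/

def e2 : GolayPt → ℤ := fun p => if p ∈ T4 then 4 else 0

theorem shE2_conn {x : GolayPt → ℤ} (hx : x ∈ leechLattice) (h : ShE2 x) : Conn x e2 := by
  classical
  obtain ⟨T, hT, h1, h0⟩ := h
  obtain ⟨σ, hσ, hσT⟩ := finset_trans (k := 4) (by norm_num) T4 T T4_card hT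
  have hmem := smul_mem_iff hσT
  have h2 := conn_perm hσ hx
  set y := permF σ x with hy
  have y1 : ∀ p ∈ T4, y p = 4 ∨ y p = -4 := fun p hp => h1 (σ p) ((hmem p).mpr hp)
  have y0 : ∀ p ∉ T4, y p = 0 := fun p hp => h0 (σ p) (fun h => hp ((hmem p).mp h))
  obtain ⟨C, hC, hCS⟩ := exists_code_inter_all 15 cidx4 cidx4_ok (T4.filter (fun p => y p = -4))
    (Finset.filter_subset _ _)
  have h3 := conn_eps hC h2.mem_right
  have : epsF C y = e2 := by
    ext p
    unfold epsF e2
    by_cases hp : p ∈ T4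
    · rw [if_pos hp]
      by_cases hpC : p ∈ C
      · have : p ∈ T4.filter (fun p => y p = -4) := by
          rw [← hCS]; exact Finset.mem_inter.mpr ⟨hpC, hp⟩
        rw [if_pos hpC, (Finset.mem_filter.mp this).2]; norm_num
      · have : p ∉ T4.filter (fun p => y p = -4) := by
          rw [← hCS]; intro h; exact hpC (Finset.mem_inter.mp h).1
        rw [if_neg hpC]
        rcases y1 p hp with a | a
        · exact a
        · exact absurd (Finset.mem_filter.mpr ⟨hp, a⟩) this
    · rw [if_neg hp, y0 p hp]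
      simp
  rw [this] at h3
  exact h2.trans h3

/-! ### Shapes O1 and O2 -/

def o1 : GolayPt → ℤ := fun p =>
  if p = some 0 then 5 else if p = some 1 ∨ p = some 2 then -3 else 1

theorem shO1_conn {x : GolayPt → ℤ} (hx : x ∈ leechLattice) (h : ShO1 x) : Conn x o1 := by
  obtain ⟨i, j, k, hij, hik, hjk, hi, hj, hk, hr⟩ := h
  have h1 := odd_normal hx
  have hy : ∀ p, epsF (lvl x 3) x p =
      if p = i then 5 else if p = j ∨ p = k then -3 else 1 := by
    intro p
    by_cases hpi : p = i
    · rw [if_pos hpi]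
      apply odd_normal_val x p 5 (by norm_num)
      rw [hpi]; exact hi
    · rw [if_neg hpi]
      by_cases hp : p = j ∨ p = k
      · rw [if_pos hp]
        apply odd_normal_val x p (-3) (by norm_num)
        rcases hp with rfl | rfl
        · rcases hj with h | h <;> rw [h] <;> norm_num
        · rcases hk with h | h <;> rw [h] <;> norm_num
      · rw [if_neg hp]
        push Not at hp
        exact odd_normal_val x p 1 (by norm_num) (hr p hpi hp.1 hp.2)
  obtain ⟨σ, hσ, hσ0, hσ1, hσ2⟩ := exists_perm_three i j k hij hik hjk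
  have h2 := conn_perm hσ h1.mem_right
  have : permF σ (epsF (lvl x 3) x) = o1 := by
    ext p
    show epsF (lvl x 3) x (σ p) = _
    rw [hy]
    unfold o1
    have e0 : (σ p = i) ↔ (p = some 0) := by
      rw [← hσ0]; simp only [EmbeddingLike.apply_eq_iff_eq]
    have e1 : (σ p = j ∨ σ p = k) ↔ (p = some 1 ∨ p = some 2) := by
      rw [← hσ1, ← hσ2]; simp only [EmbeddingLike.apply_eq_iff_eq]
    simp only [e0, e1]
  rw [this] at h2
  exact h1.trans h2

/-- the first five points -/
def T5 : Finset GolayPt := support₂ (ofMask 31)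

theorem T5_card : T5.card = 5 := by
  unfold T5
  rw [card_support₂_ofMask]
  decide

def o2 : GolayPt → ℤ := fun p => if p ∈ T5 then -3 else 1

theorem shO2_conn {x : GolayPt → ℤ} (hx : x ∈ leechLattice) (h : ShO2 x) : Conn x o2 := by
  obtain ⟨T, hT, h3, h1'⟩ := h
  have h1 := odd_normal hx
  have hy : ∀ p, epsF (lvl x 3) x p = if p ∈ T then -3 else 1 := by
    intro p
    by_cases hp : p ∈ T
    · rw [if_pos hp]
      apply odd_normal_val x p (-3) (by norm_num)
      rcases h3 p hp with h | h <;> rw [h] <;> norm_num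
    · rw [if_neg hp]
      exact odd_normal_val x p 1 (by norm_num) (h1' p hp)
  obtain ⟨σ, hσ, hσT⟩ := finset_trans (k := 5) (by norm_num) T5 T T5_card hT
  have hmem := smul_mem_iff hσT
  have h2 := conn_perm hσ h1.mem_right
  have : permF σ (epsF (lvl x 3) x) = o2 := by
    ext p
    show epsF (lvl x 3) x (σ p) = _
    rw [hy]
    unfold o2
    simp only [hmem p]
  rw [this] at h2
  exact h1.trans h2

/-! ### Shape E3 -/

def e3 : GolayPt → ℤ := fun p => if p = some 0 then -6 else if p ∈ O0 then 2 else 0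

theorem sum_e3 : ∑ p ∈ O0, e3 p = 8 := by
  classical
  have : ∀ p ∈ O0, e3 p = 2 - (if p = some 0 then 8 else 0) := by
    intro p hp
    unfold e3
    split_ifs <;> norm_num
  rw [Finset.sum_congr rfl this, Finset.sum_sub_distrib, Finset.sum_const,
    O0_mem.2, Finset.sum_ite_eq' O0 (some 0) (fun _ => (8 : ℤ)), if_pos zero_mem]
  norm_num

theorem shE3_normal {y : GolayPt → ℤ} (hy : y ∈ leechLattice)
    (hq : y (some 0) = 6 ∨ y (some 0) = -6)
    (h1 : ∀ p ∈ O0, p ≠ some 0 → y p = 2 ∨ y p = -2) (h0 : ∀ p, p ∉ O0 → y p = 0) :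
    Conn y e3 := by
  classical
  have hsum : (∑ p ∈ O0, y p) % 8 = (∑ p ∈ O0, e3 p) % 8 := by
    rw [sum_e3, ← sum_eq_sum_of_zero h0]
    obtain ⟨m, hm1, hm2, _⟩ := (mem_leechLattice_iff y).mp hy
    simp only [Int.ModEq] at hm1 hm2
    have hpar : y none % 2 = 0 := by
      rw [h0 none none_notMem]; norm_num
    have := hm1 none
    omega
  obtain ⟨C, hC, hCy⟩ := sign_fix' 5279 cidx8 cidx8_ok y e3
    (fun p hp => by
      unfold e3
      by_cases hp0 : p = some 0
      · rw [if_pos hp0, hp0]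
        rcases hq with h | h
        · right; rw [h]; norm_num
        · left; exact h
      · have hp' : p ∈ O0 := hp
        rw [if_neg hp0, if_pos hp']
        rcases h1 p hp hp0 with h | h
        · left; exact h
        · right; exact h)
    (fun p hp => by
      unfold e3
      by_cases hp0 : p = some 0
      · rw [if_pos hp0]; norm_num
      · have hp' : p ∈ O0 := hp
        rw [if_neg hp0, if_pos hp']; norm_num) hsum
  have h2 := conn_eps hC hy
  have : epsF C y = e3 := by
    ext p
    by_cases hp : p ∈ O0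
    · exact hCy p hp
    · unfold epsF e3
      rw [h0 p hp, if_neg (fun e : p = some 0 => hp (e ▸ zero_mem)), if_neg hp]
      simp
  rw [this] at h2
  exact h2

theorem shE3_conn {x : GolayPt → ℤ} (hx : x ∈ leechLattice) (h : ShE3 x) : Conn x e3 := by
  obtain ⟨O, hO, q, hqO, hq, h1, h0⟩ := h
  obtain ⟨σ, hσ, hσO, hσq⟩ := octad_pt_trans O hO q hqO
  have hmem := smul_mem_iff hσO
  have h2 := conn_perm hσ hx
  refine h2.trans (shE3_normal h2.mem_right ?_ ?_ ?_)
  · show x (σ (some 0)) = 6 ∨ x (σ (some 0)) = -6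
    rw [hσq]; exact hq
  · intro p hp hp0
    apply h1 (σ p) ((hmem p).mpr hp)
    intro e
    apply hp0
    rw [← hσq] at e
    exact σ.injective e
  · intro p hp
    exact h0 (σ p) (fun h => hp ((hmem p).mp h))

/-! ### Shape E5 -/

def e5 : GolayPt → ℤ := fun p =>
  if p = some 1 then 4 else if p = some 0 then -2 else if p ∈ D0 then 2 else 0

theorem zero_mem_D0 : (some 0 : GolayPt) ∈ D0 := by
  unfold D0
  rw [mem_support_ofMask]
  decide

theorem none_notMem_D0 : (none : GolayPt) ∉ D0 := by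
  unfold D0
  rw [mem_support_ofMask]
  decide

theorem e5_of_mem {p : GolayPt} (hp : p ∈ D0) : e5 p = if p = some 0 then -2 else 2 := by
  unfold e5
  have : p ≠ some 1 := fun e => one_notMem_D0 (e ▸ hp)
  rw [if_neg this]
  simp only [hp, if_true]

theorem sum_e5 : ∑ p ∈ D0, e5 p = 20 := by
  classical
  rw [Finset.sum_congr rfl (fun p hp => e5_of_mem hp)]
  have : ∀ p : GolayPt, (if p = some 0 then (-2 : ℤ) else 2) = 2 - (if p = some 0 then 4 else 0) := by
    intro p; split_ifs <;> norm_num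
  rw [Finset.sum_congr rfl (fun p _ => this p), Finset.sum_sub_distrib, Finset.sum_const,
    D0_mem.2, Finset.sum_ite_eq' D0 (some 0) (fun _ => (4 : ℤ)), if_pos zero_mem_D0]
  norm_num

theorem shE5_normal {y : GolayPt → ℤ} (hy : y ∈ leechLattice)
    (hq : y (some 1) = 4 ∨ y (some 1) = -4)
    (h1 : ∀ p ∈ D0, y p = 2 ∨ y p = -2) (h0 : ∀ p, p ∉ D0 → p ≠ some 1 → y p = 0) :
    Conn y e5 := by
  classical
  have htot : ∑ p, y p = ∑ p ∈ D0, y p + y (some 1) := by
    rw [← Finset.sum_add_sum_compl D0 y]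
    congr 1
    exact Finset.sum_eq_single (some 1)
      (fun p hp hne => h0 p (Finset.mem_compl.mp hp) hne)
      (fun h => absurd (Finset.mem_compl.mpr one_notMem_D0) h)
  have hsum : (∑ p ∈ D0, y p) % 8 = (∑ p ∈ D0, e5 p) % 8 := by
    rw [sum_e5]
    obtain ⟨m, hm1, hm2, _⟩ := (mem_leechLattice_iff y).mp hy
    simp only [Int.ModEq] at hm1 hm2
    have hpar : y none % 2 = 0 := by
      rw [h0 none none_notMem_D0 (by simp)]; norm_num
    have := hm1 none
    rw [htot] at hm2
    rcases hq with h | h <;> rw [h] at hm2 <;> omega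
  obtain ⟨C, hC, hCy⟩ := sign_fix 28637 cidx12 cidx12_ok y e5 h1
    (fun p hp => by
      rw [e5_of_mem hp]
      split_ifs
      · exact Or.inr rfl
      · exact Or.inl rfl) hsum
  have h2 := conn_eps hC hy
  have hz1 : epsF C y (some 1) = 4 ∨ epsF C y (some 1) = -4 := by
    unfold epsF
    split_ifs
    · rcases hq with h | h <;> rw [h] <;> norm_num
    · exact hq
  have hz0 : ∀ p, p ∉ D0 → p ≠ some 1 → epsF C y p = 0 := by
    intro p hp hp1
    unfold epsF
    rw [h0 p hp hp1]
    simp
  rcases hz1 with h5 | h5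
  · have : epsF C y = e5 := by
      ext p
      by_cases hp : p ∈ D0
      · exact hCy p hp
      · by_cases hp1 : p = some 1
        · rw [hp1, h5]; unfold e5; rw [if_pos rfl]
        · rw [hz0 p hp hp1]
          unfold e5
          rw [if_neg hp1, if_neg (fun e : p = some 0 => hp (e ▸ zero_mem_D0)), if_neg hp]
    rw [this] at h2
    exact h2
  · have hcomp : D0ᶜ ∈ gC := gC_compl D0_mem.1
    have h3 := conn_eps hcomp h2.mem_right
    have : epsF D0ᶜ (epsF C y) = e5 := by
      ext p
      by_cases hp : p ∈ D0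
      · have : p ∉ D0ᶜ := fun h => (Finset.mem_compl.mp h) hp
        rw [← hCy p hp]
        show (if p ∈ D0ᶜ then _ else _) = _
        rw [if_neg this]
      · have hpc : p ∈ D0ᶜ := Finset.mem_compl.mpr hp
        show (if p ∈ D0ᶜ then -(epsF C y p) else _) = _
        rw [if_pos hpc]
        by_cases hp1 : p = some 1
        · rw [hp1, h5]; unfold e5; rw [if_pos rfl]; norm_num
        · rw [hz0 p hp hp1]
          unfold e5
          rw [if_neg hp1, if_neg (fun e : p = some 0 => hp (e ▸ zero_mem_D0)), if_neg hp]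
          norm_num
    rw [this] at h3
    exact h2.trans h3

theorem shE5_conn {x : GolayPt → ℤ} (hx : x ∈ leechLattice) (h : ShE5 x) : Conn x e5 := by
  obtain ⟨D, hD, q, hqD, hq, h1, h0⟩ := h
  obtain ⟨σ, hσ, hσD, hσq⟩ := dodecad_pt_trans D hD q hqD
  have hmem := smul_mem_iff hσD
  have h2 := conn_perm hσ hx
  refine h2.trans (shE5_normal h2.mem_right ?_ ?_ ?_)
  · show x (σ (some 1)) = 4 ∨ x (σ (some 1)) = -4
    rw [hσq]; exact hq
  · intro p hp
    exact h1 (σ p) ((hmem p).mpr hp)
  · intro p hp hp1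
    apply h0 (σ p) (fun h => hp ((hmem p).mp h))
    intro e
    apply hp1
    rw [← hσq] at e
    exact σ.injective e

end Cfsg.Agent.Lib.Helper1.LeechConn
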