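import Mathlib
import Cfsg.Agent.Lib.Helper1.LeechTrans64b

set_option autoImplicit false
set_option maxRecDepth 100000

namespace Cfsg.Agent.Lib.Helper1.LeechConn

open Cfsg Cfsg.Agent.Lib.Helper1.LeechCross Cfsg.Agent.Lib.Helper1.LeechAut
  Cfsg.Agent.Lib.Helper1.LeechXi Cfsg.Agent.Lib.Helper1.LeechShape
  Cfsg.Agent.Lib.Helper1.MaskOf Cfsg.Agent.Lib.Helper1.LeechChk
  Cfsg.Agent.Lib.Helper1.LeechGen Cfsg.Agent.Lib.Helper1.LeechIndex
open scoped Pointwise

/-- a vector given by its list of coordinates -/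
def ofList (l : List ℤ) : GolayPt → ℤ := fun p => l.getD (gIdx p) 0

/-! ### Shape certificates -/

theorem shE1_of_chk (v : GolayPt → ℤ) (i : GolayPt)
    (h : ∀ p : GolayPt, if p = i then (v p = 8 ∨ v p = -8) else v p = 0) : ShE1 v := by
  refine ⟨i, ?_, fun p hp => ?_⟩
  · have := h i; rwa [if_pos rfl] at this
  · have := h p; rwa [if_neg hp] at this

theorem shE2_of_chk (v : GolayPt → ℤ) (M : ℕ) (h4 : popcN 24 M = 4)
    (h : ∀ p : GolayPt, if M.testBit (gIdx p) = true then (v p = 4 ∨ v p = -4) else v p = 0) :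
    ShE2 v := by
  refine ⟨support₂ (ofMask M), by rw [card_support₂_ofMask, h4], fun p hp => ?_, fun p hp => ?_⟩
  · have := h p; rwa [if_pos ((mem_support_ofMask _ _).mp hp)] at this
  · have := h p; rwa [if_neg (fun e => hp ((mem_support_ofMask _ _).mpr e))] at this

theorem shE3_of_chk (v : GolayPt → ℤ) (c : ℕ) (hc : c < 4096) (h8 : popcN 24 (cw c) = 8)
    (q : GolayPt) (hq : (cw c).testBit (gIdx q) = true)
    (h : ∀ p : GolayPt, if (cw c).testBit (gIdx p) = true then
      (if p = q then (v p = 6 ∨ v p = -6) else (v p = 2 ∨ v p = -2)) else v p = 0) :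
    ShE3 v := by
  refine ⟨support₂ (ofMask (cw c)), octad_of_code hc h8, q, (mem_support_ofMask _ _).mpr hq, ?_,
    fun p hp hpq => ?_, fun p hp => ?_⟩
  · have := h q; rwa [if_pos hq, if_pos rfl] at this
  · have := h p; rwa [if_pos ((mem_support_ofMask _ _).mp hp), if_neg hpq] at this
  · have := h p; rwa [if_neg (fun e => hp ((mem_support_ofMask _ _).mpr e))] at this

theorem shE5_of_chk (v : GolayPt → ℤ) (c : ℕ) (hc : c < 4096) (h12 : popcN 24 (cw c) = 12)
    (q : GolayPt) (hq : (cw c).testBit (gIdx q) = false)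
    (h : ∀ p : GolayPt, if (cw c).testBit (gIdx p) = true then (v p = 2 ∨ v p = -2) else
      (if p = q then (v p = 4 ∨ v p = -4) else v p = 0)) :
    ShE5 v := by
  refine ⟨support₂ (ofMask (cw c)), Cfsg.Agent.Lib.Helper1.M24.dodecad_of_idx hc h12, q, ?_, ?_,
    fun p hp => ?_, fun p hp hpq => ?_⟩
  · rw [mem_support_ofMask, hq]; simp
  · have := h q
    rw [if_neg (by rw [hq]; simp), if_pos rfl] at this
    exact this
  · have := h p; rwa [if_pos ((mem_support_ofMask _ _).mp hp)] at this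
  · have := h p
    rwa [if_neg (fun e => hp ((mem_support_ofMask _ _).mpr e)), if_neg hpq] at this

theorem shO1_of_chk (v : GolayPt → ℤ) (i j k : GolayPt) (hij : i ≠ j) (hik : i ≠ k) (hjk : j ≠ k)
    (h : ∀ p : GolayPt, if p = i then (v p = 5 ∨ v p = -5) else
      if p = j ∨ p = k then (v p = 3 ∨ v p = -3) else (v p = 1 ∨ v p = -1)) : ShO1 v := by
  refine ⟨i, j, k, hij, hik, hjk, ?_, ?_, ?_, fun p hpi hpj hpk => ?_⟩
  · have := h i; rwa [if_pos rfl] at this
  · have := h j; rwa [if_neg hij.symm, if_pos (Or.inl rfl)] at this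
  · have := h k; rwa [if_neg hik.symm, if_pos (Or.inr rfl)] at this
  · have := h p
    rwa [if_neg hpi, if_neg (by push Not; exact ⟨hpj, hpk⟩)] at this

theorem shO2_of_chk (v : GolayPt → ℤ) (M : ℕ) (h5 : popcN 24 M = 5)
    (h : ∀ p : GolayPt, if M.testBit (gIdx p) = true then (v p = 3 ∨ v p = -3) else
      (v p = 1 ∨ v p = -1)) : ShO2 v := by
  refine ⟨support₂ (ofMask M), by rw [card_support₂_ofMask, h5], fun p hp => ?_, fun p hp => ?_⟩
  · have := h p; rwa [if_pos ((mem_support_ofMask _ _).mp hp)] at this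
  · have := h p; rwa [if_neg (fun e => hp ((mem_support_ofMask _ _).mpr e))] at this

/-! ### E2 to E1 -/

def yE2 : GolayPt → ℤ := ofList [-4, 4, 4, 0, 0, 0, 0, 0, 0, 0, 0, 0, 0, 0, 0, 0, 0, 0, 0, 0, 0, 0, 0, 4]

theorem yE2_chk : chk yE2 0 4095 0 0 0 = true := by decide +kernel

theorem yE2_mem : yE2 ∈ leechLattice := chk_sound yE2_chk

theorem yE2_sh : ShE2 yE2 := shE2_of_chk yE2 8388615 (by decide +kernel) (by decide +kernel)

theorem xi_yE2_sh : ShE1 (xiF yE2) := shE1_of_chk _ (some 0) (by decide +kernel)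

theorem e2_conn : Conn e2 (uu none) := by
  have h1 := shE2_conn yE2_mem yE2_sh
  have h2 := conn_xi yE2_mem
  have h3 := shE1_conn h2.mem_right xi_yE2_sh
  exact h1.symm.trans (h2.trans h3)

/-! ### E3 to E2 -/

def yE3 : GolayPt → ℤ := ofList [0, 0, 0, 0, 0, 0, 0, 0, 2, 2, 2, 2, 2, 0, 0, 6, 0, 0, -2, 0, 2, 0, 0, 0]

theorem yE3_chk : chk yE3 0 3766 0 329 0 = true := by decide +kernel

theorem yE3_mem : yE3 ∈ leechLattice := chk_sound yE3_chk

theorem yE3_sh : ShE3 yE3 :=
  shE3_of_chk yE3 329 (by norm_num) (by decide +kernel) (some 15) (by decide +kernel)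
    (by decide +kernel)

theorem xi_yE3_sh : ShE2 (xiF yE3) := shE2_of_chk _ 1312256 (by decide +kernel) (by decide +kernel)

theorem e3_conn : Conn e3 (uu none) := by
  have h1 := shE3_conn yE3_mem yE3_sh
  have h2 := conn_xi yE3_mem
  have h3 := shE2_conn h2.mem_right xi_yE3_sh
  exact h1.symm.trans (h2.trans (h3.trans e2_conn))

/-! ### O1 and O2 to E3 -/

def yO1 : GolayPt → ℤ := ofList [-1, 1, -1, 1, 1, -1, 5, -3, 1, 1, 1, 1, 1, 1, 1, -1, -1, 1, -1, -3, 1, -1, 1, -1]

theorem yO1_chk : chk yO1 1 0 1447 0 2648 = true := by decide +kernel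

theorem yO1_mem : yO1 ∈ leechLattice := chk_sound yO1_chk

theorem yO1_sh : ShO1 yO1 :=
  shO1_of_chk yO1 (some 6) (some 7) (some 19) (by decide) (by decide) (by decide)
    (by decide +kernel)

theorem xi_yO1_sh : ShE3 (xiF yO1) :=
  shE3_of_chk _ 216 (by norm_num) (by decide +kernel) (some 6) (by decide +kernel)
    (by decide +kernel)

theorem o1_conn : Conn o1 (uu none) := by
  have h1 := shO1_conn yO1_mem yO1_sh
  have h2 := conn_xi yO1_mem
  have h3 := shE3_conn h2.mem_right xi_yO1_sh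
  exact h1.symm.trans (h2.trans (h3.trans e3_conn))

def yO2 : GolayPt → ℤ := ofList [3, -3, 3, 1, 1, -1, 1, 1, 1, 1, 1, 1, 1, 1, 1, -1, -1, 1, -1, 1, 1, 3, 1, 3]

theorem yO2_chk : chk yO2 1 0 1447 0 2648 = true := by decide +kernel

theorem yO2_mem : yO2 ∈ leechLattice := chk_sound yO2_chk

theorem yO2_sh : ShO2 yO2 := shO2_of_chk yO2 10485767 (by decide +kernel) (by decide +kernel)

theorem xi_yO2_sh : ShE3 (xiF yO2) :=
  shE3_of_chk _ 216 (by norm_num) (by decide +kernel) (some 1) (by decide +kernel)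
    (by decide +kernel)

theorem o2_conn : Conn o2 (uu none) := by
  have h1 := shO2_conn yO2_mem yO2_sh
  have h2 := conn_xi yO2_mem
  have h3 := shE3_conn h2.mem_right xi_yO2_sh
  exact h1.symm.trans (h2.trans (h3.trans e3_conn))

/-! ### E5 to O1 -/

def yE5 : GolayPt → ℤ := ofList [-2, 2, 4, 0, 0, 0, 0, 0, 0, 2, 0, 0, 0, 2, 2, 2, 2, 0, 2, 0, 2, 2, 2, 2]

theorem yE5_chk : chk yE5 0 161 0 3934 0 = true := by decide +kernel

theorem yE5_mem : yE5 ∈ leechLattice := chk_sound yE5_chk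

theorem yE5_sh : ShE5 yE5 :=
  shE5_of_chk yE5 3934 (by norm_num) (by decide +kernel) (some 2) (by decide +kernel)
    (by decide +kernel)

theorem xi_yE5_sh : ShO1 (xiF yE5) :=
  shO1_of_chk _ (some 0) (some 4) (some 10) (by decide) (by decide) (by decide)
    (by decide +kernel)

theorem e5_conn : Conn e5 (uu none) := by
  have h1 := shE5_conn yE5_mem yE5_sh
  have h2 := conn_xi yE5_mem
  have h3 := shO1_conn h2.mem_right xi_yE5_sh
  exact h1.symm.trans (h2.trans (h3.trans o1_conn))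

end Cfsg.Agent.Lib.Helper1.LeechConn
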