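import Mathlib
import Cfsg.Agent.Lib.Helper1.LeechTrans64c

set_option autoImplicit false
set_option maxRecDepth 100000

namespace Cfsg.Agent.Lib.Helper1.LeechConn

open Cfsg Cfsg.Agent.Lib.Helper1.LeechCross Cfsg.Agent.Lib.Helper1.LeechAut
  Cfsg.Agent.Lib.Helper1.LeechXi Cfsg.Agent.Lib.Helper1.LeechShape
  Cfsg.Agent.Lib.Helper1.MaskOf Cfsg.Agent.Lib.Helper1.LeechChk
  Cfsg.Agent.Lib.Helper1.LeechGen Cfsg.Agent.Lib.Helper1.LeechIndex
open scoped Pointwise

theorem Conn.sqNorm_eq {x y : GolayPt → ℤ} (h : Conn x y) : sqNorm y = sqNorm x := by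
  obtain ⟨hx, g, rfl⟩ := h
  exact g.2.2 ⟨x, hx⟩

/-! ### Values taken by the coordinates in each shape -/

theorem vals_E1 {z : GolayPt → ℤ} (h : ShE1 z) (p : GolayPt) : z p = 8 ∨ z p = -8 ∨ z p = 0 := by
  obtain ⟨i, hi, hr⟩ := h
  by_cases hp : p = i
  · rw [hp]; rcases hi with a | a
    · exact Or.inl a
    · exact Or.inr (Or.inl a)
  · exact Or.inr (Or.inr (hr p hp))

theorem vals_E2 {z : GolayPt → ℤ} (h : ShE2 z) (p : GolayPt) : z p = 4 ∨ z p = -4 ∨ z p = 0 := by
  obtain ⟨T, _, h1, h0⟩ := h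
  by_cases hp : p ∈ T
  · rcases h1 p hp with a | a
    · exact Or.inl a
    · exact Or.inr (Or.inl a)
  · exact Or.inr (Or.inr (h0 p hp))

theorem vals_E3 {z : GolayPt → ℤ} (h : ShE3 z) (p : GolayPt) :
    z p = 6 ∨ z p = -6 ∨ z p = 2 ∨ z p = -2 ∨ z p = 0 := by
  obtain ⟨O, _, q, _, hq, h1, h0⟩ := h
  by_cases hp : p ∈ O
  · by_cases hpq : p = q
    · rw [hpq]; rcases hq with a | a
      · exact Or.inl a
      · exact Or.inr (Or.inl a)
    · rcases h1 p hp hpq with a | a
      · exact Or.inr (Or.inr (Or.inl a))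
      · exact Or.inr (Or.inr (Or.inr (Or.inl a)))
  · exact Or.inr (Or.inr (Or.inr (Or.inr (h0 p hp))))

theorem vals_E4 {z : GolayPt → ℤ} (h : ShE4 z) (p : GolayPt) :
    z p = 4 ∨ z p = -4 ∨ z p = 2 ∨ z p = -2 ∨ z p = 0 := by
  obtain ⟨O, _, q₁, q₂, _, _, _, hq₁, hq₂, h1, h0⟩ := h
  by_cases hp : p ∈ O
  · rcases h1 p hp with a | a
    · exact Or.inr (Or.inr (Or.inl a))
    · exact Or.inr (Or.inr (Or.inr (Or.inl a)))
  · by_cases hp1 : p = q₁
    · rw [hp1]; rcases hq₁ with a | a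
      · exact Or.inl a
      · exact Or.inr (Or.inl a)
    · by_cases hp2 : p = q₂
      · rw [hp2]; rcases hq₂ with a | a
        · exact Or.inl a
        · exact Or.inr (Or.inl a)
      · exact Or.inr (Or.inr (Or.inr (Or.inr (h0 p hp hp1 hp2))))

theorem vals_E5 {z : GolayPt → ℤ} (h : ShE5 z) (p : GolayPt) :
    z p = 4 ∨ z p = -4 ∨ z p = 2 ∨ z p = -2 ∨ z p = 0 := by
  obtain ⟨D, _, q, _, hq, h1, h0⟩ := h
  by_cases hp : p ∈ D
  · rcases h1 p hp with a | a
    · exact Or.inr (Or.inr (Or.inl a))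
    · exact Or.inr (Or.inr (Or.inr (Or.inl a)))
  · by_cases hp1 : p = q
    · rw [hp1]; rcases hq with a | a
      · exact Or.inl a
      · exact Or.inr (Or.inl a)
    · exact Or.inr (Or.inr (Or.inr (Or.inr (h0 p hp hp1))))

theorem vals_E6 {z : GolayPt → ℤ} (h : ShE6 z) (p : GolayPt) : z p = 2 ∨ z p = -2 ∨ z p = 0 := by
  obtain ⟨O, _, h0, h1⟩ := h
  by_cases hp : p ∈ O
  · exact Or.inr (Or.inr (h0 p hp))
  · rcases h1 p hp with a | a
    · exact Or.inl a
    · exact Or.inr (Or.inl a)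

theorem vals_O1 {z : GolayPt → ℤ} (h : ShO1 z) (p : GolayPt) : z p % 2 = 1 := by
  obtain ⟨i, j, k, _, _, _, hi, hj, hk, hr⟩ := h
  by_cases hpi : p = i
  · rw [hpi]; rcases hi with a | a <;> rw [a] <;> norm_num
  · by_cases hpj : p = j
    · rw [hpj]; rcases hj with a | a <;> rw [a] <;> norm_num
    · by_cases hpk : p = k
      · rw [hpk]; rcases hk with a | a <;> rw [a] <;> norm_num
      · rcases hr p hpi hpj hpk with a | a <;> rw [a] <;> norm_num

theorem vals_O2 {z : GolayPt → ℤ} (h : ShO2 z) (p : GolayPt) : z p % 2 = 1 := by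
  obtain ⟨T, _, h3, h1⟩ := h
  by_cases hp : p ∈ T
  · rcases h3 p hp with a | a <;> rw [a] <;> norm_num
  · rcases h1 p hp with a | a <;> rw [a] <;> norm_num

/-- a vector of the third layer with a coordinate of absolute value six has shape E3 -/
theorem shE3_of_six {z : GolayPt → ℤ} (hz : z ∈ leechLattice) (hn : sqNorm z = 64) (p : GolayPt)
    (h6 : z p = 6 ∨ z p = -6) : ShE3 z := by
  rcases shape64 hz hn with h | h | h | h | h | h | h | h
  · have := vals_E1 h p; omega
  · have := vals_E2 h p; omega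
  · exact h
  · have := vals_E4 h p; omega
  · have := vals_E5 h p; omega
  · have := vals_E6 h p; omega
  · have := vals_O1 h p; omega
  · have := vals_O2 h p; omega

/-- a vector of the third layer with a coordinate of absolute value four -/
theorem sh_of_four {z : GolayPt → ℤ} (hz : z ∈ leechLattice) (hn : sqNorm z = 64) (p : GolayPt)
    (h4 : z p = 4 ∨ z p = -4) : ShE2 z ∨ ShE4 z ∨ ShE5 z := by
  rcases shape64 hz hn with h | h | h | h | h | h | h | h
  · have := vals_E1 h p; omega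
  · exact Or.inl h
  · have := vals_E3 h p; omega
  · exact Or.inr (Or.inl h)
  · exact Or.inr (Or.inr h)
  · have := vals_E6 h p; omega
  · have := vals_O1 h p; omega
  · have := vals_O2 h p; omega

/-! ### Tetrad sums -/

theorem bsum_blk0 (y : GolayPt → ℤ) (p : GolayPt) (hp : blk p = 0) :
    bsum y p = y (some 0) + y (some 1) + y (some 2) + y none := by
  unfold bsum
  rw [hp, ← Finset.sum_filter]
  have : (Finset.univ.filter (fun q : GolayPt => blk q = 0)) =
      {some 0, some 1, some 2, none} := by decide +kernel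
  rw [this]
  rw [Finset.sum_insert (by decide), Finset.sum_insert (by decide), Finset.sum_insert (by decide),
    Finset.sum_singleton]
  ring

theorem bsum_blk1 (y : GolayPt → ℤ) (p : GolayPt) (hp : blk p = 1) :
    bsum y p = y (some 4) + y (some 13) + y (some 16) + y (some 22) := by
  unfold bsum
  rw [hp, ← Finset.sum_filter]
  have : (Finset.univ.filter (fun q : GolayPt => blk q = 1)) =
      {some 4, some 13, some 16, some 22} := by decide +kernel
  rw [this]
  rw [Finset.sum_insert (by decide), Finset.sum_insert (by decide), Finset.sum_insert (by decide),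
    Finset.sum_singleton]
  ring

theorem xiF_blk0 (y : GolayPt → ℤ) (p : GolayPt) (hp : blk p = 0) :
    xiF y p = -((y (some 0) + y (some 1) + y (some 2) + y none) / 2 - y p) := by
  unfold xiF sgn
  rw [bsum_blk0 y p hp, if_pos hp]
  ring

theorem xiF_blk1 (y : GolayPt → ℤ) (p : GolayPt) (hp : blk p = 1) :
    xiF y p = (y (some 4) + y (some 13) + y (some 16) + y (some 22)) / 2 - y p := by
  unfold xiF sgn
  rw [bsum_blk1 y p hp, if_neg (by rw [hp]; norm_num)]
  ring

/-- ordered four-point transitivity -/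
theorem exists_perm_four (i j k l : GolayPt) (hij : i ≠ j) (hik : i ≠ k) (hil : i ≠ l)
    (hjk : j ≠ k) (hjl : j ≠ l) (hkl : k ≠ l) :
    ∃ σ ∈ M24, σ (some 0) = i ∧ σ (some 1) = j ∧ σ (some 2) = k ∧ σ none = l := by
  have := Cfsg.Agent.Lib.Helper1.M24.five_transitive
  have hpre : MulAction.IsMultiplyPretransitive M24 GolayPt 4 :=
    MulAction.isMultiplyPretransitive_of_le (G := M24) (α := GolayPt) (m := 4) (n := 5)
      (by norm_num) (by rw [Nat.card_eq_fintype_card]; decide)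
  let e₁ : Fin 4 ↪ GolayPt := ⟨![some 0, some 1, some 2, none], by
    intro u v h
    fin_cases u <;> fin_cases v <;> first | rfl | (exfalso; revert h; decide)⟩
  let e₂ : Fin 4 ↪ GolayPt := ⟨![i, j, k, l], by
    intro u v h
    fin_cases u <;> fin_cases v <;>
      simp_all [hij.symm, hik.symm, hil.symm, hjk.symm, hjl.symm, hkl.symm]⟩
  obtain ⟨g, hg⟩ := MulAction.exists_smul_eq M24 e₁ e₂
  refine ⟨g.1, g.2, ?_, ?_, ?_, ?_⟩
  · exact congrArg (fun e : Fin 4 ↪ GolayPt => e 0) hg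
  · exact congrArg (fun e : Fin 4 ↪ GolayPt => e 1) hg
  · exact congrArg (fun e : Fin 4 ↪ GolayPt => e 2) hg
  · exact congrArg (fun e : Fin 4 ↪ GolayPt => e 3) hg

/-! ### Shape E4 -/

/-- the key step: a suitable arrangement on the first tetrad produces a coordinate six -/
theorem e4_step {x : GolayPt → ℤ} (hx : x ∈ leechLattice) (hn : sqNorm x = 64)
    (r₁ r₂ a b : GolayPt) (h12 : r₁ ≠ r₂) (h1a : r₁ ≠ a) (h1b : r₁ ≠ b) (h2a : r₂ ≠ a)
    (h2b : r₂ ≠ b) (hab : a ≠ b)
    (hpat : (∃ s : ℤ, (s = 1 ∨ s = -1) ∧ x r₁ = 4 * s ∧ x r₂ = 4 * s ∧ x a = -2 * s ∧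
        x b = 2 * s) ∨
      (∃ t : ℤ, (t = 1 ∨ t = -1) ∧ x r₁ = -4 * t ∧ x r₂ = 4 * t ∧ x a = 2 * t ∧ x b = 2 * t)) :
    Conn x (uu none) := by
  obtain ⟨σ, hσ, hσ0, hσ1, hσ2, hσ3⟩ := exists_perm_four r₁ r₂ a b h12 h1a h1b h2a h2b hab
  have h1 := conn_perm hσ hx
  set y := permF σ x with hy
  have y0 : y (some 0) = x r₁ := by show x (σ (some 0)) = _; rw [hσ0]
  have y1 : y (some 1) = x r₂ := by show x (σ (some 1)) = _; rw [hσ1]
  have y2 : y (some 2) = x a := by show x (σ (some 2)) = _; rw [hσ2]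
  have y3 : y none = x b := by show x (σ none) = _; rw [hσ3]
  have h2 := conn_xi h1.mem_right
  have hzn : sqNorm (xiF y) = 64 := by rw [h2.sqNorm_eq, h1.sqNorm_eq, hn]
  have hex : ∃ p, xiF y p = 6 ∨ xiF y p = -6 := by
    rcases hpat with ⟨s, hs, e1, e2, e3, e4⟩ | ⟨t, ht, e1, e2, e3, e4⟩
    · refine ⟨some 2, ?_⟩
      rw [xiF_blk0 y (some 2) (by decide), y0, y1, y2, y3, e1, e2, e3, e4]
      rcases hs with rfl | rfl <;> norm_num
    · refine ⟨some 0, ?_⟩
      rw [xiF_blk0 y (some 0) (by decide), y0, y1, y2, y3, e1, e2, e3, e4]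
      rcases ht with rfl | rfl <;> norm_num
  obtain ⟨p, hp⟩ := hex
  have h3 := shE3_conn h2.mem_right (shE3_of_six h2.mem_right hzn p hp)
  exact h1.trans (h2.trans (h3.trans e3_conn))

theorem shE4_conn {x : GolayPt → ℤ} (hx : x ∈ leechLattice) (hn : sqNorm x = 64) (h : ShE4 x) :
    Conn x (uu none) := by
  classical
  obtain ⟨O, hO, q₁, q₂, hq₁O, hq₂O, hq12, hq₁, hq₂, h1, h0⟩ := h
  -- first make the signs on the octad non-constant
  have stage1 : ∃ x', Conn x x' ∧ (x' q₁ = 4 ∨ x' q₁ = -4) ∧ (x' q₂ = 4 ∨ x' q₂ = -4) ∧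
      (∀ p ∈ O, x' p = 2 ∨ x' p = -2) ∧ ∃ a ∈ O, ∃ b ∈ O, x' a = 2 ∧ x' b = -2 := by
    by_cases hnc : ∃ a ∈ O, ∃ b ∈ O, x a = 2 ∧ x b = -2
    · exact ⟨x, Conn.refl hx, hq₁, hq₂, h1, hnc⟩
    · -- all signs equal
      have hcard : 1 < O.card := by rw [hO.2]; norm_num
      obtain ⟨a, ha, b, hb, hab⟩ := Finset.one_lt_card.mp hcard
      obtain ⟨c, hc, hbc, hac⟩ := separate a b hab
      have hsame : x a = x b := by
        rcases h1 a ha with e1 | e1 <;> rcases h1 b hb with e2 | e2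
        · rw [e1, e2]
        · exact absurd ⟨a, ha, b, hb, e1, e2⟩ hnc
        · exact absurd ⟨b, hb, a, ha, e2, e1⟩ hnc
        · rw [e1, e2]
      refine ⟨epsF c x, conn_eps hc hx, ?_, ?_, ?_, ?_⟩
      · unfold epsF; split_ifs
        · rcases hq₁ with e | e <;> rw [e] <;> norm_num
        · exact hq₁
      · unfold epsF; split_ifs
        · rcases hq₂ with e | e <;> rw [e] <;> norm_num
        · exact hq₂
      · intro p hp
        unfold epsF; split_ifs
        · rcases h1 p hp with e | e <;> rw [e] <;> norm_num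
        · exact h1 p hp
      · have ea : epsF c x a = x a := by unfold epsF; rw [if_neg hac]
        have eb : epsF c x b = -x b := by unfold epsF; rw [if_pos hbc]
        rcases h1 a ha with e1 | e1
        · exact ⟨a, ha, b, hb, by rw [ea, e1], by rw [eb, ← hsame, e1]⟩
        · exact ⟨b, hb, a, ha, by rw [eb, ← hsame, e1]; norm_num, by rw [ea, e1]⟩
  obtain ⟨x', hxx', hq₁', hq₂', h1', a, ha, b, hb, hxa, hxb⟩ := stage1
  have hn' : sqNorm x' = 64 := by rw [hxx'.sqNorm_eq, hn]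
  have hab : a ≠ b := by intro e; rw [e, hxb] at hxa; norm_num at hxa
  have hq₁a : q₁ ≠ a := fun e => hq₁O (e ▸ ha)
  have hq₁b : q₁ ≠ b := fun e => hq₁O (e ▸ hb)
  have hq₂a : q₂ ≠ a := fun e => hq₂O (e ▸ ha)
  have hq₂b : q₂ ≠ b := fun e => hq₂O (e ▸ hb)
  refine hxx'.trans ?_
  -- case analysis on the two outer signs
  rcases hq₁' with e1 | e1 <;> rcases hq₂' with e2 | e2
  · -- both positive: pattern A with s = 1, a' = b, b' = a
    exact e4_step hxx'.mem_right hn' q₁ q₂ b a hq12 hq₁b hq₁a hq₂b hq₂a hab.symm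
      (Or.inl ⟨1, Or.inl rfl, by rw [e1]; norm_num, by rw [e2]; norm_num, by rw [hxb]; norm_num,
        by rw [hxa]; norm_num⟩)
  · -- q₁ positive, q₂ negative: need two points of equal sign
    -- find a third point of the octad
    have hcard : 2 < O.card := by rw [hO.2]; norm_num
    obtain ⟨c, hc, hca, hcb⟩ : ∃ c ∈ O, c ≠ a ∧ c ≠ b := by
      by_contra hcon
      push Not at hcon
      have : O ⊆ {a, b} := by
        intro p hp
        rw [Finset.mem_insert, Finset.mem_singleton]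
        by_cases hpa : p = a
        · exact Or.inl hpa
        · exact Or.inr (hcon p hp hpa)
      have := Finset.card_le_card this
      have h2 : ({a, b} : Finset GolayPt).card ≤ 2 := Finset.card_le_two
      omega
    have hq₁c : q₁ ≠ c := fun e => hq₁O (e ▸ hc)
    have hq₂c : q₂ ≠ c := fun e => hq₂O (e ▸ hc)
    rcases h1' c hc with ec | ec
    · -- c and a positive: t = 1 needs x r₂ = 4: r₂ = q₁, r₁ = q₂
      exact e4_step hxx'.mem_right hn' q₂ q₁ a c hq12.symm hq₂a hq₂c hq₁a hq₁c hca.symm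
        (Or.inr ⟨1, Or.inl rfl, by rw [e2]; norm_num, by rw [e1]; norm_num, by rw [hxa]; norm_num,
          by rw [ec]; norm_num⟩)
    · -- c and b negative: t = -1 needs x r₂ = -4: r₂ = q₂, r₁ = q₁
      exact e4_step hxx'.mem_right hn' q₁ q₂ b c hq12 hq₁b hq₁c hq₂b hq₂c hcb.symm
        (Or.inr ⟨-1, Or.inr rfl, by rw [e1]; norm_num, by rw [e2]; norm_num, by rw [hxb]; norm_num,
          by rw [ec]; norm_num⟩)
  · -- q₁ negative, q₂ positive
    have hcard : 2 < O.card := by rw [hO.2]; norm_num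
    obtain ⟨c, hc, hca, hcb⟩ : ∃ c ∈ O, c ≠ a ∧ c ≠ b := by
      by_contra hcon
      push Not at hcon
      have : O ⊆ {a, b} := by
        intro p hp
        rw [Finset.mem_insert, Finset.mem_singleton]
        by_cases hpa : p = a
        · exact Or.inl hpa
        · exact Or.inr (hcon p hp hpa)
      have := Finset.card_le_card this
      have h2 : ({a, b} : Finset GolayPt).card ≤ 2 := Finset.card_le_two
      omega
    have hq₁c : q₁ ≠ c := fun e => hq₁O (e ▸ hc)
    have hq₂c : q₂ ≠ c := fun e => hq₂O (e ▸ hc)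
    rcases h1' c hc with ec | ec
    · -- c and a positive: t = 1, r₂ = q₂, r₁ = q₁
      exact e4_step hxx'.mem_right hn' q₁ q₂ a c hq12 hq₁a hq₁c hq₂a hq₂c hca.symm
        (Or.inr ⟨1, Or.inl rfl, by rw [e1]; norm_num, by rw [e2]; norm_num, by rw [hxa]; norm_num,
          by rw [ec]; norm_num⟩)
    · -- c and b negative: t = -1, r₂ = q₁, r₁ = q₂
      exact e4_step hxx'.mem_right hn' q₂ q₁ b c hq12.symm hq₂b hq₂c hq₁b hq₁c hcb.symm
        (Or.inr ⟨-1, Or.inr rfl, by rw [e2]; norm_num, by rw [e1]; norm_num, by rw [hxb]; norm_num,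
          by rw [ec]; norm_num⟩)
  · -- both negative: pattern A with s = -1
    exact e4_step hxx'.mem_right hn' q₁ q₂ a b hq12 hq₁a hq₁b hq₂a hq₂b hab
      (Or.inl ⟨-1, Or.inr rfl, by rw [e1]; norm_num, by rw [e2]; norm_num, by rw [hxa]; norm_num,
        by rw [hxb]; norm_num⟩)

end Cfsg.Agent.Lib.Helper1.LeechConn
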