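import Mathlib
import Cfsg.Agent.Lib.Helper1.LeechTrans64d

set_option autoImplicit false
set_option maxRecDepth 100000

namespace Cfsg.Agent.Lib.Helper1.LeechConn

open Cfsg Cfsg.Agent.Lib.Helper1.LeechCross Cfsg.Agent.Lib.Helper1.LeechAut
  Cfsg.Agent.Lib.Helper1.LeechXi Cfsg.Agent.Lib.Helper1.LeechShape
  Cfsg.Agent.Lib.Helper1.MaskOf Cfsg.Agent.Lib.Helper1.LeechChk
  Cfsg.Agent.Lib.Helper1.LeechGen Cfsg.Agent.Lib.Helper1.LeechIndex
open scoped Pointwise

theorem blk1_notMem_Oc : (some 4 : GolayPt) ∉ Oc ∧ (some 13 : GolayPt) ∉ Oc ∧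
    (some 16 : GolayPt) ∉ Oc ∧ (some 22 : GolayPt) ∉ Oc := by
  unfold Oc
  simp only [mem_support_ofMask]
  decide +kernel

theorem blk1_O0 : (some 4 : GolayPt) ∈ O0 ∧ (some 13 : GolayPt) ∉ O0 ∧
    (some 16 : GolayPt) ∉ O0 ∧ (some 22 : GolayPt) ∉ O0 := by
  unfold O0
  simp only [mem_support_ofMask]
  decide +kernel

theorem shE6_conn {x : GolayPt → ℤ} (hx : x ∈ leechLattice) (hn : sqNorm x = 64) (h : ShE6 x) :
    Conn x (uu none) := by
  obtain ⟨O, hO, h0, h1⟩ := h
  obtain ⟨σ, hσ, hσO⟩ := Cfsg.Agent.Lib.Helper1.M24.octad_trans Oc O Oc_mem hO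
  have hmem := smul_mem_iff hσO
  have c1 := conn_perm hσ hx
  set y := permF σ x with hy
  have y1 : ∀ p, p ∉ Oc → (y p = 2 ∨ y p = -2) := fun p hp =>
    h1 (σ p) (fun h => hp ((hmem p).mp h))
  obtain ⟨n4, n13, n16, n22⟩ := blk1_notMem_Oc
  obtain ⟨m4, m13, m16, m22⟩ := blk1_O0
  -- arrange an odd number of minus signs on the second tetrad
  have stage : ∃ y', Conn y y' ∧ (y' (some 4) = 2 ∨ y' (some 4) = -2) ∧
      (y' (some 13) = 2 ∨ y' (some 13) = -2) ∧ (y' (some 16) = 2 ∨ y' (some 16) = -2) ∧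
      (y' (some 22) = 2 ∨ y' (some 22) = -2) ∧
      y' (some 4) * y' (some 13) * y' (some 16) * y' (some 22) = -16 := by
    by_cases hP : y (some 4) * y (some 13) * y (some 16) * y (some 22) = -16
    · exact ⟨y, Conn.refl c1.mem_right, y1 _ n4, y1 _ n13, y1 _ n16, y1 _ n22, hP⟩
    · have e4 : epsF O0 y (some 4) = -y (some 4) := by unfold epsF; rw [if_pos m4]
      have e13 : epsF O0 y (some 13) = y (some 13) := by unfold epsF; rw [if_neg m13]
      have e16 : epsF O0 y (some 16) = y (some 16) := by unfold epsF; rw [if_neg m16]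
      have e22 : epsF O0 y (some 22) = y (some 22) := by unfold epsF; rw [if_neg m22]
      refine ⟨epsF O0 y, conn_eps O0_mem.1 c1.mem_right, ?_, ?_, ?_, ?_, ?_⟩
      · rw [e4]; rcases y1 _ n4 with e | e <;> rw [e] <;> norm_num
      · rw [e13]; exact y1 _ n13
      · rw [e16]; exact y1 _ n16
      · rw [e22]; exact y1 _ n22
      · rw [e4, e13, e16, e22]
        rcases y1 _ n4 with a | a <;> rcases y1 _ n13 with b | b <;> rcases y1 _ n16 with c | c <;>
          rcases y1 _ n22 with d | d <;> rw [a, b, c, d] at hP ⊢ <;>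
          first | (exfalso; apply hP; norm_num; done) | (norm_num; done)
  obtain ⟨y', c2, a, b, c, d, hP⟩ := stage
  have c3 := conn_xi c2.mem_right
  have hzn : sqNorm (xiF y') = 64 := by
    rw [c3.sqNorm_eq, c2.sqNorm_eq, c1.sqNorm_eq, hn]
  have hex : ∃ p, xiF y' p = 4 ∨ xiF y' p = -4 := by
    have f4 := xiF_blk1 y' (some 4) (by decide)
    have f13 := xiF_blk1 y' (some 13) (by decide)
    have f16 := xiF_blk1 y' (some 16) (by decide)
    have f22 := xiF_blk1 y' (some 22) (by decide)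
    rcases a with a | a <;> rcases b with b | b <;> rcases c with c | c <;>
      rcases d with d | d <;> rw [a, b, c, d] at hP f4 f13 f16 f22 <;>
      first
      | (exfalso; revert hP; norm_num; done)
      | (refine ⟨some 4, ?_⟩; rw [f4]; norm_num; done)
      | (refine ⟨some 13, ?_⟩; rw [f13]; norm_num; done)
      | (refine ⟨some 16, ?_⟩; rw [f16]; norm_num; done)
      | (refine ⟨some 22, ?_⟩; rw [f22]; norm_num; done)
  obtain ⟨p, hp⟩ := hex
  have c123 := c1.trans (c2.trans c3)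
  rcases sh_of_four c3.mem_right hzn p hp with h | h | h
  · exact c123.trans ((shE2_conn c3.mem_right h).trans e2_conn)
  · exact c123.trans (shE4_conn c3.mem_right hzn h)
  · exact c123.trans ((shE5_conn c3.mem_right h).trans e5_conn)

/-- all vectors of the third layer are in one orbit -/
theorem norm64_conn {x : GolayPt → ℤ} (hx : x ∈ leechLattice) (hn : sqNorm x = 64) :
    Conn x (uu none) := by
  rcases shape64 hx hn with h | h | h | h | h | h | h | h
  · exact shE1_conn hx h
  · exact (shE2_conn hx h).trans e2_conn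
  · exact (shE3_conn hx h).trans e3_conn
  · exact shE4_conn hx hn h
  · exact (shE5_conn hx h).trans e5_conn
  · exact shE6_conn hx hn h
  · exact (shO1_conn hx h).trans o1_conn
  · exact (shO2_conn hx h).trans o2_conn

theorem trans64 (v w : leechLattice) (hv : sqNorm (v : GolayPt → ℤ) = 64)
    (hw : sqNorm (w : GolayPt → ℤ) = 64) : ∃ g : Co0, g • v = w :=
  conn_iff_exists.mp ((norm64_conn v.2 hv).trans (norm64_conn w.2 hw).symm)

end Cfsg.Agent.Lib.Helper1.LeechConn
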