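import Mathlib
import Cfsg.Agent.Lib.Helper1.LeechOrder1
import Cfsg.Agent.Lib.Helper1.LeechTrans64e

set_option autoImplicit false
set_option maxRecDepth 100000
set_option linter.constructorNameAsVariable false

namespace Cfsg.Agent.Lib.Helper1.LeechMono

open Cfsg Cfsg.Agent.Lib.Helper1.LeechCross Cfsg.Agent.Lib.Helper1.LeechAut
  Cfsg.Agent.Lib.Helper1.LeechGen Cfsg.Agent.Lib.Helper1.LeechIndex
  Cfsg.Agent.Lib.Helper1.LeechConn Cfsg.Agent.Lib.Helper1.LeechGF
open scoped Pointwise

/-- the vectors of the standard cross as lattice elements -/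
def crossEl (p : GolayPt × Bool) : leechLattice := ⟨crossVec p, crossVec_mem p⟩

theorem crossEl_injective : Function.Injective crossEl := by
  intro p q h
  exact crossVec_injective (congrArg Subtype.val h)

/-- the set of lattice elements in the standard cross -/
def XX : Set leechLattice := {w | (w : GolayPt → ℤ) ∈ stdCross}

theorem XX_eq : XX = Set.range crossEl := by
  ext w
  constructor
  · intro hw
    obtain ⟨p, hp⟩ := (mem_stdCross_iff' _).mp hw
    exact ⟨p, Subtype.ext hp⟩
  · rintro ⟨p, rfl⟩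
    exact (mem_stdCross_iff' _).mpr ⟨p, rfl⟩

theorem XX_ncard : XX.ncard = 48 := by
  rw [XX_eq, ← Set.image_univ, Set.ncard_image_of_injective _ crossEl_injective,
    Set.ncard_univ, Nat.card_eq_fintype_card]
  simp

theorem XX_orbit (r : leechLattice) : r ∈ XX ↔ ∃ g ∈ NN, g • UU none = r := by
  constructor
  · intro hr
    rw [XX_eq] at hr
    obtain ⟨⟨i, b⟩, rfl⟩ := hr
    obtain ⟨σ, hσ, hσi⟩ := exists_perm_one i
    cases b
    · refine ⟨mono ⟨Finset.univ, gC_univ⟩ ⟨σ, hσ⟩, mono_pres _ _, ?_⟩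
      apply Subtype.ext
      rw [mono_apply]
      show signedPerm σ Finset.univ (uu none) = crossVec (i, false)
      rw [signedPerm_uu, if_pos (Finset.mem_univ _), hσi]
      rfl
    · refine ⟨mono ⟨∅, gC_empty⟩ ⟨σ, hσ⟩, mono_pres _ _, ?_⟩
      apply Subtype.ext
      rw [mono_apply]
      show signedPerm σ ∅ (uu none) = crossVec (i, true)
      rw [signedPerm_uu, if_neg (Finset.notMem_empty _), hσi]
      rfl
  · rintro ⟨g, hg, rfl⟩
    exact hg (UU none) (uu_mem_stdCross none)

theorem stab_le_NN : MulAction.stabilizer Co0 (UU none) ≤ NN := by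
  intro g hg
  exact pres_of_fix g (MulAction.mem_stabilizer_iff.mp hg)

theorem card_stab : 48 * Nat.card (MulAction.stabilizer Co0 (UU none)) = 4096 * 244823040 := by
  have h1 := Cfsg.Agent.Lib.Helper1.StabCard.card_subgroup_eq_orbit_mul NN (UU none) XX XX_orbit
  rw [card_NN, XX_ncard, inf_eq_right.mpr stab_le_NN] at h1
  exact h1.symm

/-- the third layer as a set of lattice elements -/
def L64 : Set leechLattice := {v | sqNorm (v : GolayPt → ℤ) = 64}

theorem orbit_eq : MulAction.orbit Co0 (UU none) = L64 := by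
  ext v
  rw [MulAction.mem_orbit_iff]
  constructor
  · rintro ⟨g, rfl⟩
    show sqNorm ((g • UU none : leechLattice) : GolayPt → ℤ) = 64
    rw [← sqNorm_uu none]
    exact g.2.2 (UU none)
  · intro hv
    exact trans64 (UU none) v (sqNorm_uu none) hv

theorem L64_ncard : L64.ncard = 398034000 := by
  have h1 : Subtype.val '' L64 = ((SN AA 64 : Finset (GolayPt → ℤ)) : Set (GolayPt → ℤ)) := by
    ext x
    rw [Finset.mem_coe, mem_SN_AA 64 le_rfl]
    constructor
    · rintro ⟨v, hv, rfl⟩
      exact ⟨v.2, by exact_mod_cast hv⟩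
    · rintro ⟨hx, hn⟩
      exact ⟨⟨x, hx⟩, by show sqNorm x = 64; exact_mod_cast hn, rfl⟩
  rw [← Set.ncard_image_of_injective L64 Subtype.val_injective, h1, Set.ncard_coe_finset,
    card_SN64]

theorem card_Co0 : Nat.card Co0 = 8315553613086720000 := by
  have h1 := Cfsg.Agent.Lib.Helper1.StabCard.card_eq_ncard_orbit_mul (G := Co0) (UU none)
  rw [orbit_eq, L64_ncard] at h1
  have h2 := card_stab
  omega

end Cfsg.Agent.Lib.Helper1.LeechMono
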