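import Mathlib
import Cfsg.Agent.S0394
import Cfsg.Agent.S0395
import Cfsg.Agent.S0397
import Cfsg.Agent.S1573
import Cfsg.Agent.S1575
import Cfsg.Agent.S1640
import Cfsg.Agent.Lib.Helper1.LeechEnum13
import Cfsg.Agent.Lib.Helper1.PrimSimple4

set_option autoImplicit false

namespace Cfsg.Agent.Lib.Helper1.ConwayOrd

open Cfsg MulAction Cfsg.Agent.Lib.Helper1.LeechEnum Cfsg.Agent.Lib.Helper1.PrimSimple
  Cfsg.Agent.Lib.Helper1.LeechConn Cfsg.Agent.Lib.Helper1.LeechAut

/-! ### Orbit–stabiliser for a subgroup -/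

theorem card_eq_orbit_mul {G Ω : Type*} [Group G] [MulAction G Ω] (K : Subgroup G) (x : Ω) :
    Nat.card K = (orbit K x).ncard * Nat.card ↥(K ⊓ stabilizer G x) := by
  have h1 := Subgroup.index_mul_card (stabilizer K x)
  rw [index_stabilizer] at h1
  have h2 : Nat.card (stabilizer K x) = Nat.card ↥(K ⊓ stabilizer G x) := by
    rw [stabilizer_subgroup_eq, ← Subgroup.inf_subgroupOf_left]
    exact Nat.card_congr (Subgroup.subgroupOfEquivOfLe inf_le_left).toEquiv
  rw [← h1, h2]

/-- orbit–stabiliser with the orbit described by a predicate -/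
theorem card_of_orbit {G Ω : Type*} [Group G] [MulAction G Ω] (K : Subgroup G) (x : Ω)
    (S : Set Ω) (hinv : ∀ g ∈ K, g • x ∈ S) (htrans : ∀ z ∈ S, ∃ g ∈ K, g • x = z) :
    Nat.card K = S.ncard * Nat.card ↥(K ⊓ stabilizer G x) := by
  rw [card_eq_orbit_mul K x]
  congr 1
  congr 1
  rw [orbit_subgroup_eq]
  ext z
  constructor
  · rintro ⟨g, hg, rfl⟩
    exact hinv g hg
  · intro hz
    exact htrans z hz

/-! ### The orders of the stabilisers -/

theorem top_inf_stab (v : leechLattice) :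
    Nat.card ↥((⊤ : Subgroup Co0) ⊓ stabilizer Co0 v) = Nat.card (stabilizer Co0 v) := by
  rw [top_inf_eq]

theorem co2_card (v : leechLattice) (hv : sqNorm (v : GolayPt → ℤ) = 32) :
    Nat.card (stabilizer Co0 v) = 42305421312000 := by
  have h := card_of_orbit (⊤ : Subgroup Co0) v {w : leechLattice | sqNorm (w : GolayPt → ℤ) = 32}
    (fun g _ => by show sqNorm ((g • v : leechLattice) : GolayPt → ℤ) = 32; rw [smul_norm, hv])
    (fun z hz => by
      obtain ⟨g, hg⟩ := trans32 v z hv hz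
      exact ⟨g, trivial, hg⟩)
  rw [top_inf_stab, Subgroup.card_top, Cfsg.Agent.S0397.result,
    ncard_subtype (fun z => sqNorm z = 32)] at h
  have h2 : {z : GolayPt → ℤ | z ∈ leechLattice ∧ sqNorm z = 32}.ncard = 196560 :=
    Cfsg.Agent.S0394.result
  rw [h2] at h
  omega

theorem co3_card (v : leechLattice) (hv : sqNorm (v : GolayPt → ℤ) = 48) :
    Nat.card (stabilizer Co0 v) = 495766656000 := by
  have h := card_of_orbit (⊤ : Subgroup Co0) v {w : leechLattice | sqNorm (w : GolayPt → ℤ) = 48}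
    (fun g _ => by show sqNorm ((g • v : leechLattice) : GolayPt → ℤ) = 48; rw [smul_norm, hv])
    (fun z hz => by
      obtain ⟨g, hg⟩ := trans48 v z hv hz
      exact ⟨g, trivial, hg⟩)
  rw [top_inf_stab, Subgroup.card_top, Cfsg.Agent.S0397.result,
    ncard_subtype (fun z => sqNorm z = 48)] at h
  have h2 : {z : GolayPt → ℤ | z ∈ leechLattice ∧ sqNorm z = 48}.ncard = 16773120 :=
    Cfsg.Agent.S0395.result
  rw [h2] at h
  omega

theorem mcl_card (v w : leechLattice) (hv : sqNorm (v : GolayPt → ℤ) = 32)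
    (hw : sqNorm (w : GolayPt → ℤ) = 32)
    (hvw : dotInt (v : GolayPt → ℤ) (w : GolayPt → ℤ) = -8) :
    Nat.card ↥(stabilizer Co0 v ⊓ stabilizer Co0 w) = 898128000 := by
  have h := card_of_orbit (stabilizer Co0 v) w
    {z : leechLattice | sqNorm (z : GolayPt → ℤ) = 32 ∧
      dotInt (v : GolayPt → ℤ) (z : GolayPt → ℤ) = -8}
    (fun g hg => by
      have gv : g • v = v := hg
      have e := smul_dot g v w
      rw [gv] at e
      exact ⟨by rw [smul_norm, hw], by rw [e, hvw]⟩)
    (fun z hz => by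
      obtain ⟨g, hg1, hg2⟩ := Cfsg.Agent.S1575.result v w z hv hw hz.1 hvw hz.2
      exact ⟨g, hg1, hg2⟩)
  rw [co2_card v hv, ncard_subtype (fun z => sqNorm z = 32 ∧ dotInt (v : GolayPt → ℤ) z = -8)] at h
  have h2 : {z : GolayPt → ℤ | z ∈ leechLattice ∧ (sqNorm z = 32 ∧
      dotInt (v : GolayPt → ℤ) z = -8)}.ncard = 47104 :=
    (Cfsg.Agent.S1573.result (v : GolayPt → ℤ) v.2 hv).2.1
  rw [h2] at h
  omega

/-- the map `w ↦ -(v + w)` -/
theorem negadd_negadd (v w : leechLattice) : -(v + -(v + w)) = w := by abel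

theorem hs_card (v w : leechLattice) (hv : sqNorm (v : GolayPt → ℤ) = 48)
    (hw : sqNorm (w : GolayPt → ℤ) = 48)
    (hvw : dotInt (v : GolayPt → ℤ) (w : GolayPt → ℤ) = -32) :
    Nat.card ↥(stabilizer Co0 v ⊓ stabilizer Co0 w) = 44352000 := by
  -- norms and inner products of `-(v + w')`
  have key : ∀ w' : leechLattice,
      (sqNorm (w' : GolayPt → ℤ) = 48 ∧ dotInt (v : GolayPt → ℤ) (w' : GolayPt → ℤ) = -32) ↔
      (sqNorm ((-(v + w') : leechLattice) : GolayPt → ℤ) = 32 ∧
        dotInt (v : GolayPt → ℤ) ((-(v + w') : leechLattice) : GolayPt → ℤ) = -16) := by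
    intro w'
    have e1 : sqNorm ((-(v + w') : leechLattice) : GolayPt → ℤ) =
        sqNorm (v : GolayPt → ℤ) + sqNorm (w' : GolayPt → ℤ) +
          2 * dotInt (v : GolayPt → ℤ) (w' : GolayPt → ℤ) := by
      rw [coe_neg', norm_neg, coe_add']
      unfold sqNorm dotInt
      rw [Finset.mul_sum, ← Finset.sum_add_distrib, ← Finset.sum_add_distrib]
      apply Finset.sum_congr rfl
      intro i _
      simp only [Pi.add_apply]
      ring
    have e2 : dotInt (v : GolayPt → ℤ) ((-(v + w') : leechLattice) : GolayPt → ℤ) =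
        -(sqNorm (v : GolayPt → ℤ) + dotInt (v : GolayPt → ℤ) (w' : GolayPt → ℤ)) := by
      rw [coe_neg', dot_neg_right, coe_add', dot_add_right, dot_self']
    rw [e1, e2, hv]
    constructor
    · rintro ⟨a, b⟩; rw [a, b]; exact ⟨by norm_num, by norm_num⟩
    · rintro ⟨a, b⟩; exact ⟨by omega, by omega⟩
  have h := card_of_orbit (stabilizer Co0 v) w
    {z : leechLattice | sqNorm (z : GolayPt → ℤ) = 48 ∧
      dotInt (v : GolayPt → ℤ) (z : GolayPt → ℤ) = -32}
    (fun g hg => by
      have gv : g • v = v := hg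
      have e := smul_dot g v w
      rw [gv] at e
      exact ⟨by rw [smul_norm, hw], by rw [e, hvw]⟩)
    (fun z hz => by
      obtain ⟨g, hg1, hg2⟩ := (Cfsg.Agent.S1640.result v hv).2 (-(v + w)) ((key w).1 ⟨hw, hvw⟩)
        (-(v + z)) ((key z).1 hz)
      refine ⟨g, hg1, ?_⟩
      have e3 : w = -(-(v + w)) - v := by abel
      have e4 : g • w = g • (-(-(v + w)) - v) := by rw [← e3]
      rw [e4, LeechEnum.smul_sub, smul_neg', hg2, hg1]
      abel)
  have hcount : {z : leechLattice | sqNorm (z : GolayPt → ℤ) = 48 ∧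
      dotInt (v : GolayPt → ℤ) (z : GolayPt → ℤ) = -32}.ncard = 11178 := by
    rw [← (Cfsg.Agent.S1640.result v hv).1]
    have himg : {x : leechLattice | sqNorm (x : GolayPt → ℤ) = 32 ∧
        dotInt (v : GolayPt → ℤ) (x : GolayPt → ℤ) = -16} =
        (fun w' : leechLattice => -(v + w')) '' {z : leechLattice |
          sqNorm (z : GolayPt → ℤ) = 48 ∧ dotInt (v : GolayPt → ℤ) (z : GolayPt → ℤ) = -32} := by
      ext x
      constructor
      · intro hx
        refine ⟨-(v + x), ?_, negadd_negadd v x⟩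
        apply (key _).2
        rw [negadd_negadd]
        exact hx
      · rintro ⟨z, hz, rfl⟩
        exact (key z).1 hz
    rw [himg, Set.ncard_image_of_injective]
    intro a b hab
    have : -(v + a) = -(v + b) := hab
    have h2 := neg_injective this
    exact add_left_cancel h2
  rw [co3_card v hv, hcount] at h
  omega

end Cfsg.Agent.Lib.Helper1.ConwayOrd
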