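import Mathlib
import Cfsg.Agent.Lib.Helper1.PrimSimple4

set_option autoImplicit false

namespace Cfsg.Agent.Lib.Helper1.PrimSimple

open MulAction

variable {G₀ Ω : Type*} [Group G₀] [MulAction G₀ Ω]

/-- the point stabiliser inside a subgroup, as a subgroup of the ambient group -/
noncomputable def stabEquiv (K : Subgroup G₀) (x : Ω) :
    stabilizer K x ≃* ↥(K ⊓ stabilizer G₀ x) := by
  rw [stabilizer_subgroup_eq, ← Subgroup.inf_subgroupOf_left]
  exact Subgroup.subgroupOfEquivOfLe inf_le_left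

theorem mem_orbit_stab_iff (K : Subgroup G₀) (x z z' : Ω) :
    z' ∈ orbit (stabilizer K x) z ↔ ∃ g ∈ K, g • x = x ∧ g • z = z' := by
  constructor
  · rintro ⟨h, rfl⟩
    exact ⟨h.1.1, h.1.2, congrArg _ rfl |>.trans h.2, rfl⟩
  · rintro ⟨g, hg, hgx, rfl⟩
    exact ⟨⟨⟨g, hg⟩, hgx⟩, rfl⟩

theorem mem_orbit_sub_iff (K : Subgroup G₀) (x z : Ω) :
    z ∈ orbit K x ↔ ∃ g ∈ K, g • x = z := by
  rw [orbit_subgroup_eq]
  rfl

/-- suborbit data from level sets on which the point stabiliser is transitive -/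
theorem subData_of_levels (K : Subgroup G₀) (x : Ω) (A : Set Ω) (k : ℕ) (B : Fin k → Set Ω)
    (n : Fin k → ℕ)
    (hA1 : ∀ g ∈ K, g • x ∈ A) (hA2 : ∀ z ∈ A, ∃ g ∈ K, g • x = z)
    (hn : ∀ i, (B i).ncard = n i) (hpos : ∀ i, n i ≠ 0)
    (hcover : ∀ z ∈ A, z = x ∨ ∃ i, z ∈ B i) (hsub : ∀ i, B i ⊆ A) (hx : ∀ i, x ∉ B i)
    (hdisj : ∀ i j, i ≠ j → Disjoint (B i) (B j))
    (hinv : ∀ i, ∀ g ∈ K, g • x = x → ∀ z ∈ B i, g • z ∈ B i)
    (htrans : ∀ i, ∀ z ∈ B i, ∀ z' ∈ B i, ∃ g ∈ K, g • x = x ∧ g • z = z') :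
    ∃ y : Fin k → Ω, SubData ↥K x k y n := by
  have hne : ∀ i, (B i).Nonempty := fun i =>
    Set.nonempty_of_ncard_ne_zero (by rw [hn i]; exact hpos i)
  choose y hy using hne
  have horb : ∀ i, orbit (stabilizer K x) (y i) = B i := by
    intro i
    ext z
    rw [mem_orbit_stab_iff]
    constructor
    · rintro ⟨g, hg, hgx, rfl⟩
      exact hinv i g hg hgx _ (hy i)
    · intro hz
      exact htrans i _ (hy i) z hz
  refine ⟨y, ⟨?_, ?_, ?_, ?_, ?_⟩⟩
  · intro z hz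
    rw [mem_orbit_sub_iff] at hz
    obtain ⟨g, hg, rfl⟩ := hz
    rcases hcover _ (hA1 g hg) with h | ⟨i, hi⟩
    · left; exact h
    · right; exact ⟨i, by rw [horb i]; exact hi⟩
  · intro i
    rw [mem_orbit_sub_iff]
    exact hA2 _ (hsub i (hy i))
  · intro i h
    exact hx i (h ▸ hy i)
  · intro i j hij h
    rw [horb i] at h
    exact Set.disjoint_left.mp (hdisj i j hij) h (hy j)
  · intro i
    rw [horb i, hn i]

end Cfsg.Agent.Lib.Helper1.PrimSimple
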