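import Mathlib
import Cfsg.Agent.Lib.Helper1.PrimSimple5

set_option autoImplicit false

namespace Cfsg.Agent.Lib.Helper1.PrimSimple

open MulAction

variable {G₀ Ω : Type*} [Group G₀] [MulAction G₀ Ω]

theorem orbit_stab_eq (K : Subgroup G₀) (x z : Ω) :
    orbit (stabilizer K x) z = orbit ↥(K ⊓ stabilizer G₀ x) z := by
  ext z'
  rw [mem_orbit_stab_iff, mem_orbit_sub_iff]
  constructor
  · rintro ⟨g, hg, hgx, rfl⟩
    exact ⟨g, ⟨hg, hgx⟩, rfl⟩
  · rintro ⟨g, ⟨hg, hgx⟩, rfl⟩
    exact ⟨g, hg, hgx, rfl⟩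

/-- suborbit data from orbits of pairwise distinct sizes that exhaust the orbit by counting -/
theorem subData_of_orbits [Finite G₀] (K : Subgroup G₀) (x : Ω) (A : Set Ω) (k : ℕ)
    (y : Fin k → Ω) (n : Fin k → ℕ)
    (hA1 : ∀ g ∈ K, g • x ∈ A) (hA2 : ∀ z ∈ A, ∃ g ∈ K, g • x = z)
    (hy : ∀ i, y i ∈ A) (hyx : ∀ i, y i ≠ x)
    (hn : ∀ i, (orbit ↥(K ⊓ stabilizer G₀ x) (y i)).ncard = n i)
    (hinj : Function.Injective n) (hA : A.ncard = 1 + ∑ i, n i) :
    SubData ↥K x k y n := by
  classical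
  have hAfin : A.Finite := Set.finite_of_ncard_ne_zero (by rw [hA]; omega)
  have hcard : ∀ i, (orbit (stabilizer K x) (y i)).ncard = n i := fun i => by
    rw [orbit_stab_eq, hn i]
  have hdisj : ∀ i j, i ≠ j → y j ∉ orbit (stabilizer K x) (y i) := by
    intro i j hij h
    apply hij
    apply hinj
    rw [← hcard i, ← hcard j, ← orbit_eq_iff.mpr h]
  have horbA : ∀ i, orbit (stabilizer K x) (y i) ⊆ A := by
    intro i z hz
    rw [mem_orbit_stab_iff] at hz
    obtain ⟨g, hg, _, rfl⟩ := hz
    obtain ⟨g', hg', hgy⟩ := hA2 _ (hy i)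
    rw [← hgy, ← mul_smul]
    exact hA1 _ (K.mul_mem hg hg')
  have hxorb : ∀ i, x ∉ orbit (stabilizer K x) (y i) := by
    intro i h
    rw [mem_orbit_stab_iff] at h
    obtain ⟨g, _, hgx, hgy⟩ := h
    apply hyx i
    have : g • y i = g • x := by rw [hgy, hgx]
    exact smul_left_cancel _ this
  have hdisj' : ∀ i j, i ≠ j →
      Disjoint (orbit (stabilizer K x) (y i)) (orbit (stabilizer K x) (y j)) := by
    intro i j hij
    rw [Set.disjoint_left]
    intro z hzi hzj
    apply hdisj i j hij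
    have h1 : orbit (stabilizer K x) z = orbit (stabilizer K x) (y i) := orbit_eq_iff.mpr hzi
    have h2 : orbit (stabilizer K x) z = orbit (stabilizer K x) (y j) := orbit_eq_iff.mpr hzj
    rw [← h1, h2]
    exact mem_orbit_self _
  -- the union of the orbits with index in `I`
  let U : Finset (Fin k) → Set Ω := fun I => {z | ∃ i ∈ I, z ∈ orbit (stabilizer K x) (y i)}
  have hUfin : ∀ I, (U I).Finite := fun I => hAfin.subset (by
    rintro z ⟨i, _, hz⟩
    exact horbA i hz)
  have hUcard : ∀ I : Finset (Fin k), (U I).ncard = ∑ i ∈ I, n i := by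
    intro I
    induction I using Finset.induction_on with
    | empty =>
      have : U ∅ = ∅ := by
        ext z
        simp [U]
      rw [this]
      simp
    | insert a I ha ih =>
      have e : U (insert a I) = orbit (stabilizer K x) (y a) ∪ U I := by
        ext z
        simp [U]
      have hd : Disjoint (orbit (stabilizer K x) (y a)) (U I) := by
        rw [Set.disjoint_left]
        rintro z hza ⟨i, hi, hzi⟩
        have hai : a ≠ i := fun h => ha (h ▸ hi)
        exact Set.disjoint_left.mp (hdisj' a i hai) hza hzi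
      rw [e, Set.ncard_union_eq hd (hAfin.subset (horbA a)) (hUfin I), hcard a, ih,
        Finset.sum_insert ha]
  have hxU : x ∉ U Finset.univ := by
    rintro ⟨i, _, h⟩
    exact hxorb i h
  have hsub : insert x (U Finset.univ) ⊆ A := by
    intro z hz
    rcases hz with rfl | ⟨i, _, hz⟩
    · have := hA1 1 K.one_mem
      rwa [one_smul] at this
    · exact horbA i hz
  have hcardU : (insert x (U Finset.univ)).ncard = 1 + ∑ i, n i := by
    rw [Set.ncard_insert_of_notMem hxU (hUfin _), hUcard]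
    omega
  have heq := Set.eq_of_subset_of_ncard_le hsub (by rw [hA, hcardU]) hAfin
  refine ⟨?_, ?_, hyx, hdisj, hcard⟩
  · intro z hz
    rw [mem_orbit_sub_iff] at hz
    obtain ⟨g, hg, rfl⟩ := hz
    have := hA1 g hg
    rw [← heq] at this
    rcases this with h | ⟨i, _, h⟩
    · left; exact h
    · right; exact ⟨i, h⟩
  · intro i
    rw [mem_orbit_sub_iff]
    exact hA2 _ (hy i)

end Cfsg.Agent.Lib.Helper1.PrimSimple
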