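import Mathlib
import Cfsg.Agent.Lib.Helper1.PrimSimple6

set_option autoImplicit false

namespace Cfsg.Agent.Lib.Helper1.PrimSimple

open MulAction

/-- the image of a set under a map whose fibres are the orbits of a fixed point free involution
has half the size -/
theorem ncard_image_two_to_one {α β : Type*} (f : α → β) (S : Set α) (hS : S.Finite)
    (neg : α → α) (hneg : ∀ a ∈ S, neg a ∈ S) (hne : ∀ a ∈ S, neg a ≠ a)
    (hf : ∀ a ∈ S, ∀ b ∈ S, f b = f a ↔ (b = a ∨ b = neg a)) :
    S.ncard = 2 * (f '' S).ncard := by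
  classical
  have e1 : S.ncard = hS.toFinset.card := Set.ncard_eq_toFinset_card S hS
  have e2 : (f '' S).ncard = (hS.toFinset.image f).card := by
    rw [Set.ncard_eq_toFinset_card (f '' S) (hS.image f)]
    congr 1
    ext b
    simp
  rw [e1, e2, Finset.card_eq_sum_card_fiberwise (f := f) (t := hS.toFinset.image f)
    (fun a ha => Finset.mem_image_of_mem f ha)]
  rw [Finset.sum_const_nat (m := 2), mul_comm]
  intro b hb
  obtain ⟨a, ha, rfl⟩ := Finset.mem_image.mp hb
  have haS : a ∈ S := hS.mem_toFinset.mp ha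
  have : hS.toFinset.filter (fun c => f c = f a) = {a, neg a} := by
    ext c
    simp only [Finset.mem_filter, Set.Finite.mem_toFinset, Finset.mem_insert,
      Finset.mem_singleton]
    constructor
    · rintro ⟨hc, hfc⟩
      exact (hf a haS c hc).mp hfc
    · rintro (rfl | rfl)
      · exact ⟨haS, rfl⟩
      · exact ⟨hneg a haS, (hf a haS _ (hneg a haS)).mpr (Or.inr rfl)⟩
  rw [this, Finset.card_pair (hne a haS).symm]

variable {G Ω : Type*} [Group G] [MulAction G Ω]

/-- suborbit data for the whole group from orbits of pairwise distinct sizes that exhaust the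
orbit by counting -/
theorem subData_of_orbits' [Finite G] (x : Ω) (A : Set Ω) (k : ℕ)
    (y : Fin k → Ω) (n : Fin k → ℕ)
    (hA1 : ∀ g : G, g • x ∈ A) (hA2 : ∀ z ∈ A, ∃ g : G, g • x = z)
    (hy : ∀ i, y i ∈ A) (hyx : ∀ i, y i ≠ x)
    (hn : ∀ i, (orbit (stabilizer G x) (y i)).ncard = n i)
    (hinj : Function.Injective n) (hA : A.ncard = 1 + ∑ i, n i) :
    SubData G x k y n := by
  classical
  have hAfin : A.Finite := Set.finite_of_ncard_ne_zero (by rw [hA]; omega)
  have hcard := hn
  have hdisj : ∀ i j, i ≠ j → y j ∉ orbit (stabilizer G x) (y i) := by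
    intro i j hij h
    apply hij
    apply hinj
    rw [← hcard i, ← hcard j, ← orbit_eq_iff.mpr h]
  have horbA : ∀ i, orbit (stabilizer G x) (y i) ⊆ A := by
    rintro i z ⟨g, rfl⟩
    obtain ⟨g', hgy⟩ := hA2 _ (hy i)
    show (g : G) • y i ∈ A
    rw [← hgy, ← mul_smul]
    exact hA1 _
  have hxorb : ∀ i, x ∉ orbit (stabilizer G x) (y i) := by
    rintro i ⟨g, hg⟩
    apply hyx i
    have h1 : (g : G) • y i = x := hg
    have h2 : (g : G) • x = x := g.2
    have : (g : G) • y i = (g : G) • x := by rw [h1, h2]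
    exact smul_left_cancel _ this
  have hdisj' : ∀ i j, i ≠ j →
      Disjoint (orbit (stabilizer G x) (y i)) (orbit (stabilizer G x) (y j)) := by
    intro i j hij
    rw [Set.disjoint_left]
    intro z hzi hzj
    apply hdisj i j hij
    have h1 : orbit (stabilizer G x) z = orbit (stabilizer G x) (y i) := orbit_eq_iff.mpr hzi
    have h2 : orbit (stabilizer G x) z = orbit (stabilizer G x) (y j) := orbit_eq_iff.mpr hzj
    rw [← h1, h2]
    exact mem_orbit_self _
  let U : Finset (Fin k) → Set Ω := fun I => {z | ∃ i ∈ I, z ∈ orbit (stabilizer G x) (y i)}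
  have hUfin : ∀ I, (U I).Finite := fun I => hAfin.subset (by
    rintro z ⟨i, _, hz⟩
    exact horbA i hz)
  have hUcard : ∀ I : Finset (Fin k), (U I).ncard = ∑ i ∈ I, n i := by
    intro I
    induction I using Finset.induction_on with
    | empty =>
      have : U ∅ = ∅ := by
        ext z
        simp [U]
      rw [this]
      simp
    | insert a I ha ih =>
      have e : U (insert a I) = orbit (stabilizer G x) (y a) ∪ U I := by
        ext z
        simp [U]
      have hd : Disjoint (orbit (stabilizer G x) (y a)) (U I) := by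
        rw [Set.disjoint_left]
        rintro z hza ⟨i, hi, hzi⟩
        have hai : a ≠ i := fun h => ha (h ▸ hi)
        exact Set.disjoint_left.mp (hdisj' a i hai) hza hzi
      rw [e, Set.ncard_union_eq hd (hAfin.subset (horbA a)) (hUfin I), hcard a, ih,
        Finset.sum_insert ha]
  have hxU : x ∉ U Finset.univ := by
    rintro ⟨i, _, h⟩
    exact hxorb i h
  have hsub : insert x (U Finset.univ) ⊆ A := by
    intro z hz
    rcases hz with rfl | ⟨i, _, hz⟩
    · have := hA1 1
      rwa [one_smul] at this
    · exact horbA i hz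
  have hcardU : (insert x (U Finset.univ)).ncard = 1 + ∑ i, n i := by
    rw [Set.ncard_insert_of_notMem hxU (hUfin _), hUcard]
    omega
  have heq := Set.eq_of_subset_of_ncard_le hsub (by rw [hA, hcardU]) hAfin
  refine ⟨?_, ?_, hyx, hdisj, hcard⟩
  · rintro z ⟨g, rfl⟩
    have := hA1 g
    rw [← heq] at this
    rcases this with h | ⟨i, _, h⟩
    · left; exact h
    · right; exact ⟨i, h⟩
  · intro i
    obtain ⟨g, hg⟩ := hA2 _ (hy i)
    exact ⟨g, hg⟩

end Cfsg.Agent.Lib.Helper1.PrimSimple
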