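import Mathlib
import Cfsg.Agent.Lib.Helper1.EnP5P0
import Cfsg.Agent.Lib.Helper1.EnP5P1
import Cfsg.Agent.Lib.Helper1.EnP5P2
import Cfsg.Agent.Lib.Helper1.EnP5P3
import Cfsg.Agent.Lib.Helper1.EnP5P4
import Cfsg.Agent.Lib.Helper1.EnP5P5
import Cfsg.Agent.Lib.Helper1.EnP5P6
import Cfsg.Agent.Lib.Helper1.EnP5P7
import Cfsg.Agent.Lib.Helper1.EnP5P8
import Cfsg.Agent.Lib.Helper1.EnP5P9
import Cfsg.Agent.Lib.Helper1.EnP5P10
import Cfsg.Agent.Lib.Helper1.EnP5P11
import Cfsg.Agent.Lib.Helper1.EnP5P12
import Cfsg.Agent.Lib.Helper1.EnP5P13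
import Cfsg.Agent.Lib.Helper1.EnP5P14
import Cfsg.Agent.Lib.Helper1.EnP5P15
import Cfsg.Agent.Lib.Helper1.EnP5P16
import Cfsg.Agent.Lib.Helper1.EnP5P17
import Cfsg.Agent.Lib.Helper1.EnP5P18
import Cfsg.Agent.Lib.Helper1.EnP5P19
import Cfsg.Agent.Lib.Helper1.EnP5P20
import Cfsg.Agent.Lib.Helper1.EnP5P21
import Cfsg.Agent.Lib.Helper1.EnP5P22
import Cfsg.Agent.Lib.Helper1.EnP5P23
import Cfsg.Agent.Lib.Helper1.EnP5P24
import Cfsg.Agent.Lib.Helper1.EnP5P25
import Cfsg.Agent.Lib.Helper1.EnP5P26
import Cfsg.Agent.Lib.Helper1.EnP5P27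
import Cfsg.Agent.Lib.Helper1.EnP5P28
import Cfsg.Agent.Lib.Helper1.EnP5P29
import Cfsg.Agent.Lib.Helper1.EnP5P30
import Cfsg.Agent.Lib.Helper1.EnP5P31

set_option autoImplicit false

namespace Cfsg.Agent.Lib.Helper1.EnP5

open Cfsg Cfsg.Agent.Lib.Helper1.LeechEnum

theorem all_ok : ∀ c < 4096, ∃ cert, chkChunk prob c cert = true := by
  intro c hc
  obtain ⟨j, hj⟩ : ∃ j, j = c / 128 := ⟨_, rfl⟩
  have hj' : j < 32 := by omega
  interval_cases j
  · exact part0 c (by omega) (by omega)
  · exact part1 c (by omega) (by omega)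
  · exact part2 c (by omega) (by omega)
  · exact part3 c (by omega) (by omega)
  · exact part4 c (by omega) (by omega)
  · exact part5 c (by omega) (by omega)
  · exact part6 c (by omega) (by omega)
  · exact part7 c (by omega) (by omega)
  · exact part8 c (by omega) (by omega)
  · exact part9 c (by omega) (by omega)
  · exact part10 c (by omega) (by omega)
  · exact part11 c (by omega) (by omega)
  · exact part12 c (by omega) (by omega)
  · exact part13 c (by omega) (by omega)
  · exact part14 c (by omega) (by omega)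
  · exact part15 c (by omega) (by omega)
  · exact part16 c (by omega) (by omega)
  · exact part17 c (by omega) (by omega)
  · exact part18 c (by omega) (by omega)
  · exact part19 c (by omega) (by omega)
  · exact part20 c (by omega) (by omega)
  · exact part21 c (by omega) (by omega)
  · exact part22 c (by omega) (by omega)
  · exact part23 c (by omega) (by omega)
  · exact part24 c (by omega) (by omega)
  · exact part25 c (by omega) (by omega)
  · exact part26 c (by omega) (by omega)
  · exact part27 c (by omega) (by omega)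
  · exact part28 c (by omega) (by omega)
  · exact part29 c (by omega) (by omega)
  · exact part30 c (by omega) (by omega)
  · exact part31 c (by omega) (by omega)

end Cfsg.Agent.Lib.Helper1.EnP5
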