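import Mathlib
import Cfsg.Agent.Lib.Helper1.LeechCenter
import Cfsg.Agent.Lib.Helper1.PrimSimple8
import Cfsg.Agent.Lib.Helper1.ConwayOrd1
import Cfsg.Agent.S1574
import Cfsg.Agent.S1576
import Cfsg.Agent.S1575
import Cfsg.Agent.S1573
import Cfsg.Agent.S0394

set_option autoImplicit false

namespace Cfsg.Agent.Lib.Helper1.ConwayCo1

open Cfsg MulAction Cfsg.Agent.Lib.Helper1.LeechEnum Cfsg.Agent.Lib.Helper1.PrimSimple
  Cfsg.Agent.Lib.Helper1.LeechConn Cfsg.Agent.Lib.Helper1.LeechAut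
  Cfsg.Agent.Lib.Helper1.ConwayOrd

open scoped Pointwise

/-- the pair `{v, -v}` -/
def pr (v : leechLattice) : Set leechLattice := {v, -v}

theorem smul_pr (g : Co0) (v : leechLattice) : g • pr v = pr (g • v) := by
  unfold pr
  rw [Set.smul_set_insert, Set.smul_set_singleton, smul_neg']

theorem pr_eq_iff (v w : leechLattice) : pr w = pr v ↔ (w = v ∨ w = -v) := by
  constructor
  · intro h
    have : w ∈ pr v := by rw [← h]; exact Set.mem_insert _ _
    exact this
  · rintro (rfl | rfl)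
    · rfl
    · unfold pr; rw [neg_neg, Set.pair_comm]

/-- the set of pairs of opposite lattice vectors, with the action of the automorphism group -/
def Pairs : SubMulAction Co0 (Set leechLattice) where
  carrier := Set.range pr
  smul_mem' := by
    rintro g _ ⟨v, rfl⟩
    exact ⟨g • v, (smul_pr g v).symm⟩

/-- the pair `{v, -v}` as a point -/
def P (v : leechLattice) : Pairs := ⟨pr v, v, rfl⟩

theorem smul_P (g : Co0) (v : leechLattice) : g • P v = P (g • v) :=
  Subtype.ext (smul_pr g v)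

theorem P_eq_iff (v w : leechLattice) : P w = P v ↔ (w = v ∨ w = -v) := by
  rw [← pr_eq_iff]
  exact Subtype.ext_iff

theorem P_surj (p : Pairs) : ∃ v, P v = p := by
  obtain ⟨S, v, rfl⟩ := p
  exact ⟨v, rfl⟩

theorem negC_smul (v : leechLattice) : negC • v = -v := Subtype.ext (negC_apply v)

/-- the permutation representation on pairs -/
def actHom : Co0 →* Equiv.Perm Pairs := MulAction.toPermHom Co0 Pairs

theorem center_le_ker : Subgroup.center Co0 ≤ actHom.ker := by
  intro g hg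
  rw [MonoidHom.mem_ker]
  rcases central_cases g hg with rfl | rfl
  · exact map_one _
  · ext p : 1
    obtain ⟨v, rfl⟩ := P_surj p
    show negC • P v = P v
    rw [smul_P, negC_smul, P_eq_iff]
    right; rfl

/-- the action of the central quotient on pairs -/
noncomputable def quotHom : Co0 ⧸ Subgroup.center Co0 →* Equiv.Perm Pairs :=
  QuotientGroup.lift _ actHom center_le_ker

noncomputable instance quotAct : MulAction (Co0 ⧸ Subgroup.center Co0) Pairs :=
  MulAction.compHom Pairs quotHom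

theorem mk_smul (g : Co0) (p : Pairs) :
    (QuotientGroup.mk g : Co0 ⧸ Subgroup.center Co0) • p = g • p := rfl

theorem mk_smul_P (g : Co0) (v : leechLattice) :
    (QuotientGroup.mk g : Co0 ⧸ Subgroup.center Co0) • P v = P (g • v) := by
  rw [mk_smul, smul_P]

theorem ne_neg_of_norm (v : leechLattice) (hv : sqNorm (v : GolayPt → ℤ) ≠ 0) : -v ≠ v := by
  intro h
  apply hv
  have h2 : ∀ i, (v : GolayPt → ℤ) i = 0 := by
    intro i
    have := congrArg (fun z : leechLattice => (z : GolayPt → ℤ) i) h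
    simp only [coe_neg', Pi.neg_apply] at this
    omega
  unfold sqNorm
  apply Finset.sum_eq_zero
  intro i _
  rw [h2 i]
  rfl

/-- the stabiliser of a vector maps onto the stabiliser of its pair -/
noncomputable def stabHom (v : leechLattice) :
    stabilizer Co0 v →* stabilizer (Co0 ⧸ Subgroup.center Co0) (P v) where
  toFun g := ⟨QuotientGroup.mk g.1, by
    show (QuotientGroup.mk g.1 : Co0 ⧸ Subgroup.center Co0) • P v = P v
    rw [mk_smul_P, g.2]⟩
  map_one' := rfl
  map_mul' _ _ := rfl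

theorem mk_negC : (QuotientGroup.mk negC : Co0 ⧸ Subgroup.center Co0) = 1 :=
  (QuotientGroup.eq_one_iff _).mpr negC_central

theorem stabHom_bijective (v : leechLattice) (hv : sqNorm (v : GolayPt → ℤ) ≠ 0) :
    Function.Bijective (stabHom v) := by
  constructor
  · rw [injective_iff_map_eq_one]
    intro g hg
    have h1 : (QuotientGroup.mk g.1 : Co0 ⧸ Subgroup.center Co0) = 1 :=
      congrArg Subtype.val hg
    rw [QuotientGroup.eq_one_iff] at h1
    rcases central_cases g.1 h1 with h | h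
    · exact Subtype.ext h
    · exfalso
      have h2 : g.1 • v = v := g.2
      rw [h, negC_smul] at h2
      exact ne_neg_of_norm v hv h2
  · rintro ⟨q, hq⟩
    obtain ⟨g, rfl⟩ := QuotientGroup.mk_surjective q
    have h1 : (QuotientGroup.mk g : Co0 ⧸ Subgroup.center Co0) • P v = P v := hq
    rw [mk_smul_P, P_eq_iff] at h1
    rcases h1 with h1 | h1
    · exact ⟨⟨g, h1⟩, rfl⟩
    · refine ⟨⟨negC * g, ?_⟩, ?_⟩
      · show (negC * g) • v = v
        rw [mul_smul, h1, negC_smul, neg_neg]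
      · apply Subtype.ext
        show (QuotientGroup.mk (negC * g) : Co0 ⧸ Subgroup.center Co0) = QuotientGroup.mk g
        rw [QuotientGroup.mk_mul, mk_negC, one_mul]

/-- the suborbit of a pair is the image of the orbit of the vector stabiliser -/
theorem orbit_stab_P (v w : leechLattice) (hv : sqNorm (v : GolayPt → ℤ) ≠ 0) :
    orbit (stabilizer (Co0 ⧸ Subgroup.center Co0) (P v)) (P w) =
      P '' (orbit (stabilizer Co0 v) w) := by
  ext p
  constructor
  · rintro ⟨q, rfl⟩
    obtain ⟨g, rfl⟩ := (stabHom_bijective v hv).2 q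
    refine ⟨g.1 • w, ⟨g, rfl⟩, ?_⟩
    show P (g.1 • w) = (QuotientGroup.mk g.1 : Co0 ⧸ Subgroup.center Co0) • P w
    rw [mk_smul_P]
  · rintro ⟨_, ⟨g, rfl⟩, rfl⟩
    refine ⟨stabHom v g, ?_⟩
    show (QuotientGroup.mk g.1 : Co0 ⧸ Subgroup.center Co0) • P w = P (g.1 • w)
    rw [mk_smul_P]

/-- the level sets -/
def Lv (v : leechLattice) (t : ℤ) : Set leechLattice :=
  {w | sqNorm (w : GolayPt → ℤ) = 32 ∧ dotInt (v : GolayPt → ℤ) (w : GolayPt → ℤ) = t}

theorem M_ncard : {w : leechLattice | sqNorm (w : GolayPt → ℤ) = 32}.ncard = 196560 := by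
  rw [ncard_subtype (fun z => sqNorm z = 32)]
  exact Cfsg.Agent.S0394.result

theorem M_finite : {w : leechLattice | sqNorm (w : GolayPt → ℤ) = 32}.Finite :=
  Set.finite_of_ncard_ne_zero (by rw [M_ncard]; norm_num)

theorem Lv_finite (v : leechLattice) (t : ℤ) : (Lv v t).Finite := by
  apply M_finite.subset
  intro w hw
  exact hw.1

theorem Lv_ncard (v : leechLattice) (hv : sqNorm (v : GolayPt → ℤ) = 32) :
    (Lv v (-16)).ncard = 4600 ∧ (Lv v (-8)).ncard = 47104 ∧ (Lv v 0).ncard = 93150 := by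
  obtain ⟨a, b, c⟩ := Cfsg.Agent.S1573.result v v.2 hv
  refine ⟨?_, ?_, ?_⟩
  · have := ncard_subtype (fun z => sqNorm z = 32 ∧ dotInt (v : GolayPt → ℤ) z = -16)
    rw [a] at this
    exact this
  · have := ncard_subtype (fun z => sqNorm z = 32 ∧ dotInt (v : GolayPt → ℤ) z = -8)
    rw [b] at this
    exact this
  · have := ncard_subtype (fun z => sqNorm z = 32 ∧ dotInt (v : GolayPt → ℤ) z = 0)
    rw [c] at this
    exact this

theorem image_inj (v : leechLattice) (t : ℤ) (ht : t ≠ 0) :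
    (P '' Lv v t).ncard = (Lv v t).ncard := by
  apply Set.InjOn.ncard_image
  intro a ha b hb hab
  rcases (P_eq_iff b a).mp hab with h | h
  · exact h
  · exfalso
    have h1 := ha.2
    rw [h, coe_neg', dot_neg_right, hb.2] at h1
    omega

theorem image_two (v : leechLattice) : (Lv v 0).ncard = 2 * (P '' Lv v 0).ncard := by
  apply ncard_image_two_to_one P (Lv v 0) (Lv_finite v 0) (fun a => -a)
  · intro a ha
    refine ⟨?_, ?_⟩
    · rw [coe_neg', norm_neg]; exact ha.1
    · rw [coe_neg', dot_neg_right, ha.2]; rfl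
  · intro a ha
    exact ne_neg_of_norm a (by rw [ha.1]; norm_num)
  · intro a _ b _
    exact P_eq_iff a b

theorem image_M : (P '' {w : leechLattice | sqNorm (w : GolayPt → ℤ) = 32}).ncard = 98280 := by
  have h := ncard_image_two_to_one P {w : leechLattice | sqNorm (w : GolayPt → ℤ) = 32}
    M_finite (fun a => -a)
    (fun a ha => by
      show sqNorm ((-a : leechLattice) : GolayPt → ℤ) = 32
      rw [coe_neg', norm_neg]; exact ha)
    (fun a ha => ne_neg_of_norm a (by
      have : sqNorm (a : GolayPt → ℤ) = 32 := ha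
      rw [this]; norm_num))
    (fun a _ b _ => P_eq_iff a b)
  rw [M_ncard] at h
  omega

theorem orbit_sub_Lv (v w : leechLattice) (t : ℤ) (hw : w ∈ Lv v t) :
    orbit (stabilizer Co0 v) w ⊆ Lv v t := by
  rintro _ ⟨g, rfl⟩
  have gv : g.1 • v = v := g.2
  have e1 := smul_dot g.1 v w
  rw [gv] at e1
  exact ⟨by show sqNorm ((g.1 • w : leechLattice) : GolayPt → ℤ) = 32; rw [smul_norm]; exact hw.1,
    by show dotInt (v : GolayPt → ℤ) ((g.1 • w : leechLattice) : GolayPt → ℤ) = t
       rw [e1]; exact hw.2⟩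

theorem orbit_Lv16 (v w : leechLattice) (hv : sqNorm (v : GolayPt → ℤ) = 32)
    (hw : w ∈ Lv v (-16)) : orbit (stabilizer Co0 v) w = Lv v (-16) := by
  apply Set.Subset.antisymm (orbit_sub_Lv v w _ hw)
  intro w' hw'
  obtain ⟨g, g1, g2⟩ := Cfsg.Agent.S1574.result v w w' hv hw.1 hw'.1 hw.2 hw'.2
  exact ⟨⟨g, g1⟩, g2⟩

theorem orbit_Lv8 (v w : leechLattice) (hv : sqNorm (v : GolayPt → ℤ) = 32)
    (hw : w ∈ Lv v (-8)) : orbit (stabilizer Co0 v) w = Lv v (-8) := by
  apply Set.Subset.antisymm (orbit_sub_Lv v w _ hw)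
  intro w' hw'
  obtain ⟨g, g1, g2⟩ := Cfsg.Agent.S1575.result v w w' hv hw.1 hw'.1 hw.2 hw'.2
  exact ⟨⟨g, g1⟩, g2⟩

theorem orbit_Lv0 (v w : leechLattice) (hv : sqNorm (v : GolayPt → ℤ) = 32)
    (hw : w ∈ Lv v 0) : P '' orbit (stabilizer Co0 v) w = P '' Lv v 0 := by
  apply Set.Subset.antisymm (Set.image_mono (orbit_sub_Lv v w _ hw))
  rintro _ ⟨w', hw', rfl⟩
  obtain ⟨g, g1, g2⟩ := Cfsg.Agent.S1576.result v w w' hv hw.1 hw'.1 hw.2 hw'.2
  refine ⟨g • w, ⟨⟨g, g1⟩, rfl⟩, ?_⟩
  rw [P_eq_iff]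
  rcases g2 with h | h
  · left; exact h
  · right; exact h

/-- the suborbit sizes -/
theorem suborbit_cards (v w1 w2 w3 : leechLattice) (hv : sqNorm (v : GolayPt → ℤ) = 32)
    (h1 : w1 ∈ Lv v (-16)) (h2 : w2 ∈ Lv v (-8)) (h3 : w3 ∈ Lv v 0) :
    (orbit (stabilizer (Co0 ⧸ Subgroup.center Co0) (P v)) (P w1)).ncard = 4600 ∧
    (orbit (stabilizer (Co0 ⧸ Subgroup.center Co0) (P v)) (P w2)).ncard = 47104 ∧
    (orbit (stabilizer (Co0 ⧸ Subgroup.center Co0) (P v)) (P w3)).ncard = 46575 := by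
  have hv0 : sqNorm (v : GolayPt → ℤ) ≠ 0 := by rw [hv]; norm_num
  obtain ⟨a, b, c⟩ := Lv_ncard v hv
  refine ⟨?_, ?_, ?_⟩
  · rw [orbit_stab_P v w1 hv0, orbit_Lv16 v w1 hv h1, image_inj v _ (by norm_num), a]
  · rw [orbit_stab_P v w2 hv0, orbit_Lv8 v w2 hv h2, image_inj v _ (by norm_num), b]
  · rw [orbit_stab_P v w3 hv0, orbit_Lv0 v w3 hv h3]
    have := image_two v
    rw [c] at this
    omega

end Cfsg.Agent.Lib.Helper1.ConwayCo1
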