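import Mathlib
import Cfsg.Agent.Lib.Helper1.LeechEnum9

set_option autoImplicit false
set_option maxRecDepth 100000

namespace Cfsg.Agent.Lib.Helper1.EnC15d

open Cfsg Cfsg.Agent.Lib.Helper1.LeechEnum

def cnd : ℕ → Bool := fun v => and (Nat.beq (Nat.add (Nat.mod v 65535) (Nat.mul 4 (fld 23 v))) 7152) (Nat.beq (Nat.add (fld 23 v) (fld 0 v)) 510)

theorem cnt_A : cntA cnd = 0 := by decide +kernel

theorem cnt_0 : cntFrom cnd (256 * 0) 256 = 100 := by decide +kernel

theorem cnt_1 : cntFrom cnd (256 * 1) 256 = 100 := by decide +kernel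

theorem cnt_2 : cntFrom cnd (256 * 2) 256 = 100 := by decide +kernel

theorem cnt_3 : cntFrom cnd (256 * 3) 256 = 100 := by decide +kernel

theorem cnt_4 : cntFrom cnd (256 * 4) 256 = 100 := by decide +kernel

theorem cnt_5 : cntFrom cnd (256 * 5) 256 = 100 := by decide +kernel

theorem cnt_6 : cntFrom cnd (256 * 6) 256 = 100 := by decide +kernel

theorem cnt_7 : cntFrom cnd (256 * 7) 256 = 92 := by decide +kernel

theorem cnt_8 : cntFrom cnd (256 * 8) 256 = 1188 := by decide +kernel

theorem cnt_9 : cntFrom cnd (256 * 9) 256 = 812 := by decide +kernel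

theorem cnt_10 : cntFrom cnd (256 * 10) 256 = 812 := by decide +kernel

theorem cnt_11 : cntFrom cnd (256 * 11) 256 = 668 := by decide +kernel

theorem cnt_12 : cntFrom cnd (256 * 12) 256 = 812 := by decide +kernel

theorem cnt_13 : cntFrom cnd (256 * 13) 256 = 668 := by decide +kernel

theorem cnt_14 : cntFrom cnd (256 * 14) 256 = 668 := by decide +kernel

theorem cnt_15 : cntFrom cnd (256 * 15) 256 = 708 := by decide +kernel

def ns : ℕ → ℕ := fun j => [100, 100, 100, 100, 100, 100, 100, 92, 1188, 812, 812, 668, 812, 668, 668, 708].getD j 0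

theorem parts : ∀ j < 16, cntFrom cnd (256 * j) 256 = ns j := by
  intro j hj
  interval_cases j
  · exact cnt_0
  · exact cnt_1
  · exact cnt_2
  · exact cnt_3
  · exact cnt_4
  · exact cnt_5
  · exact cnt_6
  · exact cnt_7
  · exact cnt_8
  · exact cnt_9
  · exact cnt_10
  · exact cnt_11
  · exact cnt_12
  · exact cnt_13
  · exact cnt_14
  · exact cnt_15

theorem total : 0 + sumB ns 16 = 7128 := by decide +kernel

/-- the census for this condition -/
theorem census (C : (GolayPt → ℤ) → Prop)
    (hcond : ∀ v, v < 65536 ^ 24 → Good v → (cnd v = true ↔ C (vec v))) :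
    {z : GolayPt → ℤ | z ∈ leechLattice ∧ sqNorm z = 32 ∧ C z}.ncard = 7128 := by
  rw [ncard_eq_parts cnd C hcond 0 cnt_A ns parts, total]

end Cfsg.Agent.Lib.Helper1.EnC15d
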