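import Mathlib
import Cfsg.Agent.Lib.Helper1.EnP15eDef

set_option autoImplicit false
set_option maxRecDepth 100000

namespace Cfsg.Agent.Lib.Helper1.EnP15e

open Cfsg Cfsg.Agent.Lib.Helper1.LeechEnum

def certs4_0 : List ℕ :=
  [0, 0, 0, 0, 0, 0, 0, 0,
  0, 0, 0, 0, 0, 0, 0, 0,
  0, 0, 0, 0, 0, 0, 0, 0,
  0, 0, 0, 0, 0, 0, 0, 0]

theorem len4_0 : certs4_0.length = 32 := by decide +kernel

theorem part4_0 : chkFrom prob 1024 certs4_0 = true := by decide +kernel

def certs4_1 : List ℕ :=
  [0, 0, 0, 0, 0, 0, 0, 0,
  0, 0, 0, 0, 0, 0, 0, 0,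
  0, 0, 0, 0, 0, 0, 0, 0,
  0, 0, 0, 0, 0, 0, 0x29500000000000000000000000000000000000000000000000000000000000000000000000000000000000000000000000000000000000000000000000000000000000000000000000000000000000000000000000000000000000000000000000000000000000000000000000000000000000000000000000000000000000000000000000000000000000000000000000000000000000000000000000000000000000000000000000000000000000000000000000000000000, 0]

theorem len4_1 : certs4_1.length = 32 := by decide +kernel

theorem part4_1 : chkFrom prob 1056 certs4_1 = true := by decide +kernel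

def certs4_2 : List ℕ :=
  [0, 0, 0, 0, 0, 0, 0, 0,
  0, 0, 0, 0, 0, 0, 0, 0,
  0, 0, 0, 0, 0, 0, 0, 0,
  0, 0, 0, 0, 0, 0, 0, 0]

theorem len4_2 : certs4_2.length = 32 := by decide +kernel

theorem part4_2 : chkFrom prob 1088 certs4_2 = true := by decide +kernel

def certs4_3 : List ℕ :=
  [0, 0, 0, 0, 0, 0, 0, 0,
  0, 0, 0, 0, 0, 0, 0, 0,
  0, 0, 0, 0, 0, 0, 0, 0,
  0, 0, 0, 0, 0, 0, 0, 0]

theorem len4_3 : certs4_3.length = 32 := by decide +kernel

theorem part4_3 : chkFrom prob 1120 certs4_3 = true := by decide +kernel

def certs4_4 : List ℕ :=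
  [0, 0, 0, 0, 0, 0, 0, 0,
  0, 0, 0, 0, 0, 0, 0, 0,
  0, 0, 0, 0, 0, 0, 0, 0,
  0, 0, 0, 0, 0, 0, 0, 0]

theorem len4_4 : certs4_4.length = 32 := by decide +kernel

theorem part4_4 : chkFrom prob 1152 certs4_4 = true := by decide +kernel

def certs4_5 : List ℕ :=
  [0, 0, 0, 0, 0, 0, 0, 0,
  0, 0, 0, 0, 0, 0, 0, 0,
  0, 0, 0, 0, 0, 0, 0, 0,
  0, 0, 0, 0, 0, 0, 0, 0]

theorem len4_5 : certs4_5.length = 32 := by decide +kernel

theorem part4_5 : chkFrom prob 1184 certs4_5 = true := by decide +kernel

def certs4_6 : List ℕ :=
  [0, 0, 0, 0, 0, 0, 0, 0,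
  0, 0, 0, 0, 0, 0, 0, 0x8a00000000000000000000000000000000000000000000000000000000000000000000000000000000000000000000000000000000000000000000000000000000000000000000000000000000000000000000000000000000000000000000000000000000000000000000000000000000000000000000000000000000000000000000000000000000000000000000000000000000000000000000000000000000000000000000000000000000000000000000000000000000,
  0, 0, 0, 0, 0, 0, 0, 0,
  0, 0, 0, 0, 0, 0, 0, 0]

theorem len4_6 : certs4_6.length = 32 := by decide +kernel

theorem part4_6 : chkFrom prob 1216 certs4_6 = true := by decide +kernel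

def certs4_7 : List ℕ :=
  [0, 0, 0, 0, 0, 0, 0, 0,
  0, 0, 0, 0, 0, 0, 0, 0,
  0, 0, 0, 0, 0, 0x2100000000000000000000000000000000000000000000000000000000000000000000000000000000000000000000000000000000000000000000000000000000000000000000000000000000000000000000000000000000000000000000000000000000000000000000000000000000000000000000000000000000000000000000000000000000000000000000000000000000000000000000000000000000000000000000000000000000000000000000000000000000, 0, 0,
  0, 0, 0, 0, 0, 0, 0, 0x900000000000000000000000000000000000000000000000000000000000000000000000000000000000000000000000000000000000000000000000000000000000000000000000000000000000000000000000000000000000000000000000000000000000000000000000000000000000000000000000000000000000000000000000000000000000000000000000000000000000000000000000000000000000000000000000000000000000000000000000000000000]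

theorem len4_7 : certs4_7.length = 32 := by decide +kernel

theorem part4_7 : chkFrom prob 1248 certs4_7 = true := by decide +kernel

theorem part4 : ∀ c, 1024 ≤ c → c < 1280 → ∃ cert, chkChunk prob c cert = true := by
  intro c h1 h2
  obtain ⟨j, hj⟩ : ∃ j, j = (c - 1024) / 32 := ⟨_, rfl⟩
  have hj' : j < 8 := by omega
  interval_cases j
  · exact chkFrom_sound prob certs4_0 1024 part4_0 c (by omega) (by rw [len4_0]; omega)
  · exact chkFrom_sound prob certs4_1 1056 part4_1 c (by omega) (by rw [len4_1]; omega)
  · exact chkFrom_sound prob certs4_2 1088 part4_2 c (by omega) (by rw [len4_2]; omega)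
  · exact chkFrom_sound prob certs4_3 1120 part4_3 c (by omega) (by rw [len4_3]; omega)
  · exact chkFrom_sound prob certs4_4 1152 part4_4 c (by omega) (by rw [len4_4]; omega)
  · exact chkFrom_sound prob certs4_5 1184 part4_5 c (by omega) (by rw [len4_5]; omega)
  · exact chkFrom_sound prob certs4_6 1216 part4_6 c (by omega) (by rw [len4_6]; omega)
  · exact chkFrom_sound prob certs4_7 1248 part4_7 c (by omega) (by rw [len4_7]; omega)

end Cfsg.Agent.Lib.Helper1.EnP15e
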