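import Mathlib
import Cfsg.Agent.Lib.Helper1.EnP1P0
import Cfsg.Agent.Lib.Helper1.EnP1P1
import Cfsg.Agent.Lib.Helper1.EnP1P2
import Cfsg.Agent.Lib.Helper1.EnP1P3
import Cfsg.Agent.Lib.Helper1.EnP1P4
import Cfsg.Agent.Lib.Helper1.EnP1P5
import Cfsg.Agent.Lib.Helper1.EnP1P6
import Cfsg.Agent.Lib.Helper1.EnP1P7
import Cfsg.Agent.Lib.Helper1.EnP1P8
import Cfsg.Agent.Lib.Helper1.EnP1P9
import Cfsg.Agent.Lib.Helper1.EnP1P10
import Cfsg.Agent.Lib.Helper1.EnP1P11
import Cfsg.Agent.Lib.Helper1.EnP1P12
import Cfsg.Agent.Lib.Helper1.EnP1P13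
import Cfsg.Agent.Lib.Helper1.EnP1P14
import Cfsg.Agent.Lib.Helper1.EnP1P15

set_option autoImplicit false

namespace Cfsg.Agent.Lib.Helper1.EnP1

open Cfsg Cfsg.Agent.Lib.Helper1.LeechEnum

theorem all_ok : ∀ c < 4096, ∃ cert, chkChunk prob c cert = true := by
  intro c hc
  obtain ⟨j, hj⟩ : ∃ j, j = c / 256 := ⟨_, rfl⟩
  have hj' : j < 16 := by omega
  interval_cases j
  · exact chkFrom_sound prob certs0 0 part0 c (by omega) (by rw [len0]; omega)
  · exact chkFrom_sound prob certs1 256 part1 c (by omega) (by rw [len1]; omega)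
  · exact chkFrom_sound prob certs2 512 part2 c (by omega) (by rw [len2]; omega)
  · exact chkFrom_sound prob certs3 768 part3 c (by omega) (by rw [len3]; omega)
  · exact chkFrom_sound prob certs4 1024 part4 c (by omega) (by rw [len4]; omega)
  · exact chkFrom_sound prob certs5 1280 part5 c (by omega) (by rw [len5]; omega)
  · exact chkFrom_sound prob certs6 1536 part6 c (by omega) (by rw [len6]; omega)
  · exact chkFrom_sound prob certs7 1792 part7 c (by omega) (by rw [len7]; omega)
  · exact chkFrom_sound prob certs8 2048 part8 c (by omega) (by rw [len8]; omega)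
  · exact chkFrom_sound prob certs9 2304 part9 c (by omega) (by rw [len9]; omega)
  · exact chkFrom_sound prob certs10 2560 part10 c (by omega) (by rw [len10]; omega)
  · exact chkFrom_sound prob certs11 2816 part11 c (by omega) (by rw [len11]; omega)
  · exact chkFrom_sound prob certs12 3072 part12 c (by omega) (by rw [len12]; omega)
  · exact chkFrom_sound prob certs13 3328 part13 c (by omega) (by rw [len13]; omega)
  · exact chkFrom_sound prob certs14 3584 part14 c (by omega) (by rw [len14]; omega)
  · exact chkFrom_sound prob certs15 3840 part15 c (by omega) (by rw [len15]; omega)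

end Cfsg.Agent.Lib.Helper1.EnP1
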