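import Mathlib
import Cfsg.Agent.S1579
import Cfsg.Agent.Lib.Helper1.LeechEnum10

set_option autoImplicit false

namespace Cfsg.Agent.Lib.Helper1.LeechEnum

open Cfsg Cfsg.Agent.Lib.Helper1.LeechCross Cfsg.Agent.Lib.Helper1.LeechAut
  Cfsg.Agent.Lib.Helper1.LeechConn

/-! ### Standard position for a pair (norm 48, minimal summand) -/

theorem d0_sub_vecU_norm : sqNorm (d₀ - Cfsg.Spor.vecU) = 32 := by decide +kernel

/-- the coordinates of a difference -/
theorem coe_sub' (u v : leechLattice) :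
    ((u - v : leechLattice) : GolayPt → ℤ) = (u : GolayPt → ℤ) - (v : GolayPt → ℤ) := rfl

/-- a norm 48 vector and one of its 552 summands can be moved to `d₀`, `vecU` -/
theorem std_pair_A (u v : leechLattice) (hu : sqNorm (u : GolayPt → ℤ) = 48)
    (hv : sqNorm (v : GolayPt → ℤ) = 32 ∧ sqNorm ((u - v) : GolayPt → ℤ) = 32) :
    ∃ h : Co0, ((h • u : leechLattice) : GolayPt → ℤ) = d₀ ∧
      ((h • v : leechLattice) : GolayPt → ℤ) = Cfsg.Spor.vecU := by
  obtain ⟨h1, hh1⟩ := trans48 u ⟨d₀, d0_mem⟩ hu d0_norm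
  have hh1' : ((h1 • u : leechLattice) : GolayPt → ℤ) = d₀ := congrArg Subtype.val hh1
  have n1 : sqNorm ((h1 • v : leechLattice) : GolayPt → ℤ) = 32 := by rw [smul_norm, hv.1]
  have n2 : sqNorm (((h1 • u : leechLattice) : GolayPt → ℤ) - ((h1 • v : leechLattice) : GolayPt → ℤ)) = 32 := by
    rw [← coe_sub', ← smul_sub, smul_norm]
    exact hv.2
  obtain ⟨g, hg1, hg2⟩ := Cfsg.Agent.S1579.result (h1 • u) (h1 • v) ⟨Cfsg.Spor.vecU, vecU_mem⟩
    (by rw [smul_norm, hu]) ⟨n1, n2⟩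
    ⟨vecU_norm, by rw [hh1']; exact d0_sub_vecU_norm⟩
  refine ⟨g * h1, ?_, ?_⟩
  · rw [mul_smul, hg1, hh1']
  · rw [mul_smul, hg2]

end Cfsg.Agent.Lib.Helper1.LeechEnum
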