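import Mathlib
import Cfsg.Agent.Lib.Helper1.EnP15aAll
import Cfsg.Agent.Lib.Helper1.EnC15a
import Cfsg.Agent.Lib.Helper1.EnP15bAll
import Cfsg.Agent.Lib.Helper1.EnC15b
import Cfsg.Agent.Lib.Helper1.EnP15cAll
import Cfsg.Agent.Lib.Helper1.EnC15c
import Cfsg.Agent.Lib.Helper1.EnP15dAll
import Cfsg.Agent.Lib.Helper1.EnC15d
import Cfsg.Agent.Lib.Helper1.EnP15eAll
import Cfsg.Agent.Lib.Helper1.EnC15e
import Cfsg.Agent.Lib.Helper1.LeechEnum11
import Cfsg.Agent.Lib.Helper1.LeechEnum13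

set_option autoImplicit false

namespace Cfsg.Agent.Lib.Helper1.Co2Sub

open Cfsg Cfsg.Agent.Lib.Helper1 Cfsg.Agent.Lib.Helper1.LeechEnum
  Cfsg.Agent.Lib.Helper1.LeechConn Cfsg.Agent.Lib.Helper1.LeechAut

theorem hY2 : ∀ y ∈ [pD0, pU], Good y := by
  intro y hy
  have : y = pD0 ∨ y = pU := by simpa using hy
  rcases this with rfl | rfl
  · exact good_pD0
  · exact good_pU

/-- the common shape of the five suborbit problems -/
theorem reach_gen (P : Prob) (hPY : P.Y = [pD0, pU]) (hG : gensOK P.Y P.G = true)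
    (hA : ∃ cert, chkA P cert = true) (hall : ∀ c < 4096, ∃ cert, chkChunk P c cert = true)
    (s : ℤ)
    (hcond : ∀ v, v < 65536 ^ 24 → Good v → (P.cond v = true ↔
      (dotInt d₀ (vec v) = s ∧ dotInt Cfsg.Spor.vecU (vec v) = -8)))
    (z : GolayPt → ℤ) (hz : z ∈ leechLattice)
    (hc : sqNorm z = 32 ∧ dotInt d₀ z = s ∧ dotInt Cfsg.Spor.vecU z = -8) :
    ReachG [d₀, Cfsg.Spor.vecU] z (vec P.z0) := by
  have h := (reach_of_checks (by rw [hPY]; exact hY2) hG hA hall hz hc.1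
    (fun v hv hvz => (hcond v hv (good_of hvz hz (by rw [hc.1]; norm_num))).2
      (by rw [hvz]; exact hc.2))).toG
  have e1 : P.Y.map vec = [d₀, Cfsg.Spor.vecU] := by
    rw [hPY]
    show [vec pD0, vec pU] = _
    rw [vec_pD0, vec_pU]
  rwa [e1] at h

theorem cond_iff_a (v : ℕ) (hv : v < 65536 ^ 24) (hg : Good v) :
    EnP15a.prob.cond v = true ↔
      (dotInt d₀ (vec v) = 8 ∧ dotInt Cfsg.Spor.vecU (vec v) = -8) := by
  have h2 := dot_d0 v
  rw [sum_flds hv hg] at h2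
  have h3 := dot_vecU v
  show (Nat.beq (v % 65535 + 4 * fld 23 v) 7176 && Nat.beq (fld 23 v + fld 0 v) 510) = true ↔ _
  rw [Bool.and_eq_true, nbeq_iff, nbeq_iff, h2, h3]
  omega

theorem cond_iff_b (v : ℕ) (hv : v < 65536 ^ 24) (hg : Good v) :
    EnP15b.prob.cond v = true ↔
      (dotInt d₀ (vec v) = 0 ∧ dotInt Cfsg.Spor.vecU (vec v) = -8) := by
  have h2 := dot_d0 v
  rw [sum_flds hv hg] at h2
  have h3 := dot_vecU v
  show (Nat.beq (v % 65535 + 4 * fld 23 v) 7168 && Nat.beq (fld 23 v + fld 0 v) 510) = true ↔ _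
  rw [Bool.and_eq_true, nbeq_iff, nbeq_iff, h2, h3]
  omega

theorem cond_iff_c (v : ℕ) (hv : v < 65536 ^ 24) (hg : Good v) :
    EnP15c.prob.cond v = true ↔
      (dotInt d₀ (vec v) = -8 ∧ dotInt Cfsg.Spor.vecU (vec v) = -8) := by
  have h2 := dot_d0 v
  rw [sum_flds hv hg] at h2
  have h3 := dot_vecU v
  show (Nat.beq (v % 65535 + 4 * fld 23 v) 7160 && Nat.beq (fld 23 v + fld 0 v) 510) = true ↔ _
  rw [Bool.and_eq_true, nbeq_iff, nbeq_iff, h2, h3]
  omega

theorem cond_iff_d (v : ℕ) (hv : v < 65536 ^ 24) (hg : Good v) :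
    EnP15d.prob.cond v = true ↔
      (dotInt d₀ (vec v) = -16 ∧ dotInt Cfsg.Spor.vecU (vec v) = -8) := by
  have h2 := dot_d0 v
  rw [sum_flds hv hg] at h2
  have h3 := dot_vecU v
  show (Nat.beq (v % 65535 + 4 * fld 23 v) 7152 && Nat.beq (fld 23 v + fld 0 v) 510) = true ↔ _
  rw [Bool.and_eq_true, nbeq_iff, nbeq_iff, h2, h3]
  omega

theorem cond_iff_e (v : ℕ) (hv : v < 65536 ^ 24) (hg : Good v) :
    EnP15e.prob.cond v = true ↔
      (dotInt d₀ (vec v) = -24 ∧ dotInt Cfsg.Spor.vecU (vec v) = -8) := by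
  have h2 := dot_d0 v
  rw [sum_flds hv hg] at h2
  have h3 := dot_vecU v
  show (Nat.beq (v % 65535 + 4 * fld 23 v) 7144 && Nat.beq (fld 23 v + fld 0 v) 510) = true ↔ _
  rw [Bool.and_eq_true, nbeq_iff, nbeq_iff, h2, h3]
  omega

theorem norm_add' (x y : GolayPt → ℤ) :
    sqNorm (x + y) = sqNorm x + sqNorm y + 2 * dotInt x y := by
  unfold sqNorm dotInt
  rw [Finset.mul_sum, ← Finset.sum_add_distrib, ← Finset.sum_add_distrib]
  apply Finset.sum_congr rfl
  intro i _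
  simp only [Pi.add_apply]
  ring

/-- the 47104 -/
def Aset (v : leechLattice) : Set leechLattice :=
  {x | sqNorm (x : GolayPt → ℤ) = 32 ∧ dotInt (v : GolayPt → ℤ) (x : GolayPt → ℤ) = -8}

/-- the level sets of the inner product with `x` inside the 47104 -/
def Lset (v x : leechLattice) (t : ℤ) : Set leechLattice :=
  {y | y ∈ Aset v ∧ dotInt (x : GolayPt → ℤ) (y : GolayPt → ℤ) = t}

theorem conds {v x : leechLattice} {h : Co0}
    (hh1 : ((h • (v + x) : leechLattice) : GolayPt → ℤ) = d₀)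
    (hh2 : ((h • v : leechLattice) : GolayPt → ℤ) = Cfsg.Spor.vecU) (t : ℤ)
    (y : leechLattice) : y ∈ Lset v x t ↔
      (sqNorm ((h • y : leechLattice) : GolayPt → ℤ) = 32 ∧
        (dotInt d₀ ((h • y : leechLattice) : GolayPt → ℤ) = t - 8 ∧
        dotInt Cfsg.Spor.vecU ((h • y : leechLattice) : GolayPt → ℤ) = -8)) := by
  show ((_ ∧ _) ∧ _) ↔ _
  rw [smul_norm h y, ← hh1, ← hh2, smul_dot, smul_dot, coe_add', dot_add_left]
  constructor
  · rintro ⟨⟨a, b⟩, c⟩; exact ⟨a, by omega, b⟩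
  · rintro ⟨a, b, c⟩; exact ⟨⟨a, c⟩, by omega⟩

theorem orbit_eq {v x : leechLattice} {h : Co0}
    (hh1 : ((h • (v + x) : leechLattice) : GolayPt → ℤ) = d₀)
    (hh2 : ((h • v : leechLattice) : GolayPt → ℤ) = Cfsg.Spor.vecU) (t : ℤ)
    (z0 : GolayPt → ℤ)
    (hr : ∀ z, z ∈ leechLattice → (sqNorm z = 32 ∧ dotInt d₀ z = t - 8 ∧
      dotInt Cfsg.Spor.vecU z = -8) → ReachG [d₀, Cfsg.Spor.vecU] z z0)
    (y : leechLattice) (hy : y ∈ Lset v x t) :
    MulAction.orbit ↥(MulAction.stabilizer ↥Cfsg.Co0 v ⊓ MulAction.stabilizer ↥Cfsg.Co0 x) y =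
      Lset v x t := by
  ext y'
  constructor
  · rintro ⟨g, rfl⟩
    have gv : (g : Co0) • v = v := (Subgroup.mem_inf.mp g.2).1
    have gx : (g : Co0) • x = x := (Subgroup.mem_inf.mp g.2).2
    change ((g : Co0) • y) ∈ Lset v x t
    have e1 := smul_dot (g : Co0) v y
    rw [gv] at e1
    have e3 := smul_dot (g : Co0) x y
    rw [gx] at e3
    exact ⟨⟨by rw [smul_norm]; exact hy.1.1, by rw [e1]; exact hy.1.2⟩, by rw [e3]; exact hy.2⟩
  · intro hy'
    obtain ⟨g, hg1, hg2⟩ := stab_trans hr h y y' ((conds hh1 hh2 t y).1 hy)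
      ((conds hh1 hh2 t y').1 hy')
    have gu : g • (v + x) = v + x := hg1 (v + x) (by rw [hh1]; simp)
    have gv : g • v = v := hg1 v (by rw [hh2]; simp)
    have gx : g • x = x := by
      have e3 : x = (v + x) - v := by abel
      have e4 : g • x = g • ((v + x) - v) := by rw [← e3]
      rw [e4, LeechEnum.smul_sub, gu, gv]
      abel
    exact ⟨⟨g, Subgroup.mem_inf.mpr ⟨gv, gx⟩⟩, hg2⟩

/-- the suborbits of the stabiliser of two minimal vectors `v`, `x` with `v·x = -8` on the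
minimal vectors `z` with `v·z = -8`: the level sets of `x·z` are single orbits of the stated
sizes -/
theorem suborbits (v x : leechLattice) (hv : sqNorm (v : GolayPt → ℤ) = 32)
    (hx : sqNorm (x : GolayPt → ℤ) = 32)
    (hvx : dotInt (v : GolayPt → ℤ) (x : GolayPt → ℤ) = -8) :
    ((Lset v x 16).ncard = 2025 ∧ (Lset v x 8).ncard = 15400 ∧ (Lset v x 0).ncard = 22275 ∧
      (Lset v x (-8)).ncard = 7128 ∧ (Lset v x (-16)).ncard = 275) ∧
    ∀ t : ℤ, (t = 16 ∨ t = 8 ∨ t = 0 ∨ t = -8 ∨ t = -16) → ∀ y ∈ Lset v x t,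
      MulAction.orbit ↥(MulAction.stabilizer ↥Cfsg.Co0 v ⊓ MulAction.stabilizer ↥Cfsg.Co0 x) y =
        Lset v x t := by
  have hu1 : sqNorm ((v + x : leechLattice) : GolayPt → ℤ) = 48 := by
    rw [coe_add', norm_add', hv, hx, hvx]; norm_num
  have hu2 : sqNorm (((v + x : leechLattice) : GolayPt → ℤ) - (v : GolayPt → ℤ)) = 32 := by
    have : ((v + x : leechLattice) : GolayPt → ℤ) - (v : GolayPt → ℤ) = (x : GolayPt → ℤ) := by
      rw [coe_add']; abel
    rw [this, hx]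
  obtain ⟨h, hh1, hh2⟩ := std_pair_A (v + x) v hu1 ⟨hv, hu2⟩
  refine ⟨⟨?_, ?_, ?_, ?_, ?_⟩, ?_⟩
  · exact count_via h _ (fun z => dotInt d₀ z = 16 - 8 ∧ dotInt Cfsg.Spor.vecU z = -8) 2025
      (fun y => conds hh1 hh2 16 y) (EnC15a.census _ (fun v hv hg => by
        rw [show ((16 : ℤ) - 8) = 8 from by norm_num]; exact cond_iff_a v hv hg))
  · exact count_via h _ (fun z => dotInt d₀ z = 8 - 8 ∧ dotInt Cfsg.Spor.vecU z = -8) 15400
      (fun y => conds hh1 hh2 8 y) (EnC15b.census _ (fun v hv hg => by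
        rw [show ((8 : ℤ) - 8) = 0 from by norm_num]; exact cond_iff_b v hv hg))
  · exact count_via h _ (fun z => dotInt d₀ z = 0 - 8 ∧ dotInt Cfsg.Spor.vecU z = -8) 22275
      (fun y => conds hh1 hh2 0 y) (EnC15c.census _ (fun v hv hg => by
        rw [show ((0 : ℤ) - 8) = -8 from by norm_num]; exact cond_iff_c v hv hg))
  · exact count_via h _ (fun z => dotInt d₀ z = (-8) - 8 ∧ dotInt Cfsg.Spor.vecU z = -8) 7128
      (fun y => conds hh1 hh2 (-8) y) (EnC15d.census _ (fun v hv hg => by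
        rw [show (((-8) : ℤ) - 8) = -16 from by norm_num]; exact cond_iff_d v hv hg))
  · exact count_via h _ (fun z => dotInt d₀ z = (-16) - 8 ∧ dotInt Cfsg.Spor.vecU z = -8) 275
      (fun y => conds hh1 hh2 (-16) y) (EnC15e.census _ (fun v hv hg => by
        rw [show (((-16) : ℤ) - 8) = -24 from by norm_num]; exact cond_iff_e v hv hg))
  · rintro t (rfl | rfl | rfl | rfl | rfl) y hy
    · exact orbit_eq hh1 hh2 16 _ (fun z hz hc => reach_gen EnP15a.prob rfl EnP15a.gens_ok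
        ⟨_, EnP15a.chkA_ok⟩ EnP15a.all_ok 8 cond_iff_a z hz
        (by rw [show ((16 : ℤ) - 8) = 8 from by norm_num] at hc; exact hc)) y hy
    · exact orbit_eq hh1 hh2 8 _ (fun z hz hc => reach_gen EnP15b.prob rfl EnP15b.gens_ok
        ⟨_, EnP15b.chkA_ok⟩ EnP15b.all_ok 0 cond_iff_b z hz
        (by rw [show ((8 : ℤ) - 8) = 0 from by norm_num] at hc; exact hc)) y hy
    · exact orbit_eq hh1 hh2 0 _ (fun z hz hc => reach_gen EnP15c.prob rfl EnP15c.gens_ok
        ⟨_, EnP15c.chkA_ok⟩ EnP15c.all_ok (-8) cond_iff_c z hz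
        (by rw [show ((0 : ℤ) - 8) = -8 from by norm_num] at hc; exact hc)) y hy
    · exact orbit_eq hh1 hh2 (-8) _ (fun z hz hc => reach_gen EnP15d.prob rfl EnP15d.gens_ok
        ⟨_, EnP15d.chkA_ok⟩ EnP15d.all_ok (-16) cond_iff_d z hz
        (by rw [show (((-8) : ℤ) - 8) = -16 from by norm_num] at hc; exact hc)) y hy
    · exact orbit_eq hh1 hh2 (-16) _ (fun z hz hc => reach_gen EnP15e.prob rfl EnP15e.gens_ok
        ⟨_, EnP15e.chkA_ok⟩ EnP15e.all_ok (-24) cond_iff_e z hz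
        (by rw [show (((-16) : ℤ) - 8) = -24 from by norm_num] at hc; exact hc)) y hy

end Cfsg.Agent.Lib.Helper1.Co2Sub
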