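import Mathlib
import Cfsg.Agent.Lib.Helper1.PrimSimple4

set_option autoImplicit false

namespace Cfsg.Agent.Lib.Helper1.PrimSimple

open MulAction

/-- if `p` divides the order of `N` exactly once, the elements of order `p` are counted by the
Sylow subgroups -/
theorem card_orderOf_eq_prime_sylow (N : Type*) [Group N] [Finite N] (p : ℕ) [hp : Fact p.Prime]
    (h1 : p ∣ Nat.card N) (h2 : ¬ p ^ 2 ∣ Nat.card N) :
    Nat.card {a : N // orderOf a = p} = (p - 1) * Nat.card (Sylow p N) := by
  classical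
  have := Fintype.ofFinite N
  have := Fintype.ofFinite (Sylow p N)
  have hN0 : Nat.card N ≠ 0 := Nat.card_pos.ne'
  have hfac : (Nat.card N).factorization p = 1 := by
    have ha : 1 ≤ (Nat.card N).factorization p :=
      (hp.out.dvd_iff_one_le_factorization hN0).mp h1
    have hb : ¬ 2 ≤ (Nat.card N).factorization p := by
      intro h
      exact h2 ((hp.out.pow_dvd_iff_le_factorization hN0).mpr h)
    omega
  have hcardP : ∀ P : Sylow p N, Nat.card P = p := fun P => by
    rw [P.card_eq_multiplicity, hfac, pow_one]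
  have key : ∀ (P : Sylow p N) (a : N), a ∈ P → a ≠ 1 →
      orderOf a = p ∧ Subgroup.zpowers a = P.1 := by
    intro P a ha ha1
    have hle : Subgroup.zpowers a ≤ P.1 := (Subgroup.zpowers_le).mpr ha
    have hd : orderOf a ∣ p := by
      rw [← hcardP P, ← Nat.card_zpowers]
      exact Subgroup.card_dvd_of_le hle
    have ho : orderOf a = p := by
      rcases (Nat.dvd_prime hp.out).mp hd with h | h
      · exact absurd (orderOf_eq_one_iff.mp h) ha1
      · exact h
    refine ⟨ho, ?_⟩
    apply Subgroup.eq_of_le_of_card_ge hle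
    rw [Nat.card_zpowers, ho, hcardP P]
  have e : (Finset.univ.filter (fun a : N => orderOf a = p)) =
      Finset.univ.biUnion (fun P : Sylow p N =>
        Finset.univ.filter (fun a : N => a ∈ P ∧ a ≠ 1)) := by
    ext a
    simp only [Finset.mem_filter, Finset.mem_univ, true_and, Finset.mem_biUnion]
    constructor
    · intro ha
      have hpg : IsPGroup p (Subgroup.zpowers a) := by
        apply IsPGroup.of_card (n := 1)
        rw [Nat.card_zpowers, ha, pow_one]
      obtain ⟨P, hP⟩ := hpg.exists_le_sylow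
      refine ⟨P, hP (Subgroup.mem_zpowers a), ?_⟩
      rintro rfl
      rw [orderOf_one] at ha
      exact hp.out.one_lt.ne ha
    · rintro ⟨P, haP, ha1⟩
      exact (key P a haP ha1).1
  have hdisj : ∀ P ∈ (Finset.univ : Finset (Sylow p N)), ∀ Q ∈ (Finset.univ : Finset (Sylow p N)),
      P ≠ Q → Disjoint (Finset.univ.filter (fun a : N => a ∈ P ∧ a ≠ 1))
        (Finset.univ.filter (fun a : N => a ∈ Q ∧ a ≠ 1)) := by
    intro P _ Q _ hPQ
    rw [Finset.disjoint_left]
    intro a haP haQ
    simp only [Finset.mem_filter, Finset.mem_univ, true_and] at haP haQ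
    apply hPQ
    apply Sylow.ext
    rw [← (key P a haP.1 haP.2).2, ← (key Q a haQ.1 haQ.2).2]
  have hcardF : ∀ P : Sylow p N,
      (Finset.univ.filter (fun a : N => a ∈ P ∧ a ≠ 1)).card = p - 1 := by
    intro P
    have e1 : Finset.univ.filter (fun a : N => a ∈ P ∧ a ≠ 1) =
        (Finset.univ.filter (fun a : N => a ∈ P)).erase 1 := by
      ext a
      simp only [Finset.mem_filter, Finset.mem_univ, true_and, Finset.mem_erase]
      tauto
    rw [e1, Finset.card_erase_of_mem (by simp)]
    congr 1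
    have h3 := hcardP P
    rw [Nat.card_eq_fintype_card, Fintype.card_subtype] at h3
    exact h3
  rw [Nat.card_eq_fintype_card, Fintype.card_subtype, e, Finset.card_biUnion hdisj,
    Finset.sum_congr rfl (fun P _ => hcardF P), Finset.sum_const, Finset.card_univ,
    Nat.card_eq_fintype_card, smul_eq_mul, mul_comm]

variable {G Ω : Type*} [Group G] [MulAction G Ω]
variable {x : Ω} {k : ℕ} {y : Fin k → Ω} {n : Fin k → ℕ}

/-- the regular normal subgroup case is governed by element orders, refined by Sylow counting -/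
theorem SubData.regular_case' [Finite G] (D : SubData G x k y n)
    (N : Subgroup G) [hN : N.Normal] (hdisj : Disjoint N (stabilizer G x))
    (hsup : N ⊔ stabilizer G x = ⊤) :
    ∃ c : Fin k → ℕ, ∀ p, p.Prime → p ∣ (1 + ∑ i, n i) →
      (p ∣ (∑ i ∈ Finset.univ.filter (fun i => c i = p), n i) + 1) ∧
      (¬ p ^ 2 ∣ (1 + ∑ i, n i) → ∃ s, s ∣ (1 + ∑ i, n i) ∧ s % p = 1 ∧
        ∑ i ∈ Finset.univ.filter (fun i => c i = p), n i = (p - 1) * s) := by
  classical
  -- freeness
  have hinj : ∀ a ∈ N, ∀ b ∈ N, a • x = b • x → a = b := by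
    intro a ha b hb hab
    have h1 : (b⁻¹ * a) • x = x := by rw [mul_smul, hab, inv_smul_smul]
    have h2 : b⁻¹ * a ∈ N ⊓ stabilizer G x := ⟨N.mul_mem (N.inv_mem hb) ha, h1⟩
    rw [hdisj.eq_bot, Subgroup.mem_bot] at h2
    calc a = b * (b⁻¹ * a) := by group
      _ = b := by rw [h2, mul_one]
  -- transitivity
  have hsurj : ∀ z ∈ orbit G x, ∃ a ∈ N, a • x = z := by
    rintro z ⟨g, rfl⟩
    have hg : g ∈ ((N ⊔ stabilizer G x : Subgroup G) : Set G) := by rw [hsup]; trivial
    rw [Subgroup.normal_mul] at hg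
    obtain ⟨a, ha, h, hh, rfl⟩ := hg
    refine ⟨a, ha, ?_⟩
    show a • x = (a * h) • x
    have : h • x = x := hh
    rw [mul_smul, this]
  -- the size of `N`
  have hcardN : Nat.card N = 1 + ∑ i, n i := by
    rw [← D.orbit_ncard]
    have hbij : Function.Bijective (fun a : N => (⟨(a : G) • x, ⟨a, rfl⟩⟩ : orbit G x)) := by
      constructor
      · intro a b hab
        have := congrArg Subtype.val hab
        exact Subtype.ext (hinj a a.2 b b.2 this)
      · rintro ⟨z, hz⟩
        obtain ⟨a, ha, haz⟩ := hsurj z hz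
        exact ⟨⟨a, ha⟩, Subtype.ext haz⟩
    rw [Nat.card_congr (Equiv.ofBijective _ hbij)]
    rfl
  -- the element of `N` reaching `y i`
  have hex : ∀ i, ∃ a ∈ N, a • x = y i := fun i => hsurj _ (D.mem i)
  choose m hmN hm using hex
  refine ⟨fun i => orderOf (m i), ?_⟩
  intro p hp hpd
  have : Fact p.Prime := ⟨hp⟩
  -- the images of the elements of order `p`
  let T : Set Ω := {z | ∃ a ∈ N, orderOf a = p ∧ a • x = z}
  have hTsub : T ⊆ orbit G x := by
    rintro z ⟨a, _, _, rfl⟩
    exact ⟨a, rfl⟩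
  have hTx : x ∉ T := by
    rintro ⟨a, ha, hap, hax⟩
    have : a = 1 := hinj a ha 1 N.one_mem (by rw [hax, one_smul])
    rw [this, orderOf_one] at hap
    exact hp.one_lt.ne hap
  have hTinv : ∀ h ∈ stabilizer G x, ∀ z ∈ T, h • z ∈ T := by
    rintro h hh z ⟨a, ha, hap, rfl⟩
    refine ⟨h * a * h⁻¹, hN.conj_mem a ha h, ?_, ?_⟩
    · have := (MulAut.conj h).orderOf_eq a
      rw [MulAut.conj_apply] at this
      rw [this, hap]
    · have hx : h⁻¹ • x = x := (inv_mem hh : h⁻¹ ∈ stabilizer G x)
      rw [mul_smul, mul_smul, hx]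
  obtain ⟨I, hI, hmem⟩ := D.invariant_ncard T hTsub hTx hTinv
  have hIeq : I = Finset.univ.filter (fun i => orderOf (m i) = p) := by
    ext i
    rw [hmem i]
    simp only [Finset.mem_filter, Finset.mem_univ, true_and]
    constructor
    · rintro ⟨a, ha, hap, hay⟩
      have : a = m i := hinj a ha (m i) (hmN i) (by rw [hay, hm i])
      rw [← this, hap]
    · intro h
      exact ⟨m i, hmN i, h, hm i⟩
  have hTcard : T.ncard = Nat.card {a : N // orderOf a = p} := by
    have hbij : Function.Bijective (fun a : {a : N // orderOf a = p} =>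
        (⟨((a : N) : G) • x, ⟨a.1.1, a.1.2, by rw [Subgroup.orderOf_coe]; exact a.2, rfl⟩⟩ : T)) := by
      constructor
      · intro a b hab
        have := congrArg Subtype.val hab
        exact Subtype.ext (Subtype.ext (hinj a.1.1 a.1.2 b.1.1 b.1.2 this))
      · rintro ⟨z, a, ha, hap, rfl⟩
        exact ⟨⟨⟨a, ha⟩, by rw [Subgroup.orderOf_mk]; exact hap⟩, rfl⟩
    rw [Nat.card_congr (Equiv.ofBijective _ hbij)]
    rfl
  have hcnt : Nat.card {a : N // orderOf a = p} =
      ∑ i ∈ Finset.univ.filter (fun i => orderOf (m i) = p), n i := by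
    rw [← hTcard, hI, hIeq]
  refine ⟨?_, ?_⟩
  · have := card_orderOf_eq_prime_mod (G := N) p (by rw [hcardN]; exact hpd)
    rw [hcnt] at this
    exact this
  · intro hp2
    have h3 := card_orderOf_eq_prime_sylow N p (by rw [hcardN]; exact hpd)
      (by rw [hcardN]; exact hp2)
    refine ⟨Nat.card (Sylow p N), ?_, ?_, ?_⟩
    · have P : Sylow p N := default
      have := (Sylow.card_dvd_index P).trans (Subgroup.index_dvd_card _)
      rwa [hcardN] at this
    · have := card_sylow_modEq_one p N
      unfold Nat.ModEq at this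
      rw [this]
      exact Nat.mod_eq_of_lt hp.one_lt
    · rw [← hcnt, h3]

/-- simplicity from a simple point stabiliser and the arithmetic of the suborbit sizes -/
theorem SubData.simple' [Finite G] (D : SubData G x k y n)
    (hH : IsSimpleGroup (stabilizer G x))
    (hprim : ∀ I : Finset (Fin k), (1 + ∑ i ∈ I, n i) ∣ (1 + ∑ i, n i) →
      (∑ i ∈ I, n i = 0) ∨ (∑ i ∈ I, n i = ∑ i, n i))
    (hbig : ∃ i, n i ≠ 1)
    (hreg : ∀ c : Fin k → ℕ, ¬ ∀ p, p.Prime → p ∣ (1 + ∑ i, n i) →
      (p ∣ (∑ i ∈ Finset.univ.filter (fun i => c i = p), n i) + 1) ∧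
      (¬ p ^ 2 ∣ (1 + ∑ i, n i) → ∃ s, s ∣ (1 + ∑ i, n i) ∧ s % p = 1 ∧
        ∑ i ∈ Finset.univ.filter (fun i => c i = p), n i = (p - 1) * s)) :
    IsSimpleGroup G := by
  have : Nontrivial G := by
    obtain ⟨a, b, hab⟩ := hH.toNontrivial
    exact ⟨⟨a.1, b.1, fun h => hab (Subtype.ext h)⟩⟩
  refine ⟨fun N hN => ?_⟩
  have hM : (N.subgroupOf (stabilizer G x)).Normal := inferInstance
  rcases hH.eq_bot_or_eq_top_of_normal _ hM with hbot | htop
  · -- `N` meets the stabiliser trivially
    have hdisj : Disjoint N (stabilizer G x) := Subgroup.subgroupOf_eq_bot.mp hbot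
    rcases D.maximal hprim (N ⊔ stabilizer G x) le_sup_right with h1 | h2
    · left
      have hle : N ≤ stabilizer G x := by rw [← h1]; exact le_sup_left
      exact hdisj.eq_bot_of_le hle
    · exfalso
      obtain ⟨c, hc⟩ := D.regular_case' N hdisj h2
      exact hreg c hc
  · -- `N` contains the stabiliser
    have hle : stabilizer G x ≤ N := Subgroup.subgroupOf_eq_top.mp htop
    rcases D.maximal hprim N hle with h1 | h2
    · exfalso
      obtain ⟨i, hi⟩ := hbig
      exact hi (D.normal_stab_trivial (h1 ▸ hN) i)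
    · right; exact h2

end Cfsg.Agent.Lib.Helper1.PrimSimple
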