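import Mathlib
import Cfsg.Agent.Lib.Helper1.M24L

set_option autoImplicit false

namespace Cfsg.Agent.Lib.Helper1.M24

open Cfsg Cfsg.Agent.Lib.Helper1
open scoped Pointwise

theorem card_H12 : Nat.card ↥H12 = 95040 := by
  rw [← card_stabilizer_dodecad d₀fin d₀fin_mem]
  apply Nat.card_congr
  refine ⟨fun g => ⟨⟨g.1, g.2.1⟩, ?_⟩, fun g => ⟨g.1.1, g.1.2, ?_⟩, ?_, ?_⟩
  · rw [MulAction.mem_stabilizer_iff]
    exact MulAction.mem_stabilizer_iff.mp g.2.2
  · show g.1.1 • d₀fin = d₀fin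
    exact MulAction.mem_stabilizer_iff.mp g.2
  · intro g; rfl
  · intro g; rfl

theorem testBit_d₀ : ∀ q < 24, ((cw 6).testBit q = true ↔ q ∈ d₀pts) := by decide +kernel

theorem d₀pts_lt : ∀ j ∈ d₀pts, j < 24 := by decide

theorem upD {g : P24} (hg : g ∈ H12) {b : ℕ} (hb : b ∈ d₀pts) : gIdx (g (gUnidx b)) ∈ d₀pts := by
  rw [← testBit_d₀ _ (gIdx_lt _), invMask_d₀ hg, gIdx_gUnidx b (d₀pts_lt b hb),
    testBit_d₀ b (d₀pts_lt b hb)]
  exact hb

theorem upD' {g : P24} (hg : g ∈ H12) {b : ℕ} (hb : b < 24) (hb' : b ∉ d₀pts) :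
    gIdx (g (gUnidx b)) ∉ d₀pts := by
  rw [← testBit_d₀ _ (gIdx_lt _), invMask_d₀ hg, gIdx_gUnidx b hb, testBit_d₀ b hb]
  exact hb'

theorem card_H12_fix : Nat.card ↥(H12 ⊓ FixL [0, 2, 3, 4, 6]) = 1 := by
  have e0 := level_card (K' := H12) (H := H12) le_rfl [] 0 (fun q => decide (q ∈ d₀pts))
    (fun q hq h => lvlD0 q hq (of_decide_eq_true h))
    (fun g hg _ => decide_eq_true (upD hg (by decide)))
  have e1 := level_card (K' := H12) (H := H12) le_rfl [0] 2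
    (fun q => decide (q ∈ d₀pts ∧ q ∉ [0]))
    (fun q hq h => lvlD1 q hq (of_decide_eq_true h).1 (of_decide_eq_true h).2)
    (fun g hg hfix => decide_eq_true ⟨upD hg (by decide),
      up_generic _ (by decide) hfix (by norm_num) (by decide)⟩)
  have e2 := level_card (K' := H12) (H := H12) le_rfl [0, 2] 3
    (fun q => decide (q ∈ d₀pts ∧ q ∉ [0, 2]))
    (fun q hq h => lvlD2 q hq (of_decide_eq_true h).1 (of_decide_eq_true h).2)
    (fun g hg hfix => decide_eq_true ⟨upD hg (by decide),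
      up_generic _ (by decide) hfix (by norm_num) (by decide)⟩)
  have e3 := level_card (K' := H12) (H := H12) le_rfl [0, 2, 3] 4
    (fun q => decide (q ∈ d₀pts ∧ q ∉ [0, 2, 3]))
    (fun q hq h => lvlD3 q hq (of_decide_eq_true h).1 (of_decide_eq_true h).2)
    (fun g hg hfix => decide_eq_true ⟨upD hg (by decide),
      up_generic _ (by decide) hfix (by norm_num) (by decide)⟩)
  have e4 := level_card (K' := H12) (H := H12) le_rfl [0, 2, 3, 4] 6
    (fun q => decide (q ∈ d₀pts ∧ q ∉ [0, 2, 3, 4]))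
    (fun q hq h => lvlD4 q hq (of_decide_eq_true h).1 (of_decide_eq_true h).2)
    (fun g hg hfix => decide_eq_true ⟨upD hg (by decide),
      up_generic _ (by decide) hfix (by norm_num) (by decide)⟩)
  rw [FixL_nil, card_H12] at e0
  have c0 : (Finset.univ.filter (fun p : GolayPt =>
      (fun q => decide (q ∈ d₀pts)) (gIdx p) = true)).card = 12 := by decide +kernel
  have c1 : (Finset.univ.filter (fun p : GolayPt =>
      (fun q => decide (q ∈ d₀pts ∧ q ∉ [0])) (gIdx p) = true)).card = 11 := by decide +kernel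
  have c2 : (Finset.univ.filter (fun p : GolayPt =>
      (fun q => decide (q ∈ d₀pts ∧ q ∉ [0, 2])) (gIdx p) = true)).card = 10 := by
    decide +kernel
  have c3 : (Finset.univ.filter (fun p : GolayPt =>
      (fun q => decide (q ∈ d₀pts ∧ q ∉ [0, 2, 3])) (gIdx p) = true)).card = 9 := by
    decide +kernel
  have c4 : (Finset.univ.filter (fun p : GolayPt =>
      (fun q => decide (q ∈ d₀pts ∧ q ∉ [0, 2, 3, 4])) (gIdx p) = true)).card = 8 := by
    decide +kernel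
  rw [c0] at e0
  rw [c1] at e1
  rw [c2] at e2
  rw [c3] at e3
  rw [c4] at e4
  simp only [List.nil_append, List.cons_append] at e0 e1 e2 e3 e4
  rw [e1, e2, e3, e4] at e0
  omega

theorem H12_stab_trivial {g : P24} (hg : g ∈ H12)
    (hfix : ∀ j ∈ [0, 2, 3, 4, 6], g (gUnidx j) = gUnidx j) : g = 1 := by
  have h1 : H12 ⊓ FixL [0, 2, 3, 4, 6] = ⊥ := Subgroup.card_eq_one.mp card_H12_fix
  have h2 : g ∈ H12 ⊓ FixL [0, 2, 3, 4, 6] := ⟨hg, hfix⟩
  rw [h1, Subgroup.mem_bot] at h2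
  exact h2

theorem lvlD_all : ∀ k < [0, 2, 3, 4, 6].length, ∀ q < 24,
    gUnidx q ∈ (d₀fin : Set GolayPt) →
    q ∉ [0, 2, 3, 4, 6].take k →
      Reach H12 ([0, 2, 3, 4, 6].take k) ([0, 2, 3, 4, 6].getD k 0) q := by
  intro k hk q hq hqd hqn
  rw [Finset.mem_coe, mem_d₀fin_iff, gIdx_gUnidx q hq] at hqd
  have hk' : k < 5 := hk
  interval_cases k
  · exact lvlD0 q hq hqd
  · exact lvlD1 q hq hqd hqn
  · exact lvlD2 q hq hqd hqn
  · exact lvlD3 q hq hqd hqn
  · exact lvlD4 q hq hqd hqn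

theorem H12_maps_d₀ : ∀ g ∈ H12, ∀ p ∈ (d₀fin : Set GolayPt), g p ∈ (d₀fin : Set GolayPt) := by
  intro g hg p hp
  have h := MulAction.mem_stabilizer_iff.mp hg.2
  rw [Finset.mem_coe] at hp ⊢
  rw [← h]
  exact Finset.smul_mem_smul_finset hp

/-- five points of the standard dodecad can be moved to the base by its stabilizer -/
theorem five_to_base_D (x : Fin 5 → GolayPt) (hx : Function.Injective x)
    (hxd : ∀ i, x i ∈ d₀fin) :
    ∃ g ∈ H12, ∀ i : Fin 5, g (x i) = gUnidx ([0, 2, 3, 4, 6].getD i.val 0) :=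
  multi_trans H12 [0, 2, 3, 4, 6] (d₀fin : Set GolayPt) H12_maps_d₀ lvlD_all x hx
    (fun i => Finset.mem_coe.mpr (hxd i))

/-- sharp 5-transitivity on the standard dodecad -/
theorem sharp_D (x y : Fin 5 → GolayPt) (hx : Function.Injective x) (hy : Function.Injective y)
    (hxd : ∀ i, x i ∈ d₀fin) (hyd : ∀ i, y i ∈ d₀fin) :
    ∃ g ∈ H12, (∀ i, g (x i) = y i) ∧ ∀ g' ∈ H12, (∀ i, g' (x i) = y i) → g' = g := by
  obtain ⟨g1, hg1, h1⟩ := five_to_base_D x hx hxd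
  obtain ⟨g2, hg2, h2⟩ := five_to_base_D y hy hyd
  refine ⟨g2⁻¹ * g1, H12.mul_mem (H12.inv_mem hg2) hg1, ?_, ?_⟩
  · intro i
    rw [Equiv.Perm.mul_apply, Equiv.Perm.inv_eq_iff_eq, h1, h2]
  · intro g' hg' h'
    have h3 : g2 * g' * g1⁻¹ = 1 := by
      apply H12_stab_trivial (H12.mul_mem (H12.mul_mem hg2 hg') (H12.inv_mem hg1))
      intro j hj
      have hj' : ∃ i : Fin 5, j = [0, 2, 3, 4, 6].getD i.val 0 := by
        revert j; decide
      obtain ⟨i, rfl⟩ := hj'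
      have h4 : g1⁻¹ (g1 (x i)) = x i := by simp
      calc (g2 * g' * g1⁻¹) (gUnidx ([0, 2, 3, 4, 6].getD i.val 0))
          = g2 (g' (g1⁻¹ (g1 (x i)))) := by rw [← h1 i]; rfl
        _ = gUnidx ([0, 2, 3, 4, 6].getD i.val 0) := by rw [h4, h' i, h2 i]
    calc g' = g2⁻¹ * (g2 * g' * g1⁻¹) * g1 := by group
      _ = g2⁻¹ * g1 := by rw [h3, mul_one]

end Cfsg.Agent.Lib.Helper1.M24
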