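import Mathlib
import Cfsg.Agent.Lib.Helper1.M24M

set_option autoImplicit false

namespace Cfsg.Agent.Lib.Helper1.M24

open Cfsg Cfsg.Agent.Lib.Helper1
open scoped Pointwise

theorem mem_smul_iff' (τ : P24) (s : Finset GolayPt) (p : GolayPt) :
    p ∈ τ • s ↔ τ⁻¹ p ∈ s := by
  rw [Finset.mem_smul_finset]
  constructor
  · rintro ⟨q, hq, rfl⟩
    simpa using hq
  · intro h
    exact ⟨τ⁻¹ p, h, by simp⟩

/-- flags (dodecad, point on it) form one orbit -/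
theorem flag_trans (d : Finset GolayPt) (hd : d ∈ dodecads) (p : GolayPt) (hp : p ∈ d) :
    ∃ τ ∈ M24, τ • d₀fin = d ∧ τ (gUnidx 0) = p := by
  obtain ⟨τ₁, hτ₁, rfl⟩ := dodecad_reach d hd
  rw [mem_smul_iff'] at hp
  rw [mem_d₀fin_iff] at hp
  obtain ⟨σ, hσ, _, hσ0⟩ := lvlD0 _ (gIdx_lt _) hp
  rw [gUnidx_gIdx] at hσ0
  refine ⟨τ₁ * σ, M24.mul_mem hτ₁ hσ.1, ?_, ?_⟩
  · rw [mul_smul, MulAction.mem_stabilizer_iff.mp hσ.2]
  · rw [Equiv.Perm.mul_apply, hσ0]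
    simp

/-- conjugating the stabilizer of the standard dodecad -/
theorem conj_mem_H12 {τ g : P24} (hτ : τ ∈ M24) (hg : g ∈ M24) (hgd : g • (τ • d₀fin) = τ • d₀fin) :
    τ⁻¹ * g * τ ∈ H12 := by
  refine ⟨M24.mul_mem (M24.mul_mem (M24.inv_mem hτ) hg) hτ, ?_⟩
  show (τ⁻¹ * g * τ) • d₀fin = d₀fin
  rw [mul_smul, mul_smul, hgd, inv_smul_smul]

theorem conj_H12_smul {τ g : P24} (hg : g ∈ H12) : (τ * g * τ⁻¹) • (τ • d₀fin) = τ • d₀fin := by
  rw [mul_smul, mul_smul, inv_smul_smul, MulAction.mem_stabilizer_iff.mp hg.2]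

/-- sharp 5-transitivity of a dodecad stabilizer on the dodecad -/
theorem sharp_general (d : Finset GolayPt) (hd : d ∈ dodecads) (x y : Fin 5 → GolayPt)
    (hx : Function.Injective x) (hy : Function.Injective y)
    (hxd : ∀ i, x i ∈ d) (hyd : ∀ i, y i ∈ d) :
    ∃ g ∈ M24, g • d = d ∧ (∀ i, g (x i) = y i) ∧
      ∀ g' ∈ M24, g' • d = d → (∀ i, g' (x i) = y i) → g' = g := by
  obtain ⟨τ, hτ, rfl⟩ := dodecad_reach d hd
  obtain ⟨g₀, hg₀, h1, h2⟩ := sharp_D (fun i => τ⁻¹ (x i)) (fun i => τ⁻¹ (y i))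
    (fun i j h => hx (τ⁻¹.injective h)) (fun i j h => hy (τ⁻¹.injective h))
    (fun i => (mem_smul_iff' τ _ _).mp (hxd i)) (fun i => (mem_smul_iff' τ _ _).mp (hyd i))
  refine ⟨τ * g₀ * τ⁻¹, M24.mul_mem (M24.mul_mem hτ hg₀.1) (M24.inv_mem hτ), conj_H12_smul hg₀,
    ?_, ?_⟩
  · intro i
    rw [Equiv.Perm.mul_apply, Equiv.Perm.mul_apply, h1 i]
    simp
  · intro g' hg' hg'd h'
    have h3 := h2 (τ⁻¹ * g' * τ) (conj_mem_H12 hτ hg' hg'd) (by
      intro i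
      rw [Equiv.Perm.mul_apply, Equiv.Perm.mul_apply]
      have : τ (τ⁻¹ (x i)) = x i := by simp
      rw [this, h' i])
    rw [← h3]
    group

/-- a dodecad stabilizer is transitive on the dodecad -/
theorem stab_trans (d : Finset GolayPt) (hd : d ∈ dodecads) (p r : GolayPt) (hp : p ∈ d)
    (hr : r ∈ d) : ∃ g ∈ M24, g • d = d ∧ g p = r := by
  obtain ⟨τ₁, hτ₁, h1, h1'⟩ := flag_trans d hd p hp
  obtain ⟨τ₂, hτ₂, h2, h2'⟩ := flag_trans d hd r hr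
  refine ⟨τ₂ * τ₁⁻¹, M24.mul_mem hτ₂ (M24.inv_mem hτ₁), ?_, ?_⟩
  · rw [mul_smul, ← h1, inv_smul_smul, h2, h1]
  · rw [Equiv.Perm.mul_apply, ← h1']
    simp [h2']

theorem card_stab_dodecad_point (d : Finset GolayPt) (hd : d ∈ dodecads) (p : GolayPt)
    (hp : p ∈ d) :
    Nat.card ↥(MulAction.stabilizer M24 d ⊓ MulAction.stabilizer M24 p) = 7920 := by
  have h := StabCard.card_subgroup_eq_orbit_mul (G := M24) (MulAction.stabilizer M24 d) p
    (d : Set GolayPt) (by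
      intro r
      constructor
      · intro hr
        obtain ⟨g, hg, hgd, hgp⟩ := stab_trans d hd p r hp hr
        exact ⟨⟨g, hg⟩, hgd, hgp⟩
      · rintro ⟨g, hg, rfl⟩
        rw [MulAction.mem_stabilizer_iff] at hg
        rw [Finset.mem_coe]
        have : g • p ∈ g • d := Finset.smul_mem_smul_finset hp
        rw [hg] at this
        exact this)
  rw [card_stabilizer_dodecad d hd, Set.ncard_coe_finset, hd.2] at h
  omega

/-! ### three-transitivity on the complement -/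

/-- the stabilizer of the standard dodecad and its first point -/
def H11 : Subgroup P24 := H12 ⊓ FixL [0]

theorem reach_H11 {fx : List ℕ} {b q : ℕ} (h : Reach H12 (0 :: fx) b q) : Reach H11 fx b q := by
  obtain ⟨σ, hσ, h1, h2⟩ := h
  refine ⟨σ, ⟨hσ, ?_⟩, fun j hj => h1 j (List.mem_cons_of_mem _ hj), h2⟩
  intro j hj
  rw [List.mem_singleton] at hj
  subst hj
  exact h1 0 (List.mem_cons_self)

theorem lvlE_all : ∀ k < [1, 5, 12].length, ∀ q < 24,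
    gUnidx q ∈ ((d₀fin : Set GolayPt)ᶜ) →
    q ∉ [1, 5, 12].take k →
      Reach H11 ([1, 5, 12].take k) ([1, 5, 12].getD k 0) q := by
  intro k hk q hq hqd hqn
  rw [Set.mem_compl_iff, Finset.mem_coe, mem_d₀fin_iff, gIdx_gUnidx q hq] at hqd
  have hk' : k < 3 := hk
  interval_cases k
  · exact reach_H11 (lvlE1 q hq hqd)
  · exact reach_H11 (lvlE2 q hq hqd hqn)
  · exact reach_H11 (lvlE3 q hq hqd hqn)

theorem H11_maps_compl : ∀ g ∈ H11, ∀ p ∈ ((d₀fin : Set GolayPt)ᶜ),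
    g p ∈ ((d₀fin : Set GolayPt)ᶜ) := by
  intro g hg p hp
  have h := MulAction.mem_stabilizer_iff.mp hg.1.2
  rw [Set.mem_compl_iff, Finset.mem_coe] at hp ⊢
  intro h2
  apply hp
  rw [← h, mem_smul_iff'] at h2
  simpa using h2

theorem three_to_base_E (x : Fin 3 → GolayPt) (hx : Function.Injective x)
    (hxd : ∀ i, x i ∉ d₀fin) :
    ∃ g ∈ H11, ∀ i : Fin 3, g (x i) = gUnidx ([1, 5, 12].getD i.val 0) :=
  multi_trans H11 [1, 5, 12] ((d₀fin : Set GolayPt)ᶜ) H11_maps_compl lvlE_all x hx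
    (fun i => by rw [Set.mem_compl_iff, Finset.mem_coe]; exact hxd i)

theorem three_trans_compl (d : Finset GolayPt) (hd : d ∈ dodecads) (p : GolayPt) (hp : p ∈ d)
    (x y : Fin 3 → GolayPt) (hx : Function.Injective x) (hy : Function.Injective y)
    (hxd : ∀ i, x i ∉ d) (hyd : ∀ i, y i ∉ d) :
    ∃ g ∈ M24, g • d = d ∧ g p = p ∧ ∀ i, g (x i) = y i := by
  obtain ⟨τ, hτ, rfl, rfl⟩ := flag_trans d hd p hp
  obtain ⟨g1, hg1, h1⟩ := three_to_base_E (fun i => τ⁻¹ (x i))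
    (fun i j h => hx (τ⁻¹.injective h)) (fun i h => hxd i ((mem_smul_iff' τ _ _).mpr h))
  obtain ⟨g2, hg2, h2⟩ := three_to_base_E (fun i => τ⁻¹ (y i))
    (fun i j h => hy (τ⁻¹.injective h)) (fun i h => hyd i ((mem_smul_iff' τ _ _).mpr h))
  have hg : g2⁻¹ * g1 ∈ H11 := H11.mul_mem (H11.inv_mem hg2) hg1
  refine ⟨τ * (g2⁻¹ * g1) * τ⁻¹, M24.mul_mem (M24.mul_mem hτ hg.1.1) (M24.inv_mem hτ),
    conj_H12_smul hg.1, ?_, ?_⟩
  · have h0 := hg.2 0 (List.mem_singleton_self 0)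
    rw [Equiv.Perm.mul_apply, Equiv.Perm.mul_apply]
    have : τ⁻¹ (τ (gUnidx 0)) = gUnidx 0 := by simp
    rw [this, h0]
  · intro i
    have h3 : (g2⁻¹ * g1) (τ⁻¹ (x i)) = τ⁻¹ (y i) := by
      rw [Equiv.Perm.mul_apply, Equiv.Perm.inv_eq_iff_eq, h1 i, h2 i]
    rw [Equiv.Perm.mul_apply, Equiv.Perm.mul_apply, h3]
    simp

end Cfsg.Agent.Lib.Helper1.M24
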