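import Mathlib
import Cfsg.Agent.Lib.Helper1.M24H

set_option autoImplicit false

namespace Cfsg.Agent.Lib.Helper1.M24

open Cfsg Cfsg.Agent.Lib.Helper1

noncomputable section

def n118 : El K := El.mul n0 n112 [2, 1, 9, 6, 8, 4, 14, 5, 3, 15, 16, 19, 23, 7, 10, 11, 0, 21, 12, 22, 18, 20, 17, 13] (by decide +kernel)
def n458 : El K := El.mul n453 n431 [0, 1, 2, 3, 22, 17, 8, 11, 10, 19, 6, 15, 9, 13, 5, 7, 4, 14, 20, 12, 21, 18, 16, 23] (by decide +kernel)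
def n801 : El K := El.mul n795 n692 [0, 1, 2, 6, 8, 21, 9, 20, 17, 22, 4, 3, 14, 12, 7, 16, 18, 19, 5, 10, 13, 15, 11, 23] (by decide +kernel)
def n871 : El K := El.mul n2 n463 [4, 1, 3, 6, 20, 18, 21, 13, 8, 5, 22, 16, 12, 11, 15, 9, 19, 2, 14, 7, 10, 17, 0, 23] (by decide +kernel)
def n888 : El K := El.mul n0 n871 [5, 2, 4, 7, 21, 19, 22, 14, 9, 6, 0, 17, 13, 12, 16, 10, 20, 3, 15, 8, 11, 18, 1, 23] (by decide +kernel)
def n893 : El K := El.mul n0 n462 [23, 18, 0, 16, 20, 9, 15, 13, 8, 21, 10, 2, 11, 22, 3, 4, 6, 7, 12, 19, 14, 17, 5, 1] (by decide +kernel)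
def n902 : El K := El.mul n0 n470 [2, 6, 3, 5, 8, 22, 20, 0, 15, 10, 7, 1, 18, 14, 13, 17, 11, 21, 4, 16, 9, 12, 19, 23] (by decide +kernel)
def n919 : El K := El.mul n0 n880 [8, 5, 4, 0, 3, 7, 18, 14, 9, 21, 10, 11, 19, 17, 15, 13, 6, 1, 12, 22, 16, 2, 20, 23] (by decide +kernel)
def n960 : El K := El.mul n1 n893 [0, 14, 23, 10, 8, 5, 3, 7, 20, 12, 16, 11, 2, 1, 15, 17, 19, 13, 21, 6, 18, 4, 9, 22] (by decide +kernel)
def n961 : El K := El.mul n2 n893 [23, 4, 0, 13, 10, 12, 15, 9, 16, 20, 7, 6, 19, 14, 3, 2, 1, 5, 8, 22, 17, 11, 21, 18] (by decide +kernel)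
def n981 : El K := El.mul n0 n902 [3, 7, 4, 6, 9, 0, 21, 1, 16, 11, 8, 2, 19, 15, 14, 18, 12, 22, 5, 17, 10, 13, 20, 23] (by decide +kernel)
def n1161 : El K := El.mul n0 n981 [4, 8, 5, 7, 10, 1, 22, 2, 17, 12, 9, 3, 20, 16, 15, 19, 13, 0, 6, 18, 11, 14, 21, 23] (by decide +kernel)
def n1371 : El K := El.mul n1 n118 [11, 22, 5, 19, 20, 17, 18, 9, 15, 3, 10, 6, 0, 13, 16, 2, 23, 12, 21, 1, 14, 8, 4, 7] (by decide +kernel)
def n1535 : El K := El.mul n2 n1161 [2, 16, 21, 5, 7, 18, 14, 6, 11, 8, 12, 3, 10, 13, 15, 22, 9, 0, 1, 4, 19, 17, 20, 23] (by decide +kernel)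
def n1928 : El K := El.mul n0 n1371 [12, 0, 6, 20, 21, 18, 19, 10, 16, 4, 11, 7, 1, 14, 17, 3, 23, 13, 22, 2, 15, 9, 5, 8] (by decide +kernel)
def n3543 : El K := El.mul n3538 n3486 [0, 1, 2, 14, 4, 23, 10, 8, 7, 13, 6, 11, 20, 9, 3, 15, 18, 17, 16, 22, 12, 21, 19, 5] (by decide +kernel)
def n3703 : El K := El.mul n470 n960 [1, 12, 23, 6, 14, 21, 4, 22, 8, 17, 10, 0, 2, 5, 16, 20, 15, 13, 11, 19, 3, 7, 9, 18] (by decide +kernel)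
def n3704 : El K := El.mul n1535 n470 [16, 18, 21, 7, 6, 17, 4, 20, 15, 8, 14, 2, 0, 13, 10, 9, 12, 19, 5, 22, 11, 3, 1, 23] (by decide +kernel)
def n3705 : El K := El.mul n3703 n869 [4, 6, 23, 7, 12, 21, 15, 2, 22, 19, 8, 17, 13, 20, 5, 0, 14, 9, 10, 3, 16, 1, 11, 18] (by decide +kernel)
def n3706 : El K := El.mul n960 n888 [5, 23, 8, 7, 4, 6, 9, 15, 12, 3, 0, 13, 1, 2, 19, 16, 18, 10, 17, 20, 11, 21, 14, 22] (by decide +kernel)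
def n3707 : El K := El.mul n919 n893 [23, 12, 8, 6, 16, 21, 13, 17, 9, 2, 10, 4, 11, 20, 0, 3, 18, 14, 19, 22, 15, 1, 7, 5] (by decide +kernel)
def n3708 : El K := El.mul n888 n869 [22, 7, 4, 18, 2, 19, 20, 13, 14, 8, 9, 6, 3, 10, 12, 17, 21, 1, 0, 11, 16, 5, 15, 23] (by decide +kernel)
def n3709 : El K := El.mul n3704 n3706 [17, 23, 15, 20, 6, 4, 8, 9, 0, 7, 16, 13, 18, 21, 22, 12, 5, 14, 19, 11, 2, 3, 10, 1] (by decide +kernel)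
def n3710 : El K := El.mul n3706 n2 [5, 17, 9, 7, 8, 21, 23, 6, 18, 1, 15, 20, 12, 3, 10, 16, 2, 13, 4, 14, 0, 11, 19, 22] (by decide +kernel)
def n3711 : El K := El.mul n3708 n3705 [2, 20, 23, 13, 3, 5, 17, 4, 15, 11, 14, 1, 10, 16, 19, 22, 12, 8, 9, 18, 21, 7, 6, 0] (by decide +kernel)
def n3712 : El K := El.mul n3705 n3707 [18, 13, 22, 15, 14, 1, 20, 9, 19, 23, 8, 12, 17, 16, 4, 7, 10, 5, 3, 11, 0, 6, 2, 21] (by decide +kernel)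
def n3713 : El K := El.mul n961 n3709 [5, 18, 2, 17, 15, 10, 16, 20, 23, 9, 1, 14, 8, 11, 21, 19, 12, 3, 22, 6, 0, 13, 7, 4] (by decide +kernel)
def n3714 : El K := El.mul n3711 n2 [2, 9, 17, 13, 23, 7, 20, 5, 12, 10, 4, 18, 15, 11, 8, 22, 16, 1, 3, 6, 14, 21, 19, 0] (by decide +kernel)
def n3715 : El K := El.mul n3712 n3711 [22, 0, 21, 16, 15, 1, 5, 14, 7, 12, 4, 13, 8, 10, 11, 2, 17, 19, 23, 3, 6, 9, 20, 18] (by decide +kernel)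
def n3716 : El K := El.mul n3713 n3707 [4, 8, 23, 16, 12, 13, 11, 3, 9, 2, 1, 15, 14, 0, 5, 17, 22, 21, 6, 7, 19, 18, 20, 10] (by decide +kernel)
def n3717 : El K := El.mul n3710 n869 [23, 7, 9, 11, 17, 21, 2, 12, 6, 14, 18, 1, 13, 16, 3, 20, 8, 19, 15, 0, 10, 5, 4, 22] (by decide +kernel)
def n3718 : El K := El.mul n3707 n3716 [16, 9, 5, 18, 11, 20, 4, 6, 2, 8, 12, 3, 0, 23, 21, 14, 7, 1, 13, 17, 22, 19, 15, 10] (by decide +kernel)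
def n3719 : El K := El.mul n3717 n3715 [4, 23, 5, 8, 20, 7, 21, 3, 12, 13, 17, 16, 6, 18, 1, 9, 19, 0, 22, 11, 2, 14, 10, 15] (by decide +kernel)
def n3720 : El K := El.mul n3714 n3716 [23, 12, 0, 16, 15, 11, 18, 13, 10, 17, 9, 22, 8, 2, 7, 1, 19, 21, 20, 5, 6, 3, 14, 4] (by decide +kernel)
def n3721 : El K := El.mul n2 n3718 [13, 12, 21, 4, 19, 10, 2, 1, 6, 16, 8, 3, 0, 23, 20, 17, 5, 18, 9, 11, 14, 22, 15, 7] (by decide +kernel)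
def n3722 : El K := El.mul n3711 n3715 [6, 2, 7, 12, 22, 20, 5, 19, 4, 10, 3, 16, 15, 14, 1, 23, 8, 18, 0, 13, 17, 11, 21, 9] (by decide +kernel)
def n3723 : El K := El.mul n3716 n3719 [12, 10, 13, 9, 19, 3, 18, 16, 14, 0, 21, 22, 11, 6, 8, 2, 7, 4, 20, 15, 23, 5, 1, 17] (by decide +kernel)
def n3724 : El K := El.mul n3719 n2 [4, 22, 21, 8, 5, 14, 23, 7, 19, 6, 3, 11, 12, 13, 0, 9, 18, 16, 20, 10, 17, 2, 1, 15] (by decide +kernel)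
def n3725 : El K := El.mul n961 n3720 [18, 19, 23, 1, 2, 6, 8, 14, 7, 5, 20, 21, 16, 0, 9, 4, 22, 11, 17, 12, 15, 13, 3, 10] (by decide +kernel)
def n3726 : El K := El.mul n3725 n3722 [8, 23, 14, 16, 3, 15, 6, 12, 2, 20, 1, 22, 4, 9, 19, 10, 7, 17, 18, 0, 11, 21, 13, 5] (by decide +kernel)
def n3727 : El K := El.mul n3710 n3726 [18, 22, 10, 2, 7, 16, 23, 12, 9, 0, 17, 19, 8, 1, 14, 15, 6, 13, 4, 5, 20, 11, 3, 21] (by decide +kernel)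
def n3728 : El K := El.mul n3723 n3719 [19, 17, 3, 14, 23, 16, 5, 9, 11, 6, 4, 7, 18, 20, 10, 0, 15, 12, 1, 22, 13, 8, 21, 2] (by decide +kernel)
def n3729 : El K := El.mul n3727 n470 [22, 16, 10, 7, 12, 11, 5, 3, 14, 0, 23, 18, 13, 1, 8, 6, 17, 20, 2, 15, 9, 19, 4, 21] (by decide +kernel)
def n3732 : El K := El.mul n470 n3721 [13, 17, 11, 7, 15, 6, 2, 5, 19, 10, 14, 4, 1, 23, 8, 20, 21, 3, 9, 0, 12, 18, 16, 22] (by decide +kernel)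
def n3734 : El K := El.mul n3728 n961 [2, 23, 19, 20, 4, 18, 0, 6, 15, 13, 9, 5, 22, 10, 14, 3, 17, 16, 11, 21, 12, 7, 8, 1] (by decide +kernel)
def n3735 : El K := El.mul n3729 n3715 [4, 22, 19, 17, 6, 16, 11, 8, 3, 13, 12, 1, 14, 23, 18, 10, 20, 15, 21, 7, 5, 0, 9, 2] (by decide +kernel)
def n3736 : El K := El.mul n470 n961 [23, 7, 1, 13, 6, 17, 16, 9, 10, 8, 22, 19, 15, 12, 4, 2, 5, 21, 14, 18, 20, 0, 11, 3] (by decide +kernel)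
def n3737 : El K := El.mul n3734 n3715 [8, 2, 7, 17, 3, 23, 18, 14, 6, 22, 4, 10, 15, 9, 5, 19, 16, 21, 1, 20, 0, 13, 12, 11] (by decide +kernel)
def n3740 : El K := El.mul n3732 n3735 [15, 16, 0, 3, 2, 21, 4, 19, 7, 23, 1, 17, 8, 22, 9, 14, 12, 20, 18, 5, 6, 13, 10, 11] (by decide +kernel)
def n3742 : El K := El.mul n3736 n3735 [6, 11, 18, 21, 16, 5, 19, 10, 13, 12, 15, 7, 4, 3, 14, 22, 20, 2, 0, 9, 17, 23, 8, 1] (by decide +kernel)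
def n3744 : El K := El.mul n3736 n3740 [2, 5, 23, 13, 1, 0, 6, 18, 9, 3, 7, 21, 10, 11, 8, 4, 15, 20, 14, 17, 16, 12, 22, 19] (by decide +kernel)
def n3745 : El K := El.mul n3710 n3744 [9, 21, 22, 3, 17, 5, 23, 4, 1, 7, 6, 11, 15, 20, 18, 8, 16, 0, 10, 13, 2, 12, 19, 14] (by decide +kernel)
def n3746 : El K := El.mul n3715 n3736 [18, 14, 0, 10, 5, 19, 17, 12, 4, 7, 20, 3, 2, 8, 15, 21, 1, 9, 11, 23, 6, 22, 13, 16] (by decide +kernel)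
def n3747 : El K := El.mul n1928 n3746 [22, 17, 12, 11, 18, 2, 13, 1, 21, 10, 15, 20, 6, 16, 3, 9, 0, 4, 7, 8, 19, 5, 14, 23] (by decide +kernel)
def n3748 : El K := El.mul n3747 n1 [23, 14, 20, 9, 4, 10, 8, 16, 19, 2, 0, 12, 5, 1, 7, 11, 15, 18, 3, 13, 21, 6, 17, 22] (by decide +kernel)
def n3751 : El K := El.mul n3747 n102 [23, 17, 16, 4, 8, 20, 5, 9, 14, 1, 7, 18, 22, 10, 19, 2, 6, 13, 0, 21, 15, 3, 11, 12] (by decide +kernel)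
def n3757 : El K := El.mul n2 n3751 [23, 11, 13, 2, 16, 10, 21, 12, 17, 18, 5, 4, 14, 7, 22, 6, 1, 9, 0, 20, 15, 3, 19, 8] (by decide +kernel)
def n3761 : El K := El.mul n3747 n3747 [14, 4, 6, 20, 7, 12, 16, 17, 5, 15, 9, 19, 13, 0, 11, 10, 22, 18, 1, 21, 8, 2, 3, 23] (by decide +kernel)
def n3762 : El K := El.mul n3747 n3761 [3, 18, 13, 19, 1, 6, 0, 4, 2, 9, 10, 8, 16, 22, 20, 15, 14, 7, 17, 5, 21, 12, 11, 23] (by decide +kernel)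
def n3763 : El K := El.mul n3747 n3762 [11, 7, 16, 8, 17, 13, 22, 18, 12, 10, 15, 21, 0, 14, 19, 9, 3, 1, 4, 2, 5, 6, 20, 23] (by decide +kernel)
def n3764 : El K := El.mul n3747 n3763 [20, 1, 0, 21, 4, 16, 14, 7, 6, 15, 9, 5, 22, 3, 8, 10, 11, 17, 18, 12, 2, 13, 19, 23] (by decide +kernel)
def n3765 : El K := El.mul n3747 n3764 [19, 17, 22, 5, 18, 0, 3, 1, 13, 9, 10, 2, 14, 11, 21, 15, 20, 4, 7, 6, 12, 16, 8, 23] (by decide +kernel)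
def n3766 : El K := El.mul n3747 n3765 [8, 4, 14, 2, 7, 22, 11, 17, 16, 10, 15, 12, 3, 20, 5, 9, 19, 18, 1, 13, 6, 0, 21, 23] (by decide +kernel)
def n3767 : El K := El.mul n3747 n3766 [21, 18, 3, 12, 1, 14, 20, 4, 0, 15, 9, 6, 11, 19, 2, 10, 8, 7, 17, 16, 13, 22, 5, 23] (by decide +kernel)
def n3768 : El K := El.mul n3747 n3767 [5, 7, 11, 6, 17, 3, 19, 18, 22, 9, 10, 13, 20, 8, 12, 15, 21, 1, 4, 0, 16, 14, 2, 23] (by decide +kernel)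
def n3769 : El K := El.mul n3747 n3768 [2, 1, 20, 13, 4, 11, 8, 7, 14, 10, 15, 16, 19, 21, 6, 9, 5, 17, 18, 22, 0, 3, 12, 23] (by decide +kernel)
def n3770 : El K := El.mul n3747 n3769 [12, 17, 19, 16, 18, 20, 21, 1, 3, 15, 9, 0, 8, 5, 13, 10, 2, 4, 7, 14, 22, 11, 6, 23] (by decide +kernel)
def n3771 : El K := El.mul n3747 n3770 [6, 4, 8, 0, 7, 19, 5, 17, 11, 9, 10, 22, 21, 2, 16, 15, 12, 18, 1, 3, 14, 20, 13, 23] (by decide +kernel)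
def n3772 : El K := El.mul n3747 n3771 [13, 18, 21, 22, 1, 8, 2, 4, 20, 10, 15, 14, 5, 12, 0, 9, 6, 7, 17, 11, 3, 19, 16, 23] (by decide +kernel)
def n3773 : El K := El.mul n3747 n3772 [16, 7, 5, 14, 17, 21, 12, 18, 19, 15, 9, 3, 2, 6, 22, 10, 13, 1, 4, 20, 11, 8, 0, 23] (by decide +kernel)
def n3774 : El K := El.mul n3745 n3724 [17, 19, 12, 1, 5, 18, 14, 4, 13, 23, 3, 11, 15, 20, 9, 7, 10, 16, 2, 6, 0, 22, 21, 8] (by decide +kernel)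
def n3775 : El K := El.inv n3757 [18, 16, 3, 21, 11, 10, 15, 13, 23, 17, 5, 1, 7, 2, 12, 20, 4, 8, 9, 22, 19, 6, 14, 0] (by decide +kernel)
def n3776 : El K := El.mul n3775 n3774 [8, 22, 7, 16, 10, 9, 12, 11, 2, 0, 21, 1, 20, 19, 17, 13, 5, 4, 3, 15, 18, 14, 6, 23] (by decide +kernel)
def n3777 : El K := El.mul n3767 n3776 [0, 5, 4, 8, 9, 15, 11, 6, 3, 21, 22, 18, 13, 16, 7, 19, 14, 1, 12, 10, 17, 2, 20, 23] (by decide +kernel)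
def n3780 : El K := El.mul n3777 n102 [23, 5, 16, 1, 10, 18, 2, 19, 20, 6, 12, 9, 0, 21, 17, 15, 13, 11, 14, 3, 22, 7, 8, 4] (by decide +kernel)
def n3787 : El K := El.mul n3777 n3747 [20, 1, 13, 18, 12, 4, 16, 5, 2, 22, 19, 17, 11, 14, 8, 21, 0, 9, 6, 3, 10, 15, 7, 23] (by decide +kernel)
def n3789 : El K := El.mul n3747 n3787 [19, 17, 16, 7, 6, 18, 0, 2, 12, 14, 8, 4, 20, 3, 21, 5, 22, 10, 13, 11, 15, 9, 1, 23] (by decide +kernel)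
def n3805 : El K := El.mul n3777 n3777 [0, 15, 9, 3, 21, 19, 18, 11, 8, 2, 20, 12, 16, 14, 6, 10, 7, 5, 13, 22, 1, 4, 17, 23] (by decide +kernel)
def n3806 : El K := El.mul n3777 n3805 [0, 19, 21, 8, 2, 10, 12, 18, 3, 4, 17, 13, 14, 7, 11, 22, 6, 15, 16, 20, 5, 9, 1, 23] (by decide +kernel)
def n3807 : El K := El.mul n3777 n3806 [0, 10, 2, 3, 4, 22, 13, 12, 8, 9, 1, 16, 7, 6, 18, 20, 11, 19, 14, 17, 15, 21, 5, 23] (by decide +kernel)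
def n3808 : El K := El.mul n3777 n3807 [0, 22, 4, 8, 9, 20, 16, 13, 3, 21, 5, 14, 6, 11, 12, 17, 18, 10, 7, 1, 19, 2, 15, 23] (by decide +kernel)
def n3811 : El K := El.mul n3746 n3737 [4, 0, 12, 9, 10, 16, 11, 15, 17, 13, 5, 20, 21, 7, 19, 23, 1, 22, 14, 6, 18, 8, 2, 3] (by decide +kernel)
def n3812 : El K := El.mul n443 n3811 [22, 8, 5, 19, 13, 7, 20, 21, 18, 16, 11, 4, 14, 17, 10, 0, 12, 6, 2, 15, 3, 9, 1, 23] (by decide +kernel)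
def n3813 : El K := El.mul n3773 n3812 [0, 19, 21, 20, 6, 18, 11, 8, 4, 13, 3, 17, 22, 1, 9, 16, 2, 12, 5, 10, 14, 15, 7, 23] (by decide +kernel)
def n3814 : El K := El.mul n3808 n3813 [0, 1, 2, 19, 16, 7, 14, 3, 9, 11, 8, 10, 15, 22, 21, 18, 4, 6, 20, 5, 12, 17, 13, 23] (by decide +kernel)
def n3825 : El K := El.mul n3814 n3777 [0, 7, 16, 9, 11, 18, 10, 14, 19, 17, 13, 20, 22, 4, 3, 5, 21, 1, 15, 8, 6, 2, 12, 23] (by decide +kernel)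
def n3827 : El K := El.mul n3777 n3825 [0, 6, 14, 21, 18, 12, 22, 7, 10, 1, 16, 17, 20, 9, 8, 15, 2, 5, 19, 3, 11, 4, 13, 23] (by decide +kernel)
def n3832 : El K := El.mul n3814 n3827 [0, 14, 21, 17, 20, 15, 13, 3, 8, 1, 4, 6, 12, 11, 9, 18, 2, 7, 5, 19, 10, 16, 22, 23] (by decide +kernel)
def n3843 : El K := El.mul n3744 n3724 [1, 22, 12, 9, 0, 8, 19, 18, 17, 6, 13, 21, 10, 11, 2, 3, 14, 15, 16, 7, 20, 23, 5, 4] (by decide +kernel)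
def n3844 : El K := El.inv n3780 [12, 3, 6, 19, 23, 1, 9, 21, 22, 11, 4, 17, 10, 16, 18, 15, 2, 14, 5, 7, 8, 13, 20, 0] (by decide +kernel)
def n3845 : El K := El.mul n3844 n3843 [3, 20, 10, 11, 12, 22, 7, 5, 14, 9, 16, 13, 4, 17, 6, 19, 18, 15, 2, 21, 8, 0, 1, 23] (by decide +kernel)
def n3846 : El K := El.mul n3771 n3845 [0, 14, 10, 22, 21, 13, 17, 19, 16, 9, 12, 2, 7, 18, 5, 3, 1, 15, 8, 20, 11, 6, 4, 23] (by decide +kernel)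
def n3847 : El K := El.inv n3832 [0, 9, 16, 7, 10, 18, 11, 17, 8, 14, 20, 13, 12, 6, 1, 5, 21, 3, 15, 19, 4, 2, 22, 23] (by decide +kernel)
def n3848 : El K := El.mul n3847 n3846 [0, 1, 20, 22, 2, 6, 3, 19, 21, 14, 12, 16, 17, 15, 18, 7, 9, 5, 8, 4, 13, 11, 10, 23] (by decide +kernel)
def n3849 : El K := El.mul n3848 n3748 [23, 18, 13, 14, 2, 12, 21, 9, 4, 20, 0, 17, 6, 1, 19, 16, 7, 8, 22, 15, 11, 3, 5, 10] (by decide +kernel)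
def n3851 : El K := El.mul n1 n3849 [0, 14, 7, 18, 11, 21, 12, 5, 17, 8, 23, 4, 19, 22, 6, 10, 13, 20, 1, 3, 2, 15, 9, 16] (by decide +kernel)
def n3856 : El K := El.mul n3848 n3789 [4, 5, 9, 19, 3, 8, 0, 20, 17, 18, 21, 2, 13, 22, 11, 6, 10, 12, 15, 16, 7, 14, 1, 23] (by decide +kernel)
def n3862 : El K := El.mul n3848 n3806 [0, 4, 11, 21, 20, 12, 17, 8, 22, 2, 5, 15, 18, 19, 16, 10, 3, 7, 9, 13, 6, 14, 1, 23] (by decide +kernel)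
def n3868 : El K := El.mul n3848 n3862 [0, 2, 16, 11, 13, 17, 5, 21, 10, 20, 6, 7, 8, 4, 9, 12, 22, 19, 14, 15, 3, 18, 1, 23] (by decide +kernel)
def n3870 : El K := El.mul n3848 n3848 [0, 1, 13, 10, 20, 3, 22, 4, 11, 18, 17, 9, 5, 7, 8, 19, 14, 6, 21, 2, 15, 16, 12, 23] (by decide +kernel)
def n3871 : El K := El.mul n3814 n3848 [0, 1, 12, 13, 2, 14, 19, 5, 17, 21, 15, 4, 6, 18, 20, 3, 11, 7, 9, 16, 22, 10, 8, 23] (by decide +kernel)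
def n3872 : El K := El.mul n3848 n3870 [0, 1, 15, 12, 13, 22, 10, 2, 16, 8, 5, 14, 6, 19, 21, 4, 18, 3, 11, 20, 7, 9, 17, 23] (by decide +kernel)
def n3876 : El K := El.mul n3814 n3872 [0, 1, 18, 15, 22, 13, 8, 2, 4, 9, 7, 21, 14, 5, 17, 16, 20, 19, 10, 12, 3, 11, 6, 23] (by decide +kernel)
def n3889 : El K := El.mul n3742 n3843 [11, 8, 4, 12, 6, 13, 9, 0, 2, 19, 3, 23, 15, 7, 18, 21, 14, 22, 20, 10, 17, 1, 5, 16] (by decide +kernel)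
def n3890 : El K := El.inv n3851 [0, 18, 20, 19, 11, 7, 14, 2, 9, 22, 15, 4, 6, 16, 1, 21, 23, 8, 3, 12, 17, 5, 13, 10] (by decide +kernel)
def n3891 : El K := El.mul n3890 n3889 [4, 9, 11, 6, 14, 16, 22, 0, 20, 12, 19, 10, 21, 2, 3, 5, 1, 13, 17, 15, 8, 18, 7, 23] (by decide +kernel)
def n3892 : El K := El.inv n3856 [6, 22, 11, 4, 0, 1, 15, 20, 5, 2, 16, 14, 17, 12, 21, 18, 19, 8, 9, 3, 7, 10, 13, 23] (by decide +kernel)
def n3893 : El K := El.mul n3892 n3891 [0, 2, 14, 15, 21, 19, 13, 6, 7, 17, 3, 16, 10, 11, 4, 1, 22, 12, 8, 18, 5, 9, 20, 23] (by decide +kernel)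
def n3894 : El K := El.inv n3868 [0, 22, 1, 20, 13, 6, 10, 11, 12, 14, 8, 3, 15, 4, 18, 19, 2, 5, 21, 17, 9, 7, 16, 23] (by decide +kernel)
def n3895 : El K := El.mul n3894 n3893 [0, 1, 18, 19, 7, 17, 4, 10, 11, 5, 20, 2, 8, 3, 13, 22, 16, 15, 12, 21, 6, 14, 9, 23] (by decide +kernel)
def n3896 : El K := El.inv n3876 [0, 1, 7, 20, 8, 13, 22, 10, 6, 9, 18, 21, 19, 5, 12, 3, 15, 14, 2, 17, 16, 11, 4, 23] (by decide +kernel)
def n3897 : El K := El.mul n3896 n3895 [0, 1, 2, 17, 10, 14, 8, 18, 21, 13, 16, 7, 6, 20, 5, 4, 15, 3, 19, 11, 22, 12, 9, 23] (by decide +kernel)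
def n3904 : El K := El.mul n3897 n3805 [0, 4, 13, 17, 12, 11, 19, 7, 21, 2, 22, 6, 15, 5, 8, 16, 18, 14, 20, 9, 1, 10, 3, 23] (by decide +kernel)
def n3908 : El K := El.mul n3848 n3904 [0, 2, 15, 5, 17, 16, 4, 19, 11, 20, 10, 3, 7, 6, 21, 9, 8, 18, 13, 14, 1, 12, 22, 23] (by decide +kernel)
def n3912 : El K := El.mul n3897 n3871 [0, 1, 6, 20, 2, 5, 11, 14, 3, 12, 4, 10, 8, 19, 22, 17, 7, 18, 13, 15, 9, 16, 21, 23] (by decide +kernel)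
def n3986 : El K := El.mul n393 n801 [0, 1, 2, 18, 7, 11, 13, 22, 17, 20, 15, 3, 14, 19, 8, 10, 6, 12, 5, 16, 9, 4, 21, 23] (by decide +kernel)
def n4043 : El K := El.mul n3908 n3912 [0, 2, 4, 1, 15, 16, 3, 21, 5, 7, 17, 10, 11, 14, 22, 18, 19, 13, 6, 9, 20, 8, 12, 23] (by decide +kernel)
def n4044 : El K := El.mul n4043 n3986 [0, 2, 4, 6, 21, 10, 14, 12, 13, 20, 18, 1, 22, 9, 5, 17, 3, 11, 16, 19, 7, 15, 8, 23] (by decide +kernel)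
def n4045 : El K := El.mul n4044 n458 [0, 2, 4, 6, 8, 11, 13, 1, 18, 19, 14, 17, 20, 9, 10, 12, 21, 5, 7, 22, 15, 16, 3, 23] (by decide +kernel)
def n4046 : El K := El.mul n4045 n453 [0, 2, 4, 6, 8, 10, 12, 14, 16, 18, 20, 22, 1, 3, 5, 7, 9, 11, 13, 15, 17, 19, 21, 23] (by decide +kernel)
def n4049 : El K := El.mul n3543 n3603 [0, 16, 6, 14, 9, 20, 4, 8, 2, 13, 3, 10, 17, 11, 7, 22, 5, 21, 1, 19, 15, 23, 12, 18] (by decide +kernel)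
def n4051 : El K := El.mul n3610 n4049 [0, 19, 9, 4, 11, 15, 13, 14, 3, 7, 6, 10, 21, 2, 8, 22, 16, 20, 1, 12, 18, 5, 23, 17] (by decide +kernel)
def n4053 : El K := El.inv n4051 [0, 18, 13, 8, 3, 21, 10, 9, 14, 2, 11, 4, 19, 6, 7, 5, 16, 23, 20, 1, 17, 12, 15, 22] (by decide +kernel)
def n4054 : El K := El.mul n4053 n3667 [0, 1, 11, 6, 3, 17, 7, 2, 14, 13, 9, 4, 22, 10, 8, 23, 15, 19, 12, 16, 21, 20, 18, 5] (by decide +kernel)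
def n4055 : El K := El.mul n3610 n4054 [0, 1, 2, 9, 6, 21, 8, 3, 4, 7, 11, 13, 22, 10, 14, 5, 18, 12, 23, 19, 20, 15, 17, 16] (by decide +kernel)
def n4104 : El K := El.mul n4055 n3632 [0, 1, 14, 11, 7, 23, 10, 3, 9, 13, 8, 2, 21, 4, 6, 18, 17, 15, 12, 20, 5, 22, 19, 16] (by decide +kernel)

/-- multiplication by two: an element of order eleven fixing `∞` and `0` -/
def elD : El K := n4046
/-- an element of order eleven in the stabilizer of the standard dodecad and its first point -/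
def elE : El K := n4104

end

end Cfsg.Agent.Lib.Helper1.M24
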