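import Mathlib
import Cfsg.Agent.Lib.Helper1.SylowSimple
import Cfsg.Agent.Lib.Helper1.StabCard

set_option autoImplicit false

namespace Cfsg.Agent.Lib.Helper1.TwoTransSimple

open Subgroup MulAction

variable {G α : Type*} [Group G] [MulAction G α]

/-- `H` acts faithfully and doubly transitively on the invariant set `X` -/
structure TwoTrans (H : Subgroup G) (X : Set α) : Prop where
  inv : ∀ h ∈ H, ∀ x ∈ X, h • x ∈ X
  faith : ∀ h ∈ H, (∀ x ∈ X, h • x = x) → h = 1
  trans : ∀ x ∈ X, ∀ y ∈ X, ∀ x' ∈ X, ∀ y' ∈ X, x ≠ y → x' ≠ y' →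
    ∃ h ∈ H, h • x = x' ∧ h • y = y'

variable {H : Subgroup G} {X : Set α}

/-- a nontrivial normal subgroup is transitive -/
theorem normal_transitive (ht : TwoTrans H X) (N : Subgroup H) [hN : N.Normal] (hne : N ≠ ⊥) :
    ∀ y ∈ X, ∀ z ∈ X, ∃ n ∈ N, ((n : H) : G) • y = z := by
  obtain ⟨n', hn'⟩ := (Subgroup.ne_bot_iff_exists_ne_one).mp hne
  obtain ⟨n, hn, hn1⟩ : ∃ n : H, n ∈ N ∧ n ≠ 1 :=
    ⟨n'.1, n'.2, fun h => hn' (Subtype.ext h)⟩
  have hnG : ((n : H) : G) ≠ 1 := fun h => hn1 (Subtype.ext h)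
  have hex : ∃ x ∈ X, ((n : H) : G) • x ≠ x := by
    by_contra hcon
    push Not at hcon
    exact hnG (ht.faith _ n.2 hcon)
  obtain ⟨x, hx, hnx⟩ := hex
  intro y hy z hz
  by_cases hyz : y = z
  · exact ⟨1, N.one_mem, by rw [hyz]; simp⟩
  · obtain ⟨h, hh, h1, h2⟩ := ht.trans x hx _ (ht.inv _ n.2 x hx) y hy z hz (Ne.symm hnx) hyz
    refine ⟨⟨h, hh⟩ * n * ⟨h, hh⟩⁻¹, hN.conj_mem n hn ⟨h, hh⟩, ?_⟩
    have : (((⟨h, hh⟩ * n * ⟨h, hh⟩⁻¹ : H) : H) : G) = h * (n : G) * h⁻¹ := rfl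
    rw [this, ← h1, mul_smul, mul_smul, inv_smul_smul, h2]

/-- the size of `X` divides the order of a nontrivial normal subgroup -/
theorem ncard_dvd_card_normal (ht : TwoTrans H X) (hX : X.Nonempty) (N : Subgroup H) [hN : N.Normal]
    (hne : N ≠ ⊥) : X.ncard ∣ Nat.card N := by
  obtain ⟨x, hx⟩ := hX
  have h1 := StabCard.card_eq_ncard_orbit_mul (G := N) x
  have h2 : orbit N x = X := by
    ext z
    rw [MulAction.mem_orbit_iff]
    constructor
    · rintro ⟨n, rfl⟩
      exact ht.inv _ n.1.2 x hx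
    · intro hz
      obtain ⟨n, hn, hnz⟩ := normal_transitive ht N hne x hx z hz
      exact ⟨⟨n, hn⟩, hnz⟩
  rw [h2] at h1
  exact ⟨_, h1⟩

/-- the stabilizer criterion: a doubly transitive group with a simple point stabilizer on a
set whose size is not a prime power is simple -/
theorem isSimpleGroup_of_stabilizer [Finite G] (ht : TwoTrans H X) {x : α} (hx : x ∈ X)
    (hs : IsSimpleGroup ↥(H ⊓ stabilizer G x)) (hpp : ¬ IsPrimePow X.ncard)
    (hnt : Nontrivial H) : IsSimpleGroup H := by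
  refine ⟨fun N hNn => ?_⟩
  by_cases hbot : N = ⊥
  · exact Or.inl hbot
  right
  have htr := normal_transitive ht N hbot
  -- the intersection with the point stabilizer, as a normal subgroup of it
  let S : Subgroup G := H ⊓ stabilizer G x
  let NS : Subgroup S := (N.map H.subtype).subgroupOf S
  have hNSn : NS.Normal := by
    refine ⟨fun y hy g => ?_⟩
    rw [Subgroup.mem_subgroupOf, Subgroup.mem_map] at hy ⊢
    obtain ⟨n, hn, hny⟩ := hy
    refine ⟨⟨g.1, g.2.1⟩ * n * ⟨g.1, g.2.1⟩⁻¹, hNn.conj_mem n hn _, ?_⟩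
    show (g.1 : G) * (n : G) * (g.1 : G)⁻¹ = _
    have h2 : ((n : H) : G) = ((y : S) : G) := hny
    rw [h2]
    rfl
  rcases hs.eq_bot_or_eq_top_of_normal NS hNSn with h | h
  · -- regular normal subgroup: impossible since `|X|` is not a prime power
    exfalso
    have hreg : ∀ n ∈ N, ((n : H) : G) • x = x → n = 1 := by
      intro n hn hnx
      have h1 : (⟨(n : G), ⟨n.2, hnx⟩⟩ : S) ∈ NS := by
        rw [Subgroup.mem_subgroupOf, Subgroup.mem_map]
        exact ⟨n, hn, rfl⟩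
      rw [h, Subgroup.mem_bot] at h1
      apply Subtype.ext
      have h2 := congrArg (fun z : S => (z : G)) h1
      exact h2
    have hconj : ∀ n₁ ∈ N, ∀ n₂ ∈ N, n₁ ≠ 1 → n₂ ≠ 1 → orderOf n₁ = orderOf n₂ := by
      intro n₁ hn₁ n₂ hn₂ h1 h2
      have hx1 : ((n₁ : H) : G) • x ≠ x := fun hh => h1 (hreg n₁ hn₁ hh)
      have hx2 : ((n₂ : H) : G) • x ≠ x := fun hh => h2 (hreg n₂ hn₂ hh)
      obtain ⟨g, hg, hg1, hg2⟩ := ht.trans x hx _ (ht.inv _ n₁.2 x hx) x hx _
        (ht.inv _ n₂.2 x hx) (Ne.symm hx1) (Ne.symm hx2)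
      have hm : n₂⁻¹ * (⟨g, hg⟩ * n₁ * ⟨g, hg⟩⁻¹) ∈ N :=
        N.mul_mem (N.inv_mem hn₂) (hNn.conj_mem n₁ hn₁ _)
      have hfix : (((n₂⁻¹ * (⟨g, hg⟩ * n₁ * ⟨g, hg⟩⁻¹) : H) : H) : G) • x = x := by
        have : (((n₂⁻¹ * (⟨g, hg⟩ * n₁ * ⟨g, hg⟩⁻¹) : H) : H) : G) =
            (n₂ : G)⁻¹ * (g * (n₁ : G) * g⁻¹) := rfl
        rw [this, mul_smul, mul_smul, mul_smul]
        have h3 : g⁻¹ • x = x := by rw [inv_smul_eq_iff, hg1]
        rw [h3, hg2, inv_smul_smul]
      have h4 := hreg _ hm hfix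
      have h5 : n₂ = ⟨g, hg⟩ * n₁ * ⟨g, hg⟩⁻¹ := by
        have := congrArg (fun z => n₂ * z) h4
        simpa using this.symm
      rw [h5]
      exact ((MulAut.conj (⟨g, hg⟩ : H)).orderOf_eq n₁).symm
    have hcard : Nat.card N = X.ncard := by
      have h1 := StabCard.card_eq_ncard_orbit_mul (G := N) x
      have h2 : orbit N x = X := by
        ext z
        rw [MulAction.mem_orbit_iff]
        constructor
        · rintro ⟨n, rfl⟩
          exact ht.inv _ n.1.2 x hx
        · intro hz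
          obtain ⟨n, hn, hnz⟩ := htr x hx z hz
          exact ⟨⟨n, hn⟩, hnz⟩
      have h3 : Nat.card (stabilizer N x) = 1 := by
        rw [Nat.card_eq_one_iff_unique]
        refine ⟨⟨fun a b => ?_⟩, ⟨1⟩⟩
        have ha : a.1 = 1 := Subtype.ext (hreg a.1.1 a.1.2 a.2)
        have hb : b.1 = 1 := Subtype.ext (hreg b.1.1 b.1.2 b.2)
        exact Subtype.ext (ha.trans hb.symm)
      rw [h2, h3, mul_one] at h1
      exact h1
    have hN2 : Nat.card N ≠ 1 := by
      intro h1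
      exact hbot (Subgroup.card_eq_one.mp h1)
    obtain ⟨q, hq, hqd⟩ := Nat.exists_prime_and_dvd hN2
    have : Fact q.Prime := ⟨hq⟩
    obtain ⟨n₀, hn₀⟩ := exists_prime_orderOf_dvd_card' q hqd
    have hn₀1 : n₀ ≠ 1 := by
      intro h1
      rw [h1, orderOf_one] at hn₀
      exact hq.one_lt.ne hn₀
    have hpg : IsPGroup q N := by
      intro n
      by_cases hn1 : n = 1
      · exact ⟨0, by rw [hn1]; simp⟩
      · refine ⟨1, ?_⟩
        have h6 : orderOf (n : H) = orderOf (n₀ : H) := by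
          apply hconj _ n.2 _ n₀.2
          · intro hh; exact hn1 (Subtype.ext hh)
          · intro hh; exact hn₀1 (Subtype.ext hh)
        rw [Subgroup.orderOf_coe, Subgroup.orderOf_coe, hn₀] at h6
        rw [pow_one, ← h6]
        exact pow_orderOf_eq_one n
    obtain ⟨k, hk⟩ := (IsPGroup.iff_card).mp hpg
    apply hpp
    rw [← hcard, hk]
    refine ⟨q, k, hq.prime, ?_, rfl⟩
    rcases Nat.eq_zero_or_pos k with h0 | h0
    · rw [h0, pow_zero] at hk
      exact absurd hk hN2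
    · exact h0
  · -- the normal subgroup contains the point stabilizer, hence everything
    rw [eq_top_iff]
    intro g _
    obtain ⟨n, hn, hng⟩ := htr x hx _ (ht.inv _ g.2 x hx)
    have h1 : (⟨(n : G)⁻¹ * (g : G), ⟨H.mul_mem (H.inv_mem n.2) g.2, by
        show ((n : G)⁻¹ * (g : G)) • x = x
        rw [mul_smul, ← hng, inv_smul_smul]⟩⟩ : S) ∈ NS := by
      rw [h]; exact Subgroup.mem_top _
    rw [Subgroup.mem_subgroupOf, Subgroup.mem_map] at h1
    obtain ⟨m, hm, hmg⟩ := h1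
    have h2 : g = n * m := by
      apply Subtype.ext
      show (g : G) = (n : G) * (m : G)
      have : ((m : H) : G) = (n : G)⁻¹ * (g : G) := hmg
      rw [this]
      group
    rw [h2]
    exact N.mul_mem hn hm

/-- bound for a centralizer from a point with trivial joint stabilizer -/
theorem card_centralizer_le [Finite α] (σ : G) (x : α)
    (h : ∀ c : G, c * σ = σ * c → c • x = x → c = 1) :
    Nat.card (centralizer ({σ} : Set G)) ≤ Nat.card α := by
  apply Nat.card_le_card_of_injective (fun c : centralizer ({σ} : Set G) => (c : G) • x)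
  intro c c' hcc
  have hc : (c : G) * σ = σ * c := by
    have := c.2 σ (Set.mem_singleton σ)
    exact this.symm
  have hc' : (c' : G) * σ = σ * c' := by
    have := c'.2 σ (Set.mem_singleton σ)
    exact this.symm
  have h1 : ((c : G)⁻¹ * c') * σ = σ * ((c : G)⁻¹ * c') := by
    have h2 : (c : G)⁻¹ * σ = σ * (c : G)⁻¹ := by
      have := congrArg (fun z => (c : G)⁻¹ * z * (c : G)⁻¹) hc
      simp only [mul_assoc, inv_mul_cancel_left, mul_inv_cancel, mul_one] at this
      exact this.symm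
    rw [mul_assoc, hc', ← mul_assoc, h2, mul_assoc]
  have h3 : ((c : G)⁻¹ * c') • x = x := by
    have hcc' : (c : G) • x = (c' : G) • x := hcc
    rw [mul_smul, ← hcc', inv_smul_smul]
  have h4 := h _ h1 h3
  apply Subtype.ext
  have : (c' : G) = c * ((c : G)⁻¹ * c') := by group
  rw [this, h4, mul_one]

end Cfsg.Agent.Lib.Helper1.TwoTransSimple
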