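import Mathlib
import Cfsg.Agent.Lib.Helper1.TwoTransSimple
import Cfsg.Agent.Lib.Helper1.M24A

set_option autoImplicit false

namespace Cfsg.Agent.Lib.Helper1.M24

open Cfsg Cfsg.Agent.Lib.Helper1
open Subgroup

/-! ### abstract: normalizer of a subgroup of prime order -/

section abstract

variable {G' α : Type*} [Group G'] [Finite G'] [MulAction G' α] [Finite α]

omit [Finite G'] in
theorem centralizer_zpowers (σ : G') :
    centralizer ((zpowers σ : Subgroup G') : Set G') = centralizer ({σ} : Set G') := by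
  rw [zpowers_eq_closure, Subgroup.centralizer_closure]

/-- data about the normalizer of a Sylow subgroup of prime order generated by `σ` -/
theorem normalizer_data {p : ℕ} [hp : Fact p.Prime] (σ : G') (hσ : orderOf σ = p)
    (hp2 : ¬ p ^ 2 ∣ Nat.card G') (x : α)
    (hfix : ∀ c : G', c * σ = σ * c → c • x = x → c = 1) :
    ∃ P : Sylow p G', Nat.card (P : Subgroup G') = p ∧ ∃ c k : ℕ,
      p * c ≤ Nat.card α ∧ k ∣ p - 1 ∧
      Nat.card (normalizer ((P : Subgroup G') : Set G')) = p * c * k ∧
      p * c * k ∣ Nat.card G' ∧ (Nat.card G' / (p * c * k)) % p = 1 := by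
  have hQ : IsPGroup p (zpowers σ) := by
    apply IsPGroup.of_card (n := 1)
    rw [Nat.card_zpowers, pow_one, hσ]
  obtain ⟨P, hQP⟩ := hQ.exists_le_sylow
  have hPcard : Nat.card (P : Subgroup G') = p := by
    obtain ⟨n, hn⟩ := (IsPGroup.iff_card).mp P.isPGroup'
    have h1 : p ∣ Nat.card (P : Subgroup G') := by
      have := Subgroup.card_dvd_of_le hQP
      rwa [Nat.card_zpowers, hσ] at this
    have h2 : Nat.card (P : Subgroup G') ∣ Nat.card G' := Subgroup.card_subgroup_dvd_card _
    rw [hn] at h1 h2 ⊢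
    have hn1 : n ≠ 0 := by
      intro h0
      rw [h0, pow_zero] at h1
      exact hp.out.one_lt.ne' (Nat.eq_one_of_dvd_one h1 ▸ rfl)
    have hn2 : n < 2 := by
      by_contra hge
      push Not at hge
      exact hp2 (dvd_trans (pow_dvd_pow p hge) h2)
    have : n = 1 := by omega
    rw [this, pow_one]
  have hPeq : zpowers σ = (P : Subgroup G') := by
    apply Subgroup.eq_of_le_of_card_ge hQP
    rw [hPcard, Nat.card_zpowers, hσ]
  refine ⟨P, hPcard, ?_⟩
  obtain ⟨k, hk, hNC, hNdvd, hmod⟩ := SylowSimple.normalizer_numerics P hPcard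
  have hPC : (P : Subgroup G') ≤ centralizer ((P : Subgroup G') : Set G') := by
    have hcyc := isCyclic_of_prime_card hPcard
    have : IsMulCommutative (P : Subgroup G') :=
      ⟨⟨fun a b => (IsCyclic.commGroup (α := (P : Subgroup G'))).mul_comm a b⟩⟩
    exact Subgroup.le_centralizer _
  obtain ⟨c, hc⟩ : p ∣ Nat.card (centralizer ((P : Subgroup G') : Set G')) := by
    have := Subgroup.card_dvd_of_le hPC
    rwa [hPcard] at this
  refine ⟨c, k, ?_, hk, ?_, ?_, ?_⟩
  · rw [← hc, ← hPeq, centralizer_zpowers]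
    exact TwoTransSimple.card_centralizer_le σ x hfix
  · rw [hNC, hc]
  · rw [← hc, ← hNC]; exact hNdvd
  · rw [← hc, ← hNC]; exact hmod

end abstract

/-! ### tables of powers -/

theorem El.pow_tab {H : Subgroup P24} (e : El H) (k : ℕ) :
    ∀ i < 24, (tg e.t)^[k] i < 24 ∧ (e.σ ^ k) (gUnidx i) = gUnidx ((tg e.t)^[k] i) := by
  induction k with
  | zero => intro i hi; exact ⟨hi, rfl⟩
  | succ k ih =>
    intro i hi
    rw [Function.iterate_succ_apply', pow_succ', Equiv.Perm.mul_apply, (ih i hi).2]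
    exact ⟨e.lt _ (ih i hi).1, e.tab _ (ih i hi).1⟩

theorem El.orderOf_eq {H : Subgroup P24} (e : El H) {p : ℕ} [hp : Fact p.Prime]
    (h1 : ∀ i < 24, (tg e.t)^[p] i = i) (h2 : ∃ i < 24, tg e.t i ≠ i) : orderOf e.σ = p := by
  apply orderOf_eq_prime
  · apply eq_one_of_fixes
    intro i hi
    rw [(e.pow_tab p i hi).2, h1 i hi]
  · intro h
    obtain ⟨i, hi, hne⟩ := h2
    apply hne
    have := e.tab i hi
    rw [h] at this
    exact (gUnidx_inj hi (e.lt i hi) this).symm

/-- an element commuting with `σ` and fixing `x` fixes the whole orbit of `x` -/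
theorem fixes_orbit_of_commute {H : Subgroup P24} (e : El H) (c : P24) (hc : c * e.σ = e.σ * c)
    {i : ℕ} (hi : i < 24) (hfix : c (gUnidx i) = gUnidx i) (k : ℕ) :
    c (gUnidx ((tg e.t)^[k] i)) = gUnidx ((tg e.t)^[k] i) := by
  have hck : c * e.σ ^ k = e.σ ^ k * c := by
    induction k with
    | zero => simp
    | succ k ih => rw [pow_succ, ← mul_assoc, ih, mul_assoc, hc, mul_assoc]
  rw [← (e.pow_tab k i hi).2]
  have := congrArg (fun f : P24 => f (gUnidx i)) hck
  simp only [Equiv.Perm.mul_apply] at this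
  rw [this, hfix]

/-- the singleton of a fixed point is an invariant mask -/
theorem invMask_single {g : P24} {f : ℕ} (hf : f < 24) (h : g (gUnidx f) = gUnidx f) :
    InvMask g (2 ^ f) := by
  intro p
  rw [Nat.testBit_two_pow, Nat.testBit_two_pow]
  congr 1
  apply propext
  constructor
  · intro h1
    have h2 : g p = gUnidx f := by rw [h1, gUnidx_gIdx]
    rw [← h] at h2
    rw [g.injective h2, gIdx_gUnidx f hf]
  · intro h1
    have h2 : p = gUnidx f := by rw [h1, gUnidx_gIdx]
    rw [h2, h, gIdx_gUnidx f hf]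

theorem invMask_singles {g : P24} (fx : List ℕ)
    (hfix : ∀ j ∈ fx, j < 24 ∧ g (gUnidx j) = gUnidx j) :
    ∀ m ∈ fx.map (fun f => 2 ^ f), InvMask g m := by
  intro m hm
  rw [List.mem_map] at hm
  obtain ⟨f, hf, rfl⟩ := hm
  exact invMask_single (hfix f hf).1 (hfix f hf).2

/-- one round of the fixed-point closure, using the octads through five fixed points and the
fixed points themselves -/
theorem fixed_round' {g : P24} (hg : g ∈ M24) (fx : List ℕ) (hnd : fx.Nodup)
    (hfix : ∀ j ∈ fx, j < 24 ∧ g (gUnidx j) = gUnidx j) (cs : List ℕ)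
    (hok : octOK fx cs = true) :
    ∀ j ∈ fx ++ (List.range 24).filter
        (fun i => sepOK (fx.map (fun f => 2 ^ f) ++ cs.map cw) i),
      j < 24 ∧ g (gUnidx j) = gUnidx j := by
  apply fixed_round _ _ _ hfix
  intro m hm
  rw [List.mem_append] at hm
  rcases hm with hm | hm
  · exact invMask_singles fx hfix m hm
  · exact invMask_of_octOK hg fx hnd hfix cs hok m hm

end Cfsg.Agent.Lib.Helper1.M24
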