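import Mathlib
import Cfsg.Agent.Lib.Helper1.M24Q
import Cfsg.Agent.Lib.Helper1.M24N
import Cfsg.Agent.Lib.Helper1.M24P

set_option autoImplicit false

namespace Cfsg.Agent.Lib.Helper1.M24

open Cfsg Cfsg.Agent.Lib.Helper1
open Subgroup TwoTransSimple
open scoped Pointwise

/-- restricting a reachability statement to the subgroup fixing some of the fixed points -/
theorem reach_fix_append {H : Subgroup P24} {fx₀ fx : List ℕ} {b q : ℕ}
    (h : Reach H (fx₀ ++ fx) b q) : Reach (H ⊓ FixL fx₀) fx b q := by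
  obtain ⟨σ, hσ, h1, h2⟩ := h
  exact ⟨σ, ⟨hσ, fun j hj => h1 j (List.mem_append_left _ hj)⟩,
    fun j hj => h1 j (List.mem_append_right _ hj), h2⟩

/-- double transitivity from two orbit statements -/
theorem twoTrans_of_reach (H : Subgroup P24) (X : Set GolayPt) (b₀ b₁ : ℕ)
    (hinv : ∀ g ∈ H, ∀ p ∈ X, g p ∈ X)
    (hfaith : ∀ g ∈ H, (∀ p ∈ X, g p = p) → g = 1)
    (h0 : ∀ q < 24, gUnidx q ∈ X → Reach H [] b₀ q)
    (h1 : ∀ q < 24, gUnidx q ∈ X → q ≠ b₀ → Reach H [b₀] b₁ q) : TwoTrans H X := by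
  refine ⟨hinv, hfaith, ?_⟩
  have key : ∀ x ∈ X, ∀ y ∈ X, x ≠ y → ∃ g ∈ H, g x = gUnidx b₀ ∧ g y = gUnidx b₁ := by
    intro x hx y hy hxy
    obtain ⟨g, hg, h⟩ := multi_trans H [b₀, b₁] X hinv (by
      intro k hk q hq hqX hqn
      have hk' : k < 2 := hk
      interval_cases k
      · exact h0 q hq hqX
      · exact h1 q hq hqX (by simpa using hqn)) ![x, y] (by
        intro i j hij
        fin_cases i <;> fin_cases j <;> simp_all) (by
        intro i; fin_cases i <;> simp_all)
    exact ⟨g, hg, h 0, h 1⟩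
  intro x hx y hy x' hx' y' hy' hxy hxy'
  obtain ⟨g1, hg1, h1a, h1b⟩ := key x hx y hy hxy
  obtain ⟨g2, hg2, h2a, h2b⟩ := key x' hx' y' hy' hxy'
  refine ⟨g2⁻¹ * g1, H.mul_mem (H.inv_mem hg2) hg1, ?_, ?_⟩
  · show (g2⁻¹ * g1) x = x'
    rw [Equiv.Perm.mul_apply, Equiv.Perm.inv_eq_iff_eq, h1a, h2a]
  · show (g2⁻¹ * g1) y = y'
    rw [Equiv.Perm.mul_apply, Equiv.Perm.inv_eq_iff_eq, h1b, h2b]

/-! ### the point stabilizer -/

/-- the stabilizer of the point `∞` -/
def H23 : Subgroup P24 := M24 ⊓ FixL [23]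

theorem card_H23 : Nat.card ↥H23 = 10200960 := by
  have e0 := level_card (K' := K) (H := M24) K_le [] 23 (fun _ => true)
    (fun q hq _ => lvl0 q hq) (fun _ _ _ => rfl)
  have c0 : (Finset.univ.filter (fun p : GolayPt => (fun _ : ℕ => true) (gIdx p) = true)).card = 24 := by
    decide +kernel
  rw [FixL_nil, card_M24, c0] at e0
  simp only [List.nil_append] at e0
  unfold H23
  omega

/-- the points other than `∞` -/
def X23 : Set GolayPt := {p | p ≠ gUnidx 23}

theorem twoTrans_H23 : TwoTrans H23 X23 := by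
  apply twoTrans_of_reach H23 X23 0 1
  · intro g hg p hp h
    apply hp
    have h2 := hg.2 23 (List.mem_singleton_self 23)
    rw [← h2] at h
    exact g.injective h
  · intro g hg h
    apply eq_one_of_fixes
    intro i hi
    by_cases h23 : i = 23
    · rw [h23]; exact hg.2 23 (List.mem_singleton_self 23)
    · apply h
      intro h2
      exact h23 (gUnidx_inj hi (by norm_num) h2)
  · intro q hq hqX
    apply reach_fix_append (fx₀ := [23]) (fx := [])
    apply (lvl1 q hq ?_).mono K_le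
    intro h
    rw [List.mem_singleton] at h
    exact hqX (by rw [h])
  · intro q hq hqX hq0
    apply reach_fix_append (fx₀ := [23]) (fx := [0])
    apply (lvl2 q hq ?_).mono K_le
    intro h
    simp only [List.mem_cons, List.not_mem_nil, or_false] at h
    rcases h with h | h
    · exact hqX (by rw [h])
    · exact hq0 h

theorem ncard_X23 : X23.ncard = 23 := by
  have : X23 = ((Finset.univ.filter (fun p : GolayPt => p ≠ gUnidx 23) : Finset GolayPt) :
      Set GolayPt) := by
    ext p; simp [X23]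
  rw [this, Set.ncard_coe_finset]
  decide +kernel

theorem gA_mem_H23 : n0.σ ∈ H23 := by
  refine ⟨K_le n0.mem, ?_⟩
  intro j hj
  rw [List.mem_singleton] at hj
  subst hj
  rw [n0.tab 23 (by norm_num)]
  rfl

theorem orderOf_n0 : orderOf n0.σ = 23 := by
  have : Fact (Nat.Prime 23) := ⟨by norm_num⟩
  apply n0.orderOf_eq
  · decide +kernel
  · exact ⟨0, by norm_num, by decide +kernel⟩

theorem n0_orbit : ∀ i < 24, i = 23 ∨ ∃ k < 23, (tg n0.t)^[k] 0 = i := by decide +kernel

theorem isSimpleGroup_H23 : IsSimpleGroup ↥H23 := by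
  have hp : Fact (Nat.Prime 23) := ⟨by norm_num⟩
  have hfin : Finite ↥H23 := inferInstance
  obtain ⟨P, hP, c, k, hc, hk, hN, hdvd, hmod⟩ := normalizer_data (G' := ↥H23) (α := GolayPt)
    (p := 23) ⟨n0.σ, gA_mem_H23⟩ (by
      rw [← orderOf_n0]
      exact (Subgroup.orderOf_mk n0.σ gA_mem_H23)) (by rw [card_H23]; norm_num) (gUnidx 0) (by
      intro c hc hfix
      apply Subtype.ext
      apply eq_one_of_fixes
      intro i hi
      rcases n0_orbit i hi with h | ⟨k, _, hk⟩
      · rw [h]; exact c.2.2 23 (List.mem_singleton_self 23)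
      · rw [← hk]
        apply fixes_orbit_of_commute n0 c.1 _ (by norm_num) hfix k
        exact congrArg Subtype.val hc)
  rw [card_H23] at hdvd hmod
  have h24 : Nat.card GolayPt = 24 := by rw [Nat.card_eq_fintype_card]; decide
  rw [h24] at hc
  have hc1 : c = 1 := by
    rcases Nat.eq_zero_or_pos c with h0 | h0
    · rw [h0] at hdvd; simp at hdvd
    · omega
  subst hc1
  have hk22 : k ≤ 22 := Nat.le_of_dvd (by norm_num) hk
  have hk11 : k = 11 := by
    interval_cases k <;> simp_all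
  subst hk11
  have hnt : Nontrivial ↥H23 := by
    rw [← Finite.one_lt_card_iff_nontrivial, card_H23]; norm_num
  refine SylowSimple.isSimpleGroup_of_sylow P hP (r := 11) (by norm_num) (by rw [hN]) (by
    rw [card_H23]; norm_num) ?_
  intro N hNn hne
  have := ncard_dvd_card_normal twoTrans_H23 ⟨gUnidx 0, by
    show gUnidx 0 ≠ gUnidx 23; decide⟩ N hne
  rwa [ncard_X23] at this

end Cfsg.Agent.Lib.Helper1.M24
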