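import Mathlib
import Cfsg.Agent.Lib.Helper1.M24R

set_option autoImplicit false

namespace Cfsg.Agent.Lib.Helper1.M24

open Cfsg Cfsg.Agent.Lib.Helper1
open Subgroup TwoTransSimple
open scoped Pointwise

theorem not_isPrimePow_of_two_three {n : ℕ} (h2 : 2 ∣ n) (h3 : 3 ∣ n) : ¬ IsPrimePow n := by
  intro h
  rw [isPrimePow_iff_unique_prime_dvd] at h
  obtain ⟨p, _, hu⟩ := h
  have e2 := hu 2 ⟨Nat.prime_two, h2⟩
  have e3 := hu 3 ⟨Nat.prime_three, h3⟩
  omega

/-! ### the full group -/

theorem twoTrans_M24 : TwoTrans M24 (Set.univ : Set GolayPt) := by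
  refine ⟨fun _ _ _ _ => Set.mem_univ _, ?_, ?_⟩
  · intro g _ h
    apply Equiv.Perm.ext
    intro p
    exact h p (Set.mem_univ p)
  · intro x _ y _ x' _ y' _ hxy hxy'
    have h2 := two_transitive
    rw [MulAction.is_two_pretransitive_iff] at h2
    obtain ⟨g, h1, h2⟩ := h2 hxy hxy'
    exact ⟨g.1, g.2, h1, h2⟩

theorem stab_eq_H23 : M24 ⊓ MulAction.stabilizer P24 (gUnidx 23) = H23 := by
  ext g
  simp only [Subgroup.mem_inf, MulAction.mem_stabilizer_iff, H23, mem_FixL, List.mem_singleton,
    forall_eq, Equiv.Perm.smul_def]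

theorem isSimpleGroup_M24 : IsSimpleGroup ↥M24 := by
  have hs : IsSimpleGroup ↥(M24 ⊓ MulAction.stabilizer P24 (gUnidx 23)) := by
    rw [stab_eq_H23]; exact isSimpleGroup_H23
  have hnt : Nontrivial ↥M24 := by
    rw [← Finite.one_lt_card_iff_nontrivial, card_M24]; norm_num
  refine isSimpleGroup_of_stabilizer twoTrans_M24 (Set.mem_univ (gUnidx 23)) hs ?_ hnt
  rw [Set.ncard_univ, Nat.card_eq_fintype_card]
  have : Fintype.card GolayPt = 24 := by decide
  rw [this]
  exact not_isPrimePow_of_two_three (by norm_num) (by norm_num)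

/-! ### the two-point stabilizer -/

/-- the stabilizer of the points `∞` and `0` -/
def H22 : Subgroup P24 := M24 ⊓ FixL [23, 0]

theorem card_H22 : Nat.card ↥H22 = 443520 := by
  have e1 := level_card (K' := K) (H := M24) K_le [23] 0 (fun q => decide (q ∉ [23]))
    (fun q hq h => lvl1 q hq (of_decide_eq_true h))
    (fun g _ hfix => decide_eq_true (up_generic _ (by decide) hfix (by norm_num) (by decide)))
  have c1 : (Finset.univ.filter (fun p : GolayPt => (fun q => decide (q ∉ [23])) (gIdx p) = true)).card = 23 := by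
    decide +kernel
  have h23 := card_H23
  unfold H23 at h23
  rw [c1, h23] at e1
  simp only [List.cons_append, List.nil_append] at e1
  unfold H22
  omega

/-- the points other than `∞` and `0` -/
def X22 : Set GolayPt := {p | p ≠ gUnidx 23 ∧ p ≠ gUnidx 0}

theorem ncard_X22 : X22.ncard = 22 := by
  have : X22 = ((Finset.univ.filter (fun p : GolayPt => p ≠ gUnidx 23 ∧ p ≠ gUnidx 0) :
      Finset GolayPt) : Set GolayPt) := by
    ext p; simp [X22]
  rw [this, Set.ncard_coe_finset]
  decide +kernel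

theorem twoTrans_H22 : TwoTrans H22 X22 := by
  apply twoTrans_of_reach H22 X22 1 2
  · intro g hg p hp
    have h23 := hg.2 23 (by simp)
    have h0 := hg.2 0 (by simp)
    constructor
    · intro h; rw [← h23] at h; exact hp.1 (g.injective h)
    · intro h; rw [← h0] at h; exact hp.2 (g.injective h)
  · intro g hg h
    apply eq_one_of_fixes
    intro i hi
    by_cases h23 : i = 23
    · rw [h23]; exact hg.2 23 (by simp)
    · by_cases h0 : i = 0
      · rw [h0]; exact hg.2 0 (by simp)
      · apply h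
        exact ⟨fun h2 => h23 (gUnidx_inj hi (by norm_num) h2),
          fun h2 => h0 (gUnidx_inj hi (by norm_num) h2)⟩
  · intro q hq hqX
    apply reach_fix_append (fx₀ := [23, 0]) (fx := [])
    apply (lvl2 q hq ?_).mono K_le
    intro h
    simp only [List.mem_cons, List.not_mem_nil, or_false] at h
    rcases h with h | h
    · exact hqX.1 (by rw [h])
    · exact hqX.2 (by rw [h])
  · intro q hq hqX hq1
    apply reach_fix_append (fx₀ := [23, 0]) (fx := [1])
    apply (lvl3 q hq ?_).mono K_le
    intro h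
    simp only [List.mem_cons, List.not_mem_nil, or_false] at h
    rcases h with h | h | h
    · exact hqX.1 (by rw [h])
    · exact hqX.2 (by rw [h])
    · exact hq1 h

theorem elD_mem_H22 : elD.σ ∈ H22 := by
  refine ⟨K_le elD.mem, ?_⟩
  intro j hj
  have hj' : j < 24 ∧ tg elD.t j = j := by
    revert j; decide +kernel
  rw [elD.tab j hj'.1, hj'.2]

theorem orderOf_elD : orderOf elD.σ = 11 := by
  have : Fact (Nat.Prime 11) := ⟨by norm_num⟩
  apply elD.orderOf_eq
  · decide +kernel
  · exact ⟨1, by norm_num, by decide +kernel⟩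

/-- the orbit of `1` under multiplication by two, together with the two fixed points -/
def fxD : List ℕ := [23, 0, 1, 2, 3, 4, 6, 8, 9, 12, 13, 16, 18]

theorem elD_orbit : ∀ i ∈ fxD, i = 23 ∨ i = 0 ∨ ∃ k < 11, (tg elD.t)^[k] 1 = i := by
  decide +kernel

theorem trivial_of_fixes_fxD {g : P24} (hg : g ∈ M24)
    (hfix : ∀ j ∈ fxD, g (gUnidx j) = gUnidx j) : g = 1 := by
  have h0 : ∀ j ∈ fxD, j < 24 ∧ g (gUnidx j) = gUnidx j := by
    intro j hj
    refine ⟨?_, hfix j hj⟩
    revert j
    decide
  have h1 := fixed_round' hg fxD (by decide) h0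
    [3090, 1114, 2162, 2282, 3680, 2710, 2516, 2648, 2142, 3264] (by decide +kernel)
  apply eq_one_of_fixes
  intro i hi
  apply (h1 i _).2
  revert i
  decide +kernel

theorem isSimpleGroup_H22 : IsSimpleGroup ↥H22 := by
  have hp : Fact (Nat.Prime 11) := ⟨by norm_num⟩
  obtain ⟨P, hP, c, k, hc, hk, hN, hdvd, hmod⟩ := normalizer_data (G' := ↥H22) (α := GolayPt)
    (p := 11) ⟨elD.σ, elD_mem_H22⟩ (by
      rw [← orderOf_elD]
      exact (Subgroup.orderOf_mk elD.σ elD_mem_H22)) (by rw [card_H22]; norm_num) (gUnidx 1) (by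
      intro c hc hfix
      apply Subtype.ext
      apply trivial_of_fixes_fxD c.2.1
      intro i hi
      rcases elD_orbit i hi with h | h | ⟨k, _, hk⟩
      · rw [h]; exact c.2.2 23 (by simp)
      · rw [h]; exact c.2.2 0 (by simp)
      · rw [← hk]
        apply fixes_orbit_of_commute elD c.1 _ (by norm_num) hfix k
        exact congrArg Subtype.val hc)
  rw [card_H22] at hdvd hmod
  have h24 : Nat.card GolayPt = 24 := by rw [Nat.card_eq_fintype_card]; decide
  rw [h24] at hc
  have hc1 : 0 < c := by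
    rcases Nat.eq_zero_or_pos c with h0 | h0
    · rw [h0] at hdvd; simp at hdvd
    · exact h0
  have hc2 : c ≤ 2 := by omega
  have hk10 : k ≤ 10 := Nat.le_of_dvd (by norm_num) hk
  have hk0 : 0 < k := Nat.pos_of_dvd_of_pos hk (by norm_num)
  have hck : c = 1 ∧ k = 5 := by
    interval_cases c <;> interval_cases k <;> simp_all
  obtain ⟨rfl, rfl⟩ := hck
  have hnt : Nontrivial ↥H22 := by
    rw [← Finite.one_lt_card_iff_nontrivial, card_H22]; norm_num
  refine SylowSimple.isSimpleGroup_of_sylow P hP (r := 5) (by norm_num) (by rw [hN]) (by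
    rw [card_H22]; norm_num) ?_
  intro N hNn hne
  have := ncard_dvd_card_normal twoTrans_H22 ⟨gUnidx 1, by
    show gUnidx 1 ≠ gUnidx 23 ∧ gUnidx 1 ≠ gUnidx 0; decide⟩ N hne
  rw [ncard_X22] at this
  exact dvd_trans (by norm_num) this

end Cfsg.Agent.Lib.Helper1.M24
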