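import Mathlib
import Cfsg.Agent.Lib.Helper1.M24S

set_option autoImplicit false

namespace Cfsg.Agent.Lib.Helper1.M24

open Cfsg Cfsg.Agent.Lib.Helper1
open Subgroup TwoTransSimple
open scoped Pointwise

/-! ### the stabilizer of the standard dodecad and a point on it -/

theorem card_H11 : Nat.card ↥H11 = 7920 := by
  have e0 := level_card (K' := H12) (H := H12) le_rfl [] 0 (fun q => decide (q ∈ d₀pts))
    (fun q hq h => lvlD0 q hq (of_decide_eq_true h))
    (fun g hg _ => decide_eq_true (upD hg (by decide)))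
  have c0 : (Finset.univ.filter (fun p : GolayPt =>
      (fun q => decide (q ∈ d₀pts)) (gIdx p) = true)).card = 12 := by decide +kernel
  rw [FixL_nil, card_H12, c0] at e0
  simp only [List.nil_append] at e0
  unfold H11
  omega

/-- the points of the standard dodecad other than the first -/
def X11 : Set GolayPt := {p | p ∈ d₀fin ∧ p ≠ gUnidx 0}

theorem ncard_X11 : X11.ncard = 11 := by
  have : X11 = ((Finset.univ.filter (fun p : GolayPt => gIdx p ∈ d₀pts ∧ p ≠ gUnidx 0) :
      Finset GolayPt) : Set GolayPt) := by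
    ext p; simp [X11, mem_d₀fin_iff]
  rw [this, Set.ncard_coe_finset]
  decide +kernel

theorem fixes_d₀_trivial {g : P24} (hg : g ∈ H12) (h : ∀ p ∈ d₀fin, g p = p) : g = 1 := by
  apply H12_stab_trivial hg
  intro j hj
  apply h
  rw [mem_d₀fin_iff, gIdx_gUnidx j (by revert j; decide)]
  revert j
  decide

theorem twoTrans_H11 : TwoTrans H11 X11 := by
  apply twoTrans_of_reach H11 X11 2 3
  · intro g hg p hp
    refine ⟨H12_maps_d₀ g hg.1 p (Finset.mem_coe.mpr hp.1), ?_⟩
    intro h
    have h0 := hg.2 0 (by simp)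
    rw [← h0] at h
    exact hp.2 (g.injective h)
  · intro g hg h
    apply fixes_d₀_trivial hg.1
    intro p hp
    by_cases h0 : p = gUnidx 0
    · rw [h0]; exact hg.2 0 (by simp)
    · exact h p ⟨hp, h0⟩
  · intro q hq hqX
    apply reach_fix_append (fx₀ := [0]) (fx := [])
    have hq1 : q ∈ d₀pts := by
      have := hqX.1
      rwa [mem_d₀fin_iff, gIdx_gUnidx q hq] at this
    apply lvlD1 q hq hq1
    intro h
    rw [List.mem_singleton] at h
    exact hqX.2 (by rw [h])
  · intro q hq hqX hq2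
    apply reach_fix_append (fx₀ := [0]) (fx := [2])
    have hq1 : q ∈ d₀pts := by
      have := hqX.1
      rwa [mem_d₀fin_iff, gIdx_gUnidx q hq] at this
    apply lvlD2 q hq hq1
    intro h
    simp only [List.mem_cons, List.not_mem_nil, or_false] at h
    rcases h with h | h
    · exact hqX.2 (by rw [h])
    · exact hq2 h

theorem elE_mem_H11 : elE.σ ∈ H11 := by
  refine ⟨mem_H12_of_pm (by decide +kernel), ?_⟩
  intro j hj
  have hj' : j < 24 ∧ tg elE.t j = j := by
    revert j; decide +kernel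
  rw [elE.tab j hj'.1, hj'.2]

theorem orderOf_elE : orderOf elE.σ = 11 := by
  have : Fact (Nat.Prime 11) := ⟨by norm_num⟩
  apply elE.orderOf_eq
  · decide +kernel
  · exact ⟨2, by norm_num, by decide +kernel⟩

theorem elE_orbit : ∀ i ∈ [0, 2, 3, 4, 6], i = 0 ∨ ∃ k < 11, (tg elE.t)^[k] 2 = i := by
  decide +kernel

theorem isSimpleGroup_H11 : IsSimpleGroup ↥H11 := by
  have hp : Fact (Nat.Prime 11) := ⟨by norm_num⟩
  obtain ⟨P, hP, c, k, hc, hk, hN, hdvd, hmod⟩ := normalizer_data (G' := ↥H11) (α := GolayPt)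
    (p := 11) ⟨elE.σ, elE_mem_H11⟩ (by
      rw [← orderOf_elE]
      exact (Subgroup.orderOf_mk elE.σ elE_mem_H11)) (by rw [card_H11]; norm_num) (gUnidx 2) (by
      intro c hc hfix
      apply Subtype.ext
      apply H12_stab_trivial c.2.1
      intro i hi
      rcases elE_orbit i hi with h | ⟨k, _, hk⟩
      · rw [h]; exact c.2.2 0 (by simp)
      · rw [← hk]
        apply fixes_orbit_of_commute elE c.1 _ (by norm_num) hfix k
        exact congrArg Subtype.val hc)
  rw [card_H11] at hdvd hmod
  have h24 : Nat.card GolayPt = 24 := by rw [Nat.card_eq_fintype_card]; decide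
  rw [h24] at hc
  have hc1 : 0 < c := by
    rcases Nat.eq_zero_or_pos c with h0 | h0
    · rw [h0] at hdvd; simp at hdvd
    · exact h0
  have hc2 : c ≤ 2 := by omega
  have hk10 : k ≤ 10 := Nat.le_of_dvd (by norm_num) hk
  have hk0 : 0 < k := Nat.pos_of_dvd_of_pos hk (by norm_num)
  have hck : c = 1 ∧ k = 5 := by
    interval_cases c <;> interval_cases k <;> simp_all
  obtain ⟨rfl, rfl⟩ := hck
  have hnt : Nontrivial ↥H11 := by
    rw [← Finite.one_lt_card_iff_nontrivial, card_H11]; norm_num
  refine SylowSimple.isSimpleGroup_of_sylow P hP (r := 5) (by norm_num) (by rw [hN]) (by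
    rw [card_H11]; norm_num) ?_
  intro N hNn hne
  have := ncard_dvd_card_normal twoTrans_H11 ⟨gUnidx 2, by
    refine ⟨?_, by decide⟩
    rw [mem_d₀fin_iff]; decide⟩ N hne
  rwa [ncard_X11] at this

/-! ### the stabilizer of the standard dodecad -/

theorem twoTrans_H12 : TwoTrans H12 (d₀fin : Set GolayPt) := by
  apply twoTrans_of_reach H12 (d₀fin : Set GolayPt) 0 2
  · exact H12_maps_d₀
  · intro g hg h
    exact fixes_d₀_trivial hg (fun p hp => h p (Finset.mem_coe.mpr hp))
  · intro q hq hqX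
    rw [Finset.mem_coe, mem_d₀fin_iff, gIdx_gUnidx q hq] at hqX
    exact lvlD0 q hq hqX
  · intro q hq hqX hq0
    rw [Finset.mem_coe, mem_d₀fin_iff, gIdx_gUnidx q hq] at hqX
    apply lvlD1 q hq hqX
    intro h
    rw [List.mem_singleton] at h
    exact hq0 h

theorem stab_eq_H11 : H12 ⊓ MulAction.stabilizer P24 (gUnidx 0) = H11 := by
  ext g
  simp only [Subgroup.mem_inf, MulAction.mem_stabilizer_iff, H11, mem_FixL, List.mem_singleton,
    forall_eq, Equiv.Perm.smul_def]

theorem isSimpleGroup_H12 : IsSimpleGroup ↥H12 := by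
  have hs : IsSimpleGroup ↥(H12 ⊓ MulAction.stabilizer P24 (gUnidx 0)) := by
    rw [stab_eq_H11]; exact isSimpleGroup_H11
  have hnt : Nontrivial ↥H12 := by
    rw [← Finite.one_lt_card_iff_nontrivial, card_H12]; norm_num
  refine isSimpleGroup_of_stabilizer twoTrans_H12 (x := gUnidx 0) ?_ hs ?_ hnt
  · rw [Finset.mem_coe, mem_d₀fin_iff]; decide
  · rw [Set.ncard_coe_finset, d₀fin_mem.2]
    exact not_isPrimePow_of_two_three (by norm_num) (by norm_num)

end Cfsg.Agent.Lib.Helper1.M24
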