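import Mathlib
import Cfsg.Agent.Lib.Helper1.M24U

set_option autoImplicit false

namespace Cfsg.Agent.Lib.Helper1.M24

open Cfsg Cfsg.Agent.Lib.Helper1
open Subgroup TwoTransSimple
open scoped Pointwise

/-- transport of simplicity along conjugation, between a subgroup of a subgroup and a subgroup
of the ambient group -/
theorem simple_transfer {G : Type*} [Group G] (M : Subgroup G) (L : Subgroup ↥M) (H : Subgroup G)
    (τ : G) (hτ : τ ∈ M) (hHM : H ≤ M) (h : ∀ g : ↥M, g ∈ L ↔ τ⁻¹ * g.1 * τ ∈ H)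
    (hs : IsSimpleGroup ↥H) : IsSimpleGroup ↥L := by
  let e : ↥L ≃* ↥H :=
    { toFun := fun g => ⟨τ⁻¹ * g.1.1 * τ, (h g.1).mp g.2⟩
      invFun := fun k => ⟨⟨τ * k.1 * τ⁻¹, M.mul_mem (M.mul_mem hτ (hHM k.2)) (M.inv_mem hτ)⟩, by
        rw [h]
        have : τ⁻¹ * (τ * k.1 * τ⁻¹) * τ = k.1 := by group
        simp only [this]
        exact k.2⟩
      left_inv := by
        intro g
        apply Subtype.ext
        apply Subtype.ext
        simp only
        group
      right_inv := by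
        intro k
        apply Subtype.ext
        simp only
        group
      map_mul' := by
        intro a b
        apply Subtype.ext
        simp only [Subgroup.coe_mul]
        group }
  exact e.isSimpleGroup

theorem isSimpleGroup_top : IsSimpleGroup ↥M24 := isSimpleGroup_M24

theorem isSimpleGroup_stab_point (p : GolayPt) : IsSimpleGroup (MulAction.stabilizer M24 p) := by
  obtain ⟨τ, hτ, hτp⟩ := lvl0 (gIdx p) (gIdx_lt p) |>.mono K_le |> fun ⟨σ, hσ, _, h⟩ =>
    (⟨σ, hσ, by rw [gUnidx_gIdx] at h; exact h⟩ : ∃ τ ∈ M24, τ (gUnidx 23) = p)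
  refine simple_transfer M24 _ H23 τ hτ inf_le_left ?_ isSimpleGroup_H23
  intro g
  rw [MulAction.mem_stabilizer_iff]
  constructor
  · intro hg
    refine ⟨M24.mul_mem (M24.mul_mem (M24.inv_mem hτ) g.2) hτ, ?_⟩
    intro j hj
    rw [List.mem_singleton] at hj
    subst hj
    have hg' : g.1 p = p := hg
    rw [Equiv.Perm.mul_apply, Equiv.Perm.mul_apply, hτp, hg', ← hτp]
    simp
  · intro hg
    have h1 := hg.2 23 (List.mem_singleton_self 23)
    rw [Equiv.Perm.mul_apply, Equiv.Perm.mul_apply, hτp, Equiv.Perm.inv_eq_iff_eq, hτp] at h1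
    exact h1

theorem isSimpleGroup_stab_two (p q : GolayPt) (hpq : p ≠ q) :
    IsSimpleGroup ↥(MulAction.stabilizer M24 p ⊓ MulAction.stabilizer M24 q) := by
  obtain ⟨τ, hτ, hτp, hτq⟩ : ∃ τ ∈ M24, τ (gUnidx 23) = p ∧ τ (gUnidx 0) = q := by
    have h2 := two_transitive
    rw [MulAction.is_two_pretransitive_iff] at h2
    obtain ⟨g, h1, h2⟩ := h2 (a := gUnidx 23) (b := gUnidx 0) (c := p) (d := q) (by decide) hpq
    exact ⟨g.1, g.2, h1, h2⟩
  refine simple_transfer M24 _ H22 τ hτ inf_le_left ?_ isSimpleGroup_H22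
  intro g
  rw [Subgroup.mem_inf, MulAction.mem_stabilizer_iff, MulAction.mem_stabilizer_iff]
  constructor
  · rintro ⟨hg1, hg2⟩
    refine ⟨M24.mul_mem (M24.mul_mem (M24.inv_mem hτ) g.2) hτ, ?_⟩
    intro j hj
    simp only [List.mem_cons, List.not_mem_nil, or_false] at hj
    have hg1' : g.1 p = p := hg1
    have hg2' : g.1 q = q := hg2
    rcases hj with rfl | rfl
    · rw [Equiv.Perm.mul_apply, Equiv.Perm.mul_apply, hτp, hg1', ← hτp]
      simp
    · rw [Equiv.Perm.mul_apply, Equiv.Perm.mul_apply, hτq, hg2', ← hτq]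
      simp
  · intro hg
    have h1 := hg.2 23 (by simp)
    have h2 := hg.2 0 (by simp)
    rw [Equiv.Perm.mul_apply, Equiv.Perm.mul_apply, hτp, Equiv.Perm.inv_eq_iff_eq, hτp] at h1
    rw [Equiv.Perm.mul_apply, Equiv.Perm.mul_apply, hτq, Equiv.Perm.inv_eq_iff_eq, hτq] at h2
    exact ⟨h1, h2⟩

theorem isSimpleGroup_stab_dodecad (d : Finset GolayPt) (hd : d ∈ dodecads) :
    IsSimpleGroup (MulAction.stabilizer M24 d) := by
  obtain ⟨τ, hτ, rfl⟩ := dodecad_reach d hd
  refine simple_transfer M24 _ H12 τ hτ inf_le_left ?_ isSimpleGroup_H12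
  intro g
  rw [MulAction.mem_stabilizer_iff]
  constructor
  · intro hg
    exact conj_mem_H12 hτ g.2 hg
  · intro hg
    have h1 : (τ⁻¹ * g.1 * τ) • d₀fin = d₀fin := MulAction.mem_stabilizer_iff.mp hg.2
    show g.1 • τ • d₀fin = τ • d₀fin
    rw [mul_smul, mul_smul, inv_smul_eq_iff] at h1
    exact h1

theorem isSimpleGroup_stab_dodecad_point (d : Finset GolayPt) (hd : d ∈ dodecads) (p : GolayPt)
    (hp : p ∈ d) :
    IsSimpleGroup ↥(MulAction.stabilizer M24 d ⊓ MulAction.stabilizer M24 p) := by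
  obtain ⟨τ, hτ, rfl, rfl⟩ := flag_trans d hd p hp
  refine simple_transfer M24 _ H11 τ hτ (inf_le_left.trans inf_le_left) ?_ isSimpleGroup_H11
  intro g
  rw [Subgroup.mem_inf, MulAction.mem_stabilizer_iff, MulAction.mem_stabilizer_iff]
  constructor
  · rintro ⟨hg1, hg2⟩
    refine ⟨conj_mem_H12 hτ g.2 hg1, ?_⟩
    intro j hj
    rw [List.mem_singleton] at hj
    subst hj
    have hg2' : g.1 (τ (gUnidx 0)) = τ (gUnidx 0) := hg2
    rw [Equiv.Perm.mul_apply, Equiv.Perm.mul_apply, hg2']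
    simp
  · intro hg
    constructor
    · have h1 : (τ⁻¹ * g.1 * τ) • d₀fin = d₀fin := MulAction.mem_stabilizer_iff.mp hg.1.2
      show g.1 • τ • d₀fin = τ • d₀fin
      rw [mul_smul, mul_smul, inv_smul_eq_iff] at h1
      exact h1
    · have h2 := hg.2 0 (by simp)
      rw [Equiv.Perm.mul_apply, Equiv.Perm.mul_apply, Equiv.Perm.inv_eq_iff_eq] at h2
      exact h2

end Cfsg.Agent.Lib.Helper1.M24
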