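import Mathlib
import Cfsg.Agent.S1640
import Cfsg.Agent.Lib.Helper1.LeechEnum13

set_option autoImplicit false

namespace Cfsg.Agent.Lib.Helper1.LeechEnum

open Cfsg Cfsg.Agent.Lib.Helper1.LeechCross Cfsg.Agent.Lib.Helper1.LeechAut
  Cfsg.Agent.Lib.Helper1.LeechConn

/-! ### Standard position for a pair (norm 48, minimal vector with inner product 16) -/

theorem d0_dot_vecU' : dotInt d₀ Cfsg.Spor.vecU' = 16 := by decide +kernel

/-- a norm 48 vector and a minimal vector of inner product `16` with it can be moved to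
`d₀`, `vecU'` -/
theorem std_pair_B (v m : leechLattice) (hv : sqNorm (v : GolayPt → ℤ) = 48)
    (hm : sqNorm (m : GolayPt → ℤ) = 32) (hvm : dotInt (v : GolayPt → ℤ) (m : GolayPt → ℤ) = 16) :
    ∃ h : Co0, ((h • v : leechLattice) : GolayPt → ℤ) = d₀ ∧
      ((h • m : leechLattice) : GolayPt → ℤ) = Cfsg.Spor.vecU' := by
  obtain ⟨h1, hh1⟩ := trans48 v ⟨d₀, d0_mem⟩ hv d0_norm
  have hh1' : ((h1 • v : leechLattice) : GolayPt → ℤ) = d₀ := congrArg Subtype.val hh1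
  have n1 : sqNorm ((h1 • (-m) : leechLattice) : GolayPt → ℤ) = 32 := by
    rw [smul_norm, coe_neg', norm_neg, hm]
  have n2 : dotInt ((h1 • v : leechLattice) : GolayPt → ℤ)
      ((h1 • (-m) : leechLattice) : GolayPt → ℤ) = -16 := by
    rw [smul_dot, coe_neg', dot_neg_right, hvm]
  have n3 : sqNorm ((-(⟨Cfsg.Spor.vecU', vecU'_mem⟩ : leechLattice) : leechLattice) : GolayPt → ℤ) = 32 := by
    rw [coe_neg', norm_neg]; exact vecU'_norm
  have n4 : dotInt ((h1 • v : leechLattice) : GolayPt → ℤ)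
      ((-(⟨Cfsg.Spor.vecU', vecU'_mem⟩ : leechLattice) : leechLattice) : GolayPt → ℤ) = -16 := by
    rw [hh1', coe_neg', dot_neg_right]
    show -dotInt d₀ Cfsg.Spor.vecU' = -16
    rw [d0_dot_vecU']
  obtain ⟨g, hg1, hg2⟩ := (Cfsg.Agent.S1640.result (h1 • v) (by rw [smul_norm, hv])).2
    (h1 • (-m)) ⟨n1, n2⟩ (-(⟨Cfsg.Spor.vecU', vecU'_mem⟩ : leechLattice)) ⟨n3, n4⟩
  refine ⟨g * h1, ?_, ?_⟩
  · rw [mul_smul, hg1, hh1']
  · have e : (g * h1) • m = -((g * h1) • (-m)) := by rw [smul_neg', neg_neg]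
    rw [e, mul_smul, hg2, neg_neg]

end Cfsg.Agent.Lib.Helper1.LeechEnum
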