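import Mathlib
import Cfsg.Agent.S0378
import Cfsg.Agent.S0379
import Cfsg.Agent.S1583
import Cfsg.Agent.Lib.Helper1.ConwayOrd1

set_option autoImplicit false

namespace Cfsg.Agent.Lib.Helper1.ConwayOrd

open Cfsg MulAction Cfsg.Agent.Lib.Helper1.LeechEnum Cfsg.Agent.Lib.Helper1.PrimSimple
  Cfsg.Agent.Lib.Helper1.LeechConn Cfsg.Agent.Lib.Helper1.LeechAut

/-! ### The three standard vectors and their common stabiliser -/

/-- `(5, 1^23)` -/
def D0 : leechLattice := ⟨d₀, d0_mem⟩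

/-- `(4, 4, 0^22)` -/
def U0 : leechLattice := ⟨Cfsg.Spor.vecU, vecU_mem⟩

/-- `(4, -4, 0^22)` -/
def U1 : leechLattice := ⟨Cfsg.Spor.vecU', vecU'_mem⟩

/-- the common stabiliser -/
def K0 : Subgroup Co0 := stabilizer Co0 D0 ⊓ stabilizer Co0 U1 ⊓ stabilizer Co0 U0

theorem mem_K0 (g : Co0) : g ∈ K0 ↔ g • D0 = D0 ∧ g • U1 = U1 ∧ g • U0 = U0 := by
  unfold K0
  rw [Subgroup.mem_inf, Subgroup.mem_inf, mem_stabilizer_iff, mem_stabilizer_iff,
    mem_stabilizer_iff, and_assoc]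

/-- the second vector of the standard pair of norm 48 vectors -/
def W0 : leechLattice := U1 - D0

theorem W0_norm : sqNorm (W0 : GolayPt → ℤ) = 48 := by
  show sqNorm (Cfsg.Spor.vecU' - d₀) = 48
  decide +kernel

theorem D0_norm : sqNorm (D0 : GolayPt → ℤ) = 48 := d0_norm

theorem D0_W0 : dotInt (D0 : GolayPt → ℤ) (W0 : GolayPt → ℤ) = -32 := by
  show dotInt d₀ (Cfsg.Spor.vecU' - d₀) = -32
  decide +kernel

theorem U0_mem100 : sqNorm (U0 : GolayPt → ℤ) = 32 ∧
    dotInt (D0 : GolayPt → ℤ) (U0 : GolayPt → ℤ) = 24 ∧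
    dotInt (W0 : GolayPt → ℤ) (U0 : GolayPt → ℤ) = -24 := by
  refine ⟨vecU_norm, ?_, ?_⟩
  · show dotInt d₀ Cfsg.Spor.vecU = 24
    decide +kernel
  · show dotInt (Cfsg.Spor.vecU' - d₀) Cfsg.Spor.vecU = -24
    decide +kernel

theorem stab_W0 : stabilizer Co0 D0 ⊓ stabilizer Co0 W0 = stabilizer Co0 D0 ⊓ stabilizer Co0 U1 := by
  ext g
  rw [Subgroup.mem_inf, Subgroup.mem_inf, mem_stabilizer_iff, mem_stabilizer_iff,
    mem_stabilizer_iff]
  constructor
  · rintro ⟨a, b⟩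
    refine ⟨a, ?_⟩
    have e : U1 = W0 + D0 := by unfold W0; abel
    rw [e, smul_add', a, b]
  · rintro ⟨a, b⟩
    refine ⟨a, ?_⟩
    unfold W0
    rw [LeechEnum.smul_sub, a, b]

theorem K0_card : Nat.card K0 = 443520 := by
  have h := card_of_orbit (stabilizer Co0 D0 ⊓ stabilizer Co0 W0) U0
    {x : leechLattice | sqNorm (x : GolayPt → ℤ) = 32 ∧
      dotInt (D0 : GolayPt → ℤ) (x : GolayPt → ℤ) = 24 ∧
      dotInt (W0 : GolayPt → ℤ) (x : GolayPt → ℤ) = -24}
    (fun g hg => by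
      have gv : g • D0 = D0 := (Subgroup.mem_inf.mp hg).1
      have gw : g • W0 = W0 := (Subgroup.mem_inf.mp hg).2
      have e1 := smul_dot g D0 U0
      rw [gv] at e1
      have e2 := smul_dot g W0 U0
      rw [gw] at e2
      exact ⟨by rw [smul_norm]; exact U0_mem100.1, by rw [e1]; exact U0_mem100.2.1,
        by rw [e2]; exact U0_mem100.2.2⟩)
    (fun z hz => by
      obtain ⟨g, hg1, hg2, hg3⟩ := (Cfsg.Agent.S1583.result D0 W0 D0_norm W0_norm D0_W0).2
        U0 U0_mem100 z hz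
      exact ⟨g, Subgroup.mem_inf.mpr ⟨hg1, hg2⟩, hg3⟩)
  rw [hs_card D0 W0 D0_norm W0_norm D0_W0,
    (Cfsg.Agent.S1583.result D0 W0 D0_norm W0_norm D0_W0).1, stab_W0] at h
  have : Nat.card K0 = Nat.card ↥(stabilizer Co0 D0 ⊓ stabilizer Co0 U1 ⊓ stabilizer Co0 U0) := rfl
  omega

/-! ### The permutation action of `M22` -/

/-- the Mathieu group on 22 points, inside `M24` -/
abbrev Q22 : Subgroup ↥M24 :=
  stabilizer M24 (none : GolayPt) ⊓ stabilizer M24 (some 0 : GolayPt)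

theorem Q22_fix (σ : Q22) : ((σ.1.1 : Equiv.Perm GolayPt)) none = none ∧
    ((σ.1.1 : Equiv.Perm GolayPt)) (some 0) = some 0 := by
  have h1 : σ.1 • (none : GolayPt) = none := (Subgroup.mem_inf.mp σ.2).1
  have h2 : σ.1 • (some 0 : GolayPt) = some 0 := (Subgroup.mem_inf.mp σ.2).2
  exact ⟨h1, h2⟩

/-- the lattice automorphism of a permutation in `M24` (as a left action) -/
noncomputable def permL (σ : ↥M24) : Co0 := permC (σ.1)⁻¹ (M24.inv_mem σ.2)

theorem permL_apply (σ : ↥M24) (v : leechLattice) (i : GolayPt) :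
    ((permL σ • v : leechLattice) : GolayPt → ℤ) i = (v : GolayPt → ℤ) ((σ.1)⁻¹ i) := rfl

theorem co0_ext {g h : Co0} (H : ∀ (v : leechLattice) (i : GolayPt),
    ((g • v : leechLattice) : GolayPt → ℤ) i = ((h • v : leechLattice) : GolayPt → ℤ) i) :
    g = h := by
  apply Subtype.ext
  apply Equiv.ext
  intro v
  apply Subtype.ext
  funext i
  exact H v i

noncomputable def permHom : ↥M24 →* Co0 where
  toFun := permL
  map_one' := by
    apply co0_ext
    intro v i
    rw [permL_apply, one_smul]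
    rfl
  map_mul' := by
    intro σ τ
    apply co0_ext
    intro v i
    rw [mul_smul, permL_apply, permL_apply, permL_apply]
    rfl

theorem permHom_injective : Function.Injective permHom := by
  intro σ τ h
  apply Subtype.ext
  apply Equiv.ext
  intro i
  -- test on `8 e_i`
  have h1 := congrArg (fun g : Co0 => ((g • (⟨uu i, uu_mem i⟩ : leechLattice) : leechLattice) :
    GolayPt → ℤ) (σ.1 i)) h
  have e1 : ((permHom σ • (⟨uu i, uu_mem i⟩ : leechLattice) : leechLattice) : GolayPt → ℤ)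
      (σ.1 i) = 8 := by
    show uu i ((σ.1)⁻¹ (σ.1 i)) = 8
    rw [Equiv.Perm.inv_eq_iff_eq.2 rfl]
    unfold uu
    rw [if_pos rfl]
  have e2 : ((permHom τ • (⟨uu i, uu_mem i⟩ : leechLattice) : leechLattice) : GolayPt → ℤ)
      (σ.1 i) = uu i ((τ.1)⁻¹ (σ.1 i)) := rfl
  rw [e1, e2] at h1
  unfold uu at h1
  by_cases hc : (τ.1)⁻¹ (σ.1 i) = i
  · exact Equiv.Perm.inv_eq_iff_eq.mp hc
  · rw [if_neg hc] at h1
    norm_num at h1

theorem permHom_mem_K0 (σ : Q22) : permHom σ.1 ∈ K0 := by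
  obtain ⟨f1, f2⟩ := Q22_fix σ
  have g1 : ∀ i, (σ.1.1)⁻¹ i = none ↔ i = none := by
    intro i
    rw [Equiv.Perm.inv_eq_iff_eq, f1]
  have g2 : ∀ i, (σ.1.1)⁻¹ i = some 0 ↔ i = some 0 := by
    intro i
    rw [Equiv.Perm.inv_eq_iff_eq, f2]
  rw [mem_K0]
  refine ⟨?_, ?_, ?_⟩
  · apply Subtype.ext
    funext i
    show d₀ ((σ.1.1)⁻¹ i) = d₀ i
    have hd : ∀ j, d₀ j = if j = none then 5 else 1 := by decide
    rw [hd, hd]
    simp only [g1]
  · apply Subtype.ext
    funext i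
    show Cfsg.Spor.vecU' ((σ.1.1)⁻¹ i) = Cfsg.Spor.vecU' i
    unfold Cfsg.Spor.vecU'
    simp only [g1, g2]
  · apply Subtype.ext
    funext i
    show Cfsg.Spor.vecU ((σ.1.1)⁻¹ i) = Cfsg.Spor.vecU i
    unfold Cfsg.Spor.vecU
    simp only [g1, g2]

/-- `M22` as the common stabiliser of the three standard vectors -/
noncomputable def q22Hom : Q22 →* K0 where
  toFun σ := ⟨permHom σ.1, permHom_mem_K0 σ⟩
  map_one' := Subtype.ext (by simp)
  map_mul' σ τ := Subtype.ext (by simp)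

theorem q22Hom_bijective : Function.Bijective q22Hom := by
  have hinj : Function.Injective q22Hom := by
    intro σ τ h
    have := congrArg Subtype.val h
    exact Subtype.ext (permHom_injective this)
  have hfin : Finite K0 := Nat.finite_of_card_ne_zero (by rw [K0_card]; norm_num)
  apply hinj.bijective_of_nat_card_le
  rw [K0_card, Cfsg.Agent.S0378.result none (some 0) (by decide)]

theorem K0_simple : IsSimpleGroup K0 := by
  have h1 : IsSimpleGroup Q22 := Cfsg.Agent.S0379.result none (some 0) (by decide)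
  have h2 : Nontrivial K0 := by
    have hfin : Finite K0 := Nat.finite_of_card_ne_zero (by rw [K0_card]; norm_num)
    have : 1 < Nat.card K0 := by rw [K0_card]; norm_num
    exact Finite.one_lt_card_iff_nontrivial.mp this
  exact IsSimpleGroup.isSimpleGroup_of_surjective q22Hom q22Hom_bijective.2

end Cfsg.Agent.Lib.Helper1.ConwayOrd
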