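import Mathlib
import Cfsg.Agent.Lib.Helper1.EnP9aDef

set_option autoImplicit false
set_option maxRecDepth 100000

namespace Cfsg.Agent.Lib.Helper1.EnP9a

open Cfsg Cfsg.Agent.Lib.Helper1.LeechEnum

def certs11_0 : List ℕ :=
  [0, 0, 0, 0, 0, 0, 0, 0,
  0, 0, 0, 0, 0, 0, 0, 0,
  0, 0, 0, 0, 0, 0, 0, 0,
  0, 0, 0, 0, 0, 0, 0, 0]

theorem len11_0 : certs11_0.length = 32 := by decide +kernel

theorem part11_0 : chkFrom prob 2816 certs11_0 = true := by decide +kernel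

def certs11_1 : List ℕ :=
  [0, 0, 0, 0, 0, 0, 0, 0,
  0, 0, 0, 0, 0, 0, 0, 0,
  0, 0, 0, 0, 0, 0, 0, 0,
  0, 0, 0, 0, 0, 0, 0, 0]

theorem len11_1 : certs11_1.length = 32 := by decide +kernel

theorem part11_1 : chkFrom prob 2848 certs11_1 = true := by decide +kernel

def certs11_2 : List ℕ :=
  [0, 0, 0, 0, 0, 0, 0, 0,
  0, 0, 0, 0, 0, 0, 0, 0,
  0, 0, 0, 0, 0, 0, 0, 0,
  0, 0, 0, 0, 0, 0, 0, 0]

theorem len11_2 : certs11_2.length = 32 := by decide +kernel

theorem part11_2 : chkFrom prob 2880 certs11_2 = true := by decide +kernel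

def certs11_3 : List ℕ :=
  [0, 0, 0, 0, 0, 0, 0, 0,
  0, 0, 0, 0, 0, 0, 0, 0,
  0, 0, 0, 0, 0, 0, 0, 0,
  0, 0, 0, 0, 0, 0, 0, 0]

theorem len11_3 : certs11_3.length = 32 := by decide +kernel

theorem part11_3 : chkFrom prob 2912 certs11_3 = true := by decide +kernel

def certs11_4 : List ℕ :=
  [0, 0, 0, 0, 0, 0, 0, 0,
  0, 0, 0, 0, 0, 0, 0, 0,
  0, 0, 0, 0, 0, 0, 0, 0,
  0, 0, 0, 0, 0, 0, 0, 0]

theorem len11_4 : certs11_4.length = 32 := by decide +kernel

theorem part11_4 : chkFrom prob 2944 certs11_4 = true := by decide +kernel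

def certs11_5 : List ℕ :=
  [0, 0, 0, 0, 0, 0, 0, 0,
  0, 0, 0, 0, 0, 0, 0, 0,
  0, 0, 0, 0, 0, 0, 0, 0,
  0, 0, 0, 0, 0, 0, 0, 0]

theorem len11_5 : certs11_5.length = 32 := by decide +kernel

theorem part11_5 : chkFrom prob 2976 certs11_5 = true := by decide +kernel

def certs11_6 : List ℕ :=
  [0, 0, 0, 0, 0, 0, 0, 0,
  0, 0, 0, 0, 0, 0, 0, 0,
  0, 0, 0, 0, 0, 0, 0, 0,
  0, 0, 0, 0, 0, 0, 0, 0]

theorem len11_6 : certs11_6.length = 32 := by decide +kernel

theorem part11_6 : chkFrom prob 3008 certs11_6 = true := by decide +kernel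

def certs11_7 : List ℕ :=
  [0, 0, 0, 0, 0, 0, 0, 0,
  0, 0, 0, 0, 0, 0, 0, 0,
  0, 0, 0, 0, 0, 0, 0, 0,
  0, 0, 0, 0, 0, 0, 0, 0]

theorem len11_7 : certs11_7.length = 32 := by decide +kernel

theorem part11_7 : chkFrom prob 3040 certs11_7 = true := by decide +kernel

theorem part11 : ∀ c, 2816 ≤ c → c < 3072 → ∃ cert, chkChunk prob c cert = true := by
  intro c h1 h2
  obtain ⟨j, hj⟩ : ∃ j, j = (c - 2816) / 32 := ⟨_, rfl⟩
  have hj' : j < 8 := by omega
  interval_cases j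
  · exact chkFrom_sound prob certs11_0 2816 part11_0 c (by omega) (by rw [len11_0]; omega)
  · exact chkFrom_sound prob certs11_1 2848 part11_1 c (by omega) (by rw [len11_1]; omega)
  · exact chkFrom_sound prob certs11_2 2880 part11_2 c (by omega) (by rw [len11_2]; omega)
  · exact chkFrom_sound prob certs11_3 2912 part11_3 c (by omega) (by rw [len11_3]; omega)
  · exact chkFrom_sound prob certs11_4 2944 part11_4 c (by omega) (by rw [len11_4]; omega)
  · exact chkFrom_sound prob certs11_5 2976 part11_5 c (by omega) (by rw [len11_5]; omega)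
  · exact chkFrom_sound prob certs11_6 3008 part11_6 c (by omega) (by rw [len11_6]; omega)
  · exact chkFrom_sound prob certs11_7 3040 part11_7 c (by omega) (by rw [len11_7]; omega)

end Cfsg.Agent.Lib.Helper1.EnP9a
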