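import Mathlib
import Cfsg.Agent.Lib.Helper1.EnP9aDef

set_option autoImplicit false
set_option maxRecDepth 100000

namespace Cfsg.Agent.Lib.Helper1.EnP9a

open Cfsg Cfsg.Agent.Lib.Helper1.LeechEnum

def certs9_0 : List ℕ :=
  [0, 0, 0, 0, 0, 0, 0, 0,
  0, 0, 0, 0, 0, 0, 0, 0,
  0, 0, 0, 0, 0, 0, 0, 0,
  0, 0, 0, 0, 0, 0, 0, 0]

theorem len9_0 : certs9_0.length = 32 := by decide +kernel

theorem part9_0 : chkFrom prob 2304 certs9_0 = true := by decide +kernel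

def certs9_1 : List ℕ :=
  [0, 0, 0, 0, 0, 0, 0, 0,
  0, 0, 0, 0, 0, 0, 0, 0,
  0, 0, 0, 0, 0, 0, 0, 0,
  0, 0, 0, 0, 0, 0, 0, 0]

theorem len9_1 : certs9_1.length = 32 := by decide +kernel

theorem part9_1 : chkFrom prob 2336 certs9_1 = true := by decide +kernel

def certs9_2 : List ℕ :=
  [0, 0, 0, 0, 0, 0, 0, 0,
  0, 0, 0, 0, 0, 0, 0, 0,
  0, 0, 0, 0, 0, 0, 0, 0,
  0, 0, 0, 0, 0, 0, 0, 0]

theorem len9_2 : certs9_2.length = 32 := by decide +kernel

theorem part9_2 : chkFrom prob 2368 certs9_2 = true := by decide +kernel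

def certs9_3 : List ℕ :=
  [0, 0, 0, 0, 0, 0, 0, 0,
  0, 0, 0, 0, 0, 0, 0, 0,
  0, 0, 0, 0, 0, 0, 0, 0,
  0, 0, 0, 0, 0, 0, 0, 0]

theorem len9_3 : certs9_3.length = 32 := by decide +kernel

theorem part9_3 : chkFrom prob 2400 certs9_3 = true := by decide +kernel

def certs9_4 : List ℕ :=
  [0, 0, 0, 0, 0, 0, 0, 0,
  0, 0, 0, 0, 0, 0, 0, 0,
  0, 0, 0, 0, 0, 0, 0, 0,
  0, 0, 0, 0, 0, 0, 0, 0]

theorem len9_4 : certs9_4.length = 32 := by decide +kernel

theorem part9_4 : chkFrom prob 2432 certs9_4 = true := by decide +kernel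

def certs9_5 : List ℕ :=
  [0, 0, 0, 0, 0, 0, 0, 0,
  0, 0, 0, 0, 0, 0, 0, 0,
  0, 0, 0, 0, 0, 0, 0, 0,
  0, 0, 0, 0, 0, 0, 0, 0]

theorem len9_5 : certs9_5.length = 32 := by decide +kernel

theorem part9_5 : chkFrom prob 2464 certs9_5 = true := by decide +kernel

def certs9_6 : List ℕ :=
  [0, 0, 0, 0, 0, 0, 0, 0,
  0, 0, 0, 0, 0, 0, 0, 0,
  0, 0, 0, 0, 0, 0, 0, 0,
  0, 0, 0, 0, 0, 0, 0, 0]

theorem len9_6 : certs9_6.length = 32 := by decide +kernel

theorem part9_6 : chkFrom prob 2496 certs9_6 = true := by decide +kernel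

def certs9_7 : List ℕ :=
  [0, 0, 0, 0, 0, 0, 0, 0,
  0, 0, 0, 0, 0, 0, 0, 0,
  0, 0, 0, 0, 0, 0, 0, 0,
  0, 0, 0, 0, 0, 0, 0, 0]

theorem len9_7 : certs9_7.length = 32 := by decide +kernel

theorem part9_7 : chkFrom prob 2528 certs9_7 = true := by decide +kernel

theorem part9 : ∀ c, 2304 ≤ c → c < 2560 → ∃ cert, chkChunk prob c cert = true := by
  intro c h1 h2
  obtain ⟨j, hj⟩ : ∃ j, j = (c - 2304) / 32 := ⟨_, rfl⟩
  have hj' : j < 8 := by omega
  interval_cases j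
  · exact chkFrom_sound prob certs9_0 2304 part9_0 c (by omega) (by rw [len9_0]; omega)
  · exact chkFrom_sound prob certs9_1 2336 part9_1 c (by omega) (by rw [len9_1]; omega)
  · exact chkFrom_sound prob certs9_2 2368 part9_2 c (by omega) (by rw [len9_2]; omega)
  · exact chkFrom_sound prob certs9_3 2400 part9_3 c (by omega) (by rw [len9_3]; omega)
  · exact chkFrom_sound prob certs9_4 2432 part9_4 c (by omega) (by rw [len9_4]; omega)
  · exact chkFrom_sound prob certs9_5 2464 part9_5 c (by omega) (by rw [len9_5]; omega)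
  · exact chkFrom_sound prob certs9_6 2496 part9_6 c (by omega) (by rw [len9_6]; omega)
  · exact chkFrom_sound prob certs9_7 2528 part9_7 c (by omega) (by rw [len9_7]; omega)

end Cfsg.Agent.Lib.Helper1.EnP9a
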