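import Mathlib
import Cfsg.Agent.S1584
import Cfsg.Agent.Lib.Helper1.ConwayM22
import Cfsg.Agent.Lib.Helper1.PrimSimple5

set_option autoImplicit false

namespace Cfsg.Agent.Lib.Helper1.ConwayOrd

open Cfsg MulAction Cfsg.Agent.Lib.Helper1.LeechEnum Cfsg.Agent.Lib.Helper1.PrimSimple
  Cfsg.Agent.Lib.Helper1.LeechConn Cfsg.Agent.Lib.Helper1.LeechAut

/-! ### Conjugation of stabilisers -/

theorem conj_simple {G : Type*} [Group G] (h : G) (K : Subgroup G)
    (hK : IsSimpleGroup ↥(K.map (MulAut.conj h).toMonoidHom)) : IsSimpleGroup K :=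
  (K.equivMapOfInjective (MulAut.conj h).toMonoidHom (MulAut.conj h).injective).isSimpleGroup

theorem map_conj_stab3 {G Ω : Type*} [Group G] [MulAction G Ω] (h : G) (a b c : Ω) :
    (stabilizer G a ⊓ stabilizer G b ⊓ stabilizer G c).map (MulAut.conj h).toMonoidHom =
      stabilizer G (h • a) ⊓ stabilizer G (h • b) ⊓ stabilizer G (h • c) := by
  rw [Subgroup.map_inf_eq _ _ _ (MulAut.conj h).injective,
    Subgroup.map_inf_eq _ _ _ (MulAut.conj h).injective,
    stabilizer_smul_eq_stabilizer_map_conj, stabilizer_smul_eq_stabilizer_map_conj,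
    stabilizer_smul_eq_stabilizer_map_conj]

/-- the stabiliser of a point of the 100 in the Higman–Sims stabiliser is simple -/
theorem hs_point_simple (v w x : leechLattice) (hv : sqNorm (v : GolayPt → ℤ) = 48)
    (hw : sqNorm (w : GolayPt → ℤ) = 48)
    (hvw : dotInt (v : GolayPt → ℤ) (w : GolayPt → ℤ) = -32)
    (hx : sqNorm (x : GolayPt → ℤ) = 32 ∧ dotInt (v : GolayPt → ℤ) (x : GolayPt → ℤ) = 24 ∧
      dotInt (w : GolayPt → ℤ) (x : GolayPt → ℤ) = -24) :
    IsSimpleGroup ↥(stabilizer Co0 v ⊓ stabilizer Co0 w ⊓ stabilizer Co0 x) := by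
  obtain ⟨h, h1, h2, h3⟩ := Cfsg.Agent.S1584.std_triple v w x hv hw hvw hx
  apply conj_simple h
  rw [map_conj_stab3]
  have e1 : h • v = D0 := Subtype.ext h1
  have e2 : h • w = W0 := by
    have : h • (v + w) = U1 := Subtype.ext h2
    have e : h • w = h • (v + w) - h • v := by rw [smul_add']; abel
    rw [e, this, e1]
    rfl
  have e3 : h • x = U0 := Subtype.ext h3
  rw [e1, e2, e3, stab_W0]
  exact K0_simple

end Cfsg.Agent.Lib.Helper1.ConwayOrd
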