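import Mathlib
import Cfsg.Agent.Lib.Helper1.EnP14aDef

set_option autoImplicit false
set_option maxRecDepth 100000

namespace Cfsg.Agent.Lib.Helper1.EnP14a

open Cfsg Cfsg.Agent.Lib.Helper1.LeechEnum

def certs13_0 : List ℕ :=
  [0, 0, 0, 0, 0, 0, 0, 0,
  0, 0, 0, 0, 0, 0, 0, 0,
  0, 0, 0, 0, 0, 0, 0, 0,
  0, 0, 0, 0, 0, 0, 0, 0]

theorem len13_0 : certs13_0.length = 32 := by decide +kernel

theorem part13_0 : chkFrom prob 3328 certs13_0 = true := by decide +kernel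

def certs13_1 : List ℕ :=
  [0, 0, 0, 0, 0, 0, 0, 0,
  0, 0, 0, 0, 0, 0, 0, 0,
  0, 0, 0, 0, 0, 0, 0, 0,
  0, 0, 0, 0, 0, 0, 0, 0]

theorem len13_1 : certs13_1.length = 32 := by decide +kernel

theorem part13_1 : chkFrom prob 3360 certs13_1 = true := by decide +kernel

def certs13_2 : List ℕ :=
  [0, 0, 0, 0, 0, 0, 0, 0,
  0, 0, 0, 0, 0, 0, 0, 0,
  0, 0, 0, 0, 0, 0, 0, 0,
  0, 0, 0, 0, 0, 0, 0, 0]

theorem len13_2 : certs13_2.length = 32 := by decide +kernel

theorem part13_2 : chkFrom prob 3392 certs13_2 = true := by decide +kernel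

def certs13_3 : List ℕ :=
  [0, 0, 0, 0, 0, 0, 0, 0,
  0, 0, 0, 0, 0, 0, 0, 0,
  0, 0, 0, 0, 0, 0, 0, 0,
  0, 0, 0, 0, 0, 0, 0, 0]

theorem len13_3 : certs13_3.length = 32 := by decide +kernel

theorem part13_3 : chkFrom prob 3424 certs13_3 = true := by decide +kernel

def certs13_4 : List ℕ :=
  [0, 0, 0, 0, 0, 0, 0, 0,
  0, 0, 0, 0, 0, 0, 0, 0,
  0, 0, 0, 0, 0, 0, 0, 0,
  0, 0, 0, 0, 0, 0, 0, 0]

theorem len13_4 : certs13_4.length = 32 := by decide +kernel

theorem part13_4 : chkFrom prob 3456 certs13_4 = true := by decide +kernel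

def certs13_5 : List ℕ :=
  [0, 0, 0, 0, 0, 0, 0, 0,
  0, 0, 0, 0, 0, 0, 0, 0,
  0, 0, 0, 0, 0, 0, 0, 0,
  0, 0, 0, 0, 0, 0, 0, 0]

theorem len13_5 : certs13_5.length = 32 := by decide +kernel

theorem part13_5 : chkFrom prob 3488 certs13_5 = true := by decide +kernel

def certs13_6 : List ℕ :=
  [0, 0, 0, 0, 0, 0, 0, 0,
  0, 0, 0, 0, 0, 0, 0, 0,
  0, 0, 0, 0, 0, 0, 0, 0,
  0, 0, 0, 0, 0, 0, 0, 0]

theorem len13_6 : certs13_6.length = 32 := by decide +kernel

theorem part13_6 : chkFrom prob 3520 certs13_6 = true := by decide +kernel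

def certs13_7 : List ℕ :=
  [0, 0, 0, 0, 0, 0, 0, 0,
  0, 0, 0, 0, 0, 0, 0, 0,
  0, 0, 0, 0, 0, 0, 0, 0,
  0, 0, 0, 0, 0, 0, 0, 0]

theorem len13_7 : certs13_7.length = 32 := by decide +kernel

theorem part13_7 : chkFrom prob 3552 certs13_7 = true := by decide +kernel

theorem part13 : ∀ c, 3328 ≤ c → c < 3584 → ∃ cert, chkChunk prob c cert = true := by
  intro c h1 h2
  obtain ⟨j, hj⟩ : ∃ j, j = (c - 3328) / 32 := ⟨_, rfl⟩
  have hj' : j < 8 := by omega
  interval_cases j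
  · exact chkFrom_sound prob certs13_0 3328 part13_0 c (by omega) (by rw [len13_0]; omega)
  · exact chkFrom_sound prob certs13_1 3360 part13_1 c (by omega) (by rw [len13_1]; omega)
  · exact chkFrom_sound prob certs13_2 3392 part13_2 c (by omega) (by rw [len13_2]; omega)
  · exact chkFrom_sound prob certs13_3 3424 part13_3 c (by omega) (by rw [len13_3]; omega)
  · exact chkFrom_sound prob certs13_4 3456 part13_4 c (by omega) (by rw [len13_4]; omega)
  · exact chkFrom_sound prob certs13_5 3488 part13_5 c (by omega) (by rw [len13_5]; omega)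
  · exact chkFrom_sound prob certs13_6 3520 part13_6 c (by omega) (by rw [len13_6]; omega)
  · exact chkFrom_sound prob certs13_7 3552 part13_7 c (by omega) (by rw [len13_7]; omega)

end Cfsg.Agent.Lib.Helper1.EnP14a
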