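import Mathlib
import Cfsg.Agent.Lib.Helper1.EnP14bDef

set_option autoImplicit false
set_option maxRecDepth 100000

namespace Cfsg.Agent.Lib.Helper1.EnP14b

open Cfsg Cfsg.Agent.Lib.Helper1.LeechEnum

def certs3_0 : List ℕ :=
  [0, 0, 0, 0, 0, 0, 0, 0,
  0, 0, 0, 0, 0, 0, 0, 0,
  0, 0, 0, 0, 0, 0, 0, 0,
  0, 0, 0, 0, 0, 0, 0, 0]

theorem len3_0 : certs3_0.length = 32 := by decide +kernel

theorem part3_0 : chkFrom prob 768 certs3_0 = true := by decide +kernel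

def certs3_1 : List ℕ :=
  [0, 0, 0, 0, 0, 0, 0, 0,
  0, 0, 0, 0, 0, 0, 0, 0,
  0, 0, 0, 0, 0, 0, 0, 0,
  0, 0, 0, 0, 0, 0, 0, 0]

theorem len3_1 : certs3_1.length = 32 := by decide +kernel

theorem part3_1 : chkFrom prob 800 certs3_1 = true := by decide +kernel

def certs3_2 : List ℕ :=
  [0, 0, 0, 0, 0, 0, 0, 0,
  0, 0, 0, 0, 0, 0, 0, 0,
  0, 0, 0, 0, 0, 0, 0, 0,
  0, 0, 0, 0, 0, 0, 0, 0]

theorem len3_2 : certs3_2.length = 32 := by decide +kernel

theorem part3_2 : chkFrom prob 832 certs3_2 = true := by decide +kernel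

def certs3_3 : List ℕ :=
  [0, 0, 0, 0, 0, 0, 0, 0,
  0, 0, 0, 0, 0, 0, 0, 0,
  0, 0, 0, 0, 0, 0, 0, 0,
  0, 0, 0, 0, 0, 0, 0, 0]

theorem len3_3 : certs3_3.length = 32 := by decide +kernel

theorem part3_3 : chkFrom prob 864 certs3_3 = true := by decide +kernel

def certs3_4 : List ℕ :=
  [0, 0, 0, 0, 0, 0, 0, 0,
  0, 0, 0, 0, 0, 0, 0, 0,
  0, 0, 0, 0, 0, 0, 0, 0,
  0, 0, 0, 0, 0, 0, 0, 0]

theorem len3_4 : certs3_4.length = 32 := by decide +kernel

theorem part3_4 : chkFrom prob 896 certs3_4 = true := by decide +kernel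

def certs3_5 : List ℕ :=
  [0, 0, 0, 0, 0, 0, 0, 0,
  0, 0, 0, 0, 0, 0, 0, 0,
  0, 0, 0, 0, 0, 0, 0, 0,
  0, 0, 0, 0, 0, 0, 0, 0]

theorem len3_5 : certs3_5.length = 32 := by decide +kernel

theorem part3_5 : chkFrom prob 928 certs3_5 = true := by decide +kernel

def certs3_6 : List ℕ :=
  [0, 0, 0, 0, 0, 0, 0, 0,
  0, 0, 0, 0, 0, 0, 0, 0,
  0, 0, 0, 0, 0, 0, 0, 0,
  0, 0, 0, 0, 0, 0, 0, 0]

theorem len3_6 : certs3_6.length = 32 := by decide +kernel

theorem part3_6 : chkFrom prob 960 certs3_6 = true := by decide +kernel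

def certs3_7 : List ℕ :=
  [0, 0, 0, 0, 0, 0, 0, 0,
  0, 0, 0, 0, 0, 0, 0, 0,
  0, 0, 0, 0, 0, 0, 0, 0,
  0, 0, 0, 0, 0, 0, 0, 0]

theorem len3_7 : certs3_7.length = 32 := by decide +kernel

theorem part3_7 : chkFrom prob 992 certs3_7 = true := by decide +kernel

theorem part3 : ∀ c, 768 ≤ c → c < 1024 → ∃ cert, chkChunk prob c cert = true := by
  intro c h1 h2
  obtain ⟨j, hj⟩ : ∃ j, j = (c - 768) / 32 := ⟨_, rfl⟩
  have hj' : j < 8 := by omega
  interval_cases j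
  · exact chkFrom_sound prob certs3_0 768 part3_0 c (by omega) (by rw [len3_0]; omega)
  · exact chkFrom_sound prob certs3_1 800 part3_1 c (by omega) (by rw [len3_1]; omega)
  · exact chkFrom_sound prob certs3_2 832 part3_2 c (by omega) (by rw [len3_2]; omega)
  · exact chkFrom_sound prob certs3_3 864 part3_3 c (by omega) (by rw [len3_3]; omega)
  · exact chkFrom_sound prob certs3_4 896 part3_4 c (by omega) (by rw [len3_4]; omega)
  · exact chkFrom_sound prob certs3_5 928 part3_5 c (by omega) (by rw [len3_5]; omega)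
  · exact chkFrom_sound prob certs3_6 960 part3_6 c (by omega) (by rw [len3_6]; omega)
  · exact chkFrom_sound prob certs3_7 992 part3_7 c (by omega) (by rw [len3_7]; omega)

end Cfsg.Agent.Lib.Helper1.EnP14b
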