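import Mathlib
import Cfsg.Agent.Lib.Helper1.EnP14cDef

set_option autoImplicit false
set_option maxRecDepth 100000

namespace Cfsg.Agent.Lib.Helper1.EnP14c

open Cfsg Cfsg.Agent.Lib.Helper1.LeechEnum

def certs10_0 : List ℕ :=
  [0, 0, 0, 0, 0, 0, 0, 0,
  0, 0, 0, 0, 0, 0, 0, 0,
  0, 0, 0, 0, 0, 0, 0, 0,
  0, 0, 0, 0, 0, 0, 0, 0]

theorem len10_0 : certs10_0.length = 32 := by decide +kernel

theorem part10_0 : chkFrom prob 2560 certs10_0 = true := by decide +kernel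

def certs10_1 : List ℕ :=
  [0, 0, 0, 0, 0, 0, 0, 0,
  0, 0, 0, 0, 0, 0, 0, 0,
  0, 0, 0, 0, 0, 0, 0, 0,
  0, 0, 0, 0, 0, 0, 0, 0]

theorem len10_1 : certs10_1.length = 32 := by decide +kernel

theorem part10_1 : chkFrom prob 2592 certs10_1 = true := by decide +kernel

def certs10_2 : List ℕ :=
  [0, 0, 0, 0, 0, 0, 0, 0,
  0, 0, 0, 0, 0, 0, 0, 0,
  0, 0, 0, 0, 0, 0, 0, 0,
  0, 0, 0, 0, 0, 0, 0, 0]

theorem len10_2 : certs10_2.length = 32 := by decide +kernel

theorem part10_2 : chkFrom prob 2624 certs10_2 = true := by decide +kernel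

def certs10_3 : List ℕ :=
  [0, 0, 0, 0, 0, 0, 0, 0,
  0, 0, 0, 0, 0, 0, 0, 0,
  0, 0, 0, 0, 0, 0, 0, 0,
  0, 0, 0, 0, 0, 0, 0, 0]

theorem len10_3 : certs10_3.length = 32 := by decide +kernel

theorem part10_3 : chkFrom prob 2656 certs10_3 = true := by decide +kernel

def certs10_4 : List ℕ :=
  [0, 0, 0, 0, 0, 0, 0, 0,
  0, 0, 0, 0, 0, 0, 0, 0,
  0, 0, 0, 0, 0, 0, 0, 0,
  0, 0, 0, 0, 0, 0, 0, 0]

theorem len10_4 : certs10_4.length = 32 := by decide +kernel

theorem part10_4 : chkFrom prob 2688 certs10_4 = true := by decide +kernel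

def certs10_5 : List ℕ :=
  [0, 0, 0, 0, 0, 0, 0, 0,
  0, 0, 0, 0, 0, 0, 0, 0,
  0, 0, 0, 0, 0, 0, 0, 0,
  0, 0, 0, 0, 0, 0, 0, 0]

theorem len10_5 : certs10_5.length = 32 := by decide +kernel

theorem part10_5 : chkFrom prob 2720 certs10_5 = true := by decide +kernel

def certs10_6 : List ℕ :=
  [0, 0, 0, 0, 0, 0, 0, 0,
  0, 0, 0, 0, 0, 0, 0, 0,
  0, 0, 0, 0, 0, 0, 0, 0,
  0, 0, 0, 0, 0, 0, 0, 0]

theorem len10_6 : certs10_6.length = 32 := by decide +kernel

theorem part10_6 : chkFrom prob 2752 certs10_6 = true := by decide +kernel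

def certs10_7 : List ℕ :=
  [0, 0, 0, 0, 0, 0, 0, 0,
  0, 0, 0, 0, 0, 0, 0, 0,
  0, 0, 0, 0, 0, 0, 0, 0,
  0, 0, 0, 0, 0, 0, 0, 0]

theorem len10_7 : certs10_7.length = 32 := by decide +kernel

theorem part10_7 : chkFrom prob 2784 certs10_7 = true := by decide +kernel

theorem part10 : ∀ c, 2560 ≤ c → c < 2816 → ∃ cert, chkChunk prob c cert = true := by
  intro c h1 h2
  obtain ⟨j, hj⟩ : ∃ j, j = (c - 2560) / 32 := ⟨_, rfl⟩
  have hj' : j < 8 := by omega
  interval_cases j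
  · exact chkFrom_sound prob certs10_0 2560 part10_0 c (by omega) (by rw [len10_0]; omega)
  · exact chkFrom_sound prob certs10_1 2592 part10_1 c (by omega) (by rw [len10_1]; omega)
  · exact chkFrom_sound prob certs10_2 2624 part10_2 c (by omega) (by rw [len10_2]; omega)
  · exact chkFrom_sound prob certs10_3 2656 part10_3 c (by omega) (by rw [len10_3]; omega)
  · exact chkFrom_sound prob certs10_4 2688 part10_4 c (by omega) (by rw [len10_4]; omega)
  · exact chkFrom_sound prob certs10_5 2720 part10_5 c (by omega) (by rw [len10_5]; omega)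
  · exact chkFrom_sound prob certs10_6 2752 part10_6 c (by omega) (by rw [len10_6]; omega)
  · exact chkFrom_sound prob certs10_7 2784 part10_7 c (by omega) (by rw [len10_7]; omega)

end Cfsg.Agent.Lib.Helper1.EnP14c
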