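import Mathlib
import Cfsg.Agent.Lib.Helper1.EnP14cDef

set_option autoImplicit false
set_option maxRecDepth 100000

namespace Cfsg.Agent.Lib.Helper1.EnP14c

open Cfsg Cfsg.Agent.Lib.Helper1.LeechEnum

def certs8_0 : List ℕ :=
  [0, 0, 0, 0, 0, 0, 0, 0,
  0, 0, 0, 0, 0, 0, 0, 0,
  0, 0, 0, 0, 0, 0, 0, 0,
  0, 0, 0, 0, 0, 0, 0, 0]

theorem len8_0 : certs8_0.length = 32 := by decide +kernel

theorem part8_0 : chkFrom prob 2048 certs8_0 = true := by decide +kernel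

def certs8_1 : List ℕ :=
  [0, 0, 0, 0, 0, 0, 0, 0,
  0, 0, 0, 0, 0, 0, 0, 0,
  0, 0, 0, 0, 0, 0, 0, 0,
  0, 0, 0, 0, 0, 0, 0, 0]

theorem len8_1 : certs8_1.length = 32 := by decide +kernel

theorem part8_1 : chkFrom prob 2080 certs8_1 = true := by decide +kernel

def certs8_2 : List ℕ :=
  [0, 0, 0, 0, 0, 0, 0, 0,
  0, 0, 0, 0, 0, 0, 0, 0,
  0, 0, 0, 0, 0, 0, 0, 0,
  0, 0, 0, 0, 0, 0, 0, 0]

theorem len8_2 : certs8_2.length = 32 := by decide +kernel

theorem part8_2 : chkFrom prob 2112 certs8_2 = true := by decide +kernel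

def certs8_3 : List ℕ :=
  [0, 0, 0, 0, 0, 0, 0, 0,
  0, 0, 0, 0, 0, 0, 0, 0,
  0, 0, 0, 0, 0, 0, 0, 0,
  0, 0, 0, 0, 0, 0, 0, 0]

theorem len8_3 : certs8_3.length = 32 := by decide +kernel

theorem part8_3 : chkFrom prob 2144 certs8_3 = true := by decide +kernel

def certs8_4 : List ℕ :=
  [0, 0, 0, 0, 0, 0, 0, 0,
  0, 0, 0, 0, 0, 0, 0, 0,
  0, 0, 0, 0, 0, 0, 0, 0,
  0, 0, 0, 0, 0, 0, 0, 0]

theorem len8_4 : certs8_4.length = 32 := by decide +kernel

theorem part8_4 : chkFrom prob 2176 certs8_4 = true := by decide +kernel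

def certs8_5 : List ℕ :=
  [0, 0, 0, 0, 0, 0, 0, 0,
  0, 0, 0, 0, 0, 0, 0, 0,
  0, 0, 0, 0, 0, 0, 0, 0,
  0, 0, 0, 0, 0, 0, 0, 0]

theorem len8_5 : certs8_5.length = 32 := by decide +kernel

theorem part8_5 : chkFrom prob 2208 certs8_5 = true := by decide +kernel

def certs8_6 : List ℕ :=
  [0, 0, 0, 0, 0, 0, 0, 0,
  0, 0, 0, 0, 0, 0, 0, 0,
  0, 0, 0, 0, 0, 0, 0, 0,
  0, 0, 0, 0, 0, 0, 0, 0]

theorem len8_6 : certs8_6.length = 32 := by decide +kernel

theorem part8_6 : chkFrom prob 2240 certs8_6 = true := by decide +kernel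

def certs8_7 : List ℕ :=
  [0, 0, 0, 0, 0, 0, 0, 0,
  0, 0, 0, 0, 0, 0, 0, 0,
  0, 0, 0, 0, 0, 0, 0, 0,
  0, 0, 0, 0, 0, 0, 0, 0]

theorem len8_7 : certs8_7.length = 32 := by decide +kernel

theorem part8_7 : chkFrom prob 2272 certs8_7 = true := by decide +kernel

theorem part8 : ∀ c, 2048 ≤ c → c < 2304 → ∃ cert, chkChunk prob c cert = true := by
  intro c h1 h2
  obtain ⟨j, hj⟩ : ∃ j, j = (c - 2048) / 32 := ⟨_, rfl⟩
  have hj' : j < 8 := by omega
  interval_cases j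
  · exact chkFrom_sound prob certs8_0 2048 part8_0 c (by omega) (by rw [len8_0]; omega)
  · exact chkFrom_sound prob certs8_1 2080 part8_1 c (by omega) (by rw [len8_1]; omega)
  · exact chkFrom_sound prob certs8_2 2112 part8_2 c (by omega) (by rw [len8_2]; omega)
  · exact chkFrom_sound prob certs8_3 2144 part8_3 c (by omega) (by rw [len8_3]; omega)
  · exact chkFrom_sound prob certs8_4 2176 part8_4 c (by omega) (by rw [len8_4]; omega)
  · exact chkFrom_sound prob certs8_5 2208 part8_5 c (by omega) (by rw [len8_5]; omega)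
  · exact chkFrom_sound prob certs8_6 2240 part8_6 c (by omega) (by rw [len8_6]; omega)
  · exact chkFrom_sound prob certs8_7 2272 part8_7 c (by omega) (by rw [len8_7]; omega)

end Cfsg.Agent.Lib.Helper1.EnP14c
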