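import Mathlib
import Cfsg.Agent.Lib.Helper5.Srch3

set_option autoImplicit false

/-! Checks of stabilizer chains of permutation models on many points, level by level, with the
distinctness of the images of a base point checked with a bit mask. -/

namespace Cfsg.Agent.Lib.Helper1.PMChk

open Cfsg.Agent.Lib.Helper6.TC Cfsg.Agent.Lib.Helper6.PM Cfsg.Agent.Lib.Helper2.PMS
open Cfsg.Agent.Lib.Helper5.Chain Cfsg.Agent.Lib.Helper5.Srch

/-- distinctness of the entries of a list of numbers, with a bit mask -/
def nodupGo : List ℕ → ℕ → Bool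
  | [], _ => true
  | x :: l, m => !(m.testBit x) && nodupGo l (m ||| (1 <<< x))

theorem nodupGo_sound : ∀ (l : List ℕ) (m : ℕ), nodupGo l m = true →
    l.Nodup ∧ ∀ x ∈ l, m.testBit x = false
  | [], _, _ => ⟨List.nodup_nil, fun _ h => absurd h List.not_mem_nil⟩
  | x :: l, m, h => by
    unfold nodupGo at h
    rw [Bool.and_eq_true, Bool.not_eq_true'] at h
    obtain ⟨h1, h2⟩ := h
    obtain ⟨ih1, ih2⟩ := nodupGo_sound l (m ||| (1 <<< x)) h2
    have hx : x ∉ l := by
      intro hx
      have := ih2 x hx
      rw [Nat.testBit_or, Nat.one_shiftLeft, Nat.testBit_two_pow_self, Bool.or_true] at this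
      exact Bool.noConfusion this
    refine ⟨List.nodup_cons.mpr ⟨hx, ih1⟩, ?_⟩
    intro y hy
    rcases List.mem_cons.mp hy with rfl | hy
    · exact h1
    · have := ih2 y hy
      rw [Nat.testBit_or, Bool.or_eq_false_iff] at this
      exact this.1

/-- distinctness of the entries of a list of numbers -/
def nodupB (l : List ℕ) : Bool := nodupGo l 0

theorem nodupB_sound (l : List ℕ) (h : nodupB l = true) : l.Nodup := (nodupGo_sound l 0 h).1

/-- the check of one level of a chain: the words of the level move the base point to distinct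
points, and the words of the deeper levels fix it -/
noncomputable def chkLevel (px : ℕ → ℕ → ℕ) (b : ℕ) (L : List (List ℕ))
    (Ls : List (List (List ℕ))) : Bool :=
  nodupB (L.map fun w => wappS px w b) && Ls.all fun Lj => Lj.all fun w => Nat.beq (wappS px w b) b

theorem isChain_cons (px : ℕ → ℕ → ℕ) (b : ℕ) (bs : List ℕ) (L : List (List ℕ))
    (Ls : List (List (List ℕ))) (h : chkLevel px b L Ls = true) (h' : IsChain px bs Ls) :
    IsChain px (b :: bs) (L :: Ls) := by
  unfold chkLevel at h
  rw [Bool.and_eq_true, List.all_eq_true] at h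
  obtain ⟨h1, h2⟩ := h
  refine ⟨?_, ?_, h'⟩
  · have e : (L.map fun w => wappS px w b) = L.map fun w => wapp px w b :=
      List.map_congr_left fun w _ => wappS_eq px w b
    rw [← e]
    exact nodupB_sound _ h1
  · intro Lj hLj w hw
    have h3 := h2 Lj hLj
    rw [List.all_eq_true] at h3
    rw [← wappS_eq]
    exact Nat.eq_of_beq_eq_true (h3 w hw)

theorem isChain_nil (px : ℕ → ℕ → ℕ) : IsChain px [] [] := trivial

/-- a check on a range from the checks of its elements -/
theorem chkRange_of_forall (f : ℕ → Bool) : ∀ (k lo : ℕ),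
    (∀ i, lo ≤ i → i < lo + k → f i = true) → chkRange f lo k = true
  | 0, _, _ => rfl
  | k + 1, lo, h => by
    unfold chkRange
    rw [Bool.and_eq_true]
    exact ⟨h lo le_rfl (by omega),
      chkRange_of_forall f k (lo + 1) fun i h1 h2 => h i (by omega) (by omega)⟩

end Cfsg.Agent.Lib.Helper1.PMChk
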