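import Mathlib
import Cfsg.Agent.Lib.Helper1.Co2B2
import Cfsg.Agent.Lib.Helper1.EnC11a
import Cfsg.Agent.Lib.Helper1.LeechEnum13
import Cfsg.Agent.S1573

set_option autoImplicit false
set_option maxRecDepth 100000

/-! The second Conway group as a permutation group on 2300 points: the vectors. -/

namespace Cfsg.Agent.Lib.Helper1.Co2B

open Cfsg MulAction Cfsg.Agent.Lib.Helper1 Cfsg.Agent.Lib.Helper1.LeechEnum
  Cfsg.Agent.Lib.Helper1.LeechConn Cfsg.Agent.Lib.Helper1.LeechAut

/-- the condition defining the 4600 vectors -/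
def CC (z : GolayPt → ℤ) : Prop := dotInt Cfsg.Spor.vecU z = -16

/-- the 4600 vectors -/
def OmF : Set (GolayPt → ℤ) := {z | z ∈ leechLattice ∧ sqNorm z = 32 ∧ CC z}

theorem OmF_ncard : OmF.ncard = 4600 :=
  EnC11a.census (fun z => dotInt Cfsg.Spor.vecU z = -16) Cfsg.Agent.S1573.cond_iff_a

theorem hY : ∀ y ∈ [pU], Good y := by
  intro y hy
  have : y = pU := by simpa using hy
  subst this
  exact good_pU

/-- what is preserved by the generators -/
theorem tracks_step {f : ℕ → ℕ} (hf : TracksFix [pU] f) {v : ℕ} (hv : Good v) :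
    Good (f v) ∧ sqNorm (vec (f v)) = sqNorm (vec v) ∧
      dotInt Cfsg.Spor.vecU (vec (f v)) = dotInt Cfsg.Spor.vecU (vec v) := by
  obtain ⟨F, hF, hFY, hFv⟩ := hf
  have h1 := hFv v hv
  have hu : F Cfsg.Spor.vecU = Cfsg.Spor.vecU := by
    have := hFY pU (by simp)
    rwa [vec_pU] at this
  obtain ⟨g, hg⟩ := hF
  have e0 := hg ⟨vec v, hv.1⟩
  have e2 := hg Cfsg.Spor.leechU
  refine ⟨IsAct.good ⟨g, hg⟩ hv h1, ?_, ?_⟩
  · rw [h1]
    exact IsAct.sqNorm ⟨g, hg⟩ hv.1
  · have := smul_dot g Cfsg.Spor.leechU ⟨vec v, hv.1⟩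
    rw [e0, e2] at this
    rw [h1]
    have hu' : F (Cfsg.Spor.leechU : GolayPt → ℤ) = Cfsg.Spor.vecU := hu
    rw [hu'] at this
    exact this

theorem tracks_gOf (c : ℕ) : TracksFix [pU] (applyGen (gOf c)) := by
  cases c with
  | zero => exact genOK_sound hY ga_ok
  | succ n => exact genOK_sound hY gb_ok

theorem vec_pR : vec pR = -vecX1 := by
  funext p; revert p; decide +kernel

theorem good_pR : Good pR := by
  unfold Good
  rw [vec_pR]
  refine ⟨leechLattice.neg_mem vecX1_mem, ?_⟩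
  rw [norm_neg, vecX1_norm]
  norm_num

theorem CC_root : CC (vec pR) := by
  unfold CC
  rw [vec_pR]
  decide +kernel

/-- the vectors of the list are among the 4600 vectors -/
theorem vL_props_aux : ∀ r i, i < 4600 → rk i = r →
    Good (vL i) ∧ sqNorm (vec (vL i)) = 32 ∧ CC (vec (vL i)) := by
  intro r
  induction r using Nat.strong_induction_on with
  | _ r ih =>
    intro i hi hr
    have h := (allB_iff _ _).mp tree_ok i hi
    rw [Bool.or_eq_true] at h
    rcases h with h | h
    · have hi0 : i = 21 := (nbeq_iff _ _).mp h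
      rw [hi0, vL_root]
      refine ⟨good_pR, ?_, CC_root⟩
      rw [vec_pR, norm_neg]
      exact vecX1_norm
    · rw [Bool.and_eq_true, Bool.and_eq_true] at h
      have h1 := (nbeq_iff _ _).mp h.1.1
      have h2 : rk (par i) < rk i := by
        have := h.1.2
        rwa [Nat.blt_eq] at this
      have h3 : par i < 4600 := by
        have := h.2
        rwa [Nat.blt_eq] at this
      obtain ⟨hg, hn, hc⟩ := ih (rk (par i)) (hr ▸ h2) (par i) h3 rfl
      obtain ⟨a, b, c⟩ := tracks_step (tracks_gOf (parg i)) hg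
      rw [h1] at a b c
      exact ⟨a, by rw [b, hn], by unfold CC; rw [c]; exact hc⟩

theorem vL_props (i : ℕ) (hi : i < 4600) :
    Good (vL i) ∧ sqNorm (vec (vL i)) = 32 ∧ CC (vec (vL i)) :=
  vL_props_aux (rk i) i hi rfl

end Cfsg.Agent.Lib.Helper1.Co2B
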