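import Mathlib
import Cfsg.Agent.Lib.Helper1.Co2B4

set_option autoImplicit false
set_option maxRecDepth 100000

/-! The second Conway group as a permutation group on 2300 points: the two generators. -/

namespace Cfsg.Agent.Lib.Helper1.Co2B

open Cfsg MulAction Cfsg.Agent.Lib.Helper1 Cfsg.Agent.Lib.Helper1.LeechEnum
  Cfsg.Agent.Lib.Helper1.LeechConn Cfsg.Agent.Lib.Helper1.LeechAut

theorem isCo2_M0 : IsCo2 M0 := Cfsg.Agent.S0402.result Cfsg.Spor.leechU vecU_norm

instance : IsSimpleGroup M0 := isCo2_M0.1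

theorem card_M0 : Nat.card M0 = 42305421312000 := isCo2_M0.2

instance : Finite M0 := Nat.finite_of_card_ne_zero (by rw [card_M0]; norm_num)

/-- the generators as elements of the stabilizer -/
theorem exists_elt (c : ℕ) : ∃ g : M0, ∀ v (hv : Good v),
    ((g.1 • (⟨vec v, hv.1⟩ : leechLattice) : leechLattice) : GolayPt → ℤ) =
      vec (applyGen (gOf c) v) := by
  obtain ⟨F, ⟨g, hg⟩, hFY, hFv⟩ := tracks_gOf c
  have hu : F Cfsg.Spor.vecU = Cfsg.Spor.vecU := by
    have := hFY pU (by simp)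
    rwa [vec_pU] at this
  have hgM : g ∈ M0 := by
    rw [mem_M0]
    apply Subtype.ext
    rw [hg Cfsg.Spor.leechU]
    exact hu
  refine ⟨⟨g, hgM⟩, fun v hv => ?_⟩
  rw [hg, hFv v hv]

/-- the first generator -/
noncomputable def gA : M0 := Classical.choose (exists_elt 0)

/-- the second generator -/
noncomputable def gB : M0 := Classical.choose (exists_elt 1)

theorem gA_spec (v : ℕ) (hv : Good v) :
    ((gA.1 • (⟨vec v, hv.1⟩ : leechLattice) : leechLattice) : GolayPt → ℤ) = vec (applyGen ga v) :=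
  Classical.choose_spec (exists_elt 0) v hv

theorem gB_spec (v : ℕ) (hv : Good v) :
    ((gB.1 • (⟨vec v, hv.1⟩ : leechLattice) : leechLattice) : GolayPt → ℤ) = vec (applyGen gb v) :=
  Classical.choose_spec (exists_elt 1) v hv

theorem tA4_lt (i : ℕ) (hi : i < 2300) : tA4 i < 4600 := by
  have := (allB_iff _ _).mp actA_ok i hi
  rw [Bool.and_eq_true, Nat.blt_eq] at this
  exact this.2

theorem tB4_lt (i : ℕ) (hi : i < 2300) : tB4 i < 4600 := by
  have := (allB_iff _ _).mp actB_ok i hi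
  rw [Bool.and_eq_true, Nat.blt_eq] at this
  exact this.2

theorem phi4_gA (i : Fin 2300) : (phi4 gA (up i)).val = tA4 i.val := by
  have hlt := tA4_lt i.val i.isLt
  have : phi4 gA (up i) = ⟨tA4 i.val, hlt⟩ := by
    rw [phi4_eq_iff]
    apply Subtype.ext
    have h1 := gA_spec (vL i) (vL_props i (by have := i.isLt; omega)).1
    have h2 := (allB_iff _ _).mp actA_ok i i.isLt
    rw [Bool.and_eq_true, nbeq_iff] at h2
    rw [h2.1] at h1
    exact h1
  rw [this]

theorem phi4_gB (i : Fin 2300) : (phi4 gB (up i)).val = tB4 i.val := by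
  have hlt := tB4_lt i.val i.isLt
  have : phi4 gB (up i) = ⟨tB4 i.val, hlt⟩ := by
    rw [phi4_eq_iff]
    apply Subtype.ext
    have h1 := gB_spec (vL i) (vL_props i (by have := i.isLt; omega)).1
    have h2 := (allB_iff _ _).mp actB_ok i i.isLt
    rw [Bool.and_eq_true, nbeq_iff] at h2
    rw [h2.1] at h1
    exact h1
  rw [this]

/-- the first generator on the pairs -/
def tA (q : ℕ) : ℕ := qdN (tA4 q)

/-- the second generator on the pairs -/
def tB (q : ℕ) : ℕ := qdN (tB4 q)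

theorem phi_gA (i : Fin 2300) : (phi gA i).val = tA i.val := by
  rw [phi_apply]
  show qdN (phi4 gA (up i)).val = _
  rw [phi4_gA]
  rfl

theorem phi_gB (i : Fin 2300) : (phi gB i).val = tB i.val := by
  rw [phi_apply]
  show qdN (phi4 gB (up i)).val = _
  rw [phi4_gB]
  rfl

theorem tb_lt : ∀ i < 2300, tA i < 2300 ∧ tB i < 2300 ∧ tAi i < 2300 ∧ tBi i < 2300 := by
  intro i hi
  have := (allB_iff _ _).mp inv_ok i hi
  simp only [Bool.and_eq_true, Nat.blt_eq] at this
  exact ⟨qdN_lt _ (tA4_lt i hi), qdN_lt _ (tB4_lt i hi), this.1.1.1.1.1, this.1.1.1.1.2⟩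

theorem tb_inv : ∀ i < 2300, tA (tAi i) = i ∧ tAi (tA i) = i ∧
    tB (tBi i) = i ∧ tBi (tB i) = i := by
  intro i hi
  have := (allB_iff _ _).mp inv_ok i hi
  simp only [Bool.and_eq_true, nbeq_iff] at this
  exact ⟨this.1.1.1.2, this.1.1.2, this.1.2, this.2⟩

theorem phi_inv_of (g : M0) (l l' : ℕ → ℕ) (hg : ∀ i : Fin 2300, (phi g i).val = l i.val)
    (hlt : ∀ i < 2300, l' i < 2300) (hinv : ∀ i < 2300, l (l' i) = i) (i : Fin 2300) :
    ((phi g)⁻¹ i).val = l' i.val := by
  have : (phi g)⁻¹ i = ⟨l' i.val, hlt i.val i.isLt⟩ := by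
    rw [Equiv.Perm.inv_eq_iff_eq]
    apply Fin.ext
    rw [hg]
    exact (hinv i.val i.isLt).symm
  rw [this]

theorem phi_gA_inv (i : Fin 2300) : ((phi gA)⁻¹ i).val = tAi i.val :=
  phi_inv_of gA tA tAi phi_gA (fun i hi => (tb_lt i hi).2.2.1) (fun i hi => (tb_inv i hi).1) i

theorem phi_gB_inv (i : Fin 2300) : ((phi gB)⁻¹ i).val = tBi i.val :=
  phi_inv_of gB tB tBi phi_gB (fun i hi => (tb_lt i hi).2.2.2) (fun i hi => (tb_inv i hi).2.2.1) i

theorem tA_zero : tA 0 ≠ 0 := by decide +kernel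

theorem phi_injective : Function.Injective phi := by
  rw [← MonoidHom.ker_eq_bot_iff]
  rcases (phi.normal_ker).eq_bot_or_eq_top with h | h
  · exact h
  · exfalso
    have hA : gA ∈ phi.ker := by rw [h]; trivial
    rw [MonoidHom.mem_ker] at hA
    have := phi_gA 0
    rw [hA] at this
    exact tA_zero this.symm

end Cfsg.Agent.Lib.Helper1.Co2B
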