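import Mathlib
import Cfsg.Agent.Lib.Helper1.Co2B7
import Cfsg.Prelude.Def_Spor_Conway

set_option autoImplicit false
set_option maxRecDepth 100000

/-! The second Conway group of the definitions as a permutation group on 2300 points. -/

namespace Cfsg.Agent.Lib.Helper1.Co2B

open Cfsg MulAction Cfsg.Agent.Lib.Helper1 Cfsg.Agent.Lib.Helper1.MatCode
  Cfsg.Agent.Lib.Helper1.LeechEnum Cfsg.Agent.Lib.Helper1.LeechConn
open Cfsg.Agent.Lib.Helper6.TC Cfsg.Agent.Lib.Helper6.PM Cfsg.Agent.Lib.Helper2.PMS
open Cfsg.Agent.Lib.Helper5.Chain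

/-- transport of a model along an isomorphism -/
noncomputable def transport (M : PModel) {H : Type} [Group H] (e : H ≃* M.G) : PModel where
  G := H
  fin := Finite.of_equiv _ e.symm.toEquiv
  n := M.n
  nl := M.nl
  px := M.px
  elt := fun w => e.symm (M.elt w)
  phi := M.phi.comp e.toMonoidHom
  elt_nil := by rw [M.elt_nil, map_one]
  elt_append := fun u v => by rw [M.elt_append, map_mul]
  px_lt := M.px_lt
  phi_inv_val := by
    intro w hw p
    rw [MonoidHom.comp_apply, MulEquiv.coe_toMonoidHom, MulEquiv.apply_symm_apply]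
    exact M.phi_inv_val w hw p
  phi_injective := M.phi_injective.comp e.injective
  closure_letters := by
    have h := M.closure_letters
    have himg : e.symm.toMonoidHom '' {g : M.G | ∃ c < M.nl, g = M.elt [c]} =
        {g : H | ∃ c < M.nl, g = e.symm (M.elt [c])} := by
      ext g
      constructor
      · rintro ⟨_, ⟨c, hc, rfl⟩, rfl⟩
        exact ⟨c, hc, rfl⟩
      · rintro ⟨c, hc, rfl⟩
        exact ⟨_, ⟨c, hc, rfl⟩, rfl⟩
    rw [← himg, ← MonoidHom.map_closure, h, ← MonoidHom.range_eq_map]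
    exact MonoidHom.range_eq_top.mpr e.symm.surjective

theorem transport_G (M : PModel) {H : Type} [Group H] (e : H ≃* M.G) : (transport M e).G = H := rfl

/-- the element of a word -/
noncomputable def eltM (w : List ℕ) : M0 := wordProd LT w

theorem closure_eltM : Subgroup.closure {g : M0 | ∃ c < 4, g = eltM [c]} = ⊤ := by
  rw [eq_top_iff, ← CS_eq_top]
  show Subgroup.closure {gA, gB} ≤ _
  rw [Subgroup.closure_le]
  intro x hx
  have : x = gA ∨ x = gB := by simpa using hx
  apply Subgroup.subset_closure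
  rcases this with rfl | rfl
  · refine ⟨0, by norm_num, ?_⟩
    show _ = wordProd LT [0]
    rw [wordProd_cons, wordProd_nil, mul_one]
    rfl
  · refine ⟨1, by norm_num, ?_⟩
    show _ = wordProd LT [1]
    rw [wordProd_cons, wordProd_nil, mul_one]
    rfl

/-- the model of the stabilizer of the vector -/
noncomputable def co2M0 : PModel where
  G := M0
  n := 2300
  nl := 4
  px := px
  elt := eltM
  phi := phi
  elt_nil := wordProd_nil LT
  elt_append := wordProd_append LT
  px_lt := px_lt
  phi_inv_val := phi_inv_word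
  phi_injective := phi_injective
  closure_letters := closure_eltM

theorem mem_Co2_iff (g : Equiv.Perm leechLattice) : g ∈ Cfsg.Spor.Co2 ↔
    g ∈ Co0 ∧ g Cfsg.Spor.leechU = Cfsg.Spor.leechU := by
  unfold Cfsg.Spor.Co2
  rw [Subgroup.mem_inf, mem_stabilizer_iff]
  rfl

theorem mem_M0_iff (g : Co0) : g ∈ M0 ↔ g.1 Cfsg.Spor.leechU = Cfsg.Spor.leechU := mem_M0 g

/-- the group of the definitions as the stabilizer -/
def toM0 : ↥Cfsg.Spor.Co2 ≃* ↥M0 where
  toFun g := ⟨⟨g.1, ((mem_Co2_iff g.1).mp g.2).1⟩,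
    (mem_M0_iff _).mpr ((mem_Co2_iff g.1).mp g.2).2⟩
  invFun h := ⟨h.1.1, (mem_Co2_iff _).mpr ⟨h.1.2, (mem_M0_iff h.1).mp h.2⟩⟩
  left_inv _ := rfl
  right_inv _ := rfl
  map_mul' _ _ := rfl

/-- **the permutation model of the second Conway group of the definitions** on 2300 points (the
pairs of vectors `w, -u - w` where `w` runs through the 4600 minimal vectors with `⟨w, u⟩ = -16`
and `u = (4, 4, 0^22)` is the fixed vector), with letters `a, b, a⁻¹, b⁻¹` -/
noncomputable def co2M : PModel := transport co2M0 toM0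

theorem co2M_G : co2M.G = ↥Cfsg.Spor.Co2 := rfl

theorem co2M_n : co2M.n = 2300 := rfl

theorem co2M_nl : co2M.nl = 4 := rfl

theorem co2M_px : co2M.px = px := rfl

theorem card_Co2 : Nat.card ↥Cfsg.Spor.Co2 = 42305421312000 := by
  rw [Nat.card_congr toM0.toEquiv]
  exact card_M0

theorem isSimpleGroup_Co2 : IsSimpleGroup ↥Cfsg.Spor.Co2 := toM0.isSimpleGroup

end Cfsg.Agent.Lib.Helper1.Co2B
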