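import Mathlib
import Cfsg.Prelude.Def_KGroupFacts
import Cfsg.Agent.Lib.Helper1.Stem15

set_option autoImplicit false

/-! Stem extensions: the fibre product of two stem extensions with kernels of coprime orders. -/

namespace Cfsg.Agent.Lib.Helper1.Stem

section pullback

variable {Γ₁ Γ₂ G : Type*} [Group Γ₁] [Group Γ₂] [Group G] (σ₁ : Γ₁ →* G) (σ₂ : Γ₂ →* G)

/-- the fibre product of two homomorphisms to the same group -/
def fibreProd : Subgroup (Γ₁ × Γ₂) :=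
  MonoidHom.eqLocus (σ₁.comp (MonoidHom.fst Γ₁ Γ₂)) (σ₂.comp (MonoidHom.snd Γ₁ Γ₂))

theorem mem_fibreProd (x : Γ₁ × Γ₂) : x ∈ fibreProd σ₁ σ₂ ↔ σ₁ x.1 = σ₂ x.2 := Iff.rfl

/-- the homomorphism from the fibre product -/
def fibreHom : fibreProd σ₁ σ₂ →* G := (σ₁.comp (MonoidHom.fst Γ₁ Γ₂)).comp (fibreProd σ₁ σ₂).subtype

theorem fibreHom_apply (x : fibreProd σ₁ σ₂) : fibreHom σ₁ σ₂ x = σ₁ x.1.1 := rfl

theorem fibreHom_apply' (x : fibreProd σ₁ σ₂) : fibreHom σ₁ σ₂ x = σ₂ x.1.2 := x.2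

/-- the first projection -/
def fibreFst : fibreProd σ₁ σ₂ →* Γ₁ := (MonoidHom.fst Γ₁ Γ₂).comp (fibreProd σ₁ σ₂).subtype

/-- the second projection -/
def fibreSnd : fibreProd σ₁ σ₂ →* Γ₂ := (MonoidHom.snd Γ₁ Γ₂).comp (fibreProd σ₁ σ₂).subtype

theorem fibreFst_surjective (h₂ : Function.Surjective σ₂) : Function.Surjective (fibreFst σ₁ σ₂) := by
  intro a
  obtain ⟨b, hb⟩ := h₂ (σ₁ a)
  exact ⟨⟨(a, b), hb.symm⟩, rfl⟩

theorem fibreSnd_surjective (h₁ : Function.Surjective σ₁) : Function.Surjective (fibreSnd σ₁ σ₂) := by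
  intro b
  obtain ⟨a, ha⟩ := h₁ (σ₂ b)
  exact ⟨⟨(a, b), ha⟩, rfl⟩

theorem mem_ker_fibreHom (x : fibreProd σ₁ σ₂) :
    x ∈ (fibreHom σ₁ σ₂).ker ↔ x.1.1 ∈ σ₁.ker ∧ x.1.2 ∈ σ₂.ker := by
  rw [MonoidHom.mem_ker, MonoidHom.mem_ker, MonoidHom.mem_ker]
  constructor
  · intro h
    exact ⟨h, by rw [← fibreHom_apply' σ₁ σ₂ x]; exact h⟩
  · intro h
    exact h.1

/-- the kernel of the fibre product is the product of the kernels -/
def kerFibreEquiv : (fibreHom σ₁ σ₂).ker ≃* σ₁.ker × σ₂.ker where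
  toFun x := (⟨x.1.1.1, ((mem_ker_fibreHom σ₁ σ₂ x.1).mp x.2).1⟩,
    ⟨x.1.1.2, ((mem_ker_fibreHom σ₁ σ₂ x.1).mp x.2).2⟩)
  invFun y := ⟨⟨(y.1.1, y.2.1), by
      rw [mem_fibreProd]
      show σ₁ y.1.1 = σ₂ y.2.1
      rw [MonoidHom.mem_ker.mp y.1.2, MonoidHom.mem_ker.mp y.2.2]⟩, by
    rw [mem_ker_fibreHom]
    exact ⟨y.1.2, y.2.2⟩⟩
  left_inv x := rfl
  right_inv y := rfl
  map_mul' x y := rfl

theorem fibreHom_isStem [Finite Γ₁] [Finite Γ₂] (h₁ : Cfsg.IsStemExtension σ₁)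
    (h₂ : Cfsg.IsStemExtension σ₂) (hcop : Nat.Coprime (Nat.card σ₁.ker) (Nat.card σ₂.ker)) :
    Cfsg.IsStemExtension (fibreHom σ₁ σ₂) := by
  obtain ⟨hs₁, hc₁, hk₁⟩ := h₁
  obtain ⟨hs₂, hc₂, hk₂⟩ := h₂
  refine ⟨?_, ?_, ?_⟩
  · intro g
    obtain ⟨a, ha⟩ := hs₁ g
    obtain ⟨x, hx⟩ := fibreFst_surjective σ₁ σ₂ hs₂ a
    exact ⟨x, by rw [fibreHom_apply]; show σ₁ (fibreFst σ₁ σ₂ x) = g; rw [hx, ha]⟩
  · intro x hx
    rw [mem_ker_fibreHom] at hx
    rw [Subgroup.mem_center_iff]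
    intro y
    apply Subtype.ext
    apply Prod.ext
    · exact Subgroup.mem_center_iff.mp (hc₁ hx.1) y.1.1
    · exact Subgroup.mem_center_iff.mp (hc₂ hx.2) y.1.2
  · -- the kernel lies in the commutator subgroup
    set P := fibreProd σ₁ σ₂
    have hmap₁ : (commutator P).map (fibreFst σ₁ σ₂) = commutator Γ₁ := by
      rw [commutator_def, commutator_def, Subgroup.map_commutator, ← MonoidHom.range_eq_map,
        MonoidHom.range_eq_top.mpr (fibreFst_surjective σ₁ σ₂ hs₂)]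
    have hmap₂ : (commutator P).map (fibreSnd σ₁ σ₂) = commutator Γ₂ := by
      rw [commutator_def, commutator_def, Subgroup.map_commutator, ← MonoidHom.range_eq_map,
        MonoidHom.range_eq_top.mpr (fibreSnd_surjective σ₁ σ₂ hs₁)]
    set n₁ := Nat.card σ₁.ker with hn₁
    set n₂ := Nat.card σ₂.ker with hn₂
    have hpow₁ : ∀ a : Γ₁, a ∈ σ₁.ker → a ^ n₁ = 1 := by
      intro a ha
      have : (⟨a, ha⟩ : σ₁.ker) ^ Nat.card σ₁.ker = 1 := pow_card_eq_one'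
      exact congrArg Subtype.val this
    have hpow₂ : ∀ b : Γ₂, b ∈ σ₂.ker → b ^ n₂ = 1 := by
      intro b hb
      have : (⟨b, hb⟩ : σ₂.ker) ^ Nat.card σ₂.ker = 1 := pow_card_eq_one'
      exact congrArg Subtype.val this
    -- elements of the form (a, 1) and (1, b)
    have hA : ∀ a : Γ₁, ∀ ha : a ∈ σ₁.ker,
        (⟨(a, 1), by rw [mem_fibreProd]; show σ₁ a = σ₂ 1; rw [MonoidHom.mem_ker.mp ha, map_one]⟩ : P) ∈
          commutator P := by
      intro a ha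
      have ha' : a ∈ (commutator P).map (fibreFst σ₁ σ₂) := by rw [hmap₁]; exact hk₁ ha
      obtain ⟨w, hw, hwa⟩ := ha'
      -- w = (a, b) with b in the kernel
      have hb : w.1.2 ∈ σ₂.ker := by
        rw [MonoidHom.mem_ker, ← fibreHom_apply' σ₁ σ₂ w, fibreHom_apply]
        have : w.1.1 = a := hwa
        rw [this]; exact MonoidHom.mem_ker.mp ha
      -- a is a power of a ^ n₂
      obtain ⟨u, v, huv⟩ : ∃ u v : ℤ, (n₂ : ℤ) * u + (n₁ : ℤ) * v = 1 := by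
        have := Int.isCoprime_iff_gcd_eq_one.mpr (by
          rw [Int.gcd_natCast_natCast]; exact hcop.symm : Int.gcd (n₂ : ℤ) (n₁ : ℤ) = 1)
        obtain ⟨u, v, h⟩ := this
        exact ⟨u, v, by rw [← h]; ring⟩
      have h1 : (w ^ n₂) ^ u ∈ commutator P := Subgroup.zpow_mem _ (Subgroup.pow_mem _ hw _) _
      have h2 : (w ^ n₂) ^ u =
          (⟨(a, 1), by rw [mem_fibreProd]; show σ₁ a = σ₂ 1; rw [MonoidHom.mem_ker.mp ha, map_one]⟩ : P) := by
        apply Subtype.ext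
        apply Prod.ext
        · show ((w ^ n₂) ^ u).1.1 = a
          have e1 : ((w ^ n₂) ^ u).1.1 = (w.1.1 ^ n₂) ^ u := by
            show fibreFst σ₁ σ₂ ((w ^ n₂) ^ u) = _
            rw [map_zpow, map_pow]; rfl
          have e2 : w.1.1 = a := hwa
          rw [e1, e2]
          calc (a ^ n₂) ^ u = (a ^ n₂) ^ u * (a ^ n₁) ^ v := by rw [hpow₁ a ha, one_zpow, mul_one]
            _ = a ^ ((n₂ : ℤ) * u + (n₁ : ℤ) * v) := by
              rw [zpow_add, zpow_mul, zpow_mul, zpow_natCast, zpow_natCast]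
            _ = a := by rw [huv, zpow_one]
        · show ((w ^ n₂) ^ u).1.2 = 1
          have e1 : ((w ^ n₂) ^ u).1.2 = (w.1.2 ^ n₂) ^ u := by
            show fibreSnd σ₁ σ₂ ((w ^ n₂) ^ u) = _
            rw [map_zpow, map_pow]; rfl
          rw [e1, hpow₂ _ hb, one_zpow]
      rw [← h2]; exact h1
    have hB : ∀ b : Γ₂, ∀ hb : b ∈ σ₂.ker,
        (⟨(1, b), by rw [mem_fibreProd]; show σ₁ 1 = σ₂ b; rw [MonoidHom.mem_ker.mp hb, map_one]⟩ : P) ∈
          commutator P := by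
      intro b hb
      have hb' : b ∈ (commutator P).map (fibreSnd σ₁ σ₂) := by rw [hmap₂]; exact hk₂ hb
      obtain ⟨w, hw, hwb⟩ := hb'
      have ha : w.1.1 ∈ σ₁.ker := by
        rw [MonoidHom.mem_ker, ← fibreHom_apply σ₁ σ₂ w, fibreHom_apply']
        have : w.1.2 = b := hwb
        rw [this]; exact MonoidHom.mem_ker.mp hb
      obtain ⟨u, v, huv⟩ : ∃ u v : ℤ, (n₁ : ℤ) * u + (n₂ : ℤ) * v = 1 := by
        have := Int.isCoprime_iff_gcd_eq_one.mpr (by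
          rw [Int.gcd_natCast_natCast]; exact hcop : Int.gcd (n₁ : ℤ) (n₂ : ℤ) = 1)
        obtain ⟨u, v, h⟩ := this
        exact ⟨u, v, by rw [← h]; ring⟩
      have h1 : (w ^ n₁) ^ u ∈ commutator P := Subgroup.zpow_mem _ (Subgroup.pow_mem _ hw _) _
      have h2 : (w ^ n₁) ^ u =
          (⟨(1, b), by rw [mem_fibreProd]; show σ₁ 1 = σ₂ b; rw [MonoidHom.mem_ker.mp hb, map_one]⟩ : P) := by
        apply Subtype.ext
        apply Prod.ext
        · show ((w ^ n₁) ^ u).1.1 = 1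
          have e1 : ((w ^ n₁) ^ u).1.1 = (w.1.1 ^ n₁) ^ u := by
            show fibreFst σ₁ σ₂ ((w ^ n₁) ^ u) = _
            rw [map_zpow, map_pow]; rfl
          rw [e1, hpow₁ _ ha, one_zpow]
        · show ((w ^ n₁) ^ u).1.2 = b
          have e1 : ((w ^ n₁) ^ u).1.2 = (w.1.2 ^ n₁) ^ u := by
            show fibreSnd σ₁ σ₂ ((w ^ n₁) ^ u) = _
            rw [map_zpow, map_pow]; rfl
          have e2 : w.1.2 = b := hwb
          rw [e1, e2]
          calc (b ^ n₁) ^ u = (b ^ n₁) ^ u * (b ^ n₂) ^ v := by rw [hpow₂ b hb, one_zpow, mul_one]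
            _ = b ^ ((n₁ : ℤ) * u + (n₂ : ℤ) * v) := by
              rw [zpow_add, zpow_mul, zpow_mul, zpow_natCast, zpow_natCast]
            _ = b := by rw [huv, zpow_one]
      rw [← h2]; exact h1
    intro x hx
    rw [mem_ker_fibreHom] at hx
    have e : x = (⟨(x.1.1, 1), by
        rw [mem_fibreProd]; show σ₁ x.1.1 = σ₂ 1; rw [MonoidHom.mem_ker.mp hx.1, map_one]⟩ : P) *
        ⟨(1, x.1.2), by
          rw [mem_fibreProd]; show σ₁ 1 = σ₂ x.1.2; rw [MonoidHom.mem_ker.mp hx.2, map_one]⟩ := by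
      apply Subtype.ext
      apply Prod.ext
      · show x.1.1 = x.1.1 * 1
        rw [mul_one]
      · show x.1.2 = 1 * x.1.2
        rw [one_mul]
    rw [e]
    exact Subgroup.mul_mem _ (hA _ hx.1) (hB _ hx.2)

theorem fibreHom_ker_cyclic [Finite Γ₁] [Finite Γ₂] (hc₁ : IsCyclic σ₁.ker) (hc₂ : IsCyclic σ₂.ker)
    (hcop : Nat.Coprime (Nat.card σ₁.ker) (Nat.card σ₂.ker)) :
    IsCyclic (fibreHom σ₁ σ₂).ker ∧
      Nat.card (fibreHom σ₁ σ₂).ker = Nat.card σ₁.ker * Nat.card σ₂.ker := by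
  have e := kerFibreEquiv σ₁ σ₂
  have h1 : IsCyclic (σ₁.ker × σ₂.ker) := Group.isCyclic_prod_iff.mpr ⟨hc₁, hc₂, hcop⟩
  refine ⟨isCyclic_of_surjective e.symm.toMonoidHom e.symm.surjective, ?_⟩
  rw [Nat.card_congr e.toEquiv, Nat.card_prod]

end pullback

end Cfsg.Agent.Lib.Helper1.Stem
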