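import Mathlib
import Cfsg.Prelude.Def_KGroupFacts
import Cfsg.Agent.Lib.Helper1.Stem16

set_option autoImplicit false

/-! Stem extensions of a perfect central extension `G` of `Q`: the first projection of a fibre
product, the composite with the homomorphism to `Q`, and the resulting bounds. -/

namespace Cfsg.Agent.Lib.Helper1.Stem

open scoped commutatorElement

section pullback2

variable {Γ₁ Γ₂ G : Type*} [Group Γ₁] [Group Γ₂] [Group G] (σ₁ : Γ₁ →* G) (σ₂ : Γ₂ →* G)

theorem ker_fibreFst_le : (fibreFst σ₁ σ₂).ker ≤ (fibreHom σ₁ σ₂).ker := by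
  intro x hx
  rw [MonoidHom.mem_ker] at hx ⊢
  rw [fibreHom_apply]
  have : x.1.1 = 1 := hx
  rw [this, map_one]

/-- the kernel of the first projection -/
def kerFstEquiv : (fibreFst σ₁ σ₂).ker ≃* σ₂.ker where
  toFun x := ⟨x.1.1.2, by
    have h1 : x.1.1.1 = 1 := x.2
    have h2 : σ₁ x.1.1.1 = σ₂ x.1.1.2 := x.1.2
    rw [MonoidHom.mem_ker, ← h2, h1, map_one]⟩
  invFun y := ⟨⟨(1, y.1), by
    rw [mem_fibreProd]
    show σ₁ 1 = σ₂ y.1
    rw [map_one, MonoidHom.mem_ker.mp y.2]⟩, rfl⟩
  left_inv x := by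
    apply Subtype.ext
    apply Subtype.ext
    apply Prod.ext
    · exact (show x.1.1.1 = 1 from x.2).symm
    · rfl
  right_inv y := rfl
  map_mul' x y := rfl

/-- the first projection of the fibre product of two stem extensions with kernels of coprime
orders is a stem extension -/
theorem fibreFst_isStem [Finite Γ₁] [Finite Γ₂] (h₁ : Cfsg.IsStemExtension σ₁)
    (h₂ : Cfsg.IsStemExtension σ₂) (hcop : Nat.Coprime (Nat.card σ₁.ker) (Nat.card σ₂.ker)) :
    Cfsg.IsStemExtension (fibreFst σ₁ σ₂) := by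
  have h := fibreHom_isStem σ₁ σ₂ h₁ h₂ hcop
  exact ⟨fibreFst_surjective σ₁ σ₂ h₂.1, (ker_fibreFst_le σ₁ σ₂).trans h.2.1,
    (ker_fibreFst_le σ₁ σ₂).trans h.2.2⟩

end pullback2

section comp

variable {Γ G Q : Type*} [Group Γ] [Group G] [Group Q] (σ : Γ →* G) (τ : G →* Q)

/-- a stem extension of a perfect group is perfect -/
theorem perfect_of_stem (hσ : Cfsg.IsStemExtension σ) (hG : commutator G = ⊤) :
    commutator Γ = ⊤ := by
  rw [eq_top_iff]
  intro g _
  have h1 : σ g ∈ commutator G := by rw [hG]; exact Subgroup.mem_top _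
  have h2 : commutator G = (commutator Γ).map σ := by
    rw [commutator_def, commutator_def, Subgroup.map_commutator, ← MonoidHom.range_eq_map,
      MonoidHom.range_eq_top.mpr hσ.1]
  rw [h2] at h1
  obtain ⟨c, hc, hcg⟩ := h1
  have h3 : g * c⁻¹ ∈ σ.ker := by
    rw [MonoidHom.mem_ker, map_mul, map_inv, hcg, mul_inv_cancel]
  have h4 := hσ.2.2 h3
  have : g = g * c⁻¹ * c := by group
  rw [this]
  exact Subgroup.mul_mem _ h4 hc

/-- in a perfect group, an element whose commutators are all central is central -/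
theorem central_of_perfect (hΓ : commutator Γ = ⊤) (g : Γ)
    (hg : ∀ x : Γ, ⁅g, x⁆ ∈ Subgroup.center Γ) : g ∈ Subgroup.center Γ := by
  let ψ : Γ →* Γ := MonoidHom.mk' (fun x => ⁅g, x⁆) (by
    intro x y
    have hy := Subgroup.mem_center_iff.mp (hg y)
    calc ⁅g, x * y⁆ = ⁅g, x⁆ * (x * ⁅g, y⁆ * x⁻¹) := by
          simp only [commutatorElement_def]; group
      _ = ⁅g, x⁆ * ⁅g, y⁆ := by rw [hy x, mul_assoc, mul_inv_cancel, mul_one])
  have hψ : ∀ x, ψ x = ⁅g, x⁆ := fun _ => rfl
  have hker : commutator Γ ≤ ψ.ker := by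
    rw [commutator_def, Subgroup.commutator_le]
    intro a _ b _
    rw [MonoidHom.mem_ker, map_commutatorElement, commutatorElement_eq_one_iff_mul_comm, hψ b]
    exact Subgroup.mem_center_iff.mp (hg b) (ψ a)
  rw [hΓ] at hker
  rw [Subgroup.mem_center_iff]
  intro x
  have h1 : ψ x = 1 := hker (Subgroup.mem_top x)
  rw [hψ, commutatorElement_eq_one_iff_mul_comm] at h1
  exact h1.symm

/-- the composite of a stem extension of a perfect group `G` with a central quotient of `G` -/
theorem isStem_comp (hσ : Cfsg.IsStemExtension σ) (hτ : Function.Surjective τ)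
    (hτc : τ.ker ≤ Subgroup.center G) (hG : commutator G = ⊤) :
    Cfsg.IsStemExtension (τ.comp σ) := by
  have hΓ := perfect_of_stem σ hσ hG
  refine ⟨hτ.comp hσ.1, ?_, ?_⟩
  · intro g hg
    apply central_of_perfect hΓ
    intro x
    apply hσ.2.1
    rw [MonoidHom.mem_ker, map_commutatorElement, commutatorElement_eq_one_iff_mul_comm]
    have h1 : σ g ∈ τ.ker := hg
    exact (Subgroup.mem_center_iff.mp (hτc h1) (σ x)).symm
  · rw [hΓ]; exact le_top

/-- the order of a preimage -/
theorem card_comap_of_surjective [Finite Γ] (hs : Function.Surjective σ) (H : Subgroup G) :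
    Nat.card (H.comap σ) = Nat.card σ.ker * Nat.card H := by
  let f : H.comap σ →* H := σ.subgroupComap H
  have hf : Function.Surjective f := MonoidHom.subgroupComap_surjective_of_surjective σ H hs
  have h1 := Subgroup.card_mul_index f.ker
  rw [Subgroup.index_ker, MonoidHom.range_eq_top.mpr hf, Subgroup.card_top] at h1
  rw [← h1]
  congr 1
  apply Nat.card_congr
  exact
    { toFun := fun x => ⟨x.1.1, by
        have h2 := x.2
        rw [MonoidHom.mem_ker] at h2 ⊢
        exact congrArg Subtype.val h2⟩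
      invFun := fun y => ⟨⟨y.1, by
          rw [Subgroup.mem_comap, MonoidHom.mem_ker.mp y.2]; exact H.one_mem⟩, by
        rw [MonoidHom.mem_ker]
        apply Subtype.ext
        exact MonoidHom.mem_ker.mp y.2⟩
      left_inv := fun x => rfl
      right_inv := fun y => rfl }

/-- the bound for the stem extensions of `G` from the bound for those of `Q` -/
theorem ub_of_quotient [Finite Γ] (hσ : Cfsg.IsStemExtension σ) (N : ℕ)
    (hQ : IsCyclic (τ.comp σ).ker ∧ Nat.card (τ.comp σ).ker ∣ N) :
    IsCyclic σ.ker ∧ Nat.card σ.ker * Nat.card τ.ker ∣ N := by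
  obtain ⟨hc, hd⟩ := hQ
  have hle : σ.ker ≤ (τ.comp σ).ker := by
    intro x hx
    rw [MonoidHom.mem_ker] at hx ⊢
    rw [MonoidHom.comp_apply, hx, map_one]
  refine ⟨Subgroup.isCyclic_of_le hle, ?_⟩
  rw [← card_comap_of_surjective σ hσ.1 τ.ker, MonoidHom.comap_ker]
  exact hd

end comp

end Cfsg.Agent.Lib.Helper1.Stem
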