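import Mathlib
import Cfsg.Prelude.Def_KGroupFacts
import Cfsg.Agent.Lib.Helper1.Stem19

set_option autoImplicit false

/-! Stem extensions of a perfect group: the derived subgroup of the fibre product of two stem
extensions is a stem extension dominating both.  Consequence: a bound for the kernels of the
stem extensions with `p`-group kernel, attained by one with a cyclic kernel, makes all of them
cyclic of order dividing the bound. -/

namespace Cfsg.Agent.Lib.Helper1.Stem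

open scoped commutatorElement

universe u v

section universal

variable {Γ₁ Γ₂ : Type u} {G : Type v} [Group Γ₁] [Group Γ₂] [Group G]
  (σ₁ : Γ₁ →* G) (σ₂ : Γ₂ →* G)

/-- the derived subgroup of the fibre product, mapping to `G` -/
def derHom : commutator (fibreProd σ₁ σ₂) →* G :=
  (fibreHom σ₁ σ₂).comp (commutator (fibreProd σ₁ σ₂)).subtype

theorem derHom_apply (x : commutator (fibreProd σ₁ σ₂)) : derHom σ₁ σ₂ x = σ₁ x.1.1.1 := rfl

theorem fibreHom_surjective (h₁ : Function.Surjective σ₁) (h₂ : Function.Surjective σ₂) :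
    Function.Surjective (fibreHom σ₁ σ₂) := by
  intro g
  obtain ⟨a, ha⟩ := h₁ g
  obtain ⟨b, hb⟩ := h₂ g
  exact ⟨⟨(a, b), by rw [mem_fibreProd]; show σ₁ a = σ₂ b; rw [ha, hb]⟩, ha⟩

theorem ker_fibreHom_le_center (hc₁ : σ₁.ker ≤ Subgroup.center Γ₁)
    (hc₂ : σ₂.ker ≤ Subgroup.center Γ₂) :
    (fibreHom σ₁ σ₂).ker ≤ Subgroup.center (fibreProd σ₁ σ₂) := by
  intro x hx
  obtain ⟨h1, h2⟩ := (mem_ker_fibreHom σ₁ σ₂ x).mp hx
  rw [Subgroup.mem_center_iff]
  intro y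
  apply Subtype.ext
  apply Prod.ext
  · exact Subgroup.mem_center_iff.mp (hc₁ h1) y.1.1
  · exact Subgroup.mem_center_iff.mp (hc₂ h2) y.1.2

theorem map_commutator_of_surjective {A B : Type*} [Group A] [Group B] (f : A →* B)
    (hf : Function.Surjective f) : (commutator A).map f = commutator B := by
  rw [commutator_def, commutator_def, Subgroup.map_commutator, ← MonoidHom.range_eq_map,
    MonoidHom.range_eq_top.mpr hf]

theorem derHom_surjective (h₁ : Function.Surjective σ₁) (h₂ : Function.Surjective σ₂)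
    (hG : commutator G = ⊤) : Function.Surjective (derHom σ₁ σ₂) := by
  intro g
  have h := map_commutator_of_surjective (fibreHom σ₁ σ₂) (fibreHom_surjective σ₁ σ₂ h₁ h₂)
  have hg : g ∈ (commutator (fibreProd σ₁ σ₂)).map (fibreHom σ₁ σ₂) := by
    rw [h, hG]; exact Subgroup.mem_top g
  obtain ⟨d, hd, hdg⟩ := hg
  exact ⟨⟨d, hd⟩, hdg⟩

/-- every element of the fibre product is the product of a central element and an element of
the derived subgroup -/
theorem exists_central_mul (h₁ : Function.Surjective σ₁) (h₂ : Function.Surjective σ₂)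
    (hc₁ : σ₁.ker ≤ Subgroup.center Γ₁) (hc₂ : σ₂.ker ≤ Subgroup.center Γ₂)
    (hG : commutator G = ⊤) (x : fibreProd σ₁ σ₂) :
    ∃ z ∈ Subgroup.center (fibreProd σ₁ σ₂), ∃ d ∈ commutator (fibreProd σ₁ σ₂), x = z * d := by
  obtain ⟨d, hd⟩ := derHom_surjective σ₁ σ₂ h₁ h₂ hG (fibreHom σ₁ σ₂ x)
  refine ⟨x * d.1⁻¹, ?_, d.1, d.2, by group⟩
  apply ker_fibreHom_le_center σ₁ σ₂ hc₁ hc₂
  rw [MonoidHom.mem_ker, map_mul, map_inv]
  have : fibreHom σ₁ σ₂ d.1 = fibreHom σ₁ σ₂ x := hd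
  rw [this, mul_inv_cancel]

theorem commutator_der_eq_top (h₁ : Function.Surjective σ₁) (h₂ : Function.Surjective σ₂)
    (hc₁ : σ₁.ker ≤ Subgroup.center Γ₁) (hc₂ : σ₂.ker ≤ Subgroup.center Γ₂)
    (hG : commutator G = ⊤) : commutator (commutator (fibreProd σ₁ σ₂)) = ⊤ := by
  set D := commutator (fibreProd σ₁ σ₂) with hD
  have key : commutator (fibreProd σ₁ σ₂) ≤ (commutator D).map D.subtype := by
    rw [commutator_def, Subgroup.commutator_le]
    intro x _ y _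
    obtain ⟨z, hz, d, hd, rfl⟩ := exists_central_mul σ₁ σ₂ h₁ h₂ hc₁ hc₂ hG x
    obtain ⟨z', hz', d', hd', rfl⟩ := exists_central_mul σ₁ σ₂ h₁ h₂ hc₁ hc₂ hG y
    have e : ⁅z * d, z' * d'⁆ = ⁅d, d'⁆ := by
      have c1 := Subgroup.mem_center_iff.mp hz
      have c2 := Subgroup.mem_center_iff.mp hz'
      simp only [commutatorElement_def, mul_inv_rev]
      calc z * d * (z' * d') * (d⁻¹ * z⁻¹) * (d'⁻¹ * z'⁻¹)
          = (z * z⁻¹) * (z' * z'⁻¹) * (d * d' * d⁻¹ * d'⁻¹) := by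
            have c1' : ∀ g, g * z⁻¹ = z⁻¹ * g := fun g => by
              have := c1 g
              calc g * z⁻¹ = z⁻¹ * (z * g) * z⁻¹ := by group
                _ = z⁻¹ * (g * z) * z⁻¹ := by rw [this]
                _ = z⁻¹ * g := by group
            have c2' : ∀ g, g * z'⁻¹ = z'⁻¹ * g := fun g => by
              have := c2 g
              calc g * z'⁻¹ = z'⁻¹ * (z' * g) * z'⁻¹ := by group
                _ = z'⁻¹ * (g * z') * z'⁻¹ := by rw [this]
                _ = z'⁻¹ * g := by group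
            calc z * d * (z' * d') * (d⁻¹ * z⁻¹) * (d'⁻¹ * z'⁻¹)
                = z * d * z' * d' * d⁻¹ * z⁻¹ * d'⁻¹ * z'⁻¹ := by group
              _ = z * (d * z') * d' * d⁻¹ * z⁻¹ * d'⁻¹ * z'⁻¹ := by group
              _ = z * (z' * d) * d' * d⁻¹ * z⁻¹ * d'⁻¹ * z'⁻¹ := by rw [c2 d]
              _ = z * z' * ((d * d' * d⁻¹) * z⁻¹) * d'⁻¹ * z'⁻¹ := by group
              _ = z * z' * (z⁻¹ * (d * d' * d⁻¹)) * d'⁻¹ * z'⁻¹ := by rw [c1' (d * d' * d⁻¹)]
              _ = z * (z' * z⁻¹) * ((d * d' * d⁻¹ * d'⁻¹) * z'⁻¹) := by group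
              _ = z * (z⁻¹ * z') * (z'⁻¹ * (d * d' * d⁻¹ * d'⁻¹)) := by
                    rw [c1' z', c2' (d * d' * d⁻¹ * d'⁻¹)]
              _ = (z * z⁻¹) * (z' * z'⁻¹) * (d * d' * d⁻¹ * d'⁻¹) := by group
        _ = d * d' * d⁻¹ * d'⁻¹ := by rw [mul_inv_cancel, mul_inv_cancel, one_mul, one_mul]
    rw [e]
    refine ⟨⁅(⟨d, hd⟩ : D), (⟨d', hd'⟩ : D)⁆, ?_, rfl⟩
    rw [commutator_def]
    exact Subgroup.commutator_mem_commutator (Subgroup.mem_top _) (Subgroup.mem_top _)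
  rw [eq_top_iff]
  intro w _
  obtain ⟨w', hw', hww⟩ := key w.2
  have : w' = w := Subtype.ext hww
  rw [← this]; exact hw'

theorem derHom_isStem (h₁ : Function.Surjective σ₁) (h₂ : Function.Surjective σ₂)
    (hc₁ : σ₁.ker ≤ Subgroup.center Γ₁) (hc₂ : σ₂.ker ≤ Subgroup.center Γ₂)
    (hG : commutator G = ⊤) : Cfsg.IsStemExtension (derHom σ₁ σ₂) := by
  refine ⟨derHom_surjective σ₁ σ₂ h₁ h₂ hG, ?_, ?_⟩
  · intro x hx
    have hx' : x.1 ∈ (fibreHom σ₁ σ₂).ker := hx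
    have hc := Subgroup.mem_center_iff.mp (ker_fibreHom_le_center σ₁ σ₂ hc₁ hc₂ hx')
    rw [Subgroup.mem_center_iff]
    intro y
    exact Subtype.ext (hc y.1)
  · rw [commutator_der_eq_top σ₁ σ₂ h₁ h₂ hc₁ hc₂ hG]; exact le_top

theorem derHom_ker_isPGroup (p : ℕ) (hp₁ : IsPGroup p σ₁.ker) (hp₂ : IsPGroup p σ₂.ker) :
    IsPGroup p (derHom σ₁ σ₂).ker := by
  intro x
  have hx : x.1.1 ∈ (fibreHom σ₁ σ₂).ker := x.2
  obtain ⟨h1, h2⟩ := (mem_ker_fibreHom σ₁ σ₂ x.1.1).mp hx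
  obtain ⟨a, ha⟩ := hp₁ ⟨_, h1⟩
  obtain ⟨b, hb⟩ := hp₂ ⟨_, h2⟩
  have ha' : x.1.1.1.1 ^ p ^ a = 1 := congrArg Subtype.val ha
  have hb' : x.1.1.1.2 ^ p ^ b = 1 := congrArg Subtype.val hb
  refine ⟨a + b, ?_⟩
  apply Subtype.ext
  apply Subtype.ext
  apply Subtype.ext
  apply Prod.ext
  · show x.1.1.1.1 ^ p ^ (a + b) = 1
    rw [pow_add, pow_mul, ha', one_pow]
  · show x.1.1.1.2 ^ p ^ (a + b) = 1
    rw [pow_add, mul_comm, pow_mul, hb', one_pow]

/-- the projection of the kernel to the kernel of the second factor -/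
def derKerSnd : (derHom σ₁ σ₂).ker →* σ₂.ker where
  toFun x := ⟨x.1.1.1.2, ((mem_ker_fibreHom σ₁ σ₂ x.1.1).mp x.2).2⟩
  map_one' := rfl
  map_mul' _ _ := rfl

/-- the projection of the kernel to the kernel of the first factor -/
def derKerFst : (derHom σ₁ σ₂).ker →* σ₁.ker where
  toFun x := ⟨x.1.1.1.1, ((mem_ker_fibreHom σ₁ σ₂ x.1.1).mp x.2).1⟩
  map_one' := rfl
  map_mul' _ _ := rfl

theorem derKerSnd_surjective (h₁ : Function.Surjective σ₁) (hΓ₂ : commutator Γ₂ = ⊤) :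
    Function.Surjective (derKerSnd σ₁ σ₂) := by
  intro c
  have h := map_commutator_of_surjective (fibreSnd σ₁ σ₂) (fibreSnd_surjective σ₁ σ₂ h₁)
  have hc : c.1 ∈ (commutator (fibreProd σ₁ σ₂)).map (fibreSnd σ₁ σ₂) := by
    rw [h, hΓ₂]; exact Subgroup.mem_top _
  obtain ⟨d, hd, hdc⟩ := hc
  refine ⟨⟨⟨d, hd⟩, ?_⟩, Subtype.ext hdc⟩
  rw [MonoidHom.mem_ker]
  show fibreHom σ₁ σ₂ d = 1
  rw [fibreHom_apply']
  have : d.1.2 = c.1 := hdc
  rw [this]; exact c.2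

theorem derKerFst_surjective (h₂ : Function.Surjective σ₂) (hΓ₁ : commutator Γ₁ = ⊤) :
    Function.Surjective (derKerFst σ₁ σ₂) := by
  intro c
  have h := map_commutator_of_surjective (fibreFst σ₁ σ₂) (fibreFst_surjective σ₁ σ₂ h₂)
  have hc : c.1 ∈ (commutator (fibreProd σ₁ σ₂)).map (fibreFst σ₁ σ₂) := by
    rw [h, hΓ₁]; exact Subgroup.mem_top _
  obtain ⟨d, hd, hdc⟩ := hc
  refine ⟨⟨⟨d, hd⟩, ?_⟩, Subtype.ext hdc⟩
  rw [MonoidHom.mem_ker]
  show fibreHom σ₁ σ₂ d = 1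
  rw [fibreHom_apply]
  have : d.1.1 = c.1 := hdc
  rw [this]; exact c.2

end universal

/-- a bound for the kernels of the stem extensions of a perfect group with `p`-group kernel,
attained by one with a cyclic kernel, makes all those kernels cyclic of order dividing it -/
theorem cyclic_of_bound_of_cover {G : Type v} [Group G] (hG : commutator G = ⊤) (p : ℕ) (n : ℕ)
    (hub : ∀ (Γ' : Type u) [Group Γ'] [Finite Γ'] (σ' : Γ' →* G), Cfsg.IsStemExtension σ' →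
      IsPGroup p σ'.ker → Nat.card σ'.ker ≤ n)
    {Γ₀ : Type u} [Group Γ₀] [Finite Γ₀] (σ₀ : Γ₀ →* G) (h₀ : Cfsg.IsStemExtension σ₀)
    (hp₀ : IsPGroup p σ₀.ker) (hc₀ : IsCyclic σ₀.ker) (hn : Nat.card σ₀.ker = n)
    {Γ : Type u} [Group Γ] [Finite Γ] (σ : Γ →* G) (hσ : Cfsg.IsStemExtension σ)
    (hp : IsPGroup p σ.ker) : IsCyclic σ.ker ∧ Nat.card σ.ker ∣ n := by
  have hst := derHom_isStem σ σ₀ hσ.1 h₀.1 hσ.2.1 h₀.2.1 hG
  have hpk := derHom_ker_isPGroup σ σ₀ p hp hp₀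
  have hle := hub _ (derHom σ σ₀) hst hpk
  have hΓ := perfect_of_stem σ hσ hG
  have hΓ₀ := perfect_of_stem σ₀ h₀ hG
  have hs2 := derKerSnd_surjective σ σ₀ hσ.1 hΓ₀
  have hs1 := derKerFst_surjective σ σ₀ h₀.1 hΓ
  have hge : Nat.card σ₀.ker ≤ Nat.card (derHom σ σ₀).ker :=
    Nat.card_le_card_of_surjective _ hs2
  have heq : Nat.card (derHom σ σ₀).ker = n := le_antisymm hle (hn ▸ hge)
  have hinj : Function.Injective (derKerSnd σ σ₀) := by
    have hb : Function.Bijective (derKerSnd σ σ₀) := by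
      rw [Nat.bijective_iff_surjective_and_card]
      exact ⟨hs2, by rw [heq, hn]⟩
    exact hb.1
  haveI := hc₀
  haveI : IsCyclic (derHom σ σ₀).ker := isCyclic_of_injective (derKerSnd σ σ₀) hinj
  refine ⟨isCyclic_of_surjective (derKerFst σ σ₀) hs1, ?_⟩
  rw [← heq]
  exact Subgroup.card_dvd_of_surjective (derKerFst σ σ₀) hs1

end Cfsg.Agent.Lib.Helper1.Stem
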