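import Mathlib
import Cfsg.Prelude.Def_KGroupFacts
import Cfsg.Agent.Lib.Helper1.Stem20

set_option autoImplicit false

/-! Stem extensions of a perfect group: multipliers that need not be cyclic.  A bound for the
orders of the kernels attained by one stem extension makes the kernel of that extension map onto
all the others. -/

namespace Cfsg.Agent.Lib.Helper1.Stem

open scoped commutatorElement

universe u v w

section primary

variable {Γ : Type u} {G : Type v} [Group Γ] [Group G] [Finite Γ] (σ : Γ →* G)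

/-- reduction to kernels of prime power order: if the stem extensions of `G` whose kernel is a
`p`-group have kernels of order dividing `n`, for every prime `p`, then so have all stem
extensions -/
theorem card_dvd_of_primary (n : ℕ) (hn : 0 < n)
    (h : ∀ (p : ℕ) [Fact p.Prime] (Γ' : Type u) [Group Γ'] [Finite Γ'] (σ' : Γ' →* G),
      Cfsg.IsStemExtension σ' → IsPGroup p σ'.ker → Nat.card σ'.ker ∣ n)
    (hσ : Cfsg.IsStemExtension σ) : Nat.card σ.ker ∣ n := by
  have hcen := hσ.2.1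
  have key : ∀ (p : ℕ) [Fact p.Prime] (P : Sylow p σ.ker), Nat.card P ∣ n := by
    intro p _ P
    obtain ⟨f, hf⟩ := card_dvd_of_isPGroup σ hcen p P P.isPGroup'
    have hd := h p _ (primaryQuot σ hcen p) (primaryQuot_isStem σ hσ p)
      (primaryQuot_ker_isPGroup σ hcen p)
    exact (Subgroup.card_dvd_of_injective f hf).trans hd
  rw [← Nat.factorization_le_iff_dvd Nat.card_pos.ne' hn.ne']
  intro p
  by_cases hp : p.Prime
  · haveI : Fact p.Prime := ⟨hp⟩
    obtain ⟨P⟩ : Nonempty (Sylow p σ.ker) := inferInstance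
    have h1 := key p P
    rw [Sylow.card_eq_multiplicity] at h1
    exact (hp.pow_dvd_iff_le_factorization hn.ne').mp h1
  · rw [Nat.factorization_eq_zero_of_not_prime _ hp]
    exact Nat.zero_le _

end primary

/-- a bound for the orders of the kernels of the stem extensions of a perfect group, attained by
one of them, makes the kernel of that one map onto the kernel of every other -/
theorem exists_surjective_of_bound {G : Type v} [Group G] (hG : commutator G = ⊤) (n : ℕ)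
    (hub : ∀ (Γ' : Type u) [Group Γ'] [Finite Γ'] (σ' : Γ' →* G), Cfsg.IsStemExtension σ' →
      Nat.card σ'.ker ≤ n)
    {Γ₀ : Type u} [Group Γ₀] [Finite Γ₀] (σ₀ : Γ₀ →* G) (h₀ : Cfsg.IsStemExtension σ₀)
    (hn : Nat.card σ₀.ker = n)
    {Γ : Type u} [Group Γ] [Finite Γ] (σ : Γ →* G) (hσ : Cfsg.IsStemExtension σ) :
    ∃ π : σ₀.ker →* σ.ker, Function.Surjective π := by
  have hst := derHom_isStem σ σ₀ hσ.1 h₀.1 hσ.2.1 h₀.2.1 hG
  have hle := hub _ (derHom σ σ₀) hst
  have hΓ := perfect_of_stem σ hσ hG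
  have hΓ₀ := perfect_of_stem σ₀ h₀ hG
  have hs2 := derKerSnd_surjective σ σ₀ hσ.1 hΓ₀
  have hs1 := derKerFst_surjective σ σ₀ h₀.1 hΓ
  have hge : Nat.card σ₀.ker ≤ Nat.card (derHom σ σ₀).ker :=
    Nat.card_le_card_of_surjective _ hs2
  have heq : Nat.card (derHom σ σ₀).ker = n := le_antisymm hle (hn ▸ hge)
  have hb : Function.Bijective (derKerSnd σ σ₀) := by
    rw [Nat.bijective_iff_surjective_and_card]
    exact ⟨hs2, by rw [heq, hn]⟩
  let e : (derHom σ σ₀).ker ≃* σ₀.ker := MulEquiv.ofBijective (derKerSnd σ σ₀) hb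
  exact ⟨(derKerFst σ σ₀).comp e.symm.toMonoidHom, hs1.comp e.symm.surjective⟩

section fibre

variable {Γ₁ Γ₂ : Type u} {G : Type v} [Group Γ₁] [Group Γ₂] [Group G]
  (σ₁ : Γ₁ →* G) (σ₂ : Γ₂ →* G)

/-- the fibre product of two stem extensions is a stem extension when the two factors of its
kernel consist of products of commutators -/
theorem fibreHom_isStem_of_mem (h₁ : Cfsg.IsStemExtension σ₁) (h₂ : Cfsg.IsStemExtension σ₂)
    (hw₁ : ∀ c ∈ σ₁.ker, ∃ x ∈ commutator (fibreProd σ₁ σ₂), (x : Γ₁ × Γ₂) = (c, 1))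
    (hw₂ : ∀ c ∈ σ₂.ker, ∃ x ∈ commutator (fibreProd σ₁ σ₂), (x : Γ₁ × Γ₂) = (1, c)) :
    Cfsg.IsStemExtension (fibreHom σ₁ σ₂) := by
  refine ⟨fibreHom_surjective σ₁ σ₂ h₁.1 h₂.1, ker_fibreHom_le_center σ₁ σ₂ h₁.2.1 h₂.2.1, ?_⟩
  intro x hx
  obtain ⟨hx1, hx2⟩ := (mem_ker_fibreHom σ₁ σ₂ x).mp hx
  obtain ⟨y₁, hy₁, e₁⟩ := hw₁ _ hx1
  obtain ⟨y₂, hy₂, e₂⟩ := hw₂ _ hx2
  have : x = y₁ * y₂ := by
    apply Subtype.ext
    rw [Subgroup.coe_mul, e₁, e₂]
    apply Prod.ext
    · simp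
    · simp
  rw [this]
  exact Subgroup.mul_mem _ hy₁ hy₂

end fibre

/-- the multiplier of a group isomorphic to a perfect group `G₀`, from a stem extension of `G₀`
whose kernel has the largest possible order -/
theorem hasSchurMultiplier_of_cover_of_bound {G₀ : Type} {G : Type u} [Group G₀] [Group G]
    (f : G₀ ≃* G) (hG : commutator G₀ = ⊤) (A : Type w) [CommGroup A]
    {Γ₀ : Type} [Group Γ₀] [Finite Γ₀] (σ₀ : Γ₀ →* G₀) (h₀ : Cfsg.IsStemExtension σ₀)
    (e : σ₀.ker ≃* A)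
    (hub : ∀ (Γ' : Type u) [Group Γ'] [Finite Γ'] (σ' : Γ' →* G₀), Cfsg.IsStemExtension σ' →
      Nat.card σ'.ker ≤ Nat.card A) : Cfsg.HasSchurMultiplier G A := by
  let e1 : ULift.{u} Γ₀ ≃* Γ₀ := MulEquiv.ulift
  refine ⟨?_, ?_⟩
  · refine ⟨ULift.{u} Γ₀, inferInstance, inferInstance,
      f.toMonoidHom.comp (σ₀.comp e1.toMonoidHom), isStem_comp_equiv e1 f σ₀ h₀, ?_⟩
    exact ⟨(kerEquiv e1 f σ₀).trans e⟩
  · intro Γ _ _ σ hσ
    have h1 := isStem_comp_equiv (MulEquiv.refl Γ) f.symm σ hσ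
    have h2 := isStem_comp_equiv e1 (MulEquiv.refl G₀) σ₀ h₀
    have e2 := kerEquiv (MulEquiv.refl Γ) f.symm σ
    have e3 := kerEquiv e1 (MulEquiv.refl G₀) σ₀
    have hn : Nat.card ((MulEquiv.refl G₀).toMonoidHom.comp (σ₀.comp e1.toMonoidHom)).ker =
        Nat.card A := by
      rw [Nat.card_congr e3.toEquiv, Nat.card_congr e.toEquiv]
    obtain ⟨π, hπ⟩ := exists_surjective_of_bound hG (Nat.card A) hub _ h2 hn _ h1
    exact ⟨e2.toMonoidHom.comp (π.comp (e3.symm.toMonoidHom.comp e.symm.toMonoidHom)),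
      e2.surjective.comp (hπ.comp (e3.symm.surjective.comp e.symm.surjective))⟩

end Cfsg.Agent.Lib.Helper1.Stem
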