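import Mathlib
import Cfsg.Agent.Lib.Helper1.Co2B8

set_option autoImplicit false
set_option maxRecDepth 100000

/-! The second Conway group of the definitions as a permutation group on 2300 points: the model
with strong generators and its stabilizer chain. -/

namespace Cfsg.Agent.Lib.Helper1.Co2B

open Cfsg
open Cfsg.Agent.Lib.Helper6.TC Cfsg.Agent.Lib.Helper6.PM Cfsg.Agent.Lib.Helper2.PMS
open Cfsg.Agent.Lib.Helper5.Chain

theorem chk_slpM : chkSLP co2M.px co2M.n co2M.nl ds pm = true := chk_slp

/-- the model of the second Conway group with the strong generators as letters (20 letters) -/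
noncomputable def co2S : PModel := slpModel co2M ds pm chk_slpM

theorem co2S_G : co2S.G = ↥Cfsg.Spor.Co2 := rfl

theorem co2S_n : co2S.n = 2300 := rfl

theorem co2S_nl : co2S.nl = 20 := slpModel_nl co2M ds pm chk_slpM

theorem co2S_px : co2S.px = pm := rfl

/-- the stabilizer chain -/
def DC : ChainData where
  base := baseC
  levels := levelsC

theorem factsC : ChainFacts co2S DC where
  hbase := by
    intro b hb
    have : b < 2300 := by
      revert b
      decide
    exact this
  hlet := by
    rw [co2S_nl]
    exact letters_of_chkLet 20 levelsC chk_let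
  hchain := chain_ok
  hcard := by
    show Nat.card ↥Cfsg.Spor.Co2 = _
    rw [card_Co2]
    exact levels_prod.symm

end Cfsg.Agent.Lib.Helper1.Co2B
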