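import Mathlib
import Cfsg.Agent.Lib.Helper1.Co3B1

set_option autoImplicit false
set_option maxRecDepth 100000

/-! The third Conway group as a permutation group on 276 points: the checks of the data. -/

namespace Cfsg.Agent.Lib.Helper1.Co3B

open Cfsg Cfsg.Agent.Lib.Helper1.LeechEnum

/-- the generator of a code -/
def gOf (c : ℕ) : List (List ℕ) := Nat.rec (motive := fun _ => List (List ℕ)) ga (fun _ _ => gb) c

theorem ga_ok : genOK [pD0] ga = true := by decide +kernel

theorem gb_ok : genOK [pD0] gb = true := by decide +kernel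

theorem tree_ok : allB (fun i => Nat.beq i 530 ||
    (Nat.beq (applyGen (gOf (parg i)) (vL (par i))) (vL i) &&
      Nat.blt (rk (par i)) (rk i) && Nat.blt (par i) 552)) 552 = true := by decide +kernel

theorem sorted_ok : allB (fun i => Nat.blt (vL i) (vL (Nat.succ i))) 551 = true := by
  decide +kernel

theorem lt_ok : allB (fun i => Nat.blt (vL i) (65536 ^ 24)) 552 = true := by decide +kernel

theorem partner_ok : allB (fun i => allB (fun k =>
    Nat.beq (Nat.add (fld k (vL i)) (fld k (vL (Nat.sub 551 i)))) (Nat.add (fld k pD0) 256)) 24)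
    276 = true := by decide +kernel

theorem actA_ok : allB (fun i => Nat.beq (applyGen ga (vL i)) (vL (tA4 i)) &&
    Nat.blt (tA4 i) 552) 276 = true := by decide +kernel

theorem actB_ok : allB (fun i => Nat.beq (applyGen gb (vL i)) (vL (tB4 i)) &&
    Nat.blt (tB4 i) 552) 276 = true := by decide +kernel

theorem inv_ok : allB (fun i =>
    Nat.blt (tAi i) 276 && Nat.blt (tBi i) 276 &&
    Nat.beq (qdN (tA4 (tAi i))) i && Nat.beq (tAi (qdN (tA4 i))) i &&
    Nat.beq (qdN (tB4 (tBi i))) i && Nat.beq (tBi (qdN (tB4 i))) i) 276 = true := by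
  decide +kernel

theorem vL_root : vL 530 = pX1 := by decide +kernel

end Cfsg.Agent.Lib.Helper1.Co3B
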