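import Mathlib
import Cfsg.Agent.Lib.Helper1.EnP10aDef

set_option autoImplicit false
set_option maxRecDepth 100000

namespace Cfsg.Agent.Lib.Helper1.EnP10a

open Cfsg Cfsg.Agent.Lib.Helper1.LeechEnum

def certs11_0 : List ℕ :=
  [0, 0, 0, 0, 0, 0, 0, 0,
  0, 0, 0, 0, 0, 0, 0, 0,
  0, 0, 0, 0, 0, 0, 0, 0,
  0, 0, 0, 0, 0, 0, 0, 0x1ce]

theorem len11_0 : certs11_0.length = 32 := by decide +kernel

theorem part11_0 : chkFrom prob 2816 certs11_0 = true := by decide +kernel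

def certs11_1 : List ℕ :=
  [0, 0, 0, 0, 0, 0, 0, 0,
  0, 0, 0, 0, 0, 0, 0, 0,
  0, 0, 0, 0, 0, 0, 0x21b3, 0,
  0, 0, 0, 0, 0, 0, 0, 0]

theorem len11_1 : certs11_1.length = 32 := by decide +kernel

theorem part11_1 : chkFrom prob 2848 certs11_1 = true := by decide +kernel

def certs11_2 : List ℕ :=
  [0, 0, 0, 0, 0, 0, 0, 0,
  0, 0, 0, 0, 0, 0x89, 0, 0,
  0, 0, 0, 0x1cc, 0, 0, 0, 0,
  0, 0, 0, 0, 0, 0, 0, 0]

theorem len11_2 : certs11_2.length = 32 := by decide +kernel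

theorem part11_2 : chkFrom prob 2880 certs11_2 = true := by decide +kernel

def certs11_3 : List ℕ :=
  [0, 0, 0, 0, 0, 0, 0, 0,
  0, 0, 0, 0xaa, 0, 0, 0x1f9, 0,
  0, 0, 0, 0, 0, 0, 0, 0x2473,
  0, 0, 0, 0, 0, 0xa6, 0, 0xd82]

theorem len11_3 : certs11_3.length = 32 := by decide +kernel

theorem part11_3 : chkFrom prob 2912 certs11_3 = true := by decide +kernel

def certs11_4 : List ℕ :=
  [0, 0, 0, 0, 0, 0, 0, 0,
  0, 0, 0, 0, 0, 0, 0, 0,
  0, 0, 0, 0, 0, 0, 0, 0,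
  0, 0, 0, 0, 0, 0x482, 0, 0xc82]

theorem len11_4 : certs11_4.length = 32 := by decide +kernel

theorem part11_4 : chkFrom prob 2944 certs11_4 = true := by decide +kernel

def certs11_5 : List ℕ :=
  [0, 0, 0, 0, 0, 0x95, 0, 0,
  0, 0, 0, 0, 0, 0, 0, 7,
  0, 0, 0, 0x21a0, 0, 0, 0, 0,
  0, 0, 0, 0x20e7, 0x1e4, 0, 0, 0]

theorem len11_5 : certs11_5.length = 32 := by decide +kernel

theorem part11_5 : chkFrom prob 2976 certs11_5 = true := by decide +kernel

def certs11_6 : List ℕ :=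
  [0, 0, 0, 0, 0, 0, 0, 0xb9,
  0, 0, 0, 0, 0, 0, 0, 0,
  0, 0, 0, 0, 0xb5, 0, 0, 0,
  0, 0, 0, 0xb01, 0, 0, 0x2167, 0]

theorem len11_6 : certs11_6.length = 32 := by decide +kernel

theorem part11_6 : chkFrom prob 3008 certs11_6 = true := by decide +kernel

def certs11_7 : List ℕ :=
  [0, 0, 0, 0, 0, 0, 0x20dd, 0,
  0, 0x1d1, 0, 0, 0, 0, 0x219f, 0,
  0, 0, 0, 0, 0, 0, 0, 0xa08,
  0xb4, 0, 0x1ed, 0, 0, 0x99, 0, 0x481]

theorem len11_7 : certs11_7.length = 32 := by decide +kernel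

theorem part11_7 : chkFrom prob 3040 certs11_7 = true := by decide +kernel

theorem part11 : ∀ c, 2816 ≤ c → c < 3072 → ∃ cert, chkChunk prob c cert = true := by
  intro c h1 h2
  obtain ⟨j, hj⟩ : ∃ j, j = (c - 2816) / 32 := ⟨_, rfl⟩
  have hj' : j < 8 := by omega
  interval_cases j
  · exact chkFrom_sound prob certs11_0 2816 part11_0 c (by omega) (by rw [len11_0]; omega)
  · exact chkFrom_sound prob certs11_1 2848 part11_1 c (by omega) (by rw [len11_1]; omega)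
  · exact chkFrom_sound prob certs11_2 2880 part11_2 c (by omega) (by rw [len11_2]; omega)
  · exact chkFrom_sound prob certs11_3 2912 part11_3 c (by omega) (by rw [len11_3]; omega)
  · exact chkFrom_sound prob certs11_4 2944 part11_4 c (by omega) (by rw [len11_4]; omega)
  · exact chkFrom_sound prob certs11_5 2976 part11_5 c (by omega) (by rw [len11_5]; omega)
  · exact chkFrom_sound prob certs11_6 3008 part11_6 c (by omega) (by rw [len11_6]; omega)
  · exact chkFrom_sound prob certs11_7 3040 part11_7 c (by omega) (by rw [len11_7]; omega)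

end Cfsg.Agent.Lib.Helper1.EnP10a
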