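import Mathlib
import Cfsg.Agent.Lib.Helper1.EnP10aDef

set_option autoImplicit false
set_option maxRecDepth 100000

namespace Cfsg.Agent.Lib.Helper1.EnP10a

open Cfsg Cfsg.Agent.Lib.Helper1.LeechEnum

def certs14_0 : List ℕ :=
  [0, 0, 0, 0, 0, 0, 0, 0,
  0, 0, 0, 0, 0, 0, 0, 0x213b,
  0, 0, 0, 0, 0, 0, 0, 0,
  0, 0, 0, 0, 0, 0, 0, 0]

theorem len14_0 : certs14_0.length = 32 := by decide +kernel

theorem part14_0 : chkFrom prob 3584 certs14_0 = true := by decide +kernel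

def certs14_1 : List ℕ :=
  [0, 0, 0, 0, 0, 0, 0, 0,
  0, 0, 0, 0, 0, 0, 0, 0,
  0, 0, 0, 0, 0, 0, 0, 0x2136,
  0, 0, 0, 0, 0, 0, 0, 0x2187]

theorem len14_1 : certs14_1.length = 32 := by decide +kernel

theorem part14_1 : chkFrom prob 3616 certs14_1 = true := by decide +kernel

def certs14_2 : List ℕ :=
  [0, 0, 0, 0, 0, 0, 0, 0,
  0, 0, 0, 0, 0, 0, 0, 0,
  0, 0, 0, 0, 0, 0, 0, 0x235a,
  0, 0, 0, 0, 0, 0, 0, 0]

theorem len14_2 : certs14_2.length = 32 := by decide +kernel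

theorem part14_2 : chkFrom prob 3648 certs14_2 = true := by decide +kernel

def certs14_3 : List ℕ :=
  [0, 0, 0, 0, 0, 0, 0, 0,
  0, 0, 0x2285, 0, 0, 0x21b0, 0, 0,
  0, 0, 0, 0, 0x1cb, 0, 0, 0,
  0, 0, 0, 0x85, 0, 0, 0x9b, 0]

theorem len14_3 : certs14_3.length = 32 := by decide +kernel

theorem part14_3 : chkFrom prob 3680 certs14_3 = true := by decide +kernel

def certs14_4 : List ℕ :=
  [0, 0, 0, 0, 0, 0, 0, 0,
  0, 0, 0, 0, 0, 0, 0, 0,
  0, 0, 0, 0, 0, 0, 0, 0,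
  0, 0, 0, 0x2244, 0x1da, 0, 0, 0]

theorem len14_4 : certs14_4.length = 32 := by decide +kernel

theorem part14_4 : chkFrom prob 3712 certs14_4 = true := by decide +kernel

def certs14_5 : List ℕ :=
  [0, 0, 0, 0, 0, 0, 0xbe, 0,
  0, 0, 0, 0, 0, 0, 0, 0,
  0, 0, 0, 0, 0, 0x1eb, 0, 0,
  0, 0, 0xf41, 0, 0, 0, 0, 0x2169]

theorem len14_5 : certs14_5.length = 32 := by decide +kernel

theorem part14_5 : chkFrom prob 3744 certs14_5 = true := by decide +kernel

def certs14_6 : List ℕ :=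
  [0, 0x282, 0, 0, 0, 0, 0, 0,
  0, 0, 0, 0, 0, 0, 0x218c, 0,
  0, 0, 0, 0, 0, 0, 0, 0xf48,
  0, 0, 0, 0, 0, 0x1e6, 0, 0x1e0]

theorem len14_6 : certs14_6.length = 32 := by decide +kernel

theorem part14_6 : chkFrom prob 3776 certs14_6 = true := by decide +kernel

def certs14_7 : List ℕ :=
  [0, 0, 0, 0, 0, 0, 0, 0x8d,
  0, 0, 0, 0, 0, 0x802, 0, 0xba,
  0, 0, 0, 0x9c, 0, 0, 0, 0,
  0, 0x86, 0, 0x2111, 0x2163, 0, 0x216a, 0]

theorem len14_7 : certs14_7.length = 32 := by decide +kernel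

theorem part14_7 : chkFrom prob 3808 certs14_7 = true := by decide +kernel

theorem part14 : ∀ c, 3584 ≤ c → c < 3840 → ∃ cert, chkChunk prob c cert = true := by
  intro c h1 h2
  obtain ⟨j, hj⟩ : ∃ j, j = (c - 3584) / 32 := ⟨_, rfl⟩
  have hj' : j < 8 := by omega
  interval_cases j
  · exact chkFrom_sound prob certs14_0 3584 part14_0 c (by omega) (by rw [len14_0]; omega)
  · exact chkFrom_sound prob certs14_1 3616 part14_1 c (by omega) (by rw [len14_1]; omega)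
  · exact chkFrom_sound prob certs14_2 3648 part14_2 c (by omega) (by rw [len14_2]; omega)
  · exact chkFrom_sound prob certs14_3 3680 part14_3 c (by omega) (by rw [len14_3]; omega)
  · exact chkFrom_sound prob certs14_4 3712 part14_4 c (by omega) (by rw [len14_4]; omega)
  · exact chkFrom_sound prob certs14_5 3744 part14_5 c (by omega) (by rw [len14_5]; omega)
  · exact chkFrom_sound prob certs14_6 3776 part14_6 c (by omega) (by rw [len14_6]; omega)
  · exact chkFrom_sound prob certs14_7 3808 part14_7 c (by omega) (by rw [len14_7]; omega)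

end Cfsg.Agent.Lib.Helper1.EnP10a
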