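import Mathlib
import Cfsg.Agent.Lib.Helper1.EnP10aDef

set_option autoImplicit false
set_option maxRecDepth 100000

namespace Cfsg.Agent.Lib.Helper1.EnP10a

open Cfsg Cfsg.Agent.Lib.Helper1.LeechEnum

def certs15_0 : List ℕ :=
  [0, 0, 0, 0, 0, 0, 0, 0,
  0, 0, 0, 0, 0, 0, 0, 0,
  0, 0, 0, 0, 0, 0, 0, 0,
  0, 0, 0, 0, 0, 0, 2, 0]

theorem len15_0 : certs15_0.length = 32 := by decide +kernel

theorem part15_0 : chkFrom prob 3840 certs15_0 = true := by decide +kernel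

def certs15_1 : List ℕ :=
  [0, 0, 0, 0x9f, 0, 0, 0, 0,
  0, 0, 0, 0, 0x21ac, 0, 0, 0,
  0, 0, 0, 0, 0, 0, 0, 0,
  0, 0, 0x20ca, 0, 0, 0x213a, 0, 0xbc1]

theorem len15_1 : certs15_1.length = 32 := by decide +kernel

theorem part15_1 : chkFrom prob 3872 certs15_1 = true := by decide +kernel

def certs15_2 : List ℕ :=
  [0, 0, 0, 0, 0, 0, 0, 0,
  0, 0, 0, 0xbd, 0, 0, 0, 0,
  0, 0, 0, 0, 0, 0, 0, 0xe08,
  0x1e2, 0, 0, 0, 0, 0xc8, 0, 0x302]

theorem len15_2 : certs15_2.length = 32 := by decide +kernel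

theorem part15_2 : chkFrom prob 3904 certs15_2 = true := by decide +kernel

def certs15_3 : List ℕ :=
  [0, 0, 0, 0, 0, 0x8a, 0, 0xb7,
  0, 0, 0, 0, 0, 0, 0, 0xb1,
  0, 0x83, 0, 0, 0, 0, 0x20c9, 0,
  0, 0x1df, 0, 0x20d1, 0, 0, 0x2166, 0]

theorem len15_3 : certs15_3.length = 32 := by decide +kernel

theorem part15_3 : chkFrom prob 3936 certs15_3 = true := by decide +kernel

def certs15_4 : List ℕ :=
  [0, 0, 0, 0, 0, 0, 0, 0xa3,
  0, 0, 0, 0, 0, 0, 0, 0x301,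
  0, 0, 0, 0x1ec, 0, 0, 0x2131, 0,
  0, 0xa2, 0, 0, 0, 0, 0, 0]

theorem len15_4 : certs15_4.length = 32 := by decide +kernel

theorem part15_4 : chkFrom prob 3968 certs15_4 = true := by decide +kernel

def certs15_5 : List ℕ :=
  [0, 0, 0, 0, 0, 0, 0, 0,
  0, 0x21b6, 0, 0x188, 0, 0, 0x1d7, 0,
  0, 0, 0, 0, 0, 0xd88, 0, 0x1f7,
  0, 0, 0x210a, 0, 0, 0xad, 0, 0x881]

theorem len15_5 : certs15_5.length = 32 := by decide +kernel

theorem part15_5 : chkFrom prob 4000 certs15_5 = true := by decide +kernel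

def certs15_6 : List ℕ :=
  [0, 0, 0, 0, 0, 0, 0, 0,
  0, 0, 0, 0x96, 0x22dd, 0, 0x2c1, 0,
  0, 0, 0x942, 0, 0, 0xb41, 0, 0,
  0, 0, 0x41, 0, 0, 0x84, 0, 0x948]

theorem len15_6 : certs15_6.length = 32 := by decide +kernel

theorem part15_6 : chkFrom prob 4032 certs15_6 = true := by decide +kernel

def certs15_7 : List ℕ :=
  [0, 0, 0x8b, 0, 0, 0, 0, 0x1cd,
  0x1d2, 0, 0, 0, 0, 0xc81, 0, 0x7c8,
  0, 0xf08, 0, 0x20fd, 0x2113, 0, 0xbc8, 0,
  0, 0, 0, 0xab, 0xb2, 0, 0x1ef, 0]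

theorem len15_7 : certs15_7.length = 32 := by decide +kernel

theorem part15_7 : chkFrom prob 4064 certs15_7 = true := by decide +kernel

theorem part15 : ∀ c, 3840 ≤ c → c < 4096 → ∃ cert, chkChunk prob c cert = true := by
  intro c h1 h2
  obtain ⟨j, hj⟩ : ∃ j, j = (c - 3840) / 32 := ⟨_, rfl⟩
  have hj' : j < 8 := by omega
  interval_cases j
  · exact chkFrom_sound prob certs15_0 3840 part15_0 c (by omega) (by rw [len15_0]; omega)
  · exact chkFrom_sound prob certs15_1 3872 part15_1 c (by omega) (by rw [len15_1]; omega)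
  · exact chkFrom_sound prob certs15_2 3904 part15_2 c (by omega) (by rw [len15_2]; omega)
  · exact chkFrom_sound prob certs15_3 3936 part15_3 c (by omega) (by rw [len15_3]; omega)
  · exact chkFrom_sound prob certs15_4 3968 part15_4 c (by omega) (by rw [len15_4]; omega)
  · exact chkFrom_sound prob certs15_5 4000 part15_5 c (by omega) (by rw [len15_5]; omega)
  · exact chkFrom_sound prob certs15_6 4032 part15_6 c (by omega) (by rw [len15_6]; omega)
  · exact chkFrom_sound prob certs15_7 4064 part15_7 c (by omega) (by rw [len15_7]; omega)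

end Cfsg.Agent.Lib.Helper1.EnP10a
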