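import Mathlib
import Cfsg.Agent.Lib.Helper1.Co3B3
import Cfsg.Agent.S0403

set_option autoImplicit false
set_option maxRecDepth 100000

/-! The third Conway group as a permutation group on 276 points: the action. -/

namespace Cfsg.Agent.Lib.Helper1.Co3B

open Cfsg MulAction Cfsg.Agent.Lib.Helper1 Cfsg.Agent.Lib.Helper1.LeechEnum
  Cfsg.Agent.Lib.Helper1.LeechConn Cfsg.Agent.Lib.Helper1.LeechAut

theorem vec_inj {v w : ℕ} (hv : v < 65536 ^ 24) (hw : w < 65536 ^ 24) (h : vec v = vec w) :
    v = w := by
  have hf : ∀ k < 24, fld k v = fld k w := by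
    intro k hk
    have := congrFun h (gUnidx k)
    rw [vec_apply, vec_apply, gIdx_gUnidx k hk] at this
    have h3 : (fld k v : ℤ) = (fld k w : ℤ) := by linarith
    exact_mod_cast h3
  have h1 : pkr 24 (fun k => fld k v) = v := by
    rw [pkr_flds]
    exact Nat.mod_eq_of_lt hv
  have h2 : pkr 24 (fun k => fld k w) = w := by
    rw [pkr_flds]
    exact Nat.mod_eq_of_lt hw
  have h3 : (List.range 24).map (fun k => fld k v) = (List.range 24).map (fun k => fld k w) := by
    apply List.map_congr_left
    intro k hk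
    exact hf k (List.mem_range.mp hk)
  have h4 : pkr 24 (fun k => fld k v) = pkr 24 (fun k => fld k w) := by
    unfold pkr
    rw [h3]
  rw [← h1, h4, h2]

theorem vL_lt (i : ℕ) (hi : i < 552) : vL i < 65536 ^ 24 := by
  have := (allB_iff _ _).mp lt_ok i hi
  rwa [Nat.blt_eq] at this

theorem vL_step (i : ℕ) (hi : i < 551) : vL i < vL (i + 1) := by
  have := (allB_iff _ _).mp sorted_ok i hi
  rwa [Nat.blt_eq] at this

theorem vL_strict (i j : ℕ) (hij : i < j) (hj : j < 552) : vL i < vL j := by
  induction j with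
  | zero => omega
  | succ j ih =>
    rcases Nat.lt_succ_iff_lt_or_eq.mp hij with h | h
    · exact lt_trans (ih h (by omega)) (vL_step j (by omega))
    · rw [h]
      exact vL_step j (by omega)

theorem vL_inj (i j : ℕ) (hi : i < 552) (hj : j < 552) (h : vL i = vL j) : i = j := by
  rcases Nat.lt_trichotomy i j with h1 | h1 | h1
  · exact absurd h (ne_of_lt (vL_strict i j h1 hj))
  · exact h1
  · exact absurd h.symm (ne_of_lt (vL_strict j i h1 hi))

/-- the 552 vectors as lattice vectors -/
def OmL : Set leechLattice :=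
  {x | sqNorm (x : GolayPt → ℤ) = 32 ∧ CC (x : GolayPt → ℤ)}

theorem OmL_ncard : OmL.ncard = 552 := by
  have := ncard_subtype (fun z => sqNorm z = 32 ∧ CC z)
  rw [← OmF_ncard]
  exact this

/-- the lattice vector of an index -/
def xL (i : Fin 552) : leechLattice := ⟨vec (vL i), (vL_props i i.isLt).1.1⟩

theorem xL_mem (i : Fin 552) : xL i ∈ OmL := (vL_props i i.isLt).2

theorem xL_injective : Function.Injective xL := by
  intro i j h
  have h1 : vec (vL i) = vec (vL j) := congrArg Subtype.val h
  exact Fin.ext (vL_inj i j i.isLt j.isLt (vec_inj (vL_lt i i.isLt) (vL_lt j j.isLt) h1))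

theorem range_xL : Set.range xL = OmL := by
  have hfin : OmL.Finite := Set.finite_of_ncard_ne_zero (by rw [OmL_ncard]; norm_num)
  apply Set.eq_of_subset_of_ncard_le _ _ hfin
  · rintro _ ⟨i, rfl⟩
    exact xL_mem i
  · rw [OmL_ncard, Set.ncard_range_of_injective xL_injective, Nat.card_eq_fintype_card,
      Fintype.card_fin]

/-- the index of one of the 552 vectors -/
theorem exists_index (x : leechLattice) (hx : x ∈ OmL) : ∃ i : Fin 552, xL i = x := by
  rw [← range_xL] at hx
  exact hx

/-- the stabilizer of the vector -/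
def M0 : Subgroup Co0 := stabilizer Co0 D0L

theorem mem_M0 (g : Co0) : g ∈ M0 ↔ g • D0L = D0L := by
  unfold M0
  rw [mem_stabilizer_iff]

theorem smul_mem_OmL (g : Co0) (hg : g ∈ M0) (x : leechLattice) (hx : x ∈ OmL) : g • x ∈ OmL := by
  have h2 := (mem_M0 g).mp hg
  obtain ⟨hn, hc2⟩ := hx
  refine ⟨(smul_norm g x).trans hn, ?_⟩
  have := smul_dot g D0L x
  rw [h2] at this
  exact this.trans hc2

/-- the equivalence with the indices -/
noncomputable def eqv : Fin 552 ≃ OmL :=
  Equiv.ofBijective (fun i => ⟨xL i, xL_mem i⟩)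
    ⟨fun i j h => xL_injective (congrArg Subtype.val h),
      fun x => by
        obtain ⟨i, hi⟩ := exists_index x.1 x.2
        exact ⟨i, Subtype.ext hi⟩⟩

theorem eqv_apply (i : Fin 552) : ((eqv i : OmL) : leechLattice) = xL i := rfl

/-- the action on the 552 vectors -/
def rho : M0 →* Equiv.Perm OmL where
  toFun g :=
    { toFun := fun x => ⟨g.1 • x.1, smul_mem_OmL g.1 g.2 x.1 x.2⟩
      invFun := fun x => ⟨g.1⁻¹ • x.1, smul_mem_OmL g.1⁻¹ (M0.inv_mem g.2) x.1 x.2⟩
      left_inv := fun x => Subtype.ext (inv_smul_smul g.1 x.1)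
      right_inv := fun x => Subtype.ext (smul_inv_smul g.1 x.1) }
  map_one' := by
    apply Equiv.ext
    intro x
    apply Subtype.ext
    show ((1 : M0).1 • x.1 : leechLattice) = x.1
    exact one_smul _ _
  map_mul' := by
    intro g h
    apply Equiv.ext
    intro x
    apply Subtype.ext
    show ((g * h).1 • x.1 : leechLattice) = g.1 • (h.1 • x.1)
    exact mul_smul _ _ _

theorem rho_apply (g : M0) (x : OmL) : ((rho g x : OmL) : leechLattice) = g.1 • x.1 := rfl

/-- the permutation representation on the 552 vectors -/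
noncomputable def phi4 : M0 →* Equiv.Perm (Fin 552) :=
  (eqv.symm.permCongrHom.toMonoidHom).comp rho

theorem phi4_apply (g : M0) (i : Fin 552) : phi4 g i = eqv.symm (rho g (eqv i)) := rfl

theorem phi4_eq_iff (g : M0) (i j : Fin 552) : phi4 g i = j ↔ g.1 • xL i = xL j := by
  rw [phi4_apply, Equiv.symm_apply_eq]
  constructor
  · intro h
    have := congrArg Subtype.val h
    rwa [rho_apply, eqv_apply, eqv_apply] at this
  · intro h
    apply Subtype.ext
    rw [rho_apply, eqv_apply, eqv_apply]
    exact h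

theorem smul_xL (g : M0) (i : Fin 552) : g.1 • xL i = xL (phi4 g i) :=
  (phi4_eq_iff g i _).mp rfl

/-! ### The pairs -/

theorem partner_fld (i : ℕ) (hi : i < 552) (k : ℕ) (hk : k < 24) :
    fld k (vL i) + fld k (vL (551 - i)) = fld k pD0 + 256 := by
  have key : ∀ i < 276, fld k (vL i) + fld k (vL (551 - i)) = fld k pD0 + 256 := by
    intro i hi
    have h1 := (allB_iff _ _).mp partner_ok i hi
    have h2 := (allB_iff _ _).mp h1 k hk
    exact (nbeq_iff _ _).mp h2
  by_cases h : i < 276
  · exact key i h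
  · have h3 := key (551 - i) (by omega)
    have e : 551 - (551 - i) = i := by omega
    rw [e] at h3
    omega

theorem xL_rev (i : Fin 552) : xL (Fin.rev i) = D0L - xL i := by
  apply Subtype.ext
  rw [AddSubgroup.coe_sub]
  show vec (vL (Fin.rev i).val) = d₀ - vec (vL i.val)
  have e : (Fin.rev i).val = 551 - i.val := by
    rw [Fin.val_rev]
    omega
  rw [e, ← vec_pD0]
  funext p
  have hk : gIdx p < 24 := gIdx_lt p
  have h := partner_fld i.val i.isLt (gIdx p) hk
  simp only [Pi.sub_apply, vec_apply]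
  have h' : (fld (gIdx p) (vL i.val) : ℤ) + (fld (gIdx p) (vL (551 - i.val)) : ℤ) =
      (fld (gIdx p) pD0 : ℤ) + 256 := by exact_mod_cast h
  linarith

theorem phi4_rev (g : M0) (i : Fin 552) : phi4 g (Fin.rev i) = Fin.rev (phi4 g i) := by
  rw [phi4_eq_iff, xL_rev, xL_rev, LeechEnum.smul_sub, (mem_M0 g.1).mp g.2, smul_xL]

/-- a pair as an index -/
def up (i : Fin 276) : Fin 552 := ⟨i.val, by omega⟩

theorem qdN_lt (j : ℕ) (hj : j < 552) : qdN j < 276 := by
  unfold qdN
  split_ifs <;> omega

/-- the pair of an index -/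
def qd (x : Fin 552) : Fin 276 := ⟨qdN x.val, qdN_lt x.val x.isLt⟩

theorem qd_up (i : Fin 276) : qd (up i) = i := by
  apply Fin.ext
  show qdN i.val = i.val
  unfold qdN
  rw [if_pos i.isLt]

theorem qd_rev (x : Fin 552) : qd (Fin.rev x) = qd x := by
  apply Fin.ext
  show qdN (Fin.rev x).val = qdN x.val
  have e : (Fin.rev x).val = 551 - x.val := by
    rw [Fin.val_rev]
    omega
  rw [e]
  unfold qdN
  have := x.isLt
  split_ifs <;> omega

theorem up_qd (x : Fin 552) : x = up (qd x) ∨ x = Fin.rev (up (qd x)) := by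
  by_cases h : x.val < 276
  · left
    apply Fin.ext
    show x.val = qdN x.val
    unfold qdN
    rw [if_pos h]
  · right
    apply Fin.ext
    rw [Fin.val_rev]
    show x.val = 552 - (qdN x.val + 1)
    unfold qdN
    rw [if_neg h]
    have := x.isLt
    omega

theorem qd_phi4 (g : M0) (x : Fin 552) : qd (phi4 g x) = qd (phi4 g (up (qd x))) := by
  rcases up_qd x with h | h
  · exact congrArg (fun y => qd (phi4 g y)) h
  · have : qd (phi4 g x) = qd (phi4 g (Fin.rev (up (qd x)))) :=
      congrArg (fun y => qd (phi4 g y)) h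
    rw [this, phi4_rev, qd_rev]

/-- the permutation representation on the 276 pairs -/
noncomputable def phi : M0 →* Equiv.Perm (Fin 276) where
  toFun g :=
    { toFun := fun i => qd (phi4 g (up i))
      invFun := fun i => qd (phi4 g⁻¹ (up i))
      left_inv := fun i => by
        show qd (phi4 g⁻¹ (up (qd (phi4 g (up i))))) = i
        rw [← qd_phi4, map_inv, Equiv.Perm.inv_def, Equiv.symm_apply_apply, qd_up]
      right_inv := fun i => by
        show qd (phi4 g (up (qd (phi4 g⁻¹ (up i))))) = i
        rw [← qd_phi4, map_inv, Equiv.Perm.inv_def, Equiv.apply_symm_apply, qd_up] }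
  map_one' := by
    apply Equiv.ext
    intro i
    show qd (phi4 1 (up i)) = i
    rw [map_one, Equiv.Perm.one_apply, qd_up]
  map_mul' := by
    intro g h
    apply Equiv.ext
    intro i
    show qd (phi4 (g * h) (up i)) = qd (phi4 g (up (qd (phi4 h (up i)))))
    rw [← qd_phi4, map_mul, Equiv.Perm.mul_apply]

theorem phi_apply (g : M0) (i : Fin 276) : phi g i = qd (phi4 g (up i)) := rfl

end Cfsg.Agent.Lib.Helper1.Co3B
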