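import Mathlib
import Cfsg.Agent.Lib.Helper1.Co3B5
import Cfsg.Agent.Lib.Helper1.Co3B6
import Cfsg.Agent.Lib.Helper1.PMChk

set_option autoImplicit false
set_option maxRecDepth 100000

/-! The third Conway group as a permutation group on 276 points: the two generators generate. -/

namespace Cfsg.Agent.Lib.Helper1.Co3B

open Cfsg Cfsg.Agent.Lib.Helper1 Cfsg.Agent.Lib.Helper1.MatCode
open Cfsg.Agent.Lib.Helper6.TC Cfsg.Agent.Lib.Helper6.PM Cfsg.Agent.Lib.Helper2.PMS
open Cfsg.Agent.Lib.Helper5.Chain Cfsg.Agent.Lib.Helper5.Srch Cfsg.Agent.Lib.Helper1.PMChk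

/-- a chain gives a lower bound for the order -/
theorem card_ge_of_chain (M : PModel) (bs : List ℕ) (Ls : List (List (List ℕ)))
    (hc : IsChain M.px bs Ls) (hb : ∀ b ∈ bs, b < M.n)
    (hl : ∀ Lj ∈ Ls, ∀ w ∈ Lj, ∀ c ∈ w, c < M.nl) :
    (Ls.map List.length).prod ≤ Nat.card M.G := by
  classical
  haveI : Fintype M.G := Fintype.ofFinite M.G
  have hnd := prods_nodup M bs Ls hc
  have hinj : ∀ u ∈ prods Ls, ∀ u' ∈ prods Ls, M.elt u = M.elt u' → u = u' := by
    intro u hu u' hu' h
    apply prods_inj M bs Ls hc hb hl u hu u' hu'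
    intro b hb'
    have hlu := letters_prods M.nl Ls hl u hu
    have hlu' := letters_prods M.nl Ls hl u' hu'
    have h1 := M.phi_inv_val u hlu ⟨b, hb b hb'⟩
    have h2 := M.phi_inv_val u' hlu' ⟨b, hb b hb'⟩
    rw [h] at h1
    exact h1.symm.trans h2
  have hnd2 : ((prods Ls).map M.elt).Nodup := by
    rw [List.nodup_map_iff_inj_on hnd]
    exact hinj
  have := hnd2.length_le_card
  rw [List.length_map, length_prods] at this
  rw [Nat.card_eq_fintype_card]
  exact this

/-- the subgroup generated by the two generators -/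
def CS : Subgroup M0 := Subgroup.closure {gA, gB}

/-- the letters -/
noncomputable def LT : List M0 := [gA, gB, gA⁻¹, gB⁻¹]

theorem LT_mem : ∀ g ∈ LT, g ∈ CS := by
  intro g hg
  have : g = gA ∨ g = gB ∨ g = gA⁻¹ ∨ g = gB⁻¹ := by simpa [LT] using hg
  rcases this with rfl | rfl | rfl | rfl
  · exact Subgroup.subset_closure (by simp)
  · exact Subgroup.subset_closure (by simp)
  · exact CS.inv_mem (Subgroup.subset_closure (by simp))
  · exact CS.inv_mem (Subgroup.subset_closure (by simp))

/-- the right action of the letters -/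
def px (c q : ℕ) : ℕ :=
  Nat.rec (motive := fun _ => ℕ) (tAi q) (fun c _ =>
    Nat.rec (motive := fun _ => ℕ) (tBi q) (fun c _ =>
      Nat.rec (motive := fun _ => ℕ) (tA q) (fun _ _ => tB q) c) c) c

theorem px_zero (q : ℕ) : px 0 q = tAi q := rfl

theorem px_one (q : ℕ) : px 1 q = tBi q := rfl

theorem px_two (q : ℕ) : px 2 q = tA q := rfl

theorem px_three (q : ℕ) : px 3 q = tB q := rfl

theorem px_lt : ∀ c < 4, ∀ q < 276, px c q < 276 := by
  intro c hc q hq
  obtain ⟨h1, h2, h3, h4⟩ := tb_lt q hq
  interval_cases c
  · exact h3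
  · exact h4
  · exact h1
  · exact h2

theorem phi_inv_letter (c : ℕ) (hc : c < 4) (x : Fin 276) :
    ((phi (LT.getD c 1))⁻¹ x).val = px c x.val := by
  interval_cases c
  · exact phi_gA_inv x
  · exact phi_gB_inv x
  · show ((phi gA⁻¹)⁻¹ x).val = _
    rw [map_inv, inv_inv]
    exact phi_gA x
  · show ((phi gB⁻¹)⁻¹ x).val = _
    rw [map_inv, inv_inv]
    exact phi_gB x

theorem phi_inv_word (w : List ℕ) (hw : ∀ c ∈ w, c < 4) (x : Fin 276) :
    ((phi (wordProd LT w))⁻¹ x).val = wapp px w x.val := by
  induction w generalizing x with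
  | nil =>
    rw [wordProd_nil, map_one, inv_one]
    rfl
  | cons c w ih =>
    rw [wordProd_cons, map_mul, mul_inv_rev, Equiv.Perm.mul_apply, wapp_cons]
    have hc : c < 4 := hw c List.mem_cons_self
    have h1 := ih (fun c' hc' => hw c' (List.mem_cons_of_mem _ hc')) ((phi (LT.getD c 1))⁻¹ x)
    rw [phi_inv_letter c hc x] at h1
    exact h1

/-- the element of a word, in the subgroup -/
noncomputable def eltC (w : List ℕ) : CS := ⟨wordProd LT w, wordProd_mem LT CS LT_mem w⟩

theorem closure_eltC : Subgroup.closure {g : CS | ∃ c < 4, g = eltC [c]} = ⊤ := by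
  rw [eq_top_iff]
  rintro ⟨g, hg⟩ -
  have key : ∀ g (hg : g ∈ CS),
      (⟨g, hg⟩ : CS) ∈ Subgroup.closure {g : CS | ∃ c < 4, g = eltC [c]} := by
    intro g hg
    induction hg using Subgroup.closure_induction with
    | mem x hx =>
      apply Subgroup.subset_closure
      have : x = gA ∨ x = gB := by simpa using hx
      rcases this with rfl | rfl
      · refine ⟨0, by norm_num, ?_⟩
        apply Subtype.ext
        show _ = wordProd LT [0]
        rw [wordProd_cons, wordProd_nil, mul_one]
        rfl
      · refine ⟨1, by norm_num, ?_⟩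
        apply Subtype.ext
        show _ = wordProd LT [1]
        rw [wordProd_cons, wordProd_nil, mul_one]
        rfl
    | one => exact Subgroup.one_mem _
    | mul x y hx hy ihx ihy => exact Subgroup.mul_mem _ ihx ihy
    | inv x hx ih => exact Subgroup.inv_mem _ ih
  exact key g hg

/-- the model of the subgroup generated by the two generators -/
noncomputable def co3C : PModel where
  G := CS
  n := 276
  nl := 4
  px := px
  elt := eltC
  phi := phi.comp CS.subtype
  elt_nil := Subtype.ext (wordProd_nil LT)
  elt_append := fun u v => Subtype.ext (wordProd_append LT u v)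
  px_lt := px_lt
  phi_inv_val := fun w hw p => phi_inv_word w hw p
  phi_injective := phi_injective.comp CS.subtype_injective
  closure_letters := closure_eltC

theorem chk_old : chkRange (chkOld px 276 pm) 0 4 = true := by decide +kernel

theorem chk_new0 : chkNew 276 4 ds pm 0 = true := by decide +kernel

theorem chk_new1 : chkNew 276 4 ds pm 1 = true := by decide +kernel

theorem chk_new2 : chkNew 276 4 ds pm 2 = true := by decide +kernel

theorem chk_new3 : chkNew 276 4 ds pm 3 = true := by decide +kernel

theorem chk_new4 : chkNew 276 4 ds pm 4 = true := by decide +kernel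

theorem chk_new5 : chkNew 276 4 ds pm 5 = true := by decide +kernel

theorem chk_new6 : chkNew 276 4 ds pm 6 = true := by decide +kernel

theorem chk_new7 : chkNew 276 4 ds pm 7 = true := by decide +kernel

theorem chk_new8 : chkNew 276 4 ds pm 8 = true := by decide +kernel

theorem chk_new9 : chkNew 276 4 ds pm 9 = true := by decide +kernel

theorem chk_new10 : chkNew 276 4 ds pm 10 = true := by decide +kernel

theorem chk_new11 : chkNew 276 4 ds pm 11 = true := by decide +kernel

theorem chk_new12 : chkNew 276 4 ds pm 12 = true := by decide +kernel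

theorem chk_new13 : chkNew 276 4 ds pm 13 = true := by decide +kernel

theorem chk_new14 : chkNew 276 4 ds pm 14 = true := by decide +kernel

theorem chk_new15 : chkNew 276 4 ds pm 15 = true := by decide +kernel

theorem chk_new16 : chkNew 276 4 ds pm 16 = true := by decide +kernel

theorem chk_new17 : chkNew 276 4 ds pm 17 = true := by decide +kernel

theorem chk_new : chkRange (chkNew 276 4 ds pm) 0 ds.length = true := by
  apply chkRange_of_forall
  intro k _ hk
  have hk' : k < 18 := hk
  interval_cases k
  · exact chk_new0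
  · exact chk_new1
  · exact chk_new2
  · exact chk_new3
  · exact chk_new4
  · exact chk_new5
  · exact chk_new6
  · exact chk_new7
  · exact chk_new8
  · exact chk_new9
  · exact chk_new10
  · exact chk_new11
  · exact chk_new12
  · exact chk_new13
  · exact chk_new14
  · exact chk_new15
  · exact chk_new16
  · exact chk_new17

theorem chk_slp : chkSLP co3C.px co3C.n co3C.nl ds pm = true :=
  chkSLP_of_pieces px 276 4 ds pm chk_old chk_new

/-- the model with the strong generators as letters -/
noncomputable def co3C' : PModel := slpModel co3C ds pm chk_slp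

theorem chk_lv0 : chkLevel pm 0 lv0 [lv1, lv2, lv3, lv4, lv5] = true := by decide +kernel

theorem chk_lv1 : chkLevel pm 1 lv1 [lv2, lv3, lv4, lv5] = true := by decide +kernel

theorem chk_lv2 : chkLevel pm 2 lv2 [lv3, lv4, lv5] = true := by decide +kernel

theorem chk_lv3 : chkLevel pm 3 lv3 [lv4, lv5] = true := by decide +kernel

theorem chk_lv4 : chkLevel pm 4 lv4 [lv5] = true := by decide +kernel

theorem chk_lv5 : chkLevel pm 5 lv5 [] = true := by decide +kernel

theorem chain_ok : IsChain pm baseC levelsC :=
  isChain_cons pm 0 _ lv0 _ chk_lv0 (isChain_cons pm 1 _ lv1 _ chk_lv1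
    (isChain_cons pm 2 _ lv2 _ chk_lv2 (isChain_cons pm 3 _ lv3 _ chk_lv3
      (isChain_cons pm 4 _ lv4 _ chk_lv4 (isChain_cons pm 5 _ lv5 _ chk_lv5 (isChain_nil pm))))))

theorem chk_let : chkLet 22 levelsC = true := by decide +kernel

theorem levels_prod : (levelsC.map List.length).prod = 495766656000 := by decide +kernel

theorem card_CS_ge : 495766656000 ≤ Nat.card CS := by
  have h := card_ge_of_chain co3C' baseC levelsC chain_ok
    (by decide) (letters_of_chkLet 22 levelsC chk_let)
  rw [levels_prod] at h
  exact h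

theorem CS_eq_top : CS = ⊤ := by
  apply Subgroup.eq_top_of_card_eq
  apply le_antisymm
  · exact Subgroup.card_le_card_group CS
  · rw [card_M0]
    exact card_CS_ge

end Cfsg.Agent.Lib.Helper1.Co3B
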