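import Mathlib
import Cfsg.Agent.Lib.Helper1.StabCard

/-!
# Maximality of a point stabilizer from the sizes of its suborbits
-/

set_option autoImplicit false

namespace Cfsg.Agent.Lib.Helper1.CoatomOrbits

open MulAction

variable {G X : Type*} [Group G] [MulAction G X]

/-- counting a union of classes -/
theorem ncard_classes [Finite G] (x₀ : X) (cls : X → ℕ) (V : Finset ℕ) (N : ℕ → ℕ)
    (hN : ∀ k ∈ V, {x | x ∈ orbit G x₀ ∧ cls x = k}.ncard = N k)
    (I : Finset ℕ) (hI : I ⊆ V) :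
    {x | x ∈ orbit G x₀ ∧ cls x ∈ I}.ncard = ∑ k ∈ I, N k := by
  classical
  have hfin : (orbit G x₀).Finite := Set.finite_range _
  have hfin' : ∀ k, {x | x ∈ orbit G x₀ ∧ cls x = k}.Finite :=
    fun k => hfin.subset (fun x hx => hx.1)
  have h1 : {x | x ∈ orbit G x₀ ∧ cls x ∈ I} =
      ↑(I.biUnion (fun k => (hfin' k).toFinset)) := by
    ext x
    simp only [Set.mem_ofPred_eq, Finset.coe_biUnion, Finset.mem_coe, Set.Finite.coe_toFinset,
      Set.mem_iUnion, exists_prop]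
    constructor
    · rintro ⟨h1, h2⟩
      exact ⟨cls x, h2, h1, rfl⟩
    · rintro ⟨k, hk, h1, rfl⟩
      exact ⟨h1, hk⟩
  rw [h1, Set.ncard_coe_finset, Finset.card_biUnion]
  · apply Finset.sum_congr rfl
    intro k hk
    rw [← hN k (hI hk), Set.ncard_eq_toFinset_card _ (hfin' k)]
  · intro a _ b _ hab
    rw [Function.onFun, Finset.disjoint_left]
    intro x hx hx'
    rw [Set.Finite.mem_toFinset] at hx hx'
    exact hab (hx.2.symm.trans hx'.2)

/-- A point stabilizer is a maximal subgroup if no union of suborbits containing the point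
has a size that properly divides the size of the orbit. -/
theorem isCoatom_stabilizer [Finite G] (x₀ : X) (cls : X → ℕ) (V : Finset ℕ) (N : ℕ → ℕ)
    (hV : ∀ x ∈ orbit G x₀, cls x ∈ V)
    (htrans : ∀ x ∈ orbit G x₀, ∀ y ∈ orbit G x₀, cls x = cls y →
      ∃ h ∈ stabilizer G x₀, h • x = y)
    (hN : ∀ k ∈ V, {x | x ∈ orbit G x₀ ∧ cls x = k}.ncard = N k)
    (hk₀ : ∀ x ∈ orbit G x₀, cls x = cls x₀ → x = x₀)
    (hne : stabilizer G x₀ ≠ ⊤)
    (harith : ∀ I ∈ V.powerset, cls x₀ ∈ I → (∑ k ∈ I, N k) ∣ (∑ k ∈ V, N k) →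
      I = {cls x₀} ∨ I = V) :
    IsCoatom (stabilizer G x₀) := by
  classical
  refine ⟨hne, fun L hL => ?_⟩
  set H := stabilizer G x₀ with hH
  -- the orbit of the bigger group
  set Y : Set X := {y | ∃ l ∈ L, l • x₀ = y} with hY
  have hYsub : Y ⊆ orbit G x₀ := by
    rintro y ⟨l, _, rfl⟩
    exact mem_orbit x₀ l
  set I : Finset ℕ := V.filter (fun k => ∃ y ∈ Y, cls y = k) with hIdef
  have hIV : I ⊆ V := Finset.filter_subset _ _
  have hx₀Y : x₀ ∈ Y := ⟨1, L.one_mem, one_smul _ _⟩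
  have hYeq : Y = {x | x ∈ orbit G x₀ ∧ cls x ∈ I} := by
    ext x
    constructor
    · intro hx
      refine ⟨hYsub hx, ?_⟩
      rw [hIdef, Finset.mem_filter]
      exact ⟨hV x (hYsub hx), x, hx, rfl⟩
    · rintro ⟨hx, hxI⟩
      rw [hIdef, Finset.mem_filter] at hxI
      obtain ⟨_, y, ⟨l, hl, rfl⟩, hy⟩ := hxI
      obtain ⟨h, hh, hhx⟩ := htrans (l • x₀) (mem_orbit x₀ l) x hx hy
      exact ⟨h * l, L.mul_mem (hL.le hh) hl, by rw [mul_smul, hhx]⟩
  have hcardY : Y.ncard = ∑ k ∈ I, N k := by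
    rw [hYeq]; exact ncard_classes x₀ cls V N hN I hIV
  have horb : orbit G x₀ = {x | x ∈ orbit G x₀ ∧ cls x ∈ V} := by
    ext x
    exact ⟨fun hx => ⟨hx, hV x hx⟩, fun hx => hx.1⟩
  have hcardO : (orbit G x₀).ncard = ∑ k ∈ V, N k := by
    conv_lhs => rw [horb]
    exact ncard_classes x₀ cls V N hN V (Finset.Subset.refl _)
  -- cardinalities
  have hG := StabCard.card_eq_ncard_orbit_mul (G := G) x₀
  have hLc := StabCard.card_subgroup_eq_orbit_mul (G := G) L x₀ Y (fun r => Iff.rfl)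
  have hLH : L ⊓ stabilizer G x₀ = H := inf_eq_right.mpr hL.le
  rw [hLH] at hLc
  have hHpos : 0 < Nat.card H := Nat.card_pos
  have hdvd : Y.ncard ∣ (orbit G x₀).ncard := by
    have h1 : Nat.card L ∣ Nat.card G := Subgroup.card_subgroup_dvd_card L
    rw [hLc, hG] at h1
    exact Nat.dvd_of_mul_dvd_mul_right hHpos h1
  rw [hcardY, hcardO] at hdvd
  have hk₀I : cls x₀ ∈ I := by
    rw [hIdef, Finset.mem_filter]
    exact ⟨hV x₀ (mem_orbit_self x₀), x₀, hx₀Y, rfl⟩
  rcases harith I (Finset.mem_powerset.mpr hIV) hk₀I hdvd with h | h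
  · -- then `L ≤ H`, a contradiction
    exfalso
    apply hL.not_ge
    intro l hl
    have : l • x₀ ∈ Y := ⟨l, hl, rfl⟩
    rw [hYeq] at this
    have h2 := this.2
    rw [h, Finset.mem_singleton] at h2
    exact hk₀ _ this.1 h2
  · -- then `L` is everything
    have hYO : Y.ncard = (orbit G x₀).ncard := by rw [hcardY, hcardO, h]
    have : Nat.card L = Nat.card G := by rw [hLc, hG, hYO]
    exact Subgroup.eq_top_of_card_eq L this

/-- maximality of a point stabilizer is preserved along the orbit -/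
theorem isCoatom_stabilizer_smul (g : G) (x : X) (h : IsCoatom (stabilizer G x)) :
    IsCoatom (stabilizer G (g • x)) := by
  rw [stabilizer_smul_eq_stabilizer_map_conj]
  exact ((MulAut.conj g).mapSubgroup.isCoatom_iff (stabilizer G x)).mpr h

end Cfsg.Agent.Lib.Helper1.CoatomOrbits
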