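import Cfsg.Agent.Lib.Helper1.MatCode5

/-!
# Coded monoids: words, orders and explicit subgroups of groups mapped injectively to a coded monoid
-/

set_option autoImplicit false

namespace Cfsg.Agent.Lib.Helper1

open Cfsg.Agent.Lib.Helper1.MatCode

/-- a monoid whose elements are coded by natural numbers, with a product on codes -/
structure CodeSys (M : Type*) [Monoid M] where
  /-- decoding -/
  D : ℕ → M
  /-- the product on codes -/
  mu : ℕ → ℕ → ℕ
  /-- canonical codes -/
  C : ℕ → Prop
  /-- the code of `1` -/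
  c1 : ℕ
  hmu : ∀ a b, C b → D (mu a b) = D a * D b
  hC : ∀ a b, C (mu a b)
  D_c1 : D c1 = 1
  C_c1 : C c1
  inj : ∀ a b, C a → C b → D a = D b → a = b
  /-- boolean test of canonicity -/
  CB : ℕ → Bool
  hCB : ∀ c, CB c = true → C c

namespace CodeSys

variable {M : Type*} [Monoid M] (S : CodeSys M)

/-- evaluation of a word in coded generators -/
def ev (gens : List ℕ) (w : List ℕ) : ℕ := evalW S.mu gens S.c1 w

/-- powers on codes -/
def pw (c k : ℕ) : ℕ := powN S.mu S.c1 c k

theorem C_ev (gens : List ℕ) (w : List ℕ) : S.C (S.ev gens w) :=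
  canon_evalW S.mu S.C S.hC S.C_c1 gens w

theorem C_pw (c k : ℕ) : S.C (S.pw c k) := canon_powN S.mu S.C S.hC S.C_c1 k

theorem D_pw (c k : ℕ) (hc : S.C c) : S.D (S.pw c k) = S.D c ^ k :=
  dec_powN S.D S.mu S.C S.hmu S.D_c1 hc k

theorem C_of_all {L : List ℕ} (h : L.all S.CB = true) : ∀ c ∈ L, S.C c := by
  intro c hc
  rw [List.all_eq_true] at h
  exact S.hCB c (h c hc)

theorem ne_of_code_ne {a b : ℕ} (ha : S.C a) (hb : S.C b) (h : a ≠ b) : S.D a ≠ S.D b :=
  fun he => h (S.inj a b ha hb he)

/-- the `m`-th power of the word `w` has prime order `q` -/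
def ordChk (gens : List ℕ) (w : List ℕ) (m q : ℕ) : Bool :=
  (S.pw (S.pw (S.ev gens w) m) q == S.c1) && (S.pw (S.ev gens w) m != S.c1)

/-- explicit subgroup check: the literal list `L` is `c1` followed by the values of the words `ws`,
is closed under right multiplication by its members, and its members are pairwise different -/
def subChk (gens : List ℕ) (ws : List (List ℕ)) (L : List ℕ) : Bool :=
  (L == S.c1 :: ws.map (S.ev gens)) && L.tail.all (fun s => chkRC S.mu L s) &&
  (List.range L.length).all (fun i => (List.range L.length).all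
    (fun j => i == j || L.getD i 0 != L.getD j 0))

theorem one_mem_AT_of_head {L : List ℕ} (h0 : L.getD 0 0 = S.c1) (hpos : 0 < L.length) :
    (1 : M) ∈ AT S.D L [S.c1] := by
  refine ⟨S.c1, ?_, S.c1, List.mem_singleton.mpr rfl, by rw [S.D_c1, one_mul]⟩
  rw [← h0, List.getD_eq_getElem _ _ hpos]
  exact List.getElem_mem _

section abstract

variable {Γ : Type*} [Group Γ] (φ : Γ →* M) (G : List Γ) (gens : List ℕ)
variable (hlen : G.length = gens.length)
  (hG : ∀ i, ∀ (h : i < G.length) (h' : i < gens.length), φ G[i] = S.D gens[i])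
  (hcan : ∀ c ∈ gens, S.C c)
include hlen hG hcan

theorem phi_wordProd (w : List ℕ) : φ (wordProd G w) = S.D (S.ev gens w) :=
  dec_evalW S.D S.mu S.C S.hmu φ S.D_c1 S.C_c1 G gens hlen hG hcan w

theorem phi_wordProd_pow (w : List ℕ) (m : ℕ) : φ (wordProd G w ^ m) = S.D (S.pw (S.ev gens w) m) := by
  rw [map_pow, S.phi_wordProd φ G gens hlen hG hcan, S.D_pw _ _ (S.C_ev gens w)]

theorem eq_one_of_ev (hφ : Function.Injective φ) (w : List ℕ) (h : S.ev gens w = S.c1) :
    wordProd G w = 1 := by
  apply hφ
  rw [S.phi_wordProd φ G gens hlen hG hcan, h, S.D_c1, map_one]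

theorem eq_of_ev (hφ : Function.Injective φ) (w w' : List ℕ) (h : S.ev gens w = S.ev gens w') :
    wordProd G w = wordProd G w' := by
  apply hφ
  rw [S.phi_wordProd φ G gens hlen hG hcan, S.phi_wordProd φ G gens hlen hG hcan, h]

theorem orderOf_of_ordChk (hφ : Function.Injective φ) (w : List ℕ) (m q : ℕ) (hq : q.Prime)
    (h : S.ordChk gens w m q = true) : orderOf (wordProd G w ^ m) = q := by
  unfold ordChk at h
  rw [Bool.and_eq_true, beq_iff_eq, bne_iff_ne] at h
  have : Fact q.Prime := ⟨hq⟩
  apply orderOf_eq_prime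
  · apply hφ
    rw [map_pow, S.phi_wordProd_pow φ G gens hlen hG hcan, ← S.D_pw _ _ (S.C_pw _ _), h.1, S.D_c1, map_one]
  · intro h1
    have h2 := congrArg φ h1
    rw [S.phi_wordProd_pow φ G gens hlen hG hcan, map_one, ← S.D_c1] at h2
    exact S.ne_of_code_ne (S.C_pw _ _) S.C_c1 h.2 h2

theorem orderOf_wordProd (hφ : Function.Injective φ) (w : List ℕ) (q : ℕ) (hq : q.Prime)
    (h : S.ordChk gens w 1 q = true) : orderOf (wordProd G w) = q := by
  have := S.orderOf_of_ordChk φ G gens hlen hG hcan hφ w 1 q hq h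
  rwa [pow_one] at this

/-- a list closed under right multiplication by the generators contains the codes of all elements -/
theorem mem_list (hgen : Subgroup.closure {g | g ∈ G} = ⊤)
    (L : List ℕ) (h0 : L.getD 0 0 = S.c1) (hpos : 0 < L.length)
    (hrc : gens.all (fun s => chkRC S.mu L s) = true) (g : Γ) : ∃ a ∈ L, φ g = S.D a := by
  have hstep : ∀ u ∈ {g | g ∈ G}, ∀ q ∈ AT S.D L [S.c1], q * φ u ∈ AT S.D L [S.c1] := by
    rintro u hu q ⟨a, ha, t, ht, rfl⟩
    rw [List.mem_singleton.mp ht, S.D_c1, mul_one]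
    obtain ⟨i, hi, rfl⟩ := List.getElem_of_mem hu
    have hi' : i < gens.length := by omega
    rw [hG i hi hi']
    rw [List.all_eq_true] at hrc
    obtain ⟨q', hq', h4⟩ := chkRC_sound S.D S.mu S.C S.hmu (hcan _ (List.getElem_mem hi'))
      (hrc _ (List.getElem_mem hi')) a ha
    exact ⟨q', hq', S.c1, List.mem_singleton.mpr rfl, by rw [h4, S.D_c1, mul_one]⟩
  have h1 := subgroup_closure_subset φ (AT_finite S.D L [S.c1]) (S.one_mem_AT_of_head h0 hpos) _ hstep g
    (by rw [hgen]; exact Subgroup.mem_top g)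
  obtain ⟨a, ha, t, ht, h2⟩ := h1
  rw [List.mem_singleton.mp ht, S.D_c1, mul_one] at h2
  exact ⟨a, ha, h2⟩

/-- the subgroup generated by the values of the words `ws` -/
def subW (ws : List (List ℕ)) : Subgroup Γ := Subgroup.closure {g | ∃ w ∈ ws, g = wordProd G w}

theorem subW_mem (hφ : Function.Injective φ) (ws : List (List ℕ)) (L : List ℕ)
    (h : S.subChk gens ws L = true) (u : Γ) (hu : u ∈ subW G ws) :
    u = 1 ∨ ∃ w ∈ ws, u = wordProd G w := by
  unfold subChk at h
  simp only [Bool.and_eq_true, beq_iff_eq] at h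
  obtain ⟨⟨hL, hrc⟩, -⟩ := h
  have h0 : L.getD 0 0 = S.c1 := by rw [hL]; rfl
  have hpos : 0 < L.length := by rw [hL]; simp
  have htail : L.tail = ws.map (S.ev gens) := by rw [hL]; rfl
  have hstep : ∀ u ∈ {g | ∃ w ∈ ws, g = wordProd G w}, ∀ q ∈ AT S.D L [S.c1],
      q * φ u ∈ AT S.D L [S.c1] := by
    rintro u ⟨w, hw, rfl⟩ q ⟨a, ha, t, ht, rfl⟩
    rw [List.mem_singleton.mp ht, S.D_c1, mul_one, S.phi_wordProd φ G gens hlen hG hcan]
    rw [List.all_eq_true] at hrc
    have hmem : S.ev gens w ∈ L.tail := by rw [htail]; exact List.mem_map_of_mem hw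
    obtain ⟨q', hq', h4⟩ := chkRC_sound S.D S.mu S.C S.hmu (S.C_ev gens w) (hrc _ hmem) a ha
    exact ⟨q', hq', S.c1, List.mem_singleton.mpr rfl, by rw [h4, S.D_c1, mul_one]⟩
  have h1 := subgroup_closure_subset φ (AT_finite S.D L [S.c1]) (S.one_mem_AT_of_head h0 hpos) _ hstep u hu
  obtain ⟨a, ha, t, ht, h2⟩ := h1
  rw [List.mem_singleton.mp ht, S.D_c1, mul_one] at h2
  rw [hL, List.mem_cons] at ha
  rcases ha with rfl | ha
  · left
    apply hφ
    rw [h2, S.D_c1, map_one]
  · right
    rw [List.mem_map] at ha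
    obtain ⟨w, hw, rfl⟩ := ha
    refine ⟨w, hw, ?_⟩
    apply hφ
    rw [h2, S.phi_wordProd φ G gens hlen hG hcan]

theorem card_subW [Finite Γ] (hφ : Function.Injective φ) (ws : List (List ℕ)) (L : List ℕ)
    (h : S.subChk gens ws L = true) : Nat.card (subW G ws) = ws.length + 1 := by
  have hmem := S.subW_mem φ G gens hlen hG hcan hφ ws L h
  unfold subChk at h
  simp only [Bool.and_eq_true, beq_iff_eq] at h
  obtain ⟨⟨hL, hrc⟩, hne⟩ := h
  have hlenL : L.length = ws.length + 1 := by rw [hL]; simp
  have hLcan : ∀ i, i < ws.length + 1 → S.C (L.getD i 0) := by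
    intro i hi
    rw [hL]
    cases i with
    | zero => exact S.C_c1
    | succ i =>
      have hi' : i < ws.length := by omega
      rw [List.getD_cons_succ, List.getD_eq_getElem _ _ (by simpa using hi'), List.getElem_map]
      exact S.C_ev gens _
  let el : ℕ → Γ := fun i => match i with
    | 0 => 1
    | i + 1 => wordProd G (ws.getD i [])
  have hel : ∀ i, i < ws.length + 1 → φ (el i) = S.D (L.getD i 0) := by
    intro i hi
    cases i with
    | zero => show φ 1 = _; rw [map_one, hL]; exact S.D_c1.symm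
    | succ i =>
      show φ (wordProd G (ws.getD i [])) = _
      have hi' : i < ws.length := by omega
      have e1 : (List.map (S.ev gens) ws).getD i 0 = S.ev gens ws[i] := by
        rw [List.getD_eq_getElem _ _ (by simpa using hi'), List.getElem_map]
      have e2 : ws.getD i [] = ws[i] := List.getD_eq_getElem _ _ hi'
      rw [S.phi_wordProd φ G gens hlen hG hcan, hL, List.getD_cons_succ, e1, e2]
  have helmem : ∀ i, i < ws.length + 1 → el i ∈ subW G ws := by
    intro i hi
    cases i with
    | zero => exact Subgroup.one_mem _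
    | succ i =>
      have hi' : i < ws.length := by omega
      apply Subgroup.subset_closure
      exact ⟨ws.getD i [], by rw [List.getD_eq_getElem _ _ hi']; exact List.getElem_mem _, rfl⟩
  apply le_antisymm
  · have hsurj : ∀ u : subW G ws, ∃ i : Fin (ws.length + 1), el i = u.1 := by
      intro u
      rcases hmem u.1 u.2 with h1 | ⟨w, hw, h1⟩
      · exact ⟨0, h1.symm⟩
      · obtain ⟨i, hi, rfl⟩ := List.getElem_of_mem hw
        refine ⟨⟨i + 1, by omega⟩, ?_⟩
        show wordProd G (ws.getD i []) = _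
        rw [h1, List.getD_eq_getElem _ _ hi]
    choose f hf using hsurj
    have hinj : Function.Injective f := by
      intro a b hab
      apply Subtype.ext
      rw [← hf a, ← hf b, hab]
    have := Nat.card_le_card_of_injective f hinj
    simpa using this
  · let f : Fin (ws.length + 1) → subW G ws := fun i => ⟨el i, helmem i i.2⟩
    have hinj : Function.Injective f := by
      intro a b hab
      have h1 : el a = el b := congrArg Subtype.val hab
      by_contra hne'
      have hab' : (a : ℕ) ≠ b := fun h => hne' (Fin.ext h)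
      rw [List.all_eq_true] at hne
      have h2 := hne a (List.mem_range.mpr (by omega))
      rw [List.all_eq_true] at h2
      have h3 := h2 b (List.mem_range.mpr (by omega))
      rw [Bool.or_eq_true, beq_iff_eq, bne_iff_ne] at h3
      rcases h3 with h3 | h3
      · exact hab' h3
      · apply S.ne_of_code_ne (hLcan a a.2) (hLcan b b.2) h3
        have := congrArg φ h1
        rwa [hel a a.2, hel b b.2] at this
    have := Nat.card_le_card_of_injective f hinj
    simpa using this

end abstract

end CodeSys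

end Cfsg.Agent.Lib.Helper1
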