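import Cfsg.Agent.Lib.Helper1.CodeSys1

/-!
# Coded monoids: coset tables, unique decomposition and normalizers
-/

set_option autoImplicit false

namespace Cfsg.Agent.Lib.Helper1

open Cfsg.Agent.Lib.Helper1.MatCode

/-- stepping certificate recording the fixed cosets: `cf k = 65536 * i + j` means
`T k * s = A[i] * T j`, and `j = k` only for `k` in `Fix` -/
def chkStepFixL (mu : ℕ → ℕ → ℕ) (A : List ℕ) (Tf : ℕ → ℕ) (N s : ℕ) (cf : ℕ → ℕ) (Fix : List ℕ) : Bool :=
  (List.range N).all (fun k =>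
    decide (cf k % 65536 < N) && (cf k % 65536 != k || Fix.contains k) &&
      match A[cf k / 65536]? with
      | some a => mu (Tf k) s == mu a (Tf (cf k % 65536))
      | none => false)

namespace CodeSys

variable {M : Type*} [Monoid M] (S : CodeSys M)

theorem chkStepFixL_sound {A : List ℕ} {Tf : ℕ → ℕ} {N s : ℕ} {cf : ℕ → ℕ} {Fix : List ℕ}
    (hs : S.C s) (hT : ∀ k, k < N → S.C (Tf k)) (h : chkStepFixL S.mu A Tf N s cf Fix = true) :
    ∀ k, k < N → ∃ a ∈ A, ∃ k', k' < N ∧ (k' = k → k ∈ Fix) ∧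
      S.D (Tf k) * S.D s = S.D a * S.D (Tf k') := by
  intro k hk
  unfold chkStepFixL at h
  rw [List.all_eq_true] at h
  have h3 := h k (List.mem_range.mpr hk)
  rw [Bool.and_eq_true, Bool.and_eq_true, decide_eq_true_eq] at h3
  obtain ⟨⟨h4, h4'⟩, h5⟩ := h3
  cases hA : A[cf k / 65536]? with
  | none => rw [hA] at h5; exact absurd h5 (by simp)
  | some a =>
    rw [hA] at h5
    have h6 : S.mu (Tf k) s = S.mu a (Tf (cf k % 65536)) := by simpa using h5
    refine ⟨a, List.mem_of_getElem? hA, cf k % 65536, h4, ?_, ?_⟩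
    · intro he
      rw [Bool.or_eq_true, bne_iff_ne, List.contains_iff_mem] at h4'
      rcases h4' with h7 | h7
      · exact absurd he h7
      · exact h7
    · rw [← S.hmu _ _ hs, ← S.hmu _ _ (hT _ h4), h6]

section cosets

variable {Γ : Type*} [Group Γ] [Finite Γ] (φ : Γ →* M) (hφ : Function.Injective φ)
variable (G : List Γ) (gens : List ℕ) (hlen : G.length = gens.length)
  (hG : ∀ i, ∀ (h : i < G.length) (h' : i < gens.length), φ G[i] = S.D gens[i])
  (hcan : ∀ c ∈ gens, S.C c)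
  (hgen : Subgroup.closure {g | g ∈ G} = ⊤)
variable (A : List ℕ) (Tf : ℕ → ℕ) (N : ℕ)
  (hA0 : A.getD 0 0 = S.c1) (hApos : 0 < A.length) (hT0 : Tf 0 = S.c1) (hNpos : 0 < N)
  (hTcan : ∀ k, k < N → S.C (Tf k))
  (hAmul : ∀ a ∈ A, ∀ a' ∈ A, ∃ a'' ∈ A, S.D a * S.D a' = S.D a'')
  (hstep : ∀ s ∈ gens, ∀ t ∈ tab Tf N, ∃ a ∈ A, ∃ t' ∈ tab Tf N, S.D t * S.D s = S.D a * S.D t')
  (hcard : Nat.card Γ = A.length * N)

include hlen hG hgen hA0 hApos hT0 hNpos hAmul hstep in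
theorem decomp (g : Γ) : ∃ a ∈ A, ∃ k, k < N ∧ φ g = S.D a * S.D (Tf k) := by
  have h1 : (1 : M) ∈ AT S.D A (tab Tf N) := by
    refine ⟨S.c1, ?_, S.c1, mem_tab.mpr ⟨0, hNpos, hT0⟩, by rw [S.D_c1, one_mul]⟩
    rw [← hA0, List.getD_eq_getElem _ _ hApos]
    exact List.getElem_mem _
  have hSG : ∀ u ∈ {g | g ∈ G}, ∀ q ∈ AT S.D A (tab Tf N), q * φ u ∈ AT S.D A (tab Tf N) := by
    intro u hu q hq
    obtain ⟨i, hi, rfl⟩ := List.getElem_of_mem hu
    have hi' : i < gens.length := by omega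
    rw [hG i hi hi']
    exact closure_subset S.D A (tab Tf N) gens hAmul hstep _ (List.getElem_mem hi') q hq
  have h := subgroup_closure_subset φ (AT_finite S.D A (tab Tf N)) h1 _ hSG g
    (by rw [hgen]; exact Subgroup.mem_top g)
  obtain ⟨a, ha, t, ht, h2⟩ := h
  obtain ⟨k, hk, rfl⟩ := mem_tab.mp ht
  exact ⟨a, ha, k, hk, h2⟩

include hφ hlen hG hgen hA0 hApos hT0 hNpos hAmul hstep hcard in
theorem coset_unique (a a' : ℕ) (ha : a ∈ A) (ha' : a' ∈ A) (k k' : ℕ) (hk : k < N) (hk' : k' < N)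
    (h : S.D a * S.D (Tf k) = S.D a' * S.D (Tf k')) : k = k' := by
  classical
  let F : ℕ × ℕ → M := fun p => S.D (A.getD p.1 0) * S.D (Tf p.2)
  let St : Finset (ℕ × ℕ) := Finset.range A.length ×ˢ Finset.range N
  have hsub : ∀ g : Γ, φ g ∈ St.image F := by
    intro g
    obtain ⟨a, ha, k, hk, h1⟩ := S.decomp φ G gens hlen hG hgen A Tf N hA0 hApos hT0 hNpos hAmul hstep g
    obtain ⟨i, hi, rfl⟩ := List.getElem_of_mem ha
    rw [Finset.mem_image]
    refine ⟨(i, k), ?_, ?_⟩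
    · rw [Finset.mem_product, Finset.mem_range, Finset.mem_range]
      exact ⟨hi, hk⟩
    · show S.D (A.getD i 0) * S.D (Tf k) = _
      rw [h1, List.getD_eq_getElem _ _ hi]
  have hS : St.card = A.length * N := by
    rw [Finset.card_product, Finset.card_range, Finset.card_range]
  have hcard' : (St.image F).card = St.card := by
    apply le_antisymm Finset.card_image_le
    have h1 : Nat.card Γ ≤ (St.image F).card := by
      have := Nat.card_le_card_of_injective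
        (fun g : Γ => (⟨φ g, hsub g⟩ : {m // m ∈ St.image F}))
        (fun a b hab => hφ (congrArg Subtype.val hab))
      rw [Nat.card_eq_fintype_card (α := {m // m ∈ St.image F}), Fintype.card_coe] at this
      exact this
    rw [hcard] at h1
    rw [hS]
    exact h1
  have hinj : Set.InjOn F ↑St := Finset.card_image_iff.mp hcard'
  obtain ⟨i, hi, rfl⟩ := List.getElem_of_mem ha
  obtain ⟨i', hi', rfl⟩ := List.getElem_of_mem ha'
  have m1 : ((i, k) : ℕ × ℕ) ∈ (↑St : Set (ℕ × ℕ)) := by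
    rw [Finset.mem_coe, Finset.mem_product, Finset.mem_range, Finset.mem_range]
    exact ⟨hi, hk⟩
  have m2 : ((i', k') : ℕ × ℕ) ∈ (↑St : Set (ℕ × ℕ)) := by
    rw [Finset.mem_coe, Finset.mem_product, Finset.mem_range, Finset.mem_range]
    exact ⟨hi', hk'⟩
  have h3 := hinj m1 m2
    (by
      show S.D (A.getD i 0) * S.D (Tf k) = S.D (A.getD i' 0) * S.D (Tf k')
      rw [List.getD_eq_getElem _ _ hi, List.getD_eq_getElem _ _ hi']
      exact h)
  exact congrArg Prod.snd h3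

/-- elements of a subgroup generated by elements whose codes preserve `A` have codes in `A` -/
theorem phi_mem_of_closure (SG : Set Γ) (SA : List ℕ) (hSA : ∀ s ∈ SA, S.C s)
    (hSG : ∀ u ∈ SG, ∃ s ∈ SA, φ u = S.D s)
    (hA0 : A.getD 0 0 = S.c1) (hApos : 0 < A.length)
    (hrc : SA.all (fun s => chkRC S.mu A s) = true) (g : Γ) (hg : g ∈ Subgroup.closure SG) :
    ∃ a ∈ A, φ g = S.D a := by
  have hstep : ∀ u ∈ SG, ∀ q ∈ AT S.D A [S.c1], q * φ u ∈ AT S.D A [S.c1] := by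
    rintro u hu q ⟨a, ha, t, ht, rfl⟩
    obtain ⟨s, hs, hus⟩ := hSG u hu
    rw [List.mem_singleton.mp ht, S.D_c1, mul_one, hus]
    rw [List.all_eq_true] at hrc
    obtain ⟨q', hq', h4⟩ := chkRC_sound S.D S.mu S.C S.hmu (hSA s hs) (hrc s hs) a ha
    exact ⟨q', hq', S.c1, List.mem_singleton.mpr rfl, by rw [h4, S.D_c1, mul_one]⟩
  have h1 := subgroup_closure_subset φ (AT_finite S.D A [S.c1]) (S.one_mem_AT_of_head hA0 hApos) _ hstep g hg
  obtain ⟨a, ha, t, ht, h2⟩ := h1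
  rw [List.mem_singleton.mp ht, S.D_c1, mul_one] at h2
  exact ⟨a, ha, h2⟩

include hφ hlen hG hgen hA0 hApos hT0 hNpos hAmul hstep hcard hTcan in
/-- an element conjugating `s` into the cyclic subgroup it generates, with codes in `A`, lies in the cosets fixed by `s` -/
theorem mem_fixed_cosets (s : Γ) (cs : ℕ) (hs : φ s = S.D cs) (hcs : S.C cs)
    (hsA : ∀ z ∈ Subgroup.zpowers s, ∃ a ∈ A, φ z = S.D a)
    (cf : ℕ → ℕ) (Fix : List ℕ) (hcert : chkStepFixL S.mu A Tf N cs cf Fix = true)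
    (n : Γ) (h2 : n * s * n⁻¹ ∈ Subgroup.zpowers s) :
    ∃ a ∈ A, ∃ k ∈ Fix, k < N ∧ φ n = S.D a * S.D (Tf k) := by
  obtain ⟨a, ha, k, hk, h1⟩ := S.decomp φ G gens hlen hG hgen A Tf N hA0 hApos hT0 hNpos hAmul hstep n
  obtain ⟨az, haz, h3⟩ := hsA _ h2
  have h4 : n * s = (n * s * n⁻¹) * n := by group
  obtain ⟨a1, ha1, k', hk', hne, h5⟩ := S.chkStepFixL_sound hcs hTcan hcert k hk
  have e1 : φ (n * s) = S.D a * (S.D a1 * S.D (Tf k')) := by
    rw [map_mul, h1, hs, mul_assoc, h5]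
  obtain ⟨a2, ha2, h6⟩ := hAmul a ha a1 ha1
  have e1' : φ (n * s) = S.D a2 * S.D (Tf k') := by rw [e1, ← mul_assoc, h6]
  have e2 : φ (n * s) = S.D az * (S.D a * S.D (Tf k)) := by
    rw [h4, map_mul, h3, h1]
  obtain ⟨a3, ha3, h7⟩ := hAmul az haz a ha
  have e2' : φ (n * s) = S.D a3 * S.D (Tf k) := by rw [e2, ← mul_assoc, h7]
  have hkk : k' = k := S.coset_unique φ hφ G gens hlen hG hgen A Tf N hA0 hApos hT0 hNpos hAmul hstep
    hcard a2 a3 ha2 ha3 k' k hk' hk (e1'.symm.trans e2')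
  exact ⟨a, ha, k, hne hkk, hk, h1⟩

end cosets

end CodeSys

end Cfsg.Agent.Lib.Helper1
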