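import Mathlib

/-!
# Normal subgroups and explicit Sylow subgroups
-/

set_option autoImplicit false

namespace Cfsg.Agent.Lib.Helper1.SylowChain

open Subgroup

theorem factorization_pow_mul {p : ℕ} (hp : p.Prime) (k m : ℕ) (hm : ¬ p ∣ m) :
    (p ^ k * m).factorization p = k := by
  have hm0 : m ≠ 0 := by rintro rfl; exact hm (dvd_zero _)
  rw [Nat.factorization_mul (pow_ne_zero _ hp.ne_zero) hm0, Nat.Prime.factorization_pow hp]
  simp [Nat.factorization_eq_zero_of_not_dvd hm]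

/-- a normal subgroup of order divisible by `p` meets every Sylow `p`-subgroup nontrivially -/
theorem exists_mem_sylow_of_dvd {G : Type*} [Group G] [Finite G] {p : ℕ} [hp : Fact p.Prime]
    (Q : Subgroup G) (hQ : Nat.card Q = p ^ (Nat.card G).factorization p) (N : Subgroup G)
    [hN : N.Normal] (h : p ∣ Nat.card N) : ∃ u ∈ N, u ∈ Q ∧ u ≠ 1 := by
  obtain ⟨v, hv⟩ := exists_prime_orderOf_dvd_card' p h
  have hvG : orderOf (v : G) = p := by rw [Subgroup.orderOf_coe, hv]
  have hPG : IsPGroup p (zpowers (v : G)) := by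
    apply IsPGroup.of_card (n := 1)
    rw [Nat.card_zpowers, hvG, pow_one]
  obtain ⟨P', hle⟩ := hPG.exists_le_sylow
  obtain ⟨g, hg⟩ := MulAction.exists_smul_eq G P' (Sylow.ofCard Q hQ)
  refine ⟨g * v * g⁻¹, hN.conj_mem _ v.2 g, ?_, ?_⟩
  · have h1 : (v : G) ∈ (P' : Subgroup G) := hle (mem_zpowers _)
    have h2 : g * v * g⁻¹ ∈ ((g • P' : Sylow p G) : Subgroup G) := by
      rw [Sylow.coe_subgroup_smul, Subgroup.mem_pointwise_smul_iff_inv_smul_mem, MulAut.smul_def, MulAut.conj_inv_apply]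
      simpa [mul_assoc] using h1
    rw [hg] at h2
    exact h2
  · intro h1
    have h2 : (v : G) = 1 := by
      have := congrArg (fun z => g⁻¹ * z * g) h1
      simpa [mul_assoc] using this
    rw [h2, orderOf_one] at hvG
    exact hp.out.ne_one hvG.symm

theorem mem_of_mem_zpowers_prime {G : Type*} [Group G] {r u : G} {p : ℕ} [hp : Fact p.Prime]
    (hr : orderOf r = p) (hu : u ∈ zpowers r) (hne : u ≠ 1) (N : Subgroup G) (huN : u ∈ N) :
    r ∈ N := by
  have h1 : zpowers u ≤ zpowers r := (zpowers_le).mpr hu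
  have h2 : orderOf u ∣ p := hr ▸ orderOf_dvd_of_mem_zpowers hu
  have h3 : orderOf u = p := by
    rcases (Nat.dvd_prime hp.out).mp h2 with h | h
    · exact absurd (orderOf_eq_one_iff.mp h) hne
    · exact h
  have hfo : IsOfFinOrder r := orderOf_pos_iff.mp (hr ▸ hp.out.pos)
  have hfin : Finite (zpowers r) := hfo.finite_zpowers
  have h4 : zpowers u = zpowers r :=
    Subgroup.eq_of_le_of_card_ge h1 (by rw [Nat.card_zpowers, Nat.card_zpowers, h3, hr])
  have h5 : r ∈ zpowers u := by rw [h4]; exact mem_zpowers r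
  exact (zpowers_le.mpr huN) h5

theorem prime_dvd_175560 {p : ℕ} (hp : p.Prime) (h : p ∣ 175560) :
    p = 2 ∨ p = 3 ∨ p = 5 ∨ p = 7 ∨ p = 11 ∨ p = 19 := by
  have e : (175560 : ℕ) = 2 ^ 3 * 3 * 5 * 7 * 11 * 19 := by norm_num
  rw [e] at h
  rcases (Nat.Prime.dvd_mul hp).mp h with h | h
  · rcases (Nat.Prime.dvd_mul hp).mp h with h | h
    · rcases (Nat.Prime.dvd_mul hp).mp h with h | h
      · rcases (Nat.Prime.dvd_mul hp).mp h with h | h
        · rcases (Nat.Prime.dvd_mul hp).mp h with h | h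
          · left; exact (Nat.prime_dvd_prime_iff_eq hp Nat.prime_two).mp (hp.dvd_of_dvd_pow h)
          · right; left; exact (Nat.prime_dvd_prime_iff_eq hp (by norm_num)).mp h
        · right; right; left; exact (Nat.prime_dvd_prime_iff_eq hp (by norm_num)).mp h
      · right; right; right; left; exact (Nat.prime_dvd_prime_iff_eq hp (by norm_num)).mp h
    · right; right; right; right; left; exact (Nat.prime_dvd_prime_iff_eq hp (by norm_num)).mp h
  · right; right; right; right; right; exact (Nat.prime_dvd_prime_iff_eq hp (by norm_num)).mp h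

/-- simplicity of a group of order `175560` from explicit Sylow subgroups and fusion data -/
theorem simple_175560 {G : Type*} [Group G] [Finite G] (hcard : Nat.card G = 175560)
    (r2 r3 r5 r7 r11 r19 : G) (E : Subgroup G)
    (h3 : orderOf r3 = 3) (h5 : orderOf r5 = 5) (h7 : orderOf r7 = 7) (h11 : orderOf r11 = 11)
    (h19 : orderOf r19 = 19) (hE : Nat.card E = 8)
    (hE2 : ∀ u ∈ E, u ≠ 1 → ∃ g : G, u = g * r2 * g⁻¹)
    (c2 : ∀ N : Subgroup G, N.Normal → r2 ∈ N → 19 ∣ Nat.card N)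
    (c3 : ∀ N : Subgroup G, N.Normal → r3 ∈ N → 19 ∣ Nat.card N)
    (c5 : ∀ N : Subgroup G, N.Normal → r5 ∈ N → 19 ∣ Nat.card N)
    (c7 : ∀ N : Subgroup G, N.Normal → r7 ∈ N → 19 ∣ Nat.card N)
    (c11 : ∀ N : Subgroup G, N.Normal → r11 ∈ N → 19 ∣ Nat.card N)
    (d : ∀ N : Subgroup G, N.Normal → r19 ∈ N →
      2 ∣ Nat.card N ∧ 3 ∣ Nat.card N ∧ 5 ∣ Nat.card N ∧ 7 ∣ Nat.card N ∧ 11 ∣ Nat.card N) :
    IsSimpleGroup G := by
  have hnt : Nontrivial G := by
    rw [← Finite.one_lt_card_iff_nontrivial, hcard]; norm_num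
  have f2 : (Nat.card G).factorization 2 = 3 := by
    rw [hcard, show (175560 : ℕ) = 2 ^ 3 * 21945 by norm_num]
    exact factorization_pow_mul Nat.prime_two 3 21945 (by decide)
  have fq : ∀ q m : ℕ, q.Prime → 175560 = q ^ 1 * m → ¬ q ∣ m → (Nat.card G).factorization q = 1 := by
    intro q m hq e hm
    rw [hcard, e]
    exact factorization_pow_mul hq 1 m hm
  have f3 := fq 3 58520 (by norm_num) (by norm_num) (by decide)
  have f5 := fq 5 35112 (by norm_num) (by norm_num) (by decide)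
  have f7 := fq 7 25080 (by norm_num) (by norm_num) (by decide)
  have f11 := fq 11 15960 (by norm_num) (by norm_num) (by decide)
  have f19 := fq 19 9240 (by norm_num) (by norm_num) (by decide)
  -- the cyclic Sylow subgroups
  have cyc : ∀ (q : ℕ) (r : G) (N : Subgroup G), q.Prime → orderOf r = q →
      (Nat.card G).factorization q = 1 → N.Normal → q ∣ Nat.card N → r ∈ N := by
    intro q r N hq hr hf hN hdvd
    have : Fact q.Prime := ⟨hq⟩
    have hQ : Nat.card (zpowers r) = q ^ (Nat.card G).factorization q := by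
      rw [hf, pow_one, Nat.card_zpowers, hr]
    obtain ⟨u, huN, huQ, hne⟩ := exists_mem_sylow_of_dvd (zpowers r) hQ N hdvd
    exact mem_of_mem_zpowers_prime hr huQ hne N huN
  have two : ∀ N : Subgroup G, N.Normal → 2 ∣ Nat.card N → r2 ∈ N := by
    intro N hN hdvd
    have : Fact (Nat.Prime 2) := ⟨Nat.prime_two⟩
    have hQ : Nat.card E = 2 ^ (Nat.card G).factorization 2 := by rw [f2, hE]; norm_num
    obtain ⟨u, huN, huE, hne⟩ := exists_mem_sylow_of_dvd E hQ N hdvd
    obtain ⟨g, hg⟩ := hE2 u huE hne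
    have h1 : r2 = g⁻¹ * u * g⁻¹⁻¹ := by rw [hg]; group
    rw [h1]
    exact hN.conj_mem u huN g⁻¹
  refine ⟨fun N hN => ?_⟩
  by_cases hbot : N = ⊥
  · exact Or.inl hbot
  right
  have hne1 : Nat.card N ≠ 1 := fun h => hbot (Subgroup.eq_bot_of_card_eq N h)
  obtain ⟨p, hp, hpN⟩ := Nat.exists_prime_and_dvd hne1
  have hNG : Nat.card N ∣ 175560 := hcard ▸ Subgroup.card_subgroup_dvd_card N
  have h19N : 19 ∣ Nat.card N := by
    rcases prime_dvd_175560 hp (dvd_trans hpN hNG) with rfl | rfl | rfl | rfl | rfl | rfl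
    · exact c2 N hN (two N hN hpN)
    · exact c3 N hN (cyc 3 r3 N hp h3 f3 hN hpN)
    · exact c5 N hN (cyc 5 r5 N hp h5 f5 hN hpN)
    · exact c7 N hN (cyc 7 r7 N hp h7 f7 hN hpN)
    · exact c11 N hN (cyc 11 r11 N hp h11 f11 hN hpN)
    · exact hpN
  have hr19 : r19 ∈ N := cyc 19 r19 N (by norm_num) h19 f19 hN h19N
  obtain ⟨d2, d3, d5, d7, d11⟩ := d N hN hr19
  have hr2 : r2 ∈ N := two N hN d2
  have hEN : E ≤ N := by
    intro e he
    by_cases h1 : e = 1
    · rw [h1]; exact N.one_mem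
    · obtain ⟨g, hg⟩ := hE2 e he h1
      rw [hg]
      exact hN.conj_mem r2 hr2 g
  have d8 : 8 ∣ Nat.card N := hE ▸ Subgroup.card_dvd_of_le hEN
  have e1 : 8 * 3 ∣ Nat.card N := Nat.Coprime.mul_dvd_of_dvd_of_dvd (by norm_num) d8 d3
  have e2 : 8 * 3 * 5 ∣ Nat.card N := Nat.Coprime.mul_dvd_of_dvd_of_dvd (by norm_num) e1 d5
  have e3 : 8 * 3 * 5 * 7 ∣ Nat.card N := Nat.Coprime.mul_dvd_of_dvd_of_dvd (by norm_num) e2 d7
  have e4 : 8 * 3 * 5 * 7 * 11 ∣ Nat.card N := Nat.Coprime.mul_dvd_of_dvd_of_dvd (by norm_num) e3 d11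
  have e5 : 8 * 3 * 5 * 7 * 11 * 19 ∣ Nat.card N :=
    Nat.Coprime.mul_dvd_of_dvd_of_dvd (by norm_num) e4 h19N
  have e6 : Nat.card N = 175560 := Nat.dvd_antisymm hNG (by norm_num at e5 ⊢; exact e5)
  exact (Subgroup.card_eq_iff_eq_top N).mp (by rw [e6, hcard])

end Cfsg.Agent.Lib.Helper1.SylowChain
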