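import Cfsg.Agent.Lib.Helper1.CodeSys2
import Cfsg.Agent.Lib.Helper1.SylowChain

/-!
# Coded monoids: automorphisms of a group with a certified chain of local subgroups
-/

set_option autoImplicit false

namespace Cfsg.Agent.Lib.Helper1

open Cfsg.Agent.Lib.Helper1.MatCode Cfsg.Agent.Lib.Helper1.SylowChain

/-- image of a word under a homomorphism -/
theorem map_wordProd' {Γ Δ : Type*} [Group Γ] [Group Δ] (f : Γ →* Δ) (G : List Γ) (w : List ℕ) :
    f (wordProd G w) = wordProd (G.map f) w := by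
  induction w with
  | nil => rw [wordProd_nil, wordProd_nil, map_one]
  | cons i w ih =>
    rw [wordProd_cons, wordProd_cons, map_mul, ih]
    congr 1
    by_cases hi : i < G.length
    · rw [List.getD_eq_getElem _ _ hi, List.getD_eq_getElem _ _ (by simpa using hi), List.getElem_map]
    · rw [List.getD_eq_default _ _ (by omega), List.getD_eq_default _ _ (by simp; omega), map_one]

theorem exists_pow_of_mem_zpowers' {G : Type*} [Group G] {g p : G} {n : ℕ} (hn : orderOf g = n)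
    (hpos : 0 < n) (hp : p ∈ Subgroup.zpowers g) : ∃ j, j < n ∧ p = g ^ j := by
  obtain ⟨z, rfl⟩ := Subgroup.mem_zpowers_iff.mp hp
  have h1 : 0 ≤ z % (n : ℤ) := Int.emod_nonneg _ (by omega)
  have h2 : z % (n : ℤ) < n := Int.emod_lt_of_pos _ (by omega)
  refine ⟨(z % (n : ℤ)).toNat, by omega, ?_⟩
  rw [← zpow_natCast, Int.toNat_of_nonneg h1, ← hn, zpow_mod_orderOf]

theorem mem_normalizer_zpowers {G : Type*} [Group G] (v h : G) (j j' : ℕ)
    (h1 : v * h = h ^ j * v) (h2 : h * v = v * h ^ j') :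
    v ∈ Subgroup.normalizer (Subgroup.zpowers h : Set G) := by
  have ca : v⁻¹ * h * v = h ^ j' := by rw [mul_assoc, h2]; group
  have cb : v * h * v⁻¹ = h ^ j := by rw [h1]; group
  rw [Subgroup.mem_normalizer_iff]
  intro x
  constructor
  · intro hx
    obtain ⟨z, rfl⟩ := Subgroup.mem_zpowers_iff.mp hx
    rw [← conj_zpow, cb]
    exact Subgroup.zpow_mem _ (Subgroup.pow_mem _ (Subgroup.mem_zpowers _) j) z
  · intro hx
    obtain ⟨z, hz⟩ := Subgroup.mem_zpowers_iff.mp hx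
    have e : x = v⁻¹ * (h ^ z) * v⁻¹⁻¹ := by rw [hz]; group
    rw [e, ← conj_zpow, inv_inv, ca]
    exact Subgroup.zpow_mem _ (Subgroup.pow_mem _ (Subgroup.mem_zpowers _) j') z

/-- one row of the table for the automorphisms of the first local subgroup -/
def chkNTrow (mu : ℕ → ℕ → ℕ) (c1 : ℕ) (A PL : List ℕ) (ch q r : ℕ) (ntf : ℕ → ℕ) (K0 : List ℕ)
    (k i : ℕ) : Bool :=
  if ntf ((k - 1) * A.length + i) = 0 then
    mu (PL.getD k 0) (A.getD i 0) != mu (A.getD i 0) (PL.getD (r * k % q) 0)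
  else
    K0.contains ((ntf ((k - 1) * A.length + i) - 1) / 65536 / 65536) &&
    decide ((ntf ((k - 1) * A.length + i) - 1) / 65536 % 65536 < A.length) &&
    decide ((ntf ((k - 1) * A.length + i) - 1) % 65536 < A.length) &&
    (mu (A.getD ((ntf ((k - 1) * A.length + i) - 1) / 65536 % 65536) 0)
      (A.getD ((ntf ((k - 1) * A.length + i) - 1) % 65536) 0) == c1) &&
    (mu (mu (A.getD ((ntf ((k - 1) * A.length + i) - 1) / 65536 % 65536) 0) (PL.getD k 0))
      (A.getD ((ntf ((k - 1) * A.length + i) - 1) % 65536) 0) ==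
        PL.getD ((ntf ((k - 1) * A.length + i) - 1) / 65536 / 65536) 0) &&
    (mu (mu (A.getD ((ntf ((k - 1) * A.length + i) - 1) / 65536 % 65536) 0) (A.getD i 0))
      (A.getD ((ntf ((k - 1) * A.length + i) - 1) % 65536) 0) == ch)

/-- the table for the automorphisms of the first local subgroup -/
def chkNT (mu : ℕ → ℕ → ℕ) (c1 : ℕ) (A PL : List ℕ) (ch q r : ℕ) (ntf : ℕ → ℕ) (K0 : List ℕ) : Bool :=
  (List.range (q - 1)).all (fun k' => (List.range A.length).all
    (fun i => chkNTrow mu c1 A PL ch q r ntf K0 (k' + 1) i))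

namespace CodeSys

variable {M : Type*} [Monoid M] (S : CodeSys M)

/-- the distinguishing words have trivial powers on the original generators -/
def chkEOrig (gens : List ℕ) (wE : List (List ℕ)) (mE : List ℕ) : Bool :=
  (List.range wE.length).all (fun e => S.pw (S.ev gens (wE.getD e [])) (mE.getD e 0) == S.c1)

/-- one row of the elimination table -/
def chkETrow (PL : List ℕ) (l2f : ℕ → ℕ) (nL2 : ℕ) (ch : ℕ) (K0 : List ℕ) (wE : List (List ℕ))
    (mE : List ℕ) (etf : ℕ → ℕ) (surv : List (ℕ × ℕ)) (a j : ℕ) : Bool :=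
  if etf (a * nL2 + j) = wE.length then
    surv.contains (K0.getD a 0, l2f j)
  else decide (etf (a * nL2 + j) < wE.length) &&
    (S.pw (S.ev [PL.getD (K0.getD a 0) 0, ch, l2f j] (wE.getD (etf (a * nL2 + j)) []))
      (mE.getD (etf (a * nL2 + j)) 0) != S.c1)

/-- the elimination table -/
def chkET (PL : List ℕ) (l2f : ℕ → ℕ) (nL2 : ℕ) (ch : ℕ) (K0 : List ℕ) (wE : List (List ℕ))
    (mE : List ℕ) (etf : ℕ → ℕ) (surv : List (ℕ × ℕ)) : Bool :=
  (List.range K0.length).all (fun a => (List.range nL2).all (fun j =>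
    S.chkETrow PL l2f nL2 ch K0 wE mE etf surv a j))

end CodeSys

/-- the data of a certified chain of two local subgroups -/
structure CoreData where
  /-- codes of the three generators -/
  cp : ℕ
  ch : ℕ
  cv : ℕ
  /-- the first local subgroup -/
  A : List ℕ
  parA : List (ℕ × ℕ)
  q : ℕ
  r : ℕ
  r' : ℕ
  PL : List ℕ
  ntf : ℕ → ℕ
  K0 : List ℕ
  jv : ℕ
  jv' : ℕ
  /-- the candidates in the second local subgroup -/
  l2f : ℕ → ℕ
  nL2 : ℕ
  wE : List (List ℕ)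
  mE : List ℕ
  etf : ℕ → ℕ
  surv : List (ℕ × ℕ)

/-- the hypotheses on a certified chain of two local subgroups -/
structure CoreHyp {M : Type*} [Monoid M] (S : CodeSys M) {Γ : Type*} [Group Γ] (φ : Γ →* M)
    (p h v : Γ) (d : CoreData) : Prop where
  hφ : Function.Injective φ
  hp : φ p = S.D d.cp
  hh : φ h = S.D d.ch
  hv : φ v = S.D d.cv
  hcp : S.C d.cp
  hch : S.C d.ch
  hcv : S.C d.cv
  hgen : Subgroup.closure ({p, h, v} : Set Γ) = ⊤
  hA0 : d.A.getD 0 0 = S.c1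
  hApos : 0 < d.A.length
  hAcan : d.A.all S.CB = true
  htree : chkTree S.mu d.A [d.cp, d.ch] d.parA = true
  hN1 : ∀ n : Γ, n * p * n⁻¹ ∈ Subgroup.zpowers p → ∃ a ∈ d.A, φ n = S.D a
  hN2 : ∀ n : Γ, n * h * n⁻¹ ∈ Subgroup.zpowers h → ∃ j, j < d.nL2 ∧ φ n = S.D (d.l2f j)
  hL2can : (List.range d.nL2).all (fun j => S.CB (d.l2f j)) = true
  hq : d.q.Prime
  hord : S.ordChk [d.cp] [0] 1 d.q = true
  hfac : (Nat.card Γ).factorization d.q = 1
  hrel : S.mu d.cp d.ch = S.mu d.ch (S.pw d.cp d.r)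
  hrel' : S.mu d.ch d.cp = S.mu (S.pw d.cp d.r') d.ch
  hPL0 : d.PL.getD 0 0 = S.c1
  hPLchain : (List.range (d.q - 1)).all
    (fun j => d.PL.getD (j + 1) 0 == S.mu (d.PL.getD j 0) d.cp) = true
  hPLlen : d.PL.length = d.q
  hPLA : d.PL.all (fun c => d.A.contains c) = true
  hK0 : ∀ k ∈ d.K0, k < d.q
  hNT : chkNT S.mu S.c1 d.A d.PL d.ch d.q d.r d.ntf d.K0 = true
  hvrel : S.mu d.cv d.ch = S.mu (S.pw d.ch d.jv) d.cv
  hvrel' : S.mu d.ch d.cv = S.mu d.cv (S.pw d.ch d.jv')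
  hEorig : S.chkEOrig [d.cp, d.ch, d.cv] d.wE d.mE = true
  hET : S.chkET d.PL d.l2f d.nL2 d.ch d.K0 d.wE d.mE d.etf d.surv = true

/-- the data of a coset table of the first local subgroup -/
structure TabData where
  /-- codes of the three generators -/
  cp : ℕ
  ch : ℕ
  cv : ℕ
  /-- the first local subgroup -/
  A : List ℕ
  parA : List (ℕ × ℕ)
  /-- the transversal -/
  Tf : ℕ → ℕ
  N : ℕ
  cfP : ℕ → ℕ
  cfH : ℕ → ℕ
  cfV : ℕ → ℕ
  FixH : List ℕ

/-- the hypotheses on a coset table of the first local subgroup -/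
structure TabHyp {M : Type*} [Monoid M] (S : CodeSys M) {Γ : Type*} [Group Γ] (φ : Γ →* M)
    (p h v : Γ) (d : TabData) : Prop where
  hφ : Function.Injective φ
  hp : φ p = S.D d.cp
  hh : φ h = S.D d.ch
  hv : φ v = S.D d.cv
  hcp : S.C d.cp
  hch : S.C d.ch
  hcv : S.C d.cv
  hgen : Subgroup.closure ({p, h, v} : Set Γ) = ⊤
  hA0 : d.A.getD 0 0 = S.c1
  hApos : 0 < d.A.length
  hT0 : d.Tf 0 = S.c1
  hNpos : 0 < d.N
  hAcan : d.A.all S.CB = true
  hTcan : (List.range d.N).all (fun k => S.CB (d.Tf k)) = true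
  hrcA : [d.cp, d.ch].all (fun s => chkRC S.mu d.A s) = true
  htree : chkTree S.mu d.A [d.cp, d.ch] d.parA = true
  hstepP : chkStepFixL S.mu d.A d.Tf d.N d.cp d.cfP [0] = true
  hstepH : chkStepFixL S.mu d.A d.Tf d.N d.ch d.cfH d.FixH = true
  hstepV : chkStepF S.mu d.A d.Tf d.N d.cv d.cfV = true
  hcard : Nat.card Γ = d.A.length * d.N
  hFixlt : ∀ k ∈ d.FixH, k < d.N

namespace TabHyp

variable {M : Type*} [Monoid M] {S : CodeSys M} {Γ : Type*} [Group Γ] {φ : Γ →* M}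
  {p h v : Γ} {d : TabData} (H : TabHyp S φ p h v d)
include H

theorem hG3 : ∀ i, ∀ (h1 : i < [p, h, v].length) (h2 : i < [d.cp, d.ch, d.cv].length),
    φ [p, h, v][i] = S.D [d.cp, d.ch, d.cv][i] := by
  intro i h1 h2
  have hi : i < 3 := h1
  interval_cases i
  · exact H.hp
  · exact H.hh
  · exact H.hv

theorem hcan3 : ∀ c ∈ [d.cp, d.ch, d.cv], S.C c := by
  intro c hc
  simp only [List.mem_cons, List.not_mem_nil, or_false] at hc
  rcases hc with rfl | rfl | rfl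
  · exact H.hcp
  · exact H.hch
  · exact H.hcv

theorem closure3 : Subgroup.closure {g | g ∈ [p, h, v]} = ⊤ := by
  rw [← H.hgen]
  congr 1
  ext g
  simp

theorem hcan2 : ∀ s ∈ [d.cp, d.ch], S.C s := by
  intro s hs
  simp only [List.mem_cons, List.not_mem_nil, or_false] at hs
  rcases hs with rfl | rfl
  · exact H.hcp
  · exact H.hch

theorem A_mul_closed : ∀ a ∈ d.A, ∀ a' ∈ d.A, ∃ a'' ∈ d.A, S.D a * S.D a' = S.D a'' := by
  apply mul_closed S.D d.A [d.cp, d.ch]
  · intro s hs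
    have hrcA := H.hrcA
    rw [List.all_eq_true] at hrcA
    exact chkRC_sound S.D S.mu S.C S.hmu (H.hcan2 s hs) (hrcA s hs)
  · apply chkTree_sound S.D S.mu S.C S.hmu H.hcan2 _ H.htree
    rw [H.hA0]; exact S.D_c1

theorem Tcan : ∀ k, k < d.N → S.C (d.Tf k) := by
  intro k hk
  have hTcan := H.hTcan
  rw [List.all_eq_true] at hTcan
  exact S.hCB _ (hTcan k (List.mem_range.mpr hk))

theorem Acan : ∀ a ∈ d.A, S.C a := S.C_of_all H.hAcan

theorem step_all : ∀ s ∈ [d.cp, d.ch, d.cv], ∀ t ∈ tab d.Tf d.N, ∃ a ∈ d.A, ∃ t' ∈ tab d.Tf d.N,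
    S.D t * S.D s = S.D a * S.D t' := by
  intro s hs
  have hT := H.Tcan
  simp only [List.mem_cons, List.not_mem_nil, or_false] at hs
  rcases hs with rfl | rfl | rfl
  · intro t ht
    obtain ⟨k, hk, rfl⟩ := mem_tab.mp ht
    obtain ⟨a, ha, k', hk', -, h5⟩ := S.chkStepFixL_sound H.hcp hT H.hstepP k hk
    exact ⟨a, ha, d.Tf k', mem_tab.mpr ⟨k', hk', rfl⟩, h5⟩
  · intro t ht
    obtain ⟨k, hk, rfl⟩ := mem_tab.mp ht
    obtain ⟨a, ha, k', hk', -, h5⟩ := S.chkStepFixL_sound H.hch hT H.hstepH k hk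
    exact ⟨a, ha, d.Tf k', mem_tab.mpr ⟨k', hk', rfl⟩, h5⟩
  · exact chkStepF_sound S.D S.mu S.C S.hmu H.hcv hT H.hstepV

end TabHyp

end Cfsg.Agent.Lib.Helper1
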