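import Cfsg.Agent.Lib.Helper1.CodeSys3

/-!
# Coded monoids: automorphisms of a group with a certified chain of local subgroups (proofs)
-/

set_option autoImplicit false

namespace Cfsg.Agent.Lib.Helper1

open Cfsg.Agent.Lib.Helper1.MatCode Cfsg.Agent.Lib.Helper1.SylowChain

namespace CoreHyp

variable {M : Type*} [Monoid M] {S : CodeSys M} {Γ : Type*} [Group Γ] [Finite Γ] {φ : Γ →* M}
  {p h v : Γ} {d : CoreData} (H : CoreHyp S φ p h v d)
include H

theorem hG3 : ∀ i, ∀ (h1 : i < [p, h, v].length) (h2 : i < [d.cp, d.ch, d.cv].length),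
    φ [p, h, v][i] = S.D [d.cp, d.ch, d.cv][i] := by
  intro i h1 h2
  have hi : i < 3 := h1
  interval_cases i
  · exact H.hp
  · exact H.hh
  · exact H.hv

theorem hcan3 : ∀ c ∈ [d.cp, d.ch, d.cv], S.C c := by
  intro c hc
  simp only [List.mem_cons, List.not_mem_nil, or_false] at hc
  rcases hc with rfl | rfl | rfl
  · exact H.hcp
  · exact H.hch
  · exact H.hcv

theorem hcan2 : ∀ s ∈ [d.cp, d.ch], S.C s := by
  intro s hs
  simp only [List.mem_cons, List.not_mem_nil, or_false] at hs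
  rcases hs with rfl | rfl
  · exact H.hcp
  · exact H.hch

theorem Acan : ∀ a ∈ d.A, S.C a := S.C_of_all H.hAcan

theorem L2can (j : ℕ) (hj : j < d.nL2) : S.C (d.l2f j) := by
  have h1 := H.hL2can
  rw [List.all_eq_true] at h1
  exact S.hCB _ (h1 j (List.mem_range.mpr hj))

theorem lift_A (a : ℕ) (ha : a ∈ d.A) : ∃ g : Γ, φ g = S.D a := by
  have h1 := chkTree_sound S.D S.mu S.C S.hmu (L := d.A) (SA := [d.cp, d.ch]) (par := d.parA)
    H.hcan2 (by rw [H.hA0]; exact S.D_c1) H.htree a ha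
  have key : ∀ m ∈ Submonoid.closure {m | ∃ s ∈ [d.cp, d.ch], m = S.D s}, ∃ g : Γ, φ g = m := by
    intro m hm
    induction hm using Submonoid.closure_induction with
    | mem m hm =>
      obtain ⟨s, hs, rfl⟩ := hm
      simp only [List.mem_cons, List.not_mem_nil, or_false] at hs
      rcases hs with rfl | rfl
      · exact ⟨p, H.hp⟩
      · exact ⟨h, H.hh⟩
    | one => exact ⟨1, map_one φ⟩
    | mul m m' _ _ ih ih' =>
      obtain ⟨g, hg⟩ := ih
      obtain ⟨g', hg'⟩ := ih'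
      exact ⟨g * g', by rw [map_mul, hg, hg']⟩
  exact key _ h1

theorem phi_inv (g : Γ) (a b : ℕ) (hg : φ g = S.D a) (hab : S.D a * S.D b = 1) : φ g⁻¹ = S.D b := by
  calc φ g⁻¹ = φ g⁻¹ * (S.D a * S.D b) := by rw [hab, mul_one]
    _ = S.D b := by rw [← mul_assoc, ← hg, ← map_mul, inv_mul_cancel, map_one, one_mul]

theorem orderOf_p : orderOf p = d.q := by
  have hG1 : ∀ i, ∀ (h1 : i < [p].length) (h2 : i < [d.cp].length), φ [p][i] = S.D [d.cp][i] := by
    intro i h1 h2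
    have hi : i < 1 := h1
    interval_cases i
    exact H.hp
  have hc1 : ∀ c ∈ [d.cp], S.C c := by
    intro c hc
    rw [List.mem_singleton.mp hc]
    exact H.hcp
  have h1 := S.orderOf_wordProd φ [p] [d.cp] rfl hG1 hc1 H.hφ [0] d.q H.hq H.hord
  have e : wordProd [p] [0] = p := by
    rw [wordProd_cons, wordProd_nil, mul_one]
    rfl
  rwa [e] at h1

theorem D_PL (j : ℕ) (hj : j < d.q) : S.D (d.PL.getD j 0) = S.D d.cp ^ j := by
  induction j with
  | zero => rw [H.hPL0, S.D_c1, pow_zero]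
  | succ j ih =>
    have h1 := H.hPLchain
    rw [List.all_eq_true] at h1
    have h2 := h1 j (List.mem_range.mpr (by omega))
    rw [beq_iff_eq] at h2
    rw [h2, S.hmu _ _ H.hcp, ih (by omega), pow_succ]

theorem phi_p_pow (j : ℕ) (hj : j < d.q) : φ (p ^ j) = S.D (d.PL.getD j 0) := by
  rw [map_pow, H.hp, H.D_PL j hj]

theorem PL_getD_mem (j : ℕ) (hj : j < d.q) : d.PL.getD j 0 ∈ d.PL := by
  rw [List.getD_eq_getElem _ _ (by rw [H.hPLlen]; exact hj)]
  exact List.getElem_mem _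

theorem PL_mem_A (j : ℕ) (hj : j < d.q) : d.PL.getD j 0 ∈ d.A := by
  have h1 := H.hPLA
  rw [List.all_eq_true] at h1
  have := h1 _ (H.PL_getD_mem j hj)
  rwa [List.contains_iff_mem] at this

theorem PL_can (j : ℕ) (hj : j < d.q) : S.C (d.PL.getD j 0) := H.Acan _ (H.PL_mem_A j hj)

theorem rel_ph : p * h = h * p ^ d.r := by
  apply H.hφ
  rw [map_mul, map_mul, map_pow, H.hp, H.hh, ← S.hmu _ _ H.hch, H.hrel, S.hmu _ _ (S.C_pw _ _),
    S.D_pw _ _ H.hcp]

theorem rel_hp : h * p = p ^ d.r' * h := by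
  apply H.hφ
  rw [map_mul, map_mul, map_pow, H.hp, H.hh, ← S.hmu _ _ H.hcp, H.hrel', S.hmu _ _ H.hch,
    S.D_pw _ _ H.hcp]

theorem rel_vh : v * h = h ^ d.jv * v := by
  apply H.hφ
  rw [map_mul, map_mul, map_pow, H.hv, H.hh, ← S.hmu _ _ H.hch, H.hvrel, S.hmu _ _ H.hcv,
    S.D_pw _ _ H.hch]

theorem rel_hv : h * v = v * h ^ d.jv' := by
  apply H.hφ
  rw [map_mul, map_mul, map_pow, H.hv, H.hh, ← S.hmu _ _ H.hcv, H.hvrel', S.hmu _ _ (S.C_pw _ _),
    S.D_pw _ _ H.hch]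

theorem h_mem_normalizer : h ∈ Subgroup.normalizer (Subgroup.zpowers p : Set Γ) :=
  mem_normalizer_zpowers h p d.r' d.r H.rel_hp H.rel_ph

theorem v_mem_normalizer : v ∈ Subgroup.normalizer (Subgroup.zpowers h : Set Γ) :=
  mem_normalizer_zpowers v h d.jv d.jv' H.rel_vh H.rel_hv

theorem mem_A_of_normalizer (n : Γ) (hn : n ∈ Subgroup.normalizer (Subgroup.zpowers p : Set Γ)) :
    ∃ a ∈ d.A, φ n = S.D a :=
  H.hN1 n ((Subgroup.mem_normalizer_iff.mp hn _).mp (Subgroup.mem_zpowers _))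

theorem mem_L2 (n : Γ) (hn : n ∈ Subgroup.normalizer (Subgroup.zpowers h : Set Γ)) :
    ∃ j, j < d.nL2 ∧ φ n = S.D (d.l2f j) :=
  H.hN2 n ((Subgroup.mem_normalizer_iff.mp hn _).mp (Subgroup.mem_zpowers _))

theorem exists_conj_map_le (α : MulAut Γ) :
    ∃ g : Γ, ∀ x ∈ Subgroup.zpowers p, (MulAut.conj g * α) x ∈ Subgroup.zpowers p := by
  haveI : Fact d.q.Prime := ⟨H.hq⟩
  have hcardP : Nat.card (Subgroup.zpowers p) = d.q := by rw [Nat.card_zpowers, H.orderOf_p]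
  have hcardP' : Nat.card ((Subgroup.zpowers p).map α.toMonoidHom) = d.q := by
    rw [Subgroup.card_map_of_injective α.injective, hcardP]
  obtain ⟨g, hg⟩ := MulAction.exists_smul_eq Γ
    (Sylow.ofCard ((Subgroup.zpowers p).map α.toMonoidHom) (by rw [hcardP', H.hfac, pow_one]))
    (Sylow.ofCard (Subgroup.zpowers p) (by rw [hcardP, H.hfac, pow_one]))
  refine ⟨g, fun x hx => ?_⟩
  have h1 : α x ∈ (Subgroup.zpowers p).map α.toMonoidHom := Subgroup.mem_map_of_mem _ hx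
  have h2 : g * α x * g⁻¹ ∈ ((g • Sylow.ofCard ((Subgroup.zpowers p).map α.toMonoidHom)
      (by rw [hcardP', H.hfac, pow_one]) : Sylow d.q Γ) : Subgroup Γ) := by
    rw [Sylow.coe_subgroup_smul, Subgroup.mem_pointwise_smul_iff_inv_smul_mem, MulAut.smul_def,
      MulAut.conj_inv_apply]
    simpa [mul_assoc] using h1
  rw [hg] at h2
  exact h2

theorem step2 (α : MulAut Γ)
    (hα : ∀ x ∈ Subgroup.zpowers p, α x ∈ Subgroup.zpowers p) :
    ∃ k, 1 ≤ k ∧ k < d.q ∧ α p = p ^ k ∧ ∃ a ∈ d.A, φ (α h) = S.D a := by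
  have ho := H.orderOf_p
  obtain ⟨k, hk, h1⟩ := exists_pow_of_mem_zpowers' ho H.hq.pos (hα _ (Subgroup.mem_zpowers _))
  have hk0 : k ≠ 0 := by
    rintro rfl
    rw [pow_zero] at h1
    have h2 : p = 1 := α.injective (by rw [h1, map_one])
    rw [h2, orderOf_one] at ho
    exact H.hq.one_lt.ne' ho.symm
  have hmap : (Subgroup.zpowers p).map α.toMonoidHom = Subgroup.zpowers p := by
    apply Subgroup.eq_of_le_of_card_ge
    · rintro x ⟨y, hy, rfl⟩
      exact hα y hy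
    · rw [Subgroup.card_map_of_injective α.injective]
  have hn : α h ∈ Subgroup.normalizer (Subgroup.zpowers p : Set Γ) := by
    rw [← hmap, ← Subgroup.map_equiv_normalizer_eq]
    exact Subgroup.mem_map_of_mem _ H.h_mem_normalizer
  exact ⟨k, by omega, hk, h1, H.mem_A_of_normalizer _ hn⟩

theorem getD_mem_A (i : ℕ) (hi : i < d.A.length) : d.A.getD i 0 ∈ d.A := by
  rw [List.getD_eq_getElem _ _ hi]
  exact List.getElem_mem _

theorem nt_sound (k i : ℕ) (hk1 : 1 ≤ k) (hk : k < d.q) (hi : i < d.A.length)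
    (hrel : S.D (d.PL.getD k 0) * S.D (d.A.getD i 0) =
      S.D (d.A.getD i 0) * S.D (d.PL.getD (d.r * k % d.q) 0)) :
    ∃ k0 ∈ d.K0, ∃ ah ∈ d.A, ∃ ahv ∈ d.A,
      S.D ah * S.D ahv = 1 ∧ S.D ah * S.D (d.PL.getD k 0) * S.D ahv = S.D (d.PL.getD k0 0) ∧
      S.D ah * S.D (d.A.getD i 0) * S.D ahv = S.D d.ch := by
  have h0 := H.hNT
  unfold chkNT at h0
  rw [List.all_eq_true] at h0
  have h1 := h0 (k - 1) (List.mem_range.mpr (by omega))
  rw [List.all_eq_true] at h1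
  have h2 := h1 i (List.mem_range.mpr hi)
  rw [show k - 1 + 1 = k by omega] at h2
  unfold chkNTrow at h2
  have cAi := H.Acan _ (H.getD_mem_A i hi)
  have hmod : d.r * k % d.q < d.q := Nat.mod_lt _ H.hq.pos
  split_ifs at h2 with h3
  · exfalso
    rw [bne_iff_ne] at h2
    apply S.ne_of_code_ne (S.hC _ _) (S.hC _ _) h2
    rw [S.hmu _ _ cAi, S.hmu _ _ (H.PL_can _ hmod), hrel]
  · simp only [Bool.and_eq_true, beq_iff_eq, decide_eq_true_eq, List.contains_iff_mem] at h2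
    obtain ⟨⟨⟨⟨⟨hk0, hih⟩, hihv⟩, e1⟩, e2⟩, e3⟩ := h2
    have cv' := H.Acan _ (H.getD_mem_A _ hihv)
    refine ⟨(d.ntf ((k - 1) * d.A.length + i) - 1) / 65536 / 65536, hk0, _, H.getD_mem_A _ hih, _,
      H.getD_mem_A _ hihv, ?_, ?_, ?_⟩
    · rw [← S.hmu _ _ cv', e1, S.D_c1]
    · rw [← S.hmu _ _ (H.PL_can k hk), ← S.hmu _ _ cv', e2]
    · rw [← S.hmu _ _ cAi, ← S.hmu _ _ cv', e3]

theorem step3 (α : MulAut Γ)
    (hα : ∀ x ∈ Subgroup.zpowers p, α x ∈ Subgroup.zpowers p) :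
    ∃ g : Γ, ∃ k0 ∈ d.K0, (MulAut.conj g * α) p = p ^ k0 ∧ (MulAut.conj g * α) h = h := by
  obtain ⟨k, hk1, hk, h19, a, ha, h6⟩ := H.step2 α hα
  obtain ⟨i, hi, rfl⟩ := List.getElem_of_mem ha
  rw [← List.getD_eq_getElem _ 0 hi] at h6
  have ho := H.orderOf_p
  have h1 := congrArg α H.rel_ph
  rw [map_mul, map_mul, map_pow, h19, ← pow_mul, ← pow_mod_orderOf p (k * d.r), ho,
    show k * d.r = d.r * k by ring] at h1
  have hmod : d.r * k % d.q < d.q := Nat.mod_lt _ H.hq.pos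
  have h2 := congrArg φ h1
  rw [map_mul, map_mul, H.phi_p_pow k hk, H.phi_p_pow _ hmod, h6] at h2
  obtain ⟨k0, hk0, ah, hah, ahv, hahv, e1, e2, e3⟩ := H.nt_sound k i hk1 hk hi h2
  obtain ⟨g, hg⟩ := H.lift_A ah hah
  have hgi : φ g⁻¹ = S.D ahv := H.phi_inv g ah ahv hg e1
  refine ⟨g, k0, hk0, ?_, ?_⟩
  · apply H.hφ
    rw [MulAut.mul_apply, MulAut.conj_apply, h19, map_mul, map_mul, hg, hgi, H.phi_p_pow k hk, e2,
      H.phi_p_pow k0 (H.hK0 k0 hk0)]
  · apply H.hφ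
    rw [MulAut.mul_apply, MulAut.conj_apply, map_mul, map_mul, hg, hgi, h6, e3, H.hh]

theorem step5 (β : MulAut Γ) (k0 : ℕ) (hk0 : k0 ∈ d.K0) (h19 : β p = p ^ k0) (h6 : β h = h) :
    ∃ sv ∈ d.surv, sv.1 = k0 ∧ φ (β v) = S.D sv.2 := by
  have hmap : (Subgroup.zpowers h).map β.toMonoidHom = Subgroup.zpowers h := by
    rw [MonoidHom.map_zpowers]
    show Subgroup.zpowers (β h) = _
    rw [h6]
  have hβv : β v ∈ Subgroup.normalizer (Subgroup.zpowers h : Set Γ) := by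
    rw [← hmap, ← Subgroup.map_equiv_normalizer_eq]
    exact Subgroup.mem_map_of_mem _ H.v_mem_normalizer
  obtain ⟨j, hj, hcv⟩ := H.mem_L2 _ hβv
  obtain ⟨a, ha, rfl⟩ := List.getElem_of_mem hk0
  have hk0q : d.K0[a] < d.q := H.hK0 _ hk0
  have h0 := H.hET
  unfold CodeSys.chkET at h0
  rw [List.all_eq_true] at h0
  have h1 := h0 a (List.mem_range.mpr ha)
  rw [List.all_eq_true] at h1
  have h3 := h1 j (List.mem_range.mpr hj)
  unfold CodeSys.chkETrow at h3
  rw [List.getD_eq_getElem d.K0 0 ha] at h3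
  split_ifs at h3 with h4
  · rw [List.contains_iff_mem] at h3
    exact ⟨_, h3, rfl, hcv⟩
  · exfalso
    rw [Bool.and_eq_true, decide_eq_true_eq, bne_iff_ne] at h3
    obtain ⟨he, hne⟩ := h3
    set e := d.etf (a * d.nL2 + j) with he_def
    have horig : S.pw (S.ev [d.cp, d.ch, d.cv] (d.wE.getD e [])) (d.mE.getD e 0) = S.c1 := by
      have h5 := H.hEorig
      unfold CodeSys.chkEOrig at h5
      rw [List.all_eq_true] at h5
      have := h5 e (List.mem_range.mpr he)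
      rwa [beq_iff_eq] at this
    have h7 : wordProd [p, h, v] (d.wE.getD e []) ^ (d.mE.getD e 0) = 1 := by
      apply H.hφ
      rw [S.phi_wordProd_pow φ _ [d.cp, d.ch, d.cv] rfl H.hG3 H.hcan3, horig, S.D_c1, map_one]
    have h8 := congrArg β h7
    rw [map_pow, map_one] at h8
    have h9 := map_wordProd' β.toMonoidHom [p, h, v] (d.wE.getD e [])
    simp only [List.map_cons, List.map_nil, MulEquiv.coe_toMonoidHom, h19, h6] at h9
    rw [h9] at h8
    set cand := d.l2f j with hcand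
    have hG' : ∀ i, ∀ (h1 : i < [p ^ d.K0[a], h, β v].length)
        (h2 : i < [d.PL.getD d.K0[a] 0, d.ch, cand].length),
        φ [p ^ d.K0[a], h, β v][i] = S.D [d.PL.getD d.K0[a] 0, d.ch, cand][i] := by
      intro i h1 h2
      have hi : i < 3 := h1
      interval_cases i
      · exact H.phi_p_pow _ hk0q
      · exact H.hh
      · exact hcv
    have hcan' : ∀ c ∈ [d.PL.getD d.K0[a] 0, d.ch, cand], S.C c := by
      intro c hc
      simp only [List.mem_cons, List.not_mem_nil, or_false] at hc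
      rcases hc with rfl | rfl | rfl
      · exact H.PL_can _ hk0q
      · exact H.hch
      · exact H.L2can j hj
    have h10 := congrArg φ h8
    rw [S.phi_wordProd_pow φ _ [d.PL.getD d.K0[a] 0, d.ch, cand] rfl hG' hcan', map_one, ← S.D_c1] at h10
    exact S.ne_of_code_ne (S.C_pw _ _) S.C_c1 hne h10

/-- every automorphism is, up to an inner automorphism, one of the surviving candidates -/
theorem main (α : MulAut Γ) : ∃ g : Γ, ∃ sv ∈ d.surv,
    (MulAut.conj g * α) p = p ^ sv.1 ∧ (MulAut.conj g * α) h = h ∧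
      φ ((MulAut.conj g * α) v) = S.D sv.2 := by
  obtain ⟨g1, hg1⟩ := H.exists_conj_map_le α
  obtain ⟨g2, k0, hk0, h19, h6⟩ := H.step3 (MulAut.conj g1 * α) hg1
  obtain ⟨sv, hsv, e1, e2⟩ := H.step5 (MulAut.conj g2 * (MulAut.conj g1 * α)) k0 hk0 h19 h6
  refine ⟨g2 * g1, sv, hsv, ?_, ?_, ?_⟩
  · rw [map_mul, mul_assoc, e1]; exact h19
  · rw [map_mul, mul_assoc]; exact h6
  · rw [map_mul, mul_assoc]; exact e2

/-- two automorphisms with the same surviving candidate are equal -/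
theorem eq_of_same (β β' : MulAut Γ) (k0 c : ℕ) (h1 : β p = p ^ k0) (h2 : β h = h)
    (h3 : φ (β v) = S.D c) (h1' : β' p = p ^ k0) (h2' : β' h = h) (h3' : φ (β' v) = S.D c) :
    β = β' := by
  have hv : β v = β' v := H.hφ (h3.trans h3'.symm)
  have : β.toMonoidHom = β'.toMonoidHom := by
    apply MonoidHom.eq_of_eqOn_dense H.hgen
    intro g hg
    rcases hg with rfl | rfl | hg
    · exact h1.trans h1'.symm
    · exact h2.trans h2'.symm
    · rw [Set.mem_singleton_iff.mp hg]; exact hv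
  ext g
  exact DFunLike.congr_fun this g

/-- if the only surviving candidate is the identity, every automorphism is inner -/
theorem inner_of_surv (hs : d.surv = [(1, d.cv)]) (α : MulAut Γ) :
    α ∈ (MulAut.conj : Γ →* MulAut Γ).range := by
  obtain ⟨g, sv, hsv, e1, e2, e3⟩ := H.main α
  rw [hs, List.mem_singleton] at hsv
  subst hsv
  have h1 : MulAut.conj g * α = 1 :=
    H.eq_of_same _ 1 1 d.cv e1 e2 e3 (by simp) rfl H.hv
  have h3 : α = (MulAut.conj g)⁻¹ := eq_inv_of_mul_eq_one_right h1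
  rw [h3, ← map_inv]
  exact ⟨_, rfl⟩

/-- with two surviving candidates, any two noninner automorphisms differ by an inner one -/
theorem inner_of_surv_two (k' c' : ℕ) (hs : d.surv = [(1, d.cv), (k', c')]) (α ω : MulAut Γ)
    (hα : α ∉ (MulAut.conj : Γ →* MulAut Γ).range) (hω : ω ∉ (MulAut.conj : Γ →* MulAut Γ).range) :
    α * ω⁻¹ ∈ (MulAut.conj : Γ →* MulAut Γ).range := by
  have key : ∀ β : MulAut Γ, β ∉ (MulAut.conj : Γ →* MulAut Γ).range →
      ∃ g : Γ, (MulAut.conj g * β) p = p ^ k' ∧ (MulAut.conj g * β) h = h ∧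
        φ ((MulAut.conj g * β) v) = S.D c' := by
    intro β hβ
    obtain ⟨g, sv, hsv, e1, e2, e3⟩ := H.main β
    rw [hs] at hsv
    simp only [List.mem_cons, List.not_mem_nil, or_false] at hsv
    rcases hsv with rfl | rfl
    · exfalso
      apply hβ
      have h1 : MulAut.conj g * β = 1 :=
        H.eq_of_same _ 1 1 d.cv e1 e2 e3 (by simp) rfl H.hv
      have h3 : β = (MulAut.conj g)⁻¹ := eq_inv_of_mul_eq_one_right h1
      rw [h3, ← map_inv]
      exact ⟨_, rfl⟩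
    · exact ⟨g, e1, e2, e3⟩
  obtain ⟨g, e1, e2, e3⟩ := key α hα
  obtain ⟨g', e1', e2', e3'⟩ := key ω hω
  have h1 := H.eq_of_same _ _ k' c' e1 e2 e3 e1' e2' e3'
  have h2 : α * ω⁻¹ = (MulAut.conj g)⁻¹ * MulAut.conj g' := by
    rw [eq_inv_mul_iff_mul_eq, ← mul_assoc, h1, mul_assoc, mul_inv_cancel, mul_one]
  rw [h2, ← map_inv, ← map_mul]
  exact ⟨_, rfl⟩

end CoreHyp

end Cfsg.Agent.Lib.Helper1
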