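import Cfsg.Agent.Lib.Helper1.CodeSys4
import Cfsg.Prelude.Def_KGroupFacts

/-!
# Coded monoids: local subgroups from coset tables, and the order of the outer automorphism group
-/

set_option autoImplicit false

namespace Cfsg.Agent.Lib.Helper1

open Cfsg.Agent.Lib.Helper1.MatCode Cfsg.Agent.Lib.Helper1.SylowChain

namespace TabHyp

variable {M : Type*} [Monoid M] {S : CodeSys M} {Γ : Type*} [Group Γ] [Finite Γ] {φ : Γ →* M}
  {p h v : Γ} {d : TabData} (H : TabHyp S φ p h v d)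
include H

theorem zpowers_A (s : Γ) (cs : ℕ) (hs : φ s = S.D cs) (hcs : S.C cs) (hmem : cs ∈ [d.cp, d.ch]) :
    ∀ z ∈ Subgroup.zpowers s, ∃ a ∈ d.A, φ z = S.D a := by
  intro z hz
  have hrc : [cs].all (fun s => chkRC S.mu d.A s) = true := by
    have h1 := H.hrcA
    rw [List.all_eq_true] at h1 ⊢
    intro s' hs'
    rw [List.mem_singleton.mp hs']
    exact h1 cs hmem
  refine S.phi_mem_of_closure φ d.A {s} [cs] ?_ ?_ H.hA0 H.hApos hrc z ?_
  · intro s' hs'
    rw [List.mem_singleton.mp hs']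
    exact hcs
  · intro u hu
    rw [Set.mem_singleton_iff.mp hu]
    exact ⟨cs, by simp, hs⟩
  · rwa [← Subgroup.zpowers_eq_closure]

/-- an element conjugating `p` into its cyclic subgroup lies in the first local subgroup -/
theorem mem_A_of_conj (n : Γ) (hn : n * p * n⁻¹ ∈ Subgroup.zpowers p) :
    ∃ a ∈ d.A, φ n = S.D a := by
  obtain ⟨a, ha, k, hk, -, h1⟩ := S.mem_fixed_cosets φ H.hφ [p, h, v] [d.cp, d.ch, d.cv] rfl H.hG3
    H.closure3 d.A d.Tf d.N H.hA0 H.hApos H.hT0 H.hNpos H.Tcan H.A_mul_closed H.step_all H.hcard p d.cp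
    H.hp H.hcp (H.zpowers_A p d.cp H.hp H.hcp (by simp)) d.cfP [0] H.hstepP n hn
  rw [List.mem_singleton.mp hk, H.hT0, S.D_c1, mul_one] at h1
  exact ⟨a, ha, h1⟩

/-- the candidates in the second local subgroup -/
def _root_.Cfsg.Agent.Lib.Helper1.TabData.l2 (mu : ℕ → ℕ → ℕ) (d : TabData) (j : ℕ) : ℕ :=
  mu (d.A.getD (j % d.A.length) 0) (d.Tf (d.FixH.getD (j / d.A.length) 0))

/-- an element conjugating `h` into its cyclic subgroup is one of the candidates -/
theorem mem_L2_of_conj (n : Γ) (hn : n * h * n⁻¹ ∈ Subgroup.zpowers h) :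
    ∃ j, j < d.A.length * d.FixH.length ∧ φ n = S.D (d.l2 S.mu j) := by
  obtain ⟨a, ha, k, hk, hkN, h1⟩ := S.mem_fixed_cosets φ H.hφ [p, h, v] [d.cp, d.ch, d.cv] rfl H.hG3
    H.closure3 d.A d.Tf d.N H.hA0 H.hApos H.hT0 H.hNpos H.Tcan H.A_mul_closed H.step_all H.hcard h d.ch
    H.hh H.hch (H.zpowers_A h d.ch H.hh H.hch (by simp)) d.cfH d.FixH H.hstepH n hn
  obtain ⟨i, hi, rfl⟩ := List.getElem_of_mem ha
  obtain ⟨kk, hkk, rfl⟩ := List.getElem_of_mem hk
  refine ⟨kk * d.A.length + i, ?_, ?_⟩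
  · calc kk * d.A.length + i < kk * d.A.length + d.A.length := by omega
      _ = (kk + 1) * d.A.length := by ring
      _ ≤ d.FixH.length * d.A.length := Nat.mul_le_mul_right _ hkk
      _ = d.A.length * d.FixH.length := Nat.mul_comm _ _
  · unfold TabData.l2
    have hpos : 0 < d.A.length := by omega
    have e1 : (kk * d.A.length + i) % d.A.length = i := by
      rw [Nat.add_comm, Nat.add_mul_mod_self_right, Nat.mod_eq_of_lt hi]
    have e2 : (kk * d.A.length + i) / d.A.length = kk := by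
      rw [Nat.add_comm, Nat.add_mul_div_right _ _ hpos, Nat.div_eq_of_lt hi, Nat.zero_add]
    rw [e1, e2, List.getD_eq_getElem _ _ hi, List.getD_eq_getElem _ _ hkk, S.hmu _ _ (H.Tcan _ hkN), h1]

end TabHyp

section out

variable {Γ : Type*} [Group Γ]

/-- if every automorphism is inner, the outer automorphism group is trivial -/
theorem card_out_eq_one (hin : ∀ α : MulAut Γ, α ∈ (MulAut.conj : Γ →* MulAut Γ).range) :
    Nat.card (Cfsg.Out Γ) = 1 := by
  have htop : Cfsg.Inn Γ = ⊤ := by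
    rw [eq_top_iff]
    intro α _
    exact hin α
  show Nat.card (MulAut Γ ⧸ Cfsg.Inn Γ) = 1
  rw [← Subgroup.index, htop, Subgroup.index_top]

/-- if any two noninner automorphisms differ by an inner one, and there is a noninner automorphism,
the outer automorphism group has order two -/
theorem card_out_eq_two (ω : MulAut Γ) (hω : ω ∉ (MulAut.conj : Γ →* MulAut Γ).range)
    (h2 : ∀ α : MulAut Γ, α ∉ (MulAut.conj : Γ →* MulAut Γ).range →
      α * ω⁻¹ ∈ (MulAut.conj : Γ →* MulAut Γ).range) :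
    Nat.card (Cfsg.Out Γ) = 2 := by
  show Nat.card (MulAut Γ ⧸ Cfsg.Inn Γ) = 2
  rw [← Subgroup.index, Subgroup.index_eq_two_iff]
  refine ⟨ω⁻¹, fun b => ?_⟩
  by_cases hb : b ∈ Cfsg.Inn Γ
  · refine Or.inr ⟨hb, fun h => hω ?_⟩
    have h3 : ω⁻¹ ∈ Cfsg.Inn Γ := by
      have := (Cfsg.Inn Γ).mul_mem ((Cfsg.Inn Γ).inv_mem hb) h
      rwa [inv_mul_cancel_left] at this
    have := (Cfsg.Inn Γ).inv_mem h3
    rwa [inv_inv] at this
  · exact Or.inl ⟨h2 b hb, hb⟩

end out

end Cfsg.Agent.Lib.Helper1
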