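import Cfsg.Agent.Lib.Helper1.PermSys

/-!
# Coded monoids: explicit subgroups given by generators and a spanning tree; a faster canonicity test
-/

set_option autoImplicit false

namespace Cfsg.Agent.Lib.Helper1

open Cfsg.Agent.Lib.Helper1.MatCode

namespace CodeSys

variable {M : Type*} [Monoid M] (S : CodeSys M)

/-- explicit subgroup check: the literal list `L` starts with `c1`, is spanned by a tree of right
multiplications by the values of the words `ws`, is closed under these multiplications, and its
members are pairwise different -/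
def subChkT (gens : List ℕ) (ws : List (List ℕ)) (L : List ℕ) (par : List (ℕ × ℕ)) : Bool :=
  (L.getD 0 0 == S.c1) && chkTree S.mu L (ws.map (S.ev gens)) par &&
  (ws.map (S.ev gens)).all (fun s => chkRC S.mu L s) &&
  (List.range L.length).all (fun i => (List.range L.length).all
    (fun j => i == j || L.getD i 0 != L.getD j 0))

section abstract

variable {Γ : Type*} [Group Γ] (φ : Γ →* M) (G : List Γ) (gens : List ℕ)
variable (hlen : G.length = gens.length)
  (hG : ∀ i, ∀ (h : i < G.length) (h' : i < gens.length), φ G[i] = S.D gens[i])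
  (hcan : ∀ c ∈ gens, S.C c)
include hlen hG hcan

theorem card_subT [Finite Γ] (hφ : Function.Injective φ) (ws : List (List ℕ)) (L : List ℕ)
    (par : List (ℕ × ℕ)) (h : S.subChkT gens ws L par = true) :
    Nat.card (subW G ws) = L.length := by
  unfold subChkT at h
  simp only [Bool.and_eq_true, beq_iff_eq] at h
  obtain ⟨⟨⟨h0, htree⟩, hrc⟩, hne⟩ := h
  have hgv : ∀ s ∈ ws.map (S.ev gens), S.C s := by
    intro s hs
    rw [List.mem_map] at hs
    obtain ⟨w, _, rfl⟩ := hs
    exact S.C_ev gens w
  have hpos : 0 < L.length := by
    unfold chkTree at htree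
    rw [Bool.and_eq_true, beq_iff_eq] at htree
    omega
  -- canonicity of the members
  have hLcan : ∀ i, i < L.length → S.C (L.getD i 0) := by
    intro i hi
    cases i with
    | zero => rw [h0]; exact S.C_c1
    | succ i =>
      unfold chkTree at htree
      rw [Bool.and_eq_true, beq_iff_eq, List.all_eq_true] at htree
      obtain ⟨hl, ht⟩ := htree
      have hi' : i < (L.tail.zip par).length := by
        rw [List.length_zip, List.length_tail]; omega
      have hmem : ((L.tail.zip par)[i], i) ∈ (L.tail.zip par).zipIdx := by
        rw [List.mem_zipIdx_iff_getElem?]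
        exact List.getElem?_eq_getElem hi'
      have h3 := ht _ hmem
      simp only [Bool.and_eq_true, beq_iff_eq, decide_eq_true_eq, List.getElem_zip] at h3
      have e : L.getD (i + 1) 0 = L.tail[i]'(by rw [List.length_tail]; omega) := by
        rw [List.getD_eq_getElem _ _ hi, List.getElem_tail]
      rw [e, ← h3.2]
      exact S.hC _ _
  -- every member comes from the subgroup
  have hlift : ∀ a ∈ L, ∃ g ∈ subW G ws, φ g = S.D a := by
    intro a ha
    have h1 := chkTree_sound S.D S.mu S.C S.hmu (L := L) (SA := ws.map (S.ev gens)) (par := par)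
      hgv (by rw [h0]; exact S.D_c1) htree a ha
    have key : ∀ m ∈ Submonoid.closure {m | ∃ s ∈ ws.map (S.ev gens), m = S.D s},
        ∃ g ∈ subW G ws, φ g = m := by
      intro m hm
      induction hm using Submonoid.closure_induction with
      | mem m hm =>
        obtain ⟨s, hs, rfl⟩ := hm
        rw [List.mem_map] at hs
        obtain ⟨w, hw, rfl⟩ := hs
        exact ⟨wordProd G w, Subgroup.subset_closure ⟨w, hw, rfl⟩,
          S.phi_wordProd φ G gens hlen hG hcan w⟩
      | one => exact ⟨1, Subgroup.one_mem _, map_one φ⟩
      | mul m m' _ _ ih ih' =>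
        obtain ⟨g, hg, e⟩ := ih
        obtain ⟨g', hg', e'⟩ := ih'
        exact ⟨g * g', Subgroup.mul_mem _ hg hg', by rw [map_mul, e, e']⟩
    exact key _ h1
  -- every element of the subgroup is a member
  have hmem : ∀ u ∈ subW G ws, ∃ a ∈ L, φ u = S.D a := by
    intro u hu
    refine S.phi_mem_of_closure φ L {g | ∃ w ∈ ws, g = wordProd G w} (ws.map (S.ev gens)) hgv ?_
      h0 hpos hrc u hu
    rintro g ⟨w, hw, rfl⟩
    exact ⟨S.ev gens w, List.mem_map_of_mem hw, S.phi_wordProd φ G gens hlen hG hcan w⟩
  apply le_antisymm
  · have hsurj : ∀ u : subW G ws, ∃ i : Fin L.length, φ u.1 = S.D (L.getD i 0) := by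
      intro u
      obtain ⟨a, ha, e⟩ := hmem u.1 u.2
      obtain ⟨i, hi, rfl⟩ := List.getElem_of_mem ha
      exact ⟨⟨i, hi⟩, by rw [e, List.getD_eq_getElem _ _ hi]⟩
    choose f hf using hsurj
    have hinj : Function.Injective f := by
      intro a b hab
      apply Subtype.ext
      apply hφ
      rw [hf a, hf b, hab]
    have := Nat.card_le_card_of_injective f hinj
    simpa using this
  · have hex : ∀ i : Fin L.length, ∃ g : subW G ws, φ g.1 = S.D (L.getD i 0) := by
      intro i
      obtain ⟨g, hg, e⟩ := hlift (L.getD i 0) (by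
        rw [List.getD_eq_getElem _ _ i.2]; exact List.getElem_mem _)
      exact ⟨⟨g, hg⟩, e⟩
    choose f hf using hex
    have hinj : Function.Injective f := by
      intro a b hab
      by_contra hne'
      have hab' : (a : ℕ) ≠ b := fun h => hne' (Fin.ext h)
      rw [List.all_eq_true] at hne
      have h2 := hne a (List.mem_range.mpr a.2)
      rw [List.all_eq_true] at h2
      have h3 := h2 b (List.mem_range.mpr b.2)
      rw [Bool.or_eq_true, beq_iff_eq, bne_iff_ne] at h3
      rcases h3 with h3 | h3
      · exact hab' h3
      · apply S.ne_of_code_ne (hLcan a a.2) (hLcan b b.2) h3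
        rw [← hf a, ← hf b, hab]
    have := Nat.card_le_card_of_injective f hinj
    simpa using this

end abstract

end CodeSys

namespace PermCode

/-- the coded monoid of the transformations of `Fin 24`, with a faster canonicity test -/
def permSysF : CodeSys (Function.End (Fin 24)) where
  D := PD
  mu := pmu2
  C := PCanon
  c1 := pc1
  hmu := fun a b _ => PD_pmu2 a b
  hC := canon_pmu2
  D_c1 := PD_pc1
  C_c1 := canon_pc1
  inj := fun _ _ ha hb h => PD_inj ha hb h
  CB := fun c => pmu2 c pc1 == c
  hCB := fun c h => by
    rw [beq_iff_eq] at h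
    rw [← h]
    exact canon_pmu2 c pc1

end PermCode

end Cfsg.Agent.Lib.Helper1
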