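import Mathlib
import Cfsg.Agent.Lib.Helper1.StrEmb

set_option autoImplicit false

namespace Cfsg.Agent.Lib.Helper1

section Conj
variable {G : Type*} [Group G]

/-- the conjugate subgroup `a Y a⁻¹` -/
def cj (a : G) (Y : Subgroup G) : Subgroup G := Y.map (MulAut.conj a).toMonoidHom

theorem mem_cj (a : G) (Y : Subgroup G) (x : G) : x ∈ cj a Y ↔ a⁻¹ * x * a ∈ Y :=
  mem_map_conj_iff Y a x

theorem conj_mem_cj (a : G) (Y : Subgroup G) {y : G} (hy : y ∈ Y) : a * y * a⁻¹ ∈ cj a Y := by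
  rw [mem_cj]
  have : a⁻¹ * (a * y * a⁻¹) * a = y := by group
  rw [this]; exact hy

theorem cj_cj (a b : G) (Y : Subgroup G) : cj a (cj b Y) = cj (a * b) Y := by
  ext x
  simp only [mem_cj]
  have : b⁻¹ * (a⁻¹ * x * a) * b = (a * b)⁻¹ * x * (a * b) := by group
  rw [this]

theorem cj_one (Y : Subgroup G) : cj 1 Y = Y := by
  ext x; simp [mem_cj]

theorem cj_mono (a : G) {Y Z : Subgroup G} (h : Y ≤ Z) : cj a Y ≤ cj a Z :=
  Subgroup.map_mono h

theorem card_cj (a : G) (Y : Subgroup G) : Nat.card (cj a Y) = Nat.card Y :=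
  Subgroup.card_map_of_injective (MulAut.conj a).injective

theorem isPGroup_cj {p : ℕ} (a : G) {Y : Subgroup G} (h : IsPGroup p Y) : IsPGroup p (cj a Y) :=
  h.map _

theorem cj_ne_bot (a : G) {Y : Subgroup G} (h : Y ≠ ⊥) : cj a Y ≠ ⊥ := by
  intro hb
  apply h
  rw [eq_bot_iff] at hb ⊢
  intro y hy
  have := hb (conj_mem_cj a Y hy)
  rw [Subgroup.mem_bot] at this ⊢
  calc y = a⁻¹ * (a * y * a⁻¹) * a := by group
    _ = 1 := by rw [this]; group

theorem cj_le_of_mem {a : G} {H Y : Subgroup G} (ha : a ∈ H) (h : Y ≤ H) : cj a Y ≤ H := by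
  intro x hx
  rw [mem_cj] at hx
  have h1 := h hx
  have : x = a * (a⁻¹ * x * a) * a⁻¹ := by group
  rw [this]
  exact H.mul_mem (H.mul_mem ha h1) (H.inv_mem ha)

theorem conj_mem_normalizer_cj (a : G) {Y : Subgroup G} {n : G}
    (hn : n ∈ Subgroup.normalizer (Y : Set G)) :
    a * n * a⁻¹ ∈ Subgroup.normalizer ((cj a Y : Subgroup G) : Set G) := by
  rw [Subgroup.mem_normalizer_iff] at hn ⊢
  intro x
  rw [mem_cj, mem_cj, hn]
  have : a⁻¹ * (a * n * a⁻¹ * x * (a * n * a⁻¹)⁻¹) * a = n * (a⁻¹ * x * a) * n⁻¹ := by group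
  rw [this]

theorem mem_normalizer_of_cj_eq {a : G} {Y : Subgroup G} (h : cj a Y = Y) :
    a ∈ Subgroup.normalizer (Y : Set G) := by
  rw [Subgroup.mem_normalizer_iff]
  intro x
  constructor
  · intro hx
    rw [← h]; exact conj_mem_cj a Y hx
  · intro hx
    rw [← h, mem_cj] at hx
    have : a⁻¹ * (a * x * a⁻¹) * a = x := by group
    rwa [this] at hx

theorem cj_eq_of_mem_normalizer {a : G} {Y : Subgroup G}
    (h : a ∈ Subgroup.normalizer (Y : Set G)) : cj a Y = Y := by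
  ext x
  rw [mem_cj]
  have h' : a⁻¹ ∈ Subgroup.normalizer (Y : Set G) := Subgroup.inv_mem _ h
  rw [Subgroup.mem_normalizer_iff] at h'
  rw [h' x, inv_inv]

variable [Finite G]

theorem card_lt_of_le_of_mem {Y Z : Subgroup G} (h : Y ≤ Z) {s : G} (hs : s ∈ Z) (hsY : s ∉ Y) :
    Nat.card Y < Nat.card Z := by
  by_contra hcon
  push Not at hcon
  have := Subgroup.eq_of_le_of_card_ge h hcon
  rw [this] at hsY
  exact hsY hs

open scoped Pointwise in
/-- Sylow conjugacy inside `H`. -/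
theorem exists_cj_le_sylow' {p : ℕ} [Fact p.Prime] (H : Subgroup G) (P : Sylow p ↥H)
    (Y : Subgroup G) (hY : IsPGroup p Y) (hYH : Y ≤ H) :
    ∃ h ∈ H, cj h⁻¹ Y ≤ (P : Subgroup ↥H).map H.subtype := by
  have hY' : IsPGroup p (Y.subgroupOf H) := hY.comap_subtype
  obtain ⟨Q, hQ⟩ := hY'.exists_le_sylow
  obtain ⟨h, hh⟩ := MulAction.exists_smul_eq ↥H P Q
  refine ⟨h.1, h.2, ?_⟩
  intro x hx
  rw [mem_cj, inv_inv] at hx
  have hxH : x ∈ H := by
    have h1 := hYH hx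
    have : x = h.1⁻¹ * (h.1 * x * h.1⁻¹) * h.1 := by group
    rw [this]
    exact H.mul_mem (H.mul_mem (H.inv_mem h.2) h1) h.2
  have h2 : (⟨h.1 * x * h.1⁻¹, hYH hx⟩ : ↥H) ∈ Y.subgroupOf H := by
    rw [Subgroup.mem_subgroupOf]; exact hx
  have h3 := hQ h2
  rw [← hh, Sylow.smul_def] at h3
  have h4 : (⟨h.1 * x * h.1⁻¹, hYH hx⟩ : ↥H) ∈ MulAut.conj h • (P : Subgroup ↥H) := h3
  rw [Subgroup.mem_pointwise_smul_iff_inv_smul_mem] at h4
  refine ⟨⟨x, hxH⟩, ?_, rfl⟩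
  have h5 : (MulAut.conj h)⁻¹ • (⟨h.1 * x * h.1⁻¹, hYH hx⟩ : ↥H) = ⟨x, hxH⟩ := by
    rw [MulAut.smul_def, MulAut.conj_inv_apply]
    apply Subtype.ext
    simp only [Subgroup.coe_mul, Subgroup.coe_inv]
    group
  rw [h5] at h4
  exact h4

/-- Sylow conjugacy in `G`: a `p`-subgroup is conjugate into a given Sylow `p`-subgroup. -/
theorem exists_cj_le_sylow_top {p : ℕ} [Fact p.Prime] (P : Sylow p G)
    (Y : Subgroup G) (hY : IsPGroup p Y) : ∃ h : G, cj h⁻¹ Y ≤ (P : Subgroup G) := by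
  obtain ⟨Q, hQ⟩ := hY.exists_le_sylow
  obtain ⟨h, hh⟩ := MulAction.exists_smul_eq G P Q
  refine ⟨h, ?_⟩
  intro x hx
  rw [mem_cj, inv_inv] at hx
  have h3 := hQ hx
  rw [← hh] at h3
  have h4 : h * x * h⁻¹ ∈ ((h • P : Sylow p G) : Subgroup G) := h3
  rw [Sylow.coe_subgroup_smul] at h4
  have h5 : h * x * h⁻¹ ∈ cj h (P : Subgroup G) := h4
  rw [mem_cj] at h5
  have : h⁻¹ * (h * x * h⁻¹) * h = x := by group
  rwa [this] at h5

/-- Burnside's fusion lemma: in an abelian Sylow subgroup, `G`-conjugate elements are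
conjugate under the normalizer. -/
theorem burnside_fusion {p : ℕ} [Fact p.Prime] (P : Sylow p G)
    (hab : ∀ a ∈ P, ∀ b ∈ P, a * b = b * a) {x y g : G} (hx : x ∈ P) (hy : y ∈ P)
    (hg : g * x * g⁻¹ = y) :
    ∃ n ∈ Subgroup.normalizer ((P : Subgroup G) : Set G), n * x * n⁻¹ = y := by
  set C := Subgroup.centralizer ({y} : Set G) with hC
  have hPC : (P : Subgroup G) ≤ C := by
    intro a ha
    rw [hC, Subgroup.mem_centralizer_singleton_iff]
    exact hab a ha y hy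
  have hgPC : cj g (P : Subgroup G) ≤ C := by
    intro a ha
    rw [mem_cj] at ha
    rw [hC, Subgroup.mem_centralizer_singleton_iff]
    -- a = g b g⁻¹ with b ∈ P commutes with y = g x g⁻¹
    have h1 := hab _ ha x hx
    calc a * y = g * ((g⁻¹ * a * g) * x) * g⁻¹ := by rw [← hg]; group
      _ = g * (x * (g⁻¹ * a * g)) * g⁻¹ := by rw [h1]
      _ = y * a := by rw [← hg]; group
  let PC : Sylow p ↥C := P.subtype hPC
  have hPCmap : (PC : Subgroup ↥C).map C.subtype = (P : Subgroup G) := by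
    rw [Sylow.coe_subtype, Subgroup.subgroupOf_map_subtype, inf_eq_left]
    exact hPC
  obtain ⟨h, hh, hle⟩ := exists_cj_le_sylow' C PC (cj g (P : Subgroup G)) (isPGroup_cj g P.2) hgPC
  rw [hPCmap, cj_cj] at hle
  have heq : cj (h⁻¹ * g) (P : Subgroup G) = (P : Subgroup G) :=
    Subgroup.eq_of_le_of_card_ge hle (by rw [card_cj])
  refine ⟨h⁻¹ * g, mem_normalizer_of_cj_eq heq, ?_⟩
  have hhy : h * y = y * h := by
    rw [hC, Subgroup.mem_centralizer_singleton_iff] at hh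
    exact hh
  calc h⁻¹ * g * x * (h⁻¹ * g)⁻¹ = h⁻¹ * (g * x * g⁻¹) * h := by group
    _ = h⁻¹ * (y * h) := by rw [hg, mul_assoc]
    _ = y := by rw [← hhy]; group

end Conj

end Cfsg.Agent.Lib.Helper1
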