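import Mathlib

/-!
# Conjugation by a normalizing element as an automorphism of a subgroup
-/

set_option autoImplicit false

namespace Cfsg.Agent.Lib.Helper1

/-- conjugation by an element normalizing a subgroup -/
def conjAut {P : Type*} [Group P] (N : Subgroup P) (g : P) (hg : ∀ x ∈ N, g * x * g⁻¹ ∈ N)
    (hg' : ∀ x ∈ N, g⁻¹ * x * g ∈ N) : MulAut ↥N where
  toFun x := ⟨g * x.1 * g⁻¹, hg x.1 x.2⟩
  invFun x := ⟨g⁻¹ * x.1 * g, hg' x.1 x.2⟩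
  left_inv x := Subtype.ext (by simp [mul_assoc])
  right_inv x := Subtype.ext (by simp [mul_assoc])
  map_mul' x y := Subtype.ext (by simp [mul_assoc])

theorem conjAut_apply {P : Type*} [Group P] (N : Subgroup P) (g : P) (hg : ∀ x ∈ N, g * x * g⁻¹ ∈ N)
    (hg' : ∀ x ∈ N, g⁻¹ * x * g ∈ N) (x : ↥N) : ((conjAut N g hg hg' x : ↥N) : P) = g * x.1 * g⁻¹ :=
  rfl

theorem conjAut_not_inner {P : Type*} [Group P] (N : Subgroup P) (g : P)
    (hg : ∀ x ∈ N, g * x * g⁻¹ ∈ N) (hg' : ∀ x ∈ N, g⁻¹ * x * g ∈ N)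
    (h : ¬ ∃ k ∈ N, ∀ x ∈ N, g * x * g⁻¹ = k * x * k⁻¹) :
    conjAut N g hg hg' ∉ (MulAut.conj : ↥N →* MulAut ↥N).range := by
  rintro ⟨k, hk⟩
  apply h
  refine ⟨k.1, k.2, fun x hx => ?_⟩
  have h1 := congrArg (fun α : MulAut ↥N => ((α ⟨x, hx⟩ : ↥N) : P)) hk
  simp only [MulAut.conj_apply, conjAut_apply] at h1
  exact h1.symm

end Cfsg.Agent.Lib.Helper1
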