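import Mathlib
import Cfsg.Prelude.Def_Transfer

/-!
# S4415 farm-out, lemma F3: an automorphism of an extraspecial 2-group that is trivial modulo the
centre is inner

The key lemma is proved by induction on the order: if `Z(T) = {1, z}` and all commutators are
central, then every "homomorphism" `δ : T → Z(T)` that is trivial on `Z(T)` has the form
`t ↦ t⁻¹ s t s⁻¹`.
-/

set_option autoImplicit false
open Cfsg

namespace Cfsg.Agent.Lib.Helper2.Cub

universe u

theorem f3_inner_key : ∀ n : ℕ, ∀ (T : Type u) [Group T] [Finite T], Nat.card T = n →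
    ∀ z : T, z ∈ Subgroup.center T → z ≠ 1 → (∀ c ∈ Subgroup.center T, c = 1 ∨ c = z) →
    (∀ a b : T, a⁻¹ * b⁻¹ * a * b ∈ Subgroup.center T) →
    ∀ δ : T → T, (∀ t, δ t ∈ Subgroup.center T) → (∀ a b, δ (a * b) = δ a * δ b) →
    (∀ c ∈ Subgroup.center T, δ c = 1) → ∃ s : T, ∀ t, δ t = t⁻¹ * s * t * s⁻¹ := by
  intro n
  induction n using Nat.strong_induction_on with
  | _ n ih =>
  intro T _ _ hn z hz hz1 hZ hcomm δ hδZ hδmul hδc
  by_cases htriv : ∀ t, δ t = 1
  · exact ⟨1, fun t => by rw [htriv t]; group⟩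
  push Not at htriv
  obtain ⟨t₀, ht₀⟩ := htriv
  have hδ1 : δ 1 = 1 := hδc 1 (Subgroup.one_mem _)
  have hδinv' : ∀ a, δ a⁻¹ * δ a = 1 := by
    intro a
    rw [← hδmul, inv_mul_cancel, hδ1]
  have hzinv : z⁻¹ = z := by
    rcases hZ z⁻¹ (Subgroup.inv_mem _ hz) with h | h
    · exact (hz1 (inv_eq_one.mp h)).elim
    · exact h
  let K : Subgroup T :=
    { carrier := {t | δ t = 1}
      mul_mem' := by
        intro a b ha hb
        change δ (a * b) = 1
        rw [hδmul, ha, hb, mul_one]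
      one_mem' := hδ1
      inv_mem' := by
        intro a ha
        change δ a⁻¹ = 1
        have h1 := hδinv' a
        have ha' : δ a = 1 := ha
        rwa [ha', mul_one] at h1 }
  have hK : ∀ t, t ∈ K ↔ δ t = 1 := fun t => Iff.rfl
  have hZK : ∀ c ∈ Subgroup.center T, c ∈ K := fun c hc => (hK c).mpr (hδc c hc)
  have hval : ∀ t, t ∉ K → δ t = z := fun t ht => (hZ _ (hδZ t)).resolve_left ht
  have hcos : ∀ t u, t ∉ K → u ∉ K → t⁻¹ * u ∈ K := by
    intro t u ht hu
    rw [hK, hδmul, hval u hu]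
    have h1 := hδinv' t
    rw [hval t ht] at h1
    -- δ t⁻¹ * z = 1
    have h2 : δ t⁻¹ = z := by
      have : δ t⁻¹ = z⁻¹ := eq_inv_of_mul_eq_one_left h1
      rw [this, hzinv]
    rw [h2]
    calc z * z = z⁻¹ * z := by rw [hzinv]
      _ = 1 := inv_mul_cancel z
  have ht₀K : t₀ ∉ K := ht₀
  -- the key claim
  have key : ∃ s : T, (∀ k ∈ K, s * k = k * s) ∧ s ∉ Subgroup.center T := by
    by_cases hA : ∃ s ∈ K, s ∉ Subgroup.center T ∧ ∀ k ∈ K, s * k = k * s
    · obtain ⟨s, -, hs1, hs2⟩ := hA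
      exact ⟨s, hs2, hs1⟩
    · push Not at hA
      have hA' : ∀ s ∈ K, (∀ k ∈ K, s * k = k * s) → s ∈ Subgroup.center T := by
        intro s hs hsk
        by_contra hcon
        obtain ⟨k, hk, hne⟩ := hA s hs hcon
        exact hne (hsk k hk)
      have hcardK : Nat.card K < n := by
        have hdvd : Nat.card K ∣ Nat.card T := Subgroup.card_subgroup_dvd_card K
        have hle : Nat.card K ≤ Nat.card T := Nat.le_of_dvd Nat.card_pos hdvd
        have hne : Nat.card K ≠ Nat.card T := by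
          intro heq
          have : K = ⊤ := (Subgroup.card_eq_iff_eq_top K).mp heq
          exact ht₀K (this ▸ Subgroup.mem_top t₀)
        omega
      have hcenK : ∀ c : K, c ∈ Subgroup.center K ↔ (c : T) ∈ Subgroup.center T := by
        intro c
        constructor
        · intro hc
          apply hA' c.1 c.2
          intro k hk
          have := (Subgroup.mem_center_iff.mp hc) ⟨k, hk⟩
          have h2 := congrArg (fun x : K => (x : T)) this
          exact h2.symm
        · intro hc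
          rw [Subgroup.mem_center_iff]
          intro g
          apply Subtype.ext
          exact (Subgroup.mem_center_iff.mp hc) g.1
      have hmem : ∀ k : T, k⁻¹ * t₀ * k * t₀⁻¹ ∈ Subgroup.center T := by
        intro k
        have := hcomm k t₀⁻¹
        rwa [inv_inv] at this
      obtain ⟨k₀, hk₀⟩ := ih (Nat.card K) hcardK K rfl ⟨z, hZK z hz⟩
        ((hcenK _).mpr hz)
        (fun h => hz1 (congrArg (fun x : K => (x : T)) h))
        (by
          intro c hc
          rcases hZ c.1 ((hcenK c).mp hc) with h | h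
          · left; exact Subtype.ext h
          · right; exact Subtype.ext h)
        (by
          intro a b
          rw [hcenK]
          exact hcomm a.1 b.1)
        (fun k => ⟨k.1⁻¹ * t₀ * k.1 * t₀⁻¹, hZK _ (hmem k.1)⟩)
        (by
          intro k
          rw [hcenK]
          exact hmem k.1)
        (by
          intro a b
          apply Subtype.ext
          change (a.1 * b.1)⁻¹ * t₀ * (a.1 * b.1) * t₀⁻¹ =
            (a.1⁻¹ * t₀ * a.1 * t₀⁻¹) * (b.1⁻¹ * t₀ * b.1 * t₀⁻¹)
          have hca := (Subgroup.mem_center_iff.mp (hmem a.1)) b.1⁻¹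
          calc (a.1 * b.1)⁻¹ * t₀ * (a.1 * b.1) * t₀⁻¹
              = b.1⁻¹ * (a.1⁻¹ * t₀ * a.1 * t₀⁻¹) * (t₀ * b.1 * t₀⁻¹) := by group
            _ = (a.1⁻¹ * t₀ * a.1 * t₀⁻¹) * b.1⁻¹ * (t₀ * b.1 * t₀⁻¹) := by rw [hca]
            _ = (a.1⁻¹ * t₀ * a.1 * t₀⁻¹) * (b.1⁻¹ * t₀ * b.1 * t₀⁻¹) := by group)
        (by
          intro c hc
          apply Subtype.ext
          change c.1⁻¹ * t₀ * c.1 * t₀⁻¹ = 1
          have h1 := (Subgroup.mem_center_iff.mp ((hcenK c).mp hc)) t₀
          -- t₀ * c = c * t₀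
          calc c.1⁻¹ * t₀ * c.1 * t₀⁻¹ = c.1⁻¹ * (t₀ * c.1) * t₀⁻¹ := by group
            _ = c.1⁻¹ * (c.1 * t₀) * t₀⁻¹ := by rw [h1]
            _ = 1 := by group)
      -- `k₀⁻¹ * t₀` centralises `K`
      have hconj : ∀ k ∈ K, t₀ * k * t₀⁻¹ = k₀.1 * k * k₀.1⁻¹ := by
        intro k hk
        have h1 := congrArg (fun x : K => (x : T)) (hk₀ ⟨k, hk⟩)
        have h2 : k⁻¹ * t₀ * k * t₀⁻¹ = k⁻¹ * k₀.1 * k * k₀.1⁻¹ := h1
        calc t₀ * k * t₀⁻¹ = k * (k⁻¹ * t₀ * k * t₀⁻¹) := by group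
          _ = k * (k⁻¹ * k₀.1 * k * k₀.1⁻¹) := by rw [h2]
          _ = k₀.1 * k * k₀.1⁻¹ := by group
      refine ⟨k₀.1⁻¹ * t₀, ?_, ?_⟩
      · intro k hk
        calc k₀.1⁻¹ * t₀ * k = k₀.1⁻¹ * (t₀ * k * t₀⁻¹) * t₀ := by group
          _ = k₀.1⁻¹ * (k₀.1 * k * k₀.1⁻¹) * t₀ := by rw [hconj k hk]
          _ = k * (k₀.1⁻¹ * t₀) := by group
      · intro hcon
        have h1 : k₀.1⁻¹ * t₀ ∈ K := hZK _ hcon
        have h2 : t₀ = k₀.1 * (k₀.1⁻¹ * t₀) := by group
        apply ht₀K
        rw [h2]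
        exact K.mul_mem k₀.2 h1
  obtain ⟨s, hsK, hsZ⟩ := key
  refine ⟨s, fun t => ?_⟩
  by_cases htK : t ∈ K
  · rw [(hK t).mp htK]
    have := hsK t htK
    calc (1 : T) = t⁻¹ * (t * s) * s⁻¹ := by group
      _ = t⁻¹ * (s * t) * s⁻¹ := by rw [this]
      _ = t⁻¹ * s * t * s⁻¹ := by group
  · rw [hval t htK]
    have hc : t⁻¹ * s * t * s⁻¹ ∈ Subgroup.center T := by
      have := hcomm t s⁻¹
      rwa [inv_inv] at this
    rcases hZ _ hc with h | h
    · exfalso
      apply hsZ
      have hst : s * t = t * s := by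
        calc s * t = t * (t⁻¹ * s * t * s⁻¹) * s := by group
          _ = t * s := by rw [h, mul_one]
      rw [Subgroup.mem_center_iff]
      intro u
      by_cases huK : u ∈ K
      · exact (hsK u huK).symm
      · have h3 := hsK _ (hcos t u htK huK)
        -- s * (t⁻¹ * u) = (t⁻¹ * u) * s
        calc u * s = t * ((t⁻¹ * u) * s) := by group
          _ = t * (s * (t⁻¹ * u)) := by rw [h3]
          _ = (t * s) * (t⁻¹ * u) := by group
          _ = (s * t) * (t⁻¹ * u) := by rw [hst]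
          _ = s * u := by group
    · exact h.symm

/-- F3 (inner-ness). An automorphism of an extraspecial 2-group that is trivial modulo the centre
is inner. -/
theorem f3_inner {T : Type*} [Group T] [Finite T] (hT : IsExtraspecial 2 T) (α : T ≃* T)
    (hα : ∀ t : T, t⁻¹ * α t ∈ Subgroup.center T) : ∃ s : T, ∀ t : T, α t = s * t * s⁻¹ := by
  obtain ⟨⟨-, -, hcomm⟩, hcard⟩ := hT
  obtain ⟨zz, hzz1, hzzu⟩ := (Nat.card_eq_two_iff' (1 : Subgroup.center T)).mp hcard
  have hz : (zz : T) ∈ Subgroup.center T := zz.2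
  have hz1 : (zz : T) ≠ 1 := fun h => hzz1 (Subtype.ext h)
  have hZ : ∀ c ∈ Subgroup.center T, c = 1 ∨ c = (zz : T) := by
    intro c hc
    by_cases h1 : c = 1
    · left; exact h1
    · right
      have := hzzu ⟨c, hc⟩ (fun h => h1 (congrArg (fun x : Subgroup.center T => (x : T)) h))
      exact congrArg (fun x : Subgroup.center T => (x : T)) this
  have hcc : ∀ a b : T, a⁻¹ * b⁻¹ * a * b ∈ Subgroup.center T := by
    intro a b
    rw [← hcomm, commutator_def]
    have := Subgroup.commutator_mem_commutator (Subgroup.mem_top a⁻¹) (Subgroup.mem_top b⁻¹)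
    rwa [commutatorElement_def, inv_inv, inv_inv] at this
  -- `α` preserves the centre
  have hαZ : ∀ c ∈ Subgroup.center T, α c ∈ Subgroup.center T := by
    intro c hc
    rw [Subgroup.mem_center_iff]
    intro g
    obtain ⟨g', rfl⟩ := α.surjective g
    rw [← map_mul, ← map_mul, (Subgroup.mem_center_iff.mp hc) g']
  obtain ⟨s, hs⟩ := f3_inner_key (Nat.card T) T rfl (zz : T) hz hz1 hZ hcc
    (fun t => t⁻¹ * α t) hα
    (by
      intro a b
      have hca := (Subgroup.mem_center_iff.mp (hα a)) b⁻¹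
      calc (a * b)⁻¹ * α (a * b) = b⁻¹ * (a⁻¹ * α a) * α b := by rw [map_mul]; group
        _ = (a⁻¹ * α a) * b⁻¹ * α b := by rw [hca]
        _ = a⁻¹ * α a * (b⁻¹ * α b) := by group)
    (by
      intro c hc
      rcases hZ c hc with h | h
      · rw [h, map_one]; group
      · rcases hZ _ (hαZ c hc) with h' | h'
        · exfalso
          apply hz1
          rw [← h]
          exact (map_eq_one_iff α α.injective).mp h'
        · rw [h', h, inv_mul_cancel])
  refine ⟨s, fun t => ?_⟩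
  have := hs t
  calc α t = t * (t⁻¹ * α t) := by group
    _ = t * (t⁻¹ * s * t * s⁻¹) := by rw [this]
    _ = s * t * s⁻¹ := by group

end Cfsg.Agent.Lib.Helper2.Cub
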