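import Mathlib
import Cfsg.Prelude.Def_Transfer
import Cfsg.Agent.Lib.Lead.Frattini

/-!
# S4415 farm-out, lemma F5: an extraspecial 2-group of order at least 128 contains an elementary
abelian subgroup `⟨u1, u2, z⟩` of order 8 with dual elements `t1`, `t2` and large centraliser
-/

set_option autoImplicit false
open Cfsg

namespace Cfsg.Agent.Lib.Helper2.Cub

/-- the elementary facts about an extraspecial 2-group used below -/
structure F5Data (T : Type*) [Group T] (z : T) : Prop where
  hz : z ∈ Subgroup.center T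
  hz1 : z ≠ 1
  hZ : ∀ c ∈ Subgroup.center T, c = 1 ∨ c = z
  hcomm : ∀ a b : T, a * b * a⁻¹ * b⁻¹ ∈ Subgroup.center T
  hsq : ∀ a : T, a * a ∈ Subgroup.center T
  hzz : z * z = 1

namespace F5Data

variable {T : Type*} [Group T] {z : T}

theorem zc (d : F5Data T z) (g : T) : g * z = z * g := Subgroup.mem_center_iff.mp d.hz g

theorem conj_dich (d : F5Data T z) (t a : T) : t * a * t⁻¹ = a ∨ t * a * t⁻¹ = a * z := by
  rcases d.hZ _ (d.hcomm t a) with h | h
  · left
    calc t * a * t⁻¹ = (t * a * t⁻¹ * a⁻¹) * a := by group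
      _ = a := by rw [h, one_mul]
  · right
    calc t * a * t⁻¹ = (t * a * t⁻¹ * a⁻¹) * a := by group
      _ = z * a := by rw [h]
      _ = a * z := (d.zc a).symm

theorem sq_dich (d : F5Data T z) (a : T) : a * a = 1 ∨ a * a = z := d.hZ _ (d.hsq a)

theorem comm_of_conj {g a : T} (h : g * a * g⁻¹ = a) : a * g = g * a := by
  calc a * g = (g * a * g⁻¹) * g := by rw [h]
    _ = g * a := by group

theorem conj_of_comm {g a : T} (h : a * g = g * a) : g * a * g⁻¹ = a := by
  calc g * a * g⁻¹ = (g * a) * g⁻¹ := by group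
    _ = (a * g) * g⁻¹ := by rw [h]
    _ = a := by group

theorem mem_cent {g a : T} : g ∈ Subgroup.centralizer ({a} : Set T) ↔ a * g = g * a := by
  rw [Subgroup.mem_centralizer_iff]
  constructor
  · intro h; exact h a (Set.mem_singleton a)
  · intro h y hy; rw [Set.mem_singleton_iff.mp hy]; exact h

/-- the centraliser of an element has index at most 2 in any subgroup -/
theorem card_le_two_mul_inf [Finite T] (d : F5Data T z) (H : Subgroup T) (a : T) :
    Nat.card H ≤ 2 * Nat.card ↥(H ⊓ Subgroup.centralizer ({a} : Set T)) := by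
  classical
  set K := H ⊓ Subgroup.centralizer ({a} : Set T) with hKdef
  by_cases hall : ∀ x ∈ H, x ∈ K
  · have : Nat.card H ≤ Nat.card K := Subgroup.card_le_of_le (fun x hx => hall x hx)
    omega
  · push Not at hall
    obtain ⟨h₀, hh₀, hh₀K⟩ := hall
    have hanti : ∀ x ∈ H, x ∉ K → x * a * x⁻¹ = a * z := by
      intro x hx hxK
      rcases d.conj_dich x a with h | h
      · exfalso
        apply hxK
        rw [hKdef, Subgroup.mem_inf]
        exact ⟨hx, mem_cent.mpr (comm_of_conj h)⟩
      · exact h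
    have hcov : ∀ x ∈ H, x ∈ K ∨ h₀⁻¹ * x ∈ K := by
      intro x hx
      by_cases hxK : x ∈ K
      · left; exact hxK
      · right
        rw [hKdef, Subgroup.mem_inf]
        refine ⟨H.mul_mem (H.inv_mem hh₀) hx, mem_cent.mpr (comm_of_conj ?_)⟩
        have h1 := hanti x hx hxK
        have h2 := hanti h₀ hh₀ hh₀K
        calc h₀⁻¹ * x * a * (h₀⁻¹ * x)⁻¹ = h₀⁻¹ * (x * a * x⁻¹) * h₀ := by group
          _ = h₀⁻¹ * (h₀ * a * h₀⁻¹) * h₀ := by rw [h1, h2]
          _ = a := by group
    let f : H → Bool × K := fun x =>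
      if hx : x.1 ∈ K then (true, ⟨x.1, hx⟩)
      else (false, ⟨h₀⁻¹ * x.1, (hcov x.1 x.2).resolve_left hx⟩)
    have hf : Function.Injective f := by
      intro x y hxy
      by_cases hx : x.1 ∈ K <;> by_cases hy : y.1 ∈ K
      · simp only [f, dif_pos hx, dif_pos hy, Prod.mk.injEq, true_and, Subtype.mk.injEq] at hxy
        exact Subtype.ext hxy
      · simp only [f, dif_pos hx, dif_neg hy, Prod.mk.injEq] at hxy
        exact absurd hxy.1 (by simp)
      · simp only [f, dif_neg hx, dif_pos hy, Prod.mk.injEq] at hxy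
        exact absurd hxy.1 (by simp)
      · simp only [f, dif_neg hx, dif_neg hy, Prod.mk.injEq, true_and, Subtype.mk.injEq,
          mul_right_inj] at hxy
        exact Subtype.ext hxy
    have := Nat.card_le_card_of_injective f hf
    rw [Nat.card_prod, Nat.card_eq_fintype_card (α := Bool), Fintype.card_bool] at this
    exact this

/-- a subgroup with more elements than a finite set has an element outside it -/
theorem exists_mem_notMem [Finite T] (H : Subgroup T) (F : Finset T) (h : F.card < Nat.card H) :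
    ∃ b ∈ H, b ∉ F := by
  by_contra hcon
  push Not at hcon
  have hle : Nat.card H ≤ Nat.card F :=
    Nat.card_le_card_of_injective (fun b : H => (⟨b.1, hcon b.1 b.2⟩ : F))
      (fun b b' hbb' => Subtype.ext (congrArg (fun x : F => (x : T)) hbb'))
  have hF : Nat.card F = F.card := by rw [Nat.card_eq_fintype_card, Fintype.card_coe]
  rw [hF] at hle
  omega

/-- involution hunting -/
theorem exists_invol [Finite T] [DecidableEq T] (d : F5Data T z) (H : Subgroup T) (F : Finset T)
    (hcard : 4 * F.card < Nat.card H) : ∃ u ∈ H, u ∉ F ∧ u * u = 1 := by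
  obtain ⟨a, haH, haF⟩ := exists_mem_notMem H F (by omega)
  rcases d.sq_dich a with ha | ha
  · exact ⟨a, haH, haF, ha⟩
  · have h2 := d.card_le_two_mul_inf H a
    have hFa : (F ∪ F.image (fun x => a⁻¹ * x)).card ≤ 2 * F.card := by
      have h3 := Finset.card_union_le F (F.image (fun x => a⁻¹ * x))
      have h4 := Finset.card_image_le (s := F) (f := fun x => a⁻¹ * x)
      omega
    obtain ⟨b, hbK, hbF⟩ := exists_mem_notMem (H ⊓ Subgroup.centralizer ({a} : Set T))
      (F ∪ F.image (fun x => a⁻¹ * x)) (by omega)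
    rw [Subgroup.mem_inf] at hbK
    have hab : a * b = b * a := mem_cent.mp hbK.2
    rw [Finset.mem_union, not_or] at hbF
    rcases d.sq_dich b with hb | hb
    · exact ⟨b, hbK.1, hbF.1, hb⟩
    · refine ⟨a * b, H.mul_mem haH hbK.1, ?_, ?_⟩
      · intro hmem
        apply hbF.2
        rw [Finset.mem_image]
        exact ⟨a * b, hmem, by group⟩
      · calc a * b * (a * b) = a * (b * a) * b := by group
          _ = a * (a * b) * b := by rw [hab]
          _ = (a * a) * (b * b) := by group
          _ = 1 := by rw [ha, hb, d.hzz]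

/-- dual elements -/
theorem exists_dual (d : F5Data T z) (u v : T) (hu : u ∉ Subgroup.center T)
    (huv : u * v ∉ Subgroup.center T) : ∃ t : T, t * u * t⁻¹ = u * z ∧ t * v * t⁻¹ = v := by
  have hnc : ∀ w : T, w ∉ Subgroup.center T → ∃ s : T, s * w * s⁻¹ = w * z := by
    intro w hw
    rw [Subgroup.mem_center_iff] at hw
    push Not at hw
    obtain ⟨s, hs⟩ := hw
    rcases d.conj_dich s w with h | h
    · exact (hs (comm_of_conj h).symm).elim
    · exact ⟨s, h⟩
  obtain ⟨s, hs⟩ := hnc u hu
  rcases d.conj_dich s v with hsv | hsv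
  · exact ⟨s, hs, hsv⟩
  · obtain ⟨r, hr⟩ := hnc (u * v) huv
    have hrsplit : r * (u * v) * r⁻¹ = (r * u * r⁻¹) * (r * v * r⁻¹) := by group
    rcases d.conj_dich r u with hru | hru <;> rcases d.conj_dich r v with hrv | hrv
    · exfalso
      rw [hrsplit, hru, hrv] at hr
      have : z = 1 := by
        have h1 : u * v = u * v * z := hr
        calc z = (u * v)⁻¹ * (u * v * z) := by group
          _ = (u * v)⁻¹ * (u * v) := by rw [← h1]
          _ = 1 := by group
      exact d.hz1 this
    · -- r commutes with u, anticommutes with v: take r * s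
      refine ⟨r * s, ?_, ?_⟩
      · calc r * s * u * (r * s)⁻¹ = r * (s * u * s⁻¹) * r⁻¹ := by group
          _ = r * (u * z) * r⁻¹ := by rw [hs]
          _ = (r * u * r⁻¹) * (r * z * r⁻¹) := by group
          _ = u * z := by rw [hru, conj_of_comm (d.zc r).symm]
      · calc r * s * v * (r * s)⁻¹ = r * (s * v * s⁻¹) * r⁻¹ := by group
          _ = r * (v * z) * r⁻¹ := by rw [hsv]
          _ = (r * v * r⁻¹) * (r * z * r⁻¹) := by group
          _ = v * z * z := by rw [hrv, conj_of_comm (d.zc r).symm]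
          _ = v := by rw [mul_assoc, d.hzz, mul_one]
    · exact ⟨r, hru, hrv⟩
    · exfalso
      rw [hrsplit, hru, hrv] at hr
      -- u z v z = u v z
      have h1 : u * z * (v * z) = u * v * (z * z) := by
        calc u * z * (v * z) = u * (z * v) * z := by group
          _ = u * (v * z) * z := by rw [d.zc v]
          _ = u * v * (z * z) := by group
      rw [h1, d.hzz, mul_one] at hr
      have : z = 1 := by
        calc z = (u * v)⁻¹ * (u * v * z) := by group
          _ = (u * v)⁻¹ * (u * v) := by rw [← hr]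
          _ = 1 := by group
      exact d.hz1 this

end F5Data

/-- the data of an extraspecial 2-group -/
theorem f5Data_of_isExtraspecial {T : Type*} [Group T] [Finite T] (hT : IsExtraspecial 2 T)
    (z : T) (hz : z ∈ Subgroup.center T) (hz1 : z ≠ 1) : F5Data T z := by
  obtain ⟨⟨hp, hfrat, hcomm⟩, hcard⟩ := hT
  have : Fact (Nat.Prime 2) := ⟨Nat.prime_two⟩
  obtain ⟨zz, hzz1, hzzu⟩ := (Nat.card_eq_two_iff' (1 : Subgroup.center T)).mp hcard
  have hzeq : zz = ⟨z, hz⟩ :=
    (hzzu ⟨z, hz⟩ (fun h => hz1 (congrArg (fun x : Subgroup.center T => (x : T)) h))).symm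
  have hZ : ∀ c ∈ Subgroup.center T, c = 1 ∨ c = z := by
    intro c hc
    by_cases h1 : c = 1
    · left; exact h1
    · right
      have := hzzu ⟨c, hc⟩ (fun h => h1 (congrArg (fun x : Subgroup.center T => (x : T)) h))
      rw [hzeq] at this
      exact congrArg (fun x : Subgroup.center T => (x : T)) this
  have hsq : ∀ a : T, a * a ∈ Subgroup.center T := by
    intro a
    rw [← hfrat, ← sq]
    exact Cfsg.Agent.Lib.Lead.pow_mem_frattini_of_isPGroup hp a
  refine ⟨hz, hz1, hZ, ?_, hsq, ?_⟩
  · intro a b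
    rw [← hcomm, commutator_def]
    have := Subgroup.commutator_mem_commutator (Subgroup.mem_top a) (Subgroup.mem_top b)
    rwa [commutatorElement_def] at this
  · have h1 : (⟨z, hz⟩ : Subgroup.center T) ^ Nat.card (Subgroup.center T) = 1 :=
      pow_card_eq_one'
    rw [hcard] at h1
    have h2 := congrArg (fun x : Subgroup.center T => (x : T)) h1
    simpa [sq] using h2

/-- F5. An extraspecial 2-group of order at least 128 contains an elementary abelian subgroup
`⟨u1, u2, z⟩` of order 8 with large centralizer, and elements `t1`, `t2` realising the two "dual"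
characters. -/
theorem f5_eight {T : Type*} [Group T] [Finite T] (hT : IsExtraspecial 2 T)
    (hcard : 128 ≤ Nat.card T) (z : T) (hz : z ∈ Subgroup.center T) (hz1 : z ≠ 1) :
    ∃ u1 u2 t1 t2 : T, u1 * u1 = 1 ∧ u2 * u2 = 1 ∧ u1 * u2 = u2 * u1 ∧ u1 ≠ 1 ∧ u1 ≠ z ∧
      u2 ≠ 1 ∧ u2 ≠ z ∧ u2 ≠ u1 ∧ u2 ≠ u1 * z ∧
      t1 * u1 * t1⁻¹ = u1 * z ∧ t1 * u2 * t1⁻¹ = u2 ∧ t2 * u1 * t2⁻¹ = u1 ∧
      t2 * u2 * t2⁻¹ = u2 * z ∧
      32 ≤ Nat.card (Subgroup.centralizer ({u1, u2} : Set T)) := by
  classical
  have d := f5Data_of_isExtraspecial hT z hz hz1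
  -- u1
  have hcT : Nat.card (⊤ : Subgroup T) = Nat.card T := Subgroup.card_top
  obtain ⟨u1, -, hu1F, hu1sq⟩ := d.exists_invol ⊤ ({1, z} : Finset T) (by
    have := Finset.card_le_two (a := (1 : T)) (b := z)
    omega)
  have hu1_1 : u1 ≠ 1 := fun h => hu1F (by rw [h]; simp)
  have hu1_z : u1 ≠ z := fun h => hu1F (by rw [h]; simp)
  -- C(u1)
  have hC1 := d.card_le_two_mul_inf ⊤ u1
  rw [hcT, top_inf_eq] at hC1
  obtain ⟨u2, hu2C, hu2F, hu2sq⟩ := d.exists_invol (Subgroup.centralizer ({u1} : Set T))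
    ({1, z, u1, u1 * z} : Finset T) (by
    have := Finset.card_le_four (a := (1 : T)) (b := z) (c := u1) (d := u1 * z)
    omega)
  have h12 : u1 * u2 = u2 * u1 := F5Data.mem_cent.mp hu2C
  have hu2_1 : u2 ≠ 1 := fun h => hu2F (by rw [h]; simp)
  have hu2_z : u2 ≠ z := fun h => hu2F (by rw [h]; simp)
  have hu2_u1 : u2 ≠ u1 := fun h => hu2F (by rw [h]; simp)
  have hu2_u1z : u2 ≠ u1 * z := fun h => hu2F (by rw [h]; simp)
  have hu1inv : u1⁻¹ = u1 := inv_eq_of_mul_eq_one_left hu1sq
  have hu2inv : u2⁻¹ = u2 := inv_eq_of_mul_eq_one_left hu2sq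
  have hu1Z : u1 ∉ Subgroup.center T := by
    intro h
    rcases d.hZ u1 h with h' | h'
    · exact hu1_1 h'
    · exact hu1_z h'
  have hu2Z : u2 ∉ Subgroup.center T := by
    intro h
    rcases d.hZ u2 h with h' | h'
    · exact hu2_1 h'
    · exact hu2_z h'
  have hu12Z : u1 * u2 ∉ Subgroup.center T := by
    intro h
    rcases d.hZ _ h with h' | h'
    · apply hu2_u1
      calc u2 = u1⁻¹ * (u1 * u2) := by group
        _ = u1 := by rw [h', mul_one, hu1inv]
    · apply hu2_u1z
      calc u2 = u1⁻¹ * (u1 * u2) := by group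
        _ = u1 * z := by rw [h', hu1inv]
  have hu21Z : u2 * u1 ∉ Subgroup.center T := by rw [← h12]; exact hu12Z
  obtain ⟨t1, ht1a, ht1b⟩ := d.exists_dual u1 u2 hu1Z hu12Z
  obtain ⟨t2, ht2a, ht2b⟩ := d.exists_dual u2 u1 hu2Z hu21Z
  refine ⟨u1, u2, t1, t2, hu1sq, hu2sq, h12, hu1_1, hu1_z, hu2_1, hu2_z, hu2_u1, hu2_u1z,
    ht1a, ht1b, ht2b, ht2a, ?_⟩
  -- the centraliser
  have hC2 := d.card_le_two_mul_inf (Subgroup.centralizer ({u1} : Set T)) u2
  have hsub : Subgroup.centralizer ({u1} : Set T) ⊓ Subgroup.centralizer ({u2} : Set T) ≤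
      Subgroup.centralizer ({u1, u2} : Set T) := by
    intro g hg
    rw [Subgroup.mem_inf] at hg
    rw [Subgroup.mem_centralizer_iff]
    intro y hy
    rcases hy with rfl | hy
    · exact F5Data.mem_cent.mp hg.1
    · rw [Set.mem_singleton_iff.mp hy]
      exact F5Data.mem_cent.mp hg.2
  have h3 := Subgroup.card_le_of_le hsub
  omega

end Cfsg.Agent.Lib.Helper2.Cub
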