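import Mathlib

/-!
# S4415 farm-out, lemma F6: coprime decomposition `E = [E, R] ⊕ C_E(R)` over `ZMod 3`
-/

set_option autoImplicit false

namespace Cfsg.Agent.Lib.Helper2.Cub

/-- F6. Coprime decomposition of a module over `ZMod 3` under a finite group of order prime to 3. -/
theorem f6_decomp {S : Type*} [Group S] {E : Type*} [AddCommGroup E] [Module (ZMod 3) E]
    (ρ : Representation (ZMod 3) S E) (R : Subgroup S) [Finite R] (hR : (Nat.card R).Coprime 3) :
    ∃ F₀ F₁ : Submodule (ZMod 3) E, F₀ ⊓ F₁ = ⊥ ∧ F₀ ⊔ F₁ = ⊤ ∧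
      (∀ v, v ∈ F₁ ↔ ∀ x ∈ R, ρ x v = v) ∧
      F₀ = Submodule.span (ZMod 3) {w | ∃ x ∈ R, ∃ v : E, w = ρ x v - v} ∧
      (∀ v ∈ F₀, (∀ x ∈ R, ρ x v = v) → v = 0) := by
  classical
  have : Fintype R := Fintype.ofFinite R
  have : Fact (Nat.Prime 3) := ⟨Nat.prime_three⟩
  set c : ZMod 3 := (Nat.card R : ZMod 3) with hc
  have hc0 : c ≠ 0 := by
    rw [hc, Ne, ZMod.natCast_eq_zero_iff]
    intro hdvd
    have := Nat.Coprime.eq_one_of_dvd hR.symm hdvd
    omega
  -- the sum operator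
  set sumρ : E →ₗ[ZMod 3] E := ∑ x : R, ρ (x : S) with hsum
  have hsumapp : ∀ v, sumρ v = ∑ x : R, ρ (x : S) v := by
    intro v; rw [hsum, LinearMap.sum_apply]
  have h1 : ∀ y ∈ R, ∀ v, ρ y (sumρ v) = sumρ v := by
    intro y hy v
    rw [hsumapp, map_sum]
    refine Fintype.sum_equiv (Equiv.mulLeft (⟨y, hy⟩ : R)) _ _ ?_
    intro x
    simp only [Equiv.coe_mulLeft, Subgroup.coe_mul, map_mul, Module.End.mul_apply]
  have h2 : ∀ y ∈ R, ∀ v, sumρ (ρ y v) = sumρ v := by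
    intro y hy v
    rw [hsumapp, hsumapp]
    refine Fintype.sum_equiv (Equiv.mulRight (⟨y, hy⟩ : R)) _ _ ?_
    intro x
    simp only [Equiv.coe_mulRight, Subgroup.coe_mul, map_mul, Module.End.mul_apply]
  have h3 : ∀ v, (∀ x ∈ R, ρ x v = v) → sumρ v = c • v := by
    intro v hv
    rw [hsumapp]
    have : ∀ x : R, ρ (x : S) v = v := fun x => hv x x.2
    simp only [this, Finset.sum_const, Finset.card_univ]
    rw [hc, Nat.card_eq_fintype_card, Nat.cast_smul_eq_nsmul]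
  -- the two submodules
  let F₁ : Submodule (ZMod 3) E :=
    { carrier := {v | ∀ x ∈ R, ρ x v = v}
      add_mem' := by
        intro a b ha hb x hx
        rw [map_add, ha x hx, hb x hx]
      zero_mem' := by
        intro x _
        rw [map_zero]
      smul_mem' := by
        intro r a ha x hx
        rw [map_smul, ha x hx] }
  have hF₁ : ∀ v, v ∈ F₁ ↔ ∀ x ∈ R, ρ x v = v := fun v => Iff.rfl
  set F₀ : Submodule (ZMod 3) E :=
    Submodule.span (ZMod 3) {w | ∃ x ∈ R, ∃ v : E, w = ρ x v - v} with hF₀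
  -- the projector
  have hA : ∀ v, c⁻¹ • sumρ v ∈ F₁ := by
    intro v x hx
    rw [map_smul, h1 x hx]
  have hB : ∀ v, v - c⁻¹ • sumρ v ∈ F₀ := by
    intro v
    have hrew : v - c⁻¹ • sumρ v = -(c⁻¹ • ∑ x : R, (ρ (x : S) v - v)) := by
      rw [Finset.sum_sub_distrib, ← hsumapp, Finset.sum_const, Finset.card_univ,
        ← Nat.cast_smul_eq_nsmul (ZMod 3), ← Nat.card_eq_fintype_card, ← hc, smul_sub,
        smul_smul, inv_mul_cancel₀ hc0, one_smul]
      abel
    rw [hrew]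
    apply Submodule.neg_mem
    apply Submodule.smul_mem
    apply Submodule.sum_mem
    intro x _
    apply Submodule.subset_span
    exact ⟨x, x.2, v, rfl⟩
  have hC : ∀ w ∈ F₀, sumρ w = 0 := by
    intro w hw
    have hle : F₀ ≤ LinearMap.ker sumρ := by
      rw [hF₀, Submodule.span_le]
      rintro w ⟨x, hx, v, rfl⟩
      rw [SetLike.mem_coe, LinearMap.mem_ker, map_sub, h2 x hx, sub_self]
    exact LinearMap.mem_ker.mp (hle hw)
  have hD : ∀ v ∈ F₀, (∀ x ∈ R, ρ x v = v) → v = 0 := by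
    intro v hv0 hv1
    have h4 := h3 v hv1
    rw [hC v hv0] at h4
    have h5 : c⁻¹ • (c • v) = 0 := by rw [← h4, smul_zero]
    rwa [smul_smul, inv_mul_cancel₀ hc0, one_smul] at h5
  refine ⟨F₀, F₁, ?_, ?_, hF₁, rfl, hD⟩
  · rw [eq_bot_iff]
    intro v hv
    rw [Submodule.mem_inf] at hv
    rw [Submodule.mem_bot]
    exact hD v hv.1 hv.2
  · rw [eq_top_iff]
    intro v _
    have : v = (v - c⁻¹ • sumρ v) + c⁻¹ • sumρ v := by abel
    rw [this]
    exact Submodule.add_mem_sup (hB v) (hA v)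

end Cfsg.Agent.Lib.Helper2.Cub
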