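import Mathlib
import Cfsg.Agent.Lib.Helper1.CubF5
import Cfsg.Agent.Lib.Helper2.CubD0

/-!
# S4415, package PC5b: an extraspecial 2-subgroup containing `z = -1` has order at most 32 when
`|W| = 81`
-/

set_option autoImplicit false
open Cfsg

namespace Cfsg.Agent.Lib.Helper2.Cub

section LinAlg

variable {W : Type*} [AddCommGroup W] [Module (ZMod 3) W]

/-- the `+1`-eigenvectors of `f` in `U` -/
def eigP (U : AddSubgroup W) (f : W →ₗ[ZMod 3] W) : AddSubgroup W where
  carrier := {w | w ∈ U ∧ f w = w}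
  zero_mem' := ⟨U.zero_mem, map_zero f⟩
  add_mem' := by
    rintro a b ⟨ha, ha'⟩ ⟨hb, hb'⟩
    exact ⟨U.add_mem ha hb, by rw [map_add, ha', hb']⟩
  neg_mem' := by
    rintro a ⟨ha, ha'⟩
    exact ⟨U.neg_mem ha, by rw [map_neg, ha']⟩

/-- the `-1`-eigenvectors of `f` in `U` -/
def eigM (U : AddSubgroup W) (f : W →ₗ[ZMod 3] W) : AddSubgroup W where
  carrier := {w | w ∈ U ∧ f w = -w}
  zero_mem' := ⟨U.zero_mem, by rw [map_zero, neg_zero]⟩
  add_mem' := by
    rintro a b ⟨ha, ha'⟩ ⟨hb, hb'⟩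
    exact ⟨U.add_mem ha hb, by rw [map_add, ha', hb', neg_add]⟩
  neg_mem' := by
    rintro a ⟨ha, ha'⟩
    exact ⟨U.neg_mem ha, by rw [map_neg, ha']⟩

theorem mem_eigP {U : AddSubgroup W} {f : W →ₗ[ZMod 3] W} {w : W} :
    w ∈ eigP U f ↔ w ∈ U ∧ f w = w := Iff.rfl

theorem mem_eigM {U : AddSubgroup W} {f : W →ₗ[ZMod 3] W} {w : W} :
    w ∈ eigM U f ↔ w ∈ U ∧ f w = -w := Iff.rfl

theorem pc5b_neg_two (w : W) : -(w + w) = w := by
  have := cubA_three w
  calc -(w + w) = -(w + w) + (w + w + w) := by rw [this, add_zero]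
    _ = w := by abel

/-- decomposition of `U` into the two eigen-subgroups -/
theorem halving_prod (U : AddSubgroup W) (f : W →ₗ[ZMod 3] W) (hfU : ∀ w ∈ U, f w ∈ U)
    (hff : ∀ w, f (f w) = w) :
    Nat.card U = Nat.card (eigP U f) * Nat.card (eigM U f) := by
  rw [← Nat.card_prod]
  refine Nat.card_congr
    { toFun := fun w => (⟨-(w.1 + f w.1), ?_⟩, ⟨-(w.1 - f w.1), ?_⟩)
      invFun := fun p => ⟨p.1.1 + p.2.1, ?_⟩
      left_inv := ?_
      right_inv := ?_ }
  · refine ⟨U.neg_mem (U.add_mem w.2 (hfU _ w.2)), ?_⟩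
    rw [map_neg, map_add, hff, add_comm]
  · refine ⟨U.neg_mem (U.sub_mem w.2 (hfU _ w.2)), ?_⟩
    rw [map_neg, map_sub, hff]
    abel
  · exact U.add_mem p.1.2.1 p.2.2.1
  · intro w
    apply Subtype.ext
    change -(w.1 + f w.1) + -(w.1 - f w.1) = w.1
    have := pc5b_neg_two w.1
    calc -(w.1 + f w.1) + -(w.1 - f w.1) = -(w.1 + w.1) := by abel
      _ = w.1 := this
  · rintro ⟨⟨a, ha, ha'⟩, ⟨b, hb, hb'⟩⟩
    apply Prod.ext
    · apply Subtype.ext
      change -(a + b + f (a + b)) = a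
      rw [map_add, ha', hb']
      have := pc5b_neg_two a
      calc -(a + b + (a + -b)) = -(a + a) := by abel
        _ = a := this
    · apply Subtype.ext
      change -(a + b - f (a + b)) = b
      rw [map_add, ha', hb']
      have := pc5b_neg_two b
      calc -(a + b - (a + -b)) = -(b + b) := by abel
        _ = b := this

/-- an anticommuting invertible map interchanges the two eigen-subgroups -/
theorem halving_eq (U : AddSubgroup W) (f g g' : W →ₗ[ZMod 3] W)
    (hgU : ∀ w ∈ U, g w ∈ U) (hg'U : ∀ w ∈ U, g' w ∈ U)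
    (hgg' : ∀ w, g' (g w) = w) (hg'g : ∀ w, g (g' w) = w)
    (hanti : ∀ w, f (g w) = -g (f w)) (hanti' : ∀ w, f (g' w) = -g' (f w)) :
    Nat.card (eigP U f) = Nat.card (eigM U f) := by
  refine Nat.card_congr
    { toFun := fun a => ⟨g a.1, hgU _ a.2.1, ?_⟩
      invFun := fun b => ⟨g' b.1, hg'U _ b.2.1, ?_⟩
      left_inv := fun a => Subtype.ext (hgg' a.1)
      right_inv := fun b => Subtype.ext (hg'g b.1) }
  · rw [hanti, a.2.2]
  · rw [hanti', b.2.2, map_neg, neg_neg]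

/-- two injective linear maps preserving a subgroup with three elements commute on it -/
theorem comm_on_line [Finite W] (L : AddSubgroup W) (hL : Nat.card L = 3) (φ ψ : W →ₗ[ZMod 3] W)
    (hφi : Function.Injective φ) (hψi : Function.Injective ψ)
    (hφL : ∀ w ∈ L, φ w ∈ L) (hψL : ∀ w ∈ L, ψ w ∈ L) : ∀ w ∈ L, φ (ψ w) = ψ (φ w) := by
  classical
  have : Fintype W := Fintype.ofFinite W
  -- a nonzero element
  have hex : ∃ w₀ ∈ L, w₀ ≠ 0 := by
    by_contra hcon
    push Not at hcon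
    have hsub : Subsingleton L := ⟨fun a b => Subtype.ext (by rw [hcon a.1 a.2, hcon b.1 b.2])⟩
    have : Nat.card L ≤ 1 := Finite.card_le_one_iff_subsingleton.mpr hsub
    omega
  obtain ⟨w₀, hw₀L, hw₀⟩ := hex
  have hne : w₀ ≠ -w₀ := by
    intro h
    apply hw₀
    have h3 := cubA_three w₀
    calc w₀ = (w₀ + w₀ + w₀) - (w₀ + w₀) := by abel
      _ = 0 - (w₀ + -w₀) := by rw [h3, ← h]
      _ = 0 := by abel
  have hall : ∀ w ∈ L, w = 0 ∨ w = w₀ ∨ w = -w₀ := by
    intro w hw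
    by_contra hcon
    push Not at hcon
    -- four distinct elements of `L`
    let f4 : Fin 4 → L := ![⟨0, L.zero_mem⟩, ⟨w₀, hw₀L⟩, ⟨-w₀, L.neg_mem hw₀L⟩, ⟨w, hw⟩]
    have hinj : Function.Injective f4 := by
      intro i j hij
      have hij' : (f4 i : W) = (f4 j : W) := congrArg Subtype.val hij
      fin_cases i <;> fin_cases j <;> simp [f4] at hij' ⊢
      all_goals first
        | exact absurd hij' hw₀
        | exact absurd hij'.symm hw₀
        | exact absurd hij' hne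
        | exact absurd hij'.symm hne
        | exact absurd hij' hcon.1
        | exact absurd hij'.symm hcon.1
        | exact absurd hij' hcon.2.1
        | exact absurd hij'.symm hcon.2.1
        | exact absurd hij' hcon.2.2
        | exact absurd hij'.symm hcon.2.2
    have := Nat.card_le_card_of_injective f4 hinj
    rw [Nat.card_eq_fintype_card, Fintype.card_fin] at this
    omega
  have hφ0 : φ w₀ = w₀ ∨ φ w₀ = -w₀ := by
    rcases hall _ (hφL _ hw₀L) with h | h | h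
    · exact (hw₀ (hφi (by rw [h, map_zero]))).elim
    · left; exact h
    · right; exact h
  have hψ0 : ψ w₀ = w₀ ∨ ψ w₀ = -w₀ := by
    rcases hall _ (hψL _ hw₀L) with h | h | h
    · exact (hw₀ (hψi (by rw [h, map_zero]))).elim
    · left; exact h
    · right; exact h
  have hcomm0 : φ (ψ w₀) = ψ (φ w₀) := by
    rcases hφ0 with h1 | h1 <;> rcases hψ0 with h2 | h2 <;>
      simp only [h1, h2, map_neg]
  intro w hw
  rcases hall w hw with h | h | h
  · simp only [h, map_zero]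
  · rw [h, hcomm0]
  · rw [h, map_neg, map_neg, map_neg, map_neg, hcomm0]

end LinAlg


section LinAlg2

variable {W : Type*} [AddCommGroup W] [Module (ZMod 3) W]

/-- if two linear maps commute on both eigen-subgroups of `U`, they commute on `U` -/
theorem comm_of_halves (U : AddSubgroup W) (f : W →ₗ[ZMod 3] W) (hfU : ∀ w ∈ U, f w ∈ U)
    (hff : ∀ w, f (f w) = w) (φ ψ : W →ₗ[ZMod 3] W)
    (hP : ∀ w ∈ eigP U f, φ (ψ w) = ψ (φ w)) (hM : ∀ w ∈ eigM U f, φ (ψ w) = ψ (φ w)) :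
    ∀ w ∈ U, φ (ψ w) = ψ (φ w) := by
  intro w hw
  have ha : -(w + f w) ∈ eigP U f := by
    refine ⟨U.neg_mem (U.add_mem hw (hfU _ hw)), ?_⟩
    rw [map_neg, map_add, hff, add_comm]
  have hb : -(w - f w) ∈ eigM U f := by
    refine ⟨U.neg_mem (U.sub_mem hw (hfU _ hw)), ?_⟩
    rw [map_neg, map_sub, hff]
    abel
  have hdec : w = -(w + f w) + -(w - f w) := by
    have := pc5b_neg_two w
    calc w = -(w + w) := this.symm
      _ = -(w + f w) + -(w - f w) := by abel
  rw [hdec, map_add, map_add, map_add, map_add, hP _ ha, hM _ hb]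

end LinAlg2

section GroupPart

variable {G : Type*} [Group G] {W : Type*} [AddCommGroup W] [Module (ZMod 3) W]
variable [Finite G] [Finite W] {ρ : Representation (ZMod 3) G W}

omit [Finite G] [Finite W] in
theorem rho_comm (ρ : Representation (ZMod 3) G W) {x y : G} (hxy : x * y = y * x) (w : W) :
    ρ x (ρ y w) = ρ y (ρ x w) := by
  rw [← rho_mul_apply, ← rho_mul_apply, hxy]

omit [Finite G] [Finite W] in
/-- `x * y = y * x * z` with `ρ z = -1` gives anticommutation -/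
theorem rho_anti (ρ : Representation (ZMod 3) G W) {x y z : G} (hz : ∀ w : W, ρ z w = -w)
    (hxy : x * y = y * x * z) (w : W) : ρ x (ρ y w) = -ρ y (ρ x w) := by
  rw [← rho_mul_apply, hxy, rho_mul_apply, rho_mul_apply, hz, map_neg, map_neg]

theorem pc5b_core (ρ : Representation (ZMod 3) G W) (hfaith : Function.Injective ρ)
    (hW : Nat.card W = 81) {z : G} (hz : ∀ w : W, ρ z w = -w) (T : Subgroup G) (hzT : z ∈ T)
    (d : F5Data T (⟨z, hzT⟩ : T)) (hcen2 : Nat.card (Subgroup.center T) = 2)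
    (hcard : 64 ≤ Nat.card T) : Nat.card T ≤ 32 := by
  classical
  set z' : T := ⟨z, hzT⟩ with hz'
  -- the elements u1, u2, t1, t2
  have hcT : Nat.card (⊤ : Subgroup T) = Nat.card T := Subgroup.card_top
  obtain ⟨u1, -, hu1F, hu1sq⟩ := d.exists_invol ⊤ ({1, z'} : Finset T) (by
    have := Finset.card_le_two (a := (1 : T)) (b := z')
    omega)
  have hu1_1 : u1 ≠ 1 := fun h => hu1F (by rw [h]; simp)
  have hu1_z : u1 ≠ z' := fun h => hu1F (by rw [h]; simp)
  have hC1 := d.card_le_two_mul_inf ⊤ u1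
  rw [hcT, top_inf_eq] at hC1
  obtain ⟨u2, hu2C, hu2F, hu2sq⟩ := d.exists_invol (Subgroup.centralizer ({u1} : Set T))
    ({1, z', u1, u1 * z'} : Finset T) (by
    have := Finset.card_le_four (a := (1 : T)) (b := z') (c := u1) (d := u1 * z')
    omega)
  have h12 : u1 * u2 = u2 * u1 := F5Data.mem_cent.mp hu2C
  have hu2_1 : u2 ≠ 1 := fun h => hu2F (by rw [h]; simp)
  have hu2_z : u2 ≠ z' := fun h => hu2F (by rw [h]; simp)
  have hu2_u1 : u2 ≠ u1 := fun h => hu2F (by rw [h]; simp)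
  have hu2_u1z : u2 ≠ u1 * z' := fun h => hu2F (by rw [h]; simp)
  have hu1inv : u1⁻¹ = u1 := inv_eq_of_mul_eq_one_left hu1sq
  have hu2inv : u2⁻¹ = u2 := inv_eq_of_mul_eq_one_left hu2sq
  have hu1Z : u1 ∉ Subgroup.center T := by
    intro h
    rcases d.hZ u1 h with h' | h'
    · exact hu1_1 h'
    · exact hu1_z h'
  have hu2Z : u2 ∉ Subgroup.center T := by
    intro h
    rcases d.hZ u2 h with h' | h'
    · exact hu2_1 h'
    · exact hu2_z h'
  have hu12Z : u1 * u2 ∉ Subgroup.center T := by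
    intro h
    rcases d.hZ _ h with h' | h'
    · apply hu2_u1
      calc u2 = u1⁻¹ * (u1 * u2) := by group
        _ = u1 := by rw [h', mul_one, hu1inv]
    · apply hu2_u1z
      calc u2 = u1⁻¹ * (u1 * u2) := by group
        _ = u1 * z' := by rw [h', hu1inv]
  have hu21Z : u2 * u1 ∉ Subgroup.center T := by rw [← h12]; exact hu12Z
  obtain ⟨t1, ht1a, ht1b⟩ := d.exists_dual u1 u2 hu1Z hu12Z
  obtain ⟨t2, ht2a, ht2b⟩ := d.exists_dual u2 u1 hu2Z hu21Z
  -- relations in `G`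
  have cz : ∀ g : T, g * z' = z' * g := d.zc
  have r_t1u1 : (t1 : G) * u1 = u1 * t1 * z := by
    have h1 : t1 * u1 = u1 * t1 * z' := by
      calc t1 * u1 = (t1 * u1 * t1⁻¹) * t1 := by group
        _ = u1 * z' * t1 := by rw [ht1a]
        _ = u1 * (z' * t1) := by group
        _ = u1 * (t1 * z') := by rw [cz t1]
        _ = u1 * t1 * z' := by group
    exact congrArg Subtype.val h1
  have r_t1iu1 : ((t1⁻¹ : T) : G) * u1 = u1 * (t1⁻¹ : T) * z := by
    have h1 : t1⁻¹ * u1 = u1 * t1⁻¹ * z' := by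
      have h2 : u1 = t1⁻¹ * (u1 * z') * t1 := by rw [← ht1a]; group
      calc t1⁻¹ * u1 = t1⁻¹ * u1 * (z' * z') := by rw [d.hzz, mul_one]
        _ = (t1⁻¹ * (u1 * z') * t1) * t1⁻¹ * z' := by group
        _ = u1 * t1⁻¹ * z' := by rw [← h2]
    exact congrArg Subtype.val h1
  have r_t2u2 : (t2 : G) * u2 = u2 * t2 * z := by
    have h1 : t2 * u2 = u2 * t2 * z' := by
      calc t2 * u2 = (t2 * u2 * t2⁻¹) * t2 := by group
        _ = u2 * z' * t2 := by rw [ht2a]
        _ = u2 * (z' * t2) := by group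
        _ = u2 * (t2 * z') := by rw [cz t2]
        _ = u2 * t2 * z' := by group
    exact congrArg Subtype.val h1
  have r_t2iu2 : ((t2⁻¹ : T) : G) * u2 = u2 * (t2⁻¹ : T) * z := by
    have h1 : t2⁻¹ * u2 = u2 * t2⁻¹ * z' := by
      have h2 : u2 = t2⁻¹ * (u2 * z') * t2 := by rw [← ht2a]; group
      calc t2⁻¹ * u2 = t2⁻¹ * u2 * (z' * z') := by rw [d.hzz, mul_one]
        _ = (t2⁻¹ * (u2 * z') * t2) * t2⁻¹ * z' := by group
        _ = u2 * t2⁻¹ * z' := by rw [← h2]
    exact congrArg Subtype.val h1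
  have r_t2u1 : (t2 : G) * u1 = u1 * t2 := by
    have h1 : t2 * u1 = u1 * t2 := (F5Data.comm_of_conj ht2b).symm
    exact congrArg Subtype.val h1
  have r_t2iu1 : ((t2⁻¹ : T) : G) * u1 = u1 * (t2⁻¹ : T) := by
    have h1 : t2⁻¹ * u1 = u1 * t2⁻¹ := by
      have h2 : u1 * t2 = t2 * u1 := F5Data.comm_of_conj ht2b
      calc t2⁻¹ * u1 = t2⁻¹ * (u1 * t2) * t2⁻¹ := by group
        _ = t2⁻¹ * (t2 * u1) * t2⁻¹ := by rw [h2]
        _ = u1 * t2⁻¹ := by group
    exact congrArg Subtype.val h1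
  have r_u1u2 : (u1 : G) * u2 = u2 * u1 := congrArg Subtype.val h12
  have r_u1sq : (u1 : G) * u1 = 1 := congrArg Subtype.val hu1sq
  have r_u2sq : (u2 : G) * u2 = 1 := congrArg Subtype.val hu2sq
  -- the operators
  have hU1sq : ∀ w, ρ (u1 : G) (ρ (u1 : G) w) = w := by
    intro w; rw [← rho_mul_apply, r_u1sq, rho_one_apply]
  have hU2sq : ∀ w, ρ (u2 : G) (ρ (u2 : G) w) = w := by
    intro w; rw [← rho_mul_apply, r_u2sq, rho_one_apply]
  have inv_coe : ∀ t : T, ((t⁻¹ : T) : G) = (t : G)⁻¹ := fun t => rfl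
  -- level 0
  have h0prod := halving_prod (⊤ : AddSubgroup W) (ρ (u1 : G)) (fun _ _ => AddSubgroup.mem_top _)
    hU1sq
  have h0eq := halving_eq (⊤ : AddSubgroup W) (ρ (u1 : G)) (ρ (t1 : G)) (ρ ((t1⁻¹ : T) : G))
    (fun _ _ => AddSubgroup.mem_top _) (fun _ _ => AddSubgroup.mem_top _)
    (fun w => by rw [inv_coe, rho_inv_apply]) (fun w => by rw [inv_coe, rho_apply_inv])
    (fun w => by
      have := rho_anti ρ hz r_t1u1 w
      rw [this, neg_neg])
    (fun w => by
      have := rho_anti ρ hz r_t1iu1 w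
      rw [this, neg_neg])
  have hcardtop : Nat.card (⊤ : AddSubgroup W) = 81 := by
    rw [← hW]; exact Nat.card_congr (Equiv.Set.univ W)
  set Wp := eigP (⊤ : AddSubgroup W) (ρ (u1 : G)) with hWp
  set Wm := eigM (⊤ : AddSubgroup W) (ρ (u1 : G)) with hWm
  have hWp9 : Nat.card Wp = 9 := by
    rw [hcardtop, ← h0eq] at h0prod
    have : Nat.card Wp * Nat.card Wp = 9 * 9 := by omega
    exact Nat.mul_self_inj.mp this
  have hWm9 : Nat.card Wm = 9 := by rw [← h0eq]; exact hWp9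
  -- level 1: things commuting with `u1` preserve `Wp` and `Wm`
  have presP : ∀ x : G, x * u1 = u1 * x → ∀ w ∈ Wp, ρ x w ∈ Wp := by
    intro x hx w hw
    refine ⟨AddSubgroup.mem_top _, ?_⟩
    rw [← rho_comm ρ hx, hw.2]
  have presM : ∀ x : G, x * u1 = u1 * x → ∀ w ∈ Wm, ρ x w ∈ Wm := by
    intro x hx w hw
    refine ⟨AddSubgroup.mem_top _, ?_⟩
    rw [← rho_comm ρ hx, hw.2, map_neg]
  have line : ∀ U : AddSubgroup W, Nat.card U = 9 → (∀ x : G, x * u1 = u1 * x → ∀ w ∈ U, ρ x w ∈ U) →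
      Nat.card (eigP U (ρ (u2 : G))) = 3 ∧ Nat.card (eigM U (ρ (u2 : G))) = 3 := by
    intro U hU9 pres
    have h1prod := halving_prod U (ρ (u2 : G)) (pres _ r_u1u2.symm) hU2sq
    have h1eq := halving_eq U (ρ (u2 : G)) (ρ (t2 : G)) (ρ ((t2⁻¹ : T) : G))
      (pres _ r_t2u1) (pres _ r_t2iu1)
      (fun w => by rw [inv_coe, rho_inv_apply]) (fun w => by rw [inv_coe, rho_apply_inv])
      (fun w => by
        have := rho_anti ρ hz r_t2u2 w
        rw [this, neg_neg])
      (fun w => by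
        have := rho_anti ρ hz r_t2iu2 w
        rw [this, neg_neg])
    rw [hU9, ← h1eq] at h1prod
    have : Nat.card (eigP U (ρ (u2 : G))) * Nat.card (eigP U (ρ (u2 : G))) = 3 * 3 := by omega
    have h3 := Nat.mul_self_inj.mp this
    exact ⟨h3, by rw [← h1eq]; exact h3⟩
  obtain ⟨hpp, hpm⟩ := line Wp hWp9 presP
  obtain ⟨hmp, hmm⟩ := line Wm hWm9 presM
  -- the centraliser `C` of `u1, u2` is abelian
  have hCab : ∀ c c' : T, c * u1 = u1 * c → c * u2 = u2 * c → c' * u1 = u1 * c' →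
      c' * u2 = u2 * c' → c * c' = c' * c := by
    intro c c' hc1 hc2 hc1' hc2'
    have gc1 : (c : G) * u1 = u1 * c := congrArg Subtype.val hc1
    have gc2 : (c : G) * u2 = u2 * c := congrArg Subtype.val hc2
    have gc1' : (c' : G) * u1 = u1 * c' := congrArg Subtype.val hc1'
    have gc2' : (c' : G) * u2 = u2 * c' := congrArg Subtype.val hc2'
    have key : ∀ w : W, ρ (c : G) (ρ (c' : G) w) = ρ (c' : G) (ρ (c : G) w) := by
      have presE : ∀ (U : AddSubgroup W), (∀ x : G, x * u1 = u1 * x → ∀ w ∈ U, ρ x w ∈ U) →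
          ∀ x : G, x * u1 = u1 * x → x * u2 = u2 * x →
          (∀ w ∈ eigP U (ρ (u2 : G)), ρ x w ∈ eigP U (ρ (u2 : G))) ∧
          (∀ w ∈ eigM U (ρ (u2 : G)), ρ x w ∈ eigM U (ρ (u2 : G))) := by
        intro U pres x hx1 hx2
        constructor
        · intro w hw
          refine ⟨pres x hx1 w hw.1, ?_⟩
          rw [← rho_comm ρ hx2, hw.2]
        · intro w hw
          refine ⟨pres x hx1 w hw.1, ?_⟩
          rw [← rho_comm ρ hx2, hw.2, map_neg]
      have onU : ∀ (U : AddSubgroup W), (∀ x : G, x * u1 = u1 * x → ∀ w ∈ U, ρ x w ∈ U) →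
          Nat.card (eigP U (ρ (u2 : G))) = 3 → Nat.card (eigM U (ρ (u2 : G))) = 3 →
          ∀ w ∈ U, ρ (c : G) (ρ (c' : G) w) = ρ (c' : G) (ρ (c : G) w) := by
        intro U pres h3p h3m
        apply comm_of_halves U (ρ (u2 : G)) (pres _ r_u1u2.symm) hU2sq
        · exact comm_on_line _ h3p _ _ (rho_injective ρ _) (rho_injective ρ _)
            (presE U pres c gc1 gc2).1 (presE U pres c' gc1' gc2').1
        · exact comm_on_line _ h3m _ _ (rho_injective ρ _) (rho_injective ρ _)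
            (presE U pres c gc1 gc2).2 (presE U pres c' gc1' gc2').2
      intro w
      exact comm_of_halves ⊤ (ρ (u1 : G)) (fun _ _ => AddSubgroup.mem_top _) hU1sq _ _
        (onU Wp presP hpp hpm) (onU Wm presM hmp hmm) w (AddSubgroup.mem_top _)
    have h2 : ρ ((c : G) * c') = ρ ((c' : G) * c) := by
      apply LinearMap.ext
      intro w
      rw [rho_mul_apply, rho_mul_apply, key]
    exact Subtype.ext (hfaith h2)
  -- the group-theoretic endgame
  set C1 := Subgroup.centralizer ({u1} : Set T) with hC1def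
  set C := C1 ⊓ Subgroup.centralizer ({u2} : Set T) with hCdef
  set D1 := C ⊓ Subgroup.centralizer ({t1} : Set T) with hD1def
  set D := D1 ⊓ Subgroup.centralizer ({t2} : Set T) with hDdef
  have hC2 : Nat.card C1 ≤ 2 * Nat.card C := d.card_le_two_mul_inf C1 u2
  have hD1 : Nat.card C ≤ 2 * Nat.card D1 := d.card_le_two_mul_inf C t1
  have hD2 : Nat.card D1 ≤ 2 * Nat.card D := d.card_le_two_mul_inf D1 t2
  have hDZ : D ≤ Subgroup.center T := by
    intro g hg
    rw [hDdef, Subgroup.mem_inf, hD1def, Subgroup.mem_inf, hCdef, Subgroup.mem_inf] at hg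
    obtain ⟨⟨⟨hg1, hg2⟩, hgt1⟩, hgt2⟩ := hg
    have g1 : u1 * g = g * u1 := F5Data.mem_cent.mp hg1
    have g2 : u2 * g = g * u2 := F5Data.mem_cent.mp hg2
    have g3 : t1 * g = g * t1 := F5Data.mem_cent.mp hgt1
    have g4 : t2 * g = g * t2 := F5Data.mem_cent.mp hgt2
    rw [Subgroup.mem_center_iff]
    intro t
    -- adjust `t` by `t1`
    have step1 : ∃ s : T, s * g = g * s ∧ (s⁻¹ * t) * u1 = u1 * (s⁻¹ * t) := by
      rcases d.conj_dich t u1 with h | h
      · refine ⟨1, by rw [one_mul, mul_one], ?_⟩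
        rw [inv_one, one_mul]
        exact (F5Data.comm_of_conj h).symm
      · refine ⟨t1, g3, ?_⟩
        have h5 : t1⁻¹ * t * u1 * (t1⁻¹ * t)⁻¹ = u1 := by
          calc t1⁻¹ * t * u1 * (t1⁻¹ * t)⁻¹ = t1⁻¹ * (t * u1 * t⁻¹) * t1 := by group
            _ = t1⁻¹ * (t1 * u1 * t1⁻¹) * t1 := by rw [h, ht1a]
            _ = u1 := by group
        exact (F5Data.comm_of_conj h5).symm
    obtain ⟨s, hsg, hs1⟩ := step1
    have step2 : ∃ s2 : T, s2 * g = g * s2 ∧ (s2⁻¹ * (s⁻¹ * t)) * u1 = u1 * (s2⁻¹ * (s⁻¹ * t)) ∧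
        (s2⁻¹ * (s⁻¹ * t)) * u2 = u2 * (s2⁻¹ * (s⁻¹ * t)) := by
      rcases d.conj_dich (s⁻¹ * t) u2 with h | h
      · refine ⟨1, by rw [one_mul, mul_one], ?_, ?_⟩
        · rw [inv_one, one_mul]; exact hs1
        · rw [inv_one, one_mul]
          exact (F5Data.comm_of_conj h).symm
      · refine ⟨t2, g4, ?_, ?_⟩
        · have h6 : t2⁻¹ * u1 = u1 * t2⁻¹ := by
            have h2 : u1 * t2 = t2 * u1 := F5Data.comm_of_conj ht2b
            calc t2⁻¹ * u1 = t2⁻¹ * (u1 * t2) * t2⁻¹ := by group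
              _ = t2⁻¹ * (t2 * u1) * t2⁻¹ := by rw [h2]
              _ = u1 * t2⁻¹ := by group
          calc t2⁻¹ * (s⁻¹ * t) * u1 = t2⁻¹ * ((s⁻¹ * t) * u1) := by group
            _ = t2⁻¹ * (u1 * (s⁻¹ * t)) := by rw [hs1]
            _ = (t2⁻¹ * u1) * (s⁻¹ * t) := by group
            _ = (u1 * t2⁻¹) * (s⁻¹ * t) := by rw [h6]
            _ = u1 * (t2⁻¹ * (s⁻¹ * t)) := by group
        · have h5 : t2⁻¹ * (s⁻¹ * t) * u2 * (t2⁻¹ * (s⁻¹ * t))⁻¹ = u2 := by
            calc t2⁻¹ * (s⁻¹ * t) * u2 * (t2⁻¹ * (s⁻¹ * t))⁻¹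
                = t2⁻¹ * ((s⁻¹ * t) * u2 * (s⁻¹ * t)⁻¹) * t2 := by group
              _ = t2⁻¹ * (t2 * u2 * t2⁻¹) * t2 := by rw [h, ht2a]
              _ = u2 := by group
          exact (F5Data.comm_of_conj h5).symm
    obtain ⟨s2, hs2g, hc1, hc2⟩ := step2
    have hcg : (s2⁻¹ * (s⁻¹ * t)) * g = g * (s2⁻¹ * (s⁻¹ * t)) :=
      hCab _ g hc1 hc2 g1.symm g2.symm
    -- t = s * s2 * c
    calc t * g = s * (s2 * ((s2⁻¹ * (s⁻¹ * t)) * g)) := by group
      _ = s * (s2 * (g * (s2⁻¹ * (s⁻¹ * t)))) := by rw [hcg]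
      _ = s * ((s2 * g) * (s2⁻¹ * (s⁻¹ * t))) := by group
      _ = s * ((g * s2) * (s2⁻¹ * (s⁻¹ * t))) := by rw [hs2g]
      _ = (s * g) * (s⁻¹ * t) := by group
      _ = (g * s) * (s⁻¹ * t) := by rw [hsg]
      _ = g * t := by group
  have hDle : Nat.card D ≤ 2 := by
    rw [← hcen2]; exact Subgroup.card_le_of_le hDZ
  omega

end GroupPart

section Final

variable {G : Type*} [Group G] {W : Type*} [AddCommGroup W] [Module (ZMod 3) W]
variable [Finite G] [Finite W] {ρ : Representation (ZMod 3) G W} {R Q : Subgroup G} {b : G}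

/-- PC5b = dimension bound: an extraspecial 2-subgroup containing `z = -1` has order ≤ 32 when
`|W| = 81`. -/
theorem Setup.pc5b_card_le (h : Setup ρ R Q b) (hW : Nat.card W = 81) {z : G}
    (hz : ∀ w : W, ρ z w = -w) (T : Subgroup G) (hzT : z ∈ T) (hT : IsExtraspecial 2 T) :
    Nat.card T ≤ 32 := by
  by_contra hcon
  push Not at hcon
  obtain ⟨n, hn⟩ := IsPGroup.exists_card_eq hT.1.1
  have h64 : 64 ≤ Nat.card T := by
    rw [hn] at hcon ⊢
    have h6 : 6 ≤ n := by
      by_contra h6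
      push Not at h6
      have : 2 ^ n ≤ 2 ^ 5 := Nat.pow_le_pow_right (by norm_num) (by omega)
      omega
    calc 64 = 2 ^ 6 := by norm_num
      _ ≤ 2 ^ n := Nat.pow_le_pow_right (by norm_num) h6
  have hzc : ∀ g : G, z * g = g * z := by
    intro g
    apply h.faithful
    apply LinearMap.ext
    intro w
    rw [rho_mul_apply, rho_mul_apply, hz, hz, map_neg]
  have hz'cen : (⟨z, hzT⟩ : T) ∈ Subgroup.center T := by
    rw [Subgroup.mem_center_iff]
    intro g
    apply Subtype.ext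
    exact (hzc g.1).symm
  have hz'1 : (⟨z, hzT⟩ : T) ≠ 1 := by
    intro h1
    have hz1 : z = 1 := congrArg Subtype.val h1
    have hw0 : ∀ w : W, w = 0 := by
      intro w
      have h2 := hz w
      rw [hz1, rho_one_apply] at h2
      have h3 := cubA_three w
      calc w = (w + w + w) - (w + w) := by abel
        _ = 0 - (w + -w) := by rw [h3, ← h2]
        _ = 0 := by abel
    have hsub : Subsingleton W := ⟨fun a b => by rw [hw0 a, hw0 b]⟩
    have : Nat.card W ≤ 1 := Finite.card_le_one_iff_subsingleton.mpr hsub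
    omega
  have d := f5Data_of_isExtraspecial hT ⟨z, hzT⟩ hz'cen hz'1
  have := pc5b_core ρ h.faithful hW hz T hzT d hT.2 h64
  omega

end Final


end Cfsg.Agent.Lib.Helper2.Cub
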