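import Mathlib
import Cfsg.Agent.Lib.Helper2.CubD0

/-!
# S4415, package PC7S: the Sylow step of (C7)

A `b`-invariant Sylow 5-subgroup `S` of `R`, `E = Ω₁(Z(S))`, the sum lemma `|E| ≡ 2 (mod 3)` and a
fixed point of `b` on `E`.
-/

set_option autoImplicit false
open Cfsg
open scoped Pointwise

namespace Cfsg.Agent.Lib.Helper2.Cub

section PC7Sgroup

variable {G : Type*} [Group G]

/-- a `b`-invariant Sylow 5-subgroup of a normal subgroup of order prime to 3 -/
theorem pc7s_invariant_sylow [Finite G] (R : Subgroup G) [R.Normal] (b : G) (hb3 : b ^ 3 = 1)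
    (hcop : (Nat.card R).Coprime 3) (h5 : 5 ∣ Nat.card R) :
    ∃ S : Subgroup G, S ≤ R ∧ IsPGroup 5 S ∧ (∀ s ∈ S, b * s * b⁻¹ ∈ S) ∧ ∃ s ∈ S, s ≠ 1 := by
  classical
  have : Fact (Nat.Prime 3) := ⟨Nat.prime_three⟩
  have : Fact (Nat.Prime 5) := ⟨by norm_num⟩
  let c : ConjAct G := ConjAct.toConjAct b
  have hc3 : c * c * c = 1 := by
    change ConjAct.toConjAct b * ConjAct.toConjAct b * ConjAct.toConjAct b = 1
    rw [← ConjAct.toConjAct_mul, ← ConjAct.toConjAct_mul, ← ConjAct.toConjAct_one]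
    congr 1
    rw [← hb3, pow_succ, pow_two]
  let σ : Function.End (Sylow 5 R) := fun P => c • P
  have hσ3 : σ ^ 3 ^ 1 = 1 := by
    rw [pow_one]
    funext P
    rw [pow_succ, pow_succ, pow_one]
    change c • (c • (c • P)) = P
    rw [smul_smul, smul_smul, hc3, one_smul]
  have : Fintype (Sylow 5 R) := Fintype.ofFinite _
  have hmod := Equiv.Perm.card_fixedPoints_modEq (f := σ) (p := 3) (n := 1) hσ3
  have P0 : Sylow 5 R := default
  have hcard : (Nat.card (Sylow 5 R)).Coprime 3 := by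
    have h1 : Nat.card (Sylow 5 R) ∣ Nat.card R :=
      (P0.card_dvd_index).trans (Subgroup.index_dvd_card _)
    exact Nat.Coprime.coprime_dvd_left h1 hcop
  have hne : Nonempty (Function.fixedPoints σ) := by
    by_contra hcon
    rw [not_nonempty_iff] at hcon
    have h0 : Fintype.card (Function.fixedPoints σ) = 0 := Fintype.card_eq_zero
    rw [h0, ← Nat.card_eq_fintype_card] at hmod
    have hdvd : 3 ∣ Nat.card (Sylow 5 R) := (Nat.modEq_zero_iff_dvd).mp hmod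
    have := Nat.Coprime.eq_one_of_dvd hcard.symm hdvd
    omega
  obtain ⟨⟨P, hP⟩⟩ := hne
  have hPfix : c • P = P := hP
  refine ⟨(P : Subgroup R).map R.subtype, ?_, ?_, ?_, ?_⟩
  · intro x hx
    obtain ⟨y, _, rfl⟩ := Subgroup.mem_map.mp hx
    exact y.2
  · exact P.isPGroup'.map R.subtype
  · intro s hs
    obtain ⟨y, hy, rfl⟩ := Subgroup.mem_map.mp hs
    have h1 : c • y ∈ c • (P : Subgroup R) := Subgroup.smul_mem_pointwise_smul y c _ hy
    have h2 : c • y ∈ (P : Subgroup R) := by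
      rw [← Sylow.pointwise_smul_def, hPfix] at h1
      exact h1
    refine Subgroup.mem_map.mpr ⟨c • y, h2, ?_⟩
    change ((c • y : R) : G) = b * y * b⁻¹
    rw [ConjAct.Subgroup.val_conj_smul, ConjAct.smul_def]
    rfl
  · have hPne : (P : Subgroup R) ≠ ⊥ := P.ne_bot_of_dvd_card h5
    obtain ⟨y, hy1⟩ := (Subgroup.ne_bot_iff_exists_ne_one).mp hPne
    refine ⟨((y : R) : G), Subgroup.mem_map.mpr ⟨y.1, y.2, rfl⟩, ?_⟩
    intro h
    apply hy1
    apply Subtype.ext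
    apply Subtype.ext
    rw [h]
    rfl

/-- `Ω₁(Z(S))` of a nontrivial `b`-invariant 5-subgroup -/
theorem pc7s_omega [Finite G] (S : Subgroup G) (hS : IsPGroup 5 S) (hS1 : ∃ s ∈ S, s ≠ 1) (b : G)
    (hb3 : b ^ 3 = 1) (hinv : ∀ s ∈ S, b * s * b⁻¹ ∈ S) :
    ∃ E : Subgroup G, E ≤ S ∧ (∃ e ∈ E, e ≠ 1) ∧ (∀ e ∈ E, e ^ 5 = 1) ∧
      (∀ e ∈ E, ∀ e' ∈ E, e * e' = e' * e) ∧ (∀ e ∈ E, b * e * b⁻¹ ∈ E) := by
  classical
  have : Fact (Nat.Prime 5) := ⟨by norm_num⟩
  let E : Subgroup G :=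
    { carrier := {e | e ∈ S ∧ e ^ 5 = 1 ∧ ∀ s ∈ S, e * s = s * e}
      one_mem' := ⟨S.one_mem, one_pow _, fun s _ => by rw [one_mul, mul_one]⟩
      mul_mem' := by
        rintro e e' ⟨he, he5, hec⟩ ⟨he', he'5, he'c⟩
        refine ⟨S.mul_mem he he', ?_, ?_⟩
        · have hcomm : Commute e e' := hec e' he'
          rw [hcomm.mul_pow, he5, he'5, one_mul]
        · intro s hs
          rw [mul_assoc, he'c s hs, ← mul_assoc, hec s hs, mul_assoc]
      inv_mem' := by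
        rintro e ⟨he, he5, hec⟩
        refine ⟨S.inv_mem he, by rw [inv_pow, he5, inv_one], ?_⟩
        intro s hs
        have := hec s hs
        calc e⁻¹ * s = e⁻¹ * (s * e) * e⁻¹ := by group
          _ = e⁻¹ * (e * s) * e⁻¹ := by rw [this]
          _ = s * e⁻¹ := by group }
  have hmemE : ∀ e, e ∈ E ↔ e ∈ S ∧ e ^ 5 = 1 ∧ ∀ s ∈ S, e * s = s * e := fun e => Iff.rfl
  have hbb : b * b = b⁻¹ := by
    apply eq_inv_of_mul_eq_one_left
    rw [← hb3, pow_succ, pow_two]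
  have hbb' : b⁻¹ * b⁻¹ = b := by rw [← mul_inv_rev, hbb, inv_inv]
  have hinv' : ∀ s ∈ S, b⁻¹ * s * b ∈ S := by
    intro s hs
    have h1 := hinv _ (hinv s hs)
    have e : b * (b * s * b⁻¹) * b⁻¹ = b⁻¹ * s * b := by
      calc b * (b * s * b⁻¹) * b⁻¹ = (b * b) * s * (b⁻¹ * b⁻¹) := by group
        _ = b⁻¹ * s * b := by rw [hbb, hbb']
    rwa [e] at h1
  refine ⟨E, fun e he => he.1, ?_, fun e he => he.2.1, ?_, ?_⟩
  · -- nontrivial
    have hSnt : Nontrivial S := by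
      obtain ⟨s, hs, hs1⟩ := hS1
      exact ⟨⟨⟨s, hs⟩, 1, fun h => hs1 (congrArg Subtype.val h)⟩⟩
    have hZnt : Nontrivial (Subgroup.center S) := hS.center_nontrivial
    have hZp : IsPGroup 5 (Subgroup.center S) := hS.to_subgroup _
    have h5 : 5 ∣ Nat.card (Subgroup.center S) := by
      rcases hZp.card_eq_or_dvd with h1 | h1
      · exfalso
        have := Finite.one_lt_card (α := Subgroup.center S)
        omega
      · exact h1
    obtain ⟨x, hx⟩ := exists_prime_orderOf_dvd_card' 5 h5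
    refine ⟨((x : S) : G), ⟨(x : S).2, ?_, ?_⟩, ?_⟩
    · have h1 := pow_orderOf_eq_one x
      rw [hx] at h1
      have h2 := congrArg (fun y : Subgroup.center S => ((y : S) : G)) h1
      simpa using h2
    · intro s hs
      have h1 := (Subgroup.mem_center_iff.mp x.2) ⟨s, hs⟩
      have h2 := congrArg (fun y : S => (y : G)) h1
      simp only [Subgroup.coe_mul] at h2
      exact h2.symm
    · intro h1
      have hx1 : x = 1 := by
        apply Subtype.ext
        apply Subtype.ext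
        rw [h1]
        rfl
      rw [hx1, orderOf_one] at hx
      omega
  · intro e he e' he'
    exact he.2.2 e' he'.1
  · intro e he
    obtain ⟨heS, he5, hec⟩ := he
    refine ⟨hinv e heS, by rw [conj_pow, he5, mul_one, mul_inv_cancel], ?_⟩
    intro s hs
    have h1 := hec _ (hinv' s hs)
    calc b * e * b⁻¹ * s = b * (e * (b⁻¹ * s * b)) * b⁻¹ := by group
      _ = b * ((b⁻¹ * s * b) * e) * b⁻¹ := by rw [h1]
      _ = s * (b * e * b⁻¹) := by group

/-- a fixed point of `b` on a `b`-invariant subgroup of order `≡ 2 (mod 3)` -/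
theorem pc7s_fixed (E : Subgroup G) [Finite E] (b : G) (hb3 : b ^ 3 = 1)
    (hinv : ∀ e ∈ E, b * e * b⁻¹ ∈ E) (hmod : Nat.card E % 3 = 2) :
    ∃ a ∈ E, a ≠ 1 ∧ b * a * b⁻¹ = a := by
  classical
  have : Fact (Nat.Prime 3) := ⟨Nat.prime_three⟩
  have : Fintype E := Fintype.ofFinite E
  have h3 : b * b * b = 1 := by rw [← hb3, pow_succ, pow_two]
  let σ : Function.End E := fun e => ⟨b * e.1 * b⁻¹, hinv e.1 e.2⟩
  have hσ3 : σ ^ 3 ^ 1 = 1 := by
    rw [pow_one]
    funext e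
    rw [pow_succ, pow_succ, pow_one]
    apply Subtype.ext
    change b * (b * (b * e.1 * b⁻¹) * b⁻¹) * b⁻¹ = e.1
    calc b * (b * (b * e.1 * b⁻¹) * b⁻¹) * b⁻¹ = (b * b * b) * e.1 * (b * b * b)⁻¹ := by group
      _ = e.1 := by rw [h3]; group
  have hmodc := Equiv.Perm.card_fixedPoints_modEq (f := σ) (p := 3) (n := 1) hσ3
  by_contra hcon
  push Not at hcon
  have hc1 : Fintype.card (Function.fixedPoints σ) = 1 := by
    rw [Fintype.card_eq_one_iff]
    refine ⟨⟨1, ?_⟩, ?_⟩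
    · apply Subtype.ext
      change b * ((1 : E) : G) * b⁻¹ = ((1 : E) : G)
      simp
    · rintro ⟨e, he⟩
      apply Subtype.ext
      by_contra hne
      have hfix : b * e.1 * b⁻¹ = e.1 := congrArg Subtype.val he
      exact hcon e.1 e.2 (fun h => hne (Subtype.ext h)) hfix
  rw [hc1, ← Nat.card_eq_fintype_card] at hmodc
  unfold Nat.ModEq at hmodc
  omega

end PC7Sgroup

section PC7Ssum

variable {G : Type*} [Group G] {W : Type*} [AddCommGroup W] [Module (ZMod 3) W]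

/-- the sum lemma: a group of exponent 5 all of whose nonidentity elements are fixed-point-free on
a nonzero `𝔽₃`-module has order `≡ 2 (mod 3)` -/
theorem pc7s_card_mod (ρ : Representation (ZMod 3) G W) (E : Subgroup G) [Finite E]
    (hE1 : ∃ e ∈ E, e ≠ 1) (hE5 : ∀ e ∈ E, e ^ 5 = 1)
    (hfpf : ∀ e ∈ E, e ≠ 1 → ∀ w : W, ρ e w = w → w = 0) (hW : ∃ w : W, w ≠ 0) :
    Nat.card E % 3 = 2 := by
  classical
  have : Fact (Nat.Prime 3) := ⟨Nat.prime_three⟩
  have : Fact (Nat.Prime 5) := ⟨by norm_num⟩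
  have : Fintype E := Fintype.ofFinite E
  have hp : IsPGroup 5 E := by
    intro e
    refine ⟨1, ?_⟩
    apply Subtype.ext
    rw [pow_one, Subgroup.coe_pow, Subgroup.coe_one]
    exact hE5 e.1 e.2
  obtain ⟨k, hk⟩ := hp.exists_card_eq
  have hc2 : (Nat.card E).Coprime 2 := by rw [hk]; exact Nat.Coprime.pow_left k (by norm_num)
  have hc3 : (Nat.card E).Coprime 3 := by rw [hk]; exact Nat.Coprime.pow_left k (by norm_num)
  have hc4 : (Nat.card E).Coprime 4 := by rw [hk]; exact Nat.Coprime.pow_left k (by norm_num)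
  -- the trace
  have hτfix : ∀ (e₀ : E) (w : W), ρ e₀.1 (∑ e : E, ρ e.1 w) = ∑ e : E, ρ e.1 w := by
    intro e₀ w
    rw [map_sum]
    rw [← Equiv.sum_comp (Equiv.mulLeft e₀) (fun e : E => ρ e.1 w)]
    apply Finset.sum_congr rfl
    intro e _
    rw [Equiv.coe_mulLeft, Subgroup.coe_mul, rho_mul_apply]
  have hτ0 : ∀ w : W, ∑ e : E, ρ e.1 w = 0 := by
    intro w
    obtain ⟨e₀, he₀, hne⟩ := hE1
    exact hfpf e₀ he₀ hne _ (hτfix ⟨e₀, he₀⟩ w)
  -- the norm of a single element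
  have hν0 : ∀ e ∈ E, e ≠ 1 → ∀ w : W,
      w + ρ e w + ρ (e ^ 2) w + ρ (e ^ 3) w + ρ (e ^ 4) w = 0 := by
    intro e he hne w
    apply hfpf e he hne
    have h1 : ρ e (ρ e w) = ρ (e ^ 2) w := by rw [← rho_mul_apply, ← pow_two]
    have h2 : ρ e (ρ (e ^ 2) w) = ρ (e ^ 3) w := by rw [← rho_mul_apply, ← pow_succ']
    have h3 : ρ e (ρ (e ^ 3) w) = ρ (e ^ 4) w := by rw [← rho_mul_apply, ← pow_succ']
    have h4 : ρ e (ρ (e ^ 4) w) = w := by
      rw [← rho_mul_apply, ← pow_succ', hE5 e he, rho_one_apply]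
    rw [map_add, map_add, map_add, map_add, h1, h2, h3, h4]
    abel
  have hsum1 : ∀ w : W,
      ∑ e : E, (w + ρ e.1 w + ρ (e.1 ^ 2) w + ρ (e.1 ^ 3) w + ρ (e.1 ^ 4) w) = (5 : ℕ) • w := by
    intro w
    rw [Finset.sum_eq_single (1 : E)]
    · simp only [Subgroup.coe_one, one_pow, rho_one_apply]
      abel
    · intro e _ hne
      exact hν0 e.1 e.2 (fun h => hne (Subtype.ext h)) w
    · intro h
      exact absurd (Finset.mem_univ _) h
  have hj : ∀ (j : ℕ) (w : W), (Nat.card E).Coprime j → ∑ e : E, ρ (e.1 ^ j) w = 0 := by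
    intro j w hj
    rw [← hτ0 w, ← Equiv.sum_comp (powCoprime hj) (fun e : E => ρ e.1 w)]
    apply Finset.sum_congr rfl
    intro e _
    rw [powCoprime_apply, Subgroup.coe_pow]
  have hsum2 : ∀ w : W,
      ∑ e : E, (w + ρ e.1 w + ρ (e.1 ^ 2) w + ρ (e.1 ^ 3) w + ρ (e.1 ^ 4) w)
        = (Nat.card E) • w := by
    intro w
    rw [Finset.sum_add_distrib, Finset.sum_add_distrib, Finset.sum_add_distrib,
      Finset.sum_add_distrib, hτ0 w, hj 2 w hc2, hj 3 w hc3, hj 4 w hc4, Finset.sum_const,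
      Finset.card_univ, ← Nat.card_eq_fintype_card, add_zero, add_zero, add_zero, add_zero]
  obtain ⟨w, hw⟩ := hW
  have hkey : (Nat.card E) • w = (5 : ℕ) • w := by rw [← hsum2 w, hsum1 w]
  have hkey' : ((Nat.card E : ℕ) : ZMod 3) • w = ((5 : ℕ) : ZMod 3) • w := by
    rw [Nat.cast_smul_eq_nsmul, Nat.cast_smul_eq_nsmul]
    exact hkey
  have h0 : (((Nat.card E : ℕ) : ZMod 3) - ((5 : ℕ) : ZMod 3)) • w = 0 := by
    rw [sub_smul, hkey', sub_self]
  have h1 : ((Nat.card E : ℕ) : ZMod 3) - ((5 : ℕ) : ZMod 3) = 0 :=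
    (smul_eq_zero.mp h0).resolve_right hw
  have h2 : ((Nat.card E : ℕ) : ZMod 3) = ((5 : ℕ) : ZMod 3) := sub_eq_zero.mp h1
  have h3 := (ZMod.natCast_eq_natCast_iff' _ _ _).mp h2
  omega

end PC7Ssum

variable {G : Type*} [Group G] {W : Type*} [AddCommGroup W] [Module (ZMod 3) W]
variable [Finite G] [Finite W] {ρ : Representation (ZMod 3) G W} {R Q : Subgroup G} {b : G}

/-- PC7S = the Sylow step of (C7). -/
theorem Setup.pc7s_exists_comm (h : Setup ρ R Q b) (hex : ∃ g ∈ R, orderOf g = 5)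
    (hfpf : ∀ g ∈ R, orderOf g = 5 → ∀ w : W, ρ g w = w → w = 0) :
    ∃ a ∈ R, orderOf a = 5 ∧ a * b = b * a := by
  have : Fact (Nat.Prime 5) := ⟨by norm_num⟩
  have hn := h.normalR
  have h5 : 5 ∣ Nat.card R := by
    obtain ⟨g, hg, hg5⟩ := hex
    rw [← hg5]
    exact Subgroup.orderOf_dvd_natCard R hg
  obtain ⟨S, hSR, hSp, hSinv, hS1⟩ := pc7s_invariant_sylow R b h.b3 h.coprimeR h5
  obtain ⟨E, hES, hE1, hE5, _, hEinv⟩ := pc7s_omega S hSp hS1 b h.b3 hSinv
  have hord : ∀ e ∈ E, e ≠ 1 → orderOf e = 5 := fun e he hne => orderOf_eq_prime (hE5 e he) hne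
  have hW : ∃ w : W, w ≠ 0 := by
    obtain ⟨v, hv⟩ := h.N2
    exact ⟨_, hv⟩
  have hmod := pc7s_card_mod ρ E hE1 hE5
    (fun e he hne => hfpf e (hSR (hES he)) (hord e he hne)) hW
  obtain ⟨a, haE, hne, hfix⟩ := pc7s_fixed E b h.b3 hEinv hmod
  refine ⟨a, hSR (hES haE), hord a haE hne, ?_⟩
  calc a * b = (b * a * b⁻¹) * b := by rw [hfix]
    _ = b * a := by group

end Cfsg.Agent.Lib.Helper2.Cub
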