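import Mathlib
import Cfsg.Prelude.Def_Transfer

/-!
# S4415, package PG (Part I of the paper), file 1: group theory

* the four-group frame (copied from `Setup.exists_q`, without the `Setup` structure);
* `Q ≤ ⁅Q, ⟨b⟩⁆`;
* coprime action of an element of order 3: `[H, b] ≤ [[H, b], b]`.
-/

set_option autoImplicit false
open Cfsg
open scoped commutatorElement

namespace Cfsg.Agent.Lib.Helper2.Cub

section Frame

variable {G : Type*} [Group G]

/-- The four-group frame. -/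
theorem pg_frame (Q : Subgroup G) [Finite Q] (b : G) (hb3 : b ^ 3 = 1) (hcard : Nat.card Q = 4)
    (hsq : ∀ q ∈ Q, q * q = 1) (hnorm : ∀ q ∈ Q, b * q * b⁻¹ ∈ Q)
    (hnc : ∃ q ∈ Q, b * q * b⁻¹ ≠ q) : ∃ q1 q2 q3 : G, q1 ∈ Q ∧ q2 ∈ Q ∧ q3 ∈ Q ∧
    (∀ q ∈ Q, q = 1 ∨ q = q1 ∨ q = q2 ∨ q = q3) ∧
    b * q1 * b⁻¹ = q2 ∧ b * q2 * b⁻¹ = q3 ∧ b * q3 * b⁻¹ = q1 ∧ q1 * q2 = q3 ∧ q2 * q1 = q3 ∧
    q1 * q1 = 1 ∧ q2 * q2 = 1 ∧ q3 * q3 = 1 ∧ q1 ≠ 1 ∧ q2 ≠ 1 ∧ q3 ≠ 1 ∧ q1 ≠ q2 ∧ q1 ≠ q3 ∧ q2 ≠ q3 := by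
  classical
  obtain ⟨q1, hq1, hne⟩ := hnc
  have hq2 : b * q1 * b⁻¹ ∈ Q := hnorm q1 hq1
  have hq3 : b * (b * q1 * b⁻¹) * b⁻¹ ∈ Q := hnorm _ hq2
  set q2 := b * q1 * b⁻¹ with hq2def
  set q3 := b * q2 * b⁻¹ with hq3def
  have hbinv : b⁻¹ = b * b := by
    have : b * b * b = 1 := by rw [← hb3, pow_succ, pow_two]
    calc b⁻¹ = b⁻¹ * (b * b * b) := by rw [this, mul_one]
      _ = b * b := by group
  have hc3 : b * q3 * b⁻¹ = q1 := by
    rw [hq3def, hq2def]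
    have : b * (b * (b * q1 * b⁻¹) * b⁻¹) * b⁻¹ = (b * b * b) * q1 * (b * b * b)⁻¹ := by group
    rw [this]
    have h3 : b * b * b = 1 := by rw [← hb3, pow_succ, pow_two]
    rw [h3]; group
  have hq1ne : q1 ≠ 1 := by
    intro h1
    apply hne
    rw [hq2def, h1]; group
  have h12 : q1 ≠ q2 := fun h12 => hne h12.symm
  have h23 : q2 ≠ q3 := by
    intro h23
    apply h12
    -- conjugate back by b⁻¹
    have : b⁻¹ * q2 * b = b⁻¹ * q3 * b := by rw [← h23]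
    rw [hq3def] at this
    have e1 : b⁻¹ * q2 * b = q1 := by rw [hq2def]; group
    have e2 : b⁻¹ * (b * q2 * b⁻¹) * b = q2 := by group
    rw [e1, e2] at this
    exact this
  have h13 : q1 ≠ q3 := by
    intro h13
    -- then b centralizes... q1 = b q3 b⁻¹ = b q1 b⁻¹ = q2
    apply h12
    calc q1 = b * q3 * b⁻¹ := hc3.symm
      _ = b * q1 * b⁻¹ := by rw [← h13]
      _ = q2 := rfl
  have hq2ne : q2 ≠ 1 := by
    intro h1
    apply hq1ne
    have : b⁻¹ * q2 * b = q1 := by rw [hq2def]; group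
    rw [← this, h1]; group
  have hq3ne : q3 ≠ 1 := by
    intro h1
    apply hq2ne
    have : b⁻¹ * q3 * b = q2 := by rw [hq3def]; group
    rw [← this, h1]; group
  -- Q = {1, q1, q2, q3}
  have hQall : ∀ q ∈ Q, q = 1 ∨ q = q1 ∨ q = q2 ∨ q = q3 := by
    intro q hq
    by_contra hcon
    push Not at hcon
    obtain ⟨n1, n2, n3, n4⟩ := hcon
    let _ : Fintype Q := Fintype.ofFinite Q
    have hcard : Fintype.card Q = 4 := by rw [← Nat.card_eq_fintype_card]; exact hcard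
    let s : Finset Q := {⟨1, Q.one_mem⟩, ⟨q1, hq1⟩, ⟨q2, hq2⟩, ⟨q3, hq3⟩, ⟨q, hq⟩}
    have hs : s.card = 5 := by
      rw [Finset.card_insert_of_notMem, Finset.card_insert_of_notMem, Finset.card_insert_of_notMem,
        Finset.card_insert_of_notMem, Finset.card_singleton]
      · simp only [Finset.mem_singleton, Subtype.mk.injEq]; exact fun e => n4 e.symm
      · simp only [Finset.mem_insert, Finset.mem_singleton, Subtype.mk.injEq]
        rintro (e | e)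
        · exact h23 e
        · exact n3 e.symm
      · simp only [Finset.mem_insert, Finset.mem_singleton, Subtype.mk.injEq]
        rintro (e | e | e)
        · exact h12 e
        · exact h13 e
        · exact n2 e.symm
      · simp only [Finset.mem_insert, Finset.mem_singleton, Subtype.mk.injEq]
        rintro (e | e | e | e)
        · exact hq1ne e.symm
        · exact hq2ne e.symm
        · exact hq3ne e.symm
        · exact n1 e.symm
    have := Finset.card_le_univ s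
    omega
  have hs1 := hsq q1 hq1
  have hs2 := hsq q2 hq2
  have hs3 := hsq q3 hq3
  have hprod : ∀ x ∈ Q, ∀ y ∈ Q, x * y = y * x := by
    intro x hx y hy
    have hxy := hsq (x * y) (Q.mul_mem hx hy)
    have hx2 := hsq x hx
    have hy2 := hsq y hy
    calc x * y = x * y * ((y * x) * (y * x))⁻¹ * ((y * x) * (y * x)) := by group
      _ = x * y * (y * x * (y * x))⁻¹ * (y * x) * (y * x) := by group
      _ = (x * (y * y) * x) * ((y * x) * (y * x))⁻¹⁻¹⁻¹ * (y * x) * (y * x) * (y * x)⁻¹ * (y*x)⁻¹ * (y * x) := by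
          group
      _ = y * x := by
          rw [hy2, mul_one, hx2, hsq (y * x) (Q.mul_mem hy hx)]
          group
  have hm12 : q1 * q2 = q3 := by
    rcases hQall (q1 * q2) (Q.mul_mem hq1 hq2) with e | e | e | e
    · exfalso
      apply h12
      calc q1 = q1 * (q2 * q2) := by rw [hs2, mul_one]
        _ = (q1 * q2) * q2 := by group
        _ = q2 := by rw [e, one_mul]
    · exfalso
      apply hq2ne
      calc q2 = q1⁻¹ * (q1 * q2) := by group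
        _ = 1 := by rw [e]; group
    · exfalso
      apply hq1ne
      calc q1 = (q1 * q2) * q2⁻¹ := by group
        _ = 1 := by rw [e]; group
    · exact e
  exact ⟨q1, q2, q3, hq1, hq2, hq3, hQall, rfl, rfl, hc3, hm12,
    by rw [← hprod q1 hq1 q2 hq2]; exact hm12, hs1, hs2, hs3, hq1ne, hq2ne, hq3ne, h12, h13, h23⟩



/-- `Q = [Q, b]` for a four-group on which `b` acts nontrivially. -/
theorem pg_Q_le_comm (Q : Subgroup G) [Finite Q] (b : G) (hb3 : b ^ 3 = 1) (hcard : Nat.card Q = 4)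
    (hsq : ∀ q ∈ Q, q * q = 1) (hnorm : ∀ q ∈ Q, b * q * b⁻¹ ∈ Q)
    (hnc : ∃ q ∈ Q, b * q * b⁻¹ ≠ q) : Q ≤ ⁅Q, Subgroup.zpowers b⁆ := by
  obtain ⟨q1, q2, q3, hq1, hq2, hq3, hall, c1, c2, c3, m12, m21, s1, s2, s3, -⟩ :=
    pg_frame Q b hb3 hcard hsq hnorm hnc
  have hbB : b ∈ Subgroup.zpowers b := Subgroup.mem_zpowers b
  have inv1 : q1⁻¹ = q1 := inv_eq_of_mul_eq_one_left s1
  have inv2 : q2⁻¹ = q2 := inv_eq_of_mul_eq_one_left s2
  have inv3 : q3⁻¹ = q3 := inv_eq_of_mul_eq_one_left s3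
  have e1 : ⁅q1, b⁆ = q3 := by
    rw [commutatorElement_def]
    calc q1 * b * q1⁻¹ * b⁻¹ = q1 * (b * q1 * b⁻¹)⁻¹ := by group
      _ = q3 := by rw [c1, inv2, m12]
  have e2 : ⁅q2, b⁆ = q1 := by
    rw [commutatorElement_def]
    calc q2 * b * q2⁻¹ * b⁻¹ = q2 * (b * q2 * b⁻¹)⁻¹ := by group
      _ = q2 * q3 := by rw [c2, inv3]
      _ = q2 * (q2 * q1) := by rw [m21]
      _ = (q2 * q2) * q1 := by group
      _ = q1 := by rw [s2, one_mul]
  have e3 : ⁅q3, b⁆ = q2 := by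
    rw [commutatorElement_def]
    calc q3 * b * q3⁻¹ * b⁻¹ = q3 * (b * q3 * b⁻¹)⁻¹ := by group
      _ = q3 * q1 := by rw [c3, inv1]
      _ = (q2 * q1) * q1 := by rw [m21]
      _ = q2 * (q1 * q1) := by group
      _ = q2 := by rw [s1, mul_one]
  intro q hq
  rcases hall q hq with h | h | h | h
  · rw [h]; exact Subgroup.one_mem _
  · rw [h, ← e2]; exact Subgroup.commutator_mem_commutator hq2 hbB
  · rw [h, ← e3]; exact Subgroup.commutator_mem_commutator hq3 hbB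
  · rw [h, ← e1]; exact Subgroup.commutator_mem_commutator hq1 hbB

end Frame

section Coprime

variable {G : Type*} [Group G]

/-- `[H, b]`, generated by the elements `x⁻¹ b⁻¹ x b`, `x ∈ H`. -/
def cb (H : Subgroup G) (b : G) : Subgroup G :=
  Subgroup.closure {g | ∃ x ∈ H, g = x⁻¹ * b⁻¹ * x * b}

theorem cb_gen_mem {H : Subgroup G} {b x : G} (hx : x ∈ H) : x⁻¹ * b⁻¹ * x * b ∈ cb H b :=
  Subgroup.subset_closure ⟨x, hx, rfl⟩

theorem cb_le_iff {H N : Subgroup G} {b : G} :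
    cb H b ≤ N ↔ ∀ x ∈ H, x⁻¹ * b⁻¹ * x * b ∈ N := by
  unfold cb
  rw [Subgroup.closure_le]
  constructor
  · intro h x hx
    exact h ⟨x, hx, rfl⟩
  · rintro h g ⟨x, hx, rfl⟩
    exact h x hx

theorem cb_le (H : Subgroup G) (b : G) (hinv : ∀ x ∈ H, b⁻¹ * x * b ∈ H) : cb H b ≤ H := by
  rw [cb_le_iff]
  intro x hx
  have : x⁻¹ * b⁻¹ * x * b = x⁻¹ * (b⁻¹ * x * b) := by group
  rw [this]
  exact H.mul_mem (H.inv_mem hx) (hinv x hx)

theorem cb_mono {H H' : Subgroup G} (h : H ≤ H') (b : G) : cb H b ≤ cb H' b := by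
  rw [cb_le_iff]
  intro x hx
  exact cb_gen_mem (h hx)

/-- `H` normalises `[H, b]` -/
theorem cb_conj_mem (H : Subgroup G) (b : G) {y : G} (hy : y ∈ H) :
    ∀ n ∈ cb H b, y⁻¹ * n * y ∈ cb H b := by
  have hle : cb H b ≤ (cb H b).comap (MulAut.conj y⁻¹).toMonoidHom := by
    rw [cb_le_iff]
    intro x hx
    rw [Subgroup.mem_comap]
    change y⁻¹ * (x⁻¹ * b⁻¹ * x * b) * y⁻¹⁻¹ ∈ cb H b
    have : y⁻¹ * (x⁻¹ * b⁻¹ * x * b) * y⁻¹⁻¹ =
        ((x * y)⁻¹ * b⁻¹ * (x * y) * b) * (y⁻¹ * b⁻¹ * y * b)⁻¹ := by group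
    rw [this]
    exact (cb H b).mul_mem (cb_gen_mem (H.mul_mem hx hy)) ((cb H b).inv_mem (cb_gen_mem hy))
  intro n hn
  have := hle hn
  rw [Subgroup.mem_comap] at this
  have h2 : (MulAut.conj y⁻¹).toMonoidHom n = y⁻¹ * n * y := by
    change y⁻¹ * n * y⁻¹⁻¹ = y⁻¹ * n * y
    rw [inv_inv]
  rwa [h2] at this

/-- `[H, b]` is invariant under conjugation by `b⁻¹` -/
theorem cb_b_conj_mem (H : Subgroup G) (b : G) (hinv : ∀ x ∈ H, b⁻¹ * x * b ∈ H) :
    ∀ n ∈ cb H b, b⁻¹ * n * b ∈ cb H b := by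
  have hle : cb H b ≤ (cb H b).comap (MulAut.conj b⁻¹).toMonoidHom := by
    rw [cb_le_iff]
    intro x hx
    rw [Subgroup.mem_comap]
    change b⁻¹ * (x⁻¹ * b⁻¹ * x * b) * b⁻¹⁻¹ ∈ cb H b
    have : b⁻¹ * (x⁻¹ * b⁻¹ * x * b) * b⁻¹⁻¹ =
        (b⁻¹ * x * b)⁻¹ * b⁻¹ * (b⁻¹ * x * b) * b := by group
    rw [this]
    exact cb_gen_mem (hinv x hx)
  intro n hn
  have := hle hn
  rw [Subgroup.mem_comap] at this
  have h2 : (MulAut.conj b⁻¹).toMonoidHom n = b⁻¹ * n * b := by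
    change b⁻¹ * n * b⁻¹⁻¹ = b⁻¹ * n * b
    rw [inv_inv]
  rwa [h2] at this

/-- coprime action of an element of order 3: `[H, b] ≤ [[H, b], b]` -/
theorem cb_le_cb_cb [Finite G] (H : Subgroup G) (b : G) (hb3 : b ^ 3 = 1)
    (hinv : ∀ x ∈ H, b⁻¹ * x * b ∈ H) (hcop : (Nat.card H).Coprime 3) :
    cb H b ≤ cb (cb H b) b := by
  classical
  set N := cb H b with hN
  have hNH : N ≤ H := cb_le H b hinv
  have h3 : b * b * b = 1 := by rw [← hb3, pow_succ, pow_two]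
  have h3' : b⁻¹ * b⁻¹ * b⁻¹ = 1 := by
    rw [← mul_inv_rev, ← mul_inv_rev, ← mul_assoc, h3, inv_one]
  rw [cb_le_iff]
  intro x hx
  -- the permutation of `N` induced by conjugation by `b` on the coset `x N`
  have hσmem : ∀ n : N, x⁻¹ * b⁻¹ * (x * n.1) * b ∈ N := by
    intro n
    have : x⁻¹ * b⁻¹ * (x * n.1) * b = (x⁻¹ * b⁻¹ * x * b) * (b⁻¹ * n.1 * b) := by group
    rw [this]
    exact N.mul_mem (cb_gen_mem hx) (cb_b_conj_mem H b hinv n.1 n.2)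
  let σ : Function.End N := fun n => ⟨x⁻¹ * b⁻¹ * (x * n.1) * b, hσmem n⟩
  have hσ3 : σ ^ 3 ^ 1 = 1 := by
    rw [pow_one]
    funext n
    rw [pow_succ, pow_succ, pow_one]
    apply Subtype.ext
    change x⁻¹ * b⁻¹ * (x * (x⁻¹ * b⁻¹ * (x * (x⁻¹ * b⁻¹ * (x * n.1) * b)) * b)) * b = n.1
    calc x⁻¹ * b⁻¹ * (x * (x⁻¹ * b⁻¹ * (x * (x⁻¹ * b⁻¹ * (x * n.1) * b)) * b)) * b
        = x⁻¹ * (b⁻¹ * b⁻¹ * b⁻¹) * x * n.1 * (b * b * b) := by group
      _ = n.1 := by rw [h3, h3']; group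
  have : Fintype N := Fintype.ofFinite N
  have : Fact (Nat.Prime 3) := ⟨Nat.prime_three⟩
  have hmod := Equiv.Perm.card_fixedPoints_modEq (f := σ) (p := 3) (n := 1) hσ3
  have hcardN : (Nat.card N).Coprime 3 :=
    Nat.Coprime.coprime_dvd_left (Subgroup.card_dvd_of_le hNH) hcop
  have hne : Nonempty (Function.fixedPoints σ) := by
    by_contra hcon
    rw [not_nonempty_iff] at hcon
    have h0 : Fintype.card (Function.fixedPoints σ) = 0 := Fintype.card_eq_zero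
    rw [h0, ← Nat.card_eq_fintype_card] at hmod
    have hdvd : 3 ∣ Nat.card N := (Nat.modEq_zero_iff_dvd).mp hmod
    have := Nat.Coprime.eq_one_of_dvd hcardN.symm hdvd
    omega
  obtain ⟨⟨n, hn⟩⟩ := hne
  have hfix : x⁻¹ * b⁻¹ * (x * n.1) * b = n.1 := congrArg Subtype.val hn
  -- `c = x n` commutes with `b`
  have hc : b⁻¹ * (x * n.1) * b = x * n.1 := by
    calc b⁻¹ * (x * n.1) * b = x * (x⁻¹ * b⁻¹ * (x * n.1) * b) := by group
      _ = x * n.1 := by rw [hfix]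
  have hc' : (x * n.1)⁻¹ * b⁻¹ * (x * n.1) = b⁻¹ := by
    calc (x * n.1)⁻¹ * b⁻¹ * (x * n.1) = (x * n.1)⁻¹ * (b⁻¹ * (x * n.1) * b) * b⁻¹ := by group
      _ = b⁻¹ := by rw [hc]; group
  have : x⁻¹ * b⁻¹ * x * b = (n.1⁻¹)⁻¹ * b⁻¹ * n.1⁻¹ * b := by
    calc x⁻¹ * b⁻¹ * x * b = n.1 * ((x * n.1)⁻¹ * b⁻¹ * (x * n.1)) * n.1⁻¹ * b := by group
      _ = n.1 * b⁻¹ * n.1⁻¹ * b := by rw [hc']
      _ = (n.1⁻¹)⁻¹ * b⁻¹ * n.1⁻¹ * b := by rw [inv_inv]
  rw [this]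
  exact cb_gen_mem (N.inv_mem n.2)


/-- the elements of `⟨b⟩` when `b ^ 3 = 1` -/
theorem mem_zpowers_of_cube {b c : G} (hb3 : b ^ 3 = 1) (hc : c ∈ Subgroup.zpowers b) :
    c = 1 ∨ c = b ∨ c = b⁻¹ := by
  obtain ⟨i, rfl⟩ := Subgroup.mem_zpowers_iff.mp hc
  have h3 : b * b * b = 1 := by rw [← hb3, pow_succ, pow_two]
  have hz3 : b ^ (3 : ℤ) = 1 := by
    have : b ^ (3 : ℤ) = b ^ (3 : ℕ) := by norm_cast
    rw [this, hb3]
  have hred : b ^ i = b ^ (i % 3) := by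
    conv_lhs => rw [← Int.emod_add_mul_ediv i 3]
    rw [zpow_add, zpow_mul, hz3, one_zpow, mul_one]
  have h0 : 0 ≤ i % 3 := Int.emod_nonneg i (by norm_num)
  have h1 : i % 3 < 3 := Int.emod_lt_of_pos i (by norm_num)
  rw [hred]
  generalize i % 3 = j at h0 h1
  interval_cases j
  · left; simp
  · right; left; simp
  · right; right
    have : b ^ (2 : ℤ) = b * b := by
      have : b ^ (2 : ℤ) = b ^ (2 : ℕ) := by norm_cast
      rw [this, pow_two]
    rw [this]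
    calc b * b = (b * b * b) * b⁻¹ := by group
      _ = b⁻¹ := by rw [h3, one_mul]

/-- the commutator subgroup `⁅K, ⟨b⟩⁆` equals `[K, b]` when `b ^ 3 = 1` and `b` normalises `K` -/
theorem comm_zpowers_eq_cb (K : Subgroup G) (b : G) (hb3 : b ^ 3 = 1)
    (hinv : ∀ x ∈ K, b⁻¹ * x * b ∈ K) : ⁅K, Subgroup.zpowers b⁆ = cb K b := by
  have h3 : b * b * b = 1 := by rw [← hb3, pow_succ, pow_two]
  apply le_antisymm
  · rw [Subgroup.commutator_le]
    intro k hk c hc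
    have hgen : k * b⁻¹ * k⁻¹ * b ∈ cb K b := by
      have := cb_gen_mem (b := b) (K.inv_mem hk)
      rwa [inv_inv] at this
    rcases mem_zpowers_of_cube hb3 hc with h | h | h
    · rw [h, commutatorElement_def]
      have : k * 1 * k⁻¹ * (1 : G)⁻¹ = 1 := by group
      rw [this]; exact Subgroup.one_mem _
    · rw [h, commutatorElement_def]
      -- k b k⁻¹ b⁻¹ = b⁻¹ (b⁻¹ (k b⁻¹ k⁻¹ b)⁻¹ b) b
      have h1 := (cb K b).inv_mem hgen
      have h2 := cb_b_conj_mem K b hinv _ (cb_b_conj_mem K b hinv _ h1)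
      have h3' : b⁻¹ * b⁻¹ * b⁻¹ = 1 := by
        rw [← mul_inv_rev, ← mul_inv_rev, ← mul_assoc, h3, inv_one]
      have hbb : b * b = b⁻¹ := by
        calc b * b = (b * b * b) * b⁻¹ := by group
          _ = b⁻¹ := by rw [h3, one_mul]
      have : k * b * k⁻¹ * b⁻¹ = b⁻¹ * (b⁻¹ * (k * b⁻¹ * k⁻¹ * b)⁻¹ * b) * b := by
        calc k * b * k⁻¹ * b⁻¹ = (b⁻¹ * b⁻¹ * b⁻¹) * (k * b * k⁻¹) * (b * b) := by
              rw [h3', hbb]; group
          _ = b⁻¹ * (b⁻¹ * (k * b⁻¹ * k⁻¹ * b)⁻¹ * b) * b := by group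
      rw [this]; exact h2
    · rw [h, commutatorElement_def, inv_inv]; exact hgen
  · rw [cb_le_iff]
    intro x hx
    have := Subgroup.commutator_mem_commutator (K.inv_mem hx)
      (Subgroup.inv_mem _ (Subgroup.mem_zpowers b))
    rwa [commutatorElement_def, inv_inv, inv_inv] at this

end Coprime

end Cfsg.Agent.Lib.Helper2.Cub
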