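import Mathlib
import Cfsg.Agent.Lib.Helper2.CubA

/-!
# S4415, package PG (Part I of the paper), file 2: linear algebra on `E`

Standalone versions (without the `Setup` structure) of `Setup.range_N` and `Setup.triv_or_triv`
(copied from `CubA.lean`), and the bound `|im N| ≤ 9` on `E`.
-/

set_option autoImplicit false
open Cfsg

namespace Cfsg.Agent.Lib.Helper2.Cub

variable {G : Type*} [Group G] {W : Type*} [AddCommGroup W] [Module (ZMod 3) W]

/-- `im N` is spanned by `N v, N² v` whenever `N² v ≠ 0`. -/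
theorem pg_range_N [Finite W] (ρ : Representation (ZMod 3) G W) (b : G) (hb3 : b ^ 3 = 1)
    (himN : Nat.card (LinearMap.range (nOp ρ b)) ≤ 9) {v : W}
    (hv : nOp ρ b (nOp ρ b v) ≠ 0) (w : W) :
    ∃ α β : ZMod 3, nOp ρ b w = α • nOp ρ b v + β • nOp ρ b (nOp ρ b v) := by
  classical
  let f : ZMod 3 × ZMod 3 → LinearMap.range (nOp ρ b) := fun p =>
    ⟨p.1 • nOp ρ b v + p.2 • nOp ρ b (nOp ρ b v), by
      refine ⟨p.1 • v + p.2 • nOp ρ b v, ?_⟩
      simp only [map_add, map_smul]⟩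
  have hinj : Function.Injective f := by
    intro p p' hpp
    have h1 : p.1 • nOp ρ b v + p.2 • nOp ρ b (nOp ρ b v)
        = p'.1 • nOp ρ b v + p'.2 • nOp ρ b (nOp ρ b v) := congrArg Subtype.val hpp
    have h2 : (p.1 - p'.1) • nOp ρ b v + (p.2 - p'.2) • nOp ρ b (nOp ρ b v) = 0 := by
      rw [sub_smul, sub_smul]
      calc p.1 • nOp ρ b v - p'.1 • nOp ρ b v + (p.2 • nOp ρ b (nOp ρ b v) - p'.2 • nOp ρ b (nOp ρ b v))
          = (p.1 • nOp ρ b v + p.2 • nOp ρ b (nOp ρ b v))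
            - (p'.1 • nOp ρ b v + p'.2 • nOp ρ b (nOp ρ b v)) := by abel
        _ = 0 := by rw [h1, sub_self]
    have h3 := congrArg (nOp ρ b) h2
    simp only [map_add, map_smul, map_zero, nOp_cube ρ hb3, smul_zero, add_zero] at h3
    have h4 : p.1 - p'.1 = 0 := (smul_eq_zero.mp h3).resolve_right hv
    rw [h4, zero_smul, zero_add] at h2
    have h5 : p.2 - p'.2 = 0 := (smul_eq_zero.mp h2).resolve_right hv
    exact Prod.ext (sub_eq_zero.mp h4) (sub_eq_zero.mp h5)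
  have hcard : Nat.card (LinearMap.range (nOp ρ b)) ≤ Nat.card (ZMod 3 × ZMod 3) := by
    have : Nat.card (ZMod 3 × ZMod 3) = 9 := by
      rw [Nat.card_prod, Nat.card_eq_fintype_card, ZMod.card]
    rw [this]; exact himN
  have hbij := hinj.bijective_of_nat_card_le hcard
  obtain ⟨p, hp⟩ := hbij.2 ⟨nOp ρ b w, w, rfl⟩
  exact ⟨p.1, p.2, (congrArg Subtype.val hp).symm⟩

/-- (B0): `b` is trivial on one of two complementary `b`-invariant subspaces. -/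
theorem pg_triv_or_triv [Finite W] (ρ : Representation (ZMod 3) G W) (b : G) (hb3 : b ^ 3 = 1)
    (himN : Nat.card (LinearMap.range (nOp ρ b)) ≤ 9)
    (hN2 : ∃ v, nOp ρ b (nOp ρ b v) ≠ 0)
    (W1 W2 : Submodule (ZMod 3) W) (hdisj : W1 ⊓ W2 = ⊥)
    (hsup : W1 ⊔ W2 = ⊤) (h1 : ∀ v ∈ W1, ρ b v ∈ W1) (h2 : ∀ v ∈ W2, ρ b v ∈ W2) :
    (∀ v ∈ W1, ρ b v = v) ∨ (∀ v ∈ W2, ρ b v = v) := by
  obtain ⟨v, hv⟩ := hN2
  have hvmem : v ∈ W1 ⊔ W2 := by rw [hsup]; trivial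
  obtain ⟨v1, hv1, v2, hv2, rfl⟩ := Submodule.mem_sup.mp hvmem
  have hN1 : ∀ u ∈ W1, nOp ρ b u ∈ W1 := fun u hu => by
    rw [nOp_apply]; exact W1.sub_mem (h1 u hu) hu
  have hN2 : ∀ u ∈ W2, nOp ρ b u ∈ W2 := fun u hu => by
    rw [nOp_apply]; exact W2.sub_mem (h2 u hu) hu
  have key : ∀ (A B : Submodule (ZMod 3) W), A ⊓ B = ⊥ → (∀ u ∈ A, nOp ρ b u ∈ A) →
      (∀ u ∈ B, nOp ρ b u ∈ B) → ∀ a ∈ A, nOp ρ b (nOp ρ b a) ≠ 0 → ∀ u ∈ B, ρ b u = u := by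
    intro A B hAB hA hB a ha hne u hu
    obtain ⟨α, β, hαβ⟩ := pg_range_N ρ b hb3 himN hne u
    have hmemA : nOp ρ b u ∈ A := by
      rw [hαβ]
      exact A.add_mem (A.smul_mem _ (hA a ha)) (A.smul_mem _ (hA _ (hA a ha)))
    have hmem : nOp ρ b u ∈ A ⊓ B := ⟨hmemA, hB u hu⟩
    rw [hAB, Submodule.mem_bot, nOp_apply, sub_eq_zero] at hmem
    exact hmem
  by_cases hc : nOp ρ b (nOp ρ b v1) = 0
  · left
    have hne2 : nOp ρ b (nOp ρ b v2) ≠ 0 := by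
      intro h0
      apply hv
      rw [map_add, map_add, hc, h0, add_zero]
    exact key W2 W1 (by rw [inf_comm]; exact hdisj) hN2 hN1 v2 hv2 hne2
  · right
    exact key W1 W2 hdisj hN1 hN2 v1 hv1 hc

/-- (I.3): `|im N| ≤ 9` on `E`. -/
theorem pg_imN [Finite W] (ρ : Representation (ZMod 3) G W) (b : G) (hb3 : b ^ 3 = 1)
    (E₀ E₁ : Submodule (ZMod 3) W) (hE01' : E₀ ⊔ E₁ = ⊤)
    (hE1 : ∀ v ∈ E₁, ρ b v = v) (hE0inv : ∀ v ∈ E₀, ρ b v ∈ E₀) (hE0 : Nat.card E₀ = 27)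
    (hind : ∃ v ∈ E₀, nOp ρ b (nOp ρ b v) ≠ 0) :
    Nat.card (LinearMap.range (nOp ρ b)) ≤ 9 := by
  classical
  obtain ⟨v, hvE, hv⟩ := hind
  have hNE0 : ∀ u ∈ E₀, nOp ρ b u ∈ E₀ := fun u hu => by
    rw [nOp_apply]; exact E₀.sub_mem (hE0inv u hu) hu
  set u := nOp ρ b (nOp ρ b v) with hu
  have huE : u ∈ E₀ := hNE0 _ (hNE0 _ hvE)
  have hNu : nOp ρ b u = 0 := nOp_cube ρ hb3 v
  -- every element of the range comes from `E₀`
  have hpre : ∀ y : LinearMap.range (nOp ρ b), ∃ e : E₀, nOp ρ b e.1 = y.1 := by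
    rintro ⟨y, w, rfl⟩
    have hw : w ∈ E₀ ⊔ E₁ := by rw [hE01']; trivial
    obtain ⟨e0, he0, e1, he1, rfl⟩ := Submodule.mem_sup.mp hw
    refine ⟨⟨e0, he0⟩, ?_⟩
    have : nOp ρ b e1 = 0 := by rw [nOp_apply, hE1 e1 he1, sub_self]
    change nOp ρ b e0 = nOp ρ b (e0 + e1)
    rw [map_add, this, add_zero]
  choose s hs using hpre
  let g : LinearMap.range (nOp ρ b) × ZMod 3 → E₀ := fun p =>
    ⟨(s p.1).1 + p.2 • u, E₀.add_mem (s p.1).2 (E₀.smul_mem _ huE)⟩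
  have hg : Function.Injective g := by
    rintro ⟨y, j⟩ ⟨y', j'⟩ hyy
    have h1 : (s y).1 + j • u = (s y').1 + j' • u := congrArg Subtype.val hyy
    have h2 := congrArg (nOp ρ b) h1
    simp only [map_add, map_smul, hNu, smul_zero, add_zero, hs] at h2
    have hy : y = y' := Subtype.ext h2
    subst hy
    have h3 : (j - j') • u = 0 := by
      rw [sub_smul]
      have : j • u = j' • u := add_left_cancel h1
      rw [this, sub_self]
    have h4 : j - j' = 0 := (smul_eq_zero.mp h3).resolve_right hv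
    rw [sub_eq_zero.mp h4]
  have hle := Nat.card_le_card_of_injective g hg
  rw [Nat.card_prod, hE0, Nat.card_eq_fintype_card (α := ZMod 3), ZMod.card] at hle
  omega

end Cfsg.Agent.Lib.Helper2.Cub
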