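import Mathlib
import Cfsg.Agent.Lib.Lead.UniqueOrderP5
import Cfsg.Agent.Lib.Helper1.Conj

set_option autoImplicit false

namespace Cfsg.Agent.Lib.Helper1

open Matrix

variable {F : Type*} [Field F]

/-- In `SL_2(F)`, `char F ≠ 2`, the only elements with `A² = 1` are `±1`. -/
theorem sl2_mul_self_eq_one (h2 : (2 : F) ≠ 0) (A : SpecialLinearGroup (Fin 2) F)
    (hA : A * A = 1) : A = 1 ∨ A = -1 := by
  have hinv : A⁻¹ = A := inv_eq_of_mul_eq_one_left hA
  have h1 : (A : Matrix (Fin 2) (Fin 2) F) = adjugate (A : Matrix (Fin 2) (Fin 2) F) := by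
    conv_lhs => rw [← hinv]
    exact Matrix.SpecialLinearGroup.coe_inv A
  rw [Matrix.adjugate_fin_two] at h1
  have h00 : A.1 0 0 = A.1 1 1 := by
    have := congrFun (congrFun h1 0) 0
    simpa using this
  have h01 : A.1 0 1 = 0 := by
    have := congrFun (congrFun h1 0) 1
    have h' : A.1 0 1 = - A.1 0 1 := by simpa using this
    have : (2 : F) * A.1 0 1 = 0 := by linear_combination h'
    exact (mul_eq_zero.1 this).resolve_left h2
  have h10 : A.1 1 0 = 0 := by
    have := congrFun (congrFun h1 1) 0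
    have h' : A.1 1 0 = - A.1 1 0 := by simpa using this
    have : (2 : F) * A.1 1 0 = 0 := by linear_combination h'
    exact (mul_eq_zero.1 this).resolve_left h2
  have hdet := A.2
  rw [Matrix.det_fin_two, h01, h10, ← h00] at hdet
  have hsq : (A.1 0 0 - 1) * (A.1 0 0 + 1) = 0 := by linear_combination hdet
  rcases mul_eq_zero.1 hsq with h | h
  · left
    ext i j
    fin_cases i <;> fin_cases j
    · simpa using sub_eq_zero.1 h
    · simpa using h01
    · simpa using h10
    · have : A.1 1 1 = 1 := by rw [← h00]; exact sub_eq_zero.1 h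
      simpa using this
  · right
    have ha : A.1 0 0 = -1 := by linear_combination h
    ext i j
    fin_cases i <;> fin_cases j
    · simpa using ha
    · simpa using h01
    · simpa using h10
    · have : A.1 1 1 = -1 := by rw [← h00]; exact ha
      simpa using this

end Cfsg.Agent.Lib.Helper1

namespace Cfsg.Agent.Lib.Helper1

open Matrix

variable {F : Type*} [Field F]

/-- In a finite field of odd characteristic, `SL_2` contains two anticommuting square roots
of `-1`. -/
theorem exists_quat_pair [Finite F] :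
    ∃ x y : SpecialLinearGroup (Fin 2) F, x * x = -1 ∧ y * y = -1 ∧ x * y = -(y * x) := by
  have hp : NeZero (ringChar F) := ⟨CharP.char_ne_zero_of_finite F (ringChar F)⟩
  obtain ⟨a, b, hab⟩ := CharP.sq_add_sq F (ringChar F) (-1)
  have hab' : (a : F) ^ 2 + (b : F) ^ 2 = -1 := by simpa using hab
  obtain ⟨x, hxv⟩ : ∃ x : SpecialLinearGroup (Fin 2) F,
      (x : Matrix (Fin 2) (Fin 2) F) = !![0, -1; 1, 0] :=
    ⟨⟨!![0, -1; 1, 0], by simp [Matrix.det_fin_two]⟩, rfl⟩
  obtain ⟨y, hyv⟩ : ∃ y : SpecialLinearGroup (Fin 2) F,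
      (y : Matrix (Fin 2) (Fin 2) F) = !![(a : F), (b : F); (b : F), -(a : F)] :=
    ⟨⟨!![(a : F), (b : F); (b : F), -(a : F)], by
      rw [Matrix.det_fin_two]; simp only [Matrix.of_apply, Matrix.cons_val', Matrix.cons_val_zero,
        Matrix.cons_val_one, Matrix.cons_val_fin_one]; linear_combination -hab'⟩, rfl⟩
  refine ⟨x, y, ?_, ?_, ?_⟩
  · ext i j
    simp only [Matrix.SpecialLinearGroup.coe_mul, Matrix.SpecialLinearGroup.coe_neg,
      Matrix.SpecialLinearGroup.coe_one,
      hxv, Matrix.mul_fin_two, Matrix.one_fin_two]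
    fin_cases i <;> fin_cases j <;> simp
  · ext i j
    simp only [Matrix.SpecialLinearGroup.coe_mul, Matrix.SpecialLinearGroup.coe_neg,
      Matrix.SpecialLinearGroup.coe_one,
      hyv, Matrix.mul_fin_two, Matrix.one_fin_two]
    fin_cases i <;> fin_cases j <;> simp
    · linear_combination hab'
    · ring
    · ring
    · linear_combination hab'
  · ext i j
    simp only [Matrix.SpecialLinearGroup.coe_mul, Matrix.SpecialLinearGroup.coe_neg,
      Matrix.SpecialLinearGroup.coe_one,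
      hxv, hyv, Matrix.mul_fin_two, Matrix.one_fin_two]
    fin_cases i <;> fin_cases j <;> simp

end Cfsg.Agent.Lib.Helper1

namespace Cfsg.Agent.Lib.Helper1

open Matrix

variable {F : Type*} [Field F]

theorem sl2_neg_one_ne_one (h2 : (2 : F) ≠ 0) : (-1 : SpecialLinearGroup (Fin 2) F) ≠ 1 := by
  intro h
  have h1 := congrArg (fun A : SpecialLinearGroup (Fin 2) F => (A : Matrix (Fin 2) (Fin 2) F) 0 0) h
  simp only [Matrix.SpecialLinearGroup.coe_neg, Matrix.SpecialLinearGroup.coe_one, Matrix.neg_apply,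
    Matrix.one_apply_eq] at h1
  apply h2
  linear_combination -h1

/-- A non-commutative `2`-subgroup of `SL_2(q)`, `q` odd. -/
theorem exists_noncomm_two_subgroup [Finite F] (h2 : (2 : F) ≠ 0) :
    ∃ H : Subgroup (SpecialLinearGroup (Fin 2) F), IsPGroup 2 H ∧
      ∃ x ∈ H, ∃ y ∈ H, x * y ≠ y * x := by
  obtain ⟨x, y, hx, hy, hxy⟩ := exists_quat_pair (F := F)
  have hx4 : x ^ 4 = 1 := by
    rw [show (4 : ℕ) = 2 * 2 from rfl, pow_mul, pow_two x, hx]; simp
  have hy4 : y ^ 4 = 1 := by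
    rw [show (4 : ℕ) = 2 * 2 from rfl, pow_mul, pow_two y, hy]; simp
  have hP : ∀ z : SpecialLinearGroup (Fin 2) F, z ^ 4 = 1 → IsPGroup 2 (Subgroup.zpowers z) := by
    intro z hz ⟨g, hg⟩
    refine ⟨2, Subtype.ext ?_⟩
    obtain ⟨k, rfl⟩ := Subgroup.mem_zpowers_iff.1 hg
    change (z ^ k) ^ (2 ^ 2) = 1
    rw [show (2 : ℕ) ^ 2 = 4 from rfl, ← zpow_natCast, ← _root_.zpow_mul, mul_comm, _root_.zpow_mul, zpow_natCast, hz,
      _root_.one_zpow]
  have hxinv : x⁻¹ = -x := by
    apply inv_eq_of_mul_eq_one_right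
    rw [mul_neg, hx, neg_neg]
  have hconj : y * x * y⁻¹ = x⁻¹ := by
    rw [hxinv, mul_inv_eq_iff_eq_mul, neg_mul, hxy, neg_neg]
  have hnorm : Subgroup.zpowers y ≤ Subgroup.normalizer ((Subgroup.zpowers x : Subgroup _) : Set _) := by
    rw [Subgroup.zpowers_le]
    apply mem_normalizer_of_cj_eq
    unfold cj
    rw [MonoidHom.map_zpowers]
    change Subgroup.zpowers (y * x * y⁻¹) = _
    rw [hconj, Subgroup.zpowers_inv]
  refine ⟨Subgroup.zpowers y ⊔ Subgroup.zpowers x,
    IsPGroup.to_sup_of_normal_right' (hP y hy4) (hP x hx4) hnorm,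
    x, Subgroup.mem_sup_right (Subgroup.mem_zpowers x),
    y, Subgroup.mem_sup_left (Subgroup.mem_zpowers y), ?_⟩
  intro h
  rw [hxy] at h
  have h3 : (-1 : SpecialLinearGroup (Fin 2) F) = 1 := by
    have : -(y * x) * (y * x)⁻¹ = (y * x) * (y * x)⁻¹ := by rw [h]
    rw [mul_inv_cancel, neg_mul, mul_inv_cancel] at this
    exact this
  exact sl2_neg_one_ne_one h2 h3

end Cfsg.Agent.Lib.Helper1

namespace Cfsg.Agent.Lib.Helper1

open Matrix Cfsg.Agent.Lib.Lead

variable {F : Type*} [Field F]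

theorem two_ne_zero_of_odd_card [Fintype F] (hF : Odd (Fintype.card F)) : (2 : F) ≠ 0 := by
  intro h
  have h1 : ringChar F = 2 := CharP.ringChar_of_prime_eq_zero Nat.prime_two (by exact_mod_cast h)
  have h2 := (FiniteField.even_card_iff_char_two (F := F)).1 h1
  rcases hF with ⟨k, hk⟩
  omega

/-- Subgroups of order `2` in a subgroup of `SL_2(F)`, `char F ≠ 2`, are all equal. -/
theorem uniqueOrderP_two_of_le_SL2 (h2 : (2 : F) ≠ 0) (P : Subgroup (SpecialLinearGroup (Fin 2) F)) :
    UniqueOrderP 2 P := by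
  have key : ∀ H : Subgroup P, Nat.card H = 2 → ∀ g : P, g ∈ H ↔ (g = 1 ∨ (g : SpecialLinearGroup (Fin 2) F) = -1) := by
    intro H hH
    have hfin : Finite H := Nat.finite_of_card_ne_zero (by omega)
    have hsq : ∀ g : P, g ∈ H → g = 1 ∨ (g : SpecialLinearGroup (Fin 2) F) = -1 := by
      intro g hg
      have h1 : (⟨g, hg⟩ : H) ^ 2 = 1 := by
        have h0 : (⟨g, hg⟩ : H) ^ Nat.card H = 1 := pow_card_eq_one'
        rwa [hH] at h0
      have h3 : (g : SpecialLinearGroup (Fin 2) F) * g = 1 := by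
        have h4 := congrArg (fun z : H => ((z : P) : SpecialLinearGroup (Fin 2) F)) h1
        simpa [pow_two] using h4
      rcases sl2_mul_self_eq_one h2 _ h3 with h5 | h5
      · left; exact Subtype.ext h5
      · right; exact h5
    obtain ⟨h, hh, hne⟩ : ∃ h : P, h ∈ H ∧ h ≠ 1 := by
      have hnb : H ≠ ⊥ := by
        intro hb
        rw [hb, Subgroup.card_bot] at hH
        omega
      obtain ⟨h, hne⟩ := (Subgroup.ne_bot_iff_exists_ne_one).1 hnb
      exact ⟨h.1, h.2, fun h0 => hne (Subtype.ext h0)⟩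
    have hh1 : (h : SpecialLinearGroup (Fin 2) F) = -1 := (hsq h hh).resolve_left hne
    intro g
    constructor
    · exact hsq g
    · rintro (rfl | hg)
      · exact H.one_mem
      · have : g = h := Subtype.ext (hg.trans hh1.symm)
        rw [this]; exact hh
  intro H K hH hK
  ext g
  rw [key H hH, key K hK]

/-- For `q` odd, the Sylow `2`-subgroups of `SL_2(q)` are generalised quaternion. -/
theorem sylow_two_SL2_quaternion [Fintype F] (hF : Odd (Fintype.card F))
    (P : Sylow 2 (SpecialLinearGroup (Fin 2) F)) :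
    ∃ k : ℕ, 1 ≤ k ∧ Nonempty ((P : Subgroup (SpecialLinearGroup (Fin 2) F)) ≃* QuaternionGroup (2 ^ k)) := by
  have : Fact (Nat.Prime 2) := ⟨Nat.prime_two⟩
  have h2 := two_ne_zero_of_odd_card hF
  -- P is not commutative
  obtain ⟨H, hH, x, hx, y, hy, hxy⟩ := exists_noncomm_two_subgroup (F := F) h2
  obtain ⟨g, hg⟩ := exists_cj_le_sylow_top P H hH
  have hx' : g⁻¹ * x * g ∈ (P : Subgroup (SpecialLinearGroup (Fin 2) F)) := by
    apply hg; rw [mem_cj, inv_inv]
    have : g * (g⁻¹ * x * g) * g⁻¹ = x := by group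
    rw [this]; exact hx
  have hy' : g⁻¹ * y * g ∈ (P : Subgroup (SpecialLinearGroup (Fin 2) F)) := by
    apply hg; rw [mem_cj, inv_inv]
    have : g * (g⁻¹ * y * g) * g⁻¹ = y := by group
    rw [this]; exact hy
  have hnc : ¬ ∀ a b : (P : Subgroup (SpecialLinearGroup (Fin 2) F)), a * b = b * a := by
    intro hc
    have h1 := congrArg Subtype.val (hc ⟨_, hx'⟩ ⟨_, hy'⟩)
    simp only [Subgroup.coe_mul] at h1
    apply hxy
    have h3 : g⁻¹ * (x * y) * g = g⁻¹ * (y * x) * g := by
      calc g⁻¹ * (x * y) * g = (g⁻¹ * x * g) * (g⁻¹ * y * g) := by group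
        _ = (g⁻¹ * y * g) * (g⁻¹ * x * g) := h1
        _ = g⁻¹ * (y * x) * g := by group
    exact mul_left_cancel (mul_right_cancel h3)
  rcases UniqueOrderP.main P.isPGroup' (uniqueOrderP_two_of_le_SL2 h2 (P : Subgroup _)) with hc | ⟨-, n, ⟨e⟩⟩
  · exfalso
    apply hnc
    intro a b
    obtain ⟨c, hc'⟩ := hc.exists_generator
    obtain ⟨i, rfl⟩ := Subgroup.mem_zpowers_iff.1 (hc' a)
    obtain ⟨j, rfl⟩ := Subgroup.mem_zpowers_iff.1 (hc' b)
    exact (Commute.zpow_zpow_self c i j).eq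
  · refine ⟨n, ?_, ⟨e⟩⟩
    by_contra hn
    have hn0 : n = 0 := by omega
    subst hn0
    apply hnc
    have hcard : Nat.card (QuaternionGroup (2 ^ 0)) = 2 ^ 2 := by
      rw [Nat.card_eq_fintype_card, QuaternionGroup.card]; norm_num
    have hcard' : Nat.card (P : Subgroup (SpecialLinearGroup (Fin 2) F)) = 2 ^ 2 := by
      rw [Nat.card_congr e.toEquiv, hcard]
    exact (IsPGroup.isMulCommutative_of_card_eq_prime_sq hcard').is_comm.comm

end Cfsg.Agent.Lib.Helper1
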