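import Mathlib
import Cfsg.Prelude.Def_Transfer
import Cfsg.Prelude.Def_Solvable
import Cfsg.Agent.Lib.Helper1.CubPG1
import Cfsg.Agent.Lib.Helper1.CubPG2
import Cfsg.Agent.Lib.Helper1.CubF6
import Cfsg.Agent.Lib.Helper8.CubF4
import Cfsg.Agent.Lib.Helper6.PPrimeCore

/-!
# S4415, package PG (Part I of the paper), file 3: the group-theoretic data `R = [K, B]`
-/

set_option autoImplicit false
open Cfsg
open scoped commutatorElement

namespace Cfsg.Agent.Lib.Helper2.Cub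

section GroupData

variable {S : Type*} [Group S] [Finite S] [Group.IsSolvable S]

/-- (I.1), (I.2): the facts about `R = [O_{3'}(S), ⟨b⟩]`. -/
theorem pg_group_data (b : S) (hB : Nat.card (Subgroup.zpowers b) = 3)
    (Q : Subgroup S) (hQ : Cfsg.IsElementaryAbelian 2 Q) (hQ4 : Nat.card Q = 4)
    (hBQ : Subgroup.zpowers b ≤ Subgroup.normalizer (Q : Set S))
    (hBQ' : ¬ Subgroup.zpowers b ≤ Subgroup.centralizer (Q : Set S))
    (P : Sylow 3 S)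
    (hBZ : (Subgroup.center (P : Subgroup S)).map (P : Subgroup S).subtype = Subgroup.zpowers b) :
    b ^ 3 = 1 ∧
    (∀ q ∈ Q, q * q = 1) ∧ (∀ q ∈ Q, b * q * b⁻¹ ∈ Q) ∧ (∃ q ∈ Q, b * q * b⁻¹ ≠ q) ∧
    Q ≤ ⁅Cfsg.pPrimeCore 3 S, Subgroup.zpowers b⁆ ∧
    (∀ r ∈ ⁅Cfsg.pPrimeCore 3 S, Subgroup.zpowers b⁆,
      b⁻¹ * r * b ∈ ⁅Cfsg.pPrimeCore 3 S, Subgroup.zpowers b⁆) ∧
    (∀ r ∈ ⁅Cfsg.pPrimeCore 3 S, Subgroup.zpowers b⁆,
      b * r * b⁻¹ ∈ ⁅Cfsg.pPrimeCore 3 S, Subgroup.zpowers b⁆) ∧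
    (Nat.card ↥⁅Cfsg.pPrimeCore 3 S, Subgroup.zpowers b⁆).Coprime 3 ∧
    ⁅Cfsg.pPrimeCore 3 S, Subgroup.zpowers b⁆ ≤
      cb ⁅Cfsg.pPrimeCore 3 S, Subgroup.zpowers b⁆ b := by
  have hb3 : b ^ 3 = 1 := by
    rw [Nat.card_zpowers] at hB
    rw [← hB]; exact pow_orderOf_eq_one b
  have h3 : b * b * b = 1 := by rw [← hb3, pow_succ, pow_two]
  have hbinv : b⁻¹ = b * b := by
    calc b⁻¹ = b⁻¹ * (b * b * b) := by rw [h3, mul_one]
      _ = b * b := by group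
  have hbB : b ∈ Subgroup.zpowers b := Subgroup.mem_zpowers b
  have hsq : ∀ q ∈ Q, q * q = 1 := by
    intro q hq
    have := hQ.2 q hq
    rwa [pow_two] at this
  have hnorm : ∀ q ∈ Q, b * q * b⁻¹ ∈ Q := by
    intro q hq
    exact (Subgroup.mem_normalizer_iff.mp (hBQ hbB) q).mp hq
  have hnc : ∃ q ∈ Q, b * q * b⁻¹ ≠ q := by
    by_contra hcon
    push Not at hcon
    apply hBQ'
    rw [Subgroup.zpowers_le, Subgroup.mem_centralizer_iff]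
    intro q hq
    have := hcon q hq
    calc q * b = (b * q * b⁻¹) * b := by rw [this]
      _ = b * q := by group
  -- Q ≤ K
  have hKn : (Cfsg.pPrimeCore 3 S).Normal := Subgroup.sSup_normal _ (fun _ hH => hH.1)
  have hbcen : b ∈ (Subgroup.center (P : Subgroup S)).map (P : Subgroup S).subtype := by
    rw [hBZ]; exact hbB
  obtain ⟨c, hc, hcb⟩ := Subgroup.mem_map.mp hbcen
  have hbP : b ∈ (P : Subgroup S) := by rw [← hcb]; exact c.2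
  have hbZ : ∀ x ∈ (P : Subgroup S), x * b = b * x := by
    intro x hx
    have := (Subgroup.mem_center_iff.mp hc) ⟨x, hx⟩
    have h2 := congrArg (fun y : (P : Subgroup S) => (y : S)) this
    rw [← hcb]
    exact h2
  have hQ2 : IsPGroup 2 Q := IsPGroup.of_card (n := 2) (by rw [hQ4]; norm_num)
  have hQcomm : Q ≤ ⁅Q, Subgroup.zpowers b⁆ := pg_Q_le_comm Q b hb3 hQ4 hsq hnorm hnc
  have hQK : Q ≤ Cfsg.pPrimeCore 3 S := f4_le_pPrimeCore P b hbP hbZ Q hQ2 hnorm hQcomm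
  have hQR : Q ≤ ⁅Cfsg.pPrimeCore 3 S, Subgroup.zpowers b⁆ :=
    le_trans hQcomm (Subgroup.commutator_mono hQK le_rfl)
  -- K is b-invariant
  have hKinv : ∀ x ∈ Cfsg.pPrimeCore 3 S, b⁻¹ * x * b ∈ Cfsg.pPrimeCore 3 S := by
    intro x hx
    have := hKn.conj_mem x hx b⁻¹
    rwa [inv_inv] at this
  have hRcb := comm_zpowers_eq_cb (Cfsg.pPrimeCore 3 S) b hb3 hKinv
  have hRK : ⁅Cfsg.pPrimeCore 3 S, Subgroup.zpowers b⁆ ≤ Cfsg.pPrimeCore 3 S :=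
    Subgroup.commutator_le_left _ _
  have hRinv : ∀ r ∈ ⁅Cfsg.pPrimeCore 3 S, Subgroup.zpowers b⁆,
      b⁻¹ * r * b ∈ ⁅Cfsg.pPrimeCore 3 S, Subgroup.zpowers b⁆ := by
    rw [hRcb]
    exact cb_b_conj_mem _ b hKinv
  have hRinv' : ∀ r ∈ ⁅Cfsg.pPrimeCore 3 S, Subgroup.zpowers b⁆,
      b * r * b⁻¹ ∈ ⁅Cfsg.pPrimeCore 3 S, Subgroup.zpowers b⁆ := by
    intro r hr
    have h1 := hRinv _ (hRinv r hr)
    have : b * r * b⁻¹ = b⁻¹ * (b⁻¹ * r * b) * b := by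
      calc b * r * b⁻¹ = (b * b * b)⁻¹ * (b * r * b⁻¹) * (b * b * b) := by rw [h3]; group
        _ = b⁻¹ * (b⁻¹ * r * b) * b := by group
    rw [this]; exact h1
  have hKcop : (Nat.card (Cfsg.pPrimeCore 3 S)).Coprime 3 :=
    Cfsg.Agent.Lib.Helper6.pPrimeCore_coprime 3
  have hRcop : (Nat.card ↥⁅Cfsg.pPrimeCore 3 S, Subgroup.zpowers b⁆).Coprime 3 :=
    Nat.Coprime.coprime_dvd_left (Subgroup.card_dvd_of_le hRK) hKcop
  have hRcomm : ⁅Cfsg.pPrimeCore 3 S, Subgroup.zpowers b⁆ ≤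
      cb ⁅Cfsg.pPrimeCore 3 S, Subgroup.zpowers b⁆ b := by
    have := cb_le_cb_cb (Cfsg.pPrimeCore 3 S) b hb3 hKinv hKcop
    rw [← hRcb] at this
    exact this
  exact ⟨hb3, hsq, hnorm, hnc, hQR, hRinv, hRinv', hRcop, hRcomm⟩

end GroupData

end Cfsg.Agent.Lib.Helper2.Cub
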