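import Mathlib
import Cfsg.Agent.Lib.Helper1.CubPG3

/-!
# S4415, package PG (Part I of the paper), file 4: the decomposition `E = [E, R] ⊕ C_E(R)`
-/

set_option autoImplicit false
open Cfsg

namespace Cfsg.Agent.Lib.Helper2.Cub

section ModuleData

variable {S : Type*} [Group S] [Finite S] {E : Type*} [AddCommGroup E] [Module (ZMod 3) E]
  [Finite E]

/-- (I.4), (I.5): the decomposition, its invariance and the triviality of `b` on `C_E(R)`. -/
theorem pg_module_data (ρ : Representation (ZMod 3) S E) (hfaith : Function.Injective ρ)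
    (R Q : Subgroup S) (b : S) (hb3 : b ^ 3 = 1)
    (hRinv : ∀ r ∈ R, b⁻¹ * r * b ∈ R) (hRinv' : ∀ r ∈ R, b * r * b⁻¹ ∈ R)
    (hRcop : (Nat.card R).Coprime 3) (hRcomm : R ≤ cb R b) (hQR : Q ≤ R) (hQ4 : Nat.card Q = 4)
    (himN : Nat.card (LinearMap.range (nOp ρ b)) ≤ 9)
    (hN2 : ∃ v, nOp ρ b (nOp ρ b v) ≠ 0) :
    ∃ F₀ F₁ : Submodule (ZMod 3) E, F₀ ⊓ F₁ = ⊥ ∧ F₀ ⊔ F₁ = ⊤ ∧
      (∀ v ∈ F₀, (∀ x ∈ R, ρ x v = v) → v = 0) ∧
      (∀ g ∈ R ⊔ Subgroup.zpowers b, ∀ v ∈ F₀, ρ g v ∈ F₀) ∧
      (∀ g ∈ R ⊔ Subgroup.zpowers b, ∀ v ∈ F₁, ρ g v = v) := by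
  obtain ⟨F₀, F₁, hinf, hsup, hF₁, hF₀def, hfix⟩ := f6_decomp ρ R hRcop
  refine ⟨F₀, F₁, hinf, hsup, hfix, ?_, ?_⟩
  -- invariance of `F₀` under elements normalising `R`
  · have hinvF₀ : ∀ g : S, (∀ r ∈ R, g * r * g⁻¹ ∈ R) → ∀ v ∈ F₀, ρ g v ∈ F₀ := by
      intro g hg
      have hle : F₀ ≤ F₀.comap (ρ g) := by
        rw [hF₀def, Submodule.span_le]
        rintro w ⟨x, hx, v, rfl⟩
        rw [SetLike.mem_coe, Submodule.mem_comap, map_sub]
        apply Submodule.subset_span
        refine ⟨g * x * g⁻¹, hg x hx, ρ g v, ?_⟩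
        congr 1
        rw [← rho_mul_apply, ← rho_mul_apply]
        congr 2
        group
      intro v hv
      exact hle hv
    let H₀ : Subgroup S :=
      { carrier := {g | (∀ v ∈ F₀, ρ g v ∈ F₀) ∧ (∀ v ∈ F₀, ρ g⁻¹ v ∈ F₀)}
        one_mem' := by
          constructor
          · intro v hv; rw [rho_one_apply]; exact hv
          · intro v hv; rw [inv_one, rho_one_apply]; exact hv
        mul_mem' := by
          rintro g h ⟨hg1, hg2⟩ ⟨hh1, hh2⟩
          constructor
          · intro v hv; rw [rho_mul_apply]; exact hg1 _ (hh1 v hv)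
          · intro v hv; rw [mul_inv_rev, rho_mul_apply]; exact hh2 _ (hg2 v hv)
        inv_mem' := by
          rintro g ⟨hg1, hg2⟩
          exact ⟨hg2, by rw [inv_inv]; exact hg1⟩ }
    have hRH : R ≤ H₀ := by
      intro r hr
      constructor
      · exact hinvF₀ r (fun x hx => R.mul_mem (R.mul_mem hr hx) (R.inv_mem hr))
      · exact hinvF₀ r⁻¹ (fun x hx => by
          rw [inv_inv]; exact R.mul_mem (R.mul_mem (R.inv_mem hr) hx) hr)
    have hbH : b ∈ H₀ := by
      constructor
      · exact hinvF₀ b hRinv'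
      · exact hinvF₀ b⁻¹ (fun x hx => by rw [inv_inv]; exact hRinv x hx)
    have hle : R ⊔ Subgroup.zpowers b ≤ H₀ := sup_le hRH ((Subgroup.zpowers_le).mpr hbH)
    intro g hg v hv
    exact (hle hg).1 v hv
  -- triviality on `F₁`
  · let H₁ : Subgroup S :=
      { carrier := {g | ∀ v ∈ F₁, ρ g v = v}
        one_mem' := by intro v _; rw [rho_one_apply]
        mul_mem' := by
          rintro g h hg hh v hv
          rw [rho_mul_apply, hh v hv, hg v hv]
        inv_mem' := by
          rintro g hg v hv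
          have := hg v hv
          calc ρ g⁻¹ v = ρ g⁻¹ (ρ g v) := by rw [this]
            _ = v := rho_inv_apply ρ g v }
    have hRH : R ≤ H₁ := fun r hr v hv => (hF₁ v).mp hv r hr
    -- invariance of `F₀`, `F₁` under `b`
    have hbF₁ : ∀ v ∈ F₁, ρ b v ∈ F₁ := by
      intro v hv
      rw [hF₁]
      intro x hx
      have h1 := (hF₁ v).mp hv _ (hRinv x hx)
      calc ρ x (ρ b v) = ρ b (ρ (b⁻¹ * x * b) v) := by
            rw [← rho_mul_apply, ← rho_mul_apply]
            congr 2
            group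
        _ = ρ b v := by rw [h1]
    have hbF₀ : ∀ v ∈ F₀, ρ b v ∈ F₀ := by
      have hle : F₀ ≤ F₀.comap (ρ b) := by
        rw [hF₀def, Submodule.span_le]
        rintro w ⟨x, hx, v, rfl⟩
        rw [SetLike.mem_coe, Submodule.mem_comap, map_sub]
        apply Submodule.subset_span
        refine ⟨b * x * b⁻¹, hRinv' x hx, ρ b v, ?_⟩
        congr 1
        rw [← rho_mul_apply, ← rho_mul_apply]
        congr 2
        group
      intro v hv
      exact hle hv
    have hbH : b ∈ H₁ := by
      rcases pg_triv_or_triv ρ b hb3 himN hN2 F₀ F₁ hinf hsup hbF₀ hbF₁ with h0 | h1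
      · exfalso
        -- every generator of `cb R b` is trivial
        have hRF₀ : ∀ r ∈ R, ∀ v ∈ F₀, ρ r v ∈ F₀ := by
          intro r hr
          have hle : F₀ ≤ F₀.comap (ρ r) := by
            rw [hF₀def, Submodule.span_le]
            rintro w ⟨x, hx, v, rfl⟩
            rw [SetLike.mem_coe, Submodule.mem_comap, map_sub]
            apply Submodule.subset_span
            refine ⟨r * x * r⁻¹, R.mul_mem (R.mul_mem hr hx) (R.inv_mem hr), ρ r v, ?_⟩
            congr 1
            rw [← rho_mul_apply, ← rho_mul_apply]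
            congr 2
            group
          intro v hv
          exact hle hv
        have hgen : ∀ x ∈ R, x⁻¹ * b⁻¹ * x * b = 1 := by
          intro x hx
          apply hfaith
          apply LinearMap.ext
          intro w
          rw [map_one]
          change ρ (x⁻¹ * b⁻¹ * x * b) w = w
          have hw : w ∈ F₀ ⊔ F₁ := by rw [hsup]; trivial
          obtain ⟨v0, hv0, v1, hv1, rfl⟩ := Submodule.mem_sup.mp hw
          have e0 : ρ (x⁻¹ * b⁻¹ * x * b) v0 = v0 := by
            rw [rho_mul_apply, h0 v0 hv0, rho_mul_apply]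
            have h2 : ρ b⁻¹ (ρ x v0) = ρ x v0 := by
              have := h0 _ (hRF₀ x hx v0 hv0)
              calc ρ b⁻¹ (ρ x v0) = ρ b⁻¹ (ρ b (ρ x v0)) := by rw [this]
                _ = ρ x v0 := rho_inv_apply ρ b _
            rw [rho_mul_apply, h2, rho_inv_apply]
          have e1 : ρ (x⁻¹ * b⁻¹ * x * b) v1 = v1 := by
            have hmem : x⁻¹ * b⁻¹ * x * b ∈ R := by
              have : x⁻¹ * b⁻¹ * x * b = x⁻¹ * (b⁻¹ * x * b) := by group
              rw [this]
              exact R.mul_mem (R.inv_mem hx) (hRinv x hx)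
            exact hRH hmem v1 hv1
          rw [map_add, e0, e1]
        have hbot : cb R b ≤ ⊥ := by
          rw [cb_le_iff]
          intro x hx
          rw [hgen x hx]
          exact Subgroup.one_mem _
        have hQbot : Q ≤ ⊥ := le_trans hQR (le_trans hRcomm hbot)
        have := Subgroup.card_le_of_le hQbot
        rw [Subgroup.card_bot] at this
        omega
      · exact h1
    have hle : R ⊔ Subgroup.zpowers b ≤ H₁ := sup_le hRH ((Subgroup.zpowers_le).mpr hbH)
    intro g hg v hv
    exact hle hg v hv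

end ModuleData

end Cfsg.Agent.Lib.Helper2.Cub
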