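import Mathlib
import Cfsg.Agent.Lib.Helper1.CubPG4
import Cfsg.Agent.Lib.Helper2.CubD0

/-!
# S4415, package PG (Part I of the paper), file 5: the restricted representation and `Setup`
-/

set_option autoImplicit false
open Cfsg

namespace Cfsg.Agent.Lib.Helper2.Cub

section Restrict

variable {S : Type*} [Group S] {E : Type*} [AddCommGroup E] [Module (ZMod 3) E]

/-- the representation of a subgroup `L` on an `L`-invariant subspace `F` -/
def resRep (ρ : Representation (ZMod 3) S E) (L : Subgroup S) (F : Submodule (ZMod 3) E)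
    (hinv : ∀ g ∈ L, ∀ v ∈ F, ρ g v ∈ F) : Representation (ZMod 3) L F where
  toFun g := (ρ g.1).restrict (hinv g.1 g.2)
  map_one' := by
    apply LinearMap.ext
    intro v
    apply Subtype.ext
    change ρ ((1 : L) : S) v.1 = v.1
    rw [Subgroup.coe_one, rho_one_apply]
  map_mul' := by
    intro g h
    apply LinearMap.ext
    intro v
    apply Subtype.ext
    change ρ ((g * h : L) : S) v.1 = ρ g.1 (ρ h.1 v.1)
    rw [Subgroup.coe_mul, rho_mul_apply]

theorem resRep_apply (ρ : Representation (ZMod 3) S E) (L : Subgroup S) (F : Submodule (ZMod 3) E)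
    (hinv : ∀ g ∈ L, ∀ v ∈ F, ρ g v ∈ F) (g : L) (v : F) :
    ((resRep ρ L F hinv g v : F) : E) = ρ g.1 v.1 := rfl

theorem nOp_resRep_apply (ρ : Representation (ZMod 3) S E) (L : Subgroup S)
    (F : Submodule (ZMod 3) E) (hinv : ∀ g ∈ L, ∀ v ∈ F, ρ g v ∈ F) (g : L) (v : F) :
    ((nOp (resRep ρ L F hinv) g v : F) : E) = nOp ρ g.1 v.1 := by
  rw [nOp_apply, nOp_apply, Submodule.coe_sub, resRep_apply]

end Restrict

section SetupPG

variable {S : Type*} [Group S] [Finite S] [Group.IsSolvable S] {E : Type*} [AddCommGroup E]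
  [Module (ZMod 3) E] [Finite E]

/-- the `Setup` of Theorem T for `G = R⟨b⟩` acting on `F₀`. -/
theorem pg_setup (ρ : Representation (ZMod 3) S E) (hfaith : Function.Injective ρ)
    (R Q : Subgroup S) (b : S) (hb3 : b ^ 3 = 1)
    (hRinv : ∀ r ∈ R, b⁻¹ * r * b ∈ R) (hRinv' : ∀ r ∈ R, b * r * b⁻¹ ∈ R)
    (hRcop : (Nat.card R).Coprime 3) (hRcomm : R ≤ cb R b) (hQR : Q ≤ R) (hQ4 : Nat.card Q = 4)
    (hsq : ∀ q ∈ Q, q * q = 1) (hnorm : ∀ q ∈ Q, b * q * b⁻¹ ∈ Q)
    (hnc : ∃ q ∈ Q, b * q * b⁻¹ ≠ q)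
    (himN : Nat.card (LinearMap.range (nOp ρ b)) ≤ 9)
    (hN2 : ∃ v, nOp ρ b (nOp ρ b v) ≠ 0)
    (F₀ F₁ : Submodule (ZMod 3) E) (hsup : F₀ ⊔ F₁ = ⊤)
    (hfix : ∀ v ∈ F₀, (∀ x ∈ R, ρ x v = v) → v = 0)
    (hF₀ : ∀ g ∈ R ⊔ Subgroup.zpowers b, ∀ v ∈ F₀, ρ g v ∈ F₀)
    (hF₁ : ∀ g ∈ R ⊔ Subgroup.zpowers b, ∀ v ∈ F₁, ρ g v = v) :
    Setup (resRep ρ (R ⊔ Subgroup.zpowers b) F₀ hF₀)
      (R.subgroupOf (R ⊔ Subgroup.zpowers b)) (Q.subgroupOf (R ⊔ Subgroup.zpowers b))
      (⟨b, (le_sup_right : Subgroup.zpowers b ≤ R ⊔ Subgroup.zpowers b)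
        (Subgroup.mem_zpowers b)⟩ : (R ⊔ Subgroup.zpowers b : Subgroup S)) := by
  set L := R ⊔ Subgroup.zpowers b with hL
  have hRL : R ≤ L := le_sup_left
  have hbL : b ∈ L := (le_sup_right : Subgroup.zpowers b ≤ L) (Subgroup.mem_zpowers b)
  have hQL : Q ≤ L := le_trans hQR hRL
  have h3 : b * b * b = 1 := by rw [← hb3, pow_succ, pow_two]
  refine
    { faithful := ?_
      normalR := ?_
      solv := inferInstance
      coprimeR := ?_
      b3 := ?_
      gen := ?_
      comm := ?_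
      imN := ?_
      N2 := ?_
      fixR := ?_
      QleR := ?_
      Qcard := ?_
      Qsq := ?_
      Qnorm := ?_
      Qnc := ?_ }
  · -- faithful
    intro g g' hgg
    apply Subtype.ext
    apply hfaith
    apply LinearMap.ext
    intro w
    have hw : w ∈ F₀ ⊔ F₁ := by rw [hsup]; trivial
    obtain ⟨v0, hv0, v1, hv1, rfl⟩ := Submodule.mem_sup.mp hw
    have e0 : ρ g.1 v0 = ρ g'.1 v0 := by
      have := congrArg (fun f : ↥F₀ →ₗ[ZMod 3] ↥F₀ => ((f ⟨v0, hv0⟩ : F₀) : E)) hgg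
      exact this
    rw [map_add, map_add, e0, hF₁ g.1 g.2 v1 hv1, hF₁ g'.1 g'.2 v1 hv1]
  · -- normal
    rw [Subgroup.normal_subgroupOf_iff hRL]
    have hbN : b ∈ Subgroup.normalizer (R : Set S) := by
      rw [Subgroup.mem_normalizer_iff]
      intro h
      constructor
      · exact hRinv' h
      · intro hh
        have := hRinv _ hh
        have e : b⁻¹ * (b * h * b⁻¹) * b = h := by group
        rwa [e] at this
    have hLN : L ≤ Subgroup.normalizer (R : Set S) :=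
      sup_le Subgroup.le_normalizer ((Subgroup.zpowers_le).mpr hbN)
    intro h k hh hk
    exact (Subgroup.mem_normalizer_iff.mp (hLN hk) h).mp hh
  · -- coprime
    rw [Nat.card_congr (Subgroup.subgroupOfEquivOfLe hRL).toEquiv]
    exact hRcop
  · -- b^3
    apply Subtype.ext
    rw [Subgroup.coe_pow, Subgroup.coe_one]
    exact hb3
  · -- gen
    have hconj : ∀ i : ℕ, ∀ r ∈ R, b ^ i * r * (b ^ i)⁻¹ ∈ R := by
      intro i
      induction i with
      | zero => intro r hr; simpa using hr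
      | succ n ih =>
        intro r hr
        have := hRinv' _ (ih r hr)
        have e : b ^ (n + 1) * r * (b ^ (n + 1))⁻¹ = b * (b ^ n * r * (b ^ n)⁻¹) * b⁻¹ := by
          rw [pow_succ']; group
        rw [e]; exact this
    let RB : Subgroup S :=
      { carrier := {g | ∃ x ∈ R, ∃ i : ℕ, g = x * b ^ i}
        one_mem' := ⟨1, R.one_mem, 0, by simp⟩
        mul_mem' := by
          rintro g h ⟨x, hx, i, rfl⟩ ⟨y, hy, j, rfl⟩
          refine ⟨x * (b ^ i * y * (b ^ i)⁻¹), R.mul_mem hx (hconj i y hy), i + j, ?_⟩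
          rw [pow_add]; group
        inv_mem' := by
          rintro g ⟨x, hx, i, rfl⟩
          refine ⟨b ^ (2 * i) * x⁻¹ * (b ^ (2 * i))⁻¹, hconj _ _ (R.inv_mem hx), 2 * i, ?_⟩
          have hinv : (b ^ i)⁻¹ = b ^ (2 * i) := by
            apply inv_eq_of_mul_eq_one_left
            rw [← pow_add]
            have : 2 * i + i = 3 * i := by ring
            rw [this, pow_mul, hb3, one_pow]
          rw [mul_inv_rev, hinv]; group }
    have hLRB : L ≤ RB := by
      apply sup_le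
      · intro r hr
        exact ⟨r, hr, 0, by simp⟩
      · rw [Subgroup.zpowers_le]
        exact ⟨1, R.one_mem, 1, by simp⟩
    intro g
    obtain ⟨x, hx, i, hgx⟩ := hLRB g.2
    refine ⟨⟨x, hRL hx⟩, Subgroup.mem_subgroupOf.mpr hx, i, ?_⟩
    apply Subtype.ext
    rw [Subgroup.coe_mul, Subgroup.coe_pow]
    exact hgx
  · -- comm
    set b' : L := ⟨b, hbL⟩ with hb'
    set T' : Set L := {g | ∃ x ∈ R.subgroupOf L, g = x⁻¹ * b'⁻¹ * x * b'} with hT'
    have hle : cb R b ≤ (Subgroup.closure T').map L.subtype := by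
      rw [cb_le_iff]
      intro x hx
      rw [Subgroup.mem_map]
      refine ⟨(⟨x, hRL hx⟩ : L)⁻¹ * b'⁻¹ * ⟨x, hRL hx⟩ * b', ?_, rfl⟩
      apply Subgroup.subset_closure
      exact ⟨⟨x, hRL hx⟩, Subgroup.mem_subgroupOf.mpr hx, rfl⟩
    intro r' hr'
    have hr : r'.1 ∈ R := Subgroup.mem_subgroupOf.mp hr'
    obtain ⟨y, hy, hyr⟩ := Subgroup.mem_map.mp (hle (hRcomm hr))
    have : y = r' := Subtype.ext hyr
    rw [← this]; exact hy
  · -- imN
    set b' : L := ⟨b, hbL⟩ with hb'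
    have hmem : ∀ w : LinearMap.range (nOp (resRep ρ L F₀ hF₀) b'),
        ((w.1 : F₀) : E) ∈ LinearMap.range (nOp ρ b) := by
      rintro ⟨w, u, rfl⟩
      exact ⟨u.1, (nOp_resRep_apply ρ L F₀ hF₀ b' u).symm⟩
    have hinj : Function.Injective
        (fun w : LinearMap.range (nOp (resRep ρ L F₀ hF₀) b') =>
          (⟨((w.1 : F₀) : E), hmem w⟩ : LinearMap.range (nOp ρ b))) := by
      intro w w' hww
      have h1 : ((w.1 : F₀) : E) = ((w'.1 : F₀) : E) := by
        have h2 := congrArg Subtype.val hww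
        exact h2
      exact Subtype.ext (Subtype.ext h1)
    exact le_trans (Nat.card_le_card_of_injective _ hinj) himN
  · -- N2
    obtain ⟨v, hv⟩ := hN2
    have hw : v ∈ F₀ ⊔ F₁ := by rw [hsup]; trivial
    obtain ⟨v0, hv0, v1, hv1, rfl⟩ := Submodule.mem_sup.mp hw
    have hN1 : nOp ρ b v1 = 0 := by
      rw [nOp_apply, hF₁ b hbL v1 hv1, sub_self]
    refine ⟨⟨v0, hv0⟩, ?_⟩
    intro h0
    apply hv
    have h1 := congrArg (fun u : F₀ => (u : E)) h0
    simp only [nOp_resRep_apply, Submodule.coe_zero] at h1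
    rw [map_add, hN1, add_zero]
    exact h1
  · -- fixR
    intro v hv
    apply Subtype.ext
    apply hfix v.1 v.2
    intro x hx
    have := hv ⟨x, hRL hx⟩ (Subgroup.mem_subgroupOf.mpr hx)
    exact congrArg (fun u : F₀ => (u : E)) this
  · -- QleR
    intro x hx
    rw [Subgroup.mem_subgroupOf] at hx ⊢
    exact hQR hx
  · -- Qcard
    rw [Nat.card_congr (Subgroup.subgroupOfEquivOfLe hQL).toEquiv]
    exact hQ4
  · -- Qsq
    intro q hq
    apply Subtype.ext
    rw [Subgroup.coe_mul, Subgroup.coe_one]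
    exact hsq q.1 (Subgroup.mem_subgroupOf.mp hq)
  · -- Qnorm
    intro q hq
    rw [Subgroup.mem_subgroupOf] at hq ⊢
    exact hnorm q.1 hq
  · -- Qnc
    obtain ⟨q, hq, hne⟩ := hnc
    refine ⟨⟨q, hQL hq⟩, Subgroup.mem_subgroupOf.mpr hq, ?_⟩
    intro h
    apply hne
    exact congrArg Subtype.val h

end SetupPG

end Cfsg.Agent.Lib.Helper2.Cub
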