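import Mathlib
import Cfsg.Agent.Lib.Helper1.CubPG5
import Cfsg.Agent.Lib.Helper2.CubMain
import Cfsg.Agent.Lib.Helper9.ExtraTransport

/-!
# S4415, package PG (Part I of the paper), file 6: the statement from Theorem T
-/

set_option autoImplicit false
open Cfsg

namespace Cfsg.Agent.Lib.Helper2.Cub

/-- The frozen statement S4415 with `B = zpowers b` substituted. -/
theorem pg_main {S : Type*} [Group S] [Finite S]
    [Group.IsSolvable S] {E : Type*} [AddCommGroup E] [Module (ZMod 3) E] [Finite E]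
    (ρ : Representation (ZMod 3) S E) (hfaith : Function.Injective ρ)
    (b : S) (hB : Nat.card ↥(Subgroup.zpowers b) = 3)
    (E₀ E₁ : Submodule (ZMod 3) E) (hE01' : E₀ ⊔ E₁ = ⊤)
    (hE1 : ∀ v ∈ E₁, ρ b v = v) (hE0inv : ∀ v ∈ E₀, ρ b v ∈ E₀) (hE0 : Nat.card ↥E₀ = 27)
    (hind : ∃ v ∈ E₀, ρ b (ρ b v - v) - (ρ b v - v) ≠ 0)
    (Q : Subgroup S) (hQ : Cfsg.IsElementaryAbelian 2 Q) (hQ4 : Nat.card ↥Q = 4)
    (hBQ : Subgroup.zpowers b ≤ Subgroup.normalizer (Q : Set S))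
    (hBQ' : ¬ Subgroup.zpowers b ≤ Subgroup.centralizer (Q : Set S))
    (P : Sylow 3 S)
    (hBZ : (Subgroup.center ↥(P : Subgroup S)).map (P : Subgroup S).subtype = Subgroup.zpowers b) :
    ((Cfsg.IsElementaryAbelian 2 ⁅Cfsg.pPrimeCore 3 S, Subgroup.zpowers b⁆ ∧
        Nat.card ↥⁅Cfsg.pPrimeCore 3 S, Subgroup.zpowers b⁆ = 4) ∨
      (Cfsg.IsExtraspecial 2 ↥⁅Cfsg.pPrimeCore 3 S, Subgroup.zpowers b⁆ ∧
        Nat.card ↥⁅Cfsg.pPrimeCore 3 S, Subgroup.zpowers b⁆ = 32 ∧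
        ∃ A : Subgroup S, A ≤ ⁅Cfsg.pPrimeCore 3 S, Subgroup.zpowers b⁆ ∧
          Cfsg.IsElementaryAbelian 2 A ∧ Nat.card ↥A = 8)) ∧
    ∃ F₀ F₁ : Submodule (ZMod 3) E, F₀ ⊓ F₁ = ⊥ ∧ F₀ ⊔ F₁ = ⊤ ∧
      (∀ r ∈ ⁅Cfsg.pPrimeCore 3 S, Subgroup.zpowers b⁆, ∀ v ∈ F₁, ρ r v = v) ∧
      (∀ r ∈ ⁅Cfsg.pPrimeCore 3 S, Subgroup.zpowers b⁆ ⊔ Subgroup.zpowers b,
        ∀ v ∈ F₀, ρ r v ∈ F₀) ∧
      (∀ r ∈ ⁅Cfsg.pPrimeCore 3 S, Subgroup.zpowers b⁆ ⊔ Subgroup.zpowers b,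
        (∀ v ∈ F₀, ρ r v = v) → r = 1) ∧
      (∀ N : Submodule (ZMod 3) E, N ≤ F₀ →
        (∀ r ∈ ⁅Cfsg.pPrimeCore 3 S, Subgroup.zpowers b⁆ ⊔ Subgroup.zpowers b,
          ∀ v ∈ N, ρ r v ∈ N) → N = ⊥ ∨ N = F₀) := by
  obtain ⟨hb3, hsq, hnorm, hnc, hQR, hRinv, hRinv', hRcop, hRcomm⟩ :=
    pg_group_data b hB Q hQ hQ4 hBQ hBQ' P hBZ
  generalize ⁅Cfsg.pPrimeCore 3 S, Subgroup.zpowers b⁆ = R at *
  have hind' : ∃ v ∈ E₀, nOp ρ b (nOp ρ b v) ≠ 0 := by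
    obtain ⟨v, hv, hne⟩ := hind
    refine ⟨v, hv, ?_⟩
    rw [nOp_apply, nOp_apply]
    exact hne
  have himN := pg_imN ρ b hb3 E₀ E₁ hE01' hE1 hE0inv hE0 hind'
  have hN2 : ∃ v, nOp ρ b (nOp ρ b v) ≠ 0 := by
    obtain ⟨v, _, h⟩ := hind'
    exact ⟨v, h⟩
  obtain ⟨F₀, F₁, hinf, hsup, hfix, hF₀, hF₁⟩ :=
    pg_module_data ρ hfaith R Q b hb3 hRinv hRinv' hRcop hRcomm hQR hQ4 himN hN2
  have hS := pg_setup ρ hfaith R Q b hb3 hRinv hRinv' hRcop hRcomm hQR hQ4 hsq hnorm hnc himN hN2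
    F₀ F₁ hsup hfix hF₀ hF₁
  obtain ⟨hirr, hRQ⟩ := hS.main_T
  have hRL : R ≤ R ⊔ Subgroup.zpowers b := le_sup_left
  have hQL : Q ≤ R ⊔ Subgroup.zpowers b := le_trans hQR hRL
  refine ⟨?_, F₀, F₁, hinf, hsup, ?_, hF₀, ?_, ?_⟩
  · -- the structure of R
    rcases hRQ with hEq | hC
    · left
      have hRQ' : R = Q := by
        have h1 := Subgroup.subgroupOf_inj.mp hEq
        rwa [inf_eq_left.mpr hRL, inf_eq_left.mpr hQL] at h1
      rw [hRQ']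
      exact ⟨hQ, hQ4⟩
    · right
      obtain ⟨hex, h32, A', hA'R, hA'el, hA'8⟩ := hC
      refine ⟨?_, ?_, A'.map (R ⊔ Subgroup.zpowers b).subtype, ?_, ?_, ?_⟩
      · exact Cfsg.Agent.Lib.Helper9.isExtraspecial_of_mulEquiv
          (Subgroup.subgroupOfEquivOfLe hRL) hex
      · rw [← Nat.card_congr (Subgroup.subgroupOfEquivOfLe hRL).toEquiv]
        exact h32
      · intro x hx
        obtain ⟨y, hy, rfl⟩ := Subgroup.mem_map.mp hx
        exact Subgroup.mem_subgroupOf.mp (hA'R hy)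
      · obtain ⟨hcomm, hexp⟩ := hA'el
        refine ⟨⟨⟨?_⟩⟩, ?_⟩
        · rintro ⟨x, hx⟩ ⟨y, hy⟩
          obtain ⟨x', hx', rfl⟩ := Subgroup.mem_map.mp hx
          obtain ⟨y', hy', rfl⟩ := Subgroup.mem_map.mp hy
          apply Subtype.ext
          have h1 := hcomm.is_comm.comm ⟨x', hx'⟩ ⟨y', hy'⟩
          have h2 : x' * y' = y' * x' := congrArg Subtype.val h1
          have h3 := congrArg (R ⊔ Subgroup.zpowers b).subtype h2
          simpa using h3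
        · intro a ha
          obtain ⟨a', ha', rfl⟩ := Subgroup.mem_map.mp ha
          rw [← map_pow, hexp a' ha', map_one]
      · rw [Subgroup.card_map_of_injective (Subgroup.subtype_injective _)]
        exact hA'8
  · -- R trivial on F₁
    intro r hr v hv
    exact hF₁ r (hRL hr) v hv
  · -- faithful on F₀
    intro r hr htriv
    apply hfaith
    apply LinearMap.ext
    intro w
    have hw : w ∈ F₀ ⊔ F₁ := by rw [hsup]; trivial
    obtain ⟨v0, hv0, v1, hv1, rfl⟩ := Submodule.mem_sup.mp hw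
    rw [map_add, htriv v0 hv0, hF₁ r hr v1 hv1, map_one]
    rfl
  · -- irreducible on F₀
    intro N hN hNinv
    have hM := hirr (N.comap F₀.subtype) (by
      intro g v hv
      rw [Submodule.mem_comap] at hv ⊢
      exact hNinv g.1 g.2 _ hv)
    rcases hM with hM | hM
    · left
      rw [eq_bot_iff]
      intro v hv
      have h1 : (⟨v, hN hv⟩ : F₀) ∈ N.comap F₀.subtype := by
        rw [Submodule.mem_comap]; exact hv
      rw [hM, Submodule.mem_bot] at h1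
      rw [Submodule.mem_bot]
      exact congrArg Subtype.val h1
    · right
      apply le_antisymm hN
      intro v hv
      have h1 : (⟨v, hv⟩ : F₀) ∈ N.comap F₀.subtype := by rw [hM]; trivial
      rw [Submodule.mem_comap] at h1
      exact h1

end Cfsg.Agent.Lib.Helper2.Cub
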