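import Mathlib

set_option autoImplicit false

/-!
# Diagonal quadratic forms over a finite field of odd characteristic

`wss w v = ∑ i, w i * v i ^ 2`.  Over a finite field of odd characteristic every diagonal form with nonzero
weights is isometric to the diagonal form with weights `1, …, 1, ∏ w` (the product at any prescribed index).
-/

namespace Cfsg.Agent.Lib.Helper1.DiagForm

open Polynomial

variable {F : Type*} [Field F]

/-- the weighted sum of squares -/
def wss {ι : Type*} [Fintype ι] (w : ι → F) (v : ι → F) : F := ∑ i, w i * v i ^ 2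

section universal

variable [Fintype F]

/-- a diagonal binary form with nonzero coefficients over a finite field of odd characteristic represents
every element -/
theorem diag_universal' (h2 : (2 : F) ≠ 0) {A C : F} (hA : A ≠ 0) (hC : C ≠ 0) (e : F) :
    ∃ s t : F, A * s ^ 2 + C * t ^ 2 = e := by
  have hF : ringChar F ≠ 2 := by
    intro h
    apply h2
    have := CharP.cast_eq_zero F (ringChar F)
    rw [h] at this
    exact_mod_cast this
  have hodd : Fintype.card F % 2 = 1 := FiniteField.odd_card_of_char_ne_two hF
  have hf : degree (Polynomial.C A * X ^ 2 + Polynomial.C 0 * X + Polynomial.C 0) = 2 :=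
    degree_quadratic hA
  have hg : degree (Polynomial.C C * X ^ 2 + Polynomial.C 0 * X + Polynomial.C (-e)) = 2 :=
    degree_quadratic hC
  obtain ⟨s, t, hst⟩ := FiniteField.exists_root_sum_quadratic hf hg hodd
  refine ⟨s, t, ?_⟩
  simp only [eval_add, eval_mul, eval_C, eval_pow, eval_X, zero_mul, add_zero] at hst
  linear_combination hst

end universal

section twoCoord

variable {ι : Type*} [DecidableEq ι]

/-- the linear map changing the coordinates `i`, `j` by the matrix `[[p, q], [r, s]]` -/
def twoMap (i j : ι) (p q r s : F) : (ι → F) →ₗ[F] (ι → F) where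
  toFun v := fun k => if k = i then p * v i + q * v j else if k = j then r * v i + s * v j else v k
  map_add' v v' := by
    funext k
    simp only [Pi.add_apply]
    split_ifs <;> ring
  map_smul' c v := by
    funext k
    simp only [Pi.smul_apply, smul_eq_mul, RingHom.id_apply]
    split_ifs <;> ring

theorem twoMap_apply (i j : ι) (p q r s : F) (v : ι → F) (k : ι) :
    twoMap i j p q r s v k =
      if k = i then p * v i + q * v j else if k = j then r * v i + s * v j else v k := rfl

theorem twoMap_comp {i j : ι} (hij : i ≠ j) (p q r s p' q' r' s' : F) :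
    (twoMap i j p q r s).comp (twoMap i j p' q' r' s') =
      twoMap i j (p * p' + q * r') (p * q' + q * s') (r * p' + s * r') (r * q' + s * s') := by
  apply LinearMap.ext
  intro v
  funext k
  simp only [LinearMap.comp_apply, twoMap_apply, if_true, if_neg hij.symm]
  split_ifs <;> ring

theorem twoMap_one (i j : ι) : twoMap i j (1 : F) 0 0 1 = LinearMap.id := by
  apply LinearMap.ext
  intro v
  funext k
  simp only [twoMap_apply, LinearMap.id_apply]
  split_ifs with h1 h2
  · rw [h1]; ring
  · rw [h2]; ring
  · rfl

/-- the two-coordinate change as a linear equivalence when the determinant is `1` -/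
def twoEquiv {i j : ι} (hij : i ≠ j) (p q r s : F) (hdet : p * s - q * r = 1) :
    (ι → F) ≃ₗ[F] (ι → F) :=
  LinearEquiv.ofLinearMap (twoMap i j p q r s) (twoMap i j s (-q) (-r) p)
    (by
      rw [twoMap_comp hij, ← twoMap_one i j]
      congr 1 <;> first | linear_combination hdet | ring1)
    (by
      rw [twoMap_comp hij, ← twoMap_one i j]
      congr 1 <;> first | linear_combination hdet | ring1)

theorem twoEquiv_apply {i j : ι} (hij : i ≠ j) (p q r s : F) (hdet : p * s - q * r = 1) (v : ι → F)
    (k : ι) : twoEquiv hij p q r s hdet v k =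
      if k = i then p * v i + q * v j else if k = j then r * v i + s * v j else v k := rfl

variable [Fintype ι]

/-- the sum of a function over a finite type, with two distinct indices split off -/
theorem sum_split_two {i j : ι} (hij : i ≠ j) (f : ι → F) :
    ∑ k, f k = f i + f j + ∑ k ∈ (Finset.univ.erase i).erase j, f k := by
  rw [← Finset.add_sum_erase Finset.univ f (Finset.mem_univ i),
    ← Finset.add_sum_erase (Finset.univ.erase i) f
      (Finset.mem_erase.mpr ⟨hij.symm, Finset.mem_univ j⟩), add_assoc]

/-- the basic move: `⟨α, β⟩ ≅ ⟨1, αβ⟩` on two coordinates `i ≠ j` -/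
theorem exists_equiv_move [Fintype F] (h2 : (2 : F) ≠ 0) (w : ι → F) {i j : ι} (hij : i ≠ j)
    (hi : w i ≠ 0) (hj : w j ≠ 0) :
    ∃ e : (ι → F) ≃ₗ[F] (ι → F), ∀ v,
      wss w (e v) = wss (Function.update (Function.update w i 1) j (w i * w j)) v := by
  obtain ⟨s, t, hst⟩ := diag_universal' h2 hi hj 1
  refine ⟨twoEquiv hij s (-(w j * t)) t (w i * s) (by linear_combination hst), ?_⟩
  intro v
  unfold wss
  rw [sum_split_two hij, sum_split_two hij (fun k => _ * v k ^ 2)]
  have hrest : ∑ k ∈ (Finset.univ.erase i).erase j,
        w k * (twoEquiv hij s (-(w j * t)) t (w i * s) (by linear_combination hst) v k) ^ 2 =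
      ∑ k ∈ (Finset.univ.erase i).erase j,
        Function.update (Function.update w i 1) j (w i * w j) k * v k ^ 2 := by
    apply Finset.sum_congr rfl
    intro k hk
    have hkj : k ≠ j := (Finset.mem_erase.mp hk).1
    have hki : k ≠ i := (Finset.mem_erase.mp (Finset.mem_erase.mp hk).2).1
    rw [twoEquiv_apply, if_neg hki, if_neg hkj, Function.update_of_ne hkj, Function.update_of_ne hki]
  rw [hrest, twoEquiv_apply, twoEquiv_apply, if_pos rfl, if_neg hij.symm, if_pos rfl,
    Function.update_self, Function.update_of_ne hij, Function.update_self]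
  linear_combination (v i ^ 2 + w i * w j * v j ^ 2) * hst

end twoCoord

section main

variable {ι : Type*} [Fintype ι] [DecidableEq ι] [Fintype F]

/-- collecting the weights of a set `s` of indices at the index `j₀ ∉ s` -/
theorem exists_equiv_collect (h2 : (2 : F) ≠ 0) (w : ι → F) (hw : ∀ i, w i ≠ 0) (j₀ : ι) (s : Finset ι)
    (hs : j₀ ∉ s) :
    ∃ e : (ι → F) ≃ₗ[F] (ι → F), ∀ v,
      wss w (e v) =
        wss (fun l => if l ∈ s then 1 else if l = j₀ then (∏ l ∈ s, w l) * w j₀ else w l) v := by
  induction s using Finset.induction_on with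
  | empty =>
    refine ⟨LinearEquiv.refl F _, fun v => ?_⟩
    have : (fun l => if l ∈ (∅ : Finset ι) then (1 : F) else
        if l = j₀ then (∏ l ∈ (∅ : Finset ι), w l) * w j₀ else w l) = w := by
      funext l
      rw [if_neg (Finset.notMem_empty l), Finset.prod_empty, one_mul]
      split_ifs with h
      · rw [h]
      · rfl
    rw [this]
    rfl
  | insert a s has ih =>
    have hj₀s : j₀ ∉ s := fun h => hs (Finset.mem_insert_of_mem h)
    have haj : a ≠ j₀ := fun h => hs (h ▸ Finset.mem_insert_self a s)
    obtain ⟨e, he⟩ := ih hj₀s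
    set w' : ι → F := fun l => if l ∈ s then 1 else if l = j₀ then (∏ l ∈ s, w l) * w j₀ else w l
      with hw'
    have hwa : w' a = w a := by
      rw [hw']
      simp only [if_neg has, if_neg haj]
    have hwj : w' j₀ = (∏ l ∈ s, w l) * w j₀ := by
      rw [hw']
      simp only [if_neg hj₀s, if_true]
    have hprod : (∏ l ∈ s, w l) ≠ 0 := Finset.prod_ne_zero_iff.mpr (fun l _ => hw l)
    obtain ⟨e', he'⟩ := exists_equiv_move h2 w' haj (by rw [hwa]; exact hw a)
      (by rw [hwj]; exact mul_ne_zero hprod (hw j₀))
    refine ⟨e'.trans e, fun v => ?_⟩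
    rw [LinearEquiv.trans_apply, he, he']
    congr 1
    funext l
    by_cases hla : l = a
    · rw [hla, Function.update_of_ne haj, Function.update_self, if_pos (Finset.mem_insert_self a s)]
    · by_cases hlj : l = j₀
      · rw [hlj, Function.update_self, hwa, hwj, if_neg hs, if_pos rfl, Finset.prod_insert has]
        ring
      · rw [Function.update_of_ne hlj, Function.update_of_ne hla, hw']
        simp only [Finset.mem_insert, hla, false_or, hlj, if_false]

/-- **Diagonal normal form.**  Over a finite field of odd characteristic the diagonal form with nonzero weights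
`w` is isometric to the diagonal form with weight `∏ w` at `j₀` and `1` elsewhere. -/
theorem exists_equiv_wss_single (h2 : (2 : F) ≠ 0) (w : ι → F) (hw : ∀ i, w i ≠ 0) (j₀ : ι) :
    ∃ e : (ι → F) ≃ₗ[F] (ι → F), ∀ v,
      wss w (e v) = wss (Function.update (fun _ => (1 : F)) j₀ (∏ i, w i)) v := by
  obtain ⟨e, he⟩ := exists_equiv_collect h2 w hw j₀ (Finset.univ.erase j₀) (Finset.notMem_erase j₀ _)
  refine ⟨e, fun v => ?_⟩
  rw [he]
  congr 1
  funext l
  by_cases hl : l = j₀
  · rw [hl, if_neg (Finset.notMem_erase j₀ _), if_pos rfl, Function.update_self,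
      Finset.prod_erase_mul _ _ (Finset.mem_univ j₀)]
  · rw [if_pos (Finset.mem_erase.mpr ⟨hl, Finset.mem_univ l⟩), Function.update_of_ne hl]

end main

end Cfsg.Agent.Lib.Helper1.DiagForm
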