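import Mathlib
import Cfsg.Prelude.Def_Classical
import Cfsg.Agent.Lib.Helper1.DiagForm1

set_option autoImplicit false

/-!
# The standard quadratic forms over a finite field of odd characteristic are diagonalisable

`quadFormPlus m F`, `quadFormOdd m F` and `quadFormMinus m F a b` are isometric to the diagonal forms with
weights `1, …, 1, c` where `c = (-1)^m`, `(-1)^m`, `(-1)^m (b - a²/4)` respectively (the weight `c` at any
prescribed index).
-/

namespace Cfsg.Agent.Lib.Helper1.DiagForm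

variable {F : Type*} [Field F]

section hyp

/-- the change of variables `x = u + t`, `y = u - t` on hyperbolic pairs, with further coordinates `κ` fixed -/
def hypMap (κ : Type*) (m : ℕ) : (κ ⊕ (Fin m ⊕ Fin m) → F) →ₗ[F] (κ ⊕ (Fin m ⊕ Fin m) → F) where
  toFun v := fun k => match k with
    | .inl c => v (.inl c)
    | .inr (.inl i) => v (.inr (.inl i)) + v (.inr (.inr i))
    | .inr (.inr i) => v (.inr (.inl i)) - v (.inr (.inr i))
  map_add' v v' := by
    funext k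
    rcases k with c | i | i <;> simp only [Pi.add_apply] <;> ring
  map_smul' c v := by
    funext k
    rcases k with c | i | i <;> simp only [Pi.smul_apply, smul_eq_mul, RingHom.id_apply] <;> ring

/-- the inverse change of variables -/
def hypInv (κ : Type*) (m : ℕ) : (κ ⊕ (Fin m ⊕ Fin m) → F) →ₗ[F] (κ ⊕ (Fin m ⊕ Fin m) → F) where
  toFun v := fun k => match k with
    | .inl c => v (.inl c)
    | .inr (.inl i) => (v (.inr (.inl i)) + v (.inr (.inr i))) / 2
    | .inr (.inr i) => (v (.inr (.inl i)) - v (.inr (.inr i))) / 2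
  map_add' v v' := by
    funext k
    rcases k with c | i | i <;> simp only [Pi.add_apply] <;> ring
  map_smul' c v := by
    funext k
    rcases k with c | i | i <;> simp only [Pi.smul_apply, smul_eq_mul, RingHom.id_apply] <;> ring

/-- the change of variables on hyperbolic pairs as a linear equivalence -/
def hypEquiv (h2 : (2 : F) ≠ 0) (κ : Type*) (m : ℕ) :
    (κ ⊕ (Fin m ⊕ Fin m) → F) ≃ₗ[F] (κ ⊕ (Fin m ⊕ Fin m) → F) :=
  LinearEquiv.ofLinearMap (hypMap κ m) (hypInv κ m)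
    (by
      apply LinearMap.ext
      intro v
      funext k
      rcases k with c | i | i
      · rfl
      · show (v (.inr (.inl i)) + v (.inr (.inr i))) / 2 + (v (.inr (.inl i)) - v (.inr (.inr i))) / 2 =
          v (.inr (.inl i))
        field_simp
        ring
      · show (v (.inr (.inl i)) + v (.inr (.inr i))) / 2 - (v (.inr (.inl i)) - v (.inr (.inr i))) / 2 =
          v (.inr (.inr i))
        field_simp
        ring)
    (by
      apply LinearMap.ext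
      intro v
      funext k
      rcases k with c | i | i
      · rfl
      · show (v (.inr (.inl i)) + v (.inr (.inr i)) + (v (.inr (.inl i)) - v (.inr (.inr i)))) / 2 =
          v (.inr (.inl i))
        field_simp
        ring
      · show (v (.inr (.inl i)) + v (.inr (.inr i)) - (v (.inr (.inl i)) - v (.inr (.inr i)))) / 2 =
          v (.inr (.inr i))
        field_simp
        ring)

theorem hypEquiv_inl (h2 : (2 : F) ≠ 0) (κ : Type*) (m : ℕ) (v : κ ⊕ (Fin m ⊕ Fin m) → F) (c : κ) :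
    hypEquiv h2 κ m v (.inl c) = v (.inl c) := rfl

theorem hypEquiv_inr_inl (h2 : (2 : F) ≠ 0) (κ : Type*) (m : ℕ) (v : κ ⊕ (Fin m ⊕ Fin m) → F)
    (i : Fin m) :
    hypEquiv h2 κ m v (.inr (.inl i)) = v (.inr (.inl i)) + v (.inr (.inr i)) := rfl

theorem hypEquiv_inr_inr (h2 : (2 : F) ≠ 0) (κ : Type*) (m : ℕ) (v : κ ⊕ (Fin m ⊕ Fin m) → F)
    (i : Fin m) :
    hypEquiv h2 κ m v (.inr (.inr i)) = v (.inr (.inl i)) - v (.inr (.inr i)) := rfl

/-- the hyperbolic part becomes a difference of squares -/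
theorem hyp_sum (h2 : (2 : F) ≠ 0) (κ : Type*) (m : ℕ) (v : κ ⊕ (Fin m ⊕ Fin m) → F) :
    ∑ i : Fin m, hypEquiv h2 κ m v (.inr (.inl i)) * hypEquiv h2 κ m v (.inr (.inr i)) =
      ∑ k : Fin m ⊕ Fin m, (Sum.elim (fun _ => (1 : F)) (fun _ => -1) k) * v (.inr k) ^ 2 := by
  rw [Fintype.sum_sum_type, ← Finset.sum_add_distrib]
  apply Finset.sum_congr rfl
  intro i _
  rw [hypEquiv_inr_inl, hypEquiv_inr_inr, Sum.elim_inl, Sum.elim_inr]
  ring

end hyp

section forms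

variable [Fintype F]

theorem prod_hyp_weights (m : ℕ) :
    ∏ k : Fin m ⊕ Fin m, (Sum.elim (fun _ => (1 : F)) (fun _ => -1) k) = (-1) ^ m := by
  rw [Fintype.prod_sum_type]
  simp

/-- `quadFormOdd m F` is isometric to the diagonal form with weights `1, …, 1, (-1)^m` -/
theorem odd_diag (h2 : (2 : F) ≠ 0) (m : ℕ) (j₀ : Unit ⊕ (Fin m ⊕ Fin m)) :
    ∃ e : (Unit ⊕ (Fin m ⊕ Fin m) → F) ≃ₗ[F] (Unit ⊕ (Fin m ⊕ Fin m) → F), ∀ v,
      Cfsg.quadFormOdd m F (e v) = wss (Function.update (fun _ => (1 : F)) j₀ ((-1) ^ m)) v := by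
  set w : Unit ⊕ (Fin m ⊕ Fin m) → F :=
    Sum.elim (fun _ => 1) (Sum.elim (fun _ => (1 : F)) (fun _ => -1)) with hw
  have hw0 : ∀ k, w k ≠ 0 := by
    rintro (c | i | i)
    · exact one_ne_zero
    · exact one_ne_zero
    · exact neg_ne_zero.mpr one_ne_zero
  have hprod : ∏ k, w k = (-1) ^ m := by
    rw [Fintype.prod_sum_type]
    simp only [hw, Sum.elim_inl, Sum.elim_inr, Finset.prod_const_one, one_mul]
    exact prod_hyp_weights m
  obtain ⟨e, he⟩ := exists_equiv_wss_single h2 w hw0 j₀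
  have key : ∀ u, Cfsg.quadFormOdd m F (hypEquiv h2 Unit m u) = wss w u := by
    intro u
    unfold Cfsg.quadFormOdd wss
    rw [hyp_sum, hypEquiv_inl, Fintype.sum_sum_type (f := fun x => w x * u x ^ 2)]
    simp only [hw, Sum.elim_inl, Sum.elim_inr, Finset.univ_unique, Finset.sum_singleton, one_mul]
  refine ⟨e.trans (hypEquiv h2 Unit m), fun v => ?_⟩
  rw [← hprod, ← he, LinearEquiv.trans_apply, key]

/-- `quadFormPlus m F` is isometric to the diagonal form with weights `1, …, 1, (-1)^m` -/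
theorem plus_diag (h2 : (2 : F) ≠ 0) (m : ℕ) (j₀ : Fin m ⊕ Fin m) :
    ∃ e : (Fin m ⊕ Fin m → F) ≃ₗ[F] (Fin m ⊕ Fin m → F), ∀ v,
      Cfsg.quadFormPlus m F (e v) = wss (Function.update (fun _ => (1 : F)) j₀ ((-1) ^ m)) v := by
  set w : Fin m ⊕ Fin m → F := Sum.elim (fun _ => (1 : F)) (fun _ => -1) with hw
  have hw0 : ∀ k, w k ≠ 0 := by
    rintro (i | i)
    · exact one_ne_zero
    · exact neg_ne_zero.mpr one_ne_zero
  obtain ⟨e, he⟩ := exists_equiv_wss_single h2 w hw0 j₀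
  -- transport the hyperbolic change of variables along `PEmpty ⊕ (Fin m ⊕ Fin m) ≃ Fin m ⊕ Fin m`
  let r : (Fin m ⊕ Fin m → F) ≃ₗ[F] (PEmpty.{1} ⊕ (Fin m ⊕ Fin m) → F) :=
    LinearEquiv.funCongrLeft F F (Equiv.emptySum PEmpty.{1} (Fin m ⊕ Fin m))
  refine ⟨e.trans ((r.trans (hypEquiv h2 PEmpty.{1} m)).trans r.symm), fun v => ?_⟩
  rw [← prod_hyp_weights (F := F) m, ← he]
  simp only [LinearEquiv.trans_apply]
  unfold Cfsg.quadFormPlus wss
  have h1 : ∀ (u : PEmpty.{1} ⊕ (Fin m ⊕ Fin m) → F) (k : Fin m ⊕ Fin m), r.symm u k = u (.inr k) := by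
    intro u k
    rfl
  have h3 : ∀ (u : Fin m ⊕ Fin m → F) (k : Fin m ⊕ Fin m), r u (.inr k) = u k := by
    intro u k
    rfl
  simp only [h1]
  rw [hyp_sum]
  simp only [h3, hw]

/-- `quadFormMinus m F a b` is isometric to the diagonal form with weights `1, …, 1, (-1)^m (b - a²/4)` -/
theorem minus_diag (h2 : (2 : F) ≠ 0) (m : ℕ) (a b : F) (hab : b - a ^ 2 / 4 ≠ 0)
    (j₀ : (Fin m ⊕ Fin m) ⊕ Fin 2) :
    ∃ e : ((Fin m ⊕ Fin m) ⊕ Fin 2 → F) ≃ₗ[F] ((Fin m ⊕ Fin m) ⊕ Fin 2 → F), ∀ v,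
      Cfsg.quadFormMinus m F a b (e v) =
        wss (Function.update (fun _ => (1 : F)) j₀ ((-1) ^ m * (b - a ^ 2 / 4))) v := by
  set w : (Fin m ⊕ Fin m) ⊕ Fin 2 → F :=
    Sum.elim (Sum.elim (fun _ => (1 : F)) (fun _ => -1)) ![1, b - a ^ 2 / 4] with hw
  have hw0 : ∀ k, w k ≠ 0 := by
    rintro ((i | i) | c)
    · exact one_ne_zero
    · exact neg_ne_zero.mpr one_ne_zero
    · fin_cases c
      · exact one_ne_zero
      · exact hab
  have hprod : ∏ k, w k = (-1) ^ m * (b - a ^ 2 / 4) := by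
    rw [Fintype.prod_sum_type]
    simp only [hw, Sum.elim_inl, Sum.elim_inr, Fin.prod_univ_two, Matrix.cons_val_zero,
      Matrix.cons_val_one, one_mul]
    rw [prod_hyp_weights]
  obtain ⟨e, he⟩ := exists_equiv_wss_single h2 w hw0 j₀
  have h01 : (Sum.inr 0 : (Fin m ⊕ Fin m) ⊕ Fin 2) ≠ Sum.inr 1 := by
    intro h
    have := Sum.inr_injective h
    exact absurd this (by decide)
  let sh : ((Fin m ⊕ Fin m) ⊕ Fin 2 → F) ≃ₗ[F] ((Fin m ⊕ Fin m) ⊕ Fin 2 → F) :=
    twoEquiv h01 1 (-(a / 2)) 0 1 (by ring)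
  let r : ((Fin m ⊕ Fin m) ⊕ Fin 2 → F) ≃ₗ[F] (Fin 2 ⊕ (Fin m ⊕ Fin m) → F) :=
    LinearEquiv.funCongrLeft F F (Equiv.sumComm (Fin 2) (Fin m ⊕ Fin m))
  have hr1 : ∀ (u : Fin 2 ⊕ (Fin m ⊕ Fin m) → F) (k : Fin m ⊕ Fin m), r.symm u (.inl k) = u (.inr k) :=
    fun u k => rfl
  have hr2 : ∀ (u : Fin 2 ⊕ (Fin m ⊕ Fin m) → F) (c : Fin 2), r.symm u (.inr c) = u (.inl c) :=
    fun u c => rfl
  have hr3 : ∀ (u : (Fin m ⊕ Fin m) ⊕ Fin 2 → F) (k : Fin m ⊕ Fin m), r u (.inr k) = u (.inl k) :=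
    fun u k => rfl
  have hr4 : ∀ (u : (Fin m ⊕ Fin m) ⊕ Fin 2 → F) (c : Fin 2), r u (.inl c) = u (.inr c) :=
    fun u c => rfl
  have hsh0 : ∀ u : (Fin m ⊕ Fin m) ⊕ Fin 2 → F, sh u (.inr 0) = u (.inr 0) - a / 2 * u (.inr 1) := by
    intro u
    show twoEquiv h01 1 (-(a / 2)) 0 1 (by ring) u (.inr 0) = _
    rw [twoEquiv_apply, if_pos rfl]
    ring
  have hsh1 : ∀ u : (Fin m ⊕ Fin m) ⊕ Fin 2 → F, sh u (.inr 1) = u (.inr 1) := by
    intro u
    show twoEquiv h01 1 (-(a / 2)) 0 1 (by ring) u (.inr 1) = _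
    rw [twoEquiv_apply, if_neg h01.symm, if_pos rfl]
    ring
  have hshl : ∀ (u : (Fin m ⊕ Fin m) ⊕ Fin 2 → F) (k : Fin m ⊕ Fin m), sh u (.inl k) = u (.inl k) := by
    intro u k
    show twoEquiv h01 1 (-(a / 2)) 0 1 (by ring) u (.inl k) = _
    rw [twoEquiv_apply, if_neg (by simp), if_neg (by simp)]
  have h4 : (4 : F) ≠ 0 := by
    have : (4 : F) = 2 * 2 := by norm_num
    rw [this]
    exact mul_ne_zero h2 h2
  have key : ∀ u, Cfsg.quadFormMinus m F a b
      (r.symm (hypEquiv h2 (Fin 2) m (r (sh u)))) = wss w u := by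
    intro u
    unfold Cfsg.quadFormMinus wss
    simp only [hr1, hr2]
    rw [hyp_sum, Fintype.sum_sum_type (f := fun x => w x * u x ^ 2), Fin.sum_univ_two]
    simp only [hypEquiv_inl, hr3, hr4, hshl, hsh0, hsh1, hw, Sum.elim_inl, Sum.elim_inr,
      Matrix.cons_val_zero, Matrix.cons_val_one]
    field_simp
    ring
  refine ⟨e.trans (sh.trans ((r.trans (hypEquiv h2 (Fin 2) m)).trans r.symm)), fun v => ?_⟩
  rw [← hprod, ← he]
  simp only [LinearEquiv.trans_apply]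
  exact key (e v)

/-- an anisotropic binary form `z₁² + a z₁ z₂ + b z₂²` has `b - a²/4 ≠ 0` -/
theorem disc_ne_zero_of_aniso (h2 : (2 : F) ≠ 0) (a b : F)
    (hab : ∀ z₁ z₂ : F, z₁ ^ 2 + a * z₁ * z₂ + b * z₂ ^ 2 = 0 → z₁ = 0 ∧ z₂ = 0) :
    b - a ^ 2 / 4 ≠ 0 := by
  intro h
  have h4 : (4 : F) ≠ 0 := by
    have : (4 : F) = 2 * 2 := by norm_num
    rw [this]
    exact mul_ne_zero h2 h2
  have := (hab (-(a / 2)) 1 (by
    have hb : b = a ^ 2 / 4 := by linear_combination h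
    rw [hb]
    field_simp
    ring)).2
  exact one_ne_zero this

/-- an anisotropic binary form `z₁² + a z₁ z₂ + b z₂²` has `-(b - a²/4)` a non-square -/
theorem not_isSquare_of_aniso (h2 : (2 : F) ≠ 0) (a b : F)
    (hab : ∀ z₁ z₂ : F, z₁ ^ 2 + a * z₁ * z₂ + b * z₂ ^ 2 = 0 → z₁ = 0 ∧ z₂ = 0) :
    ¬ IsSquare (-(b - a ^ 2 / 4)) := by
  rintro ⟨s, hs⟩
  have h4 : (4 : F) ≠ 0 := by
    have : (4 : F) = 2 * 2 := by norm_num
    rw [this]
    exact mul_ne_zero h2 h2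
  have := (hab (s - a / 2) 1 (by
    have hb : b = a ^ 2 / 4 - s * s := by linear_combination -hs
    rw [hb]
    field_simp
    ring)).2
  exact one_ne_zero this

end forms

end Cfsg.Agent.Lib.Helper1.DiagForm
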