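import Mathlib
import Cfsg.Prelude.Def_Blocks
import Cfsg.Agent.Lib.Helper7.BL7

set_option autoImplicit false

/-!
# S4481 swarm, PK-FOUR: the linear characters of `⟨σ⟩` and the Fourier expansion on `⟨σ⟩`
-/

namespace Cfsg.Agent.Lib.Helper8.DihB

open Cfsg Cfsg.Agent.Lib.Helper7.BL

universe u

section FOUR
variable {G : Type u} [Group G] [Finite G] {σ : G} {N : ℕ} {ζ : ℂ}

/-- PK-FOUR: the linear characters `om k : σ ↦ ζ ^ k` of `⟨σ⟩` and the Fourier expansion of an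
irreducible character of `G` on `⟨σ⟩` (`muZ` = helper7's BL7 integer multiplicity). -/
theorem exists_om (hσo : orderOf σ = N) (hζ : IsPrimitiveRoot ζ N) :
    ∃ om : ℤ → (↥(Subgroup.zpowers σ) →* ℂˣ),
      (∀ (k i : ℤ) (a : ↥(Subgroup.zpowers σ)), (a : G) = σ ^ i →
        ((om k a : ℂˣ) : ℂ) = ζ ^ (k * i)) ∧
      (∀ k k' : ℤ, om k = om k' ↔ (N : ℤ) ∣ k - k') ∧
      (∀ k : ℤ, (om k)⁻¹ = om (-k)) ∧ om 0 = 1 ∧
      (∀ ψ : ↥(Subgroup.zpowers σ) →* ℂˣ, ∃ k : ℕ, k < N ∧ ψ = om k) ∧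
      (∀ (χ : IrrCharacter G) (l : ℤ), (χ : G → ℂ) (σ ^ l) =
        ∑ k ∈ Finset.range N, (muZ (Subgroup.zpowers σ) χ (om k) : ℂ) * ζ ^ ((k : ℤ) * l)) := by
  classical
  have hNpos : 0 < N := by
    rw [← hσo]
    exact orderOf_pos σ
  have _nz : NeZero N := ⟨hNpos.ne'⟩
  -- the generator of `⟨σ⟩`
  have hg : ∀ x : ↥(Subgroup.zpowers σ),
      x ∈ Subgroup.zpowers (⟨σ, Subgroup.mem_zpowers σ⟩ : ↥(Subgroup.zpowers σ)) := by
    intro x
    obtain ⟨i, hi⟩ := Subgroup.mem_zpowers_iff.1 x.2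
    refine Subgroup.mem_zpowers_iff.2 ⟨i, ?_⟩
    apply Subtype.ext
    rw [Subgroup.coe_zpow]
    exact hi
  have hgo : orderOf (⟨σ, Subgroup.mem_zpowers σ⟩ : ↥(Subgroup.zpowers σ)) = N := by
    rw [Subgroup.orderOf_mk, hσo]
  -- `ζ` as a unit
  obtain ⟨u, hu⟩ : ∃ u : ℂˣ, (u : ℂ) = ζ := ⟨(hζ.isUnit hNpos.ne').unit, IsUnit.unit_spec _⟩
  have huo : orderOf u = N := by
    rw [← orderOf_units, hu]
    exact hζ.eq_orderOf.symm
  have huN : u ^ N = 1 := by
    rw [← huo]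
    exact pow_orderOf_eq_one u
  have hdvd : ∀ k : ℤ, orderOf (u ^ k) ∣
      orderOf (⟨σ, Subgroup.mem_zpowers σ⟩ : ↥(Subgroup.zpowers σ)) := by
    intro k
    rw [hgo]
    apply orderOf_dvd_of_pow_eq_one
    rw [← zpow_natCast, ← zpow_mul, mul_comm, zpow_mul, zpow_natCast, huN, one_zpow]
  obtain ⟨om, hom⟩ : ∃ om : ℤ → (↥(Subgroup.zpowers σ) →* ℂˣ),
      ∀ k, om k (⟨σ, Subgroup.mem_zpowers σ⟩ : ↥(Subgroup.zpowers σ)) = u ^ k :=
    ⟨fun k => monoidHomOfForallMemZpowers hg (hdvd k),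
      fun k => monoidHomOfForallMemZpowers_apply_gen hg (hdvd k)⟩
  have hval : ∀ (k i : ℤ) (a : ↥(Subgroup.zpowers σ)), (a : G) = σ ^ i →
      ((om k a : ℂˣ) : ℂ) = ζ ^ (k * i) := by
    intro k i a ha
    have ha' : a = (⟨σ, Subgroup.mem_zpowers σ⟩ : ↥(Subgroup.zpowers σ)) ^ i := by
      apply Subtype.ext
      rw [Subgroup.coe_zpow]
      exact ha
    rw [ha', map_zpow, hom, ← zpow_mul, Units.val_zpow_eq_zpow_val, hu]
  have heq : ∀ k k' : ℤ, om k = om k' ↔ (N : ℤ) ∣ k - k' := by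
    intro k k'
    rw [MonoidHom.eq_iff_eq_on_generator hg, hom, hom, zpow_eq_zpow_iff_modEq, huo,
      Int.modEq_iff_dvd]
    constructor
    · intro h
      have := (dvd_neg (a := (N : ℤ)) (b := k' - k)).2 h
      rwa [neg_sub] at this
    · intro h
      have := (dvd_neg (a := (N : ℤ)) (b := k - k')).2 h
      rwa [neg_sub] at this
  have hsurj : ∀ ψ : ↥(Subgroup.zpowers σ) →* ℂˣ, ∃ k : ℕ, k < N ∧ ψ = om k := by
    intro ψ
    have h1 : ((ψ ⟨σ, Subgroup.mem_zpowers σ⟩ : ℂˣ) : ℂ) ^ N = 1 := by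
      rw [← Units.val_pow_eq_pow_val, ← map_pow]
      have : (⟨σ, Subgroup.mem_zpowers σ⟩ : ↥(Subgroup.zpowers σ)) ^ N = 1 := by
        rw [← hgo]
        exact pow_orderOf_eq_one _
      rw [this, map_one, Units.val_one]
    obtain ⟨k, hk, hkζ⟩ := hζ.eq_pow_of_pow_eq_one h1
    refine ⟨k, hk, ?_⟩
    rw [MonoidHom.eq_iff_eq_on_generator hg, hom]
    apply Units.ext
    rw [zpow_natCast, Units.val_pow_eq_pow_val, hu, hkζ]
  refine ⟨om, hval, heq, ?_, ?_, hsurj, ?_⟩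
  · intro k
    rw [MonoidHom.eq_iff_eq_on_generator hg, MonoidHom.inv_apply, hom, hom, zpow_neg]
  · rw [MonoidHom.eq_iff_eq_on_generator hg, hom, zpow_zero, MonoidHom.one_apply]
  · -- the Fourier expansion
    intro χ l
    have hcomm : ∀ a b : ↥(Subgroup.zpowers σ), a * b = b * a := by
      intro a b
      obtain ⟨i, hi⟩ := Subgroup.mem_zpowers_iff.1 a.2
      obtain ⟨j, hj⟩ := Subgroup.mem_zpowers_iff.1 b.2
      apply Subtype.ext
      rw [Subgroup.coe_mul, Subgroup.coe_mul, ← hi, ← hj, ← zpow_add, ← zpow_add, add_comm]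
    have _f1 : Fintype ↥(Subgroup.zpowers σ) := Fintype.ofFinite _
    have _f2 : Finite (↥(Subgroup.zpowers σ) →* ℂˣ) := finite_hom hcomm
    have _f3 : Fintype (↥(Subgroup.zpowers σ) →* ℂˣ) := Fintype.ofFinite _
    have hexp := hom_expansion hcomm (fun y : ↥(Subgroup.zpowers σ) => (χ : G → ℂ) (y : G))
    have hexp' := congrFun hexp ⟨σ ^ l, Subgroup.zpow_mem_zpowers σ l⟩
    simp only [Finset.sum_apply, Pi.smul_apply, smul_eq_mul] at hexp'
    rw [hexp']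
    -- reindex by `k < N`
    symm
    apply Finset.sum_bij (fun (k : ℕ) _ => om (k : ℤ))
    · intro k _
      exact Finset.mem_univ _
    · intro k hk k' hk' hkk'
      have h1 := (heq k k').1 hkk'
      have hk1 := Finset.mem_range.1 hk
      have hk'1 := Finset.mem_range.1 hk'
      obtain ⟨c, hc⟩ := h1
      have hc0 : c = 0 := by
        by_contra hne
        rcases lt_or_gt_of_ne hne with h | h
        · have : (N : ℤ) * c ≤ (N : ℤ) * (-1) := by
            apply mul_le_mul_of_nonneg_left (by omega) (by omega)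
          omega
        · have : (N : ℤ) * 1 ≤ (N : ℤ) * c := by
            apply mul_le_mul_of_nonneg_left (by omega) (by omega)
          omega
      rw [hc0, mul_zero] at hc
      omega
    · intro ψ _
      obtain ⟨k, hk, hψ⟩ := hsurj ψ
      exact ⟨k, Finset.mem_range.2 hk, hψ.symm⟩
    · intro k _
      rw [← mu_eq_classInner, muZ_spec, homFun_apply,
        hval (k : ℤ) l ⟨σ ^ l, Subgroup.zpow_mem_zpowers σ l⟩ rfl]

end FOUR

end Cfsg.Agent.Lib.Helper8.DihB
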