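import Mathlib
import Cfsg.Agent.Lib.Lead.ThompsonTransfer
import Cfsg.Agent.Lib.Lead.CoprimeSylow4
import Cfsg.Agent.Lib.Helper6.Modular2
import Cfsg.Agent.Lib.Helper4.CyclicTwo

set_option autoImplicit false

universe u

namespace Cfsg.Agent.Lib.Helper1

open Cfsg.Agent.Lib.Lead

/-- Let `T` be a Sylow `2`-subgroup of `H` and `R ≤ T` a cyclic subgroup of index at most two such
that the elements of `T` outside `R` are involutions, none of which is conjugate into `R`.
Then `H` has a normal `2`-complement. -/
theorem hasNormalPComplement_of_dihedralLike_aux (n : ℕ) :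
    ∀ (H : Type u) [Group H] [Finite H], Nat.card H = n → ∀ (T : Sylow 2 H) (R : Subgroup H),
      R ≤ (T : Subgroup H) → IsCyclic R →
      (∀ x ∈ (T : Subgroup H), ∀ y ∈ (T : Subgroup H), x ∉ R → y ∉ R → x * y ∈ R) →
      (∀ x ∈ (T : Subgroup H), x ∉ R → x * x = 1) →
      (∀ x ∈ (T : Subgroup H), x ∉ R → ∀ g : H, g * x * g⁻¹ ∉ R) →
      Cfsg.HasNormalPComplement 2 H := by
  induction n using Nat.strong_induction_on with
  | _ n ih =>
    intro H _ _ hcard T R hRT hRc hprod hinv hfus
    haveI : Fact (Nat.Prime 2) := ⟨Nat.prime_two⟩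
    by_cases hTR : (T : Subgroup H) ≤ R
    · have hEq : (T : Subgroup H) = R := le_antisymm hTR hRT
      exact Cfsg.Agent.Lib.Helper6.hasNormalPComplement_two_of_cyclic T (hEq ▸ hRc)
    · obtain ⟨u, huT, huR⟩ := SetLike.not_le_iff_exists.mp hTR
      have hu1 : u ≠ 1 := fun h => huR (h ▸ R.one_mem)
      have huo : orderOf u = 2 :=
        orderOf_eq_prime (by rw [pow_two]; exact hinv u huT huR) hu1
      have hrel : R.relIndex (T : Subgroup H) = 2 := by
        rw [Subgroup.relIndex_eq_two_iff]
        refine ⟨u, huT, fun b hb => ?_⟩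
        by_cases hbR : b ∈ R
        · right
          refine ⟨hbR, fun h => huR ?_⟩
          have := R.mul_mem (R.inv_mem hbR) h
          rwa [inv_mul_cancel_left] at this
        · left
          exact ⟨hprod b hb u huT hbR huR, hbR⟩
      obtain ⟨M, hMn, hMi, huM⟩ :=
        thompson_transfer T R hrel u huo (fun g => hfus u huT huR g)
      haveI := hMn
      have hMcard : Nat.card M * 2 = n := by rw [← hcard, ← hMi]; exact M.card_mul_index
      have hMpos : 0 < Nat.card M := Nat.card_pos
      have hlt : Nat.card M < n := by omega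
      -- the Sylow subgroup of `M`
      have hMrel : M.relIndex (T : Subgroup H) = 2 := by
        have h1 : M.relIndex (T : Subgroup H) ∣ M.index := Subgroup.relIndex_dvd_index_of_normal M _
        rw [hMi] at h1
        rcases (Nat.dvd_prime Nat.prime_two).mp h1 with h | h
        · exfalso
          rw [Subgroup.relIndex_eq_one] at h
          exact huM (h huT)
        · exact h
      have hTcard : Nat.card (T : Subgroup H) = 2 ^ (Nat.card H).factorization 2 :=
        Sylow.card_eq_multiplicity T
      have hinfcard : Nat.card (M ⊓ (T : Subgroup H) : Subgroup H) * 2 =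
          Nat.card (T : Subgroup H) := by
        have := Subgroup.relIndex_mul_relIndex (⊥ : Subgroup H) (M ⊓ (T : Subgroup H))
          (T : Subgroup H) bot_le inf_le_right
        rw [Subgroup.relIndex_bot_left, Subgroup.relIndex_bot_left, Subgroup.inf_relIndex_right,
          hMrel] at this
        exact this
      have hfac : (Nat.card H).factorization 2 = (Nat.card M).factorization 2 + 1 := by
        rw [hcard, ← hMcard, Nat.factorization_mul hMpos.ne' two_ne_zero]
        simp [Nat.Prime.factorization_self Nat.prime_two]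
      have hT₁card : Nat.card ((T : Subgroup H).subgroupOf M) =
          2 ^ (Nat.card M).factorization 2 := by
        rw [← Subgroup.inf_subgroupOf_left, Nat.card_congr
          (Subgroup.subgroupOfEquivOfLe (inf_le_left : M ⊓ (T : Subgroup H) ≤ M)).toEquiv]
        rw [hTcard, hfac, pow_succ] at hinfcard
        exact Nat.eq_of_mul_eq_mul_right (by norm_num) hinfcard
      let T₁ : Sylow 2 M := Sylow.ofCard ((T : Subgroup H).subgroupOf M) hT₁card
      have hT₁ : ∀ x : M, x ∈ (T₁ : Subgroup M) ↔ (x : H) ∈ (T : Subgroup H) := by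
        intro x
        show x ∈ (T : Subgroup H).subgroupOf M ↔ _
        exact Subgroup.mem_subgroupOf
      have hR₁ : ∀ x : M, x ∈ R.subgroupOf M ↔ (x : H) ∈ R := fun x => Subgroup.mem_subgroupOf
      have hR₁c : IsCyclic (R.subgroupOf M) := by
        haveI := hRc
        apply isCyclic_of_injective ((M.subtype).subgroupComap R)
        intro a b hab
        apply Subtype.ext
        apply Subtype.ext
        have := congrArg (fun z : R => (z : H)) hab
        exact this
      have := ih (Nat.card M) hlt ↥M rfl T₁ (R.subgroupOf M)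
        (fun x hx => (hT₁ x).mpr (hRT ((hR₁ x).mp hx))) hR₁c
        (fun x hx y hy hxR hyR => (hR₁ _).mpr (hprod x ((hT₁ x).mp hx) y ((hT₁ y).mp hy)
          (fun h => hxR ((hR₁ x).mpr h)) (fun h => hyR ((hR₁ y).mpr h))))
        (fun x hx hxR => Subtype.ext (hinv x ((hT₁ x).mp hx) (fun h => hxR ((hR₁ x).mpr h))))
        (fun x hx hxR g hg => hfus x ((hT₁ x).mp hx) (fun h => hxR ((hR₁ x).mpr h)) g
          ((hR₁ _).mp hg))
      exact Cfsg.Agent.Lib.Helper6.hasNormalPComplement_of_normal_index_pow M 1
        (by rw [hMi, pow_one]) this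

/-- the same with a central involution in place of the fusion hypothesis -/
theorem hasNormalPComplement_of_dihedralLike_central {H : Type u} [Group H] [Finite H]
    (T : Sylow 2 H) (R : Subgroup H) (hRT : R ≤ (T : Subgroup H)) (hRc : IsCyclic R)
    (hprod : ∀ x ∈ (T : Subgroup H), ∀ y ∈ (T : Subgroup H), x ∉ R → y ∉ R → x * y ∈ R)
    (hinv : ∀ x ∈ (T : Subgroup H), x ∉ R → x * x = 1)
    (t : H) (htc : t ∈ Subgroup.center H) (ht : orderOf t = 2) :
    Cfsg.HasNormalPComplement 2 H := by
  haveI : Fact (Nat.Prime 2) := ⟨Nat.prime_two⟩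
  have htt : t * t = 1 := by rw [← pow_two, ← ht]; exact pow_orderOf_eq_one t
  have ht1 : t ≠ 1 := fun h => by rw [h, orderOf_one] at ht; norm_num at ht
  have hcomm : ∀ g : H, g * t = t * g := fun g => Subgroup.mem_center_iff.mp htc g
  have hzc : ∀ z ∈ Subgroup.zpowers t, ∀ g : H, g * z * g⁻¹ = z := by
    intro z hz g
    have hzc' : z ∈ Subgroup.center H := (Subgroup.zpowers_le.mpr htc) hz
    rw [Subgroup.mem_center_iff.mp hzc' g, mul_inv_cancel_right]
  have hZn : (Subgroup.zpowers t).Normal := ⟨fun z hz g => by rw [hzc z hz g]; exact hz⟩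
  have hZp : IsPGroup 2 (Subgroup.zpowers t) := by
    apply IsPGroup.of_card (n := 1)
    rw [Nat.card_zpowers, ht, pow_one]
  have hZT : Subgroup.zpowers t ≤ (T : Subgroup H) := normal_pgroup_le_sylow 2 _ hZp T
  have htT : t ∈ (T : Subgroup H) := hZT (Subgroup.mem_zpowers t)
  by_cases htR : t ∈ R
  · apply hasNormalPComplement_of_dihedralLike_aux _ H rfl T R hRT hRc hprod hinv
    intro x hxT hxR g hz
    have hx1 : x ≠ 1 := fun h => hxR (h ▸ R.one_mem)
    have hxo : orderOf x = 2 := orderOf_eq_prime (by rw [pow_two]; exact hinv x hxT hxR) hx1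
    have hzo : orderOf (g * x * g⁻¹) = 2 := by
      have := orderOf_injective (MulAut.conj g).toMonoidHom (MulAut.conj g).injective x
      simpa [MulAut.conj_apply, hxo] using this
    haveI := hRc
    have h1 : (⟨g * x * g⁻¹, hz⟩ : R) = ⟨t, htR⟩ := by
      apply Cfsg.Agent.Lib.Helper4.cyclic_involution_unique
      · rw [← Subgroup.orderOf_coe]; exact hzo
      · rw [← Subgroup.orderOf_coe]; exact ht
    have h2 : g * x * g⁻¹ = t := congrArg Subtype.val h1
    apply hxR
    have h3 : x = g⁻¹ * (g * x * g⁻¹) * g := by group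
    rw [h3, h2]
    have := hzc t (Subgroup.mem_zpowers t) g⁻¹
    rw [inv_inv] at this
    rw [this]; exact htR
  · -- `R` has exponent two
    have hRsq : ∀ r ∈ R, r * r = 1 := by
      intro r hr
      have h1 : r * t ∉ R := by
        intro h
        apply htR
        have := R.mul_mem (R.inv_mem hr) h
        rwa [inv_mul_cancel_left] at this
      have h2 := hinv (r * t) ((T : Subgroup H).mul_mem (hRT hr) htT) h1
      have h3 : r * t * (r * t) = (r * r) * (t * t) := by
        rw [mul_assoc, ← mul_assoc t r t, ← hcomm r]; group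
      rw [h3, htt, mul_one] at h2
      exact h2
    have hRuniq : ∀ r₁ ∈ R, ∀ r₂ ∈ R, r₁ ≠ 1 → r₂ ≠ 1 → r₁ = r₂ := by
      intro r₁ h₁ r₂ h₂ hn₁ hn₂
      haveI := hRc
      have h1 : (⟨r₁, h₁⟩ : R) = ⟨r₂, h₂⟩ := by
        apply Cfsg.Agent.Lib.Helper4.cyclic_involution_unique
        · rw [← Subgroup.orderOf_coe]
          exact orderOf_eq_prime (by rw [pow_two]; exact hRsq r₁ h₁) hn₁
        · rw [← Subgroup.orderOf_coe]
          exact orderOf_eq_prime (by rw [pow_two]; exact hRsq r₂ h₂) hn₂
      exact congrArg Subtype.val h1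
    -- the element of `R` attached to an element outside `⟨t⟩`
    have hρ : ∀ x ∈ (T : Subgroup H), x ∉ Subgroup.zpowers t →
        ∃ r ∈ R, r ≠ 1 ∧ (x = r ∨ x = r * t) := by
      intro x hxT hxZ
      by_cases hxR : x ∈ R
      · exact ⟨x, hxR, fun h => hxZ (h ▸ Subgroup.one_mem _), Or.inl rfl⟩
      · refine ⟨x * t, hprod x hxT t htT hxR htR, ?_, Or.inr ?_⟩
        · intro h
          apply hxZ
          have h1 : x = t⁻¹ := eq_inv_of_mul_eq_one_left h
          rw [h1]
          exact Subgroup.inv_mem _ (Subgroup.mem_zpowers t)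
        · rw [mul_assoc, htt, mul_one]
    apply hasNormalPComplement_of_dihedralLike_aux _ H rfl T (Subgroup.zpowers t) hZT
      (Subgroup.isCyclic_zpowers t)
    · intro x hxT y hyT hxZ hyZ
      obtain ⟨r₁, hr₁, hn₁, hx⟩ := hρ x hxT hxZ
      obtain ⟨r₂, hr₂, hn₂, hy⟩ := hρ y hyT hyZ
      have hrr := hRuniq r₁ hr₁ r₂ hr₂ hn₁ hn₂
      rw [← hrr] at hy
      have hsq := hRsq r₁ hr₁
      rcases hx with hx | hx <;> rcases hy with hy | hy <;> rw [hx, hy]
      · rw [hsq]; exact Subgroup.one_mem _
      · rw [← mul_assoc, hsq, one_mul]; exact Subgroup.mem_zpowers t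
      · rw [mul_assoc, ← hcomm r₁, ← mul_assoc, hsq, one_mul]; exact Subgroup.mem_zpowers t
      · have h3 : r₁ * t * (r₁ * t) = (r₁ * r₁) * (t * t) := by
          rw [mul_assoc, ← mul_assoc t r₁ t, ← hcomm r₁]; group
        rw [h3, hsq, htt, mul_one]; exact Subgroup.one_mem _
    · intro x hxT hxZ
      by_cases hxR : x ∈ R
      · exact hRsq x hxR
      · exact hinv x hxT hxR
    · intro x hxT hxZ g hz
      apply hxZ
      have h3 : x = g⁻¹ * (g * x * g⁻¹) * g := by group
      rw [h3]
      have := hzc _ hz g⁻¹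
      rw [inv_inv] at this
      rw [this]; exact hz

end Cfsg.Agent.Lib.Helper1
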