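import Mathlib
import Cfsg.Prelude.Def_Blocks
import Cfsg.Prelude.Def_Solvable
import Cfsg.Agent.Lib.Helper8.DihB0
import Cfsg.Agent.Lib.Helper8.KF2
import Cfsg.Agent.Lib.Helper1.DihedralNPC

set_option autoImplicit false

/-!
# S4481 swarm, PK-GRP: group theory of a dihedral-like Sylow 2-subgroup

`DL.of_iso`, `DL.fusion`, `DL.card_inf_centralizer`, `DL.npc`.
-/

namespace Cfsg.Agent.Lib.Helper8.DihB

universe u

section aux
variable {G : Type u} [Group G]

/-- two elements of the same order of a finite cyclic subgroup generate the same subgroup -/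
theorem grp_mem_zpowers_of_orderOf_eq [Finite G] {σ y y' : G} (hy : y ∈ Subgroup.zpowers σ)
    (hy' : y' ∈ Subgroup.zpowers σ) (h : orderOf y' = orderOf y) : y' ∈ Subgroup.zpowers y := by
  have hσ : IsOfFinOrder σ := isOfFinOrder_of_finite σ
  have hN : 0 < orderOf σ := hσ.orderOf_pos
  rw [← mem_powers_iff_mem_zpowers] at hy hy'
  obtain ⟨a, ha⟩ := (Submonoid.mem_powers_iff _ _).1 hy
  obtain ⟨b, hb'⟩ := (Submonoid.mem_powers_iff _ _).1 hy'
  subst ha
  subst hb'
  rw [orderOf_pow, orderOf_pow] at h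
  have hga : Nat.gcd (orderOf σ) a ∣ orderOf σ := Nat.gcd_dvd_left _ _
  have hgb : Nat.gcd (orderOf σ) b ∣ orderOf σ := Nat.gcd_dvd_left _ _
  have hgeq : Nat.gcd (orderOf σ) b = Nat.gcd (orderOf σ) a := by
    obtain ⟨ca, hca⟩ := hga
    obtain ⟨cb, hcb⟩ := hgb
    have hga0 : 0 < Nat.gcd (orderOf σ) a := Nat.gcd_pos_of_pos_left _ hN
    have hgb0 : 0 < Nat.gcd (orderOf σ) b := Nat.gcd_pos_of_pos_left _ hN
    have h1 : orderOf σ / Nat.gcd (orderOf σ) a = ca := Nat.div_eq_of_eq_mul_right hga0 hca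
    have h2 : orderOf σ / Nat.gcd (orderOf σ) b = cb := Nat.div_eq_of_eq_mul_right hgb0 hcb
    rw [h1, h2] at h
    have hca0 : 0 < ca := by
      rcases Nat.eq_zero_or_pos ca with h0 | h0
      · rw [h0, mul_zero] at hca; omega
      · exact h0
    have h3 : Nat.gcd (orderOf σ) b * ca = Nat.gcd (orderOf σ) a * ca := by
      rw [← hca, ← h, ← hcb]
    exact Nat.eq_of_mul_eq_mul_right hca0 h3
  -- `σ ^ gcd` is a power of `σ ^ a`
  have hgcd : σ ^ Nat.gcd (orderOf σ) a ∈ Subgroup.zpowers (σ ^ a) := by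
    have h1 := Nat.gcd_eq_gcd_ab (orderOf σ) a
    have h2 : σ ^ ((Nat.gcd (orderOf σ) a : ℕ) : ℤ) =
        (σ ^ a) ^ (Nat.gcdB (orderOf σ) a) := by
      rw [h1, zpow_add, zpow_mul, zpow_natCast, pow_orderOf_eq_one, one_zpow, one_mul, zpow_mul,
        zpow_natCast]
    rw [zpow_natCast] at h2
    rw [h2]
    exact Subgroup.zpow_mem_zpowers _ _
  have hb : Nat.gcd (orderOf σ) a ∣ b := by
    rw [← hgeq]
    exact Nat.gcd_dvd_right _ _
  obtain ⟨c, hc⟩ := hb
  rw [hc, pow_mul]
  exact Subgroup.pow_mem _ hgcd c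

end aux

section STR
variable {G : Type u} [Group G] {P : Sylow 2 G} {σ : G} {N : ℕ}

/-- `⟨σ⟩` centralises its elements -/
theorem DL.zpowers_le_centralizer {y : G} (hy : y ∈ Subgroup.zpowers σ) :
    Subgroup.zpowers σ ≤ Subgroup.centralizer ({y} : Set G) := by
  intro x hx
  rw [Subgroup.mem_centralizer_iff]
  intro z hz
  rw [Set.mem_singleton_iff] at hz
  subst hz
  obtain ⟨a, rfl⟩ := Subgroup.mem_zpowers_iff.1 hx
  obtain ⟨b, rfl⟩ := Subgroup.mem_zpowers_iff.1 hy
  rw [← zpow_add, ← zpow_add, add_comm]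

/-! ### structure of `P` -/

theorem DL.zpowers_le (h : DL P σ N) : Subgroup.zpowers σ ≤ (P : Subgroup G) :=
  Subgroup.zpowers_le.mpr h.mem

/-- elements of `P` outside `⟨σ⟩` invert every element of `⟨σ⟩` -/
theorem DL.conj_eq_inv (h : DL P σ N) {x : G} (hx : x ∈ (P : Subgroup G))
    (hxσ : x ∉ Subgroup.zpowers σ) {y : G} (hy : y ∈ Subgroup.zpowers σ) : x * y * x⁻¹ = y⁻¹ := by
  obtain ⟨l, rfl⟩ := Subgroup.mem_zpowers_iff.1 hy
  have h1 : x * σ ^ l * x⁻¹ = (x * σ * x⁻¹) ^ l := by
    rw [conj_zpow]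
  rw [h1, (h.inv x hx hxσ).2, inv_zpow]

theorem DL.sq_ne_one (h : DL P σ N) : σ * σ ≠ 1 := by
  intro h1
  have h2 : orderOf σ ∣ 2 := orderOf_dvd_of_pow_eq_one (by rw [pow_two]; exact h1)
  have h3 := Nat.le_of_dvd (by norm_num) h2
  have h4 := h.four
  rw [h.ord] at h3
  omega

/-- elements of `P` which are not involutions lie in `⟨σ⟩` -/
theorem DL.mem_zpowers_of_sq_ne (h : DL P σ N) {x : G} (hx : x ∈ (P : Subgroup G))
    (hx2 : x * x ≠ 1) : x ∈ Subgroup.zpowers σ := by
  by_contra hxσ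
  exact hx2 (h.inv x hx hxσ).1

/-- the centraliser in `P` of a non-involution of `⟨σ⟩` is `⟨σ⟩` -/
theorem DL.inf_centralizer_eq (h : DL P σ N) {y : G} (hy : y ∈ Subgroup.zpowers σ)
    (hy2 : y * y ≠ 1) :
    (P : Subgroup G) ⊓ Subgroup.centralizer ({y} : Set G) = Subgroup.zpowers σ := by
  apply le_antisymm
  · intro x hx
    obtain ⟨hxP, hxC⟩ := hx
    by_contra hxσ
    have h1 := h.conj_eq_inv hxP hxσ hy
    have h2 : y * x = x * y := Subgroup.mem_centralizer_iff.1 hxC y (Set.mem_singleton y)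
    apply hy2
    have h3 : x * y * x⁻¹ = y := by rw [← h2, mul_inv_cancel_right]
    rw [h3] at h1
    calc y * y = y * y⁻¹ := by rw [← h1]
      _ = 1 := mul_inv_cancel y
  · intro x hx
    exact Subgroup.mem_inf.2 ⟨h.zpowers_le hx, DL.zpowers_le_centralizer hy hx⟩

/-- `P` centralises the involution of `⟨σ⟩` -/
theorem DL.le_centralizer_of_sq (h : DL P σ N) {y : G} (hy : y ∈ Subgroup.zpowers σ)
    (hy2 : y * y = 1) : (P : Subgroup G) ≤ Subgroup.centralizer ({y} : Set G) := by
  intro x hx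
  rw [Subgroup.mem_centralizer_iff]
  intro z hz
  rw [Set.mem_singleton_iff] at hz
  subst hz
  by_cases hxσ : x ∈ Subgroup.zpowers σ
  · obtain ⟨a, rfl⟩ := Subgroup.mem_zpowers_iff.1 hxσ
    obtain ⟨b, rfl⟩ := Subgroup.mem_zpowers_iff.1 hy
    rw [← zpow_add, ← zpow_add, add_comm]
  · have h1 := h.conj_eq_inv hx hxσ hy
    have h2 : z⁻¹ = z := inv_eq_of_mul_eq_one_left hy2
    rw [h2] at h1
    calc z * x = x * z * x⁻¹ * x := by rw [h1]
      _ = x * z := by rw [inv_mul_cancel_right]

end STR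

section GRP
variable {G : Type u} [Group G] [Finite G] {P : Sylow 2 G} {σ : G} {N : ℕ}

/-- PK-GRP1 -/
theorem DL.of_iso (n : ℕ) (hn : 3 ≤ n) (P : Sylow 2 G)
    (hP : Nonempty ((P : Subgroup G) ≃* DihedralGroup (2 ^ (n - 1)))) (σ : G)
    (hσ : σ ∈ (P : Subgroup G)) (hσo : orderOf σ = 2 ^ (n - 1)) : DL P σ (2 ^ (n - 1)) := by
  obtain ⟨φ⟩ := hP
  have h4 : 4 ≤ 2 ^ (n - 1) := by
    calc 4 = 2 ^ 2 := by norm_num
      _ ≤ 2 ^ (n - 1) := Nat.pow_le_pow_right (by norm_num) (by omega)
  have _inst : NeZero (2 ^ (n - 1)) := ⟨by positivity⟩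
  refine ⟨hσ, hσo, h4, ?_, ?_⟩
  · rw [Nat.card_congr φ.toEquiv, DihedralGroup.nat_card]
  · intro x hx hxσ
    have hso : orderOf (φ ⟨σ, hσ⟩) = 2 ^ (n - 1) := by
      rw [MulEquiv.orderOf_eq, Subgroup.orderOf_mk]
      exact hσo
    rcases hφσ : φ ⟨σ, hσ⟩ with k | k
    · rcases hφx : φ ⟨x, hx⟩ with j | j
      · -- `x` would be a power of `σ`
        exfalso
        apply hxσ
        rw [hφσ, DihedralGroup.orderOf_r] at hso
        have hg1 : Nat.gcd (2 ^ (n - 1)) k.val = 1 := by
          have hdvd : Nat.gcd (2 ^ (n - 1)) k.val ∣ 2 ^ (n - 1) := Nat.gcd_dvd_left _ _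
          obtain ⟨c, hc⟩ := hdvd
          have hg0 : 0 < Nat.gcd (2 ^ (n - 1)) k.val := Nat.gcd_pos_of_pos_left _ (by positivity)
          have h1 : 2 ^ (n - 1) / Nat.gcd (2 ^ (n - 1)) k.val = c :=
            Nat.div_eq_of_eq_mul_right hg0 hc
          rw [h1] at hso
          rw [hso] at hc
          have h2 : Nat.gcd (2 ^ (n - 1)) k.val * 2 ^ (n - 1) = 1 * 2 ^ (n - 1) := by
            rw [one_mul]; exact hc.symm
          exact Nat.eq_of_mul_eq_mul_right (by positivity) h2
        have hunit : IsUnit k := by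
          have h1 : ((k.val : ℕ) : ZMod (2 ^ (n - 1))) = k := ZMod.natCast_zmod_val k
          rw [← h1]
          exact (ZMod.isUnit_iff_coprime _ _).mpr (Nat.Coprime.symm hg1)
        obtain ⟨ku, hku⟩ := hunit
        have hj : j = k * (((↑ku⁻¹ * j : ZMod (2 ^ (n - 1))).val : ℕ) : ZMod (2 ^ (n - 1))) := by
          rw [ZMod.natCast_zmod_val, ← hku, ← mul_assoc, Units.mul_inv, one_mul]
        have h3 : φ ⟨x, hx⟩ = φ (⟨σ, hσ⟩ ^ (↑ku⁻¹ * j : ZMod (2 ^ (n - 1))).val) := by
          rw [map_pow, hφσ, hφx, DihedralGroup.r_pow, ← hj]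
        have h4' := φ.injective h3
        have h5 : x = σ ^ (↑ku⁻¹ * j : ZMod (2 ^ (n - 1))).val := by
          have := congrArg Subtype.val h4'
          simpa using this
        rw [h5]
        exact Subgroup.pow_mem _ (Subgroup.mem_zpowers σ) _
      · constructor
        · have h3 : φ (⟨x, hx⟩ * ⟨x, hx⟩) = φ 1 := by
            rw [map_mul, hφx, DihedralGroup.sr_mul_self, map_one]
          have h4' := φ.injective h3
          have := congrArg Subtype.val h4'
          simpa using this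
        · have h3 : φ (⟨x, hx⟩ * ⟨σ, hσ⟩ * ⟨x, hx⟩⁻¹) = φ (⟨σ, hσ⟩⁻¹) := by
            rw [map_mul, map_mul, map_inv, map_inv, hφx, hφσ, DihedralGroup.inv_sr,
              DihedralGroup.sr_mul_r, DihedralGroup.sr_mul_sr, DihedralGroup.inv_r]
            congr 1
            ring
          have h4' := φ.injective h3
          have := congrArg Subtype.val h4'
          simpa using this
    · exfalso
      rw [hφσ, DihedralGroup.orderOf_sr] at hso
      omega

/-- PK-GRP2: `P` controls the `G`-fusion of the elements of `⟨σ⟩`. -/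
theorem DL.fusion (h : DL P σ N) (hN : ∃ k, N = 2 ^ k) {y : G} (hy : y ∈ Subgroup.zpowers σ) (g : G)
    (hg : g * y * g⁻¹ ∈ Subgroup.zpowers σ) :
    ∃ x ∈ (P : Subgroup G), x * y * x⁻¹ = g * y * g⁻¹ := by
  have _i2 : Fact (Nat.Prime 2) := ⟨Nat.prime_two⟩
  have hord : orderOf (g * y * g⁻¹) = orderOf y := by
    have := orderOf_injective (MulAut.conj g).toMonoidHom (MulAut.conj g).injective y
    simpa [MulAut.conj_apply] using this
  have hmem1 : g * y * g⁻¹ ∈ Subgroup.zpowers y := grp_mem_zpowers_of_orderOf_eq hy hg hord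
  have hmem2 : y ∈ Subgroup.zpowers (g * y * g⁻¹) :=
    grp_mem_zpowers_of_orderOf_eq hg hy hord.symm
  -- `g` normalises `⟨y⟩`
  have hgN : g ∈ Subgroup.normalizer (Subgroup.zpowers y : Set G) := by
    rw [Subgroup.mem_normalizer_iff]
    intro z
    constructor
    · intro hz
      obtain ⟨l, rfl⟩ := Subgroup.mem_zpowers_iff.1 hz
      rw [← conj_zpow]
      exact Subgroup.zpow_mem _ hmem1 l
    · intro hz
      have h1 : g * z * g⁻¹ ∈ Subgroup.zpowers (g * y * g⁻¹) := (Subgroup.zpowers_le.mpr hmem2) hz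
      obtain ⟨l, hl⟩ := Subgroup.mem_zpowers_iff.1 h1
      rw [conj_zpow] at hl
      have h2 : y ^ l = z := mul_left_cancel (mul_right_cancel hl)
      rw [← h2]
      exact Subgroup.zpow_mem_zpowers y l
  -- `P` normalises `⟨y⟩`
  have hPN : (P : Subgroup G) ≤ Subgroup.normalizer (Subgroup.zpowers y : Set G) := by
    rw [Subgroup.le_normalizer_iff]
    intro x hx z hz
    by_cases hxσ : x ∈ Subgroup.zpowers σ
    · have hzσ : z ∈ Subgroup.zpowers σ := (Subgroup.zpowers_le.mpr hy) hz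
      have hcomm : x * z = z * x := by
        obtain ⟨a, rfl⟩ := Subgroup.mem_zpowers_iff.1 hxσ
        obtain ⟨b, rfl⟩ := Subgroup.mem_zpowers_iff.1 hzσ
        rw [← zpow_add, ← zpow_add, add_comm]
      rw [hcomm, mul_inv_cancel_right]
      exact hz
    · rw [h.conj_eq_inv hx hxσ ((Subgroup.zpowers_le.mpr hy) hz)]
      exact Subgroup.inv_mem _ hz
  -- the index of the centraliser in the normaliser is a power of two
  have hyP : y ∈ (P : Subgroup G) := h.zpowers_le hy
  obtain ⟨j, hj⟩ : ∃ j, Nat.card (Subgroup.zpowers y) = 2 ^ j := by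
    have hp : IsPGroup 2 (Subgroup.zpowers y) :=
      P.2.to_le (Subgroup.zpowers_le.mpr hyP)
    exact hp.exists_card_eq
  have key := Subgroup.card_dvd_of_injective _
    (QuotientGroup.kerLift_injective (Subgroup.zpowers y).normalizerMonoidHom)
  rw [Subgroup.normalizerMonoidHom_ker, ← Subgroup.index] at key
  have hcyc : IsCyclic (Subgroup.zpowers y) := inferInstance
  rw [hcyc.card_mulAut, hj] at key
  have hpow : ∃ e, ((Subgroup.centralizer (Subgroup.zpowers y : Set G)).subgroupOf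
      (Subgroup.normalizer (Subgroup.zpowers y : Set G))).index = 2 ^ e := by
    rcases Nat.eq_zero_or_pos j with h0 | h0
    · rw [h0, pow_zero, Nat.totient_one] at key
      exact ⟨0, by rw [pow_zero]; exact Nat.dvd_one.1 key⟩
    · rw [Nat.totient_prime_pow Nat.prime_two h0] at key
      have h3 : (2 : ℕ) - 1 = 1 := rfl
      rw [h3, mul_one] at key
      obtain ⟨e, -, he⟩ := (Nat.dvd_prime_pow Nat.prime_two).1 key
      exact ⟨e, he⟩
  obtain ⟨e, he⟩ := hpow
  -- `P C = N`
  have hodd : ¬ 2 ∣ ((P : Subgroup G).subgroupOf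
      (Subgroup.normalizer (Subgroup.zpowers y : Set G))).index := by
    intro h2
    have h3 : ((P : Subgroup G).subgroupOf
        (Subgroup.normalizer (Subgroup.zpowers y : Set G))).index ∣ (P : Subgroup G).index :=
      Subgroup.relIndex_dvd_index_of_le hPN
    exact P.not_dvd_index (h2.trans h3)
  have hCn : ((Subgroup.centralizer (Subgroup.zpowers y : Set G)).subgroupOf
      (Subgroup.normalizer (Subgroup.zpowers y : Set G))).Normal := by
    rw [← Subgroup.normalizerMonoidHom_ker]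
    exact MonoidHom.normal_ker _
  have htop : ((P : Subgroup G).subgroupOf (Subgroup.normalizer (Subgroup.zpowers y : Set G))) ⊔
      ((Subgroup.centralizer (Subgroup.zpowers y : Set G)).subgroupOf
        (Subgroup.normalizer (Subgroup.zpowers y : Set G))) = ⊤ := by
    rw [← Subgroup.index_eq_one]
    have hd1 := Subgroup.index_dvd_of_le (le_sup_left :
      ((P : Subgroup G).subgroupOf (Subgroup.normalizer (Subgroup.zpowers y : Set G))) ≤
      ((P : Subgroup G).subgroupOf (Subgroup.normalizer (Subgroup.zpowers y : Set G))) ⊔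
      ((Subgroup.centralizer (Subgroup.zpowers y : Set G)).subgroupOf
        (Subgroup.normalizer (Subgroup.zpowers y : Set G))))
    have hd2 := Subgroup.index_dvd_of_le (le_sup_right :
      ((Subgroup.centralizer (Subgroup.zpowers y : Set G)).subgroupOf
        (Subgroup.normalizer (Subgroup.zpowers y : Set G))) ≤
      ((P : Subgroup G).subgroupOf (Subgroup.normalizer (Subgroup.zpowers y : Set G))) ⊔
      ((Subgroup.centralizer (Subgroup.zpowers y : Set G)).subgroupOf
        (Subgroup.normalizer (Subgroup.zpowers y : Set G))))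
    rw [he] at hd2
    obtain ⟨e', -, he'⟩ := (Nat.dvd_prime_pow Nat.prime_two).1 hd2
    rcases Nat.eq_zero_or_pos e' with h0 | h0
    · rw [he', h0, pow_zero]
    · exfalso
      apply hodd
      refine Dvd.dvd.trans ?_ hd1
      rw [he']
      exact dvd_pow_self 2 (by omega)
  have hmem : (⟨g, hgN⟩ : Subgroup.normalizer (Subgroup.zpowers y : Set G)) ∈
      (((P : Subgroup G).subgroupOf (Subgroup.normalizer (Subgroup.zpowers y : Set G))) ⊔
      ((Subgroup.centralizer (Subgroup.zpowers y : Set G)).subgroupOf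
        (Subgroup.normalizer (Subgroup.zpowers y : Set G))) :
        Subgroup (Subgroup.normalizer (Subgroup.zpowers y : Set G))) := by
    rw [htop]
    exact Subgroup.mem_top _
  rw [← SetLike.mem_coe, Subgroup.mul_normal] at hmem
  obtain ⟨x', hx', c', hc', hxc⟩ := Set.mem_mul.1 hmem
  refine ⟨(x' : G), Subgroup.mem_subgroupOf.1 hx', ?_⟩
  have hc'' : (c' : G) ∈ Subgroup.centralizer (Subgroup.zpowers y : Set G) :=
    Subgroup.mem_subgroupOf.1 hc'
  have hcy : y * (c' : G) = (c' : G) * y :=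
    Subgroup.mem_centralizer_iff.1 hc'' y (Subgroup.mem_zpowers y)
  have hgx : g = (x' : G) * (c' : G) := by
    have := congrArg Subtype.val hxc
    simpa using this.symm
  rw [hgx, mul_inv_rev]
  have h5 : (c' : G) * y * (c' : G)⁻¹ = y := by rw [← hcy, mul_inv_cancel_right]
  calc (x' : G) * y * (x' : G)⁻¹ = (x' : G) * ((c' : G) * y * (c' : G)⁻¹) * (x' : G)⁻¹ := by rw [h5]
    _ = (x' : G) * (c' : G) * y * ((c' : G)⁻¹ * (x' : G)⁻¹) := by simp only [mul_assoc]

/-- PK-GRP3: `P ∩ C_G(y)` is a Sylow 2-subgroup of `C_G(y)` for `1 ≠ y ∈ ⟨σ⟩`. -/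
theorem DL.card_inf_centralizer (h : DL P σ N) {y : G} (hy : y ∈ Subgroup.zpowers σ) (hy1 : y ≠ 1) :
    Nat.card ↥((P : Subgroup G) ⊓ Subgroup.centralizer ({y} : Set G)) =
      2 ^ (Nat.card ↥(Subgroup.centralizer ({y} : Set G))).factorization 2 := by
  have _i2 : Fact (Nat.Prime 2) := ⟨Nat.prime_two⟩
  have _ := hy1
  by_cases hy2 : y * y = 1
  · -- `P ≤ C_G(y)`
    have hle := h.le_centralizer_of_sq hy hy2
    rw [inf_eq_left.2 hle, P.card_eq_multiplicity]
    congr 1
    apply le_antisymm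
    · have h1 : Nat.card (P : Subgroup G) ∣ Nat.card ↥(Subgroup.centralizer ({y} : Set G)) :=
        Subgroup.card_dvd_of_le hle
      rw [P.card_eq_multiplicity] at h1
      exact (Nat.Prime.pow_dvd_iff_le_factorization Nat.prime_two Nat.card_pos.ne').1 h1
    · exact (Nat.factorization_le_iff_dvd Nat.card_pos.ne' Nat.card_pos.ne').2
        (Subgroup.card_subgroup_dvd_card _) 2
  · -- `P ∩ C_G(y) = ⟨σ⟩` and the Sylow 2-subgroups of `C_G(y)` have order `N`
    rw [h.inf_centralizer_eq hy hy2, Nat.card_zpowers, h.ord]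
    have hRC : Subgroup.zpowers σ ≤ Subgroup.centralizer ({y} : Set G) :=
      DL.zpowers_le_centralizer hy
    have hRp : IsPGroup 2 ((Subgroup.zpowers σ).subgroupOf (Subgroup.centralizer ({y} : Set G))) := by
      have h1 : IsPGroup 2 (Subgroup.zpowers σ) := P.2.to_le h.zpowers_le
      exact h1.comap_subtype
    obtain ⟨S, hS⟩ := hRp.exists_le_sylow
    have hScard := S.card_eq_multiplicity
    rw [← hScard]
    -- `|S| ≥ N`
    have hge : N ≤ Nat.card S := by
      have h1 : Nat.card ((Subgroup.zpowers σ).subgroupOf (Subgroup.centralizer ({y} : Set G))) ∣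
          Nat.card (S : Subgroup (Subgroup.centralizer ({y} : Set G))) := Subgroup.card_dvd_of_le hS
      have h2 : Nat.card ((Subgroup.zpowers σ).subgroupOf (Subgroup.centralizer ({y} : Set G))) = N := by
        rw [Nat.card_congr (Subgroup.subgroupOfEquivOfLe hRC).toEquiv, Nat.card_zpowers, h.ord]
      rw [h2] at h1
      exact Nat.le_of_dvd Nat.card_pos h1
    -- `|S| ≤ N`
    have hSp : IsPGroup 2 ((S : Subgroup (Subgroup.centralizer ({y} : Set G))).map
        (Subgroup.centralizer ({y} : Set G)).subtype) := S.2.map _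
    obtain ⟨Q, hQ⟩ := hSp.exists_le_sylow
    obtain ⟨k, hk⟩ := MulAction.exists_smul_eq G P Q
    -- membership in `Q = k • P`
    have hQmem : ∀ s : G, s ∈ (Q : Subgroup G) → k⁻¹ * s * k ∈ (P : Subgroup G) := by
      intro s hs
      rw [← hk, Sylow.smul_def, Sylow.pointwise_smul_def,
        Subgroup.mem_pointwise_smul_iff_inv_smul_mem] at hs
      simpa [MulAut.smul_def, MulAut.conj_apply] using hs
    have hyC : y ∈ Subgroup.centralizer ({y} : Set G) := hRC hy
    have hyS : y ∈ (S : Subgroup (Subgroup.centralizer ({y} : Set G))).map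
        (Subgroup.centralizer ({y} : Set G)).subtype := by
      refine Subgroup.mem_map.2 ⟨⟨y, hyC⟩, hS ?_, rfl⟩
      exact Subgroup.mem_subgroupOf.2 hy
    have hy''P : k⁻¹ * y * k ∈ (P : Subgroup G) := hQmem y (hQ hyS)
    have hy''2 : (k⁻¹ * y * k) * (k⁻¹ * y * k) ≠ 1 := by
      intro h1
      apply hy2
      have h2 : k⁻¹ * (y * y) * k = 1 := by
        rw [← h1]
        simp only [mul_assoc, mul_inv_cancel_left]
      have h3 : y * y = k * 1 * k⁻¹ := by
        rw [← h2]
        simp only [mul_assoc, mul_inv_cancel_left, mul_inv_cancel, mul_one]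
      rw [h3, mul_one, mul_inv_cancel]
    have hy''R : k⁻¹ * y * k ∈ Subgroup.zpowers σ := h.mem_zpowers_of_sq_ne hy''P hy''2
    -- the conjugate of `S` lies in `⟨σ⟩`
    have hconj : ∀ s : S, k⁻¹ * ((s : Subgroup.centralizer ({y} : Set G)) : G) * k ∈
        Subgroup.zpowers σ := by
      intro s
      have hsQ : ((s : Subgroup.centralizer ({y} : Set G)) : G) ∈ (Q : Subgroup G) :=
        hQ (Subgroup.mem_map.2 ⟨s.1, s.2, rfl⟩)
      have h1 := hQmem _ hsQ
      have h2 : k⁻¹ * ((s : Subgroup.centralizer ({y} : Set G)) : G) * k ∈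
          (P : Subgroup G) ⊓ Subgroup.centralizer ({k⁻¹ * y * k} : Set G) := by
        refine Subgroup.mem_inf.2 ⟨h1, ?_⟩
        rw [Subgroup.mem_centralizer_iff]
        intro z hz
        rw [Set.mem_singleton_iff] at hz
        subst hz
        have hsc : y * ((s : Subgroup.centralizer ({y} : Set G)) : G) =
            ((s : Subgroup.centralizer ({y} : Set G)) : G) * y :=
          Subgroup.mem_centralizer_iff.1 (s : Subgroup.centralizer ({y} : Set G)).2 y
            (Set.mem_singleton y)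
        calc k⁻¹ * y * k * (k⁻¹ * ((s : Subgroup.centralizer ({y} : Set G)) : G) * k)
            = k⁻¹ * (y * ((s : Subgroup.centralizer ({y} : Set G)) : G)) * k := by
              simp only [mul_assoc, mul_inv_cancel_left]
          _ = k⁻¹ * (((s : Subgroup.centralizer ({y} : Set G)) : G) * y) * k := by rw [hsc]
          _ = k⁻¹ * ((s : Subgroup.centralizer ({y} : Set G)) : G) * k * (k⁻¹ * y * k) := by
              simp only [mul_assoc, mul_inv_cancel_left]
      rw [h.inf_centralizer_eq hy''R hy''2] at h2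
      exact h2
    have hle : Nat.card S ≤ N := by
      have hinj : Function.Injective (fun s : S =>
          (⟨k⁻¹ * ((s : Subgroup.centralizer ({y} : Set G)) : G) * k, hconj s⟩ :
            Subgroup.zpowers σ)) := by
        intro s s' hss
        have h1 := congrArg Subtype.val hss
        simp only at h1
        have h2 : ((s : Subgroup.centralizer ({y} : Set G)) : G) =
            ((s' : Subgroup.centralizer ({y} : Set G)) : G) :=
          mul_left_cancel (mul_right_cancel h1)
        exact Subtype.ext (Subtype.ext h2)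
      have h3 := Nat.card_le_card_of_injective _ hinj
      rw [Nat.card_zpowers, h.ord] at h3
      exact h3
    exact le_antisymm hge hle

/-- PK-GRP4: `C_G(y)` has a normal 2-complement for `1 ≠ y ∈ ⟨σ⟩`. -/
theorem DL.npc (h : DL P σ N) {y : G} (hy : y ∈ Subgroup.zpowers σ) (hy1 : y ≠ 1) :
    ∃ k : ℕ, (Cfsg.pPrimeCore 2 ↥(Subgroup.centralizer ({y} : Set G))).index = 2 ^ k := by
  have _i2 : Fact (Nat.Prime 2) := ⟨Nat.prime_two⟩
  have hRC : Subgroup.zpowers σ ≤ Subgroup.centralizer ({y} : Set G) :=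
    DL.zpowers_le_centralizer hy
  have hyC : y ∈ Subgroup.centralizer ({y} : Set G) := hRC hy
  -- the Sylow 2-subgroup `P ∩ C` of `C`
  have hcardT : Nat.card ((((P : Subgroup G) ⊓ Subgroup.centralizer ({y} : Set G)).subgroupOf
      (Subgroup.centralizer ({y} : Set G)))) =
      2 ^ (Nat.card ↥(Subgroup.centralizer ({y} : Set G))).factorization 2 := by
    rw [Nat.card_congr (Subgroup.subgroupOfEquivOfLe inf_le_right).toEquiv]
    exact h.card_inf_centralizer hy hy1
  have hTmem : ∀ x : Subgroup.centralizer ({y} : Set G),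
      x ∈ ((Sylow.ofCard _ hcardT : Sylow 2 (Subgroup.centralizer ({y} : Set G))) :
        Subgroup (Subgroup.centralizer ({y} : Set G))) ↔
        (x : G) ∈ (P : Subgroup G) := by
    intro x
    rw [Sylow.coe_ofCard, Subgroup.mem_subgroupOf, Subgroup.mem_inf]
    exact ⟨fun hx => hx.1, fun hx => ⟨hx, x.2⟩⟩
  have hRmem : ∀ x : Subgroup.centralizer ({y} : Set G),
      x ∈ (Subgroup.zpowers σ).subgroupOf (Subgroup.centralizer ({y} : Set G)) ↔
        (x : G) ∈ Subgroup.zpowers σ := fun x => Subgroup.mem_subgroupOf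
  -- the central involution
  have hyP : y ∈ (P : Subgroup G) := h.zpowers_le hy
  obtain ⟨j, hj⟩ : ∃ j, orderOf y = 2 ^ j := by
    obtain ⟨j, hj⟩ := P.2 ⟨y, hyP⟩
    have h1 : y ^ 2 ^ j = 1 := by
      have := congrArg Subtype.val hj
      simpa using this
    obtain ⟨e, -, he⟩ := (Nat.dvd_prime_pow Nat.prime_two).1 (orderOf_dvd_of_pow_eq_one h1)
    exact ⟨e, he⟩
  have hj0 : j ≠ 0 := by
    intro h0
    rw [h0, pow_zero, orderOf_eq_one_iff] at hj
    exact hy1 hj
  have hto : orderOf (y ^ 2 ^ (j - 1)) = 2 := by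
    rw [orderOf_pow_of_dvd (by positivity) (by rw [hj]; exact pow_dvd_pow 2 (by omega)), hj]
    have h1 : 2 ^ j = 2 ^ (j - 1) * 2 := by
      rw [← pow_succ]
      congr 1
      omega
    rw [h1, Nat.mul_div_cancel_left _ (by positivity)]
  have htC : y ^ 2 ^ (j - 1) ∈ Subgroup.centralizer ({y} : Set G) := Subgroup.pow_mem _ hyC _
  have hnpc : Cfsg.HasNormalPComplement 2 ↥(Subgroup.centralizer ({y} : Set G)) := by
    apply Cfsg.Agent.Lib.Helper1.hasNormalPComplement_of_dihedralLike_central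
      (Sylow.ofCard _ hcardT) ((Subgroup.zpowers σ).subgroupOf (Subgroup.centralizer ({y} : Set G)))
      ?_ ?_ ?_ ?_ ⟨y ^ 2 ^ (j - 1), htC⟩ ?_ ?_
    · intro x hx
      rw [hTmem]
      exact h.zpowers_le ((hRmem x).1 hx)
    · exact (Subgroup.subgroupOfEquivOfLe hRC).isCyclic.2 inferInstance
    · intro x hx x' hx' hxR hx'R
      rw [hTmem] at hx hx'
      rw [hRmem] at hxR hx'R ⊢
      rw [Subgroup.coe_mul]
      by_contra hprod
      have hxx'P : (x : G) * (x' : G) ∈ (P : Subgroup G) := Subgroup.mul_mem _ hx hx'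
      have h1 := (h.inv _ hxx'P hprod).2
      have h2 := (h.inv _ hx hxR).2
      have h3 := (h.inv _ hx' hx'R).2
      have h4 : (x : G) * (x' : G) * σ * ((x : G) * (x' : G))⁻¹ = σ := by
        calc (x : G) * (x' : G) * σ * ((x : G) * (x' : G))⁻¹
            = (x : G) * ((x' : G) * σ * (x' : G)⁻¹) * (x : G)⁻¹ := by
              rw [mul_inv_rev]; simp only [mul_assoc]
          _ = (x : G) * σ⁻¹ * (x : G)⁻¹ := by rw [h3]
          _ = ((x : G) * σ * (x : G)⁻¹)⁻¹ := by
              rw [mul_inv_rev, mul_inv_rev, inv_inv, mul_assoc]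
          _ = σ := by rw [h2, inv_inv]
      rw [h4] at h1
      apply h.sq_ne_one
      calc σ * σ = σ * σ⁻¹ := by rw [← h1]
        _ = 1 := mul_inv_cancel σ
    · intro x hx hxR
      rw [hTmem] at hx
      rw [hRmem] at hxR
      apply Subtype.ext
      rw [Subgroup.coe_mul]
      exact (h.inv _ hx hxR).1
    · rw [Subgroup.mem_center_iff]
      intro c
      apply Subtype.ext
      rw [Subgroup.coe_mul, Subgroup.coe_mul]
      have hcy : y * (c : G) = (c : G) * y :=
        Subgroup.mem_centralizer_iff.1 c.2 y (Set.mem_singleton y)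
      have hcomm : Commute (c : G) y := hcy.symm
      exact (hcomm.pow_right _).eq
    · rw [← Subgroup.orderOf_coe]
      exact hto
  obtain ⟨P', N', hN', hcompl⟩ := hnpc
  obtain ⟨k, hk⟩ := P'.2.exists_card_eq
  exact ⟨k, by rw [Cfsg.Agent.Lib.Helper8.pPrimeCore_index_of_isComplement' P' N' hN' hcompl, hk]⟩

end GRP

end Cfsg.Agent.Lib.Helper8.DihB
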