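import Mathlib
import Cfsg.Agent.Lib.Lead.TwoAdic

set_option autoImplicit false

namespace Cfsg.Agent.Lib.Helper1

open Cfsg.Agent.Lib.Lead

theorem two_pow_pred_ne_zero (m : ℕ) (hm : 1 ≤ m) : (2 : ZMod (2 ^ m)) ^ (m - 1) ≠ 0 := by
  intro h
  have h1 : ((2 ^ (m - 1) : ℕ) : ZMod (2 ^ m)) = 0 := by push_cast; exact h
  rw [ZMod.natCast_eq_zero_iff] at h1
  have h2 := Nat.le_of_dvd (by positivity) h1
  have h3 : 2 ^ (m - 1) < 2 ^ m := Nat.pow_lt_pow_right (by norm_num) (by omega)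
  omega

theorem two_pow_pred_add_two_pow_pred (m : ℕ) (hm : 1 ≤ m) :
    (2 : ZMod (2 ^ m)) ^ (m - 1) + 2 ^ (m - 1) = 0 := by
  have h : (2 : ZMod (2 ^ m)) ^ (m - 1) + 2 ^ (m - 1) = 2 ^ (m - 1 + 1) := by ring
  rw [h]
  exact zmod_two_pow_of_le m (by omega)

/-- reduction mod 8 -/
noncomputable def cast8 (m : ℕ) (hm : 3 ≤ m) : ZMod (2 ^ m) →+* ZMod 8 :=
  ZMod.castHom (show 8 ∣ 2 ^ m from by
    have : (8 : ℕ) = 2 ^ 3 := by norm_num
    rw [this]; exact pow_dvd_pow 2 hm) (ZMod 8)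

theorem four_mul_two_pow (j : ℕ) : (4 : ZMod 8) * 2 ^ j = 4 ∨ (4 : ZMod 8) * 2 ^ j = 0 := by
  induction j with
  | zero => left; simp
  | succ j ih =>
    right
    rw [pow_succ, ← mul_assoc]
    rcases ih with h | h <;> rw [h] <;> decide

theorem cast8_two_pow_pred (m : ℕ) (hm : 3 ≤ m) :
    cast8 m hm ((2 : ZMod (2 ^ m)) ^ (m - 1)) = 4 ∨ cast8 m hm ((2 : ZMod (2 ^ m)) ^ (m - 1)) = 0 := by
  have h1 : cast8 m hm ((2 : ZMod (2 ^ m)) ^ (m - 1)) = (4 : ZMod 8) * 2 ^ (m - 3) := by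
    rw [map_pow, map_ofNat]
    have : m - 1 = 2 + (m - 3) := by omega
    rw [this, pow_add]
    norm_num
  rw [h1]
  exact four_mul_two_pow _

theorem zmod8_unit_sq : ∀ x y : ZMod 8, x * y = 1 → x * x = 1 := by decide

/-- a unit `r` of `ZMod (2 ^ m)` with `r ^ 2 ≠ 1` has `1 + 2 ^ (m - 1)` among its powers -/
theorem exists_pow_eq_one_add (m : ℕ) (hm : 3 ≤ m) (r r' : ZMod (2 ^ m)) (hr : r * r' = 1)
    (hr2 : r * r ≠ 1) : ∃ j : ℕ, r ^ j = 1 + 2 ^ (m - 1) := by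
  classical
  have hex : ∃ j : ℕ, r ^ (2 ^ j) = 1 := by
    refine ⟨m - 1, ?_⟩
    have hr' : r' * r = 1 := by rw [mul_comm]; exact hr
    let u : (ZMod (2 ^ m))ˣ := ⟨r, r', hr, hr'⟩
    have h1 := ZMod.pow_totient u
    rw [Nat.totient_prime_pow Nat.prime_two (by omega : 0 < m)] at h1
    have h2 := congrArg Units.val h1
    simpa [u] using h2
  set j0 := Nat.find hex with hj0
  have hj0s : r ^ (2 ^ j0) = 1 := Nat.find_spec hex
  have hmin : ∀ i < j0, r ^ (2 ^ i) ≠ 1 := fun i hi => Nat.find_min hex hi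
  have hr1 : r ≠ 1 := by
    rintro rfl
    exact hr2 (one_mul 1)
  have h0 : j0 ≠ 0 := by
    intro h
    rw [h, pow_zero, pow_one] at hj0s
    exact hr1 hj0s
  have h1 : j0 ≠ 1 := by
    intro h
    rw [h, pow_one, pow_two] at hj0s
    exact hr2 hj0s
  obtain ⟨j, hj⟩ : ∃ j, j0 = j + 2 := ⟨j0 - 2, by omega⟩
  set w := r ^ (2 ^ j) with hw
  set u := r ^ (2 ^ (j + 1)) with hu
  have huw : u = w * w := by rw [hu, hw, pow_succ, pow_mul, pow_two]
  have huu : u * u = 1 := by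
    rw [hu, ← pow_two, ← pow_mul, ← pow_succ, ← hj]; exact hj0s
  have hu1 : u ≠ 1 := hmin (j + 1) (by omega)
  have hwunit : w * r' ^ (2 ^ j) = 1 := by rw [hw, ← mul_pow, hr, one_pow]
  have hc8 : cast8 m hm u = 1 := by
    rw [huw, map_mul]
    apply zmod8_unit_sq _ (cast8 m hm (r' ^ (2 ^ j)))
    rw [← map_mul, hwunit, map_one]
  refine ⟨2 ^ (j + 1), ?_⟩
  rcases sq_eq_one_cases m (by omega) u huu with hA | hB
  · rcases two_mul_eq_zero_cases m (by omega) (u - 1) hA with h4 | h4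
    · exact absurd (sub_eq_zero.mp h4) hu1
    · rw [← hu]; rw [← h4]; ring
  · exfalso
    rcases two_mul_eq_zero_cases m (by omega) (u + 1) hB with h4 | h4
    · have h5 : u = -1 := eq_neg_of_add_eq_zero_left h4
      rw [h5, map_neg, map_one] at hc8
      exact absurd hc8 (by decide)
    · have h5 : u = 2 ^ (m - 1) - 1 := by rw [← h4]; ring
      rw [h5, map_sub, map_one] at hc8
      rcases cast8_two_pow_pred m hm with h6 | h6 <;> rw [h6] at hc8 <;>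
        exact absurd hc8 (by decide)

end Cfsg.Agent.Lib.Helper1
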