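import Mathlib
import Cfsg.Agent.Lib.Helper1.TwoAdicUnits
import Cfsg.Agent.Lib.Lead.QuatRecog
import Cfsg.Agent.Lib.Lead.UniqueOrderP1
import Cfsg.Agent.Lib.Lead.Nilpotent
import Cfsg.Agent.Lib.Lead.NormalRankTwo
import Cfsg.Agent.Lib.Lead.GenCentralizers

set_option autoImplicit false

namespace Cfsg.Agent.Lib.Helper1

open Cfsg.Agent.Lib.Lead

/-- the four-group generated by two commuting involutions -/
def fourOf {G : Type*} [Group G] (a b : G) (ha : a * a = 1) (hb : b * b = 1) (hab : a * b = b * a) :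
    Subgroup G where
  carrier := {g | g = 1 ∨ g = a ∨ g = b ∨ g = a * b}
  one_mem' := Or.inl rfl
  mul_mem' := by
    have e1 : a * (a * b) = b := by rw [← mul_assoc, ha, one_mul]
    have e2 : b * (a * b) = a := by rw [← mul_assoc, ← hab, mul_assoc, hb, mul_one]
    have e3 : a * b * a = b := by rw [mul_assoc, ← hab, e1]
    have e4 : a * b * b = a := by rw [mul_assoc, hb, mul_one]
    have e5 : a * b * (a * b) = 1 := by rw [mul_assoc, e2, ha]
    rintro x y (rfl | rfl | rfl | rfl) (rfl | rfl | rfl | rfl)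
    · left; rw [one_mul]
    · right; left; rw [one_mul]
    · right; right; left; rw [one_mul]
    · right; right; right; rw [one_mul]
    · right; left; rw [mul_one]
    · left; exact ha
    · right; right; right; rfl
    · right; right; left; exact e1
    · right; right; left; rw [mul_one]
    · right; right; right; exact hab.symm
    · left; exact hb
    · right; left; exact e2
    · right; right; right; rw [mul_one]
    · right; right; left; exact e3
    · right; left; exact e4
    · left; exact e5
  inv_mem' := by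
    have i1 : a⁻¹ = a := inv_eq_of_mul_eq_one_left ha
    have i2 : b⁻¹ = b := inv_eq_of_mul_eq_one_left hb
    rintro x (rfl | rfl | rfl | rfl)
    · left; exact inv_one
    · right; left; exact i1
    · right; right; left; exact i2
    · right; right; right; rw [mul_inv_rev, i1, i2, hab]

theorem mem_fourOf {G : Type*} [Group G] (a b : G) (ha : a * a = 1) (hb : b * b = 1)
    (hab : a * b = b * a) (g : G) :
    g ∈ fourOf a b ha hb hab ↔ g = 1 ∨ g = a ∨ g = b ∨ g = a * b := Iff.rfl

theorem sq_eq_one_of_mem_fourOf {G : Type*} [Group G] (a b : G) (ha : a * a = 1) (hb : b * b = 1)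
    (hab : a * b = b * a) (g : G) (hg : g ∈ fourOf a b ha hb hab) : g ^ 2 = 1 := by
  rw [pow_two]
  rcases hg with rfl | rfl | rfl | rfl
  · rw [one_mul]
  · exact ha
  · exact hb
  · rw [mul_assoc, ← mul_assoc b, ← hab, mul_assoc, hb, mul_one, ha]

theorem card_fourOf {G : Type*} [Group G] (a b : G) (ha : a * a = 1) (hb : b * b = 1)
    (hab : a * b = b * a) (ha1 : a ≠ 1) (hb1 : b ≠ 1) (hne : a ≠ b) :
    Nat.card ↥(fourOf a b ha hb hab) = 4 := by
  have hab1 : a * b ≠ 1 := by
    intro h
    apply hne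
    have : a = b⁻¹ := eq_inv_of_mul_eq_one_left h
    rw [this]; exact inv_eq_of_mul_eq_one_left hb
  have haab : a ≠ a * b := by
    intro h; apply hb1
    have := mul_left_cancel (a := a) (b := 1) (c := b) (by rw [mul_one]; exact h)
    exact this.symm
  have hbab : b ≠ a * b := by
    intro h; apply ha1
    have := mul_right_cancel (a := 1) (b := b) (c := a) (by rw [one_mul]; exact h)
    exact this.symm
  let f : Fin 4 → ↥(fourOf a b ha hb hab) :=
    ![⟨1, Or.inl rfl⟩, ⟨a, Or.inr (Or.inl rfl)⟩, ⟨b, Or.inr (Or.inr (Or.inl rfl))⟩,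
      ⟨a * b, Or.inr (Or.inr (Or.inr rfl))⟩]
  have hf : Function.Bijective f := by
    constructor
    · intro i j hij
      have hij' := congrArg Subtype.val hij
      fin_cases i <;> fin_cases j <;> simp [f] at hij' ⊢ <;>
        first
          | exact ha1 hij' | exact ha1 hij'.symm | exact hb1 hij' | exact hb1 hij'.symm
          | exact hab1 hij' | exact hab1 hij'.symm | exact hne hij' | exact hne hij'.symm
    · rintro ⟨g, hg⟩
      rcases hg with hg | hg | hg | hg
      · exact ⟨0, Subtype.ext hg.symm⟩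
      · exact ⟨1, Subtype.ext hg.symm⟩
      · exact ⟨2, Subtype.ext hg.symm⟩
      · exact ⟨3, Subtype.ext hg.symm⟩
  rw [← Nat.card_congr (Equiv.ofBijective f hf), Nat.card_fin]

theorem units_small (m : ℕ) (hm : m ≤ 2) (x y : ZMod (2 ^ m)) (h : x * y = 1) : x = 1 ∨ x = -1 := by
  interval_cases m
  · revert x y; decide
  · revert x y; decide
  · revert x y; decide


/-- A normal abelian non-cyclic subgroup of a `2`-group gives a normal four-group. -/
theorem exists_normal_four_of_not_cyclic {G : Type*} [Group G] [Finite G] (hG : IsPGroup 2 G)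
    (A : Subgroup G) (hAn : A.Normal) (hAc : IsMulCommutative A) (hnc : ¬ IsCyclic A) :
    ∃ V : Subgroup G, V.Normal ∧ V ≤ A ∧ Nat.card V = 4 ∧ ∀ v ∈ V, v ^ 2 = 1 := by
  classical
  haveI : Fact (Nat.Prime 2) := ⟨Nat.prime_two⟩
  open scoped IsMulCommutative in
  obtain ⟨q, hq, E', hE'card, hE'exp⟩ := exists_elementary_abelian_sq hnc
  have hq2 : q = 2 := by
    obtain ⟨k, hk⟩ := IsPGroup.iff_card.mp hG
    have h1 : q ∣ Nat.card G := by
      have h2 : q ∣ Nat.card E' := by rw [hE'card, sq]; exact dvd_mul_right q q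
      exact (h2.trans (Subgroup.card_subgroup_dvd_card E')).trans (Subgroup.card_subgroup_dvd_card A)
    rw [hk] at h1
    exact (Nat.prime_dvd_prime_iff_eq hq Nat.prime_two).mp (hq.dvd_of_dvd_pow h1)
  subst hq2
  -- the subgroup of elements of `A` with square one
  let Ω : Subgroup G :=
    { carrier := {x | x ∈ A ∧ x ^ 2 = 1}
      one_mem' := ⟨A.one_mem, one_pow 2⟩
      mul_mem' := by
        rintro x y ⟨hx, hx2⟩ ⟨hy, hy2⟩
        refine ⟨A.mul_mem hx hy, ?_⟩
        have hc : x * y = y * x := by
          have := mul_comm (⟨x, hx⟩ : A) ⟨y, hy⟩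
          exact congrArg Subtype.val this
        have hc' : Commute x y := hc
        rw [hc'.mul_pow, hx2, hy2, one_mul]
      inv_mem' := by
        rintro x ⟨hx, hx2⟩
        exact ⟨A.inv_mem hx, by rw [inv_pow, hx2, inv_one]⟩ }
  have hΩn : Ω.Normal := by
    refine ⟨fun x hx g => ?_⟩
    refine ⟨hAn.conj_mem x hx.1 g, ?_⟩
    rw [conj_pow, hx.2, mul_one, mul_inv_cancel]
  have hΩexp : ∀ v ∈ Ω, v ^ 2 = 1 := fun v hv => hv.2
  have hΩA : Ω ≤ A := fun v hv => hv.1
  have hle : E'.map A.subtype ≤ Ω := by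
    rintro _ ⟨e, he, rfl⟩
    refine ⟨e.2, ?_⟩
    have := hE'exp e he
    have h2 := congrArg Subtype.val this
    simpa using h2
  have hcard : 2 < Nat.card Ω := by
    have h1 : Nat.card (E'.map A.subtype) = 4 := by
      rw [Subgroup.card_map_of_injective A.subtype_injective, hE'card]; norm_num
    have h2 := Subgroup.card_le_of_le hle
    omega
  obtain ⟨W, hWn, hWle, -, hWexp, hWcard⟩ := exists_normal_sq_le hG Ω hΩexp hcard
  exact ⟨W, hWn, hWle.trans hΩA, by rw [hWcard]; norm_num, hWexp⟩

end Cfsg.Agent.Lib.Helper1
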