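import Mathlib
import Cfsg.Agent.Lib.Helper1.NoNormalFour
import Cfsg.Agent.Lib.Lead.CyclicP

set_option autoImplicit false

namespace Cfsg.Agent.Lib.Helper1

open Cfsg.Agent.Lib.Lead
open scoped IsMulCommutative

/-- **Theorem T.**  A `2`-group with no normal four-group has a cyclic normal self-centralizing
subgroup of index at most `2`. -/
theorem exists_cyclic_index_le_two {G : Type*} [Group G] [Finite G] (hG : IsPGroup 2 G)
    (hV : ∀ V : Subgroup G, V.Normal → Nat.card V = 4 → (∀ v ∈ V, v ^ 2 = 1) → False) :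
    ∃ A : Subgroup G, A.Normal ∧ IsCyclic A ∧ A.index ≤ 2 ∧
      Subgroup.centralizer (A : Set G) = A := by
  classical
  haveI : Group.IsNilpotent G := hG.isNilpotent
  obtain ⟨A, hAn, hAc, hmax⟩ := exists_max_normal_abelian G
  have := hAn
  have := hAc
  have hCA : Subgroup.centralizer (A : Set G) = A := centralizer_eq_of_max_abelian_normal A hmax
  have hAcyc : IsCyclic A := by
    by_contra hnc
    obtain ⟨V, hVn, -, hVc, hVe⟩ := exists_normal_four_of_not_cyclic hG A hAn hAc hnc
    exact hV V hVn hVc hVe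
  refine ⟨A, hAn, hAcyc, ?_, hCA⟩
  -- the order of `A`
  obtain ⟨m, hm⟩ := IsPGroup.iff_card.mp (hG.to_subgroup A)
  haveI : NeZero (2 ^ m) := ⟨by positivity⟩
  obtain ⟨a', ha'⟩ := IsCyclic.exists_generator (α := A)
  set a : G := (a' : G) with ha
  have haA : a ∈ A := a'.2
  have hao : orderOf a = 2 ^ m := by
    rw [ha, Subgroup.orderOf_coe, orderOf_eq_card_of_forall_mem_zpowers ha', hm]
  have hAa : Subgroup.zpowers a = A := by
    apply Subgroup.eq_of_le_of_card_ge (Subgroup.zpowers_le.mpr haA)
    rw [Nat.card_zpowers, hao, hm]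
  have hapow : a ^ (2 ^ m) = 1 := by rw [← hao]; exact pow_orderOf_eq_one a
  set e : ZMod (2 ^ m) → G := fun i => (zmodPow (2 ^ m) a hapow i).toMul with he
  have he_add : ∀ i j, e (i + j) = e i * e j := fun i j => zmodPow_add _ a hapow i j
  have he_int : ∀ j : ℤ, e (j : ZMod (2 ^ m)) = a ^ j := fun j => zmodPow_intCast _ a hapow j
  have he_nat : ∀ j : ℕ, e (j : ZMod (2 ^ m)) = a ^ j := fun j => zmodPow_natCast _ a hapow j
  have he_neg : ∀ i, e (-i) = (e i)⁻¹ := fun i => zmodPow_neg _ a hapow i
  have he_zero : e 0 = 1 := by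
    have := he_nat 0
    rwa [Nat.cast_zero, pow_zero] at this
  have he_one : e 1 = a := by
    have := he_nat 1
    rwa [Nat.cast_one, pow_one] at this
  have he_inj : ∀ i j, e i = e j → i = j := by
    intro i j hij
    have h1 : e (i - j) = 1 := by
      rw [sub_eq_add_neg, he_add, he_neg, hij, mul_inv_cancel]
    have := zmodPow_eq_one (2 ^ m) a hapow hao (i - j) h1
    exact sub_eq_zero.mp this
  have he_mem : ∀ i, e i ∈ A := by
    intro i
    rw [← hAa]
    exact zmodPow_mem_zpowers _ a hapow i
  have he_surj : ∀ c ∈ A, ∃ i, e i = c := by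
    intro c hc
    rw [← hAa] at hc
    obtain ⟨j, rfl⟩ := Subgroup.mem_zpowers_iff.mp hc
    exact ⟨(j : ZMod (2 ^ m)), he_int j⟩
  have he_eq_one : ∀ i, e i = 1 → i = 0 := fun i hi => he_inj i 0 (by rw [hi, he_zero])
  -- the conjugation exponent
  have hKex : ∀ s : G, ∃ k : ZMod (2 ^ m), ∀ i, s * e i * s⁻¹ = e (k * i) := by
    intro s
    have h1 : s * a * s⁻¹ ∈ A := hAn.conj_mem a haA s
    obtain ⟨k, hk⟩ := he_surj _ h1
    refine ⟨k, fun i => ?_⟩
    obtain ⟨j, rfl⟩ := ZMod.intCast_surjective i
    rw [he_int]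
    have h2 : s * a ^ j * s⁻¹ = (s * a * s⁻¹) ^ j := by
      have := map_zpow (MulAut.conj s) a j
      simpa [MulAut.conj_apply] using this
    rw [h2, ← hk]
    obtain ⟨l, rfl⟩ := ZMod.intCast_surjective k
    rw [he_int, ← zpow_mul, ← he_int]
    push_cast
    rfl
  choose K hK using hKex
  have hK1 : ∀ s, s * a * s⁻¹ = e (K s) := by
    intro s
    have := hK s 1
    rwa [he_one, mul_one] at this
  have hKmul : ∀ s t, K (s * t) = K s * K t := by
    intro s t
    apply he_inj
    rw [← hK1, ← mul_one (K t), ← hK, ← hK, he_one]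
    group
  have hKone : K 1 = 1 := by
    apply he_inj
    rw [← hK1, he_one]
    group
  have hKmem : ∀ s, s ∈ A → K s = 1 := by
    intro s hs
    apply he_inj
    rw [← hK1, he_one]
    have hc : s * a = a * s := by
      have := mul_comm (⟨s, hs⟩ : A) ⟨a, haA⟩
      exact congrArg Subtype.val this
    rw [hc, mul_inv_cancel_right]
  have hKker : ∀ s, K s = 1 → s ∈ A := by
    intro s hs
    rw [← hCA]
    rw [Subgroup.mem_centralizer_iff]
    intro c hc
    obtain ⟨i, rfl⟩ := he_surj c hc
    have := hK s i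
    rw [hs, one_mul] at this
    conv_lhs => rw [← this]
    rw [inv_mul_cancel_right]
  have hKinv : ∀ s, K s * K s⁻¹ = 1 := by
    intro s
    rw [← hKmul, mul_inv_cancel, hKone]
  have hKinv' : ∀ s, K s⁻¹ * K s = 1 := by
    intro s
    rw [← hKmul, inv_mul_cancel, hKone]
  have hKpow : ∀ (s : G) (j : ℕ), K (s ^ j) = K s ^ j := by
    intro s j
    induction j with
    | zero => rw [pow_zero, pow_zero, hKone]
    | succ j ih => rw [pow_succ, pow_succ, hKmul, ih]
  -- reduce to a statement about cosets
  suffices hfin : ∀ s t : G, s ∉ A → t ∉ A → s⁻¹ * t ∈ A by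
    by_cases htop : A = ⊤
    · rw [htop, Subgroup.index_top]; norm_num
    · obtain ⟨s, hs⟩ : ∃ s, s ∉ A := by
        by_contra hall
        push Not at hall
        exact htop (eq_top_iff.mpr fun x _ => hall x)
      have : A.index = 2 := by
        rw [Subgroup.index_eq_two_iff]
        refine ⟨s⁻¹, fun b => ?_⟩
        by_cases hb : b ∈ A
        · refine Or.inr ⟨hb, fun h => hs ?_⟩
          have h1 := A.mul_mem (A.inv_mem hb) h
          rw [inv_mul_cancel_left] at h1
          exact (A.inv_mem_iff).mp h1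
        · refine Or.inl ⟨?_, hb⟩
          have h1 := hfin s b hs hb
          have h2 := hAn.conj_mem _ h1 s
          rw [mul_inv_cancel_left] at h2
          exact h2
      omega
  intro s t hs ht
  apply hKker
  rw [hKmul]
  have hs1 : K s ≠ 1 := fun h => hs (hKker s h)
  have ht1 : K t ≠ 1 := fun h => ht (hKker t h)
  by_cases hm2 : m ≤ 2
  · have h1 : K s = -1 := (units_small m hm2 _ _ (hKinv s)).resolve_left hs1
    have h2 : K t = -1 := (units_small m hm2 _ _ (hKinv t)).resolve_left ht1
    have h3 : K s⁻¹ = -1 := by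
      have := hKinv s
      rw [h1] at this
      have h4 : K s⁻¹ = -(-1 * K s⁻¹) := by ring
      rw [h4, this]
    rw [h2, h3]; ring
  · push Not at hm2
    have hm3 : 3 ≤ m := hm2
    set r : ZMod (2 ^ m) := 1 + 2 ^ (m - 1) with hr
    have hP : (2 : ZMod (2 ^ m)) ^ (m - 1) ≠ 0 := two_pow_pred_ne_zero m (by omega)
    have hPP : (2 : ZMod (2 ^ m)) ^ (m - 1) + 2 ^ (m - 1) = 0 :=
      two_pow_pred_add_two_pow_pred m (by omega)
    have hP2 : (2 : ZMod (2 ^ m)) ^ (m - 1) * 2 ^ (m - 1) = 0 := by
      rw [← pow_add]; exact zmod_two_pow_of_le m (by omega)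
    have hP2' : (2 : ZMod (2 ^ m)) * 2 ^ (m - 1) = 0 := by
      rw [← pow_succ']; exact zmod_two_pow_of_le m (by omega)
    have hQ : (2 : ZMod (2 ^ m)) * 2 ^ (m - 2) = 2 ^ (m - 1) := by
      rw [← pow_succ']; congr 1; omega
    have hQP : (2 : ZMod (2 ^ m)) ^ (m - 2) * 2 ^ (m - 1) = 0 := by
      rw [← pow_add]; exact zmod_two_pow_of_le m (by omega)
    have hrr : r * r = 1 := by rw [hr]; linear_combination hPP + hP2
    have hr1 : r ≠ 1 := by
      intro h
      apply hP
      have h2 : (1 : ZMod (2 ^ m)) + 2 ^ (m - 1) = 1 + 0 := by rw [add_zero]; exact h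
      exact add_left_cancel h2
    obtain ⟨u', hu'⟩ : ∃ u' : ZMod (2 ^ m), (1 + 2 ^ (m - 2)) * u' = 1 := by
      have h1 : IsUnit (((1 + 2 ^ (m - 2) : ℕ)) : ZMod (2 ^ m)) := by
        rw [ZMod.isUnit_iff_coprime]
        apply Nat.Coprime.pow_right
        rw [Nat.coprime_two_right]
        have : m - 2 = (m - 3) + 1 := by omega
        rw [this, pow_succ]
        exact ⟨2 ^ (m - 3), by ring⟩
      obtain ⟨v, hv⟩ := h1.exists_right_inv
      exact ⟨v, by push_cast at hv; exact hv⟩
    have huP : u' * 2 ^ (m - 1) = 2 ^ (m - 1) := by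
      have h1 : (1 + 2 ^ (m - 2)) * (2 : ZMod (2 ^ m)) ^ (m - 1) = 2 ^ (m - 1) := by
        rw [add_mul, one_mul, hQP, add_zero]
      calc u' * 2 ^ (m - 1) = u' * ((1 + 2 ^ (m - 2)) * 2 ^ (m - 1)) := by rw [h1]
        _ = ((1 + 2 ^ (m - 2)) * u') * 2 ^ (m - 1) := by ring
        _ = 2 ^ (m - 1) := by rw [hu', one_mul]
    -- Claim 1
    have claim1 : ∀ s : G, K s ≠ r := by
      intro s hsr
      have hss : s * s ∈ A := hKker _ (by rw [hKmul, hsr, hrr])
      obtain ⟨c, hc⟩ := he_surj _ hss
      have hrc : r * c = c := by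
        apply he_inj
        rw [← hsr, ← hK, hc]; group
      have hPc : 2 ^ (m - 1) * c = 0 := by
        have h1 : r * c = c + 2 ^ (m - 1) * c := by rw [hr]; ring
        rw [h1] at hrc
        have h2 : c + 2 ^ (m - 1) * c = c + 0 := by rw [add_zero]; exact hrc
        exact add_left_cancel h2
      obtain ⟨d, hd⟩ := even_of_two_pow_mul_eq_zero m (by omega) c hPc
      set x : ZMod (2 ^ m) := -(u' * d) with hx
      have hx0 : (r + 1) * x + c = 0 := by
        rw [hr, hx, hd]
        linear_combination (u' * d) * hQ + (-2 * d) * hu'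
      set t : G := s * e x with ht
      have htt : t * t = 1 := by
        have h1 : t * t = (s * e x * s⁻¹) * (s * s) * e x := by rw [ht]; group
        rw [h1, hK, hsr, ← hc, ← he_add, ← he_add]
        have h2 : r * x + c + x = 0 := by linear_combination hx0
        rw [h2, he_zero]
      have hKt : K t = r := by rw [ht, hKmul, hsr, hKmem _ (he_mem x), mul_one]
      have htA : t ∉ A := fun h => hr1 (by rw [← hKt]; exact hKmem t h)
      set z : G := e (2 ^ (m - 1)) with hz
      have hzz : z * z = 1 := by rw [hz, ← he_add, hPP, he_zero]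
      have hz1 : z ≠ 1 := fun h => hP (he_eq_one _ h)
      have hzA : z ∈ A := he_mem _
      have hzc : ∀ g : G, g * z * g⁻¹ = z := by
        intro g
        have h2 : 2 * (K g * 2 ^ (m - 1)) = 0 := by rw [mul_left_comm, hP2', mul_zero]
        rcases two_mul_eq_zero_cases m (by omega) _ h2 with h3 | h3
        · exfalso
          have h4 : g * z * g⁻¹ = 1 := by rw [hz, hK, h3, he_zero]
          apply hz1
          have h5 : z = g⁻¹ * (g * z * g⁻¹) * g := by group
          rw [h5, h4]; group
        · rw [hz, hK, h3]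
      have hzt : z * t = t * z := by
        have h := hzc t
        calc z * t = (t * z * t⁻¹) * t := by rw [h]
          _ = t * z := by group
      have htc : ∀ g : G, g * t * g⁻¹ = t ∨ g * t * g⁻¹ = z * t := by
        intro g
        set t' := g * t * g⁻¹ with ht'
        have ht't' : t' * t' = 1 := by
          have h1 : t' * t' = g * (t * t) * g⁻¹ := by rw [ht']; group
          rw [h1, htt]; group
        have hKt' : K t' = r := by
          rw [ht', hKmul, hKmul, hKt, mul_comm (K g), mul_assoc, hKinv, mul_one]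
        have hmem : t⁻¹ * t' ∈ A := by
          apply hKker
          rw [hKmul, hKt', ← hKt, hKinv']
        obtain ⟨i, hi⟩ := he_surj _ hmem
        have ht'eq : t' = t * e i := by rw [hi]; group
        have h5 : (r + 1) * i = 0 := by
          apply he_eq_one
          have h6 : e ((r + 1) * i) = t * e i * t⁻¹ * (t * t) * e i := by
            rw [htt, mul_one, hK, hKt, ← he_add]; congr 1; ring
          rw [h6]
          have h7 : t * e i * t⁻¹ * (t * t) * e i = (t * e i) * (t * e i) := by group
          rw [h7, ← ht'eq, ht't']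
        have h6 : 2 * ((1 + 2 ^ (m - 2)) * i) = 0 := by
          have h7 : (r + 1) * i = 2 * ((1 + 2 ^ (m - 2)) * i) := by
            rw [hr]; linear_combination (-i) * hQ
          rw [← h7]; exact h5
        rcases two_mul_eq_zero_cases m (by omega) _ h6 with h7 | h7
        · left
          have h8 : i = 0 := by
            calc i = ((1 + 2 ^ (m - 2)) * u') * i := by rw [hu', one_mul]
              _ = u' * ((1 + 2 ^ (m - 2)) * i) := by ring
              _ = 0 := by rw [h7, mul_zero]
          rw [ht'eq, h8, he_zero, mul_one]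
        · right
          have h8 : i = 2 ^ (m - 1) := by
            calc i = ((1 + 2 ^ (m - 2)) * u') * i := by rw [hu', one_mul]
              _ = u' * ((1 + 2 ^ (m - 2)) * i) := by ring
              _ = 2 ^ (m - 1) := by rw [h7, huP]
          rw [ht'eq, h8, ← hz, hzt]
      have hVn : (fourOf z t hzz htt hzt).Normal := by
        refine ⟨fun v hv g => ?_⟩
        rw [mem_fourOf] at hv ⊢
        rcases hv with rfl | rfl | rfl | rfl
        · left; group
        · right; left; exact hzc g
        · rcases htc g with h | h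
          · right; right; left; exact h
          · right; right; right; exact h
        · have h1 : g * (z * t) * g⁻¹ = (g * z * g⁻¹) * (g * t * g⁻¹) := by group
          rw [h1, hzc g]
          rcases htc g with h | h
          · right; right; right; rw [h]
          · right; right; left; rw [h, ← mul_assoc, hzz, one_mul]
      have hzt_ne : z ≠ t := fun h => htA (h ▸ hzA)
      have ht1' : t ≠ 1 := fun h => htA (h ▸ A.one_mem)
      exact hV _ hVn (card_fourOf z t hzz htt hzt hz1 ht1' hzt_ne)
        (sq_eq_one_of_mem_fourOf z t hzz htt hzt)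
    have claim2 : ∀ s : G, K s * K s = 1 := by
      intro s
      by_contra h
      obtain ⟨j, hj⟩ := exists_pow_eq_one_add m hm3 (K s) (K s⁻¹) (hKinv s) h
      exact claim1 (s ^ j) (by rw [hKpow, hj])
    have hcl : ∀ s : G, K s ≠ 1 → K s = -1 ∨ K s = 2 ^ (m - 1) - 1 := by
      intro s hs1
      rcases sq_eq_one_cases m (by omega) (K s) (claim2 s) with hA | hB
      · rcases two_mul_eq_zero_cases m (by omega) _ hA with h4 | h4
        · exact absurd (sub_eq_zero.mp h4) hs1
        · exact absurd (by rw [hr, ← h4]; ring) (claim1 s)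
      · rcases two_mul_eq_zero_cases m (by omega) _ hB with h4 | h4
        · left; exact eq_neg_of_add_eq_zero_left h4
        · right; rw [← h4]; ring
    have hsinv : K s⁻¹ = K s := by
      calc K s⁻¹ = K s⁻¹ * (K s * K s) := by rw [claim2, mul_one]
        _ = (K s⁻¹ * K s) * K s := by ring
        _ = K s := by rw [hKinv', one_mul]
    rw [hsinv]
    rcases hcl s hs1 with h1 | h1 <;> rcases hcl t ht1 with h2 | h2
    · rw [h1, h2]; ring
    · exfalso
      apply claim1 (s * t)
      rw [hKmul, h1, h2, hr]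
      linear_combination (-1 : ZMod (2 ^ m)) * hPP
    · exfalso
      apply claim1 (s * t)
      rw [hKmul, h1, h2, hr]
      linear_combination (-1 : ZMod (2 ^ m)) * hPP
    · rw [h1, h2]
      linear_combination hP2 - hPP


/-- An elementary abelian `2`-subgroup of a group with a cyclic subgroup of index at most `2`
has order at most `4`. -/
theorem card_le_four_of_cyclic_index_le_two {G : Type*} [Group G] [Finite G]
    (A : Subgroup G) (hAn : A.Normal) (hAc : IsCyclic A) (hAi : A.index ≤ 2)
    (E : Subgroup G) (hE : ∀ e ∈ E, e ^ 2 = 1) : Nat.card E ≤ 4 := by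
  have h1 : Nat.card (A ⊓ E : Subgroup G) * (A ⊓ E).relIndex E = Nat.card E := by
    have := Subgroup.relIndex_mul_relIndex (⊥ : Subgroup G) (A ⊓ E) E bot_le inf_le_right
    rwa [Subgroup.relIndex_bot_left, Subgroup.relIndex_bot_left] at this
  rw [Subgroup.inf_relIndex_right] at h1
  have h2 : A.relIndex E ≤ 2 := by
    have h3 : A.relIndex E ∣ A.index := Subgroup.relIndex_dvd_index_of_normal A E
    have h4 : A.index ≠ 0 := Subgroup.index_ne_zero_of_finite
    exact (Nat.le_of_dvd (Nat.pos_of_ne_zero h4) h3).trans hAi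
  have h3 : Nat.card (A ⊓ E : Subgroup G) ≤ 2 := by
    rw [← Nat.card_congr (Subgroup.subgroupOfEquivOfLe (inf_le_left : A ⊓ E ≤ A)).toEquiv]
    apply card_le_of_forall_pow_eq_one _ 2 (by norm_num)
    intro x hx
    apply Subtype.ext
    have := hE (x : G) (Subgroup.mem_subgroupOf.mp hx).2
    simpa using this
  calc Nat.card E = Nat.card (A ⊓ E : Subgroup G) * A.relIndex E := h1.symm
    _ ≤ 2 * 2 := Nat.mul_le_mul h3 h2
    _ = 4 := by norm_num

/-- A `2`-group containing an elementary abelian subgroup of order at least `8` has a normal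
four-group. -/
theorem exists_normal_four_of_rank_three {G : Type*} [Group G] [Finite G] (hG : IsPGroup 2 G)
    (E : Subgroup G) (hE : ∀ e ∈ E, e ^ 2 = 1) (hE8 : 8 ≤ Nat.card E) :
    ∃ V : Subgroup G, V.Normal ∧ Nat.card V = 4 ∧ ∀ v ∈ V, v ^ 2 = 1 := by
  by_contra hno
  push Not at hno
  obtain ⟨A, hAn, hAc, hAi, -⟩ := exists_cyclic_index_le_two hG (fun V hVn hVc hVe => by
    obtain ⟨v, hv, hv2⟩ := hno V hVn hVc
    exact hv2 (hVe v hv))
  have := card_le_four_of_cyclic_index_le_two A hAn hAc hAi E hE
  omega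

end Cfsg.Agent.Lib.Helper1
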