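import Mathlib
import Cfsg.Agent.Lib.Helper1.NoNormalFour2
import Cfsg.Agent.Lib.Lead.RankThree2

set_option autoImplicit false

namespace Cfsg.Agent.Lib.Helper1

open Cfsg.Agent.Lib.Lead

/-- elements of a group of exponent two commute -/
theorem commute_of_sq_eq_one {G : Type*} [Group G] (E : Subgroup G) (hE : ∀ e ∈ E, e ^ 2 = 1)
    {a b : G} (ha : a ∈ E) (hb : b ∈ E) : a * b = b * a := by
  have h1 := hE a ha
  have h2 := hE b hb
  have h3 := hE (a * b) (E.mul_mem ha hb)
  rw [pow_two] at h1 h2 h3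
  have ha' : a⁻¹ = a := inv_eq_of_mul_eq_one_left h1
  have hb' : b⁻¹ = b := inv_eq_of_mul_eq_one_left h2
  have h4 : (a * b)⁻¹ = a * b := inv_eq_of_mul_eq_one_left h3
  rw [mul_inv_rev, ha', hb'] at h4
  exact h4.symm

/-- a four-group together with a centralizing involution outside it generates an elementary
abelian group of order eight -/
theorem exists_elementary_eight {G : Type*} [Group G] (V : Subgroup G) (hV4 : Nat.card V = 4)
    (hVe : ∀ v ∈ V, v ^ 2 = 1) (w : G) (hw : w ^ 2 = 1) (hwV : w ∉ V)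
    (hc : ∀ v ∈ V, v * w = w * v) :
    ∃ E : Subgroup G, Nat.card E = 8 ∧ (∀ e ∈ E, e ^ 2 = 1) ∧ E = V ⊔ Subgroup.zpowers w := by
  have hw1 : w ≠ 1 := fun h => hwV (h ▸ V.one_mem)
  have hord : orderOf w = 2 := orderOf_eq_prime hw hw1
  have hcomm : ∀ (m : V) (n : Subgroup.zpowers w),
      Commute (V.subtype m) ((Subgroup.zpowers w).subtype n) := by
    rintro ⟨v, hv⟩ ⟨c, hcw⟩
    obtain ⟨k, rfl⟩ := Subgroup.mem_zpowers_iff.mp hcw
    have h1 : Commute v w := hc v hv
    exact h1.zpow_right k
  let φ := MonoidHom.noncommCoprod V.subtype (Subgroup.zpowers w).subtype hcomm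
  have hzp : ∀ c ∈ Subgroup.zpowers w, c = 1 ∨ c = w := by
    intro c hcw
    obtain ⟨k, rfl⟩ := Subgroup.mem_zpowers_iff.mp hcw
    rcases Int.emod_two_eq_zero_or_one k with h | h
    · left
      have : k = 2 * (k / 2) := by omega
      rw [this, zpow_mul, zpow_ofNat, hw, one_zpow]
    · right
      have : k = 2 * (k / 2) + 1 := by omega
      rw [this, zpow_add, zpow_mul, zpow_ofNat, hw, one_zpow, one_mul, zpow_one]
  have hinj : Function.Injective φ := by
    rw [MonoidHom.noncommCoprod_injective]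
    refine ⟨V.subtype_injective, (Subgroup.zpowers w).subtype_injective, ?_⟩
    rw [Subgroup.range_subtype, Subgroup.range_subtype, disjoint_iff, eq_bot_iff]
    rintro c ⟨hcV, hcw⟩
    rcases hzp c hcw with h | h
    · exact h
    · exact absurd (h ▸ hcV) hwV
  refine ⟨φ.range, ?_, ?_, ?_⟩
  · rw [← Nat.card_congr (MonoidHom.ofInjective hinj).toEquiv, Nat.card_prod, hV4, Nat.card_zpowers,
      hord]
  · rintro _ ⟨⟨⟨v, hv⟩, ⟨c, hcw⟩⟩, rfl⟩
    have h1 : φ (⟨v, hv⟩, ⟨c, hcw⟩) = v * c := rfl
    rw [h1]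
    have h2 : Commute v c := hcomm ⟨v, hv⟩ ⟨c, hcw⟩
    rw [h2.mul_pow, hVe v hv]
    rcases hzp c hcw with h | h
    · rw [h, one_pow, one_mul]
    · rw [h, hw, one_mul]
  · rw [MonoidHom.noncommCoprod_range, Subgroup.range_subtype, Subgroup.range_subtype]


/-- In a `2`-group with a normal four-group `V` and an elementary abelian subgroup of order `8`,
the centralizer of every involution of `C(V)` contains an elementary abelian subgroup of order
`8`. -/
theorem exists_eight_centralizing {S : Type*} [Group S] [Finite S] (hS : IsPGroup 2 S)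
    (V : Subgroup S) [hVn : V.Normal] (hV4 : Nat.card V = 4) (hVe : ∀ v ∈ V, v ^ 2 = 1)
    (E : Subgroup S) (hE8 : Nat.card E = 8) (hEe : ∀ e ∈ E, e ^ 2 = 1)
    (y : S) (hyC : y ∈ Subgroup.centralizer (V : Set S)) (hy2 : y ^ 2 = 1) :
    ∃ F : Subgroup S, Nat.card F = 8 ∧ (∀ e ∈ F, e ^ 2 = 1) ∧
      F ≤ Subgroup.centralizer ({y} : Set S) := by
  classical
  haveI : Fact (Nat.Prime 2) := ⟨Nat.prime_two⟩
  set C := Subgroup.centralizer (V : Set S) with hC
  have hCn : C.Normal := Subgroup.normal_centralizer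
  by_cases hyV : y ∈ V
  · have hidx : C.index ≤ 2 := by
      have h1 := card_le_card_centralizer_mul_of_sq hS V (by rw [hV4]; norm_num)
      have h2 := C.card_mul_index
      rw [← h2] at h1
      have h3 : 0 < Nat.card C := Nat.card_pos
      exact Nat.le_of_mul_le_mul_left h1 h3
    have hD : 4 ≤ Nat.card (C ⊓ E : Subgroup S) := by
      have h1 : Nat.card (C ⊓ E : Subgroup S) * (C ⊓ E).relIndex E = Nat.card E := by
        have := Subgroup.relIndex_mul_relIndex (⊥ : Subgroup S) (C ⊓ E) E bot_le inf_le_right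
        rwa [Subgroup.relIndex_bot_left, Subgroup.relIndex_bot_left] at this
      rw [Subgroup.inf_relIndex_right, hE8] at h1
      have h2 : C.relIndex E ≤ 2 := by
        have h3 : C.relIndex E ∣ C.index := Subgroup.relIndex_dvd_index_of_normal C E
        have h4 : C.index ≠ 0 := Subgroup.index_ne_zero_of_finite
        exact (Nat.le_of_dvd (Nat.pos_of_ne_zero h4) h3).trans hidx
      nlinarith
    obtain ⟨f, hfCE, hfV⟩ : ∃ f ∈ (C ⊓ E : Subgroup S), f ∉ V := by
      by_contra hall
      push Not at hall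
      have hle : (C ⊓ E : Subgroup S) ≤ V := hall
      have h1 : (C ⊓ E : Subgroup S) = V :=
        Subgroup.eq_of_le_of_card_ge hle (by rw [hV4]; exact hD)
      have hVE : V ≤ E := by rw [← h1]; exact inf_le_right
      have hEC : E ≤ C := by
        intro e he
        rw [hC, Subgroup.mem_centralizer_iff]
        intro v hv
        exact commute_of_sq_eq_one E hEe (hVE hv) he
      have h2 : (C ⊓ E : Subgroup S) = E := inf_eq_right.mpr hEC
      rw [h2] at h1
      rw [h1, hV4] at hE8
      omega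
    have hfC : f ∈ C := hfCE.1
    have hfE : f ∈ E := hfCE.2
    obtain ⟨F, hF8, hFe, hFeq⟩ := exists_elementary_eight V hV4 hVe f (hEe f hfE) hfV
      (fun v hv => (Subgroup.mem_centralizer_iff.mp hfC) v hv)
    refine ⟨F, hF8, hFe, ?_⟩
    rw [hFeq]
    apply sup_le
    · intro v hv
      rw [Subgroup.mem_centralizer_iff]
      intro h hh
      rw [Set.mem_singleton_iff] at hh
      subst hh
      exact commute_of_sq_eq_one V hVe hyV hv
    · rw [Subgroup.zpowers_le, Subgroup.mem_centralizer_iff]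
      intro h hh
      rw [Set.mem_singleton_iff] at hh
      subst hh
      exact (Subgroup.mem_centralizer_iff.mp hfC) h hyV
  · obtain ⟨F, hF8, hFe, hFeq⟩ := exists_elementary_eight V hV4 hVe y hy2 hyV
      (fun v hv => (Subgroup.mem_centralizer_iff.mp hyC) v hv)
    refine ⟨F, hF8, hFe, ?_⟩
    rw [hFeq]
    apply sup_le
    · intro v hv
      rw [Subgroup.mem_centralizer_iff]
      intro h hh
      rw [Set.mem_singleton_iff] at hh
      subst hh
      exact ((Subgroup.mem_centralizer_iff.mp hyC) v hv).symm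
    · rw [Subgroup.zpowers_le, Subgroup.mem_centralizer_iff]
      intro h hh
      rw [Set.mem_singleton_iff] at hh
      subst hh
      rfl

end Cfsg.Agent.Lib.Helper1
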