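import Mathlib
import Cfsg.Agent.Lib.Helper1.EnP14cDef

set_option autoImplicit false
set_option maxRecDepth 100000

namespace Cfsg.Agent.Lib.Helper1.EnP14c

open Cfsg Cfsg.Agent.Lib.Helper1.LeechEnum

def certs12_0 : List ℕ :=
  [0, 0, 0, 0, 0, 0, 0, 0,
  0, 0, 0, 0, 0, 0, 0, 0,
  0, 0, 0, 0, 0, 0, 0, 0,
  0, 0, 0, 0, 0, 0, 0, 0]

theorem len12_0 : certs12_0.length = 32 := by decide +kernel

theorem part12_0 : chkFrom prob 3072 certs12_0 = true := by decide +kernel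

def certs12_1 : List ℕ :=
  [0, 0, 0, 0, 0, 0, 0, 0,
  0, 0, 0, 0, 0, 0, 0, 0,
  0, 0, 0, 0, 0, 0, 0, 0,
  0, 0, 0, 0, 0, 0, 0, 0]

theorem len12_1 : certs12_1.length = 32 := by decide +kernel

theorem part12_1 : chkFrom prob 3104 certs12_1 = true := by decide +kernel

def certs12_2 : List ℕ :=
  [0, 0, 0, 0, 0, 0, 0, 0,
  0, 0, 0, 0, 0, 0, 0, 0,
  0, 0, 0, 0, 0, 0, 0, 0,
  0, 0, 0, 0, 0, 0, 0, 0]

theorem len12_2 : certs12_2.length = 32 := by decide +kernel

theorem part12_2 : chkFrom prob 3136 certs12_2 = true := by decide +kernel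

def certs12_3 : List ℕ :=
  [0, 0, 0, 0, 0, 0, 0, 0,
  0, 0, 0, 0, 0, 0, 0, 0,
  0, 0, 0, 0, 0, 0, 0, 0,
  0, 0, 0, 0, 0, 0, 0, 0]

theorem len12_3 : certs12_3.length = 32 := by decide +kernel

theorem part12_3 : chkFrom prob 3168 certs12_3 = true := by decide +kernel

def certs12_4 : List ℕ :=
  [0, 0, 0, 0, 0, 0, 0, 0,
  0, 0, 0, 0, 0, 0, 0, 0,
  0, 0, 0, 0, 0, 0, 0, 0,
  0, 0, 0, 0, 0, 0, 0, 0]

theorem len12_4 : certs12_4.length = 32 := by decide +kernel

theorem part12_4 : chkFrom prob 3200 certs12_4 = true := by decide +kernel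

def certs12_5 : List ℕ :=
  [0, 0, 0, 0, 0, 0, 0, 0,
  0, 0, 0, 0, 0, 0, 0, 0,
  0, 0, 0, 0, 0, 0, 0, 0,
  0, 0, 0, 0, 0, 0, 0, 0]

theorem len12_5 : certs12_5.length = 32 := by decide +kernel

theorem part12_5 : chkFrom prob 3232 certs12_5 = true := by decide +kernel

def certs12_6 : List ℕ :=
  [0, 0, 0, 0, 0, 0, 0, 0,
  0, 0, 0, 0, 0, 0, 0, 0,
  0, 0, 0, 0, 0, 0, 0, 0,
  0, 0, 0, 0, 0, 0, 0, 0]

theorem len12_6 : certs12_6.length = 32 := by decide +kernel

theorem part12_6 : chkFrom prob 3264 certs12_6 = true := by decide +kernel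

def certs12_7 : List ℕ :=
  [0, 0, 0, 0, 0, 0, 0, 0,
  0, 0, 0, 0, 0, 0, 0, 0,
  0, 0, 0, 0, 0, 0, 0, 0,
  0, 0, 0, 0, 0, 0, 0, 0]

theorem len12_7 : certs12_7.length = 32 := by decide +kernel

theorem part12_7 : chkFrom prob 3296 certs12_7 = true := by decide +kernel

theorem part12 : ∀ c, 3072 ≤ c → c < 3328 → ∃ cert, chkChunk prob c cert = true := by
  intro c h1 h2
  obtain ⟨j, hj⟩ : ∃ j, j = (c - 3072) / 32 := ⟨_, rfl⟩
  have hj' : j < 8 := by omega
  interval_cases j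
  · exact chkFrom_sound prob certs12_0 3072 part12_0 c (by omega) (by rw [len12_0]; omega)
  · exact chkFrom_sound prob certs12_1 3104 part12_1 c (by omega) (by rw [len12_1]; omega)
  · exact chkFrom_sound prob certs12_2 3136 part12_2 c (by omega) (by rw [len12_2]; omega)
  · exact chkFrom_sound prob certs12_3 3168 part12_3 c (by omega) (by rw [len12_3]; omega)
  · exact chkFrom_sound prob certs12_4 3200 part12_4 c (by omega) (by rw [len12_4]; omega)
  · exact chkFrom_sound prob certs12_5 3232 part12_5 c (by omega) (by rw [len12_5]; omega)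
  · exact chkFrom_sound prob certs12_6 3264 part12_6 c (by omega) (by rw [len12_6]; omega)
  · exact chkFrom_sound prob certs12_7 3296 part12_7 c (by omega) (by rw [len12_7]; omega)

end Cfsg.Agent.Lib.Helper1.EnP14c
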