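import Mathlib
import Cfsg.Agent.Lib.Helper1.EnP6Def

set_option autoImplicit false
set_option maxRecDepth 100000

namespace Cfsg.Agent.Lib.Helper1.EnP6

open Cfsg Cfsg.Agent.Lib.Helper1.LeechEnum

def certs0_0 : List ℕ :=
  [0, 0, 0, 0, 0, 0, 0, 0,
  0, 0, 0, 0, 0, 0, 0, 0,
  0, 0, 0, 0, 0, 0, 0, 0,
  0, 0, 0, 0, 0, 0, 0, 0]

theorem len0_0 : certs0_0.length = 32 := by decide +kernel

theorem part0_0 : chkFrom prob 0 certs0_0 = true := by decide +kernel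

def certs0_1 : List ℕ :=
  [0, 0, 0, 0, 0, 0, 0, 0,
  0, 0, 0, 0, 0, 0, 0, 0,
  0, 0, 0, 0, 0, 0, 0, 0,
  0, 0, 0, 0, 0, 0, 0, 0]

theorem len0_1 : certs0_1.length = 32 := by decide +kernel

theorem part0_1 : chkFrom prob 32 certs0_1 = true := by decide +kernel

def certs0_2 : List ℕ :=
  [0, 0, 0, 0, 0, 0, 0, 0,
  0, 0, 0, 0, 0, 0, 0, 0,
  0, 0, 0, 0, 0, 0, 0, 0,
  0, 0, 0, 0, 0, 0, 0, 0]

theorem len0_2 : certs0_2.length = 32 := by decide +kernel

theorem part0_2 : chkFrom prob 64 certs0_2 = true := by decide +kernel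

def certs0_3 : List ℕ :=
  [0, 0, 0, 0, 0, 0, 0, 0,
  0, 0, 0, 0, 0, 0, 0, 0,
  0, 0, 0, 0, 0, 0, 0, 0,
  0, 0, 0, 0, 0, 0, 0, 0]

theorem len0_3 : certs0_3.length = 32 := by decide +kernel

theorem part0_3 : chkFrom prob 96 certs0_3 = true := by decide +kernel

def certs0_4 : List ℕ :=
  [0, 0, 0, 0, 0, 0, 0, 0,
  0, 0, 0, 0, 0, 0, 0, 0,
  0, 0, 0, 0, 0, 0, 0, 0,
  0, 0, 0, 0, 0, 0, 0, 0]

theorem len0_4 : certs0_4.length = 32 := by decide +kernel

theorem part0_4 : chkFrom prob 128 certs0_4 = true := by decide +kernel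

def certs0_5 : List ℕ :=
  [0, 0, 0, 0, 0, 0, 0, 0,
  0, 0, 0, 0, 0, 0, 0, 0,
  0, 0, 0, 0, 0, 0, 0, 0,
  0, 0, 0, 0, 0, 0, 0, 0]

theorem len0_5 : certs0_5.length = 32 := by decide +kernel

theorem part0_5 : chkFrom prob 160 certs0_5 = true := by decide +kernel

def certs0_6 : List ℕ :=
  [0, 0, 0, 0, 0, 0, 0, 0,
  0, 0, 0, 0, 0, 0, 0, 0,
  0, 0, 0, 0, 0, 0, 0, 0,
  0, 0, 0, 0, 0, 0, 0, 0]

theorem len0_6 : certs0_6.length = 32 := by decide +kernel

theorem part0_6 : chkFrom prob 192 certs0_6 = true := by decide +kernel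

def certs0_7 : List ℕ :=
  [0, 0, 0, 0, 0, 0, 0, 0,
  0, 0, 0, 0, 0, 0, 0, 0,
  0, 0, 0, 0, 0, 0, 0, 0,
  0, 0, 0, 0, 0, 0, 0, 0]

theorem len0_7 : certs0_7.length = 32 := by decide +kernel

theorem part0_7 : chkFrom prob 224 certs0_7 = true := by decide +kernel

theorem part0 : ∀ c, 0 ≤ c → c < 256 → ∃ cert, chkChunk prob c cert = true := by
  intro c h1 h2
  obtain ⟨j, hj⟩ : ∃ j, j = (c - 0) / 32 := ⟨_, rfl⟩
  have hj' : j < 8 := by omega
  interval_cases j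
  · exact chkFrom_sound prob certs0_0 0 part0_0 c (by omega) (by rw [len0_0]; omega)
  · exact chkFrom_sound prob certs0_1 32 part0_1 c (by omega) (by rw [len0_1]; omega)
  · exact chkFrom_sound prob certs0_2 64 part0_2 c (by omega) (by rw [len0_2]; omega)
  · exact chkFrom_sound prob certs0_3 96 part0_3 c (by omega) (by rw [len0_3]; omega)
  · exact chkFrom_sound prob certs0_4 128 part0_4 c (by omega) (by rw [len0_4]; omega)
  · exact chkFrom_sound prob certs0_5 160 part0_5 c (by omega) (by rw [len0_5]; omega)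
  · exact chkFrom_sound prob certs0_6 192 part0_6 c (by omega) (by rw [len0_6]; omega)
  · exact chkFrom_sound prob certs0_7 224 part0_7 c (by omega) (by rw [len0_7]; omega)

end Cfsg.Agent.Lib.Helper1.EnP6
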