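import Mathlib
import Cfsg.Agent.Lib.Helper1.EnP6Def

set_option autoImplicit false
set_option maxRecDepth 100000

namespace Cfsg.Agent.Lib.Helper1.EnP6

open Cfsg Cfsg.Agent.Lib.Helper1.LeechEnum

def certs1_0 : List ℕ :=
  [0, 0, 0, 0, 0, 0, 0, 0,
  0, 0, 0, 0, 0, 0, 0, 0,
  0, 0, 0, 0, 0, 0, 0, 0,
  0, 0, 0, 0, 0, 0, 0, 0]

theorem len1_0 : certs1_0.length = 32 := by decide +kernel

theorem part1_0 : chkFrom prob 256 certs1_0 = true := by decide +kernel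

def certs1_1 : List ℕ :=
  [0, 0, 0, 0, 0, 0, 0, 0,
  0, 0, 0, 0, 0, 0, 0, 0,
  0, 0, 0, 0, 0, 0, 0, 0,
  0, 0, 0, 0, 0, 0, 0, 0]

theorem len1_1 : certs1_1.length = 32 := by decide +kernel

theorem part1_1 : chkFrom prob 288 certs1_1 = true := by decide +kernel

def certs1_2 : List ℕ :=
  [0, 0, 0, 0, 0, 0, 0, 0,
  0, 0, 0, 0, 0, 0, 0, 0,
  0, 0, 0, 0, 0, 0, 0, 0,
  0, 0, 0, 0, 0, 0, 0, 0]

theorem len1_2 : certs1_2.length = 32 := by decide +kernel

theorem part1_2 : chkFrom prob 320 certs1_2 = true := by decide +kernel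

def certs1_3 : List ℕ :=
  [0, 0, 0, 0, 0, 0, 0, 0,
  0, 0, 0, 0, 0, 0, 0, 0,
  0, 0, 0, 0, 0, 0, 0, 0,
  0, 0, 0, 0, 0, 0, 0, 0]

theorem len1_3 : certs1_3.length = 32 := by decide +kernel

theorem part1_3 : chkFrom prob 352 certs1_3 = true := by decide +kernel

def certs1_4 : List ℕ :=
  [0, 0, 0, 0, 0, 0, 0, 0,
  0, 0, 0, 0, 0, 0, 0, 0,
  0, 0, 0, 0, 0, 0, 0, 0,
  0, 0, 0, 0, 0, 0, 0, 0]

theorem len1_4 : certs1_4.length = 32 := by decide +kernel

theorem part1_4 : chkFrom prob 384 certs1_4 = true := by decide +kernel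

def certs1_5 : List ℕ :=
  [0, 0, 0, 0, 0, 0, 0, 0,
  0, 0, 0, 0, 0, 0, 0, 0,
  0, 0, 0, 0, 0, 0, 0, 0,
  0, 0, 0, 0, 0, 0, 0, 0]

theorem len1_5 : certs1_5.length = 32 := by decide +kernel

theorem part1_5 : chkFrom prob 416 certs1_5 = true := by decide +kernel

def certs1_6 : List ℕ :=
  [0, 0, 0, 0, 0, 0, 0, 0,
  0, 0, 0, 0, 0, 0, 0, 0,
  0, 0, 0, 0, 0, 0, 0, 0,
  0, 0, 0, 0, 0, 0, 0, 0]

theorem len1_6 : certs1_6.length = 32 := by decide +kernel

theorem part1_6 : chkFrom prob 448 certs1_6 = true := by decide +kernel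

def certs1_7 : List ℕ :=
  [0, 0, 0, 0, 0, 0, 0, 0,
  0, 0, 0, 0, 0, 0, 0, 0,
  0, 0, 0, 0, 0, 0, 0, 0,
  0, 0, 0, 0, 0, 0, 0, 0]

theorem len1_7 : certs1_7.length = 32 := by decide +kernel

theorem part1_7 : chkFrom prob 480 certs1_7 = true := by decide +kernel

theorem part1 : ∀ c, 256 ≤ c → c < 512 → ∃ cert, chkChunk prob c cert = true := by
  intro c h1 h2
  obtain ⟨j, hj⟩ : ∃ j, j = (c - 256) / 32 := ⟨_, rfl⟩
  have hj' : j < 8 := by omega
  interval_cases j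
  · exact chkFrom_sound prob certs1_0 256 part1_0 c (by omega) (by rw [len1_0]; omega)
  · exact chkFrom_sound prob certs1_1 288 part1_1 c (by omega) (by rw [len1_1]; omega)
  · exact chkFrom_sound prob certs1_2 320 part1_2 c (by omega) (by rw [len1_2]; omega)
  · exact chkFrom_sound prob certs1_3 352 part1_3 c (by omega) (by rw [len1_3]; omega)
  · exact chkFrom_sound prob certs1_4 384 part1_4 c (by omega) (by rw [len1_4]; omega)
  · exact chkFrom_sound prob certs1_5 416 part1_5 c (by omega) (by rw [len1_5]; omega)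
  · exact chkFrom_sound prob certs1_6 448 part1_6 c (by omega) (by rw [len1_6]; omega)
  · exact chkFrom_sound prob certs1_7 480 part1_7 c (by omega) (by rw [len1_7]; omega)

end Cfsg.Agent.Lib.Helper1.EnP6
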