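import Mathlib
import Cfsg.Agent.Lib.Helper1.EnP6Def

set_option autoImplicit false
set_option maxRecDepth 100000

namespace Cfsg.Agent.Lib.Helper1.EnP6

open Cfsg Cfsg.Agent.Lib.Helper1.LeechEnum

def certs2_0 : List ℕ :=
  [0, 0, 0, 0, 0, 0, 0, 0,
  0, 0, 0, 0, 0, 0, 0, 0,
  0, 0, 0, 0, 0, 0, 0, 0,
  0, 0, 0, 0, 0, 0, 0, 0]

theorem len2_0 : certs2_0.length = 32 := by decide +kernel

theorem part2_0 : chkFrom prob 512 certs2_0 = true := by decide +kernel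

def certs2_1 : List ℕ :=
  [0, 0, 0, 0, 0, 0, 0, 0,
  0, 0, 0, 0, 0, 0, 0, 0,
  0, 0, 0, 0, 0, 0, 0, 0,
  0, 0, 0, 0, 0, 0, 0, 0]

theorem len2_1 : certs2_1.length = 32 := by decide +kernel

theorem part2_1 : chkFrom prob 544 certs2_1 = true := by decide +kernel

def certs2_2 : List ℕ :=
  [0, 0, 0, 0, 0, 0, 0, 0,
  0, 0, 0, 0, 0, 0, 0, 0,
  0, 0, 0, 0, 0, 0, 0, 0,
  0, 0, 0, 0, 0, 0, 0, 0]

theorem len2_2 : certs2_2.length = 32 := by decide +kernel

theorem part2_2 : chkFrom prob 576 certs2_2 = true := by decide +kernel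

def certs2_3 : List ℕ :=
  [0, 0, 0, 0, 0, 0, 0, 0,
  0, 0, 0, 0, 0, 0, 0, 0,
  0, 0, 0, 0, 0, 0, 0, 0,
  0, 0, 0, 0, 0, 0, 0, 0]

theorem len2_3 : certs2_3.length = 32 := by decide +kernel

theorem part2_3 : chkFrom prob 608 certs2_3 = true := by decide +kernel

def certs2_4 : List ℕ :=
  [0, 0, 0, 0, 0, 0, 0, 0,
  0, 0, 0, 0, 0, 0, 0, 0,
  0, 0, 0, 0, 0, 0, 0, 0,
  0, 0, 0, 0, 0, 0, 0, 0]

theorem len2_4 : certs2_4.length = 32 := by decide +kernel

theorem part2_4 : chkFrom prob 640 certs2_4 = true := by decide +kernel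

def certs2_5 : List ℕ :=
  [0, 0, 0, 0, 0, 0, 0, 0,
  0, 0, 0, 0, 0, 0, 0, 0,
  0, 0, 0, 0, 0, 0, 0, 0,
  0, 0, 0, 0, 0, 0, 0, 0]

theorem len2_5 : certs2_5.length = 32 := by decide +kernel

theorem part2_5 : chkFrom prob 672 certs2_5 = true := by decide +kernel

def certs2_6 : List ℕ :=
  [0, 0, 0, 0, 0, 0, 0, 0,
  0, 0, 0, 0, 0, 0, 0, 0,
  0, 0, 0, 0, 0, 0, 0, 0,
  0, 0, 0, 0, 0, 0, 0, 0]

theorem len2_6 : certs2_6.length = 32 := by decide +kernel

theorem part2_6 : chkFrom prob 704 certs2_6 = true := by decide +kernel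

def certs2_7 : List ℕ :=
  [0, 0, 0, 0, 0, 0, 0, 0,
  0, 0, 0, 0, 0, 0, 0, 0,
  0, 0, 0, 0, 0, 0, 0, 0,
  0, 0, 0, 0, 0, 0, 0, 0]

theorem len2_7 : certs2_7.length = 32 := by decide +kernel

theorem part2_7 : chkFrom prob 736 certs2_7 = true := by decide +kernel

theorem part2 : ∀ c, 512 ≤ c → c < 768 → ∃ cert, chkChunk prob c cert = true := by
  intro c h1 h2
  obtain ⟨j, hj⟩ : ∃ j, j = (c - 512) / 32 := ⟨_, rfl⟩
  have hj' : j < 8 := by omega
  interval_cases j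
  · exact chkFrom_sound prob certs2_0 512 part2_0 c (by omega) (by rw [len2_0]; omega)
  · exact chkFrom_sound prob certs2_1 544 part2_1 c (by omega) (by rw [len2_1]; omega)
  · exact chkFrom_sound prob certs2_2 576 part2_2 c (by omega) (by rw [len2_2]; omega)
  · exact chkFrom_sound prob certs2_3 608 part2_3 c (by omega) (by rw [len2_3]; omega)
  · exact chkFrom_sound prob certs2_4 640 part2_4 c (by omega) (by rw [len2_4]; omega)
  · exact chkFrom_sound prob certs2_5 672 part2_5 c (by omega) (by rw [len2_5]; omega)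
  · exact chkFrom_sound prob certs2_6 704 part2_6 c (by omega) (by rw [len2_6]; omega)
  · exact chkFrom_sound prob certs2_7 736 part2_7 c (by omega) (by rw [len2_7]; omega)

end Cfsg.Agent.Lib.Helper1.EnP6
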