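import Mathlib
import Cfsg.Agent.Lib.Helper1.EnP6Def

set_option autoImplicit false
set_option maxRecDepth 100000

namespace Cfsg.Agent.Lib.Helper1.EnP6

open Cfsg Cfsg.Agent.Lib.Helper1.LeechEnum

def certs6_0 : List ℕ :=
  [0, 0, 0, 0, 0, 0, 0, 0,
  0, 0, 0, 0, 0, 0, 0, 0,
  0, 0, 0, 0, 0, 0, 0, 0,
  0, 0, 0, 0, 0, 0, 0, 0]

theorem len6_0 : certs6_0.length = 32 := by decide +kernel

theorem part6_0 : chkFrom prob 1536 certs6_0 = true := by decide +kernel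

def certs6_1 : List ℕ :=
  [0, 0, 0, 0, 0, 0, 0, 0,
  0, 0, 0, 0, 0, 0, 0, 0,
  0, 0, 0, 0, 0, 0, 0, 0,
  0, 0, 0, 0, 0, 0, 0, 0]

theorem len6_1 : certs6_1.length = 32 := by decide +kernel

theorem part6_1 : chkFrom prob 1568 certs6_1 = true := by decide +kernel

def certs6_2 : List ℕ :=
  [0, 0, 0, 0, 0, 0, 0, 0,
  0, 0, 0, 0, 0, 0, 0, 0,
  0, 0, 0, 0, 0, 0, 0, 0,
  0, 0, 0, 0, 0, 0, 0, 0]

theorem len6_2 : certs6_2.length = 32 := by decide +kernel

theorem part6_2 : chkFrom prob 1600 certs6_2 = true := by decide +kernel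

def certs6_3 : List ℕ :=
  [0, 0, 0, 0, 0, 0, 0, 0,
  0, 0, 0, 0, 0, 0, 0, 0,
  0, 0, 0, 0, 0, 0, 0, 0,
  0, 0, 0, 0, 0, 0, 0, 0]

theorem len6_3 : certs6_3.length = 32 := by decide +kernel

theorem part6_3 : chkFrom prob 1632 certs6_3 = true := by decide +kernel

def certs6_4 : List ℕ :=
  [0, 0, 0, 0, 0, 0, 0, 0,
  0, 0, 0, 0, 0, 0, 0, 0,
  0, 0, 0, 0, 0, 0, 0, 0,
  0, 0, 0, 0, 0, 0, 0, 0]

theorem len6_4 : certs6_4.length = 32 := by decide +kernel

theorem part6_4 : chkFrom prob 1664 certs6_4 = true := by decide +kernel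

def certs6_5 : List ℕ :=
  [0, 0, 0, 0, 0, 0, 0, 0,
  0, 0, 0, 0, 0, 0, 0, 0,
  0, 0, 0, 0, 0, 0, 0, 0,
  0, 0, 0, 0, 0, 0, 0, 0]

theorem len6_5 : certs6_5.length = 32 := by decide +kernel

theorem part6_5 : chkFrom prob 1696 certs6_5 = true := by decide +kernel

def certs6_6 : List ℕ :=
  [0, 0, 0, 0, 0, 0, 0, 0,
  0, 0, 0, 0, 0, 0, 0, 0,
  0, 0, 0, 0, 0, 0, 0, 0,
  0, 0, 0, 0, 0, 0, 0, 0]

theorem len6_6 : certs6_6.length = 32 := by decide +kernel

theorem part6_6 : chkFrom prob 1728 certs6_6 = true := by decide +kernel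

def certs6_7 : List ℕ :=
  [0, 0, 0, 0, 0, 0, 0, 0,
  0, 0, 0, 0, 0, 0, 0, 0,
  0, 0, 0, 0, 0, 0, 0, 0,
  0, 0, 0, 0, 0, 0, 0, 0]

theorem len6_7 : certs6_7.length = 32 := by decide +kernel

theorem part6_7 : chkFrom prob 1760 certs6_7 = true := by decide +kernel

theorem part6 : ∀ c, 1536 ≤ c → c < 1792 → ∃ cert, chkChunk prob c cert = true := by
  intro c h1 h2
  obtain ⟨j, hj⟩ : ∃ j, j = (c - 1536) / 32 := ⟨_, rfl⟩
  have hj' : j < 8 := by omega
  interval_cases j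
  · exact chkFrom_sound prob certs6_0 1536 part6_0 c (by omega) (by rw [len6_0]; omega)
  · exact chkFrom_sound prob certs6_1 1568 part6_1 c (by omega) (by rw [len6_1]; omega)
  · exact chkFrom_sound prob certs6_2 1600 part6_2 c (by omega) (by rw [len6_2]; omega)
  · exact chkFrom_sound prob certs6_3 1632 part6_3 c (by omega) (by rw [len6_3]; omega)
  · exact chkFrom_sound prob certs6_4 1664 part6_4 c (by omega) (by rw [len6_4]; omega)
  · exact chkFrom_sound prob certs6_5 1696 part6_5 c (by omega) (by rw [len6_5]; omega)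
  · exact chkFrom_sound prob certs6_6 1728 part6_6 c (by omega) (by rw [len6_6]; omega)
  · exact chkFrom_sound prob certs6_7 1760 part6_7 c (by omega) (by rw [len6_7]; omega)

end Cfsg.Agent.Lib.Helper1.EnP6
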