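import Mathlib
import Cfsg.Agent.Lib.Helper1.EnP6Def

set_option autoImplicit false
set_option maxRecDepth 100000

namespace Cfsg.Agent.Lib.Helper1.EnP6

open Cfsg Cfsg.Agent.Lib.Helper1.LeechEnum

def certs7_0 : List ℕ :=
  [0, 0, 0, 0, 0, 0, 0, 0,
  0, 0, 0, 0, 0, 0, 0, 0,
  0, 0, 0, 0, 0, 0, 0, 0,
  0, 0, 0, 0, 0, 0, 0, 0]

theorem len7_0 : certs7_0.length = 32 := by decide +kernel

theorem part7_0 : chkFrom prob 1792 certs7_0 = true := by decide +kernel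

def certs7_1 : List ℕ :=
  [0, 0, 0, 0, 0, 0, 0, 0,
  0, 0, 0, 0, 0, 0, 0, 0,
  0, 0, 0, 0, 0, 0, 0, 0,
  0, 0, 0, 0, 0, 0, 0, 0]

theorem len7_1 : certs7_1.length = 32 := by decide +kernel

theorem part7_1 : chkFrom prob 1824 certs7_1 = true := by decide +kernel

def certs7_2 : List ℕ :=
  [0, 0, 0, 0, 0, 0, 0, 0,
  0, 0, 0, 0, 0, 0, 0, 0,
  0, 0, 0, 0, 0, 0, 0, 0,
  0, 0, 0, 0, 0, 0, 0, 0]

theorem len7_2 : certs7_2.length = 32 := by decide +kernel

theorem part7_2 : chkFrom prob 1856 certs7_2 = true := by decide +kernel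

def certs7_3 : List ℕ :=
  [0, 0, 0, 0, 0, 0, 0, 0,
  0, 0, 0, 0, 0, 0, 0, 0,
  0, 0, 0, 0, 0, 0, 0, 0,
  0, 0, 0, 0, 0, 0, 0, 0]

theorem len7_3 : certs7_3.length = 32 := by decide +kernel

theorem part7_3 : chkFrom prob 1888 certs7_3 = true := by decide +kernel

def certs7_4 : List ℕ :=
  [0, 0, 0, 0, 0, 0, 0, 0,
  0, 0, 0, 0, 0, 0, 0, 0,
  0, 0, 0, 0, 0, 0, 0, 0,
  0, 0, 0, 0, 0, 0, 0, 0]

theorem len7_4 : certs7_4.length = 32 := by decide +kernel

theorem part7_4 : chkFrom prob 1920 certs7_4 = true := by decide +kernel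

def certs7_5 : List ℕ :=
  [0, 0, 0, 0, 0, 0, 0, 0,
  0, 0, 0, 0, 0, 0, 0, 0,
  0, 0, 0, 0, 0, 0, 0, 0,
  0, 0, 0, 0, 0, 0, 0, 0]

theorem len7_5 : certs7_5.length = 32 := by decide +kernel

theorem part7_5 : chkFrom prob 1952 certs7_5 = true := by decide +kernel

def certs7_6 : List ℕ :=
  [0, 0, 0, 0, 0, 0, 0, 0,
  0, 0, 0, 0, 0, 0, 0, 0,
  0, 0, 0, 0, 0, 0, 0, 0,
  0, 0, 0, 0, 0, 0, 0, 0]

theorem len7_6 : certs7_6.length = 32 := by decide +kernel

theorem part7_6 : chkFrom prob 1984 certs7_6 = true := by decide +kernel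

def certs7_7 : List ℕ :=
  [0, 0, 0, 0, 0, 0, 0, 0,
  0, 0, 0, 0, 0, 0, 0, 0,
  0, 0, 0, 0, 0, 0, 0, 0,
  0, 0, 0, 0, 0, 0, 0, 0]

theorem len7_7 : certs7_7.length = 32 := by decide +kernel

theorem part7_7 : chkFrom prob 2016 certs7_7 = true := by decide +kernel

theorem part7 : ∀ c, 1792 ≤ c → c < 2048 → ∃ cert, chkChunk prob c cert = true := by
  intro c h1 h2
  obtain ⟨j, hj⟩ : ∃ j, j = (c - 1792) / 32 := ⟨_, rfl⟩
  have hj' : j < 8 := by omega
  interval_cases j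
  · exact chkFrom_sound prob certs7_0 1792 part7_0 c (by omega) (by rw [len7_0]; omega)
  · exact chkFrom_sound prob certs7_1 1824 part7_1 c (by omega) (by rw [len7_1]; omega)
  · exact chkFrom_sound prob certs7_2 1856 part7_2 c (by omega) (by rw [len7_2]; omega)
  · exact chkFrom_sound prob certs7_3 1888 part7_3 c (by omega) (by rw [len7_3]; omega)
  · exact chkFrom_sound prob certs7_4 1920 part7_4 c (by omega) (by rw [len7_4]; omega)
  · exact chkFrom_sound prob certs7_5 1952 part7_5 c (by omega) (by rw [len7_5]; omega)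
  · exact chkFrom_sound prob certs7_6 1984 part7_6 c (by omega) (by rw [len7_6]; omega)
  · exact chkFrom_sound prob certs7_7 2016 part7_7 c (by omega) (by rw [len7_7]; omega)

end Cfsg.Agent.Lib.Helper1.EnP6
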