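import Mathlib
import Cfsg.Agent.Lib.Helper1.EnP8aDef

set_option autoImplicit false
set_option maxRecDepth 100000

namespace Cfsg.Agent.Lib.Helper1.EnP8a

open Cfsg Cfsg.Agent.Lib.Helper1.LeechEnum

def certs5_0 : List ℕ :=
  [0, 0, 0, 0, 0, 0, 0, 0,
  0, 0, 0, 0, 0, 0, 0, 0,
  0, 0, 0, 0, 0, 0, 0, 0,
  0, 0, 0, 0, 0, 0, 0, 0]

theorem len5_0 : certs5_0.length = 32 := by decide +kernel

theorem part5_0 : chkFrom prob 1280 certs5_0 = true := by decide +kernel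

def certs5_1 : List ℕ :=
  [0, 0, 0, 0, 0, 0, 0, 0,
  0, 0, 0, 0, 0, 0, 0, 0,
  0, 0, 0, 0, 0, 0, 0, 0,
  0, 0, 0, 0, 0, 0, 0, 0]

theorem len5_1 : certs5_1.length = 32 := by decide +kernel

theorem part5_1 : chkFrom prob 1312 certs5_1 = true := by decide +kernel

def certs5_2 : List ℕ :=
  [0, 0, 0, 0, 0, 0, 0, 0,
  0, 0, 0, 0, 0, 0, 0, 0,
  0, 0, 0, 0, 0, 0, 0, 0,
  0, 0, 0, 0, 0, 0, 0, 0]

theorem len5_2 : certs5_2.length = 32 := by decide +kernel

theorem part5_2 : chkFrom prob 1344 certs5_2 = true := by decide +kernel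

def certs5_3 : List ℕ :=
  [0, 0, 0, 0, 0, 0, 0, 0,
  0, 0, 0, 0, 0, 0, 0, 0,
  0, 0, 0, 0, 0, 0, 0, 0,
  0, 0, 0, 0, 0, 0, 0, 0]

theorem len5_3 : certs5_3.length = 32 := by decide +kernel

theorem part5_3 : chkFrom prob 1376 certs5_3 = true := by decide +kernel

def certs5_4 : List ℕ :=
  [0, 0, 0, 0, 0, 0, 0, 0,
  0, 0, 0, 0, 0, 0, 0, 0,
  0, 0, 0, 0, 0, 0, 0, 0,
  0, 0, 0, 0, 0, 0, 0, 0]

theorem len5_4 : certs5_4.length = 32 := by decide +kernel

theorem part5_4 : chkFrom prob 1408 certs5_4 = true := by decide +kernel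

def certs5_5 : List ℕ :=
  [0, 0, 0, 0, 0, 0, 0, 0,
  0, 0, 0, 0, 0, 0, 0, 0,
  0, 0, 0, 0, 0, 0, 0, 0,
  0, 0, 0, 0, 0, 0, 0, 0]

theorem len5_5 : certs5_5.length = 32 := by decide +kernel

theorem part5_5 : chkFrom prob 1440 certs5_5 = true := by decide +kernel

def certs5_6 : List ℕ :=
  [0, 0, 0, 0, 0, 0, 0, 0,
  0, 0, 0, 0, 0, 0, 0, 0,
  0, 0, 0, 0, 0, 0, 0, 0,
  0, 0, 0, 0, 0, 0, 0, 0]

theorem len5_6 : certs5_6.length = 32 := by decide +kernel

theorem part5_6 : chkFrom prob 1472 certs5_6 = true := by decide +kernel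

def certs5_7 : List ℕ :=
  [0, 0, 0, 0, 0, 0, 0, 0,
  0, 0, 0, 0, 0, 0, 0, 0,
  0, 0, 0, 0, 0, 0, 0, 0,
  0, 0, 0, 0, 0, 0, 0, 0]

theorem len5_7 : certs5_7.length = 32 := by decide +kernel

theorem part5_7 : chkFrom prob 1504 certs5_7 = true := by decide +kernel

theorem part5 : ∀ c, 1280 ≤ c → c < 1536 → ∃ cert, chkChunk prob c cert = true := by
  intro c h1 h2
  obtain ⟨j, hj⟩ : ∃ j, j = (c - 1280) / 32 := ⟨_, rfl⟩
  have hj' : j < 8 := by omega
  interval_cases j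
  · exact chkFrom_sound prob certs5_0 1280 part5_0 c (by omega) (by rw [len5_0]; omega)
  · exact chkFrom_sound prob certs5_1 1312 part5_1 c (by omega) (by rw [len5_1]; omega)
  · exact chkFrom_sound prob certs5_2 1344 part5_2 c (by omega) (by rw [len5_2]; omega)
  · exact chkFrom_sound prob certs5_3 1376 part5_3 c (by omega) (by rw [len5_3]; omega)
  · exact chkFrom_sound prob certs5_4 1408 part5_4 c (by omega) (by rw [len5_4]; omega)
  · exact chkFrom_sound prob certs5_5 1440 part5_5 c (by omega) (by rw [len5_5]; omega)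
  · exact chkFrom_sound prob certs5_6 1472 part5_6 c (by omega) (by rw [len5_6]; omega)
  · exact chkFrom_sound prob certs5_7 1504 part5_7 c (by omega) (by rw [len5_7]; omega)

end Cfsg.Agent.Lib.Helper1.EnP8a
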