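import Mathlib
import Cfsg.Agent.Lib.Helper1.EnP8aP0
import Cfsg.Agent.Lib.Helper1.EnP8aP1
import Cfsg.Agent.Lib.Helper1.EnP8aP2
import Cfsg.Agent.Lib.Helper1.EnP8aP3
import Cfsg.Agent.Lib.Helper1.EnP8aP4
import Cfsg.Agent.Lib.Helper1.EnP8aP5
import Cfsg.Agent.Lib.Helper1.EnP8aP6
import Cfsg.Agent.Lib.Helper1.EnP8aP7
import Cfsg.Agent.Lib.Helper1.EnP8aP8
import Cfsg.Agent.Lib.Helper1.EnP8aP9
import Cfsg.Agent.Lib.Helper1.EnP8aP10
import Cfsg.Agent.Lib.Helper1.EnP8aP11
import Cfsg.Agent.Lib.Helper1.EnP8aP12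
import Cfsg.Agent.Lib.Helper1.EnP8aP13
import Cfsg.Agent.Lib.Helper1.EnP8aP14
import Cfsg.Agent.Lib.Helper1.EnP8aP15

set_option autoImplicit false

namespace Cfsg.Agent.Lib.Helper1.EnP8a

open Cfsg Cfsg.Agent.Lib.Helper1.LeechEnum

theorem all_ok : ∀ c < 4096, ∃ cert, chkChunk prob c cert = true := by
  intro c hc
  obtain ⟨j, hj⟩ : ∃ j, j = c / 256 := ⟨_, rfl⟩
  have hj' : j < 16 := by omega
  interval_cases j
  · exact part0 c (by omega) (by omega)
  · exact part1 c (by omega) (by omega)
  · exact part2 c (by omega) (by omega)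
  · exact part3 c (by omega) (by omega)
  · exact part4 c (by omega) (by omega)
  · exact part5 c (by omega) (by omega)
  · exact part6 c (by omega) (by omega)
  · exact part7 c (by omega) (by omega)
  · exact part8 c (by omega) (by omega)
  · exact part9 c (by omega) (by omega)
  · exact part10 c (by omega) (by omega)
  · exact part11 c (by omega) (by omega)
  · exact part12 c (by omega) (by omega)
  · exact part13 c (by omega) (by omega)
  · exact part14 c (by omega) (by omega)
  · exact part15 c (by omega) (by omega)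

end Cfsg.Agent.Lib.Helper1.EnP8a
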