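import Cfsg.Agent.Lib.Helper1.MatCode3

/-!
# Coded matrices: equal matrices have equal bounded canonical codes; certified lists of conjugates
-/

set_option autoImplicit false

namespace Cfsg.Agent.Lib.Helper1.MatCode

section inj

variable (n p : ℕ)

theorem eq_of_dec_eq {a b : ℕ} (ha : Canon n p a) (hb : Canon n p b)
    (ha' : a < W ^ (n * n)) (hb' : b < W ^ (n * n)) (h : dec n p a = dec n p b) : a = b := by
  have hd : ∀ m, m < n * n → dig W a m = dig W b m := by
    intro m hm
    have hn : 0 < n := by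
      rcases Nat.eq_zero_or_pos n with h | h
      · subst h; simp at hm
      · exact h
    have h2 : m / n < n := Nat.div_lt_of_lt_mul hm
    have h3 : m % n < n := Nat.mod_lt _ hn
    have h4 := congrFun (congrFun h ⟨m / n, h2⟩) ⟨m % n, h3⟩
    unfold dec at h4
    simp only [Nat.div_add_mod] at h4
    rw [ZMod.natCast_eq_natCast_iff'] at h4
    rwa [Nat.mod_eq_of_lt (ha m hm), Nat.mod_eq_of_lt (hb m hm)] at h4
  have ex : ∀ c : ℕ, c < W ^ (n * n) → c = ∑ k ∈ Finset.range (n * n), dig W c k * W ^ k := by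
    intro c hc
    have := block_eq W c 0 (n * n)
    rw [pow_zero, Nat.div_one, Nat.mod_eq_of_lt hc] at this
    simpa using this
  rw [ex a ha', ex b hb']
  apply Finset.sum_congr rfl
  intro k hk
  rw [hd k (Finset.mem_range.mp hk)]

/-- canonical and bounded -/
def sCanonB (c : ℕ) : Bool := canonB n p c && decide (c < W ^ (n * n))

end inj

section conj

variable {M : Type*} [Monoid M] (D : ℕ → M) (mu : ℕ → ℕ → ℕ) (C : ℕ → Prop)

/-- conjugation tree: for `1 ≤ k < N`, the `k`-th code is `si * (earlier code) * s` for a pair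
`(s, si)` of the list `S`; `cp k = 65536 * (earlier index) + (index in S)` -/
def chkConjTree (Cf : ℕ → ℕ) (N : ℕ) (S : List (ℕ × ℕ)) (cp : ℕ → ℕ) : Bool :=
  (List.range N).all (fun k => k == 0 || (decide (cp k / 65536 < k) &&
    match S[cp k % 65536]? with
    | some x => Cf k == mu (mu x.2 (Cf (cp k / 65536))) x.1
    | none => false))

theorem chkConjTree_sound (hmu : ∀ a b, C b → D (mu a b) = D a * D b)
    {Γ : Type*} [Group Γ] (φ : Γ →* M) (τ : Γ) {Cf : ℕ → ℕ} {N : ℕ} {S : List (ℕ × ℕ)} {cp : ℕ → ℕ}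
    (h0 : D (Cf 0) = φ τ) (hCf : ∀ k, k < N → C (Cf k))
    (hS : ∀ x ∈ S, C x.1 ∧ ∃ γ : Γ, φ γ = D x.1 ∧ φ γ⁻¹ = D x.2)
    (h : chkConjTree mu Cf N S cp = true) :
    ∀ k, k < N → ∃ g : Γ, D (Cf k) = φ (g⁻¹ * τ * g) := by
  unfold chkConjTree at h
  rw [List.all_eq_true] at h
  intro k
  induction k using Nat.strong_induction_on with
  | _ k ih =>
    intro hk
    have h1 := h k (List.mem_range.mpr hk)
    rw [Bool.or_eq_true, beq_iff_eq] at h1
    rcases h1 with h1 | h1
    · subst h1
      exact ⟨1, by rw [h0]; simp⟩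
    · rw [Bool.and_eq_true, decide_eq_true_eq] at h1
      obtain ⟨h2, h3⟩ := h1
      cases hx : S[cp k % 65536]? with
      | none => rw [hx] at h3; exact absurd h3 (by simp)
      | some x =>
        rw [hx] at h3
        have h4 : Cf k = mu (mu x.2 (Cf (cp k / 65536))) x.1 := by simpa using h3
        obtain ⟨hc, γ, hγ, hγi⟩ := hS x (List.mem_of_getElem? hx)
        obtain ⟨g, hg⟩ := ih _ h2 (by omega)
        refine ⟨g * γ, ?_⟩
        rw [h4, hmu _ _ hc, hmu _ _ (hCf _ (by omega)), hg, ← hγ, ← hγi, ← map_mul, ← map_mul]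
        congr 1
        group

/-- the codes `Cf (sg j)`, `j < N`, increase strictly -/
def chkSorted (Cf sg : ℕ → ℕ) (N : ℕ) : Bool :=
  (List.range (N - 1)).all (fun j => decide (Cf (sg j) < Cf (sg (j + 1))))

theorem chkSorted_sound {Cf sg : ℕ → ℕ} {N : ℕ} (h : chkSorted Cf sg N = true) :
    ∀ i j, i < j → j < N → Cf (sg i) < Cf (sg j) := by
  unfold chkSorted at h
  rw [List.all_eq_true] at h
  intro i j hij
  induction j with
  | zero => omega
  | succ j ih =>
    intro hj
    have h1 := h j (List.mem_range.mpr (by omega))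
    rw [decide_eq_true_eq] at h1
    rcases Nat.lt_succ_iff_lt_or_eq.mp hij with h2 | h2
    · exact lt_trans (ih h2 (by omega)) h1
    · subst h2; exact h1

theorem chkSorted_inj {Cf sg : ℕ → ℕ} {N : ℕ} (h : chkSorted Cf sg N = true)
    (i j : ℕ) (hi : i < N) (hj : j < N) (he : Cf (sg i) = Cf (sg j)) : i = j := by
  rcases Nat.lt_trichotomy i j with h1 | h1 | h1
  · exact absurd he (ne_of_lt (chkSorted_sound h i j h1 hj))
  · exact h1
  · exact absurd he.symm (ne_of_lt (chkSorted_sound h j i h1 hi))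

end conj

/-- distinct conjugates bound the centralizer -/
theorem card_centralizer_mul_le {Γ : Type*} [Group Γ] [Finite Γ] (τ : Γ) (N : ℕ) (g : Fin N → Γ)
    (hinj : Function.Injective (fun j => (g j)⁻¹ * τ * g j)) :
    Nat.card (Subgroup.centralizer ({τ} : Set Γ)) * N ≤ Nat.card Γ := by
  set Cn := Subgroup.centralizer ({τ} : Set Γ)
  let F : Fin N → Γ ⧸ Cn := fun j => ((g j)⁻¹ : Γ)
  have hF : Function.Injective F := by
    intro j k hjk
    apply hinj
    have h1 : ((g j)⁻¹)⁻¹ * (g k)⁻¹ ∈ Cn := QuotientGroup.eq.mp hjk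
    rw [inv_inv, Subgroup.mem_centralizer_iff] at h1
    have h2 := h1 τ (Set.mem_singleton τ)
    show (g j)⁻¹ * τ * g j = (g k)⁻¹ * τ * g k
    have h3 : τ * g j = g j * ((g k)⁻¹ * τ * g k) := by
      calc τ * g j = τ * (g j * (g k)⁻¹) * g k := by group
        _ = g j * (g k)⁻¹ * τ * g k := by rw [h2]
        _ = g j * ((g k)⁻¹ * τ * g k) := by group
    rw [mul_assoc, h3]
    group
  have h1 : N ≤ Nat.card (Γ ⧸ Cn) := by
    have := Nat.card_le_card_of_injective F hF
    simpa using this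
  have h2 : Nat.card Cn * Cn.index = Nat.card Γ := Subgroup.card_mul_index Cn
  rw [Subgroup.index] at h2
  calc Nat.card Cn * N ≤ Nat.card Cn * Nat.card (Γ ⧸ Cn) := Nat.mul_le_mul_left _ h1
    _ = Nat.card Γ := h2

end Cfsg.Agent.Lib.Helper1.MatCode
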