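import Mathlib
import Cfsg.Prelude.Def_KGroupFacts

set_option autoImplicit false

/-! The group of the labelled lifts of the elements of a group acting on a set, preserving a
connection on a graph: a central extension by a cyclic group. -/

namespace Cfsg.Agent.Lib.Helper1.StemLL

section defs

variable {G : Type*} [Group G] {Y : Type*} [MulAction G Y] (c : ℕ) (E : Y → Y → Prop)
  (ρ : Y → Y → ZMod c)

/-- the labels `lam` lift the element `g` to the covering graph -/
def IsLift (g : G) (lam : Y → ZMod c) : Prop :=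
  ∀ y y', E y y' → E (g • y) (g • y') ∧ ρ (g • y) (g • y') - ρ y y' = lam y' - lam y

/-- the permutation of the covering set attached to an element and to labels -/
def liftPerm (g : G) (lam : Y → ZMod c) : Equiv.Perm (Y × ZMod c) where
  toFun p := (g • p.1, p.2 + lam p.1)
  invFun p := (g⁻¹ • p.1, p.2 - lam (g⁻¹ • p.1))
  left_inv p := by
    apply Prod.ext
    · simp
    · simp
  right_inv p := by
    apply Prod.ext
    · simp
    · simp

theorem liftPerm_apply (g : G) (lam : Y → ZMod c) (p : Y × ZMod c) :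
    liftPerm c g lam p = (g • p.1, p.2 + lam p.1) := rfl

theorem liftPerm_mul (g g' : G) (lam lam' : Y → ZMod c) :
    liftPerm c g lam * liftPerm c g' lam' = liftPerm c (g * g') (fun y => lam' y + lam (g' • y)) := by
  apply Equiv.ext
  intro p
  rw [Equiv.Perm.mul_apply, liftPerm_apply, liftPerm_apply, liftPerm_apply]
  apply Prod.ext
  · simp [mul_smul]
  · simp [add_assoc]

theorem liftPerm_one : liftPerm c (1 : G) (fun _ : Y => (0 : ZMod c)) = 1 := by
  apply Equiv.ext
  intro p
  rw [liftPerm_apply]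
  simp

variable {c E ρ}

theorem isLift_one : IsLift c E ρ (1 : G) (fun _ => 0) := by
  intro y y' h
  simp [h]

theorem isLift_mul {g g' : G} {lam lam' : Y → ZMod c} (h : IsLift c E ρ g lam)
    (h' : IsLift c E ρ g' lam') : IsLift c E ρ (g * g') (fun y => lam' y + lam (g' • y)) := by
  intro y y' hy
  obtain ⟨h1, h2⟩ := h' y y' hy
  obtain ⟨h3, h4⟩ := h (g' • y) (g' • y') h1
  rw [mul_smul, mul_smul]
  refine ⟨h3, ?_⟩
  calc ρ (g • g' • y) (g • g' • y') - ρ y y'
      = (ρ (g • g' • y) (g • g' • y') - ρ (g' • y) (g' • y')) + (ρ (g' • y) (g' • y') - ρ y y') := by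
        ring
    _ = _ := by rw [h4, h2]; ring

variable (G) (c E ρ)

/-- the labelled lifts, as a submonoid -/
def LLm : Submonoid (Equiv.Perm (Y × ZMod c) × G) where
  carrier := {q | ∃ lam, IsLift c E ρ q.2 lam ∧ q.1 = liftPerm c q.2 lam}
  one_mem' := ⟨fun _ => 0, isLift_one, (liftPerm_one c).symm⟩
  mul_mem' := by
    rintro ⟨x, g⟩ ⟨x', g'⟩ ⟨lam, h1, h2⟩ ⟨lam', h1', h2'⟩
    refine ⟨fun y => lam' y + lam (g' • y), isLift_mul h1 h1', ?_⟩
    have h2a : x = liftPerm c g lam := h2
    have h2b : x' = liftPerm c g' lam' := h2'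
    show x * x' = liftPerm c (g * g') _
    rw [h2a, h2b, liftPerm_mul]

/-- the group of the labelled lifts -/
def LL [Finite Y] [Finite G] [NeZero c] : Subgroup (Equiv.Perm (Y × ZMod c) × G) where
  toSubmonoid := LLm G c E ρ
  inv_mem' := by
    intro q hq
    have hinv : q⁻¹ = q ^ (orderOf q - 1) := by
      apply inv_eq_of_mul_eq_one_right
      rw [← pow_succ', Nat.sub_add_cancel (orderOf_pos q), pow_orderOf_eq_one]
    rw [hinv]
    have hq' : q ∈ LLm G c E ρ := hq
    exact pow_mem hq' _

end defs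

end Cfsg.Agent.Lib.Helper1.StemLL
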