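import Mathlib
import Cfsg.Prelude.Def_KGroupFacts
import Cfsg.Agent.Lib.Helper1.StemLL1

set_option autoImplicit false

/-! The group of the labelled lifts: the homomorphism to the group, its kernel, the stem property. -/

namespace Cfsg.Agent.Lib.Helper1.StemLL

section

variable (G : Type*) [Group G] {Y : Type*} [MulAction G Y] (c : ℕ) (E : Y → Y → Prop)
  (ρ : Y → Y → ZMod c) [Finite Y] [Finite G] [NeZero c]

/-- the homomorphism to the group -/
def sig : LL G c E ρ →* G :=
  (MonoidHom.snd (Equiv.Perm (Y × ZMod c)) G).comp (LL G c E ρ).subtype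

theorem sig_apply (q : LL G c E ρ) : sig G c E ρ q = q.1.2 := rfl

theorem mem_LL (q : Equiv.Perm (Y × ZMod c) × G) :
    q ∈ LL G c E ρ ↔ ∃ lam, IsLift c E ρ q.2 lam ∧ q.1 = liftPerm c q.2 lam := Iff.rfl

theorem isLift_const (k : ZMod c) : IsLift c E ρ (1 : G) (fun _ => k) := by
  intro y y' h
  simp [h]

/-- the translations of the fibres -/
def transl (k : ZMod c) : LL G c E ρ :=
  ⟨(liftPerm c (1 : G) (fun _ => k), 1), ⟨fun _ => k, isLift_const G c E ρ k, rfl⟩⟩

theorem transl_add (k k' : ZMod c) : transl G c E ρ (k + k') = transl G c E ρ k * transl G c E ρ k' := by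
  apply Subtype.ext
  apply Prod.ext
  · show liftPerm c (1 : G) (fun _ => k + k') = liftPerm c (1 : G) (fun _ => k) * liftPerm c (1 : G) (fun _ => k')
    rw [liftPerm_mul, one_mul]
    congr 1
    funext y
    exact add_comm k k'
  · show (1 : G) = 1 * 1
    rw [one_mul]

theorem transl_zero : transl G c E ρ 0 = 1 := by
  apply Subtype.ext
  apply Prod.ext
  · exact liftPerm_one c
  · rfl

/-- the translations, as a homomorphism -/
def translHom : Multiplicative (ZMod c) →* LL G c E ρ where
  toFun k := transl G c E ρ k.toAdd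
  map_one' := transl_zero G c E ρ
  map_mul' a b := transl_add G c E ρ a.toAdd b.toAdd

theorem transl_mem_ker (k : ZMod c) : transl G c E ρ k ∈ (sig G c E ρ).ker := rfl

theorem translHom_injective [Nonempty Y] : Function.Injective (translHom G c E ρ) := by
  rw [injective_iff_map_eq_one]
  intro k hk
  obtain ⟨y₀⟩ := ‹Nonempty Y›
  have h1 : (transl G c E ρ k.toAdd).1.1 (y₀, 0) = (1 : LL G c E ρ).1.1 (y₀, 0) := by
    have : transl G c E ρ k.toAdd = 1 := hk
    rw [this]
  have h2 : (transl G c E ρ k.toAdd).1.1 (y₀, 0) = ((1 : G) • y₀, 0 + k.toAdd) := rfl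
  have h3 : (1 : LL G c E ρ).1.1 (y₀, (0 : ZMod c)) = (y₀, 0) := rfl
  rw [h2, h3] at h1
  have h4 : 0 + k.toAdd = (0 : ZMod c) := congrArg Prod.snd h1
  rw [zero_add] at h4
  exact h4

theorem transl_central (k : ZMod c) : transl G c E ρ k ∈ Subgroup.center (LL G c E ρ) := by
  rw [Subgroup.mem_center_iff]
  rintro ⟨⟨x, g⟩, lam, h1, h2⟩
  have h2' : x = liftPerm c g lam := h2
  apply Subtype.ext
  apply Prod.ext
  · show x * liftPerm c (1 : G) (fun _ => k) = liftPerm c (1 : G) (fun _ => k) * x
    rw [h2', liftPerm_mul, liftPerm_mul, mul_one, one_mul]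
    congr 1
    funext y
    rw [one_smul, add_comm]
  · show g * 1 = 1 * g
    rw [mul_one, one_mul]

/-- the kernel consists of the translations when the graph is connected -/
theorem eq_transl_of_mem_ker [Nonempty Y]
    (hconn : ∀ lam : Y → ZMod c, (∀ y y', E y y' → lam y' = lam y) → ∀ y y', lam y = lam y')
    (q : LL G c E ρ) (hq : q ∈ (sig G c E ρ).ker) : ∃ k, q = transl G c E ρ k := by
  obtain ⟨⟨x, g⟩, lam, h1, h2⟩ := q
  have hg : g = 1 := hq
  subst hg
  have h2' : x = liftPerm c (1 : G) lam := h2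
  obtain ⟨y₀⟩ := ‹Nonempty Y›
  have hl : ∀ y y', E y y' → lam y' = lam y := by
    intro y y' hy
    have := (h1 y y' hy).2
    rw [one_smul, one_smul, sub_self] at this
    exact (sub_eq_zero.mp this.symm)
  have hconst := hconn lam hl
  refine ⟨lam y₀, ?_⟩
  apply Subtype.ext
  apply Prod.ext
  · show x = liftPerm c (1 : G) (fun _ => lam y₀)
    rw [h2']
    congr 1
    funext y
    exact hconst y y₀
  · rfl

theorem sig_surjective (S : Set G) (hS : Subgroup.closure S = ⊤)
    (hlift : ∀ g ∈ S, ∃ lam, IsLift c E ρ g lam) : Function.Surjective (sig G c E ρ) := by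
  rw [← MonoidHom.range_eq_top, eq_top_iff, ← hS, Subgroup.closure_le]
  intro g hg
  obtain ⟨lam, hl⟩ := hlift g hg
  exact ⟨⟨(liftPerm c g lam, g), ⟨lam, hl, rfl⟩⟩, rfl⟩

/-- the group of the labelled lifts is a stem extension with a cyclic kernel of order `c` -/
theorem sig_isStem [Nonempty Y] (S : Set G) (hS : Subgroup.closure S = ⊤)
    (hlift : ∀ g ∈ S, ∃ lam, IsLift c E ρ g lam)
    (hconn : ∀ lam : Y → ZMod c, (∀ y y', E y y' → lam y' = lam y) → ∀ y y', lam y = lam y')
    (hT : transl G c E ρ 1 ∈ commutator (LL G c E ρ)) :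
    Cfsg.IsStemExtension (sig G c E ρ) ∧ IsCyclic (sig G c E ρ).ker ∧ Nat.card (sig G c E ρ).ker = c := by
  have hpow : ∀ k : ZMod c, transl G c E ρ k = (transl G c E ρ 1) ^ k.val := by
    intro k
    have h1 : ∀ n : ℕ, transl G c E ρ (n : ZMod c) = (transl G c E ρ 1) ^ n := by
      intro n
      induction n with
      | zero => rw [Nat.cast_zero, transl_zero, pow_zero]
      | succ n ih => rw [Nat.cast_succ, transl_add, ih, pow_succ]
    rw [← h1, ZMod.natCast_zmod_val]
  refine ⟨⟨sig_surjective G c E ρ S hS hlift, ?_, ?_⟩, ?_, ?_⟩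
  · intro q hq
    obtain ⟨k, rfl⟩ := eq_transl_of_mem_ker G c E ρ hconn q hq
    exact transl_central G c E ρ k
  · intro q hq
    obtain ⟨k, rfl⟩ := eq_transl_of_mem_ker G c E ρ hconn q hq
    rw [hpow]
    exact Subgroup.pow_mem _ hT _
  · -- the kernel is the image of the translations
    let f : Multiplicative (ZMod c) →* (sig G c E ρ).ker :=
      (translHom G c E ρ).codRestrict _ (fun k => transl_mem_ker G c E ρ k.toAdd)
    have hf : Function.Surjective f := by
      intro q
      obtain ⟨k, hk⟩ := eq_transl_of_mem_ker G c E ρ hconn q.1 q.2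
      exact ⟨Multiplicative.ofAdd k, Subtype.ext hk.symm⟩
    exact isCyclic_of_surjective f hf
  · let f : Multiplicative (ZMod c) →* (sig G c E ρ).ker :=
      (translHom G c E ρ).codRestrict _ (fun k => transl_mem_ker G c E ρ k.toAdd)
    have hf : Function.Bijective f := by
      constructor
      · intro a b hab
        apply translHom_injective G c E ρ
        exact congrArg Subtype.val hab
      · intro q
        obtain ⟨k, hk⟩ := eq_transl_of_mem_ker G c E ρ hconn q.1 q.2
        exact ⟨Multiplicative.ofAdd k, Subtype.ext hk.symm⟩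
    rw [← Nat.card_congr (Equiv.ofBijective f hf)]
    show Nat.card (ZMod c) = c
    rw [Nat.card_eq_fintype_card, ZMod.card]

end

end Cfsg.Agent.Lib.Helper1.StemLL
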