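import Mathlib
import Cfsg.Prelude.Def_KGroupFacts
import Cfsg.Agent.Lib.Helper1.StemLL2
import Cfsg.Agent.Lib.Helper1.MatCode3

set_option autoImplicit false

/-! The group of the labelled lifts from tables: the data, the checks and the bridge. -/

namespace Cfsg.Agent.Lib.Helper1.StemLL

open Cfsg.Agent.Lib.Helper1.MatCode

/-- the tables of a cyclic cover of a group acting on `m` points -/
structure LLData where
  m : ℕ
  c : ℕ
  d : ℕ
  k : ℕ
  pi : ℕ → ℕ → ℕ
  lam : ℕ → ℕ → ℕ
  nb : ℕ → ℕ → ℕ
  rho : ℕ → ℕ → ℕ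
  par : ℕ → ℕ
  rk : ℕ → ℕ
  wit : List (List ℕ × List ℕ × ℕ × ℕ)

namespace LLData

variable (L : LLData)

/-- adjacency -/
def Etab (a b : ℕ) : Bool := (List.range L.d).any fun t => L.nb a t == b

/-- the connection -/
def rhoTab (a b : ℕ) : ℕ :=
  match (List.range L.d).find? (fun t => L.nb a t == b) with
  | some t => L.rho a t
  | none => 0

/-- the tables are within range -/
def chkRange : Bool :=
  (List.range L.k).all fun i => (List.range L.m).all fun j => decide (L.pi i j < L.m)

/-- the generators lift -/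
def chkLift : Bool :=
  (List.range L.k).all fun i => (List.range L.m).all fun j => (List.range L.d).all fun t =>
    decide (L.nb j t < L.m) && L.Etab (L.pi i j) (L.pi i (L.nb j t)) &&
      ((L.rhoTab (L.pi i j) (L.pi i (L.nb j t)) + L.lam i j) % L.c ==
        (L.rhoTab j (L.nb j t) + L.lam i (L.nb j t)) % L.c)

/-- the graph is connected -/
def chkTree : Bool :=
  (List.range L.m).all fun j => j == 0 ||
    (decide (L.par j < L.m) && decide (L.rk (L.par j) < L.rk j) &&
      (L.Etab (L.par j) j || L.Etab j (L.par j)))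

/-- the action of a word on the covering set -/
def actLL : List ℕ → ℕ × ℕ → ℕ × ℕ
  | [], p => p
  | i :: w, p => (L.pi i (actLL w p).1, ((actLL w p).2 + L.lam i (actLL w p).1) % L.c)

/-- the commutator witnesses -/
def chkWit : Bool :=
  (L.wit.all fun q =>
    (q.1.all fun i => decide (i < L.k)) && (q.2.1.all fun i => decide (i < L.k)) &&
    ((List.range L.m).all fun j => (List.range L.c).all fun z =>
      ((L.actLL (q.1 ++ q.2.1) (j, z)).1 == (L.actLL (q.2.1 ++ q.1) (j, z)).1) &&
      ((L.actLL (q.1 ++ q.2.1) (j, z)).2 == ((L.actLL (q.2.1 ++ q.1) (j, z)).2 + q.2.2.1) % L.c))) &&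
  ((L.wit.map fun q => q.2.2.1 * q.2.2.2).sum % L.c == 1 % L.c)

/-- all the checks -/
def chk : Bool :=
  decide (0 < L.m) && decide (0 < L.c) && L.chkRange && L.chkLift && L.chkTree && L.chkWit

end LLData

end Cfsg.Agent.Lib.Helper1.StemLL
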