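import Mathlib
import Cfsg.Agent.Lib.Helper1.StemLL3

set_option autoImplicit false

/-! A faster check that the generators lift: the lists of neighbours are increasing, and the
position of the image of each neighbour is given as a hint. -/

namespace Cfsg.Agent.Lib.Helper1.StemLL

theorem find_range (p : ℕ → Bool) (d t₀ : ℕ) (h0 : t₀ < d) (hp : p t₀ = true)
    (hlt : ∀ t < t₀, p t = false) : (List.range d).find? p = some t₀ := by
  induction d with
  | zero => omega
  | succ d ih =>
    rw [List.range_succ, List.find?_append]
    by_cases h : t₀ < d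
    · rw [ih h]; rfl
    · have e : t₀ = d := by omega
      subst e
      have hnone : (List.range t₀).find? p = none := by
        rw [List.find?_eq_none]
        intro t ht
        rw [List.mem_range] at ht
        rw [hlt t ht]
        simp
      rw [hnone]
      simp [hp]

namespace LLData

variable (L : LLData)

/-- the lists of neighbours are increasing -/
def chkSorted : Bool :=
  (List.range L.m).all fun a => (List.range (L.d - 1)).all fun t =>
    decide (L.nb a t < L.nb a (t + 1))

/-- the generators lift, with the positions of the images of the neighbours given -/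
def chkLiftH (hint : ℕ → ℕ → ℕ → ℕ) : Bool :=
  (List.range L.k).all fun i => (List.range L.m).all fun j => (List.range L.d).all fun t =>
    decide (L.nb j t < L.m) && decide (hint i j t < L.d) &&
      (L.nb (L.pi i j) (hint i j t) == L.pi i (L.nb j t)) &&
      ((L.rho (L.pi i j) (hint i j t) + L.lam i j) % L.c ==
        (L.rho j t + L.lam i (L.nb j t)) % L.c)

variable {L}

theorem nb_lt_of_sorted (hs : L.chkSorted = true) (a : ℕ) (ha : a < L.m) (t t' : ℕ) (h : t < t')
    (ht' : t' < L.d) : L.nb a t < L.nb a t' := by
  unfold chkSorted at hs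
  simp only [List.all_eq_true, List.mem_range, decide_eq_true_eq] at hs
  induction t' with
  | zero => omega
  | succ n ih =>
    have h1 := hs a ha n (by omega)
    by_cases htn : t = n
    · subst htn; exact h1
    · exact lt_trans (ih (by omega) (by omega)) h1

theorem find_nb (hs : L.chkSorted = true) (a : ℕ) (ha : a < L.m) (t₀ : ℕ) (ht₀ : t₀ < L.d) :
    (List.range L.d).find? (fun t => L.nb a t == L.nb a t₀) = some t₀ := by
  apply find_range _ _ _ ht₀
  · simp
  · intro t ht
    have := nb_lt_of_sorted hs a ha t t₀ ht ht₀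
    rw [beq_eq_false_iff_ne]
    exact Nat.ne_of_lt this

theorem rhoTab_nb (hs : L.chkSorted = true) (a : ℕ) (ha : a < L.m) (t₀ : ℕ) (ht₀ : t₀ < L.d) :
    L.rhoTab a (L.nb a t₀) = L.rho a t₀ := by
  unfold rhoTab
  rw [find_nb hs a ha t₀ ht₀]

theorem etab_nb (a t₀ : ℕ) (ht₀ : t₀ < L.d) : L.Etab a (L.nb a t₀) = true := by
  unfold Etab
  rw [List.any_eq_true]
  exact ⟨t₀, List.mem_range.mpr ht₀, by simp⟩

/-- the faster check implies the check -/
theorem chkLift_of_hint (hint : ℕ → ℕ → ℕ → ℕ) (hR : L.chkRange = true)
    (hs : L.chkSorted = true) (hh : L.chkLiftH hint = true) : L.chkLift = true := by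
  unfold chkRange at hR
  simp only [List.all_eq_true, List.mem_range, decide_eq_true_eq] at hR
  unfold chkLiftH at hh
  simp only [List.all_eq_true, List.mem_range, Bool.and_eq_true, decide_eq_true_eq, beq_iff_eq]
    at hh
  unfold chkLift
  simp only [List.all_eq_true, List.mem_range, Bool.and_eq_true, decide_eq_true_eq, beq_iff_eq]
  intro i hi j hj t ht
  obtain ⟨⟨⟨h1, h2⟩, h3⟩, h4⟩ := hh i hi j hj t ht
  have ha := hR i hi j hj
  refine ⟨⟨h1, ?_⟩, ?_⟩
  · rw [← h3]
    exact etab_nb _ _ h2
  · rw [← h3, rhoTab_nb hs _ ha _ h2, rhoTab_nb hs j hj t ht]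
    exact h4

end LLData

end Cfsg.Agent.Lib.Helper1.StemLL
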