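import Mathlib
import Cfsg.Prelude.Def_KGroupFacts
import Cfsg.Agent.Lib.Helper1.StemLL3
import Cfsg.Agent.Lib.Helper1.StemSA7

set_option autoImplicit false

/-! The group of the labelled lifts from tables: the bridge to the abstract construction. -/

namespace Cfsg.Agent.Lib.Helper1.StemLL

open Cfsg.Agent.Lib.Helper1.MatCode Cfsg.Agent.Lib.Helper1.StemSA

/-- the hypotheses linking the tables to a group acting on a set with the points `pt j` -/
structure LLHyp (L : LLData) {G Y : Type*} [Group G] [MulAction G Y] (pt : ℕ → Y) (gs : List G) :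
    Prop where
  pt_inj : ∀ j < L.m, ∀ j' < L.m, pt j = pt j' → j = j'
  pt_surj : ∀ y : Y, ∃ j, j < L.m ∧ pt j = y
  pi_act : ∀ i < L.k, ∀ j < L.m, gs.getD i 1 • pt j = pt (L.pi i j)
  gen : Subgroup.closure {g | ∃ i < L.k, g = gs.getD i 1} = ⊤
  faithful : ∀ g : G, (∀ j < L.m, g • pt j = pt j) → g = 1

section

variable (L : LLData) {G Y : Type*} [Group G] [MulAction G Y] (pt : ℕ → Y) (gs : List G)

open Classical in
/-- the index of a point -/
noncomputable def idx (y : Y) : ℕ := if h : ∃ j, j < L.m ∧ pt j = y then Nat.find h else 0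

/-- adjacency on the set -/
def EY (y y' : Y) : Prop := L.Etab (idx L pt y) (idx L pt y') = true

/-- the connection on the set -/
noncomputable def rhoY (y y' : Y) : ZMod L.c := (L.rhoTab (idx L pt y) (idx L pt y') : ZMod L.c)

/-- the labels of the generator `i` on the set -/
noncomputable def lamY (i : ℕ) (y : Y) : ZMod L.c := (L.lam i (idx L pt y) : ZMod L.c)

variable (H : LLHyp L pt gs)
include H

theorem idx_spec (y : Y) : idx L pt y < L.m ∧ pt (idx L pt y) = y := by
  classical
  unfold idx
  rw [dif_pos (H.pt_surj y)]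
  exact Nat.find_spec (H.pt_surj y)

theorem idx_pt (j : ℕ) (hj : j < L.m) : idx L pt (pt j) = j := by
  obtain ⟨h1, h2⟩ := idx_spec L pt gs H (pt j)
  exact H.pt_inj _ h1 _ hj h2

theorem natCast_eq_of_mod_eq (x y : ℕ) (h : x % L.c = y % L.c) : (x : ZMod L.c) = (y : ZMod L.c) :=
  (ZMod.natCast_eq_natCast_iff' x y L.c).mpr h

variable (hR : L.chkRange = true)
include hR

theorem pi_lt (i j : ℕ) (hi : i < L.k) (hj : j < L.m) : L.pi i j < L.m := by
  unfold LLData.chkRange at hR
  simp only [List.all_eq_true, List.mem_range, decide_eq_true_eq] at hR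
  exact hR i hi j hj

theorem smul_idx (i : ℕ) (hi : i < L.k) (y : Y) :
    idx L pt (gs.getD i 1 • y) = L.pi i (idx L pt y) := by
  obtain ⟨h1, h2⟩ := idx_spec L pt gs H y
  conv_lhs => rw [← h2]
  rw [H.pi_act i hi _ h1, idx_pt L pt gs H _ (pi_lt L pt gs H hR i _ hi h1)]

/-- the generators lift -/
theorem isLift_gen (hLift : L.chkLift = true) (i : ℕ) (hi : i < L.k) :
    IsLift L.c (EY L pt) (rhoY L pt) (gs.getD i 1) (lamY L pt i) := by
  intro y y' hE
  unfold EY at hE
  unfold LLData.Etab at hE
  rw [List.any_eq_true] at hE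
  obtain ⟨t, ht, hnb⟩ := hE
  rw [List.mem_range] at ht
  rw [beq_iff_eq] at hnb
  obtain ⟨hj, _⟩ := idx_spec L pt gs H y
  unfold LLData.chkLift at hLift
  simp only [List.all_eq_true, List.mem_range, Bool.and_eq_true, decide_eq_true_eq, beq_iff_eq]
    at hLift
  obtain ⟨⟨_, h2⟩, h3⟩ := hLift i hi _ hj t ht
  rw [hnb] at h2 h3
  constructor
  · unfold EY
    rw [smul_idx L pt gs H hR i hi, smul_idx L pt gs H hR i hi]
    exact h2
  · unfold rhoY lamY
    rw [smul_idx L pt gs H hR i hi, smul_idx L pt gs H hR i hi]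
    have h4 := natCast_eq_of_mod_eq L pt gs H _ _ h3
    push_cast at h4
    rw [sub_eq_sub_iff_add_eq_add, h4, add_comm]

/-- the graph is connected -/
theorem hconn (hTree : L.chkTree = true) (hm : 0 < L.m) (f : Y → ZMod L.c)
    (hf : ∀ y y', EY L pt y y' → f y' = f y) : ∀ y y', f y = f y' := by
  have key : ∀ n : ℕ, ∀ j < L.m, L.rk j = n → f (pt j) = f (pt 0) := by
    intro n
    induction n using Nat.strong_induction_on with
    | _ n ih =>
      intro j hj hn
      by_cases h0 : j = 0
      · rw [h0]
      · unfold LLData.chkTree at hTree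
        simp only [List.all_eq_true, List.mem_range, Bool.or_eq_true, Bool.and_eq_true,
          decide_eq_true_eq, beq_iff_eq] at hTree
        rcases hTree j hj with h | ⟨⟨h1, h2⟩, h3⟩
        · exact absurd h h0
        · have hp := ih (L.rk (L.par j)) (by rw [← hn]; exact h2) (L.par j) h1 rfl
          rw [← hp]
          rcases h3 with h3 | h3
          · apply hf
            unfold EY
            rw [idx_pt L pt gs H _ h1, idx_pt L pt gs H _ hj]
            exact h3
          · symm
            apply hf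
            unfold EY
            rw [idx_pt L pt gs H _ h1, idx_pt L pt gs H _ hj]
            exact h3
  intro y y'
  obtain ⟨h1, h2⟩ := idx_spec L pt gs H y
  obtain ⟨h1', h2'⟩ := idx_spec L pt gs H y'
  rw [← h2, ← h2', key _ _ h1 rfl, key _ _ h1' rfl]

end

end Cfsg.Agent.Lib.Helper1.StemLL
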