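import Mathlib
import Cfsg.Prelude.Def_KGroupFacts
import Cfsg.Agent.Lib.Helper1.StemLL4

set_option autoImplicit false

/-! The group of the labelled lifts from tables: the commutator witnesses and the conclusion. -/

namespace Cfsg.Agent.Lib.Helper1.StemLL

open Cfsg.Agent.Lib.Helper1.MatCode Cfsg.Agent.Lib.Helper1.StemSA

open scoped commutatorElement

section

variable (L : LLData) [NeZero L.c] {G Y : Type*} [Group G] [Finite G] [MulAction G Y] [Finite Y]
  (pt : ℕ → Y) (gs : List G) (H : LLHyp L pt gs) (hR : L.chkRange = true) (hLift : L.chkLift = true)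

/-- the lift of the generator `i` -/
noncomputable def LgFun (i : ℕ) : LL G L.c (EY L pt) (rhoY L pt) :=
  if h : i < L.k then
    ⟨(liftPerm L.c (gs.getD i 1) (lamY L pt i), gs.getD i 1),
      ⟨lamY L pt i, isLift_gen L pt gs H hR hLift i h, rfl⟩⟩
  else 1

/-- the lifts of the generators -/
noncomputable def LgL : List (LL G L.c (EY L pt) (rhoY L pt)) :=
  (List.range L.k).map (LgFun L pt gs H hR hLift)

theorem LgL_getD (i : ℕ) (hi : i < L.k) :
    (LgL L pt gs H hR hLift).getD i 1 = LgFun L pt gs H hR hLift i := by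
  unfold LgL
  have : i < ((List.range L.k).map (LgFun L pt gs H hR hLift)).length := by simp [hi]
  rw [List.getD_eq_getElem _ _ this]
  simp

theorem LgFun_fst_apply (i : ℕ) (hi : i < L.k) (j : ℕ) (hj : j < L.m) (z : ZMod L.c) :
    (LgFun L pt gs H hR hLift i).1.1 (pt j, z) = (pt (L.pi i j), z + (L.lam i j : ZMod L.c)) := by
  unfold LgFun
  rw [dif_pos hi]
  show liftPerm L.c (gs.getD i 1) (lamY L pt i) (pt j, z) = _
  rw [liftPerm_apply]
  show (gs.getD i 1 • pt j, z + lamY L pt i (pt j)) = _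
  rw [H.pi_act i hi j hj]
  unfold lamY
  rw [idx_pt L pt gs H j hj]

/-- the action of a word in the lifts -/
theorem word_apply (w : List ℕ) (hw : ∀ i ∈ w, i < L.k) (j : ℕ) (hj : j < L.m) (z : ℕ) :
    (L.actLL w (j, z)).1 < L.m ∧
      (wordProd (LgL L pt gs H hR hLift) w).1.1 (pt j, (z : ZMod L.c)) =
        (pt (L.actLL w (j, z)).1, ((L.actLL w (j, z)).2 : ZMod L.c)) := by
  induction w with
  | nil => exact ⟨hj, by rw [wordProd_nil]; rfl⟩
  | cons i w ih =>
    have hi : i < L.k := hw i (by simp)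
    obtain ⟨h1, h2⟩ := ih (fun i' hi' => hw i' (by simp [hi']))
    refine ⟨pi_lt L pt gs H hR i _ hi h1, ?_⟩
    rw [wordProd_cons, LgL_getD L pt gs H hR hLift i hi]
    show (LgFun L pt gs H hR hLift i).1.1 ((wordProd (LgL L pt gs H hR hLift) w).1.1 (pt j, (z : ZMod L.c))) = _
    rw [h2, LgFun_fst_apply L pt gs H hR hLift i hi _ h1]
    show _ = (pt (L.pi i (L.actLL w (j, z)).1),
      ((((L.actLL w (j, z)).2 + L.lam i (L.actLL w (j, z)).1) % L.c : ℕ) : ZMod L.c))
    rw [ZMod.natCast_mod]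
    push_cast
    rfl

include H in
/-- an element of the group of the lifts is determined by its permutation -/
theorem eq_of_perm_eq (q q' : LL G L.c (EY L pt) (rhoY L pt)) (h : q.1.1 = q'.1.1) : q = q' := by
  apply Subtype.ext
  apply Prod.ext h
  obtain ⟨⟨x, g⟩, lam, _, h2⟩ := q
  obtain ⟨⟨x', g'⟩, lam', _, h2'⟩ := q'
  have hx : x = liftPerm L.c g lam := h2
  have hx' : x' = liftPerm L.c g' lam' := h2'
  have hxx : x = x' := h
  show g = g'
  have hact : ∀ y : Y, g • y = g' • y := by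
    intro y
    have e1 : (x (y, 0)).1 = g • y := by rw [hx]; rfl
    have e2 : (x' (y, 0)).1 = g' • y := by rw [hx']; rfl
    rw [← e1, ← e2, hxx]
  have h1 : g'⁻¹ * g = 1 := by
    apply H.faithful
    intro j _
    rw [mul_smul, hact, inv_smul_smul]
  calc g = g' * (g'⁻¹ * g) := by group
    _ = g' := by rw [h1, mul_one]

theorem transl_fst_apply (k : ZMod L.c) (y : Y) (z : ZMod L.c) :
    (transl G L.c (EY L pt) (rhoY L pt) k).1.1 (y, z) = (y, z + k) := by
  show liftPerm L.c (1 : G) (fun _ => k) (y, z) = _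
  rw [liftPerm_apply, one_smul]

include H hR hLift in
/-- one witness -/
theorem transl_mem_commutator_of_wit (hc : 0 < L.c) (A B : List ℕ) (dd : ℕ) (hA : ∀ i ∈ A, i < L.k)
    (hB : ∀ i ∈ B, i < L.k)
    (h : ∀ j < L.m, ∀ z < L.c, (L.actLL (A ++ B) (j, z)).1 = (L.actLL (B ++ A) (j, z)).1 ∧
      (L.actLL (A ++ B) (j, z)).2 = ((L.actLL (B ++ A) (j, z)).2 + dd) % L.c) :
    transl G L.c (EY L pt) (rhoY L pt) (dd : ZMod L.c) ∈
      commutator (LL G L.c (EY L pt) (rhoY L pt)) := by
  set WA := wordProd (LgL L pt gs H hR hLift) A with hWA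
  set WB := wordProd (LgL L pt gs H hR hLift) B with hWB
  have hAB : ∀ i ∈ A ++ B, i < L.k := by
    intro i hi
    rcases List.mem_append.mp hi with h' | h'
    · exact hA i h'
    · exact hB i h'
  have hBA : ∀ i ∈ B ++ A, i < L.k := by
    intro i hi
    rcases List.mem_append.mp hi with h' | h'
    · exact hB i h'
    · exact hA i h'
  have key : WA * WB = transl G L.c (EY L pt) (rhoY L pt) (dd : ZMod L.c) * (WB * WA) := by
    apply eq_of_perm_eq L pt gs H
    apply Equiv.ext
    rintro ⟨y, z⟩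
    obtain ⟨j, hj, rfl⟩ := H.pt_surj y
    have hz : ((z.val : ℕ) : ZMod L.c) = z := ZMod.natCast_zmod_val z
    have hzlt : z.val < L.c := ZMod.val_lt z
    obtain ⟨h1, h2⟩ := h j hj z.val hzlt
    rw [hWA, hWB, ← wordProd_append, ← wordProd_append]
    have e1 := (word_apply L pt gs H hR hLift (A ++ B) hAB j hj z.val).2
    have e2 := (word_apply L pt gs H hR hLift (B ++ A) hBA j hj z.val).2
    rw [hz] at e1 e2
    rw [e1]
    show _ = (transl G L.c (EY L pt) (rhoY L pt) (dd : ZMod L.c)).1.1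
      ((wordProd (LgL L pt gs H hR hLift) (B ++ A)).1.1 (pt j, z))
    rw [e2, transl_fst_apply, h1, h2, ZMod.natCast_mod]
    push_cast
    rfl
  have e : transl G L.c (EY L pt) (rhoY L pt) (dd : ZMod L.c) = ⁅WA, WB⁆ := by
    rw [commutatorElement_def]
    have : WA * WB * WA⁻¹ * WB⁻¹ = (WA * WB) * (WB * WA)⁻¹ := by group
    rw [this, key]
    group
  rw [e, commutator_def]
  exact Subgroup.commutator_mem_commutator (Subgroup.mem_top _) (Subgroup.mem_top _)

theorem transl_natCast_mul (a e : ℕ) :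
    transl G L.c (EY L pt) (rhoY L pt) ((a * e : ℕ) : ZMod L.c) =
      (transl G L.c (EY L pt) (rhoY L pt) (a : ZMod L.c)) ^ e := by
  induction e with
  | zero => rw [Nat.mul_zero, Nat.cast_zero, transl_zero, pow_zero]
  | succ e ih => rw [Nat.mul_succ, Nat.cast_add, transl_add, ih, pow_succ]

include H hR hLift in
/-- the generator of the kernel is a product of commutators -/
theorem hT (hW : L.chkWit = true) (hc : 0 < L.c) :
    transl G L.c (EY L pt) (rhoY L pt) 1 ∈ commutator (LL G L.c (EY L pt) (rhoY L pt)) := by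
  unfold LLData.chkWit at hW
  rw [Bool.and_eq_true, List.all_eq_true, beq_iff_eq] at hW
  obtain ⟨h1, h2⟩ := hW
  have hsum : ∀ l : List (List ℕ × List ℕ × ℕ × ℕ), (∀ q ∈ l, q ∈ L.wit) →
      transl G L.c (EY L pt) (rhoY L pt) (((l.map fun q => q.2.2.1 * q.2.2.2).sum : ℕ) : ZMod L.c) ∈
        commutator (LL G L.c (EY L pt) (rhoY L pt)) := by
    intro l
    induction l with
    | nil =>
      intro _
      rw [List.map_nil, List.sum_nil, Nat.cast_zero, transl_zero]
      exact Subgroup.one_mem _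
    | cons q l ih =>
      intro hl
      rw [List.map_cons, List.sum_cons, Nat.cast_add, transl_add]
      refine Subgroup.mul_mem _ ?_ (ih (fun q' hq' => hl q' (by simp [hq'])))
      rw [transl_natCast_mul]
      apply Subgroup.pow_mem
      have hq := h1 q (hl q (by simp))
      simp only [Bool.and_eq_true, List.all_eq_true, List.mem_range, decide_eq_true_eq, beq_iff_eq]
        at hq
      obtain ⟨⟨hA, hB⟩, hall⟩ := hq
      exact transl_mem_commutator_of_wit L pt gs H hR hLift hc q.1 q.2.1 q.2.2.1 hA hB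
        (fun j hj z hz => hall j hj z hz)
  have := hsum L.wit (fun q hq => hq)
  have e : (((L.wit.map fun q => q.2.2.1 * q.2.2.2).sum : ℕ) : ZMod L.c) = 1 := by
    have := natCast_eq_of_mod_eq L pt gs H _ _ h2
    rw [this, Nat.cast_one]
  rwa [e] at this

include H in
/-- the conclusion -/
theorem stem_of_data [Nonempty Y] (hchk : L.chk = true) :
    Cfsg.IsStemExtension (sig G L.c (EY L pt) (rhoY L pt)) ∧
      IsCyclic (sig G L.c (EY L pt) (rhoY L pt)).ker ∧
      Nat.card (sig G L.c (EY L pt) (rhoY L pt)).ker = L.c := by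
  unfold LLData.chk at hchk
  simp only [Bool.and_eq_true, decide_eq_true_eq] at hchk
  obtain ⟨⟨⟨⟨⟨hm, hc⟩, hR⟩, hLift⟩, hTree⟩, hW⟩ := hchk
  apply sig_isStem G L.c (EY L pt) (rhoY L pt) {g | ∃ i < L.k, g = gs.getD i 1} H.gen
  · rintro g ⟨i, hi, rfl⟩
    exact ⟨lamY L pt i, isLift_gen L pt gs H hR hLift i hi⟩
  · exact hconn L pt gs H hR hTree hm
  · exact hT L pt gs H hR hLift hW hc

end

end Cfsg.Agent.Lib.Helper1.StemLL
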