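import Mathlib
import Cfsg.Prelude.Def_KGroupFacts
import Cfsg.Agent.Lib.Helper1.StemLL5
import Cfsg.Agent.Lib.Helper1.Stem21

set_option autoImplicit false

/-! The group of the labelled lifts from tables: the commutators of the lifts of two commuting
words, and the fibre product of two such groups over the same generators. -/

namespace Cfsg.Agent.Lib.Helper1.StemLL

open Cfsg.Agent.Lib.Helper1.MatCode Cfsg.Agent.Lib.Helper1.StemSA Cfsg.Agent.Lib.Helper1.Stem

open scoped commutatorElement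

namespace LLData

/-- the check that two words commute on the points, with the commutator of their lifts the
translation by `dd` -/
def chkPair (L : LLData) (A B : List ℕ) (dd : ℕ) : Bool :=
  (A.all fun i => decide (i < L.k)) && (B.all fun i => decide (i < L.k)) &&
  ((List.range L.m).all fun j => (List.range L.c).all fun z =>
    ((L.actLL (A ++ B) (j, z)).1 == (L.actLL (B ++ A) (j, z)).1) &&
    ((L.actLL (A ++ B) (j, z)).2 == ((L.actLL (B ++ A) (j, z)).2 + dd) % L.c))

end LLData

section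

variable (L : LLData) [NeZero L.c] {G Y : Type*} [Group G] [Finite G] [MulAction G Y] [Finite Y]
  (pt : ℕ → Y) (gs : List G) (H : LLHyp L pt gs) (hR : L.chkRange = true) (hLift : L.chkLift = true)

/-- the image of the lift of a word -/
theorem sig_wordProd_LgL (w : List ℕ) (hw : ∀ i ∈ w, i < L.k) :
    sig G L.c (EY L pt) (rhoY L pt) (wordProd (LgL L pt gs H hR hLift) w) = wordProd gs w := by
  apply sigma_wordProd (sig G L.c (EY L pt) (rhoY L pt)) (LgL L pt gs H hR hLift) gs L.k _ w hw
  intro i hi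
  rw [LgL_getD L pt gs H hR hLift i hi]
  unfold LgFun
  rw [dif_pos hi]
  rfl

/-- the commutator of the lifts of two words -/
theorem commutator_wordProd_LgL (A B : List ℕ) (dd : ℕ) (h : L.chkPair A B dd = true) :
    ⁅wordProd (LgL L pt gs H hR hLift) A, wordProd (LgL L pt gs H hR hLift) B⁆ =
      transl G L.c (EY L pt) (rhoY L pt) (dd : ZMod L.c) := by
  unfold LLData.chkPair at h
  simp only [Bool.and_eq_true, List.all_eq_true, List.mem_range, decide_eq_true_eq, beq_iff_eq]
    at h
  obtain ⟨⟨hA, hB⟩, hall⟩ := h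
  set WA := wordProd (LgL L pt gs H hR hLift) A with hWA
  set WB := wordProd (LgL L pt gs H hR hLift) B with hWB
  have hAB : ∀ i ∈ A ++ B, i < L.k := by
    intro i hi
    rcases List.mem_append.mp hi with h' | h'
    · exact hA i h'
    · exact hB i h'
  have hBA : ∀ i ∈ B ++ A, i < L.k := by
    intro i hi
    rcases List.mem_append.mp hi with h' | h'
    · exact hB i h'
    · exact hA i h'
  have key : WA * WB = transl G L.c (EY L pt) (rhoY L pt) (dd : ZMod L.c) * (WB * WA) := by
    apply eq_of_perm_eq L pt gs H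
    apply Equiv.ext
    rintro ⟨y, z⟩
    obtain ⟨j, hj, rfl⟩ := H.pt_surj y
    have hz : ((z.val : ℕ) : ZMod L.c) = z := ZMod.natCast_zmod_val z
    have hzlt : z.val < L.c := ZMod.val_lt z
    obtain ⟨h1, h2⟩ := hall j hj z.val hzlt
    rw [hWA, hWB, ← wordProd_append, ← wordProd_append]
    have e1 := (word_apply L pt gs H hR hLift (A ++ B) hAB j hj z.val).2
    have e2 := (word_apply L pt gs H hR hLift (B ++ A) hBA j hj z.val).2
    rw [hz] at e1 e2
    rw [e1]
    show _ = (transl G L.c (EY L pt) (rhoY L pt) (dd : ZMod L.c)).1.1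
      ((wordProd (LgL L pt gs H hR hLift) (B ++ A)).1.1 (pt j, z))
    rw [e2, transl_fst_apply, h1, h2, ZMod.natCast_mod]
    push_cast
    rfl
  rw [commutatorElement_def]
  have : WA * WB * WA⁻¹ * WB⁻¹ = (WA * WB) * (WB * WA)⁻¹ := by group
  rw [this, key]
  group

end

section fibre

universe u

variable (La Lb : LLData) [NeZero La.c] [NeZero Lb.c] {G Ya Yb : Type u} [Group G] [Finite G]
  [MulAction G Ya] [Finite Ya] [MulAction G Yb] [Finite Yb] [Nonempty Ya] [Nonempty Yb]
  (pta : ℕ → Ya) (ptb : ℕ → Yb) (gs : List G) (Ha : LLHyp La pta gs) (Hb : LLHyp Lb ptb gs)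

include Ha Hb in
/-- the fibre product of two groups of labelled lifts over the same generators is a stem
extension, when two pairs of commuting words have the commutators of their lifts equal to the
generators of the two kernels -/
theorem fibre_isStem (hchka : La.chk = true) (hchkb : Lb.chk = true)
    (A₁ B₁ A₂ B₂ : List ℕ) (h1a : La.chkPair A₁ B₁ 1 = true) (h1b : Lb.chkPair A₁ B₁ 0 = true)
    (h2a : La.chkPair A₂ B₂ 0 = true) (h2b : Lb.chkPair A₂ B₂ 1 = true) :
    Cfsg.IsStemExtension (fibreHom (sig G La.c (EY La pta) (rhoY La pta))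
      (sig G Lb.c (EY Lb ptb) (rhoY Lb ptb))) := by
  have hsa := (stem_of_data La pta gs Ha hchka).1
  have hsb := (stem_of_data Lb ptb gs Hb hchkb).1
  have ha := hchka
  have hb := hchkb
  unfold LLData.chk at ha hb
  simp only [Bool.and_eq_true, decide_eq_true_eq] at ha hb
  obtain ⟨⟨⟨⟨⟨hma, hca⟩, hRa⟩, hLifta⟩, hTreea⟩, _⟩ := ha
  obtain ⟨⟨⟨⟨⟨hmb, hcb⟩, hRb⟩, hLiftb⟩, hTreeb⟩, _⟩ := hb
  set σa := sig G La.c (EY La pta) (rhoY La pta) with hσa
  set σb := sig G Lb.c (EY Lb ptb) (rhoY Lb ptb) with hσb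
  -- the words of a pair
  have hwords : ∀ (A B : List ℕ) (da db : ℕ), La.chkPair A B da = true →
      Lb.chkPair A B db = true →
      ∃ x ∈ commutator (fibreProd σa σb), (x : _ × _) =
        (transl G La.c (EY La pta) (rhoY La pta) (da : ZMod La.c),
          transl G Lb.c (EY Lb ptb) (rhoY Lb ptb) (db : ZMod Lb.c)) := by
    intro A B da db hpa hpb
    have hpa' := hpa
    have hpb' := hpb
    unfold LLData.chkPair at hpa' hpb'
    simp only [Bool.and_eq_true, List.all_eq_true, decide_eq_true_eq] at hpa' hpb'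
    obtain ⟨⟨hAa, hBa⟩, _⟩ := hpa'
    obtain ⟨⟨hAb, hBb⟩, _⟩ := hpb'
    have memF : ∀ w : List ℕ, (∀ i ∈ w, i < La.k) → (∀ i ∈ w, i < Lb.k) →
        (wordProd (LgL La pta gs Ha hRa hLifta) w, wordProd (LgL Lb ptb gs Hb hRb hLiftb) w) ∈
          fibreProd σa σb := by
      intro w hwa hwb
      rw [mem_fibreProd]
      show σa _ = σb _
      rw [hσa, hσb, sig_wordProd_LgL La pta gs Ha hRa hLifta w hwa,
        sig_wordProd_LgL Lb ptb gs Hb hRb hLiftb w hwb]
    let xA : fibreProd σa σb := ⟨_, memF A hAa hAb⟩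
    let xB : fibreProd σa σb := ⟨_, memF B hBa hBb⟩
    refine ⟨⁅xA, xB⁆, ?_, ?_⟩
    · rw [commutator_def]
      exact Subgroup.commutator_mem_commutator (Subgroup.mem_top _) (Subgroup.mem_top _)
    · rw [← commutator_wordProd_LgL La pta gs Ha hRa hLifta A B da hpa,
        ← commutator_wordProd_LgL Lb ptb gs Hb hRb hLiftb A B db hpb]
      rfl
  have hpowa : ∀ k : ZMod La.c, transl G La.c (EY La pta) (rhoY La pta) k =
      (transl G La.c (EY La pta) (rhoY La pta) 1) ^ k.val := by
    intro k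
    have h1 := transl_natCast_mul (G := G) La pta 1 k.val
    rw [one_mul, ZMod.natCast_zmod_val, Nat.cast_one] at h1
    exact h1
  have hpowb : ∀ k : ZMod Lb.c, transl G Lb.c (EY Lb ptb) (rhoY Lb ptb) k =
      (transl G Lb.c (EY Lb ptb) (rhoY Lb ptb) 1) ^ k.val := by
    intro k
    have h1 := transl_natCast_mul (G := G) Lb ptb 1 k.val
    rw [one_mul, ZMod.natCast_zmod_val, Nat.cast_one] at h1
    exact h1
  apply fibreHom_isStem_of_mem σa σb hsa hsb
  · intro c hc
    obtain ⟨k, rfl⟩ := eq_transl_of_mem_ker G La.c (EY La pta) (rhoY La pta)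
      (hconn La pta gs Ha hRa hTreea hma) c hc
    obtain ⟨x, hx, hxe⟩ := hwords A₁ B₁ 1 0 h1a h1b
    refine ⟨x ^ k.val, Subgroup.pow_mem _ hx _, ?_⟩
    rw [Subgroup.coe_pow, hxe, Prod.pow_mk, Nat.cast_one, Nat.cast_zero, transl_zero, one_pow,
      ← hpowa]
  · intro c hc
    obtain ⟨k, rfl⟩ := eq_transl_of_mem_ker G Lb.c (EY Lb ptb) (rhoY Lb ptb)
      (hconn Lb ptb gs Hb hRb hTreeb hmb) c hc
    obtain ⟨x, hx, hxe⟩ := hwords A₂ B₂ 0 1 h2a h2b
    refine ⟨x ^ k.val, Subgroup.pow_mem _ hx _, ?_⟩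
    rw [Subgroup.coe_pow, hxe, Prod.pow_mk, Nat.cast_one, Nat.cast_zero, transl_zero, one_pow,
      ← hpowb]

end fibre

end Cfsg.Agent.Lib.Helper1.StemLL
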