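import Mathlib
import Cfsg.Agent.Lib.Helper5.AltForm
import Cfsg.Agent.Lib.Helper9.Elus3

set_option autoImplicit false
set_option linter.unusedSectionVars false

/-!
Nondegenerate subspaces of an alternating space (ambient formulation): orthogonal complements
inside a nondegenerate subspace, orthogonal sums, hyperbolic planes.
-/

namespace Cfsg.Agent.Lib.Helper1.SpBlk

open Module Cfsg.Agent.H9SemiInv

variable {F V : Type*} [Field F] [AddCommGroup V] [Module F V] [FiniteDimensional F V]

/-- `B` is nondegenerate on the subspace `M`. -/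
def Nd (B : LinearMap.BilinForm F V) (M : Submodule F V) : Prop :=
  ∀ u ∈ M, (∀ v ∈ M, B u v = 0) → u = 0

variable {B : LinearMap.BilinForm F V}

theorem nd_bot : Nd B ⊥ := fun _ hu _ => (Submodule.mem_bot F).1 hu

theorem alt_swap (hB : B.IsAlt) (x y : V) : B x y = -B y x :=
  Cfsg.Agent.Lib.Helper5.AltForm.alt_swap hB x y

theorem Nd.disjoint (hB : B.IsAlt) {M : Submodule F V} (h : Nd B M) :
    Disjoint M (B.orthogonal M) := by
  rw [Submodule.disjoint_def]
  intro x hx hx'
  apply h x hx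
  intro v hv
  rw [alt_swap hB, hx' v hv, neg_zero]

theorem Nd.isCompl (hB : B.IsAlt) {M : Submodule F V} (h : Nd B M) :
    IsCompl M (B.orthogonal M) :=
  (LinearMap.BilinForm.isCompl_orthogonal_iff_disjoint hB.isRefl).2 (h.disjoint hB)

theorem Nd.inf_ker (M : Submodule F V) (h : Nd B M) : M ⊓ LinearMap.ker B = ⊥ := by
  rw [eq_bot_iff]
  intro x hx
  rw [Submodule.mem_bot]
  apply h x hx.1
  intro v _
  have := LinearMap.mem_ker.1 hx.2
  rw [this, LinearMap.zero_apply]

theorem Nd.finrank_inf_orthogonal (hB : B.IsAlt) {M U : Submodule F V} (h : Nd B M)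
    (hU : U ≤ M) :
    finrank F ↥(M ⊓ B.orthogonal U) + finrank F U = finrank F M := by
  have hc := h.isCompl hB
  have hle : B.orthogonal M ≤ B.orthogonal U := LinearMap.BilinForm.orthogonal_le hU
  have hmod : B.orthogonal U = B.orthogonal M ⊔ (M ⊓ B.orthogonal U) := by
    have h1 : (B.orthogonal M ⊔ M) ⊓ B.orthogonal U = B.orthogonal M ⊔ (M ⊓ B.orthogonal U) :=
      sup_inf_assoc_of_le M hle
    rw [sup_comm, hc.sup_eq_top, top_inf_eq] at h1
    exact h1
  have hdis : Disjoint (B.orthogonal M) (M ⊓ B.orthogonal U) :=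
    (hc.disjoint.mono_left inf_le_left).symm
  have h2 : finrank F (B.orthogonal U) =
      finrank F (B.orthogonal M) + finrank F ↥(M ⊓ B.orthogonal U) := by
    conv_lhs => rw [hmod]
    exact finrank_sup_of_disjoint hdis
  have h3 := LinearMap.BilinForm.finrank_add_finrank_orthogonal' (B := B) U
  have h4 : U ⊓ LinearMap.ker B = ⊥ := by
    rw [eq_bot_iff, ← h.inf_ker M]
    exact inf_le_inf_right _ hU
  have h5 := LinearMap.BilinForm.finrank_add_finrank_orthogonal' (B := B) M
  rw [h.inf_ker M, finrank_bot, add_zero] at h5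
  rw [h4, finrank_bot, add_zero] at h3
  omega

theorem Nd.sup_inf_orthogonal (hB : B.IsAlt) {M N : Submodule F V} (hN : Nd B N) (hNM : N ≤ M) :
    N ⊔ (M ⊓ B.orthogonal N) = M := by
  have hc := hN.isCompl hB
  have h1 : (N ⊔ B.orthogonal N) ⊓ M = N ⊔ (B.orthogonal N ⊓ M) := sup_inf_assoc_of_le _ hNM
  rw [hc.sup_eq_top, top_inf_eq] at h1
  rw [inf_comm, ← h1]

theorem Nd.disjoint_inf_orthogonal (hB : B.IsAlt) {N : Submodule F V} (M : Submodule F V)
    (hN : Nd B N) : Disjoint N (M ⊓ B.orthogonal N) :=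
  (hN.disjoint hB).mono_right inf_le_right

theorem Nd.finrank_inf_orthogonal_self (hB : B.IsAlt) {M N : Submodule F V} (hN : Nd B N)
    (hNM : N ≤ M) : finrank F N + finrank F ↥(M ⊓ B.orthogonal N) = finrank F M := by
  rw [← finrank_sup_of_disjoint (hN.disjoint_inf_orthogonal hB M), hN.sup_inf_orthogonal hB hNM]

theorem Nd.inf_orthogonal (hB : B.IsAlt) {M N : Submodule F V} (hM : Nd B M) (hN : Nd B N)
    (hNM : N ≤ M) : Nd B (M ⊓ B.orthogonal N) := by
  intro u hu h
  apply hM u hu.1
  intro w hw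
  have hw' : w ∈ N ⊔ (M ⊓ B.orthogonal N) := by
    rw [hN.sup_inf_orthogonal hB hNM]; exact hw
  obtain ⟨n, hn, v, hv, rfl⟩ := Submodule.mem_sup.1 hw'
  rw [map_add, h v hv, add_zero, alt_swap hB, hu.2 n hn, neg_zero]

theorem Nd.sup (hB : B.IsAlt) {N₁ N₂ : Submodule F V} (h₁ : Nd B N₁) (h₂ : Nd B N₂)
    (horth : N₂ ≤ B.orthogonal N₁) : Nd B (N₁ ⊔ N₂) := by
  intro w hw h
  obtain ⟨n₁, hn₁, n₂, hn₂, rfl⟩ := Submodule.mem_sup.1 hw
  have e1 : n₁ = 0 := by
    apply h₁ n₁ hn₁
    intro v hv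
    have h3 := h v (Submodule.mem_sup_left hv)
    rw [map_add, LinearMap.add_apply] at h3
    have h0 : B n₂ v = 0 := by rw [alt_swap hB, horth hn₂ v hv, neg_zero]
    rw [h0, add_zero] at h3
    exact h3
  have e2 : n₂ = 0 := by
    apply h₂ n₂ hn₂
    intro v hv
    have h3 := h v (Submodule.mem_sup_right hv)
    rw [map_add, LinearMap.add_apply] at h3
    have h0 : B n₁ v = 0 := horth hv n₁ hn₁
    rw [h0, zero_add] at h3
    exact h3
  rw [e1, e2, add_zero]

/-- an orthogonal direct summand of a nondegenerate subspace is nondegenerate -/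
theorem Nd.of_sup {N₁ N₂ : Submodule F V} (h : Nd B (N₁ ⊔ N₂))
    (horth : N₂ ≤ B.orthogonal N₁) : Nd B N₁ := by
  intro u hu hu'
  apply h u (Submodule.mem_sup_left hu)
  intro w hw
  obtain ⟨n₁, hn₁, n₂, hn₂, rfl⟩ := Submodule.mem_sup.1 hw
  rw [map_add, hu' n₁ hn₁, zero_add]
  exact horth hn₂ u hu

theorem Inv.pow' {T : V →ₗ[F] V} {N : Submodule F V} (h : Inv T N) (k : ℕ) : Inv (T ^ k) N := by
  induction k with
  | zero => intro v hv; simpa using hv
  | succ k ih =>
    intro v hv
    rw [pow_succ, Module.End.mul_apply]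
    exact ih _ (h v hv)

theorem isom_pow {T : V →ₗ[F] V} (hT : ∀ u v, B (T u) (T v) = B u v) (k : ℕ) (u v : V) :
    B ((T ^ k) u) ((T ^ k) v) = B u v := by
  induction k with
  | zero => simp
  | succ k ih => rw [pow_succ', Module.End.mul_apply, Module.End.mul_apply, hT, ih]

theorem pow_pred_apply {T : V →ₗ[F] V} {r : ℕ} (hr : 0 < r) (hTr : T ^ r = 1) (n : V) :
    T ((T ^ (r - 1)) n) = n := by
  have h1 : T * T ^ (r - 1) = 1 := by rw [← pow_succ', Nat.sub_add_cancel hr, hTr]
  calc T ((T ^ (r - 1)) n) = (T * T ^ (r - 1)) n := rfl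
    _ = n := by rw [h1]; rfl

theorem pow_pred_apply' {T : V →ₗ[F] V} {r : ℕ} (hr : 0 < r) (hTr : T ^ r = 1) (n : V) :
    (T ^ (r - 1)) (T n) = n := by
  have h1 : T ^ (r - 1) * T = 1 := by rw [← pow_succ, Nat.sub_add_cancel hr, hTr]
  calc (T ^ (r - 1)) (T n) = (T ^ (r - 1) * T) n := rfl
    _ = n := by rw [h1]; rfl

theorem inv_orthogonal {T : V →ₗ[F] V} (hT : ∀ u v, B (T u) (T v) = B u v) {r : ℕ} (hr : 0 < r)
    (hTr : T ^ r = 1) {N : Submodule F V} (hN : Inv T N) : Inv T (B.orthogonal N) := by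
  intro v hv n hn
  show B n (T v) = 0
  rw [← pow_pred_apply hr hTr n, hT]
  exact hv _ (Inv.pow' hN (r - 1) n hn)

theorem injective_of_pow {T : V →ₗ[F] V} {r : ℕ} (hr : 0 < r) (hTr : T ^ r = 1) :
    Function.Injective T := by
  intro a b hab
  rw [← pow_pred_apply' hr hTr a, hab, pow_pred_apply' hr hTr b]

theorem map_eq_of_inv {T : V →ₗ[F] V} {r : ℕ} (hr : 0 < r) (hTr : T ^ r = 1) {N : Submodule F V}
    (hN : Inv T N) : N.map T = N := by
  apply Submodule.eq_of_le_of_finrank_eq ((inv_iff T N).1 hN)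
  exact (Submodule.equivMapOfInjective T (injective_of_pow hr hTr) N).finrank_eq.symm

theorem Nd.even_finrank (hB : B.IsAlt) {M : Submodule F V} (h : Nd B M) : Even (finrank F M) := by
  have halt : (B.restrict M).IsAlt := fun x => hB x
  apply Cfsg.Agent.Lib.Helper5.AltForm.even_finrank_of_nondegenerate halt
  intro x hx
  apply Subtype.ext
  apply h x x.2
  intro v hv
  exact hx ⟨v, hv⟩

theorem Nd.exists_plane (hB : B.IsAlt) {M : Submodule F V} (h : Nd B M) (hne : M ≠ ⊥) :
    ∃ N : Submodule F V, N ≤ M ∧ Nd B N ∧ finrank F N = 2 := by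
  obtain ⟨u, huM, hu0⟩ := Submodule.exists_mem_ne_zero_of_ne_bot hne
  have hex : ∃ v ∈ M, B u v ≠ 0 := by
    by_contra hcon
    push Not at hcon
    exact hu0 (h u huM hcon)
  obtain ⟨v, hvM, huv⟩ := hex
  have hvu : B v u ≠ 0 := by
    rw [alt_swap hB]; exact neg_ne_zero.2 huv
  refine ⟨Submodule.span F {u, v}, ?_, ?_, ?_⟩
  · rw [Submodule.span_le]
    intro x hx
    rcases hx with rfl | hx
    · exact huM
    · rw [Set.mem_singleton_iff.1 hx]; exact hvM
  · intro w hw hw'
    obtain ⟨a, b, rfl⟩ := Submodule.mem_span_pair.1 hw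
    have h1 := hw' u (Submodule.subset_span (by simp))
    have h2 := hw' v (Submodule.subset_span (by simp))
    rw [map_add, LinearMap.add_apply, map_smul, map_smul, LinearMap.smul_apply,
      LinearMap.smul_apply, hB u, smul_zero, zero_add, smul_eq_mul] at h1
    rw [map_add, LinearMap.add_apply, map_smul, map_smul, LinearMap.smul_apply,
      LinearMap.smul_apply, hB v, smul_zero, add_zero, smul_eq_mul] at h2
    have hb : b = 0 := (mul_eq_zero.1 h1).resolve_right hvu
    have ha : a = 0 := (mul_eq_zero.1 h2).resolve_right huv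
    rw [ha, hb, zero_smul, zero_smul, add_zero]
  · have hli : LinearIndependent F ![u, v] := by
      rw [LinearIndependent.pair_iff]
      intro s t hst
      have h1 := congrArg (fun w => B w u) hst
      have h2 := congrArg (fun w => B w v) hst
      simp only [map_add, LinearMap.add_apply, map_smul, LinearMap.smul_apply, hB u, hB v,
        mul_zero, zero_add, add_zero, smul_eq_mul, map_zero, LinearMap.zero_apply] at h1 h2
      exact ⟨(mul_eq_zero.1 h2).resolve_right huv, (mul_eq_zero.1 h1).resolve_right hvu⟩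
    have h3 := finrank_span_eq_card hli
    rw [Fintype.card_fin] at h3
    have h4 : Set.range ![u, v] = {u, v} := by
      ext x
      simp only [Set.mem_range, Set.mem_insert_iff, Set.mem_singleton_iff]
      constructor
      · rintro ⟨i, rfl⟩
        fin_cases i
        · left; rfl
        · right; rfl
      · rintro (rfl | rfl)
        · exact ⟨0, rfl⟩
        · exact ⟨1, rfl⟩
    rw [h4] at h3
    exact h3

end Cfsg.Agent.Lib.Helper1.SpBlk
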