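import Mathlib
import Cfsg.Agent.Lib.Helper1.SpBlk1

set_option autoImplicit false
set_option linter.unusedSectionVars false

/-!
An isometry `T` of an alternating space with `T ^ r = 1`: fixed space `fixE`, moved part `movK`,
splitting of invariant subspaces, pairing of a totally isotropic invariant subspace.
-/

namespace Cfsg.Agent.Lib.Helper1.SpBlk

open Module Polynomial Cfsg.Agent.H9SemiInv Cfsg.Agent.Lib.Helper9.H9Elus

section general
variable {F V : Type*} [Field F] [AddCommGroup V] [Module F V] [FiniteDimensional F V]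

/-- the fixed space of `T` -/
noncomputable def fixE (T : V →ₗ[F] V) : Submodule F V := LinearMap.ker (aeval T (X - 1 : F[X]))

/-- the part of `V` moved by `T` (when `T ^ r = 1`) -/
noncomputable def movK (r : ℕ) (T : V →ₗ[F] V) : Submodule F V := LinearMap.ker (aeval T (cyclotomic r F))

theorem mem_fixE (T : V →ₗ[F] V) (v : V) : v ∈ fixE T ↔ T v = v := by
  unfold fixE
  rw [LinearMap.mem_ker, map_sub, aeval_X, map_one, LinearMap.sub_apply, Module.End.one_apply,
    sub_eq_zero]

theorem inv_ker_aeval' (T : V →ₗ[F] V) (s : F[X]) : Inv T (LinearMap.ker (aeval T s)) := by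
  intro v hv
  rw [LinearMap.mem_ker] at hv ⊢
  have h1 : aeval T s * T = T * aeval T s := by
    have e1 : aeval T (s * X) = aeval T s * T := by rw [map_mul, aeval_X]
    have e2 : aeval T (X * s) = T * aeval T s := by rw [map_mul, aeval_X]
    rw [← e1, ← e2, mul_comm]
  calc aeval T s (T v) = (aeval T s * T) v := rfl
    _ = (T * aeval T s) v := by rw [h1]
    _ = T (aeval T s v) := rfl
    _ = 0 := by rw [hv, map_zero]

theorem inv_fixE (T : V →ₗ[F] V) : Inv T (fixE T) := inv_ker_aeval' T _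

theorem inv_movK (r : ℕ) (T : V →ₗ[F] V) : Inv T (movK r T) := inv_ker_aeval' T _

theorem inv_of_le_fixE {T : V →ₗ[F] V} {N : Submodule F V} (h : N ≤ fixE T) : Inv T N := by
  intro v hv
  rw [(mem_fixE T v).1 (h hv)]
  exact hv

/-- splitting of an invariant subspace along coprime polynomials -/
theorem inf_ker_sup_inf_ker (T : V →ₗ[F] V) {M : Submodule F V} (hM : Inv T M) (p₁ p₂ : F[X])
    (hcop : IsCoprime p₁ p₂) (hann : ∀ m ∈ M, aeval T (p₁ * p₂) m = 0) :
    (M ⊓ LinearMap.ker (aeval T p₁)) ⊔ (M ⊓ LinearMap.ker (aeval T p₂)) = M := by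
  apply le_antisymm (sup_le inf_le_left inf_le_left)
  intro m hm
  obtain ⟨a, b, hab⟩ := hcop
  have h1 : m = aeval T (b * p₂) m + aeval T (a * p₁) m := by
    have h2 := congrArg (fun t : F[X] => aeval T t m) hab
    simp only [map_add, LinearMap.add_apply, map_one, Module.End.one_apply] at h2
    rw [add_comm]
    exact h2.symm
  rw [h1]
  apply Submodule.add_mem
  · apply Submodule.mem_sup_left
    refine ⟨Inv.aeval hM _ m hm, LinearMap.mem_ker.2 ?_⟩
    rw [← Module.End.mul_apply, ← map_mul]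
    have h3 : p₁ * (b * p₂) = b * (p₁ * p₂) := by ring
    rw [h3, map_mul, Module.End.mul_apply, hann m hm, map_zero]
  · apply Submodule.mem_sup_right
    refine ⟨Inv.aeval hM _ m hm, LinearMap.mem_ker.2 ?_⟩
    rw [← Module.End.mul_apply, ← map_mul]
    have h3 : p₂ * (a * p₁) = a * (p₁ * p₂) := by ring
    rw [h3, map_mul, Module.End.mul_apply, hann m hm, map_zero]

/-- additivity of the fixed part over a direct sum of invariant subspaces -/
theorem sup_inf_fixE (T : V →ₗ[F] V) {D M' : Submodule F V} (hD : Inv T D) (hM' : Inv T M')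
    (hdis : Disjoint D M') : (D ⊔ M') ⊓ fixE T = (D ⊓ fixE T) ⊔ (M' ⊓ fixE T) := by
  apply le_antisymm
  · rintro m ⟨hm, hmE⟩
    obtain ⟨d, hd, m', hm', rfl⟩ := Submodule.mem_sup.1 hm
    have h1 := (mem_fixE T _).1 hmE
    rw [map_add] at h1
    have h2 : T d - d = m' - T m' := by
      have h6 : T d - d - (m' - T m') = T d + T m' - (d + m') := by abel
      rw [h1, sub_self] at h6
      exact sub_eq_zero.1 h6
    have h3 : T d - d ∈ D ⊓ M' := by
      refine ⟨D.sub_mem (hD d hd) hd, ?_⟩
      rw [h2]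
      exact M'.sub_mem hm' (hM' m' hm')
    rw [hdis.eq_bot, Submodule.mem_bot] at h3
    have h4 : T d = d := sub_eq_zero.1 h3
    have h5 : T m' = m' := by
      rw [h3] at h2
      exact (sub_eq_zero.1 h2.symm).symm
    exact Submodule.add_mem _
      (Submodule.mem_sup_left ⟨hd, (mem_fixE T d).2 h4⟩)
      (Submodule.mem_sup_right ⟨hm', (mem_fixE T m').2 h5⟩)
  · exact sup_le (inf_le_inf_right _ le_sup_left) (inf_le_inf_right _ le_sup_right)

theorem finrank_sup_inf_fixE (T : V →ₗ[F] V) {D M' : Submodule F V} (hD : Inv T D)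
    (hM' : Inv T M') (hdis : Disjoint D M') :
    finrank F ↥((D ⊔ M') ⊓ fixE T) = finrank F ↥(D ⊓ fixE T) + finrank F ↥(M' ⊓ fixE T) := by
  rw [sup_inf_fixE T hD hM' hdis]
  exact finrank_sup_of_disjoint (hdis.mono inf_le_left inf_le_left)

end general

section alt
variable {F V : Type*} [Field F] [AddCommGroup V] [Module F V] [FiniteDimensional F V]
variable {B : LinearMap.BilinForm F V}

/-- pairing a totally isotropic invariant subspace with an invariant partner -/
theorem exists_pair (hB : B.IsAlt) (T : V →ₗ[F] V) (hT : ∀ u v, B (T u) (T v) = B u v)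
    (hss : Module.End.IsSemisimple T) {r : ℕ} (hr : 0 < r) (hTr : T ^ r = 1)
    {M U : Submodule F V} (hM : Nd B M) (hMinv : Inv T M) (hU : U ≤ M) (hUinv : Inv T U)
    (hti : U ≤ B.orthogonal U) :
    ∃ D : Submodule F V, D ≤ M ∧ Nd B D ∧ Inv T D ∧ finrank F D = 2 * finrank F U := by
  set W := M ⊓ B.orthogonal U with hW
  have hWinv : Inv T W := hMinv.inf (inv_orthogonal hT hr hTr hUinv)
  have hUW : U ≤ W := le_inf hU hti
  obtain ⟨C', hC'M, hC'inv, hdis, hfin⟩ := exists_rel_compl T hss M hMinv W inf_le_left hWinv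
  have h1 := hM.finrank_inf_orthogonal hB hU
  have hC'fin : finrank F C' = finrank F U := by
    have : finrank F W = finrank F ↥(M ⊓ B.orthogonal U) := rfl
    omega
  have hWC : W ⊔ C' = M := by
    apply Submodule.eq_of_le_of_finrank_eq (sup_le inf_le_left hC'M)
    rw [finrank_sup_of_disjoint hdis, hfin]
  have hdisU : Disjoint U C' := hdis.mono_left hUW
  refine ⟨U ⊔ C', sup_le hU hC'M, ?_, hUinv.sup hC'inv, ?_⟩
  · intro w hw hw'
    obtain ⟨u, hu, c, hc, rfl⟩ := Submodule.mem_sup.1 hw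
    have hc0 : c = 0 := by
      have hcW : c ∈ W := by
        refine ⟨hC'M hc, ?_⟩
        intro u₁ hu₁
        show B u₁ c = 0
        have h2 := hw' u₁ (Submodule.mem_sup_left hu₁)
        rw [map_add, LinearMap.add_apply, hti hu₁ u hu, zero_add] at h2
        rw [alt_swap hB, h2, neg_zero]
      have : c ∈ W ⊓ C' := ⟨hcW, hc⟩
      rw [hdis.eq_bot, Submodule.mem_bot] at this
      exact this
    rw [hc0, add_zero] at hw' ⊢
    apply hM u (hU hu)
    intro m hm
    rw [← hWC] at hm
    obtain ⟨w₁, hw₁, c₁, hc₁, rfl⟩ := Submodule.mem_sup.1 hm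
    rw [map_add, hw₁.2 u hu, zero_add]
    exact hw' c₁ (Submodule.mem_sup_right hc₁)
  · rw [finrank_sup_of_disjoint hdisU, hC'fin]
    ring

/-- the adjoint of a polynomial in `T` is the polynomial in `T⁻¹ = T ^ (r - 1)` -/
theorem adjoint_aeval (T : V →ₗ[F] V) (hT : ∀ u v, B (T u) (T v) = B u v) {r : ℕ} (hr : 0 < r)
    (hTr : T ^ r = 1) (s : F[X]) (u v : V) :
    B (aeval T s u) v = B u (aeval (T ^ (r - 1)) s v) := by
  induction s using Polynomial.induction_on' with
  | add p q hp hq =>
    rw [map_add, map_add, LinearMap.add_apply, LinearMap.add_apply, map_add, map_add,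
      LinearMap.add_apply, hp, hq]
  | monomial n a =>
    rw [aeval_monomial, aeval_monomial, Module.algebraMap_end_eq_smul_id,
      Module.End.mul_apply, Module.End.mul_apply, LinearMap.smul_apply, LinearMap.smul_apply,
      LinearMap.id_apply, LinearMap.id_apply, map_smul, map_smul, LinearMap.smul_apply]
    congr 1
    have h1 : (T ^ n) (((T ^ (r - 1)) ^ n) v) = v := by
      have h2 : T ^ n * (T ^ (r - 1)) ^ n = 1 := by
        have hc : Commute T (T ^ (r - 1)) := (Commute.refl T).pow_right _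
        rw [← hc.mul_pow, ← pow_succ', Nat.sub_add_cancel hr, hTr, one_pow]
      calc (T ^ n) (((T ^ (r - 1)) ^ n) v) = (T ^ n * (T ^ (r - 1)) ^ n) v := rfl
        _ = v := by rw [h2]; rfl
    conv_lhs => rw [← h1]
    exact isom_pow hT n _ _

end alt

section finite
variable {F V : Type*} [Field F] [Fintype F] [AddCommGroup V] [Module F V] [FiniteDimensional F V]

theorem expand_card_pow (h : ℕ) (s : F[X]) :
    expand F (Fintype.card F ^ h) s = s ^ (Fintype.card F ^ h) := by
  induction h with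
  | zero => simp
  | succ h ih =>
    rw [pow_succ', expand_mul, ih, map_pow, FiniteField.expand_card, ← pow_mul]

/-- self-duality: if `r ∣ q ^ h + 1` then `s (T⁻¹) = s (T) ^ (q ^ h)` -/
theorem aeval_inv_eq_pow (T : V →ₗ[F] V) {r : ℕ} (hr : 0 < r) (hTr : T ^ r = 1) (h : ℕ)
    (hrq : r ∣ Fintype.card F ^ h + 1) (s : F[X]) :
    aeval (T ^ (r - 1)) s = (aeval T s) ^ (Fintype.card F ^ h) := by
  have h1 : T ^ (Fintype.card F ^ h) = T ^ (r - 1) := by
    obtain ⟨k, hk⟩ := hrq
    have h2 : T ^ (Fintype.card F ^ h) * T = 1 := by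
      rw [← pow_succ, hk, pow_mul, hTr, one_pow]
    have h3 : T * T ^ (r - 1) = 1 := by rw [← pow_succ', Nat.sub_add_cancel hr, hTr]
    calc T ^ (Fintype.card F ^ h) = T ^ (Fintype.card F ^ h) * (T * T ^ (r - 1)) := by
          rw [h3, mul_one]
      _ = (T ^ (Fintype.card F ^ h) * T) * T ^ (r - 1) := by rw [mul_assoc]
      _ = T ^ (r - 1) := by rw [h2, one_mul]
  rw [← h1, ← expand_aeval, expand_card_pow, map_pow]

theorem ker_aeval_le_ker_aeval_inv (T : V →ₗ[F] V) {r : ℕ} (hr : 0 < r) (hTr : T ^ r = 1) (h : ℕ)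
    (hrq : r ∣ Fintype.card F ^ h + 1) (s : F[X]) :
    LinearMap.ker (aeval T s) ≤ LinearMap.ker (aeval (T ^ (r - 1)) s) := by
  intro u hu
  rw [LinearMap.mem_ker] at hu ⊢
  rw [aeval_inv_eq_pow T hr hTr h hrq s]
  have hpos : 0 < Fintype.card F ^ h := Nat.pow_pos Fintype.card_pos
  obtain ⟨k, hk⟩ : ∃ k, Fintype.card F ^ h = k + 1 := ⟨Fintype.card F ^ h - 1, by omega⟩
  rw [hk, pow_succ, Module.End.mul_apply, hu, map_zero]

variable {B : LinearMap.BilinForm F V}

/-- components for coprime polynomials are orthogonal (self-dual case) -/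
theorem orth_of_coprime (hB : B.IsAlt) (T : V →ₗ[F] V) (hT : ∀ u v, B (T u) (T v) = B u v)
    {r : ℕ} (hr : 0 < r) (hTr : T ^ r = 1) (h : ℕ) (hrq : r ∣ Fintype.card F ^ h + 1)
    (g₁ g₂ : F[X]) (hcop : IsCoprime g₁ g₂) (u v : V) (hu : aeval T g₁ u = 0)
    (hv : aeval T g₂ v = 0) : B u v = 0 := by
  obtain ⟨a, b, hab⟩ := hcop
  have h1 : v = aeval T g₁ (aeval T a v) := by
    have h2 := congrArg (fun t : F[X] => aeval T t v) hab
    simp only [map_add, LinearMap.add_apply, map_one, Module.End.one_apply, map_mul,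
      Module.End.mul_apply] at h2
    rw [hv, map_zero, add_zero] at h2
    rw [← Module.End.mul_apply, ← map_mul, mul_comm, map_mul, Module.End.mul_apply]
    exact h2.symm
  rw [h1, alt_swap hB, adjoint_aeval T hT hr hTr]
  have h3 := ker_aeval_le_ker_aeval_inv T hr hTr h hrq g₁ (LinearMap.mem_ker.2 hu)
  rw [LinearMap.mem_ker.1 h3, map_zero, neg_zero]

end finite

end Cfsg.Agent.Lib.Helper1.SpBlk
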