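import Mathlib
import Cfsg.Agent.Lib.Helper1.SpBlk2

set_option autoImplicit false
set_option linter.unusedSectionVars false

/-!
Blocks: a nondegenerate invariant subspace without fixed points of an isometry `T` of odd prime
order `r ≠ p` contains a nondegenerate invariant subspace of dimension `c = lcm(2, ord_r(q))`.
-/

namespace Cfsg.Agent.Lib.Helper1.SpBlk

open Module Polynomial Cfsg.Agent.H9SemiInv Cfsg.Agent.Lib.Helper9.H9Elus

section cyc
variable {F V : Type*} [Field F] [AddCommGroup V] [Module F V] [FiniteDimensional F V]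

/-- The cyclic subspace generated by a vector killed by an irreducible polynomial. -/
theorem exists_cyclic_mem (T : V →ₗ[F] V) (g : F[X]) (hg : Irreducible g) (v : V) (hv0 : v ≠ 0)
    (hgv : aeval T g v = 0) :
    ∃ Z : Submodule F V, v ∈ Z ∧ Inv T Z ∧ finrank F Z = g.natDegree ∧
      (∀ W : Submodule F V, Inv T W → v ∈ W → Z ≤ W) := by
  let φ : F[X] →ₗ[F] V := (LinearMap.applyₗ v).comp (Polynomial.aeval T).toLinearMap
  have hφ : ∀ s : F[X], φ s = aeval T s v := fun s => rfl
  refine ⟨LinearMap.range φ, ⟨1, by rw [hφ, map_one, Module.End.one_apply]⟩, ?_, ?_, ?_⟩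
  · rintro _ ⟨s, rfl⟩
    refine ⟨X * s, ?_⟩
    rw [hφ, hφ, map_mul, aeval_X, Module.End.mul_apply]
  · have hker : LinearMap.ker φ = (Ideal.span {g}).restrictScalars F := by
      ext s
      rw [LinearMap.mem_ker, Submodule.restrictScalars_mem, Ideal.mem_span_singleton, hφ]
      constructor
      · intro hs
        by_contra hnd
        have hcop : IsCoprime g s := (hg.coprime_iff_not_dvd).mpr hnd
        obtain ⟨a, b, hab⟩ := hcop
        have h1 := congrArg (fun t : F[X] => aeval T t v) hab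
        simp only [map_add, map_mul, map_one, LinearMap.add_apply, Module.End.mul_apply,
          Module.End.one_apply] at h1
        rw [hgv, hs, map_zero, map_zero, add_zero] at h1
        exact hv0 h1.symm
      · rintro ⟨t, rfl⟩
        rw [mul_comm, map_mul, Module.End.mul_apply, hgv, map_zero]
    have e1 := LinearMap.quotKerEquivRange φ
    rw [← e1.finrank_eq]
    have e2 : (F[X] ⧸ LinearMap.ker φ) ≃ₗ[F] (F[X] ⧸ (Ideal.span {g}).restrictScalars F) :=
      Submodule.quotEquivOfEq _ _ hker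
    rw [e2.finrank_eq, (Submodule.Quotient.restrictScalarsEquiv F (Ideal.span {g})).finrank_eq]
    exact finrank_quotient_span_eq_natDegree
  · rintro W hW hvW _ ⟨s, rfl⟩
    rw [hφ]
    exact Inv.aeval hW s v hvW

variable {B : LinearMap.BilinForm F V}

theorem nd_of_inf_orthogonal_eq_bot (hB : B.IsAlt) {Z : Submodule F V}
    (h : Z ⊓ B.orthogonal Z = ⊥) : Nd B Z := by
  intro z hz hz'
  have : z ∈ Z ⊓ B.orthogonal Z := by
    refine ⟨hz, ?_⟩
    intro w hw
    show B w z = 0
    rw [alt_swap hB, hz' w hw, neg_zero]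
  rw [h, Submodule.mem_bot] at this
  exact this

/-- multiples of the minimal dimension are realised by nondegenerate invariant subspaces -/
theorem exists_nd_of_dvd (hB : B.IsAlt) (T : V →ₗ[F] V) (hT : ∀ u v, B (T u) (T v) = B u v)
    {r : ℕ} (hr : 0 < r) (hTr : T ^ r = 1) (S : Submodule F V) (c₀ : ℕ) (hc₀ : 0 < c₀)
    (hmin : ∀ N : Submodule F V, N ≤ S → Nd B N → Inv T N → N ≠ ⊥ →
      ∃ D : Submodule F V, D ≤ N ∧ Nd B D ∧ Inv T D ∧ finrank F D = c₀) :
    ∀ n : ℕ, ∀ N : Submodule F V, N ≤ S → Nd B N → Inv T N → finrank F N = n →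
      c₀ ∣ n ∧ ∀ g, c₀ ∣ g → g ≤ n →
        ∃ D : Submodule F V, D ≤ N ∧ Nd B D ∧ Inv T D ∧ finrank F D = g := by
  intro n
  induction n using Nat.strong_induction_on with
  | _ n ih =>
    intro N hNS hN hNinv hfin
    by_cases hne : N = ⊥
    · have hn0 : n = 0 := by rw [← hfin, hne, finrank_bot]
      subst hn0
      refine ⟨dvd_zero _, ?_⟩
      intro g _ hg0
      have hg : g = 0 := by omega
      subst hg
      exact ⟨⊥, bot_le, nd_bot, fun v hv => by
        rw [(Submodule.mem_bot F).1 hv, map_zero]; exact Submodule.zero_mem _, finrank_bot F V⟩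
    · obtain ⟨D₁, hD₁N, hD₁, hD₁inv, hD₁fin⟩ := hmin N hNS hN hNinv hne
      set N' := N ⊓ B.orthogonal D₁ with hN'
      have hN'nd : Nd B N' := hN.inf_orthogonal hB hD₁ hD₁N
      have hN'inv : Inv T N' := hNinv.inf (inv_orthogonal hT hr hTr hD₁inv)
      have hsum := hD₁.finrank_inf_orthogonal_self hB hD₁N
      have hN'fin : finrank F N' = n - c₀ := by
        have : finrank F N' = finrank F ↥(N ⊓ B.orthogonal D₁) := rfl
        omega
      have hcn : c₀ ≤ n := by omega
      obtain ⟨hdvd, hex⟩ := ih (n - c₀) (by omega) N' (inf_le_left.trans hNS) hN'nd hN'inv hN'fin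
      refine ⟨?_, ?_⟩
      · have h1 : n = (n - c₀) + c₀ := by omega
        rw [h1]
        exact dvd_add hdvd (dvd_refl _)
      · intro g hg hgn
        by_cases hg0 : g = 0
        · subst hg0
          exact ⟨⊥, bot_le, nd_bot, fun v hv => by
            rw [(Submodule.mem_bot F).1 hv, map_zero]; exact Submodule.zero_mem _, finrank_bot F V⟩
        · have hcg : c₀ ≤ g := Nat.le_of_dvd (Nat.pos_of_ne_zero hg0) hg
          have hg' : c₀ ∣ g - c₀ := Nat.dvd_sub hg (dvd_refl _)
          obtain ⟨D', hD'N', hD', hD'inv, hD'fin⟩ := hex (g - c₀) hg' (by omega)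
          have hdis : Disjoint D₁ D' :=
            (hD₁.disjoint_inf_orthogonal hB N).mono_right hD'N'
          refine ⟨D₁ ⊔ D', sup_le hD₁N (hD'N'.trans inf_le_left),
            hD₁.sup hB hD' (hD'N'.trans inf_le_right), hD₁inv.sup hD'inv, ?_⟩
          rw [finrank_sup_of_disjoint hdis, hD₁fin, hD'fin]
          omega

end cyc

section finite
variable {F V : Type*} [Field F] [Fintype F] {p : ℕ} [Fact p.Prime] [CharP F p]
  [AddCommGroup V] [Module F V] [FiniteDimensional F V]
variable {B : LinearMap.BilinForm F V}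

theorem disjoint_fixE_movK (r : ℕ) [Fact r.Prime] (hrp : r ≠ p) (T : V →ₗ[F] V)
    (hTr : T ^ r = 1) : Disjoint (fixE T) (movK r T) :=
  (isCompl_ker r hrp T hTr).disjoint

theorem dvd_finrank_of_le_movK (r : ℕ) [Fact r.Prime] (hrp : r ≠ p) (T : V →ₗ[F] V)
    (hTr : T ^ r = 1) {W : Submodule F V} (hW : Inv T W) (hWK : W ≤ movK r T) :
    orderOf ((Fintype.card F : ℕ) : ZMod r) ∣ finrank F W :=
  (exists_inv_mul T (isSemisimple_of_pow_eq_one r hrp T hTr) _ (order_pos r hrp) W hW
    (fun Z hZ hZinv hZne => hmin_cyclotomic r hrp T Z (hZ.trans hWK) hZinv hZne)).1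

theorem fixE_orth_movK (r : ℕ) [Fact r.Prime] (hrp : r ≠ p) (T : V →ₗ[F] V)
    (hT : ∀ u v, B (T u) (T v) = B u v) {u v : V} (hu : u ∈ fixE T) (hv : v ∈ movK r T) :
    B u v = 0 := by
  have hu' := (mem_fixE T u).1 hu
  have hv' : aeval T (cyclotomic r F) v = 0 := LinearMap.mem_ker.1 hv
  rw [cyclotomic_prime, map_sum, LinearMap.sum_apply] at hv'
  have h1 : ∀ j : ℕ, B u ((T ^ j) v) = B u v := by
    intro j
    have h2 : (T ^ j) u = u := by
      induction j with
      | zero => simp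
      | succ j ih => rw [pow_succ, Module.End.mul_apply, hu', ih]
    conv_lhs => rw [← h2]
    exact isom_pow hT j u v
  have h3 : B u (∑ j ∈ Finset.range r, (aeval T (X ^ j : F[X])) v) = 0 := by rw [hv', map_zero]
  rw [map_sum] at h3
  have h4 : ∀ j ∈ Finset.range r, B u ((aeval T (X ^ j : F[X])) v) = B u v := by
    intro j _
    rw [map_pow, aeval_X, h1]
  rw [Finset.sum_congr rfl h4, Finset.sum_const, Finset.card_range, nsmul_eq_mul] at h3
  exact (mul_eq_zero.1 h3).resolve_left (cast_ne_zero_of_ne r hrp)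

theorem inf_fixE_sup_inf_movK (r : ℕ) [Fact r.Prime] (hrp : r ≠ p) (T : V →ₗ[F] V)
    (hTr : T ^ r = 1) {M : Submodule F V} (hM : Inv T M) :
    (M ⊓ fixE T) ⊔ (M ⊓ movK r T) = M := by
  apply inf_ker_sup_inf_ker T hM _ _ (isCoprime_X_sub_one_cyclotomic r hrp)
  intro m _
  rw [mul_comm, cyclotomic_prime_mul_X_sub_one, map_sub, map_pow, aeval_X, hTr, map_one, sub_self,
    LinearMap.zero_apply]

theorem finrank_inf_fixE_add (r : ℕ) [Fact r.Prime] (hrp : r ≠ p) (T : V →ₗ[F] V)
    (hTr : T ^ r = 1) {M : Submodule F V} (hM : Inv T M) :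
    finrank F ↥(M ⊓ fixE T) + finrank F ↥(M ⊓ movK r T) = finrank F M := by
  have h1 : Disjoint (M ⊓ fixE T) (M ⊓ movK r T) :=
    (disjoint_fixE_movK r hrp T hTr).mono inf_le_right inf_le_right
  rw [← finrank_sup_of_disjoint h1, inf_fixE_sup_inf_movK r hrp T hTr hM]

theorem nd_inf_fixE (r : ℕ) [Fact r.Prime] (hrp : r ≠ p) (T : V →ₗ[F] V)
    (hT : ∀ u v, B (T u) (T v) = B u v) (hTr : T ^ r = 1) {M : Submodule F V} (hM : Nd B M)
    (hMinv : Inv T M) : Nd B (M ⊓ fixE T) := by
  have h1 := inf_fixE_sup_inf_movK r hrp T hTr hMinv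
  rw [← h1] at hM
  apply hM.of_sup
  intro v hv u hu
  exact fixE_orth_movK r hrp T hT hu.2 hv.2

theorem nd_inf_movK (hB : B.IsAlt) (r : ℕ) [Fact r.Prime] (hrp : r ≠ p) (T : V →ₗ[F] V)
    (hT : ∀ u v, B (T u) (T v) = B u v) (hTr : T ^ r = 1) {M : Submodule F V} (hM : Nd B M)
    (hMinv : Inv T M) : Nd B (M ⊓ movK r T) := by
  have h1 := inf_fixE_sup_inf_movK r hrp T hTr hMinv
  rw [← h1, sup_comm] at hM
  apply hM.of_sup
  intro u hu v hv
  show B v u = 0
  rw [alt_swap hB, fixE_orth_movK r hrp T hT hu.2 hv.2, neg_zero]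

/-- odd `i`: a block of dimension `2 i` -/
theorem exists_block_odd (hB : B.IsAlt) (r : ℕ) [Fact r.Prime] (hrp : r ≠ p) (T : V →ₗ[F] V)
    (hT : ∀ u v, B (T u) (T v) = B u v) (hTr : T ^ r = 1)
    (hodd : Odd (orderOf ((Fintype.card F : ℕ) : ZMod r)))
    {M : Submodule F V} (hM : Nd B M) (hMinv : Inv T M) (hMK : M ≤ movK r T) (hne : M ≠ ⊥) :
    ∃ D : Submodule F V, D ≤ M ∧ Nd B D ∧ Inv T D ∧
      finrank F D = 2 * orderOf ((Fintype.card F : ℕ) : ZMod r) := by
  have hr : 0 < r := (Fact.out : r.Prime).pos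
  obtain ⟨U, hUM, hUinv, hUfin⟩ := hmin_cyclotomic r hrp T M hMK hMinv hne
  set Z := U ⊓ B.orthogonal U with hZ
  have hZinv : Inv T Z := hUinv.inf (inv_orthogonal hT hr hTr hUinv)
  have hdvd := dvd_finrank_of_le_movK r hrp T hTr hZinv ((inf_le_left.trans hUM).trans hMK)
  have hle : finrank F Z ≤ finrank F U := Submodule.finrank_mono inf_le_left
  have hi1 := order_pos (F := F) r hrp
  rcases Nat.eq_zero_or_pos (finrank F Z) with h0 | hpos
  · exfalso
    have hZbot : Z = ⊥ := Submodule.finrank_eq_zero.1 h0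
    have hnd : Nd B U := nd_of_inf_orthogonal_eq_bot hB hZbot
    have hev := hnd.even_finrank hB
    rw [hUfin] at hev
    exact (Nat.not_even_iff_odd.2 hodd) hev
  · have hZU : finrank F Z = finrank F U := by
      have := Nat.le_of_dvd hpos hdvd
      omega
    have hZeq : Z = U := Submodule.eq_of_le_of_finrank_eq inf_le_left hZU
    have hti : U ≤ B.orthogonal U := by
      have h6 : Z ≤ B.orthogonal U := inf_le_right
      rwa [hZeq] at h6
    obtain ⟨D, hDM, hD, hDinv, hDfin⟩ := exists_pair hB T hT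
      (isSemisimple_of_pow_eq_one r hrp T hTr) hr hTr hM hMinv hUM hUinv hti
    exact ⟨D, hDM, hD, hDinv, by rw [hDfin, hUfin]⟩

theorem dvd_pow_add_one_of_orderOf (r : ℕ) [Fact r.Prime] (q h : ℕ) (hh : 0 < h)
    (hord : orderOf ((q : ℕ) : ZMod r) = 2 * h) : r ∣ q ^ h + 1 := by
  have h1 : ((q : ℕ) : ZMod r) ^ (2 * h) = 1 := by rw [← hord]; exact pow_orderOf_eq_one _
  have h2 : (((q : ℕ) : ZMod r) ^ h - 1) * (((q : ℕ) : ZMod r) ^ h + 1) = 0 := by
    have : (((q : ℕ) : ZMod r) ^ h - 1) * (((q : ℕ) : ZMod r) ^ h + 1) =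
        ((q : ℕ) : ZMod r) ^ (2 * h) - 1 := by ring
    rw [this, h1, sub_self]
  rcases mul_eq_zero.1 h2 with h3 | h3
  · exfalso
    have h4 : ((q : ℕ) : ZMod r) ^ h = 1 := sub_eq_zero.1 h3
    have h5 := orderOf_dvd_of_pow_eq_one h4
    rw [hord] at h5
    have := Nat.le_of_dvd hh h5
    omega
  · rw [← ZMod.natCast_eq_zero_iff]
    push_cast
    exact h3

/-- even `i`: a block of dimension `i` -/
theorem exists_block_even (hB : B.IsAlt) (r : ℕ) [Fact r.Prime] (hrp : r ≠ p) (hr2 : r ≠ 2)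
    (T : V →ₗ[F] V) (hT : ∀ u v, B (T u) (T v) = B u v) (hTr : T ^ r = 1)
    (hev : Even (orderOf ((Fintype.card F : ℕ) : ZMod r)))
    {M : Submodule F V} (hM : Nd B M) (hMinv : Inv T M) (hMK : M ≤ movK r T) (hne : M ≠ ⊥) :
    ∃ D : Submodule F V, D ≤ M ∧ Nd B D ∧ Inv T D ∧
      finrank F D = orderOf ((Fintype.card F : ℕ) : ZMod r) := by
  have hrprime : r.Prime := Fact.out
  have hr : 0 < r := hrprime.pos
  have hi1 := order_pos (F := F) r hrp
  obtain ⟨h, hh⟩ := hev
  have hh' : orderOf ((Fintype.card F : ℕ) : ZMod r) = 2 * h := by omega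
  have hhpos : 0 < h := by omega
  have hrq : r ∣ Fintype.card F ^ h + 1 := dvd_pow_add_one_of_orderOf r _ h hhpos hh'
  -- an irreducible factor with nonzero kernel in `M`
  obtain ⟨w, hwM, hw0⟩ := Submodule.exists_mem_ne_zero_of_ne_bot hne
  obtain ⟨g, hg, hgd, v₀, hv₀M, hv₀0, hgv₀⟩ := exists_irreducible_kernel T M hMinv
    (cyclotomic r F) (cyclotomic_ne_zero r F) w hwM hw0 (LinearMap.mem_ker.1 (hMK hwM))
  have hdeg := natDegree_of_dvd_cyclotomic r hrp g hg hgd
  obtain ⟨h', hh'eq⟩ := hgd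
  have hsq : Squarefree (cyclotomic r F) := by
    have : NeZero ((r : ℕ) : F) := ⟨cast_ne_zero_of_ne r hrp⟩
    exact (separable_cyclotomic r F).squarefree
  have hcop : IsCoprime g h' := by
    rw [hg.coprime_iff_not_dvd]
    rintro ⟨k, hk⟩
    have h1 : g * g ∣ cyclotomic r F := ⟨k, by rw [hh'eq, hk]; ring⟩
    exact hg.not_isUnit (hsq g h1)
  set N := M ⊓ LinearMap.ker (aeval T g) with hN
  set N' := M ⊓ LinearMap.ker (aeval T h') with hN'
  have hNinv : Inv T N := hMinv.inf (inv_ker_aeval' T g)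
  have hsup : N ⊔ N' = M := by
    apply inf_ker_sup_inf_ker T hMinv g h' hcop
    intro m hm
    rw [← hh'eq]
    exact LinearMap.mem_ker.1 (hMK hm)
  have hNnd : Nd B N := by
    rw [← hsup] at hM
    apply hM.of_sup
    intro n' hn' n hn
    exact orth_of_coprime hB T hT hr hTr h hrq g h' hcop n n' (LinearMap.mem_ker.1 hn.2)
      (LinearMap.mem_ker.1 hn'.2)
  have hv₀N : v₀ ∈ N := ⟨hv₀M, LinearMap.mem_ker.2 hgv₀⟩
  -- polarisation
  have hex : ∃ u ∈ N, B u (T u) ≠ 0 := by
    by_contra hcon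
    push Not at hcon
    have hpol : ∀ u ∈ N, ∀ v ∈ N, B u (T v) + B v (T u) = 0 := by
      intro u hu v hv
      have h1 := hcon (u + v) (N.add_mem hu hv)
      rw [map_add, map_add, LinearMap.add_apply, map_add, map_add, hcon u hu, hcon v hv] at h1
      rw [← h1]; ring
    have hT2 : ∀ v ∈ N, T (T v) = v := by
      intro v hv
      have hTv : T v ∈ N := hNinv v hv
      have hT'v : (T ^ (r - 1)) v ∈ N := Inv.pow' hNinv (r - 1) v hv
      have h1 : T v - (T ^ (r - 1)) v = 0 := by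
        apply hNnd _ (N.sub_mem hTv hT'v)
        intro u hu
        rw [alt_swap hB, map_sub, neg_eq_zero, sub_eq_zero]
        have h2 := hpol u hu v hv
        have h3 : B u (T v) = B (T u) v := by
          rw [alt_swap hB (T u) v]
          exact eq_neg_of_add_eq_zero_left h2
        rw [h3]
        conv_lhs => rw [← pow_pred_apply hr hTr v]
        exact hT _ _
      have h4 : T v = (T ^ (r - 1)) v := sub_eq_zero.1 h1
      rw [h4]
      exact pow_pred_apply hr hTr v
    have hodd : Odd r := hrprime.odd_of_ne_two hr2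
    obtain ⟨k, hk⟩ := hodd
    have hfix : ∀ v ∈ N, T v = v := by
      intro v hv
      have h1 : ∀ j : ℕ, (T ^ (2 * j)) v = v := by
        intro j
        induction j with
        | zero => simp
        | succ j ih =>
          have : 2 * (j + 1) = 2 * j + 1 + 1 := by ring
          rw [this, pow_succ, pow_succ, Module.End.mul_apply, Module.End.mul_apply, hT2 v hv, ih]
      have h2 : (T ^ r) v = v := by rw [hTr]; rfl
      rw [hk, pow_succ', Module.End.mul_apply, h1] at h2
      exact h2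
    have h5 : v₀ ∈ fixE T ⊓ movK r T := ⟨(mem_fixE T v₀).2 (hfix v₀ hv₀N), hMK hv₀M⟩
    rw [(disjoint_fixE_movK r hrp T hTr).eq_bot, Submodule.mem_bot] at h5
    exact hv₀0 h5
  obtain ⟨u, huN, huTu⟩ := hex
  have hu0 : u ≠ 0 := by
    rintro rfl
    rw [map_zero, LinearMap.zero_apply] at huTu
    exact huTu rfl
  obtain ⟨Z, huZ, hZinv, hZfin, hZmin⟩ :=
    exists_cyclic_mem T g hg u hu0 (LinearMap.mem_ker.1 huN.2)
  have hZN : Z ≤ N := hZmin N hNinv huN
  have hZM : Z ≤ M := hZN.trans inf_le_left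
  set Y := Z ⊓ B.orthogonal Z with hY
  have hYinv : Inv T Y := hZinv.inf (inv_orthogonal hT hr hTr hZinv)
  have hdvd := dvd_finrank_of_le_movK r hrp T hTr hYinv ((inf_le_left.trans hZM).trans hMK)
  have hle : finrank F Y ≤ finrank F Z := Submodule.finrank_mono inf_le_left
  have hYbot : Y = ⊥ := by
    rcases Nat.eq_zero_or_pos (finrank F Y) with h0 | hpos
    · exact Submodule.finrank_eq_zero.1 h0
    · exfalso
      have hYZ : finrank F Y = finrank F Z := by
        have := Nat.le_of_dvd hpos hdvd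
        omega
      have hYeq : Y = Z := Submodule.eq_of_le_of_finrank_eq inf_le_left hYZ
      have hti : Z ≤ B.orthogonal Z := by
        have h6 : Y ≤ B.orthogonal Z := inf_le_right
        rwa [hYeq] at h6
      exact huTu (hti (hZinv u huZ) u huZ)
  exact ⟨Z, hZM, nd_of_inf_orthogonal_eq_bot hB hYbot, hZinv, by rw [hZfin, hdeg]⟩

/-- the block dimension -/
def blockDim (i : ℕ) : ℕ := if Even i then i else 2 * i

theorem exists_block (hB : B.IsAlt) (r : ℕ) [Fact r.Prime] (hrp : r ≠ p) (hr2 : r ≠ 2)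
    (T : V →ₗ[F] V) (hT : ∀ u v, B (T u) (T v) = B u v) (hTr : T ^ r = 1)
    {M : Submodule F V} (hMK : M ≤ movK r T) (hM : Nd B M) (hMinv : Inv T M) (hne : M ≠ ⊥) :
    ∃ D : Submodule F V, D ≤ M ∧ Nd B D ∧ Inv T D ∧
      finrank F D = blockDim (orderOf ((Fintype.card F : ℕ) : ZMod r)) := by
  unfold blockDim
  by_cases hev : Even (orderOf ((Fintype.card F : ℕ) : ZMod r))
  · rw [if_pos hev]
    exact exists_block_even hB r hrp hr2 T hT hTr hev hM hMinv hMK hne
  · rw [if_neg hev]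
    exact exists_block_odd hB r hrp T hT hTr (Nat.not_even_iff_odd.1 hev) hM hMinv hMK hne

theorem blockDim_pos (r : ℕ) [Fact r.Prime] (hrp : r ≠ p) :
    0 < blockDim (orderOf ((Fintype.card F : ℕ) : ZMod r)) := by
  have := order_pos (F := F) r hrp
  unfold blockDim
  split_ifs <;> omega

end finite

end Cfsg.Agent.Lib.Helper1.SpBlk
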