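import Mathlib
import Cfsg.Agent.Lib.Helper3.FEO0
import Cfsg.Agent.Lib.Helper1.SpBlk3
import Cfsg.Agent.Lib.Helper9.Elus3

set_option autoImplicit false
set_option linter.unusedSectionVars false

/-! S5977 package FO-D: `dim ker Φ_r(y) ≠ 2 c` for `c = ord_r(q)` odd when all kernels are even. -/

namespace Cfsg.Agent.Lib.Helper3.FEO

open Module Polynomial Cfsg.Agent.H9SemiInv Cfsg.Agent.Lib.Helper9.H9Elus
  Cfsg.Agent.Lib.Helper1.SpBlk

section alg
variable {F : Type*} [Field F] [Fintype F]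

/-- an irreducible factor of odd degree of `Φ_r` (`r` odd) is not self-reciprocal -/
theorem foD_not_dvd_expand (r : ℕ) [Fact r.Prime] (hr2 : r ≠ 2) (hrF : (r : F) ≠ 0) (g : F[X])
    (hg : Irreducible g) (hgd : g ∣ cyclotomic r F) (hodd : Odd g.natDegree) :
    ¬ g ∣ expand F (r - 1) g := by
  intro hdvd
  have hrprime : r.Prime := Fact.out
  have _ifact : Fact (Irreducible g) := ⟨hg⟩
  have hg0 : g ≠ 0 := hg.ne_zero
  set ζ : AdjoinRoot g := AdjoinRoot.root g with hζ
  have hmk : ∀ P : F[X], aeval ζ P = 0 ↔ g ∣ P := by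
    intro P
    rw [hζ, AdjoinRoot.aeval_eq, AdjoinRoot.mk_eq_zero]
  have hcyc : aeval ζ (cyclotomic r F) = 0 := (hmk _).2 hgd
  have hζr : ζ ^ r = 1 := by
    have h1 : aeval ζ (X ^ r - 1 : F[X]) = 0 := by
      rw [← cyclotomic_prime_mul_X_sub_one F r, map_mul, hcyc, zero_mul]
    rw [map_sub, map_pow, aeval_X, map_one, sub_eq_zero] at h1
    exact h1
  have hζ2 : ζ ^ 2 ≠ 1 := by
    intro h2
    have h3 : ζ = 1 := by
      obtain ⟨k, hk⟩ := hrprime.odd_of_ne_two hr2
      have h4 : ζ ^ r = ζ := by rw [hk, pow_succ, pow_mul, h2, one_pow, one_mul]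
      rw [hζr] at h4
      exact h4.symm
    rw [h3] at hcyc
    have h5 : (1 : AdjoinRoot g) = algebraMap F (AdjoinRoot g) 1 := (map_one _).symm
    rw [h5, aeval_algebraMap_apply_eq_algebraMap_eval, eval_one_cyclotomic_prime] at hcyc
    exact hrF ((map_eq_zero (algebraMap F (AdjoinRoot g))).1 hcyc)
  have hτ0 : eval₂ (Algebra.ofId F (AdjoinRoot g)) (ζ ^ (r - 1)) g = 0 := by
    have h1 : aeval (ζ ^ (r - 1)) g = 0 := by
      rw [← expand_aeval]
      exact (hmk _).2 hdvd
    exact h1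
  set τ : AdjoinRoot g →ₐ[F] AdjoinRoot g :=
    AdjoinRoot.liftAlgHom g (Algebra.ofId F (AdjoinRoot g)) (ζ ^ (r - 1)) hτ0 with hτ
  have hτζ : τ ζ = ζ ^ (r - 1) := AdjoinRoot.liftAlgHom_root g _ _ hτ0
  have hr1 : 1 ≤ r := hrprime.one_lt.le
  have hττ : τ.comp τ = AlgHom.id F (AdjoinRoot g) := by
    apply AdjoinRoot.algHom_ext
    show τ (τ ζ) = ζ
    rw [hτζ, map_pow, hτζ, ← pow_mul]
    have h1 : (r - 1) * (r - 1) = r * (r - 2) + 1 := by
      have := hrprime.two_le
      obtain ⟨m, rfl⟩ : ∃ m, r = m + 2 := ⟨r - 2, by omega⟩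
      simp only [Nat.add_sub_cancel]
      have : m + 2 - 1 = m + 1 := by omega
      rw [this]
      ring
    rw [h1, pow_succ, pow_mul, hζr, one_pow, one_mul]
  set τe : AdjoinRoot g ≃ₐ[F] AdjoinRoot g := AlgEquiv.ofAlgHom τ τ hττ hττ with hτe
  have hτe2 : τe ^ 2 = 1 := by
    apply AlgEquiv.ext
    intro x
    show τ (τ x) = x
    have := DFunLike.congr_fun hττ x
    exact this
  have hτe1 : τe ≠ 1 := by
    intro h1
    have h2 : τ ζ = ζ := DFunLike.congr_fun h1 ζ
    rw [hτζ] at h2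
    apply hζ2
    have h3 : ζ ^ r = ζ ^ 2 := by
      have : r = (r - 1) + 1 := by omega
      rw [this, pow_succ, h2, sq]
    rw [← h3, hζr]
  have hord : orderOf τe = 2 := orderOf_eq_prime hτe2 hτe1
  have _ifd : FiniteDimensional F (AdjoinRoot g) := (AdjoinRoot.powerBasis hg0).finite
  have _ifin : Finite (AdjoinRoot g) := Module.finite_of_finite F
  have hcard : Nat.card (AdjoinRoot g ≃ₐ[F] AdjoinRoot g) = g.natDegree := by
    rw [IsGalois.card_aut_eq_finrank, (AdjoinRoot.powerBasis hg0).finrank,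
      AdjoinRoot.powerBasis_dim]
  have h2 : 2 ∣ g.natDegree := by
    rw [← hcard, ← hord]
    exact orderOf_dvd_natCard τe
  exact (Nat.not_even_iff_odd.2 hodd) (even_iff_two_dvd.2 h2)

end alg

theorem finrank_cyc_ne_of_odd {F : Type*} [Field F] [Fintype F] {p : ℕ} [Fact p.Prime]
    [CharP F p] {V : Type*} [AddCommGroup V] [Module F V] [FiniteDimensional F V]
    (B : LinearMap.BilinForm F V) (hnd : ∀ v, (∀ w, B w v = 0) → v = 0)
    (y : V →ₗ[F] V) (hy : ∀ u v, B (y u) (y v) = B u v) (r : ℕ) [Fact r.Prime] (hrp : r ≠ p)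
    (hr2 : r ≠ 2) (hodd : Odd (orderOf ((Fintype.card F : ℕ) : ZMod r))) (hyr : y ^ r = 1)
    (heven : ∀ P : F[X], Even (finrank F (LinearMap.ker (aeval y P)))) :
    finrank F (LinearMap.ker (aeval y (cyclotomic r F))) ≠
      2 * orderOf ((Fintype.card F : ℕ) : ZMod r) := by
  intro hdim
  have hrprime : r.Prime := Fact.out
  have hr0 : 0 < r := hrprime.pos
  have hc1 : 1 ≤ orderOf ((Fintype.card F : ℕ) : ZMod r) := order_pos r hrp
  set W : Submodule F V := LinearMap.ker (aeval y (cyclotomic r F)) with hW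
  have hWinv : Inv y W := inv_ker_aeval' y _
  have hWne : W ≠ ⊥ := by
    intro h0
    rw [h0, finrank_bot] at hdim
    omega
  obtain ⟨w, hwW, hw0⟩ := Submodule.exists_mem_ne_zero_of_ne_bot hWne
  obtain ⟨g, hg, hgd, v, hvW, hv0, hgv⟩ := exists_irreducible_kernel y W hWinv (cyclotomic r F)
    (cyclotomic_ne_zero r F) w hwW hw0 (LinearMap.mem_ker.1 hwW)
  have hgdeg : g.natDegree = orderOf ((Fintype.card F : ℕ) : ZMod r) :=
    natDegree_of_dvd_cyclotomic r hrp g hg hgd
  -- `ker g(y) = W`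
  have hKW : LinearMap.ker (aeval y g) ≤ W := by
    intro u hu
    obtain ⟨g', hg'⟩ := hgd
    rw [hW, LinearMap.mem_ker, hg', mul_comm, map_mul, Module.End.mul_apply,
      LinearMap.mem_ker.1 hu, map_zero]
  have hKeq : LinearMap.ker (aeval y g) = W := by
    apply Submodule.eq_of_le_of_finrank_le hKW
    have h1 := dvd_finrank_of_le_movK r hrp y hyr (inv_ker_aeval' y g) hKW
    have h2 := heven g
    have hKne : LinearMap.ker (aeval y g) ≠ ⊥ := by
      intro h0
      have : v ∈ LinearMap.ker (aeval y g) := LinearMap.mem_ker.2 hgv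
      rw [h0, Submodule.mem_bot] at this
      exact hv0 this
    have hpos : 0 < finrank F (LinearMap.ker (aeval y g)) := by
      rw [Nat.pos_iff_ne_zero]
      intro h0
      exact hKne (Submodule.finrank_eq_zero.1 h0)
    have hcop : Nat.Coprime 2 (orderOf ((Fintype.card F : ℕ) : ZMod r)) :=
      (Nat.coprime_primes Nat.prime_two hrprime).2 (Ne.symm hr2) |> fun _ =>
        (Nat.Prime.coprime_iff_not_dvd Nat.prime_two).2 (fun h => (Nat.not_even_iff_odd.2 hodd)
          (even_iff_two_dvd.2 h))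
    have h3 : 2 * orderOf ((Fintype.card F : ℕ) : ZMod r) ∣
        finrank F (LinearMap.ker (aeval y g)) :=
      hcop.mul_dvd_of_dvd_of_dvd (even_iff_two_dvd.1 h2) h1
    rw [hdim]
    exact Nat.le_of_dvd hpos h3
  -- `g (y⁻¹) = 0` on `W`
  have hinvW : ∀ u ∈ W, aeval (y ^ (r - 1)) g u = 0 := by
    intro u hu
    apply hnd
    intro w'
    have hc := isCompl_ker r hrp y hyr
    have hw' : w' ∈ (LinearMap.ker (aeval y (X - 1 : F[X])) ⊔
        LinearMap.ker (aeval y (cyclotomic r F)) : Submodule F V) := by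
      rw [hc.sup_eq_top]
      exact Submodule.mem_top
    obtain ⟨w₁, hw₁, w₂, hw₂, rfl⟩ := Submodule.mem_sup.1 hw'
    have hmem : aeval (y ^ (r - 1)) g u ∈ W := by
      have h1 : Inv (y ^ (r - 1)) W := Inv.pow' hWinv (r - 1)
      exact Inv.aeval h1 g u hu
    rw [map_add, LinearMap.add_apply]
    have e1 : B w₁ (aeval (y ^ (r - 1)) g u) = 0 :=
      fixE_orth_movK r hrp y hy hw₁ hmem
    have e2 : B w₂ (aeval (y ^ (r - 1)) g u) = 0 := by
      rw [← adjoint_aeval y hy hr0 hyr g w₂ u]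
      have h2 : w₂ ∈ LinearMap.ker (aeval y g) := by
        rw [hKeq]
        exact hw₂
      rw [LinearMap.mem_ker.1 h2, map_zero, LinearMap.zero_apply]
    rw [e1, e2, add_zero]
  -- hence `g ∣ g (X ^ (r - 1))`
  have hdvd : g ∣ expand F (r - 1) g := by
    by_contra hnd'
    have hcop : IsCoprime g (expand F (r - 1) g) := (hg.coprime_iff_not_dvd).2 hnd'
    obtain ⟨a, b, hab⟩ := hcop
    have h1 := congrArg (fun t : F[X] => aeval y t v) hab
    simp only [map_add, map_mul, map_one, LinearMap.add_apply, Module.End.mul_apply,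
      Module.End.one_apply] at h1
    rw [hgv, expand_aeval, hinvW v hvW, map_zero, map_zero, add_zero] at h1
    exact hv0 h1.symm
  have hrF : (r : F) ≠ 0 := cast_ne_zero_of_ne r hrp
  exact foD_not_dvd_expand r hr2 hrF g hg hgd (hgdeg ▸ hodd) hdvd

end Cfsg.Agent.Lib.Helper3.FEO
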