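import Mathlib
import Cfsg.Prelude
import Cfsg.Agent.Lib.Helper3.FEO0
import Cfsg.Agent.Lib.Helper2.Siegel
import Cfsg.Agent.Lib.Helper5.UniO5
import Cfsg.Agent.Lib.Helper5.QuadFin

set_option autoImplicit false
set_option linter.unusedSectionVars false

/-! S5977 package FO-U: a unipotent element of `Ω(Q)` with `dim ker (x - 1)² = n - 1`. -/

namespace Cfsg.Agent.Lib.Helper3.FEO

open Module Matrix Polynomial QuadraticMap

section unip
variable {F : Type*} [Field F] {ι : Type} [Fintype ι] [DecidableEq ι]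

/-- `v ↦ v + B(v,e) w - (B(v,w) + Q(w) B(v,e)) e` -/
noncomputable def foU_lin (Q : QuadraticForm F (ι → F)) (e w : ι → F) :
    (ι → F) →ₗ[F] (ι → F) :=
  LinearMap.id + (polarBilin Q e).smulRight w -
    (polarBilin Q w + Q w • polarBilin Q e).smulRight e

theorem foU_lin_apply (Q : QuadraticForm F (ι → F)) (e w v : ι → F) :
    foU_lin Q e w v = v + polar (⇑Q) e v • w - (polar (⇑Q) w v + Q w * polar (⇑Q) e v) • e := by
  simp [foU_lin]

theorem foU_sub_one_apply (Q : QuadraticForm F (ι → F)) (e w v : ι → F) :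
    (foU_lin Q e w - 1) v =
      polar (⇑Q) e v • w - (polar (⇑Q) w v + Q w * polar (⇑Q) e v) • e := by
  rw [LinearMap.sub_apply, foU_lin_apply, Module.End.one_apply]
  abel

variable {Q : QuadraticForm F (ι → F)} {e w : ι → F}

theorem foU_isometry (he : Q e = 0) (hew : polar (⇑Q) e w = 0) (v : ι → F) :
    Q (foU_lin Q e w v) = Q v := by
  have h : foU_lin Q e w v = (1 : F) • v + polar (⇑Q) e v • w +
      (-(polar (⇑Q) w v + Q w * polar (⇑Q) e v)) • e := by
    rw [foU_lin_apply, one_smul, neg_smul, sub_eq_add_neg]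
  rw [h, Cfsg.Agent.Lib.Helper5.map_lin3, he, polar_comm (⇑Q) w e, hew, polar_comm (⇑Q) v w,
    polar_comm (⇑Q) v e]
  ring

theorem foU_sub_one_e (he : Q e = 0) (hew : polar (⇑Q) e w = 0) :
    (foU_lin Q e w - 1) e = 0 := by
  rw [foU_sub_one_apply, polar_comm (⇑Q) w e, hew, polar_self, he]
  simp

theorem foU_sub_one_w (hew : polar (⇑Q) e w = 0) :
    (foU_lin Q e w - 1) w = (-(2 * Q w)) • e := by
  rw [foU_sub_one_apply, hew, polar_self]
  simp

theorem foU_sub_one_sq (he : Q e = 0) (hew : polar (⇑Q) e w = 0) (v : ι → F) :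
    (foU_lin Q e w - 1) ((foU_lin Q e w - 1) v) = (-(2 * Q w) * polar (⇑Q) e v) • e := by
  rw [foU_sub_one_apply Q e w v, map_sub, map_smul, map_smul, foU_sub_one_e he hew,
    foU_sub_one_w hew, smul_zero, sub_zero, smul_smul, mul_comm]

theorem foU_sub_one_cube (he : Q e = 0) (hew : polar (⇑Q) e w = 0) (v : ι → F) :
    (foU_lin Q e w - 1) ((foU_lin Q e w - 1) ((foU_lin Q e w - 1) v)) = 0 := by
  have h1 := foU_sub_one_sq he hew v
  rw [h1, map_smul, foU_sub_one_e he hew, smul_zero]

theorem foU_pow_char (p : ℕ) [Fact p.Prime] [CharP F p] (hp2 : p ≠ 2) (he : Q e = 0)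
    (hew : polar (⇑Q) e w = 0) : foU_lin Q e w ^ p = 1 := by
  have hp : p.Prime := Fact.out
  have h1 : ((X : F[X]) - 1) ^ p = X ^ p - 1 := by
    rw [sub_pow_char, one_pow]
  have h2 := congrArg (aeval (foU_lin Q e w)) h1
  simp only [map_pow, map_sub, aeval_X, map_one] at h2
  have h3 : (foU_lin Q e w - 1) ^ 3 = 0 := by
    apply LinearMap.ext
    intro v
    rw [pow_succ, pow_succ, pow_one, Module.End.mul_apply, Module.End.mul_apply,
      foU_sub_one_cube he hew, LinearMap.zero_apply]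
  have hp3 : 3 ≤ p := by
    have := hp.two_le
    omega
  have h4 : (foU_lin Q e w - 1) ^ p = 0 := by
    obtain ⟨k, rfl⟩ : ∃ k, p = 3 + k := ⟨p - 3, by omega⟩
    rw [pow_add, h3, zero_mul]
  rw [h4] at h2
  exact (sub_eq_zero.1 h2.symm)

end unip

theorem exists_unip {F : Type*} [Field F] [Fintype F] {p : ℕ} [Fact p.Prime] [CharP F p]
    (hp2 : p ≠ 2) {ι : Type} [Fintype ι] [DecidableEq ι] (Q : QuadraticForm F (ι → F))
    (hQ : (polarBilin Q).Nondegenerate) (hn : 2 ≤ Fintype.card ι)
    (e w : ι → F) (he0 : e ≠ 0) (he : Q e = 0) (hew : polar (⇑Q) e w = 0) (hw : Q w ≠ 0) :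
    ∃ x : GL ι F, x ∈ Cfsg.Geo.omegaGL ⇑Q ∧ x ^ p = 1 ∧
      (∀ c : F, (x : Matrix ι ι F) ≠ c • (1 : Matrix ι ι F)) ∧
      finrank F (LinearMap.ker (aeval (Matrix.toLin' (x : Matrix ι ι F))
        ((X - 1) ^ 2 : F[X]))) + 1 = Fintype.card ι := by
  have hp : p.Prime := Fact.out
  have h2 : (2 : F) ≠ 0 := by
    intro h
    have h1 : ((2 : ℕ) : F) = 0 := by exact_mod_cast h
    have h3 : p ∣ 2 := (CharP.cast_eq_zero_iff F p 2).1 h1
    exact hp2 ((Nat.prime_dvd_prime_iff_eq hp Nat.prime_two).1 h3)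
  set M : Matrix ι ι F := LinearMap.toMatrix' (foU_lin Q e w) with hM
  have hMlin : Matrix.toLin' M = foU_lin Q e w := Matrix.toLin'_toMatrix' _
  have hMv : ∀ v, M *ᵥ v = foU_lin Q e w v := by
    intro v
    rw [← Matrix.toLin'_apply, hMlin]
  have hMQ : ∀ v, Q (M *ᵥ v) = Q v := by
    intro v
    rw [hMv]
    exact foU_isometry he hew v
  set xi : ↥(Cfsg.isometryGroup F ⇑Q) := Cfsg.Agent.Lib.Helper2.Siegel.mkIso hQ M hMQ with hxi
  have hxM : ((xi : GL ι F) : Matrix ι ι F) = M := Cfsg.Agent.Lib.Helper2.Siegel.mkIso_coe hQ M hMQ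
  have hMp : M ^ p = 1 := by
    apply Matrix.toLin'.injective
    rw [Matrix.toLin'_pow, hMlin, foU_pow_char p hp2 he hew, Matrix.toLin'_one]
    rfl
  have hxp : (xi : GL ι F) ^ p = 1 := by
    apply Units.ext
    rw [Units.val_pow_eq_pow_val, hxM, hMp, Units.val_one]
  refine ⟨(xi : GL ι F), ?_, hxp, ?_, ?_⟩
  · exact Cfsg.Agent.Lib.Helper5.UniO.mem_omegaGL_of_pow_eq_one h2 Q hQ hn _ xi.2 p
      (hp.odd_of_ne_two hp2) hxp
  · intro c hc
    rw [hxM] at hc
    have h3 : foU_lin Q e w e = c • e := by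
      rw [← hMv, hc, Matrix.smul_mulVec, Matrix.one_mulVec]
    have h4 : foU_lin Q e w e = e := by
      have := foU_sub_one_e (Q := Q) (e := e) (w := w) he hew
      rw [LinearMap.sub_apply, Module.End.one_apply, sub_eq_zero] at this
      exact this
    have hc1 : c = 1 := by
      rw [h4] at h3
      have h5 : (1 - c) • e = 0 := by rw [sub_smul, one_smul, ← h3, sub_self]
      rcases smul_eq_zero.1 h5 with h6 | h6
      · exact (sub_eq_zero.1 h6).symm
      · exact absurd h6 he0
    have h7 : foU_lin Q e w w = w := by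
      rw [← hMv, hc, hc1, one_smul, Matrix.one_mulVec]
    have h8 := foU_sub_one_w (Q := Q) (e := e) (w := w) hew
    rw [LinearMap.sub_apply, Module.End.one_apply, h7, sub_self] at h8
    rcases smul_eq_zero.1 h8.symm with h9 | h9
    · rw [neg_eq_zero] at h9
      rcases mul_eq_zero.1 h9 with h10 | h10
      · exact h2 h10
      · exact hw h10
    · exact he0 h9
  · rw [hxM, hMlin]
    have hker : LinearMap.ker (aeval (foU_lin Q e w) ((X - 1) ^ 2 : F[X])) =
        LinearMap.ker (polarBilin Q e) := by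
      ext v
      rw [LinearMap.mem_ker, LinearMap.mem_ker]
      have h3 : aeval (foU_lin Q e w) ((X - 1) ^ 2 : F[X]) v =
          (-(2 * Q w) * polar (⇑Q) e v) • e := by
        rw [map_pow, map_sub, aeval_X, map_one, pow_two, Module.End.mul_apply]
        exact foU_sub_one_sq he hew v
      rw [h3]
      show _ ↔ polar (⇑Q) e v = 0
      constructor
      · intro h4
        rcases smul_eq_zero.1 h4 with h5 | h5
        · rcases mul_eq_zero.1 h5 with h6 | h6
          · exfalso
            rw [neg_eq_zero] at h6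
            rcases mul_eq_zero.1 h6 with h7 | h7
            · exact h2 h7
            · exact hw h7
          · exact h6
        · exact absurd h5 he0
      · intro h4
        rw [h4, mul_zero, zero_smul]
    rw [hker]
    have hne : (polarBilin Q e : Module.Dual F (ι → F)) ≠ 0 := by
      intro h0
      apply he0
      apply hQ.1
      intro y
      have : polarBilin Q e y = 0 := by rw [h0]; rfl
      exact this
    rw [Module.Dual.finrank_ker_add_one_of_ne_zero hne, Module.finrank_fintype_fun_eq_card]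

end Cfsg.Agent.Lib.Helper3.FEO
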