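import Mathlib
import Cfsg.Agent.Lib.Helper1.M24X

/-!
# Transitivity of `M24` on small configurations of points
-/

set_option autoImplicit false

namespace Cfsg.Agent.Lib.Helper1.M24

open Cfsg Cfsg.Agent.Lib.Helper1
open scoped Pointwise

theorem extend_list_univ (l : List GolayPt) (hl : l.Nodup) (hlen : l.length ≤ 5) :
    ∃ r : List GolayPt, (l ++ r).Nodup ∧ (l ++ r).length = 5 := by
  have hcard : (Finset.univ \ l.toFinset).card = 24 - l.length := by
    rw [Finset.card_sdiff_of_subset (Finset.subset_univ _), List.toFinset_card_of_nodup hl]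
    rfl
  refine ⟨(Finset.univ \ l.toFinset).toList.take (5 - l.length), ?_, ?_⟩
  · rw [List.nodup_append]
    refine ⟨hl, (Finset.nodup_toList _).sublist (List.take_sublist _ _), ?_⟩
    intro a ha b hb hab
    subst hab
    have := List.mem_of_mem_take hb
    rw [Finset.mem_toList, Finset.mem_sdiff] at this
    exact this.2 (List.mem_toFinset.mpr ha)
  · rw [List.length_append, List.length_take, Finset.length_toList, hcard]
    omega

/-- transitivity on tuples of at most five distinct points -/
theorem tuple_trans (l l' : List GolayPt) (hl : l.Nodup) (hl' : l'.Nodup)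
    (hlen : l.length = l'.length) (h5 : l.length ≤ 5) : ∃ g ∈ M24, l.map g = l' := by
  obtain ⟨r, hr1, hr2⟩ := extend_list_univ l hl h5
  obtain ⟨r', hr1', hr2'⟩ := extend_list_univ l' hl' (hlen ▸ h5)
  obtain ⟨g, hg, hmap⟩ := list_trans (l ++ r) (l' ++ r') hr1 hr1' hr2 hr2'
  refine ⟨g, hg, ?_⟩
  rw [List.map_append] at hmap
  exact (List.append_inj hmap (by rw [List.length_map, hlen])).1

theorem smul_eq_of_map_toList {g : P24} {A B : Finset GolayPt}
    (h : A.toList.map g = B.toList) : g • A = B := by
  ext p
  rw [← Finset.mem_toList (s := B), ← h, List.mem_map, Finset.mem_smul_finset]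
  constructor
  · rintro ⟨q, hq, rfl⟩
    exact ⟨q, Finset.mem_toList.mpr hq, rfl⟩
  · rintro ⟨q, hq, rfl⟩
    exact ⟨q, Finset.mem_toList.mp hq, rfl⟩

/-- the stabilizer of a set is transitive on the sets with prescribed size and intersection,
as long as at most five points are involved -/
theorem set_pair_trans (s t t' : Finset GolayPt) (hc : t.card = t'.card)
    (hi : (s ∩ t).card = (s ∩ t').card) (h5 : (s ∪ t).card ≤ 5) :
    ∃ g ∈ M24, g • s = s ∧ g • t = t' := by
  have c1 : ∀ x : Finset GolayPt, (s \ x).card + (s ∩ x).card = s.card :=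
    fun x => Finset.card_sdiff_add_card_inter s x
  have c2 : ∀ x : Finset GolayPt, (x \ s).card + (s ∩ x).card = x.card := by
    intro x
    rw [Finset.inter_comm]
    exact Finset.card_sdiff_add_card_inter x s
  have c3 : (s ∪ t).card = (s \ t).card + (s ∩ t).card + (t \ s).card := by
    have := Finset.card_union_add_card_inter s t
    have := c1 t
    have := c2 t
    omega
  have nd : ∀ x : Finset GolayPt,
      ((s \ x).toList ++ (s ∩ x).toList ++ (x \ s).toList).Nodup := by
    intro x
    rw [List.nodup_append, List.nodup_append]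
    refine ⟨⟨Finset.nodup_toList _, Finset.nodup_toList _, ?_⟩, Finset.nodup_toList _, ?_⟩
    · intro a ha b hb hab
      subst hab
      rw [Finset.mem_toList] at ha hb
      exact (Finset.mem_sdiff.mp ha).2 (Finset.mem_inter.mp hb).2
    · intro a ha b hb hab
      subst hab
      rw [Finset.mem_toList] at hb
      rw [List.mem_append, Finset.mem_toList, Finset.mem_toList] at ha
      rcases ha with ha | ha
      · exact (Finset.mem_sdiff.mp hb).2 (Finset.mem_sdiff.mp ha).1
      · exact (Finset.mem_sdiff.mp hb).2 (Finset.mem_inter.mp ha).1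
  have l1 : (s \ t).card = (s \ t').card := by have := c1 t; have := c1 t'; omega
  have l3 : (t \ s).card = (t' \ s).card := by have := c2 t; have := c2 t'; omega
  obtain ⟨g, hg, hmap⟩ := tuple_trans _ _ (nd t) (nd t')
    (by simp only [List.length_append, Finset.length_toList]; omega)
    (by simp only [List.length_append, Finset.length_toList]; omega)
  rw [List.map_append, List.map_append] at hmap
  have h12 := List.append_inj hmap (by
    simp only [List.length_append, List.length_map, Finset.length_toList]; omega)
  have h1 := List.append_inj h12.1 (by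
    simp only [List.length_map, Finset.length_toList]; omega)
  have e1 := smul_eq_of_map_toList h1.1
  have e2 := smul_eq_of_map_toList h1.2
  have e3 := smul_eq_of_map_toList h12.2
  refine ⟨g, hg, ?_, ?_⟩
  · conv_lhs => rw [← Finset.sdiff_union_inter s t]
    rw [Finset.smul_finset_union, e1, e2, Finset.sdiff_union_inter]
  · have ht : ∀ x : Finset GolayPt, (s ∩ x) ∪ (x \ s) = x := by
      intro x
      rw [Finset.inter_comm, Finset.union_comm, Finset.sdiff_union_inter]
    conv_lhs => rw [← ht t]
    rw [Finset.smul_finset_union, e2, e3, ht]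

/-- the same with some extra points fixed -/
theorem set_pair_trans_fix (fx : List GolayPt) (hfx : fx.Nodup) (s t t' : Finset GolayPt)
    (hfs : ∀ x ∈ fx, x ∉ s ∪ t) (hfs' : ∀ x ∈ fx, x ∉ s ∪ t') (hc : t.card = t'.card)
    (hi : (s ∩ t).card = (s ∩ t').card) (h5 : fx.length + (s ∪ t).card ≤ 5) :
    ∃ g ∈ M24, fx.map g = fx ∧ g • s = s ∧ g • t = t' := by
  have c1 : ∀ x : Finset GolayPt, (s \ x).card + (s ∩ x).card = s.card :=
    fun x => Finset.card_sdiff_add_card_inter s x
  have c2 : ∀ x : Finset GolayPt, (x \ s).card + (s ∩ x).card = x.card := by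
    intro x
    rw [Finset.inter_comm]
    exact Finset.card_sdiff_add_card_inter x s
  have c3 : (s ∪ t).card = (s \ t).card + (s ∩ t).card + (t \ s).card := by
    have := Finset.card_union_add_card_inter s t
    have := c1 t
    have := c2 t
    omega
  have nd : ∀ x : Finset GolayPt, (∀ y ∈ fx, y ∉ s ∪ x) →
      (fx ++ ((s \ x).toList ++ (s ∩ x).toList ++ (x \ s).toList)).Nodup := by
    intro x hx
    rw [List.nodup_append, List.nodup_append, List.nodup_append]
    refine ⟨hfx, ⟨⟨Finset.nodup_toList _, Finset.nodup_toList _, ?_⟩, Finset.nodup_toList _, ?_⟩, ?_⟩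
    · intro a ha b hb hab
      subst hab
      rw [Finset.mem_toList] at ha hb
      exact (Finset.mem_sdiff.mp ha).2 (Finset.mem_inter.mp hb).2
    · intro a ha b hb hab
      subst hab
      rw [Finset.mem_toList] at hb
      rw [List.mem_append, Finset.mem_toList, Finset.mem_toList] at ha
      rcases ha with ha | ha
      · exact (Finset.mem_sdiff.mp hb).2 (Finset.mem_sdiff.mp ha).1
      · exact (Finset.mem_sdiff.mp hb).2 (Finset.mem_inter.mp ha).1
    · intro a ha b hb hab
      subst hab
      apply hx a ha
      rw [List.mem_append, List.mem_append, Finset.mem_toList, Finset.mem_toList,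
        Finset.mem_toList] at hb
      rw [Finset.mem_union]
      rcases hb with (hb | hb) | hb
      · exact Or.inl (Finset.mem_sdiff.mp hb).1
      · exact Or.inl (Finset.mem_inter.mp hb).1
      · exact Or.inr (Finset.mem_sdiff.mp hb).1
  have l1 : (s \ t).card = (s \ t').card := by have := c1 t; have := c1 t'; omega
  have l3 : (t \ s).card = (t' \ s).card := by have := c2 t; have := c2 t'; omega
  obtain ⟨g, hg, hmap⟩ := tuple_trans _ _ (nd t hfs) (nd t' hfs')
    (by simp only [List.length_append, Finset.length_toList]; omega)
    (by simp only [List.length_append, Finset.length_toList]; omega)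
  rw [List.map_append] at hmap
  have h0 := List.append_inj hmap (by rw [List.length_map])
  have hmap' := h0.2
  rw [List.map_append, List.map_append] at hmap'
  have h12 := List.append_inj hmap' (by
    simp only [List.length_append, List.length_map, Finset.length_toList]; omega)
  have h1 := List.append_inj h12.1 (by
    simp only [List.length_map, Finset.length_toList]; omega)
  have e1 := smul_eq_of_map_toList h1.1
  have e2 := smul_eq_of_map_toList h1.2
  have e3 := smul_eq_of_map_toList h12.2
  refine ⟨g, hg, h0.1, ?_, ?_⟩
  · conv_lhs => rw [← Finset.sdiff_union_inter s t]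
    rw [Finset.smul_finset_union, e1, e2, Finset.sdiff_union_inter]
  · have ht : ∀ x : Finset GolayPt, (s ∩ x) ∪ (x \ s) = x := by
      intro x
      rw [Finset.inter_comm, Finset.union_comm, Finset.sdiff_union_inter]
    conv_lhs => rw [← ht t]
    rw [Finset.smul_finset_union, e2, e3, ht]

end Cfsg.Agent.Lib.Helper1.M24
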