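import Mathlib
import Cfsg.Agent.Lib.Helper1.M24X2
import Cfsg.Agent.Lib.Helper1.M24W7

/-!
# Orbits of a triad stabilizer on the disjoint triads
-/

set_option autoImplicit false

namespace Cfsg.Agent.Lib.Helper1.M24

open Cfsg Cfsg.Agent.Lib.Helper1
open scoped Pointwise

theorem sp_union (a b : ℕ) : sp a ∪ sp b = sp (a ||| b) := by
  ext p
  rw [Finset.mem_union, mem_sp, mem_sp, mem_sp, Nat.testBit_or, Bool.or_eq_true]

theorem sp_subset_iff {a b : ℕ} (ha : a < 2 ^ 24) : sp a ⊆ sp b ↔ a &&& b = a := by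
  constructor
  · intro h
    apply Nat.eq_of_testBit_eq
    intro i
    rw [Nat.testBit_and]
    by_cases hi : i < 24
    · by_cases hai : a.testBit i = true
      · have h1 : gUnidx i ∈ sp a := by rw [mem_sp, gIdx_gUnidx i hi]; exact hai
        have h2 := h h1
        rw [mem_sp, gIdx_gUnidx i hi] at h2
        rw [hai, h2]; rfl
      · rw [Bool.not_eq_true] at hai
        rw [hai]; rfl
    · have : a.testBit i = false :=
        Nat.testBit_lt_two_pow (lt_of_lt_of_le ha (Nat.pow_le_pow_right (by norm_num) (by omega)))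
      rw [this]; rfl
  · intro h p hp
    rw [mem_sp] at hp ⊢
    rw [← h, Nat.testBit_and, Bool.and_eq_true] at hp
    exact hp.2

theorem sp_disjoint_iff {a b : ℕ} (ha : a < 2 ^ 24) : Disjoint (sp a) (sp b) ↔ a &&& b = 0 := by
  rw [Finset.disjoint_iff_inter_eq_empty, sp_inter]
  constructor
  · intro h
    have h0 : sp (a &&& b) = sp 0 := by
      rw [h]
      ext p
      rw [mem_sp]
      simp
    exact sp_injOn (lt_of_le_of_lt Nat.and_le_left ha) (by norm_num) h0
  · intro h
    rw [h]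
    ext p
    rw [mem_sp]
    simp

theorem smul_disjoint_iff (g : P24) (a b : Finset GolayPt) :
    Disjoint (g • a) (g • b) ↔ Disjoint a b := by
  rw [Finset.disjoint_iff_inter_eq_empty, Finset.disjoint_iff_inter_eq_empty,
    ← Finset.smul_finset_inter, Finset.smul_finset_eq_empty]

theorem smul_inOct_iff {g : P24} (hg : g ∈ M24) (a : Finset GolayPt) :
    (∃ o ∈ octads, g • a ⊆ o) ↔ (∃ o ∈ octads, a ⊆ o) := by
  constructor
  · rintro ⟨o, ho, h⟩
    refine ⟨g⁻¹ • o, smul_mem_octads (M24.inv_mem hg) ho, ?_⟩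
    rw [← Finset.smul_finset_subset_smul_finset_iff (a := g), smul_inv_smul]
    exact h
  · rintro ⟨o, ho, h⟩
    exact ⟨g • o, smul_mem_octads hg ho, Finset.smul_finset_subset_smul_finset h⟩

/-- the stabilizer of the standard triad -/
abbrev HT : Subgroup P24 := M24 ⊓ MulAction.stabilizer P24 (sp 8388611)

theorem gensT_mem : ∀ e ∈ gensT, e.σ ∈ HT := by
  have h : ∀ e ∈ gensT, pm e.t 8388611 = 8388611 := by decide +kernel
  intro e he
  refine ⟨K_le e.mem, ?_⟩
  show e.σ • sp 8388611 = sp 8388611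
  have := smul_support_eq_pm e 8388611
  rw [h e he] at this
  exact this

set_option maxRecDepth 1000000 in
theorem octT_eq : octT = octList.filter (fun o => 8388611 &&& o == 8388611) := by
  decide +kernel

theorem inOct_iff (m : ℕ) (hm : m < 2 ^ 24) :
    (∃ o ∈ octads, sp 8388611 ∪ sp m ⊆ o) ↔
      octT.any (fun o => (8388611 ||| m) &&& o == (8388611 ||| m)) = true := by
  have hlt : 8388611 ||| m < 2 ^ 24 := Nat.or_lt_two_pow (by norm_num) hm
  rw [List.any_eq_true, sp_union]
  constructor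
  · rintro ⟨o, ho, h⟩
    obtain ⟨mo, hmo, rfl⟩ := exists_mask_of_mem_octads ho
    rw [sp_subset_iff hlt] at h
    refine ⟨mo, ?_, by rw [beq_iff_eq]; exact h⟩
    rw [octT_eq, List.mem_filter, beq_iff_eq]
    refine ⟨hmo, ?_⟩
    apply Nat.eq_of_testBit_eq
    intro i
    have := congrArg (fun x => x.testBit i) h
    simp only [Nat.testBit_and, Nat.testBit_or] at this ⊢
    by_cases h1 : Nat.testBit 8388611 i = true
    · rw [h1] at this ⊢
      simpa using this
    · rw [Bool.not_eq_true] at h1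
      rw [h1]; rfl
  · rintro ⟨mo, hmo, h⟩
    rw [beq_iff_eq] at h
    rw [octT_eq, List.mem_filter] at hmo
    exact ⟨sp mo, sp_mem_octads hmo.1, (sp_subset_iff hlt).mpr h⟩

theorem triad_to_std (T : Finset GolayPt) (hT : T.card = 3) : ∃ g ∈ M24, g • T = sp 8388611 := by
  obtain ⟨g, hg, -, h⟩ := set_pair_trans ∅ T (sp 8388611)
    (by rw [hT, card_sp]; decide +kernel) (by simp) (by rw [Finset.empty_union, hT]; norm_num)
  exact ⟨g, hg, h⟩

theorem famT_iff (m : ℕ) : famT m = true ↔ Disjoint (sp 8388611) (sp m) := by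
  unfold famT
  rw [beq_iff_eq, sp_disjoint_iff (by norm_num), Nat.land_comm]

/-- orbits of a triad stabilizer on the triads disjoint from the triad -/
theorem triad_orbits (T U U' : Finset GolayPt) (hT : T.card = 3) (hU : U.card = 3)
    (hU' : U'.card = 3) (hd : Disjoint T U) (hd' : Disjoint T U')
    (h : (∃ o ∈ octads, T ∪ U ⊆ o) ↔ (∃ o ∈ octads, T ∪ U' ⊆ o)) :
    ∃ g ∈ M24, g • T = T ∧ g • U = U' := by
  obtain ⟨τ, hτ, hτT⟩ := triad_to_std T hT
  obtain ⟨m, hm, e⟩ := exists_mask_of_card (t := τ • U) (k := 3)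
    (by rw [Finset.card_smul_finset, hU])
  obtain ⟨m', hm', e'⟩ := exists_mask_of_card (t := τ • U') (k := 3)
    (by rw [Finset.card_smul_finset, hU'])
  have hf : ∀ (X : Finset GolayPt) (mx : ℕ), τ • X = sp mx → Disjoint T X → famT mx = true := by
    intro X mx ex hX
    rw [famT_iff, ← ex, ← hτT, smul_disjoint_iff]
    exact hX
  have hinv : ∀ (X : Finset GolayPt) (mx : ℕ), mx ∈ subMasks 24 3 → τ • X = sp mx →
      (invT mx = 1 ↔ ∃ o ∈ octads, T ∪ X ⊆ o) := by
    intro X mx hmx ex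
    have hlt := ((mem_subMasks _ _ _).mp hmx).1
    rw [← smul_inOct_iff hτ, Finset.smul_finset_union, hτT, ex, inOct_iff mx hlt]
    unfold invT
    split_ifs with hc
    · simp [hc]
    · simp [hc]
  have hinv01 : ∀ mx, invT mx = 0 ∨ invT mx = 1 := by
    intro mx
    unfold invT
    split_ifs <;> simp
  have hi : invT m = invT m' := by
    have h1 := hinv U m hm e
    have h2 := hinv U' m' hm' e'
    rcases hinv01 m with a | a <;> rcases hinv01 m' with b | b
    · rw [a, b]
    · exfalso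
      have := h1.mpr (h.mpr (h2.mp b))
      omega
    · exfalso
      have := h2.mpr (h.mp (h1.mp a))
      omega
    · rw [a, b]
  obtain ⟨σ, hσ, hσe⟩ := transT gensT_mem m m' hm hm' (hf U m e hd) (hf U' m' e' hd') hi
  refine ⟨τ⁻¹ * σ * τ, M24.mul_mem (M24.mul_mem (M24.inv_mem hτ) hσ.1) hτ, ?_, ?_⟩
  · rw [mul_smul, mul_smul, hτT, MulAction.mem_stabilizer_iff.mp hσ.2, ← hτT, inv_smul_smul]
  · rw [mul_smul, mul_smul, e, hσe, ← e', inv_smul_smul]

end Cfsg.Agent.Lib.Helper1.M24
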