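import Mathlib
import Cfsg.Agent.Lib.Helper1.M24X3

/-!
# Traversal certificates for families of sets given by lists of bit masks
-/

set_option autoImplicit false

namespace Cfsg.Agent.Lib.Helper1.M24

open Cfsg Cfsg.Agent.Lib.Helper1
open scoped Pointwise

/-- the family of the sets with masks in the list -/
def famL (l : List ℕ) : Finset (Finset GolayPt) := (l.map sp).toFinset

theorem mem_famL (l : List ℕ) (x : Finset GolayPt) : x ∈ famL l ↔ ∃ m ∈ l, sp m = x := by
  unfold famL
  rw [List.mem_toFinset, List.mem_map]

theorem smul_famL {H : Subgroup P24} (e : El H) (l : List ℕ) :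
    e.σ • famL l = famL (l.map (pm e.t)) := by
  ext x
  rw [Finset.mem_smul_finset, mem_famL]
  constructor
  · rintro ⟨y, hy, rfl⟩
    rw [mem_famL] at hy
    obtain ⟨m, hm, rfl⟩ := hy
    exact ⟨pm e.t m, List.mem_map_of_mem hm, (smul_support_eq_pm e m).symm⟩
  · rintro ⟨m', hm', rfl⟩
    rw [List.mem_map] at hm'
    obtain ⟨m, hm, rfl⟩ := hm'
    exact ⟨sp m, (mem_famL l _).mpr ⟨m, hm, rfl⟩, smul_support_eq_pm e m⟩

/-- equal families have the same masks -/
theorem mem_iff_of_famL_eq {l l' : List ℕ} (hl : ∀ m ∈ l, m < 2 ^ 24) (hl' : ∀ m ∈ l', m < 2 ^ 24)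
    (h : famL l = famL l') (m : ℕ) : m ∈ l ↔ m ∈ l' := by
  constructor
  · intro hm
    have h1 : sp m ∈ famL l' := by rw [← h]; exact (mem_famL l _).mpr ⟨m, hm, rfl⟩
    obtain ⟨m', hm', he⟩ := (mem_famL l' _).mp h1
    rw [← sp_injOn (hl' m' hm') (hl m hm) he]
    exact hm'
  · intro hm
    have h1 : sp m ∈ famL l := by rw [h]; exact (mem_famL l' _).mpr ⟨m, hm, rfl⟩
    obtain ⟨m', hm', he⟩ := (mem_famL l _).mp h1
    rw [← sp_injOn (hl m' hm') (hl' m hm) he]
    exact hm'

/-- the largest entry of a list -/
def lmax : List ℕ → ℕ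
  | [] => 0
  | a :: l => max a (lmax l)

theorem le_lmax : ∀ (l : List ℕ) (m : ℕ), m ∈ l → m ≤ lmax l
  | a :: l, m, hm => by
    rw [List.mem_cons] at hm
    unfold lmax
    rcases hm with rfl | hm
    · exact le_max_left _ _
    · exact le_trans (le_lmax l m hm) (le_max_right _ _)

theorem lmax_mem : ∀ (l : List ℕ), l ≠ [] → lmax l ∈ l
  | [a], _ => by simp [lmax]
  | a :: b :: l, _ => by
    have ih := lmax_mem (b :: l) (by simp)
    unfold lmax
    rcases max_cases a (lmax (b :: l)) with ⟨h, _⟩ | ⟨h, _⟩
    · rw [h]; exact List.mem_cons_self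
    · rw [h]; exact List.mem_cons_of_mem _ ih

theorem lmax_congr {l l' : List ℕ} (h : ∀ m, m ∈ l ↔ m ∈ l') : lmax l = lmax l' := by
  by_cases hl : l = []
  · subst hl
    have : l' = [] := by
      rw [List.eq_nil_iff_forall_not_mem]
      intro m hm
      exact absurd ((h m).mpr hm) (by simp)
    rw [this]
  · have hl' : l' ≠ [] := by
      intro h'
      subst h'
      obtain ⟨a, ha⟩ := List.exists_mem_of_ne_nil l hl
      exact absurd ((h a).mp ha) (by simp)
    apply le_antisymm
    · exact le_lmax l' _ ((h _).mp (lmax_mem l hl))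
    · exact le_lmax l _ ((h _).mpr (lmax_mem l' hl'))

/-- a key of a list of masks that only depends on the set of its entries -/
def lkey (l : List ℕ) : ℕ := lmax l * 2 ^ 24 + lmax (l.map (fun m => 2 ^ 24 - m))

theorem lkey_congr {l l' : List ℕ} (h : ∀ m, m ∈ l ↔ m ∈ l') : lkey l = lkey l' := by
  unfold lkey
  rw [lmax_congr h]
  congr 1
  apply lmax_congr
  intro m
  rw [List.mem_map, List.mem_map]
  constructor
  · rintro ⟨a, ha, rfl⟩
    exact ⟨a, (h a).mp ha, rfl⟩
  · rintro ⟨a, ha, rfl⟩
    exact ⟨a, (h a).mpr ha, rfl⟩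

/-- one step of the distinctness test with a bit map -/
def bitStep (p : ℕ) (st : Option ℕ) (k : ℕ) : Option ℕ :=
  match st with
  | none => none
  | some acc => if acc.testBit (k % p) then none else some (acc ||| 2 ^ (k % p))

/-- distinctness test (modulo `p`) with a bit map -/
def bitNodup (p : ℕ) (l : List ℕ) : Bool := (l.foldl (bitStep p) (some 0)).isSome

theorem bitFold_none (p : ℕ) (l : List ℕ) : l.foldl (bitStep p) none = none := by
  induction l with
  | nil => rfl
  | cons a l ih => rw [List.foldl_cons]; exact ih

theorem bitFold_sound (p : ℕ) (l : List ℕ) (acc : ℕ)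
    (h : (l.foldl (bitStep p) (some acc)).isSome = true) :
    (l.map (fun k => k % p)).Nodup ∧ ∀ a ∈ l, acc.testBit (a % p) = false := by
  induction l generalizing acc with
  | nil => exact ⟨List.nodup_nil, fun a ha => by simp at ha⟩
  | cons a l ih =>
    rw [List.foldl_cons] at h
    by_cases hb : acc.testBit (a % p) = true
    · have : bitStep p (some acc) a = none := by
        unfold bitStep
        simp only [hb, if_true]
      rw [this, bitFold_none] at h
      simp at h
    · have : bitStep p (some acc) a = some (acc ||| 2 ^ (a % p)) := by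
        unfold bitStep
        simp only [hb]
        rfl
      rw [this] at h
      obtain ⟨h1, h2⟩ := ih _ h
      have h3 : ∀ b ∈ l, acc.testBit (b % p) = false ∧ a % p ≠ b % p := by
        intro b hb'
        have := h2 b hb'
        rw [Nat.testBit_or, Bool.or_eq_false_iff, Nat.testBit_two_pow,
          decide_eq_false_iff_not] at this
        exact this
      constructor
      · rw [List.map_cons, List.nodup_cons]
        refine ⟨?_, h1⟩
        intro hmem
        rw [List.mem_map] at hmem
        obtain ⟨b, hb', hbe⟩ := hmem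
        exact (h3 b hb').2 hbe.symm
      · intro b hb'
        rw [List.mem_cons] at hb'
        rcases hb' with rfl | hb'
        · rwa [Bool.not_eq_true] at hb
        · exact (h3 b hb').1

theorem nodup_of_bitNodup (p : ℕ) (l : List ℕ) (h : bitNodup p l = true) : l.Nodup :=
  List.Nodup.of_map _ (bitFold_sound p l 0 h).1

/-- one step of a traversal certificate: `(number of pops, generator index, result)`; the state is
the current stack, or `none` after a failure -/
def vstep (gs : List (List ℕ)) (st : Option (List (List ℕ))) (e : ℕ × ℕ × List ℕ) :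
    Option (List (List ℕ)) :=
  match st with
  | none => none
  | some s =>
    match s.drop e.1 with
    | [] => none
    | top :: rest =>
      if decide (e.2.1 < gs.length) && (top.map (pm (gs.getD e.2.1 [])) == e.2.2) then
        some (e.2.2 :: top :: rest)
      else none

theorem vfold_none (gs : List (List ℕ)) (cert : List (ℕ × ℕ × List ℕ)) :
    cert.foldl (vstep gs) none = none := by
  induction cert with
  | nil => rfl
  | cons e cert ih => rw [List.foldl_cons]; exact ih

/-- the family with masks `l` is the image of the one with masks `l₀` -/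
def LReach (H : Subgroup P24) (l₀ l : List ℕ) : Prop := ∃ σ ∈ H, σ • famL l₀ = famL l

theorem vfold_sound {K' H : Subgroup P24} (gens : List (El K')) (hH : ∀ e ∈ gens, e.σ ∈ H)
    (l₀ : List ℕ) (cert : List (ℕ × ℕ × List ℕ)) (s : List (List ℕ))
    (hs : ∀ l ∈ s, LReach H l₀ l)
    (hok : (cert.foldl (vstep (gens.map El.t)) (some s)).isSome = true) :
    ∀ e ∈ cert, LReach H l₀ e.2.2 := by
  induction cert generalizing s with
  | nil => intro e he; simp at he
  | cons e cert ih =>
    rw [List.foldl_cons] at hok
    cases hd : s.drop e.1 with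
    | nil =>
      have : vstep (gens.map El.t) (some s) e = none := by
        unfold vstep
        simp only [hd]
      rw [this, vfold_none] at hok
      simp at hok
    | cons top rest =>
      have hsub : ∀ l ∈ top :: rest, LReach H l₀ l := by
        intro l hl
        rw [← hd] at hl
        exact hs l (List.mem_of_mem_drop hl)
      by_cases hc : (decide (e.2.1 < (gens.map El.t).length) &&
          (top.map (pm ((gens.map El.t).getD e.2.1 [])) == e.2.2)) = true
      · have hv : vstep (gens.map El.t) (some s) e = some (e.2.2 :: top :: rest) := by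
          unfold vstep
          simp only [hd]
          rw [if_pos hc]
        rw [hv] at hok
        rw [Bool.and_eq_true, decide_eq_true_eq, beq_iff_eq, List.length_map] at hc
        obtain ⟨hc1, hc2⟩ := hc
        have hget : (gens.map El.t).getD e.2.1 [] = (gens[e.2.1]'hc1).t := by
          rw [List.getD_eq_getElem?_getD, List.getElem?_map, List.getElem?_eq_getElem hc1]
          rfl
        rw [hget] at hc2
        have hnew : LReach H l₀ e.2.2 := by
          obtain ⟨σ, hσ, hσe⟩ := hsub top List.mem_cons_self
          refine ⟨(gens[e.2.1]'hc1).σ * σ, H.mul_mem (hH _ (List.getElem_mem hc1)) hσ, ?_⟩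
          rw [mul_smul, hσe, smul_famL, hc2]
        have hs' : ∀ l ∈ e.2.2 :: top :: rest, LReach H l₀ l := by
          intro l hl
          rw [List.mem_cons] at hl
          rcases hl with rfl | hl
          · exact hnew
          · exact hsub l hl
        intro e' he'
        rw [List.mem_cons] at he'
        rcases he' with rfl | he'
        · exact hnew
        · exact ih _ hs' hok e' he'
      · have hv : vstep (gens.map El.t) (some s) e = none := by
          unfold vstep
          simp only [hd]
          rw [if_neg hc]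
        rw [hv, vfold_none] at hok
        simp at hok

/-- the list of everything reached by a traversal certificate -/
def trav (l₀ : List ℕ) (cert : List (ℕ × ℕ × List ℕ)) : List (List ℕ) :=
  l₀ :: cert.map (fun e => e.2.2)

theorem trav_sound {K' H : Subgroup P24} (gens : List (El K')) (hH : ∀ e ∈ gens, e.σ ∈ H)
    (l₀ : List ℕ) (cert : List (ℕ × ℕ × List ℕ))
    (hok : (cert.foldl (vstep (gens.map El.t)) (some [l₀])).isSome = true) :
    ∀ l ∈ trav l₀ cert, LReach H l₀ l := by
  have h0 : ∀ l ∈ [l₀], LReach H l₀ l := by
    intro l hl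
    rw [List.mem_singleton] at hl
    subst hl
    exact ⟨1, H.one_mem, one_smul _ _⟩
  intro l hl
  unfold trav at hl
  rw [List.mem_cons] at hl
  rcases hl with rfl | hl
  · exact h0 _ (List.mem_singleton.mpr rfl)
  · rw [List.mem_map] at hl
    obtain ⟨e, he, rfl⟩ := hl
    exact vfold_sound gens hH l₀ cert [l₀] h0 hok e he

/-- the boolean check of a traversal certificate: the steps are correct, all masks are small and
the keys are distinct -/
def travOK (gs : List (List ℕ)) (l₀ : List ℕ) (cert : List (ℕ × ℕ × List ℕ)) (p : ℕ)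
    (n : ℕ) : Bool :=
  (cert.foldl (vstep gs) (some [l₀])).isSome &&
    (trav l₀ cert).all (fun l => l.all (fun m => decide (m < 2 ^ 24))) &&
    bitNodup p ((trav l₀ cert).map lkey) && (cert.length + 1 == n)

/-- a checked traversal certificate gives a lower bound for the size of the orbit -/
theorem trav_lower_bound {K' H : Subgroup P24} (gens : List (El K')) (hH : ∀ e ∈ gens, e.σ ∈ H)
    (l₀ : List ℕ) (cert : List (ℕ × ℕ × List ℕ)) (p : ℕ) (n : ℕ)
    (hok : travOK (gens.map El.t) l₀ cert p n = true) :
    ∃ L : List (Finset (Finset GolayPt)), L.Nodup ∧ L.length = n ∧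
      ∀ x ∈ L, ∃ σ ∈ H, σ • famL l₀ = x := by
  unfold travOK at hok
  simp only [Bool.and_eq_true, List.all_eq_true, beq_iff_eq] at hok
  obtain ⟨⟨⟨hfold, hsmall⟩, hnd⟩, hlen⟩ := hok
  have hsmall' : ∀ l ∈ trav l₀ cert, ∀ m ∈ l, m < 2 ^ 24 := by
    intro l hl m hm
    exact of_decide_eq_true (hsmall l hl m hm)
  refine ⟨(trav l₀ cert).map famL, ?_, ?_, ?_⟩
  · have hnd' := nodup_of_bitNodup _ _ hnd
    rw [List.nodup_map_iff_inj_on (List.Nodup.of_map _ hnd')]
    intro l hl l' hl' hfam
    apply List.inj_on_of_nodup_map hnd' hl hl'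
    exact lkey_congr (mem_iff_of_famL_eq (hsmall' l hl) (hsmall' l' hl') hfam)
  · rw [List.length_map, ← hlen]
    unfold trav
    rw [List.length_cons, List.length_map]
  · intro x hx
    rw [List.mem_map] at hx
    obtain ⟨l, hl, rfl⟩ := hx
    exact trav_sound gens hH l₀ cert hfold l hl

end Cfsg.Agent.Lib.Helper1.M24
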