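import Mathlib

/-!
# Suborbits from lower bounds

If an invariant separates finitely many orbit representatives, the orbits are at least as large as
prescribed numbers, and these numbers add up to the size of the whole set, then the orbits are the
classes of the invariant and have exactly the prescribed sizes.
-/

set_option autoImplicit false

namespace Cfsg.Agent.Lib.Helper1.SubOrbits

open MulAction

variable {G X : Type*} [Group G] [MulAction G X]

theorem orbit_subset_class (H : Subgroup G) (A : Set X)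
    (hAinv : ∀ h ∈ H, ∀ x ∈ A, h • x ∈ A)
    (cls : X → ℕ) (hcls : ∀ h ∈ H, ∀ x, cls (h • x) = cls x)
    (y : X) (hy : y ∈ A) :
    orbit H y ⊆ {x | x ∈ A ∧ cls x = cls y} := by
  rintro x ⟨h, rfl⟩
  exact ⟨hAinv h.1 h.2 y hy, hcls h.1 h.2 y⟩

/-- the main counting statement -/
theorem suborbits (H : Subgroup G) (A : Set X) (hAfin : A.Finite)
    (hAinv : ∀ h ∈ H, ∀ x ∈ A, h • x ∈ A)
    (cls : X → ℕ) (hcls : ∀ h ∈ H, ∀ x, cls (h • x) = cls x)
    (V : Finset ℕ) (y : ℕ → X) (N : ℕ → ℕ)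
    (hyA : ∀ k ∈ V, y k ∈ A) (hyc : ∀ k ∈ V, cls (y k) = k)
    (hbig : ∀ k ∈ V, N k ≤ (orbit H (y k)).ncard)
    (hsum : A.ncard ≤ ∑ k ∈ V, N k) :
    (∀ x ∈ A, cls x ∈ V) ∧
    (∀ k ∈ V, orbit H (y k) = {x | x ∈ A ∧ cls x = k}) ∧
    (∀ k ∈ V, {x | x ∈ A ∧ cls x = k}.ncard = N k) := by
  classical
  set C : ℕ → Set X := fun k => {x | x ∈ A ∧ cls x = k} with hC
  have hCA : ∀ k, C k ⊆ A := fun k x hx => hx.1
  have hCfin : ∀ k, (C k).Finite := fun k => hAfin.subset (hCA k)
  have hOC : ∀ k ∈ V, orbit H (y k) ⊆ C k := by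
    intro k hk
    have := orbit_subset_class H A hAinv cls hcls (y k) (hyA k hk)
    rwa [hyc k hk] at this
  have hOfin : ∀ k ∈ V, (orbit H (y k)).Finite := fun k hk => (hCfin k).subset (hOC k hk)
  have hle1 : ∀ k ∈ V, (orbit H (y k)).ncard ≤ (C k).ncard :=
    fun k hk => Set.ncard_le_ncard (hOC k hk) (hCfin k)
  -- the union of the classes
  set U : Finset X := V.biUnion (fun k => (hCfin k).toFinset) with hU
  have hUA : (U : Set X) ⊆ A := by
    intro x hx
    rw [hU, Finset.mem_coe, Finset.mem_biUnion] at hx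
    obtain ⟨k, _, hx⟩ := hx
    rw [Set.Finite.mem_toFinset] at hx
    exact hx.1
  have hUcard : U.card = ∑ k ∈ V, (C k).ncard := by
    rw [hU, Finset.card_biUnion]
    · apply Finset.sum_congr rfl
      intro k _
      rw [Set.ncard_eq_toFinset_card _ (hCfin k)]
    · intro a _ b _ hab
      rw [Function.onFun, Finset.disjoint_left]
      intro x hx hx'
      rw [Set.Finite.mem_toFinset] at hx hx'
      exact hab (hx.2.symm.trans hx'.2)
  have hUle : U.card ≤ A.ncard := by
    rw [← Set.ncard_coe_finset]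
    exact Set.ncard_le_ncard hUA hAfin
  have hchain1 : ∑ k ∈ V, N k ≤ ∑ k ∈ V, (orbit H (y k)).ncard := Finset.sum_le_sum hbig
  have hchain2 : ∑ k ∈ V, (orbit H (y k)).ncard ≤ ∑ k ∈ V, (C k).ncard := Finset.sum_le_sum hle1
  have heq2 : ∑ k ∈ V, (orbit H (y k)).ncard = ∑ k ∈ V, (C k).ncard := by omega
  have heq1 : ∑ k ∈ V, N k = ∑ k ∈ V, (orbit H (y k)).ncard := by omega
  have hUeq : U.card = A.ncard := by omega
  have hOeq : ∀ k ∈ V, (orbit H (y k)).ncard = (C k).ncard :=
    (Finset.sum_eq_sum_iff_of_le hle1).mp heq2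
  have hNeq : ∀ k ∈ V, N k = (orbit H (y k)).ncard :=
    (Finset.sum_eq_sum_iff_of_le hbig).mp heq1
  refine ⟨?_, ?_, ?_⟩
  · intro x hx
    have hUA' : (U : Set X) = A :=
      Set.eq_of_subset_of_ncard_le hUA (by rw [Set.ncard_coe_finset, hUeq]) hAfin
    rw [← hUA', hU, Finset.mem_coe, Finset.mem_biUnion] at hx
    obtain ⟨k, hk, hx⟩ := hx
    rw [Set.Finite.mem_toFinset] at hx
    rw [hx.2]
    exact hk
  · intro k hk
    exact Set.eq_of_subset_of_ncard_le (hOC k hk) (by rw [hOeq k hk]) (hCfin k)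
  · intro k hk
    rw [hNeq k hk, hOeq k hk]

/-- a list of distinct elements of a set bounds its size from below -/
theorem length_le_ncard {α : Type*} (S : Set α) (hS : S.Finite) (L : List α) (hL : L.Nodup)
    (hLS : ∀ a ∈ L, a ∈ S) : L.length ≤ S.ncard := by
  classical
  rw [← List.toFinset_card_of_nodup hL, ← Set.ncard_coe_finset]
  apply Set.ncard_le_ncard _ hS
  intro a ha
  rw [Finset.mem_coe, List.mem_toFinset] at ha
  exact hLS a ha

/-- the orbit of a conjugate stabilizer -/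
theorem orbit_stabilizer_smul (g : G) (x₀ y : X) :
    orbit (stabilizer G (g • x₀)) (g • y) = (fun z => g • z) '' orbit (stabilizer G x₀) y := by
  ext z
  constructor
  · rintro ⟨⟨h, hh⟩, rfl⟩
    rw [mem_stabilizer_iff] at hh
    refine ⟨(g⁻¹ * h * g) • y, ⟨⟨g⁻¹ * h * g, ?_⟩, rfl⟩, ?_⟩
    · rw [mem_stabilizer_iff, mul_smul, mul_smul, hh, inv_smul_smul]
    · show g • (g⁻¹ * h * g) • y = h • g • y
      rw [← mul_smul, ← mul_smul]
      congr 1
      group
  · rintro ⟨_, ⟨⟨h, hh⟩, rfl⟩, rfl⟩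
    rw [mem_stabilizer_iff] at hh
    refine ⟨⟨g * h * g⁻¹, ?_⟩, ?_⟩
    · rw [mem_stabilizer_iff, mul_smul, mul_smul, inv_smul_smul, hh]
    · show (g * h * g⁻¹) • g • y = g • h • y
      rw [← mul_smul, ← mul_smul]
      congr 1
      group

theorem ncard_orbit_stabilizer_smul (g : G) (x₀ y : X) :
    (orbit (stabilizer G (g • x₀)) (g • y)).ncard = (orbit (stabilizer G x₀) y).ncard := by
  rw [orbit_stabilizer_smul]
  exact Set.ncard_image_of_injective _ (MulAction.injective g)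

theorem mem_orbit_stabilizer_smul (g : G) (x₀ y z : X) :
    z ∈ orbit (stabilizer G (g • x₀)) (g • y) ↔ g⁻¹ • z ∈ orbit (stabilizer G x₀) y := by
  rw [orbit_stabilizer_smul]
  constructor
  · rintro ⟨w, hw, rfl⟩
    rwa [inv_smul_smul]
  · intro h
    exact ⟨g⁻¹ • z, h, smul_inv_smul g z⟩

end Cfsg.Agent.Lib.Helper1.SubOrbits
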