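import Mathlib
import Cfsg.Agent.Lib.Helper1.FamCert
import Cfsg.Agent.Lib.Helper1.SubOrbits
import Cfsg.Agent.Lib.Helper1.CoatomOrbits

/-!
# Suborbits on families of sets: the intersection invariant
-/

set_option autoImplicit false

namespace Cfsg.Agent.Lib.Helper1.M24

open Cfsg Cfsg.Agent.Lib.Helper1
open scoped Pointwise

/-- the intersection invariant of two families of sets -/
def clsF (x₀ x : Finset (Finset GolayPt)) : ℕ := ∑ t ∈ x₀, ∑ u ∈ x, (t ∩ u).card ^ 2

theorem clsF_smul (g : P24) (x₀ x : Finset (Finset GolayPt)) :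
    clsF (g • x₀) (g • x) = clsF x₀ x := by
  unfold clsF
  have h1 : ∀ y : Finset (Finset GolayPt), g • y = y.image (fun U => g • U) := fun y => rfl
  rw [h1 x₀, h1 x, Finset.sum_image (fun a _ b _ h => MulAction.injective g h)]
  apply Finset.sum_congr rfl
  intro t _
  rw [Finset.sum_image (fun a _ b _ h => MulAction.injective g h)]
  apply Finset.sum_congr rfl
  intro u _
  rw [card_inter_smul]

theorem clsF_smul_of_fix {g : P24} {x₀ : Finset (Finset GolayPt)} (hg : g • x₀ = x₀)
    (x : Finset (Finset GolayPt)) : clsF x₀ (g • x) = clsF x₀ x := by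
  conv_lhs => rw [← hg]
  exact clsF_smul g x₀ x

theorem famL_congr {l l' : List ℕ} (h : ∀ m, m ∈ l ↔ m ∈ l') : famL l = famL l' := by
  ext x
  rw [mem_famL, mem_famL]
  constructor
  · rintro ⟨m, hm, rfl⟩
    exact ⟨m, (h m).mp hm, rfl⟩
  · rintro ⟨m, hm, rfl⟩
    exact ⟨m, (h m).mpr hm, rfl⟩

theorem nodup_map_sp {l : List ℕ} (hl : l.Nodup) (hs : ∀ m ∈ l, m < 2 ^ 24) :
    (l.map sp).Nodup := by
  rw [List.nodup_map_iff_inj_on hl]
  intro a ha b hb h
  exact sp_injOn (hs a ha) (hs b hb) h

theorem sum_famL {l : List ℕ} (hl : l.Nodup) (hs : ∀ m ∈ l, m < 2 ^ 24)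
    (f : Finset GolayPt → ℕ) : ∑ t ∈ famL l, f t = (l.map (fun m => f (sp m))).sum := by
  unfold famL
  rw [List.sum_toFinset _ (nodup_map_sp hl hs), List.map_map]
  rfl

/-- the invariant on lists of masks -/
def clsL (a b : List ℕ) : ℕ :=
  (a.map (fun t => (b.map (fun u => (popcN 24 (t &&& u)) ^ 2)).sum)).sum

theorem clsF_famL {a b : List ℕ} (ha : a.Nodup) (has : ∀ m ∈ a, m < 2 ^ 24)
    (hb : b.Nodup) (hbs : ∀ m ∈ b, m < 2 ^ 24) : clsF (famL a) (famL b) = clsL a b := by
  unfold clsF clsL
  rw [sum_famL ha has]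
  congr 1
  apply List.map_congr_left
  intro t _
  rw [sum_famL hb hbs]
  congr 1
  apply List.map_congr_left
  intro u _
  rw [card_sp_inter]

/-- boolean check that a list of masks is duplicate free with small entries -/
def goodL (l : List ℕ) : Bool := bitNodup (2 ^ 24) l && l.all (fun m => decide (m < 2 ^ 24))

theorem goodL_nodup {l : List ℕ} (h : goodL l = true) : l.Nodup := by
  unfold goodL at h
  rw [Bool.and_eq_true] at h
  exact nodup_of_bitNodup _ _ h.1

theorem goodL_small {l : List ℕ} (h : goodL l = true) : ∀ m ∈ l, m < 2 ^ 24 := by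
  unfold goodL at h
  rw [Bool.and_eq_true, List.all_eq_true] at h
  intro m hm
  exact of_decide_eq_true (h.2 m hm)

theorem card_famL {l : List ℕ} (h : goodL l = true) : (famL l).card = l.length := by
  unfold famL
  rw [List.toFinset_card_of_nodup (nodup_map_sp (goodL_nodup h) (goodL_small h)), List.length_map]

/-- a generator table stabilizes the family given by a list of masks -/
def fixL (t : List ℕ) (l : List ℕ) : Bool :=
  (l.map (pm t)).all (fun m => l.contains m) && l.all (fun m => (l.map (pm t)).contains m)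

theorem smul_famL_of_fixL {H : Subgroup P24} (e : El H) (l : List ℕ) (h : fixL e.t l = true) :
    e.σ • famL l = famL l := by
  rw [smul_famL]
  unfold fixL at h
  rw [Bool.and_eq_true, List.all_eq_true, List.all_eq_true] at h
  apply famL_congr
  intro m
  constructor
  · intro hm
    have := h.1 m hm
    rwa [List.contains_iff_mem] at this
  · intro hm
    have := h.2 m hm
    rwa [List.contains_iff_mem] at this

end Cfsg.Agent.Lib.Helper1.M24
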