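import Mathlib
import Cfsg.Agent.Lib.Helper1.FamOrbits

/-!
# Weighted intersection invariants, and orbits of conjugate subgroups
-/

set_option autoImplicit false

namespace Cfsg.Agent.Lib.Helper1.M24

open Cfsg Cfsg.Agent.Lib.Helper1
open scoped Pointwise

/-- the weighted intersection invariant of two families of sets -/
def clsW (w : ℕ → ℕ) (x₀ x : Finset (Finset GolayPt)) : ℕ :=
  ∑ t ∈ x₀, ∑ u ∈ x, w (t ∩ u).card

theorem clsW_smul (w : ℕ → ℕ) (g : P24) (x₀ x : Finset (Finset GolayPt)) :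
    clsW w (g • x₀) (g • x) = clsW w x₀ x := by
  unfold clsW
  have h1 : ∀ y : Finset (Finset GolayPt), g • y = y.image (fun U => g • U) := fun y => rfl
  rw [h1 x₀, h1 x, Finset.sum_image (fun a _ b _ h => MulAction.injective g h)]
  apply Finset.sum_congr rfl
  intro t _
  rw [Finset.sum_image (fun a _ b _ h => MulAction.injective g h)]
  apply Finset.sum_congr rfl
  intro u _
  rw [card_inter_smul]

theorem clsW_smul_of_fix (w : ℕ → ℕ) {g : P24} {x₀ : Finset (Finset GolayPt)} (hg : g • x₀ = x₀)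
    (x : Finset (Finset GolayPt)) : clsW w x₀ (g • x) = clsW w x₀ x := by
  conv_lhs => rw [← hg]
  exact clsW_smul w g x₀ x

/-- the weighted invariant on lists of masks -/
def clsWL (w : ℕ → ℕ) (a b : List ℕ) : ℕ :=
  (a.map (fun t => (b.map (fun u => w (popcN 24 (t &&& u)))).sum)).sum

theorem clsW_famL (w : ℕ → ℕ) {a b : List ℕ} (ha : goodL a = true) (hb : goodL b = true) :
    clsW w (famL a) (famL b) = clsWL w a b := by
  unfold clsW clsWL
  rw [sum_famL (goodL_nodup ha) (goodL_small ha)]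
  congr 1
  apply List.map_congr_left
  intro t _
  rw [sum_famL (goodL_nodup hb) (goodL_small hb)]
  congr 1
  apply List.map_congr_left
  intro u _
  rw [card_sp_inter]

end Cfsg.Agent.Lib.Helper1.M24

namespace Cfsg.Agent.Lib.Helper1.SubOrbits

open MulAction

variable {G X : Type*} [Group G] [MulAction G X]

/-- the orbit of a conjugate subgroup -/
theorem orbit_map_conj (H : Subgroup G) (g : G) (y : X) :
    orbit (H.map (MulAut.conj g).toMonoidHom) (g • y) = (fun z => g • z) '' orbit H y := by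
  ext z
  constructor
  · rintro ⟨⟨h, hh⟩, rfl⟩
    obtain ⟨h₀, hh₀, rfl⟩ := Subgroup.mem_map.mp hh
    refine ⟨h₀ • y, ⟨⟨h₀, hh₀⟩, rfl⟩, ?_⟩
    show g • h₀ • y = (MulAut.conj g h₀) • g • y
    rw [MulAut.conj_apply, ← mul_smul, ← mul_smul]
    congr 1
    group
  · rintro ⟨_, ⟨⟨h, hh⟩, rfl⟩, rfl⟩
    refine ⟨⟨MulAut.conj g h, Subgroup.mem_map.mpr ⟨h, hh, rfl⟩⟩, ?_⟩
    show (MulAut.conj g h) • g • y = g • h • y
    rw [MulAut.conj_apply, ← mul_smul, ← mul_smul]
    congr 1
    group

theorem mem_orbit_map_conj (H : Subgroup G) (g : G) (y z : X) :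
    z ∈ orbit (H.map (MulAut.conj g).toMonoidHom) (g • y) ↔ g⁻¹ • z ∈ orbit H y := by
  rw [orbit_map_conj]
  constructor
  · rintro ⟨w, hw, rfl⟩
    rwa [inv_smul_smul]
  · intro h
    exact ⟨g⁻¹ • z, h, smul_inv_smul g z⟩

theorem ncard_orbit_map_conj (H : Subgroup G) (g : G) (y : X) :
    (orbit (H.map (MulAut.conj g).toMonoidHom) (g • y)).ncard = (orbit H y).ncard := by
  rw [orbit_map_conj]
  exact Set.ncard_image_of_injective _ (MulAction.injective g)

/-- the intersection of two conjugated stabilizers -/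
theorem stabilizer_inf_smul {Y : Type*} [MulAction G Y] (g : G) (x : X) (y : Y) :
    stabilizer G (g • x) ⊓ stabilizer G (g • y) =
      (stabilizer G x ⊓ stabilizer G y).map (MulAut.conj g).toMonoidHom := by
  rw [stabilizer_smul_eq_stabilizer_map_conj, stabilizer_smul_eq_stabilizer_map_conj]
  exact (Subgroup.map_inf_eq _ _ _ (MulAut.conj g).injective).symm

end Cfsg.Agent.Lib.Helper1.SubOrbits
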