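import Mathlib
import Cfsg.Agent.Lib.Helper5.FlvDefs
import Cfsg.Agent.Lib.Helper5.FlvF
import Cfsg.Agent.Lib.Helper5.FlvM
import Cfsg.Agent.Lib.Helper5.FlvR1

/-!
# S3816 (Flavell), package C2a = case (ii) of the central case: the chief factor `M/Z₁` with
`M/Z₁` a `q`-group has `M` abelian.
-/

set_option autoImplicit false

namespace Cfsg.Agent.Lib.Helper1.FlvC2a

open scoped Pointwise commutatorElement
open Cfsg.Agent.Lib.Helper5.FlvDefs
open Cfsg.Agent.Lib.Helper5.FlvF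
open Cfsg.Agent.Lib.Helper5.FlvM
open Cfsg.Agent.Lib.Helper5.FlvR1
open Cfsg.Agent.Lib.Helper4.FlvR2
open Cfsg.Agent.Lib.Lead

universe u

section
variable {G : Type u} [Group G] [Finite G] {p : ℕ} {P H : Subgroup G} {q : ℕ} {z : G}
  {M : Subgroup G}

omit [Finite G] in
theorem Z1_le_H : Z1 P H ≤ H := fun _ hx => hx.1.1

omit [Finite G] in
theorem Z1_le_centH : Z1 P H ≤ Subgroup.centralizer (H : Set G) := fun _ hx => hx.1.2

omit [Finite G] in
theorem Z1_le_centP : Z1 P H ≤ Subgroup.centralizer (P : Set G) := fun _ hx => hx.2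

omit [Finite G] in
/-- every subgroup of `Z₁` is normalised by `H` and `P` -/
theorem normBy_of_le_Z1 {X : Subgroup G} (hX : X ≤ Z1 P H) : NormBy P H X := by
  constructor
  · have h1 : H ≤ Subgroup.centralizer (X : Set G) :=
      Subgroup.le_centralizer_iff.mp (hX.trans Z1_le_centH)
    exact h1.trans (Subgroup.centralizer_le_normalizer _)
  · have h1 : P ≤ Subgroup.centralizer (X : Set G) :=
      Subgroup.le_centralizer_iff.mp (hX.trans Z1_le_centP)
    exact h1.trans (Subgroup.centralizer_le_normalizer _)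

omit [Finite G] in
/-- every nontrivial subgroup of `Z₁` contains `z` -/
theorem z_mem_of_le_Z1 (hz : CData P H z q) {X : Subgroup G} (hX : X ≤ Z1 P H) (hne : X ≠ ⊥) :
    z ∈ X :=
  hz.zmin X (hX.trans Z1_le_H) hne (normBy_of_le_Z1 hX)


/-- the centre of `M` is `Z₁` unless `M` is abelian -/
theorem center_eq_Z1 (hM : CChief P H (Z1 P H) M q)
    (hna : ¬ ∀ a ∈ M, ∀ b ∈ M, a * b = b * a) :
    M ⊓ Subgroup.centralizer (M : Set G) = Z1 P H := by
  have hnb : NormBy P H (M ⊓ Subgroup.centralizer (M : Set G)) := by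
    apply normBy_of_conj_invariant hM.nM
    intro g hg x hx
    have hg' : g⁻¹ ∈ Subgroup.normalizer (M : Set G) := Subgroup.inv_mem _ hg
    refine Subgroup.mem_inf.mpr ⟨(Subgroup.mem_normalizer_iff.mp hg x).mp hx.1, ?_⟩
    rw [Subgroup.mem_centralizer_iff]
    intro m hm
    have hm' : g⁻¹ * m * g⁻¹⁻¹ ∈ M := (Subgroup.mem_normalizer_iff.mp hg' m).mp hm
    have h1 := Subgroup.mem_centralizer_iff.mp hx.2 _ hm'
    calc m * (g * x * g⁻¹) = g * ((g⁻¹ * m * g⁻¹⁻¹) * x) * g⁻¹ := by group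
      _ = g * (x * (g⁻¹ * m * g⁻¹⁻¹)) * g⁻¹ := by rw [h1]
      _ = g * x * g⁻¹ * m := by group
  have hle : Z1 P H ≤ M ⊓ Subgroup.centralizer (M : Set G) :=
    le_inf hM.ZM (Z1_le_centH.trans (Subgroup.centralizer_le hM.MH))
  rcases hM.chief _ hle inf_le_left hnb with h1 | h1
  · exact h1
  · exfalso
    apply hna
    intro a ha b hb
    have hb' : b ∈ M ⊓ Subgroup.centralizer (M : Set G) := by rw [h1]; exact hb
    exact Subgroup.mem_centralizer_iff.mp hb'.2 a ha

/-- case `M < H` -/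
theorem C2a_lt (h : MinCE p P H) (hz : CData P H z q) (hM : CChief P H (Z1 P H) M q)
    (hne : M ≠ H) : ∀ a ∈ M, ∀ b ∈ M, a * b = b * a := by
  by_contra hna
  have hcen := center_eq_Z1 hM hna
  -- `z ∉ [M,P]`
  have hzMP : z ∉ ⁅M, P⁆ := fun hmem => hz.znotK (R1 h hM.MH hne hM.nM.2 ⟨hmem, hz.zP⟩)
  -- `Z₁ ∩ [M,P] = 1`
  have hdisj : Z1 P H ⊓ ⁅M, P⁆ = ⊥ := by
    by_contra hne'
    exact hzMP (z_mem_of_le_Z1 hz inf_le_left hne').2
  have hWM : ⁅M, P⁆ ≤ M := commutator_le_left_of_le_normalizer M P hM.nM.2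
  -- `[M,P]` is abelian
  have hWab : ⁅M, P⁆ ≤ Subgroup.centralizer ((⁅M, P⁆ : Subgroup G) : Set G) := by
    have h1 : ⁅⁅M, P⁆, ⁅M, P⁆⁆ ≤ Z1 P H ⊓ ⁅M, P⁆ :=
      le_inf ((Subgroup.commutator_mono hWM hWM).trans hM.comm_le)
        (commutator_le_left_of_le_normalizer ⁅M, P⁆ ⁅M, P⁆ Subgroup.le_normalizer)
    rw [hdisj] at h1
    exact Subgroup.commutator_eq_bot_iff_le_centralizer.mp (le_bot_iff.mp h1)
  -- `C_M(P)` centralises `[M,P]` (three subgroups)
  have hWC : ⁅⁅M, P⁆, M ⊓ Subgroup.centralizer (P : Set G)⁆ = ⊥ := by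
    apply Subgroup.commutator_commutator_eq_bot_of_rotate
    · have h1 : ⁅P, M ⊓ Subgroup.centralizer (P : Set G)⁆ = ⊥ := by
        rw [Subgroup.commutator_comm, Subgroup.commutator_eq_bot_iff_le_centralizer]
        exact inf_le_right
      rw [h1, Subgroup.commutator_bot_left]
    · rw [Subgroup.commutator_eq_bot_iff_le_centralizer]
      exact ((Subgroup.commutator_mono inf_le_left le_rfl).trans hM.comm_le).trans Z1_le_centP
  -- `M = [M,P] C_M(P)`
  have hcop : (Nat.card P).Coprime (Nat.card M) := by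
    rw [h.ctx.cardP]
    exact (Nat.Coprime.coprime_dvd_left (Subgroup.card_dvd_of_le hM.MH) h.ctx.cop).symm
  have hdec := coprime_commutator_sup_centralizer P M hM.nM.2 hcop
    (Or.inl (isSolvable_of_card_prime h.ctx.hp h.ctx.cardP))
  -- `[M,P] ≤ Z(M) = Z₁`
  have hWZ : ⁅M, P⁆ ≤ Subgroup.centralizer (M : Set G) := by
    rw [Subgroup.le_centralizer_iff]
    have h1 : M ⊓ Subgroup.centralizer (P : Set G) ≤
        Subgroup.centralizer ((⁅M, P⁆ : Subgroup G) : Set G) := by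
      rw [Subgroup.le_centralizer_iff, ← Subgroup.commutator_eq_bot_iff_le_centralizer]
      exact hWC
    calc M = ⁅M, P⁆ ⊔ (M ⊓ Subgroup.centralizer (P : Set G)) := hdec.symm
      _ ≤ Subgroup.centralizer ((⁅M, P⁆ : Subgroup G) : Set G) := sup_le hWab h1
  have hW : ⁅M, P⁆ = ⊥ := by
    rw [eq_bot_iff, ← hdisj]
    refine le_inf ?_ le_rfl
    rw [← hcen]
    exact le_inf hWM hWZ
  -- so `M ≤ C(P)`, hence `M ≤ Z(H)`
  have hMP : M ≤ Subgroup.centralizer (P : Set G) :=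
    Subgroup.commutator_eq_bot_iff_le_centralizer.mp hW
  have hMH : M ≤ Subgroup.centralizer (H : Set G) := three_sub hM.MH hM.nM hMP (R0 h)
  exact hM.ne (le_antisymm (fun x hx => ⟨⟨hM.MH hx, hMH hx⟩, hMP hx⟩) hM.ZM)


omit [Finite G] in
/-- a factor commuting with `b` can be dropped from the left entry of a commutator -/
theorem comm_mul_left_of_commute {a b c : G} (h : c * b = b * c) : ⁅a * c, b⁆ = ⁅a, b⁆ := by
  simp only [commutatorElement_def]
  have h1 : a * c * b * (a * c)⁻¹ * b⁻¹ = a * (c * b) * c⁻¹ * a⁻¹ * b⁻¹ := by group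
  rw [h1, h]; group

omit [Finite G] in
/-- a factor commuting with `a` can be dropped from the right entry of a commutator -/
theorem comm_mul_right_of_commute {a b c : G} (h : c * a = a * c) : ⁅a, b * c⁆ = ⁅a, b⁆ := by
  simp only [commutatorElement_def]
  have h1 : a * (b * c) * a⁻¹ * (b * c)⁻¹ = a * b * (c * a⁻¹ * c⁻¹) * b⁻¹ := by group
  have h2 : c * a⁻¹ * c⁻¹ = a⁻¹ := by
    have h3 : c * a⁻¹ = a⁻¹ * c := by
      calc c * a⁻¹ = a⁻¹ * (a * c) * a⁻¹ := by group
        _ = a⁻¹ * (c * a) * a⁻¹ := by rw [h]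
        _ = a⁻¹ * c := by group
    rw [h3]; group
  rw [h1, h2]

/-- case `M = H` -/
theorem C2a_eq (h : MinCE p P H) (hz : CData P H z q) (hM : CChief P H (Z1 P H) H q) :
    ∀ a ∈ H, ∀ b ∈ H, a * b = b * a := by
  by_contra hna
  have hHH : ⁅H, H⁆ ≠ ⊥ := by
    intro h0
    apply hna
    intro a ha b hb
    have h1 := Subgroup.commutator_eq_bot_iff_le_centralizer.mp h0
    exact Subgroup.mem_centralizer_iff.mp (h1 hb) a ha
  have hzHH : z ∈ ⁅H, H⁆ := z_mem_of_le_Z1 hz hM.comm_le hHH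
  have hall : ∀ g ∈ H, cmE P g ≤ Z1 P H := by
    intro g hg
    obtain ⟨Y, hY⟩ : ∃ Y, Y = cmE P g := ⟨_, rfl⟩
    rw [← hY]
    have hYH : Y ≤ H := by rw [hY]; exact cmE_le h.ctx.norm hg
    have hXH : Y ⊔ Z1 P H ≤ H := sup_le hYH Z1_le_H
    have hZnY : Z1 P H ≤ Subgroup.normalizer (Y : Set G) :=
      Z1_le_centH.trans ((Subgroup.centralizer_le hYH).trans
        (Subgroup.centralizer_le_normalizer _))
    have hnb : NormBy P H (Y ⊔ Z1 P H) := by
      constructor
      · apply le_normalizer_of_conj_mem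
        intro b hb x hx
        have hxH : x ∈ H := hXH hx
        have h1 : b * x * b⁻¹ = ⁅b, x⁆ * x := by
          simp only [commutatorElement_def]; group
        rw [h1]
        exact Subgroup.mul_mem _ (Subgroup.mem_sup_right
          (hM.comm_le (Subgroup.commutator_mem_commutator hb hxH))) hx
      · intro u hu
        apply Subgroup.normalizer_inf_normalizer_le_normalizer_sup
        exact ⟨by rw [hY]; exact cmE_norm g hu, (normBy_of_le_Z1 le_rfl).2 hu⟩
    rcases hM.chief _ le_sup_right hXH hnb with h1 | h1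
    · rw [← h1]; exact le_sup_left
    · exfalso
      have hle : ⁅H, H⁆ ≤ Y := by
        rw [Subgroup.commutator_le]
        intro g₁ hg₁ g₂ hg₂
        have e1 : g₁ ∈ ((Y ⊔ Z1 P H : Subgroup G) : Set G) := by rw [h1]; exact hg₁
        have e2 : g₂ ∈ ((Y ⊔ Z1 P H : Subgroup G) : Set G) := by rw [h1]; exact hg₂
        rw [Subgroup.coe_mul_of_right_le_normalizer_left Y (Z1 P H) hZnY] at e1 e2
        obtain ⟨x₁, hx₁, c₁, hc₁, rfl⟩ := e1
        obtain ⟨x₂, hx₂, c₂, hc₂, rfl⟩ := e2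
        have hc₁' := Subgroup.mem_centralizer_iff.mp (Z1_le_centH hc₁)
        have hc₂' := Subgroup.mem_centralizer_iff.mp (Z1_le_centH hc₂)
        have k1 : x₂ * c₁ = c₁ * x₂ := hc₁' x₂ (hYH hx₂)
        have k2 : x₁ * c₂ = c₂ * x₁ := hc₂' x₁ (hYH hx₁)
        have k3 : c₁ * c₂ = c₂ * c₁ := hc₂' c₁ (Z1_le_H hc₁)
        have e3 : ⁅x₁ * c₁, x₂ * c₂⁆ = ⁅x₁, x₂⁆ := by
          have k6 : c₁ * (x₂ * c₂) = (x₂ * c₂) * c₁ := by
            rw [← mul_assoc, ← k1, mul_assoc, k3, mul_assoc]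
          rw [comm_mul_left_of_commute k6, comm_mul_right_of_commute k2.symm]
        rw [e3]
        exact Subgroup.commutator_mem_commutator hx₁ hx₂ |> fun hmem =>
          (commutator_le_left_of_le_normalizer Y Y Subgroup.le_normalizer) hmem
      exact hz.znotK (cmE_inf_le_KK hg ⟨by rw [← hY]; exact hle hzHH, hz.zP⟩)
  apply hna
  have hHZ : H ≤ Z1 P H := by
    calc H = ⁅H, P⁆ := (R0 h).symm
      _ = ⨆ g ∈ H, cmE P g := comm_eq_iSup H
      _ ≤ Z1 P H := iSup₂_le hall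
  intro a ha b hb
  exact Subgroup.mem_centralizer_iff.mp (Z1_le_centH (hHZ hb)) a ha

/-- PKG-C2a = case (ii): `M` is abelian -/
theorem C2a (h : MinCE p P H) (hz : CData P H z q) (hM : CChief P H (Z1 P H) M q) :
    ∀ a ∈ M, ∀ b ∈ M, a * b = b * a := by
  by_cases hne : M = H
  · subst hne
    exact C2a_eq h hz hM
  · exact C2a_lt h hz hM hne

end

end Cfsg.Agent.Lib.Helper1.FlvC2a
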