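import Mathlib

/-!
# S4292 package P6: Kronecker product of fixed-point-free matrix representations

If `ρA : A →* GL m K` and `ρB : B →* GL n K` are fixed-point-free (no non-identity element has
a non-zero fixed vector) and `|A|`, `|B|` are coprime, then `(a, b) ↦ ρA a ⊗ₖ ρB b` is a
fixed-point-free representation of `A × B` on `K^(m × n)`.
-/

set_option autoImplicit false

namespace Cfsg.Agent.Lib.Helper1.Fpf

open Matrix
open scoped Kronecker

variable {K : Type*} [CommRing K]
variable {m n : Type*} [Fintype m] [DecidableEq m] [Fintype n] [DecidableEq n]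

/-- The Kronecker product of two invertible matrices, as an element of `GL (m × n) K`. -/
noncomputable def kronGL (P : GL m K) (Q : GL n K) : GL (m × n) K :=
  ⟨(P : Matrix m m K) ⊗ₖ (Q : Matrix n n K), ((P⁻¹ : GL m K) : Matrix m m K) ⊗ₖ ((Q⁻¹ : GL n K) : Matrix n n K),
    by
      rw [← Matrix.mul_kronecker_mul]
      have h1 : (P : Matrix m m K) * ((P⁻¹ : GL m K) : Matrix m m K) = 1 := by
        rw [← Units.val_mul, mul_inv_cancel]; rfl
      have h2 : (Q : Matrix n n K) * ((Q⁻¹ : GL n K) : Matrix n n K) = 1 := by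
        rw [← Units.val_mul, mul_inv_cancel]; rfl
      rw [h1, h2, Matrix.one_kronecker_one],
    by
      rw [← Matrix.mul_kronecker_mul]
      have h1 : ((P⁻¹ : GL m K) : Matrix m m K) * (P : Matrix m m K) = 1 := by
        rw [← Units.val_mul, inv_mul_cancel]; rfl
      have h2 : ((Q⁻¹ : GL n K) : Matrix n n K) * (Q : Matrix n n K) = 1 := by
        rw [← Units.val_mul, inv_mul_cancel]; rfl
      rw [h1, h2, Matrix.one_kronecker_one]⟩

@[simp] theorem kronGL_val (P : GL m K) (Q : GL n K) :
    ((kronGL P Q : GL (m × n) K) : Matrix (m × n) (m × n) K) =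
      (P : Matrix m m K) ⊗ₖ (Q : Matrix n n K) := rfl

/-- The Kronecker product representation of `A × B`. -/
noncomputable def kronRep {A B : Type*} [Group A] [Group B]
    (ρA : A →* GL m K) (ρB : B →* GL n K) : A × B →* GL (m × n) K where
  toFun g := kronGL (ρA g.1) (ρB g.2)
  map_one' := by
    apply Units.ext
    simp [Matrix.one_kronecker_one]
  map_mul' g h := by
    apply Units.ext
    simp [Matrix.mul_kronecker_mul]

@[simp] theorem kronRep_val {A B : Type*} [Group A] [Group B]
    (ρA : A →* GL m K) (ρB : B →* GL n K) (g : A × B) :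
    ((kronRep ρA ρB g : GL (m × n) K) : Matrix (m × n) (m × n) K) =
      ((ρA g.1 : GL m K) : Matrix m m K) ⊗ₖ ((ρB g.2 : GL n K) : Matrix n n K) := rfl

/-- `(P ⊗ₖ 1) v = v` slice-wise. -/
theorem kron_one_mulVec_apply (P : Matrix m m K) (v : m × n → K) (i : m) (j : n) :
    ((P ⊗ₖ (1 : Matrix n n K)).mulVec v) (i, j) = (P.mulVec fun i' => v (i', j)) i := by
  simp only [Matrix.mulVec, dotProduct, Matrix.kroneckerMap_apply, Fintype.sum_prod_type,
    Matrix.one_apply]
  refine Finset.sum_congr rfl fun i' _ => ?_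
  rw [Finset.sum_eq_single j]
  · simp
  · intro j' _ hj'
    simp [Ne.symm hj']
  · intro h; exact absurd (Finset.mem_univ j) h

/-- `(1 ⊗ₖ Q) v = v` slice-wise. -/
theorem one_kron_mulVec_apply (Q : Matrix n n K) (v : m × n → K) (i : m) (j : n) :
    (((1 : Matrix m m K) ⊗ₖ Q).mulVec v) (i, j) = (Q.mulVec fun j' => v (i, j')) j := by
  simp only [Matrix.mulVec, dotProduct, Matrix.kroneckerMap_apply, Fintype.sum_prod_type,
    Matrix.one_apply]
  rw [Finset.sum_eq_single i]
  · simp
  · intro i' _ hi'
    simp [Ne.symm hi']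
  · intro h; exact absurd (Finset.mem_univ i) h

/-- **P6.** The Kronecker product of two fixed-point-free matrix representations of groups of
coprime orders is fixed-point-free. -/
theorem kronRep_fpf {A B : Type*} [Group A] [Finite A] [Group B] [Finite B]
    (hcop : (Nat.card A).Coprime (Nat.card B))
    (ρA : A →* GL m K) (ρB : B →* GL n K)
    (hA : ∀ a : A, a ≠ 1 → ∀ v : m → K, ((ρA a : GL m K) : Matrix m m K).mulVec v = v → v = 0)
    (hB : ∀ b : B, b ≠ 1 → ∀ v : n → K, ((ρB b : GL n K) : Matrix n n K).mulVec v = v → v = 0) :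
    ∀ g : A × B, g ≠ 1 → ∀ v : m × n → K,
      ((kronRep ρA ρB g : GL (m × n) K) : Matrix (m × n) (m × n) K).mulVec v = v → v = 0 := by
  intro g hg v hv
  -- every power of `g` fixes `v`
  have hpow : ∀ k : ℕ, ((kronRep ρA ρB (g ^ k) : GL (m × n) K) :
      Matrix (m × n) (m × n) K).mulVec v = v := by
    intro k
    induction k with
    | zero => simp
    | succ k ih =>
      rw [pow_succ, map_mul, Units.val_mul, ← Matrix.mulVec_mulVec, hv, ih]
  by_cases ha : g.1 = 1
  · -- then `g = (1, b)` with `b ≠ 1`
    have hb : g.2 ≠ 1 := by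
      intro hb; exact hg (Prod.ext ha hb)
    funext ij
    obtain ⟨i, j⟩ := ij
    have hfix : ((ρB g.2 : GL n K) : Matrix n n K).mulVec (fun j' => v (i, j')) =
        fun j' => v (i, j') := by
      funext j'
      have := congrFun hv (i, j')
      rw [kronRep_val, ha, map_one] at this
      have h1 : (((1 : GL m K) : Matrix m m K)) = 1 := rfl
      rw [h1, one_kron_mulVec_apply] at this
      exact this
    have := hB g.2 hb _ hfix
    exact congrFun this j
  · -- `g ^ |B| = (a ^ |B|, 1)` with `a ^ |B| ≠ 1`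
    set k := Nat.card B with hk
    have hak : g.1 ^ k ≠ 1 := by
      intro h
      have h1 : orderOf g.1 ∣ k := orderOf_dvd_of_pow_eq_one h
      have h2 : orderOf g.1 ∣ Nat.card A := orderOf_dvd_natCard g.1
      have h3 : orderOf g.1 ∣ Nat.gcd (Nat.card A) k := Nat.dvd_gcd h2 h1
      rw [hcop] at h3
      have : orderOf g.1 = 1 := Nat.dvd_one.mp h3
      exact ha (orderOf_eq_one_iff.mp this)
    have hbk : g.2 ^ k = 1 := by
      rw [hk]; exact pow_card_eq_one'
    funext ij
    obtain ⟨i, j⟩ := ij
    have hfix : ((ρA (g.1 ^ k) : GL m K) : Matrix m m K).mulVec (fun i' => v (i', j)) =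
        fun i' => v (i', j) := by
      funext i'
      have := congrFun (hpow k) (i', j)
      rw [kronRep_val] at this
      have e1 : (g ^ k).1 = g.1 ^ k := rfl
      have e2 : (g ^ k).2 = g.2 ^ k := rfl
      rw [e1, e2, hbk, map_one] at this
      have h1 : (((1 : GL n K) : Matrix n n K)) = 1 := rfl
      rw [h1, kron_one_mulVec_apply] at this
      exact this
    have := hA (g.1 ^ k) hak _ hfix
    exact congrFun this i

end Cfsg.Agent.Lib.Helper1.Fpf
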