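import Mathlib
import Cfsg.Agent.Lib.Helper8.FpfLift1
import Cfsg.Agent.Lib.Helper8.FpfLift2
import Cfsg.Agent.Lib.Helper8.FpfLift3

/-!
# S4292 package P7: descent from `ℤ` to `ZMod r`

If no non-zero integer lies in `fpfIdeal ℤ G`, then `1 ∉ fpfIdeal (ZMod r) G` for every prime `r`
(Nakayama on the finitely generated abelian group `ℤ[G] / I`), and for `r ∤ |G|` the quotient
`(ZMod r)[G] / I` is a non-zero finite module on which `G` acts fixed-point-freely.
-/

set_option autoImplicit false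

namespace Cfsg.Agent.Lib.Helper1.Fpf

open Cfsg.Agent.Lib.Helper8.FpfLift MonoidAlgebra

variable {G : Type*} [Group G]

/-- Every element of `fpfIdeal (ZMod r) G` is the reduction of an element of `fpfIdeal ℤ G`. -/
theorem exists_red_eq_of_mem_fpfIdeal (r : ℕ) [Fact r.Prime] {x : MonoidAlgebra (ZMod r) G}
    (hx : x ∈ fpfIdeal (ZMod r) G) : ∃ y ∈ fpfIdeal ℤ G, red r G y = x := by
  unfold fpfIdeal at hx
  induction hx using Submodule.span_induction with
  | mem x hx =>
    obtain ⟨h, b, hh, rfl⟩ := hx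
    refine ⟨normEl ℤ h * MonoidAlgebra.of ℤ G b, normEl_mul_of_mem_fpfIdeal hh b, ?_⟩
    rw [map_mul, map_normEl]
    congr 1
    simp [MonoidAlgebra.of_apply]
  | zero => exact ⟨0, Ideal.zero_mem _, map_zero _⟩
  | add x y _ _ hx hy =>
    obtain ⟨x', hx', rfl⟩ := hx
    obtain ⟨y', hy', rfl⟩ := hy
    exact ⟨x' + y', Ideal.add_mem _ hx' hy', map_add _ _ _⟩
  | smul a x _ hx =>
    obtain ⟨x', hx', rfl⟩ := hx
    obtain ⟨a', rfl⟩ := red_surjective (p := r) (H := G) a
    exact ⟨a' * x', Ideal.mul_mem_left _ _ hx', by rw [smul_eq_mul, map_mul]⟩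

/-- **P7 (descent).** If no non-zero integer lies in `fpfIdeal ℤ G` then `1 ∉ fpfIdeal (ZMod r) G`
for every prime `r`. -/
theorem one_notMem_fpfIdeal_zmod [Finite G] (r : ℕ) [Fact r.Prime]
    (hZ : ∀ m : ℤ, (m : MonoidAlgebra ℤ G) ∈ fpfIdeal ℤ G → m = 0) :
    (1 : MonoidAlgebra (ZMod r) G) ∉ fpfIdeal (ZMod r) G := by
  intro h1
  have hr : r.Prime := Fact.out
  obtain ⟨y, hy, hy1⟩ := exists_red_eq_of_mem_fpfIdeal r h1
  -- `1 - y = r • z`
  have h0 : red r G (1 - y) = 0 := by rw [map_sub, map_one, hy1, sub_self]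
  obtain ⟨z, hz⟩ := exists_eq_mul_of_red_eq_zero (p := r) h0
  -- the quotient abelian group
  let S := MonoidAlgebra ℤ G
  let I : Submodule ℤ S := (fpfIdeal ℤ G).restrictScalars ℤ
  let Q := S ⧸ I
  haveI : Module.Finite ℤ S := by
    haveI : Fintype G := Fintype.ofFinite G
    unfold S
    infer_instance
  have hfg : (⊤ : Submodule ℤ Q).FG := Module.finite_def.mp inferInstance
  have hin : (⊤ : Submodule ℤ Q) ≤ (Ideal.span {(r : ℤ)}) • (⊤ : Submodule ℤ Q) := by
    intro q _
    obtain ⟨w, rfl⟩ := Submodule.Quotient.mk_surjective I q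
    -- `w = w * y + r • (w * z)`
    have hw : w = w * y + (r : ℤ) • (w * z) := by
      have : w * (1 - y) = w * ((r : ℤ) • z) := by rw [hz]
      rw [mul_sub, mul_one, mul_smul_comm] at this
      rw [← this]; abel
    have hwy : w * y ∈ I := Ideal.mul_mem_left _ _ hy
    have : (Submodule.Quotient.mk w : Q) = (r : ℤ) • (Submodule.Quotient.mk (w * z) : Q) := by
      rw [← Submodule.Quotient.mk_smul, eq_comm, Submodule.Quotient.eq]
      have : (r : ℤ) • (w * z) - w = -(w * y) := by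
        rw [eq_neg_iff_add_eq_zero]
        nth_rewrite 2 [hw]
        abel
      rw [this]
      exact Submodule.neg_mem _ hwy
    rw [this]
    exact Submodule.smul_mem_smul (Ideal.mem_span_singleton_self _) Submodule.mem_top
  obtain ⟨s, hs1, hs⟩ :=
    Submodule.exists_sub_one_mem_and_smul_eq_zero_of_fg_of_le_smul _ _ hfg hin
  have hs0 : s • (Submodule.Quotient.mk (1 : S) : Q) = 0 := hs _ Submodule.mem_top
  rw [← Submodule.Quotient.mk_smul, Submodule.Quotient.mk_eq_zero] at hs0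
  have hsI : (s : MonoidAlgebra ℤ G) ∈ fpfIdeal ℤ G := by
    have e : (s : MonoidAlgebra ℤ G) = s • (1 : S) := by
      rw [zsmul_eq_mul, mul_one]
    rw [e]; exact hs0
  have hs00 : s = 0 := hZ s hsI
  rw [hs00, Ideal.mem_span_singleton] at hs1
  have : (r : ℤ) ∣ 1 := by
    have h := hs1
    rw [zero_sub, dvd_neg] at h
    exact h
  have h2 : r ∣ 1 := by exact_mod_cast this
  exact hr.one_lt.ne' (Nat.dvd_one.mp h2)

end Cfsg.Agent.Lib.Helper1.Fpf
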