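import Mathlib
import Cfsg.Agent.Lib.Helper8.FpfLift1

/-!
# S4292 package P7 (second half): the quotient module `k[G] / fpfIdeal` is fixed-point-free

For a field `k` whose characteristic does not divide `|G|` (here: any commutative ring in which the
orders of the elements of `G` are invertible) and `1 ∉ fpfIdeal k G`, the quotient `k[G] / I` is a
non-zero module on which every `g ≠ 1` acts without non-zero fixed points.
-/

set_option autoImplicit false

namespace Cfsg.Agent.Lib.Helper1.Fpf

open Cfsg.Agent.Lib.Helper8.FpfLift MonoidAlgebra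

universe u v

variable (k : Type v) [CommRing k] (G : Type u) [Group G]

/-- The `k`-submodule underlying `fpfIdeal k G`. -/
noncomputable def fpfSub : Submodule k (MonoidAlgebra k G) :=
  (fpfIdeal k G).restrictScalars k

/-- The quotient module `k[G] / I`. -/
abbrev FpfQuot : Type (max u v) := MonoidAlgebra k G ⧸ fpfSub k G

variable {k G}

theorem mem_fpfSub {x : MonoidAlgebra k G} : x ∈ fpfSub k G ↔ x ∈ fpfIdeal k G := Iff.rfl

/-- left multiplication by `g` on the quotient -/
noncomputable def quotAct (g : G) : FpfQuot k G →ₗ[k] FpfQuot k G :=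
  (fpfSub k G).mapQ (fpfSub k G) (LinearMap.mulLeft k (MonoidAlgebra.of k G g)) (by
    intro x hx
    rw [Submodule.mem_comap, LinearMap.mulLeft_apply]
    exact Ideal.mul_mem_left _ _ hx)

@[simp] theorem quotAct_mk (g : G) (w : MonoidAlgebra k G) :
    quotAct g (Submodule.Quotient.mk w : FpfQuot k G) =
      Submodule.Quotient.mk (MonoidAlgebra.of k G g * w) := rfl

/-- the action of `G` on the quotient -/
noncomputable def quotRep : G →* (FpfQuot k G →ₗ[k] FpfQuot k G) where
  toFun := quotAct
  map_one' := by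
    ext w
    simp
  map_mul' g h := by
    ext w
    simp [mul_assoc]

@[simp] theorem quotRep_mk (g : G) (w : MonoidAlgebra k G) :
    quotRep g (Submodule.Quotient.mk w : FpfQuot k G) =
      Submodule.Quotient.mk (MonoidAlgebra.of k G g * w) := rfl

theorem quotRep_pow_mk (g : G) (i : ℕ) (w : MonoidAlgebra k G) :
    quotRep (g ^ i) (Submodule.Quotient.mk w : FpfQuot k G) =
      Submodule.Quotient.mk (MonoidAlgebra.of k G (g ^ i) * w) := rfl

/-- **P7b.** If `orderOf g` is invertible in `k` for every `g`, the quotient action is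
fixed-point-free. -/
theorem quotRep_fpf (hunit : ∀ g : G, IsUnit ((orderOf g : ℕ) : k)) :
    ∀ g : G, g ≠ 1 → ∀ m : FpfQuot k G, quotRep g m = m → m = 0 := by
  intro g hg m hm
  obtain ⟨w, rfl⟩ := Submodule.Quotient.mk_surjective _ m
  -- all powers of `g` fix `mk w`
  have hpow : ∀ i : ℕ, quotRep (g ^ i) (Submodule.Quotient.mk w : FpfQuot k G) =
      Submodule.Quotient.mk w := by
    intro i
    induction i with
    | zero => simp
    | succ i ih =>
      rw [pow_succ, map_mul, Module.End.mul_apply, hm, ih]
  -- so `mk (N_g * w) = o(g) • mk w`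
  have hN : (Submodule.Quotient.mk (normEl k g * w) : FpfQuot k G) =
      ((orderOf g : ℕ) : k) • (Submodule.Quotient.mk w : FpfQuot k G) := by
    unfold normEl
    rw [Finset.sum_mul]
    have : (Submodule.Quotient.mk (∑ i ∈ Finset.range (orderOf g),
        MonoidAlgebra.of k G (g ^ i) * w) : FpfQuot k G) =
        ∑ i ∈ Finset.range (orderOf g),
          (Submodule.Quotient.mk (MonoidAlgebra.of k G (g ^ i) * w) : FpfQuot k G) := by
      rw [← Submodule.mkQ_apply, map_sum]
      rfl
    rw [this]
    have h2 : ∀ i ∈ Finset.range (orderOf g),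
        (Submodule.Quotient.mk (MonoidAlgebra.of k G (g ^ i) * w) : FpfQuot k G) =
          Submodule.Quotient.mk w := by
      intro i _
      rw [← quotRep_pow_mk, hpow]
    rw [Finset.sum_congr rfl h2, Finset.sum_const, Finset.card_range, Nat.cast_smul_eq_nsmul]
  have h0 : (Submodule.Quotient.mk (normEl k g * w) : FpfQuot k G) = 0 := by
    rw [Submodule.Quotient.mk_eq_zero]
    exact normEl_mul_mem_fpfIdeal hg w
  rw [h0] at hN
  obtain ⟨u, hu⟩ := hunit g
  have : (u⁻¹ : kˣ) • ((orderOf g : ℕ) : k) • (Submodule.Quotient.mk w : FpfQuot k G) = 0 := by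
    rw [← hN, smul_zero]
  rw [← hu, Units.smul_def, smul_smul, Units.inv_mul, one_smul] at this
  exact this

/-- The quotient is non-zero when `1 ∉ fpfIdeal`. -/
theorem nontrivial_fpfQuot (h1 : (1 : MonoidAlgebra k G) ∉ fpfIdeal k G) :
    Nontrivial (FpfQuot k G) := by
  refine ⟨⟨Submodule.Quotient.mk 1, 0, ?_⟩⟩
  intro h
  rw [Submodule.Quotient.mk_eq_zero] at h
  exact h1 h

/-- In `ZMod r` with `r ∤ |G|` the orders of elements are units. -/
theorem isUnit_orderOf_zmod [Finite G] (r : ℕ) [Fact r.Prime] (hr : ¬ r ∣ Nat.card G) (g : G) :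
    IsUnit ((orderOf g : ℕ) : ZMod r) := by
  have hrp : r.Prime := Fact.out
  rw [isUnit_iff_ne_zero]
  intro h
  rw [ZMod.natCast_eq_zero_iff] at h
  exact hr (h.trans (orderOf_dvd_natCard g))

end Cfsg.Agent.Lib.Helper1.Fpf
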