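import Mathlib

/-!
# S4292 package P7 (third part): from a fixed-point-free module to a fixed-point-free matrix group

A finite-dimensional non-zero module over a field with a fixed-point-free action of `G` gives an
injective fixed-point-free `ρ : G →* GL (Fin n) k` with `0 < n`.
Conversely a fixed-point-free matrix representation gives a fixed-point-free module.
-/

set_option autoImplicit false

namespace Cfsg.Agent.Lib.Helper1.Fpf

open Matrix

variable {k : Type*} [Field k] {G : Type*} [Group G]

/-- a monoid hom from a group into the endomorphisms, in matrix form w.r.t. a basis -/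
noncomputable def matRep {M : Type*} [AddCommGroup M] [Module k M] {n : Type*} [Fintype n]
    [DecidableEq n] (b : Module.Basis n k M) (ρ : G →* (M →ₗ[k] M)) : G →* GL n k :=
  MonoidHom.toHomUnits
    (((LinearMap.toMatrixAlgEquiv b : (M →ₗ[k] M) ≃ₐ[k] Matrix n n k) : (M →ₗ[k] M) →* Matrix n n k).comp ρ)

theorem matRep_val {M : Type*} [AddCommGroup M] [Module k M] {n : Type*} [Fintype n]
    [DecidableEq n] (b : Module.Basis n k M) (ρ : G →* (M →ₗ[k] M)) (g : G) :
    ((matRep b ρ g : GL n k) : Matrix n n k) = LinearMap.toMatrix b b (ρ g) := rfl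

theorem matRep_fpf {M : Type*} [AddCommGroup M] [Module k M] {n : Type*} [Fintype n]
    [DecidableEq n] (b : Module.Basis n k M) (ρ : G →* (M →ₗ[k] M))
    (hfpf : ∀ g : G, g ≠ 1 → ∀ m : M, ρ g m = m → m = 0) :
    ∀ g : G, g ≠ 1 → ∀ v : n → k, ((matRep b ρ g : GL n k) : Matrix n n k).mulVec v = v → v = 0 := by
  intro g hg v hv
  rw [matRep_val] at hv
  -- `v = b.repr x` for `x = ∑ v i • b i`
  set x : M := b.equivFun.symm v with hx
  have hrepr : (b.repr x : n → k) = v := by
    have := b.equivFun.apply_symm_apply v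
    rw [← hx] at this
    exact this
  have h1 := LinearMap.toMatrix_mulVec_repr b b (ρ g) x
  rw [hrepr, hv] at h1
  have h2 : b.repr (ρ g x) = b.repr x := by
    apply Finsupp.ext
    intro i
    have := congrFun h1 i
    rw [← hrepr] at this
    exact this.symm
  have h3 : ρ g x = x := b.repr.injective h2
  have h4 := hfpf g hg x h3
  rw [← hrepr, h4]
  simp

/-- a fixed-point-free matrix representation on a nonempty index type is injective -/
theorem injective_of_fpf {n : Type*} [Fintype n] [DecidableEq n] [Nonempty n]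
    (ρ : G →* GL n k)
    (hfpf : ∀ g : G, g ≠ 1 → ∀ v : n → k, ((ρ g : GL n k) : Matrix n n k).mulVec v = v → v = 0) :
    Function.Injective ρ := by
  rw [injective_iff_map_eq_one]
  intro g hg
  by_contra hne
  have h := hfpf g hne (fun _ => 1) (by rw [hg]; simp)
  obtain ⟨i⟩ := ‹Nonempty n›
  have := congrFun h i
  simp at this

/-- **P7c.** A non-zero finite-dimensional fixed-point-free module gives an injective
fixed-point-free matrix representation. -/
theorem exists_matRep_of_fpf {M : Type*} [AddCommGroup M] [Module k M] [Module.Finite k M]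
    [Nontrivial M] (ρ : G →* (M →ₗ[k] M))
    (hfpf : ∀ g : G, g ≠ 1 → ∀ m : M, ρ g m = m → m = 0) :
    ∃ (n : ℕ) (ρ' : G →* GL (Fin n) k), 0 < n ∧ Function.Injective ρ' ∧
      ∀ g : G, g ≠ 1 → ∀ v : Fin n → k,
        ((ρ' g : GL (Fin n) k) : Matrix (Fin n) (Fin n) k).mulVec v = v → v = 0 := by
  set b := Module.finBasis k M with hb
  have hn : 0 < Module.finrank k M := Module.finrank_pos
  haveI : Nonempty (Fin (Module.finrank k M)) := ⟨⟨0, hn⟩⟩
  refine ⟨Module.finrank k M, matRep b ρ, hn, ?_, matRep_fpf b ρ hfpf⟩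
  exact injective_of_fpf _ (matRep_fpf b ρ hfpf)

/-- Conversely: the module `n → k` with the action of a matrix representation. -/
noncomputable def linRep {n : Type*} [Fintype n] [DecidableEq n] (ρ : G →* GL n k) :
    G →* ((n → k) →ₗ[k] (n → k)) :=
  ((Matrix.toLinAlgEquiv' : Matrix n n k ≃ₐ[k] ((n → k) →ₗ[k] (n → k))) :
      Matrix n n k →* ((n → k) →ₗ[k] (n → k))).comp ((Units.coeHom (Matrix n n k)).comp ρ)

theorem linRep_apply {n : Type*} [Fintype n] [DecidableEq n] (ρ : G →* GL n k) (g : G)
    (v : n → k) : linRep ρ g v = ((ρ g : GL n k) : Matrix n n k).mulVec v := rfl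

end Cfsg.Agent.Lib.Helper1.Fpf
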