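import Mathlib
import Cfsg.Agent.Lib.Helper8.FpfLift1
import Cfsg.Agent.Lib.Helper8.FpfLift2
import Cfsg.Agent.Lib.Helper8.FpfLift6
import Cfsg.Agent.Lib.Helper1.FpfP6
import Cfsg.Agent.Lib.Helper1.FpfP7
import Cfsg.Agent.Lib.Helper1.FpfP7b
import Cfsg.Agent.Lib.Helper1.FpfP7c

/-!
# S4292 packages P6 and P7 in the exact shapes asked for by the board (helper8, msg 4263)
-/

set_option autoImplicit false

namespace Cfsg.Agent.Lib.Helper1.Fpf

open Cfsg.Agent.Lib.Helper8.FpfLift MonoidAlgebra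

/-- **P6.** -/
theorem one_notMem_fpfIdeal_prod {A B : Type*} [Group A] [Finite A] [Group B] [Finite B]
    (hcop : (Nat.card A).Coprime (Nat.card B))
    (hA : (1 : MonoidAlgebra ℚ A) ∉ fpfIdeal ℚ A) (hB : (1 : MonoidAlgebra ℚ B) ∉ fpfIdeal ℚ B) :
    (1 : MonoidAlgebra ℚ (A × B)) ∉ fpfIdeal ℚ (A × B) := by
  obtain ⟨n, ρA, hn, _, _, hfA⟩ := exists_matrix_rep (F := ℚ) hA
  obtain ⟨m, ρB, hm, _, _, hfB⟩ := exists_matrix_rep (F := ℚ) hB
  have hf := kronRep_fpf hcop ρA ρB hfA hfB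
  haveI : Nonempty (Fin n × Fin m) := ⟨(⟨0, hn⟩, ⟨0, hm⟩)⟩
  haveI : Nontrivial (Fin n × Fin m → ℚ) := inferInstance
  refine one_notMem_fpfIdeal_of_fpf (k := ℚ) (M := Fin n × Fin m → ℚ)
    (linRep (kronRep ρA ρB)) ?_
  intro g hg v hv
  rw [linRep_apply] at hv
  exact hf g hg v hv

/-- no non-zero integer lies in `fpfIdeal ℤ G` when `1 ∉ fpfIdeal ℚ G` -/
theorem int_eq_zero_of_one_notMem_rat {G : Type*} [Group G]
    (h : (1 : MonoidAlgebra ℚ G) ∉ fpfIdeal ℚ G) (m : ℤ)
    (hm : (m : MonoidAlgebra ℤ G) ∈ fpfIdeal ℤ G) : m = 0 := by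
  by_contra hm0
  apply h
  have h1 := map_mem_fpfIdeal (Int.castRingHom ℚ) hm
  rw [map_intCast] at h1
  have h2 : (1 : MonoidAlgebra ℚ G) = ((m : ℚ)⁻¹ : ℚ) • ((m : ℤ) : MonoidAlgebra ℚ G) := by
    have hq : (m : ℚ) ≠ 0 := by exact_mod_cast hm0
    have e : ((m : ℤ) : MonoidAlgebra ℚ G) = (m : ℚ) • (1 : MonoidAlgebra ℚ G) := by
      rw [Algebra.smul_def, mul_one]
      simp
    rw [e, smul_smul, inv_mul_cancel₀ hq, one_smul]
  rw [h2]
  exact Submodule.smul_of_tower_mem _ _ h1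

/-- **P7 (a).** -/
theorem one_notMem_fpfIdeal_zmod' {G : Type*} [Group G] [Finite G] (r : ℕ) [Fact r.Prime]
    (h : (1 : MonoidAlgebra ℚ G) ∉ fpfIdeal ℚ G) :
    (1 : MonoidAlgebra (ZMod r) G) ∉ fpfIdeal (ZMod r) G :=
  one_notMem_fpfIdeal_zmod r (int_eq_zero_of_one_notMem_rat h)

universe u

/-- **P7 (b).** -/
theorem exists_fpf_group_of_notMem {G : Type u} [Group G] [Finite G] (r : ℕ) [Fact r.Prime]
    (hr : ¬ r ∣ Nat.card G) (h : (1 : MonoidAlgebra (ZMod r) G) ∉ fpfIdeal (ZMod r) G) :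
    ∃ (K : Type u) (_ : CommGroup K) (_ : Finite K) (_ : Nontrivial K) (φ : G →* MulAut K),
      ∀ g : G, g ≠ 1 → ∀ v : K, φ g v = v → v = 1 := by
  classical
  let Q := FpfQuot (ZMod r) G
  haveI : Nontrivial Q := nontrivial_fpfQuot h
  haveI : Finite Q := by
    haveI : Fintype G := Fintype.ofFinite G
    haveI : Module.Finite (ZMod r) (MonoidAlgebra (ZMod r) G) := inferInstance
    haveI : Finite (MonoidAlgebra (ZMod r) G) := Module.finite_of_finite (ZMod r)
    exact Quotient.finite _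
  have hfpf := quotRep_fpf (k := ZMod r) (G := G) (isUnit_orderOf_zmod r hr)
  let ρ : G →* (Q →ₗ[ZMod r] Q) := quotRep
  have hinv : ∀ g : G, ∀ x : Q, ρ g⁻¹ (ρ g x) = x := by
    intro g x
    rw [← Module.End.mul_apply, ← map_mul, inv_mul_cancel, map_one, Module.End.one_apply]
  have hinv' : ∀ g : G, ∀ x : Q, ρ g (ρ g⁻¹ x) = x := by
    intro g x
    rw [← Module.End.mul_apply, ← map_mul, mul_inv_cancel, map_one, Module.End.one_apply]
  let φ : G →* MulAut (Multiplicative Q) :=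
    { toFun := fun g =>
        { toFun := fun x => Multiplicative.ofAdd (ρ g (Multiplicative.toAdd x))
          invFun := fun x => Multiplicative.ofAdd (ρ g⁻¹ (Multiplicative.toAdd x))
          left_inv := fun x => by simp [hinv]
          right_inv := fun x => by simp [hinv']
          map_mul' := fun x y => by
            simp only [toAdd_mul, map_add, ofAdd_add] }
      map_one' := by
        ext x
        simp
      map_mul' := fun g h => by
        ext x
        simp [map_mul] }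
  refine ⟨Multiplicative Q, inferInstance, inferInstance, inferInstance, φ, ?_⟩
  intro g hg v hv
  have h1 : ρ g (Multiplicative.toAdd v) = Multiplicative.toAdd v := by
    have := congrArg Multiplicative.toAdd hv
    exact this
  have h2 := hfpf g hg _ h1
  exact Multiplicative.toAdd.injective h2

end Cfsg.Agent.Lib.Helper1.Fpf
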