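import Mathlib
import Cfsg.Prelude.Def_ChevG2
import Cfsg.Agent.Lib.Helper1.MatCode5
import Cfsg.Agent.Lib.Helper1.G23D1

set_option autoImplicit false
set_option maxRecDepth 100000

/-! The Chevalley group of type `G₂` over the field with 3 elements: the matrices of the root
elements as coded matrices. -/

namespace Cfsg.Agent.Lib.Helper1.G23

open Cfsg Cfsg.Lie Cfsg.Agent.Lib.Helper1.MatCode

/-- the matrices -/
abbrev Mat : Type := Matrix (Fin 14) (Fin 14) (ZMod 3)

/-- the matrix coded by a number -/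
def D (c : ℕ) : Mat := dec 14 3 c

/-- the product of codes -/
def mu (a b : ℕ) : ℕ := mulN 14 3 a b

/-- canonical codes -/
def Cn (c : ℕ) : Prop := Canon 14 3 c

theorem mu_spec (a b : ℕ) (hb : Cn b) : D (mu a b) = D a * D b :=
  dec_mulN 14 3 (by norm_num) (by decide) (by decide) a b hb

theorem canon_mu (a b : ℕ) : Cn (mu a b) := canon_mulN 14 3 (by norm_num) (by decide) a b

/-- the numbering of the basis -/
def e14 : chevG2.Idx ≃ Fin 14 := (finSumFinEquiv : Fin 2 ⊕ Fin 12 ≃ Fin 14)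

/-- the renumbering of the matrices -/
def ρ : Matrix chevG2.Idx chevG2.Idx (ZMod 3) ≃ₐ[ZMod 3] Mat :=
  Matrix.reindexAlgEquiv (ZMod 3) (ZMod 3) e14

theorem ρ_apply (M : Matrix chevG2.Idx chevG2.Idx (ZMod 3)) (i j : Fin 14) :
    ρ M i j = M (e14.symm i) (e14.symm j) := rfl

/-- the group -/
abbrev Gm : Type := ↥(chevG2.group (ZMod 3))

theorem x_dec : ∀ (r : Fin chevG2.nroots) (t : ZMod 3) (i j : Fin 14),
    chevG2.xMat (ZMod 3) r t (e14.symm i) (e14.symm j) = D (cX r.val t.val) i j := by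
  unfold D dec
  decide +kernel

theorem ρ_xMat (r : Fin chevG2.nroots) (t : ZMod 3) : ρ (chevG2.xMat (ZMod 3) r t) = D (cX r.val t.val) := by
  ext i j
  rw [ρ_apply]
  exact x_dec r t i j

/-- the code of the identity -/
def c1 : ℕ := cX 0 0

theorem D_c1 : D c1 = 1 := by
  have : ∀ i j : Fin 14, D c1 i j = if i = j then 1 else 0 := by
    unfold D dec
    decide +kernel
  ext i j
  rw [Matrix.one_apply]
  exact this i j

theorem canon_cX : ∀ r < 12, ∀ t < 3, canonB 14 3 (cX r t) = true := by decide +kernel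

theorem cn_cX (r t : ℕ) (hr : r < 12) (ht : t < 3) : Cn (cX r t) :=
  canon_of_canonB 14 3 (canon_cX r hr t ht)

theorem cn_c1 : Cn c1 := cn_cX 0 0 (by norm_num) (by norm_num)

theorem cX_inv : ∀ r < 12, ∀ t < 3, mu (cX r t) (cX r ((3 - t) % 3)) = c1 := by decide +kernel

theorem xMat_mul_neg (r : Fin chevG2.nroots) (t : ZMod 3) :
    chevG2.xMat (ZMod 3) r t * chevG2.xMat (ZMod 3) r (-t) = 1 := by
  apply ρ.injective
  rw [map_mul, map_one, ρ_xMat, ρ_xMat]
  have hneg : (-t).val = (3 - t.val) % 3 := by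
    revert t; decide
  rw [hneg, ← mu_spec _ _ (cn_cX _ _ r.2 (Nat.mod_lt _ (by norm_num))),
    cX_inv r.val r.2 t.val (ZMod.val_lt t), D_c1]

/-- the root elements as invertible matrices -/
def xU (r : Fin chevG2.nroots) (t : ZMod 3) : GL chevG2.Idx (ZMod 3) :=
  ⟨chevG2.xMat (ZMod 3) r t, chevG2.xMat (ZMod 3) r (-t), xMat_mul_neg r t, by
    have := xMat_mul_neg r (-t)
    rwa [neg_neg] at this⟩

/-- the root elements -/
def xg (r : Fin chevG2.nroots) (t : ZMod 3) : Gm :=
  ⟨xU r t, Subgroup.subset_closure ⟨r, t, rfl⟩⟩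

/-- the matrix of an element -/
def φ : Gm →* Mat :=
  (ρ : _ →* Mat).comp ((Units.coeHom _).comp (Subgroup.subtype _))

theorem φ_apply (g : Gm) : φ g = ρ ((g.1 : GL chevG2.Idx (ZMod 3)) : Matrix _ _ _) := rfl

theorem φ_injective : Function.Injective φ := by
  intro a b h
  apply Subtype.ext
  apply Units.ext
  exact ρ.injective h

theorem φ_xg (r : Fin chevG2.nroots) (t : ZMod 3) : φ (xg r t) = D (cX r.val t.val) := ρ_xMat r t

/-- the root elements generate -/
theorem closure_xg : Subgroup.closure {g : Gm | ∃ r t, g = xg r t} = ⊤ := by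
  have h := Subgroup.closure_closure_coe_preimage
    (k := {g : GL chevG2.Idx (ZMod 3) | ∃ (r : Fin chevG2.nroots) (t : ZMod 3),
      (g : Matrix _ _ (ZMod 3)) = chevG2.xMat (ZMod 3) r t})
  have e : ((↑) ⁻¹' {g : GL chevG2.Idx (ZMod 3) | ∃ (r : Fin chevG2.nroots) (t : ZMod 3),
      (g : Matrix _ _ (ZMod 3)) = chevG2.xMat (ZMod 3) r t} : Set Gm) =
      {g : Gm | ∃ r t, g = xg r t} := by
    ext g
    simp only [Set.mem_preimage, Set.mem_setOf_eq]
    constructor
    · rintro ⟨r, t, h⟩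
      exact ⟨r, t, Subtype.ext (Units.ext h)⟩
    · rintro ⟨r, t, rfl⟩
      exact ⟨r, t, rfl⟩
  rw [← e]
  exact h

end Cfsg.Agent.Lib.Helper1.G23
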