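import Mathlib
import Cfsg.Agent.Lib.Helper1.G23A
import Cfsg.Agent.Lib.Helper1.G23D2
import Cfsg.Agent.Lib.Helper1.MatCode5

set_option autoImplicit false
set_option maxRecDepth 100000

/-! The Chevalley group of type `G₂` over the field with 3 elements: two generators, as words in the
root elements, with their coded matrices; the action on the matrices by left multiplication. -/

namespace Cfsg.Agent.Lib.Helper1.G23

open Cfsg Cfsg.Lie Cfsg.Agent.Lib.Helper1.MatCode

/-- the code of a word in coded generators -/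
def ev (gens : List ℕ) (w : List ℕ) : ℕ := evalW mu gens c1 w

theorem cn_ev (gens : List ℕ) (w : List ℕ) : Cn (ev gens w) :=
  canon_evalW mu Cn canon_mu cn_c1 gens w

section abstract

variable (G : List Gm) (gens : List ℕ) (hlen : G.length = gens.length)
  (hG : ∀ i, ∀ (h : i < G.length) (h' : i < gens.length), φ G[i] = D gens[i])
  (hcan : ∀ c ∈ gens, Cn c)
include hlen hG hcan

theorem phi_wordProd (w : List ℕ) : φ (wordProd G w) = D (ev gens w) :=
  dec_evalW D mu Cn mu_spec φ D_c1 cn_c1 G gens hlen hG hcan w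

theorem eq_of_ev (w w' : List ℕ) (h : ev gens w = ev gens w') : wordProd G w = wordProd G w' := by
  apply φ_injective
  rw [phi_wordProd G gens hlen hG hcan, phi_wordProd G gens hlen hG hcan, h]

end abstract

/-- the root elements with natural numbers as arguments -/
noncomputable def xgN (r t : ℕ) : Gm :=
  if h : r < chevG2.nroots then xg ⟨r, h⟩ ((t : ℕ) : ZMod 3) else 1

/-- the letters: the root elements with the arguments 1 and 2 -/
noncomputable def XL : List Gm := (List.range 24).map fun l => xgN (l % 12) (l / 12 + 1)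

/-- the codes of the letters -/
def cLet : List ℕ := (List.range 24).map fun l => cX (l % 12) (l / 12 + 1)

theorem φ_xgN (r t : ℕ) (hr : r < 12) (ht : t < 3) : φ (xgN r t) = D (cX r t) := by
  unfold xgN
  have hr' : r < chevG2.nroots := hr
  rw [dif_pos hr', φ_xg]
  have e : ((t : ℕ) : ZMod 3).val = t := by
    rw [ZMod.val_natCast, Nat.mod_eq_of_lt ht]
  rw [e]

theorem XL_len : XL.length = cLet.length := by
  unfold XL cLet
  rw [List.length_map, List.length_map]

theorem XL_hG : ∀ i, ∀ (h : i < XL.length) (h' : i < cLet.length),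
    φ (XL[i]'h) = D (cLet[i]'h') := by
  intro i h h'
  have hi : i < 24 := by
    unfold cLet at h'
    rwa [List.length_map, List.length_range] at h'
  have e1 : XL[i]'h = xgN (i % 12) (i / 12 + 1) := by
    simp only [XL, List.getElem_map, List.getElem_range]
  have e2 : cLet[i]'h' = cX (i % 12) (i / 12 + 1) := by
    simp only [cLet, List.getElem_map, List.getElem_range]
  rw [e1, e2]
  exact φ_xgN _ _ (Nat.mod_lt _ (by norm_num)) (by omega)

theorem cLet_can : ∀ c ∈ cLet, Cn c := by
  intro c hc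
  unfold cLet at hc
  rw [List.mem_map] at hc
  obtain ⟨l, hl, rfl⟩ := hc
  rw [List.mem_range] at hl
  exact cn_cX _ _ (Nat.mod_lt _ (by norm_num)) (by omega)

theorem φ_XL (w : List ℕ) : φ (wordProd XL w) = D (ev cLet w) :=
  phi_wordProd XL cLet XL_len XL_hG cLet_can w

/-- the two generators -/
noncomputable def gA : Gm := wordProd XL wA

noncomputable def gB : Gm := wordProd XL wB

theorem ev_wA : ev cLet wA = cA := by decide +kernel

theorem ev_wB : ev cLet wB = cB := by decide +kernel

theorem φ_gA : φ gA = D cA := by rw [← ev_wA]; exact φ_XL wA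

theorem φ_gB : φ gB = D cB := by rw [← ev_wB]; exact φ_XL wB

theorem cn_cA : Cn cA := by rw [← ev_wA]; exact cn_ev _ _

theorem cn_cB : Cn cB := by rw [← ev_wB]; exact cn_ev _ _

theorem inv_chk : mu cA cAi = c1 ∧ mu cB cBi = c1 ∧ canonB 14 3 cAi = true ∧
    canonB 14 3 cBi = true := by decide +kernel

theorem cn_cAi : Cn cAi := canon_of_canonB 14 3 inv_chk.2.2.1

theorem cn_cBi : Cn cBi := canon_of_canonB 14 3 inv_chk.2.2.2

theorem φ_inv_of (g : Gm) (c ci : ℕ) (hg : φ g = D c) (hci : Cn ci) (h : mu c ci = c1) :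
    φ g⁻¹ = D ci := by
  have h1 : φ g * D ci = 1 := by rw [hg, ← mu_spec _ _ hci, h, D_c1]
  have h2 : φ g⁻¹ * φ g = 1 := by rw [← map_mul, inv_mul_cancel, map_one]
  calc φ g⁻¹ = φ g⁻¹ * (φ g * D ci) := by rw [h1, mul_one]
    _ = D ci := by rw [← mul_assoc, h2, one_mul]

theorem φ_gAi : φ gA⁻¹ = D cAi := φ_inv_of gA cA cAi φ_gA cn_cAi inv_chk.1

theorem φ_gBi : φ gB⁻¹ = D cBi := φ_inv_of gB cB cBi φ_gB cn_cBi inv_chk.2.1

/-- the generators -/
noncomputable def GG : List Gm := [gA, gB]

/-- the generators and their inverses -/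
noncomputable def GG4 : List Gm := [gA, gB, gA⁻¹, gB⁻¹]

/-- the codes of the generators -/
def cGG : List ℕ := [cA, cB]

def cGG4 : List ℕ := [cA, cB, cAi, cBi]

theorem GG_hG : ∀ i, ∀ (h : i < GG.length) (h' : i < cGG.length),
    φ (GG[i]'h) = D (cGG[i]'h') := by
  intro i h h'
  have hi : i < 2 := h'
  interval_cases i
  · exact φ_gA
  · exact φ_gB

theorem GG4_hG : ∀ i, ∀ (h : i < GG4.length) (h' : i < cGG4.length),
    φ (GG4[i]'h) = D (cGG4[i]'h') := by
  intro i h h'
  have hi : i < 4 := h'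
  interval_cases i
  · exact φ_gA
  · exact φ_gB
  · exact φ_gAi
  · exact φ_gBi

theorem cGG_can : ∀ c ∈ cGG, Cn c := by
  intro c hc
  simp only [cGG, List.mem_cons, List.not_mem_nil, or_false] at hc
  rcases hc with rfl | rfl
  · exact cn_cA
  · exact cn_cB

theorem cGG4_can : ∀ c ∈ cGG4, Cn c := by
  intro c hc
  simp only [cGG4, List.mem_cons, List.not_mem_nil, or_false] at hc
  rcases hc with rfl | rfl | rfl | rfl
  · exact cn_cA
  · exact cn_cB
  · exact cn_cAi
  · exact cn_cBi

theorem φ_GG (w : List ℕ) : φ (wordProd GG w) = D (ev cGG w) :=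
  phi_wordProd GG cGG rfl GG_hG cGG_can w

theorem φ_GG4 (w : List ℕ) : φ (wordProd GG4 w) = D (ev cGG4 w) :=
  phi_wordProd GG4 cGG4 rfl GG4_hG cGG4_can w

theorem eq_of_evGG (w w' : List ℕ) (h : ev cGG w = ev cGG w') : wordProd GG w = wordProd GG w' :=
  eq_of_ev GG cGG rfl GG_hG cGG_can w w' h

theorem eq_of_evGG4 (w w' : List ℕ) (h : ev cGG4 w = ev cGG4 w') :
    wordProd GG4 w = wordProd GG4 w' :=
  eq_of_ev GG4 cGG4 rfl GG4_hG cGG4_can w w' h

theorem φ_GG_get (i : ℕ) (hi : i < 2) : φ (GG.getD i 1) = D (cGG.getD i c1) := by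
  interval_cases i
  · exact φ_gA
  · exact φ_gB

/-- the subgroup generated by the two generators -/
noncomputable def G1 : Subgroup Gm := Subgroup.closure {g | ∃ i < 2, g = GG.getD i 1}

theorem gA_mem : gA ∈ G1 := Subgroup.subset_closure ⟨0, by norm_num, rfl⟩

theorem gB_mem : gB ∈ G1 := Subgroup.subset_closure ⟨1, by norm_num, rfl⟩

theorem GG4_mem : ∀ g ∈ GG4, g ∈ G1 := by
  intro g hg
  simp only [GG4, List.mem_cons, List.not_mem_nil, or_false] at hg
  rcases hg with rfl | rfl | rfl | rfl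
  · exact gA_mem
  · exact gB_mem
  · exact G1.inv_mem gA_mem
  · exact G1.inv_mem gB_mem

theorem xW_chk : (List.range 12).all (fun r => ev cGG4 (xW.getD r []) == cX r 1) = true := by
  decide +kernel

theorem cX_chk : (List.range 12).all (fun r => (cX r 0 == c1) && (mu (cX r 1) (cX r 1) == cX r 2))
    = true := by
  decide +kernel

theorem xg_one_mem (r : Fin chevG2.nroots) : xg r 1 ∈ G1 := by
  have h := xW_chk
  rw [List.all_eq_true] at h
  have h1 := h r.val (List.mem_range.mpr r.2)
  rw [beq_iff_eq] at h1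
  have e : xg r 1 = wordProd GG4 (xW.getD r.val []) := by
    apply φ_injective
    rw [φ_GG4, h1, φ_xg]
    rfl
  rw [e]
  exact wordProd_mem GG4 G1 GG4_mem _

theorem xg_mem (r : Fin chevG2.nroots) (t : ZMod 3) : xg r t ∈ G1 := by
  have h := cX_chk
  rw [List.all_eq_true] at h
  have h1 := h r.val (List.mem_range.mpr r.2)
  rw [Bool.and_eq_true, beq_iff_eq, beq_iff_eq] at h1
  have h0 : xg r 0 = 1 := by
    apply φ_injective
    rw [φ_xg, map_one, ← D_c1, ← h1.1]
    rfl
  have h2 : xg r 2 = xg r 1 * xg r 1 := by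
    apply φ_injective
    rw [map_mul, φ_xg, φ_xg]
    have e1 : (1 : ZMod 3).val = 1 := rfl
    have e2 : (2 : ZMod 3).val = 2 := rfl
    rw [e1, e2, ← mu_spec _ _ (cn_cX _ _ r.2 (by norm_num)), h1.2]
  have ht : t = 0 ∨ t = 1 ∨ t = 2 := by
    revert t; decide
  rcases ht with rfl | rfl | rfl
  · rw [h0]; exact G1.one_mem
  · exact xg_one_mem r
  · rw [h2]; exact G1.mul_mem (xg_one_mem r) (xg_one_mem r)

/-- the two generators generate the group -/
theorem hgen : Subgroup.closure {g : Gm | ∃ i < 2, g = GG.getD i 1} = ⊤ := by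
  rw [eq_top_iff, ← closure_xg, Subgroup.closure_le]
  rintro g ⟨r, t, rfl⟩
  exact xg_mem r t

theorem pow_chk : ev cGG [0, 0, 0, 0, 0, 0, 0] = c1 ∧
    ev cGG [1, 1, 1, 1, 1, 1, 1, 1, 1, 1, 1, 1, 1] = c1 := by decide +kernel

theorem gA_pow : gA ^ 7 = 1 := by
  have h := eq_of_evGG [0, 0, 0, 0, 0, 0, 0] [] pow_chk.1
  rw [wordProd_nil] at h
  rw [← h]
  simp only [wordProd_cons, wordProd_nil, mul_one, pow_succ, pow_zero, one_mul, mul_assoc]
  rfl

theorem gB_pow : gB ^ 13 = 1 := by
  have h := eq_of_evGG [1, 1, 1, 1, 1, 1, 1, 1, 1, 1, 1, 1, 1] [] pow_chk.2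
  rw [wordProd_nil] at h
  rw [← h]
  simp only [wordProd_cons, wordProd_nil, mul_one, pow_succ, pow_zero, one_mul, mul_assoc]
  rfl

theorem rels_chk : relsL.all (fun w => ev cGG w.1 == ev cGG w.2) = true := by decide +kernel

theorem hrel : ∀ w ∈ relsL, wordProd GG w.1 = wordProd GG w.2 := by
  intro w hw
  have h := rels_chk
  rw [List.all_eq_true] at h
  have h1 := h w hw
  rw [beq_iff_eq] at h1
  exact eq_of_evGG w.1 w.2 h1

/-- the action on the matrices by left multiplication -/
noncomputable instance actMat : MulAction Gm Mat := MulAction.compHom Mat φ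

theorem smul_mat_eq (g : Gm) (M : Mat) : g • M = φ g * M := rfl

/-- the matrix with a given first column, the other columns being zero -/
def expand (x : ℕ) : ℕ := sumTo 14 (fun i => (x / 4 ^ i % 4) * W ^ (14 * i))

/-- the first column of a matrix -/
def contract (c : ℕ) : ℕ := sumTo 14 (fun i => (c / W ^ (14 * i) % 4) * 4 ^ i)

/-- the point with a given packed vector -/
def vpt (x : ℕ) : Mat := D (expand x)

theorem smul_vpt (g : Gm) (c : ℕ) (hg : φ g = D c) (x y : ℕ)
    (hx : canonB 14 3 (expand x) = true) (h : mu c (expand x) = expand y) :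
    g • vpt x = vpt y := by
  unfold vpt
  rw [smul_mat_eq, hg, ← mu_spec _ _ (canon_of_canonB 14 3 hx), h]

theorem vpt_inj (x y : ℕ) (hx : sCanonB 14 3 (expand x) = true) (hy : sCanonB 14 3 (expand y) = true)
    (hcx : contract (expand x) = x) (hcy : contract (expand y) = y) (h : vpt x = vpt y) : x = y := by
  unfold sCanonB at hx hy
  rw [Bool.and_eq_true, decide_eq_true_eq] at hx hy
  have := eq_of_dec_eq 14 3 (canon_of_canonB 14 3 hx.1) (canon_of_canonB 14 3 hy.1) hx.2 hy.2 h
  rw [← hcx, ← hcy, this]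

end Cfsg.Agent.Lib.Helper1.G23
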