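import Mathlib
import Cfsg.Agent.Lib.Helper1.G23B
import Cfsg.Agent.Lib.Helper1.G23D3
import Cfsg.Agent.Lib.Helper1.StemZB4
import Cfsg.Agent.Lib.Helper1.StemOrb

set_option autoImplicit false
set_option maxRecDepth 100000

/-! The Chevalley group of type `G₂` over the field with 3 elements: the action on 702 vectors. -/

namespace Cfsg.Agent.Lib.Helper1.G23

open Cfsg Cfsg.Lie Cfsg.Agent.Lib.Helper1.MatCode Cfsg.Agent.Lib.Helper1.StemSA

/-- a list of packed vectors: they are canonical, and distinct -/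
def chkVecs (PV : ℕ → ℕ) (m : ℕ) : Bool :=
  (List.range m).all fun j => sCanonB 14 3 (expand (PV j)) && (contract (expand (PV j)) == PV j)

/-- the generators act on a list of packed vectors as given by a table -/
def chkAct (gens : List ℕ) (PV : ℕ → ℕ) (m : ℕ) (pi : ℕ → ℕ → ℕ) : Bool :=
  (List.range gens.length).all fun i => (List.range m).all fun j =>
    mu (gens.getD i c1) (expand (PV j)) == expand (PV (pi i j))

/-- the packed vectors are distinct -/
def chkDistinct (PV : ℕ → ℕ) (m : ℕ) : Bool :=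
  (List.range m).all fun j => (List.range j).all fun j' => PV j' != PV j

theorem inj_of_distinct (PL : ℕ → ℕ) (m : ℕ) (hd : chkDistinct PL m = true)
    (j : ℕ) (hj : j < m) (j' : ℕ) (hj' : j' < m) (h0 : PL j = PL j') : j = j' := by
  unfold chkDistinct at hd
  rw [List.all_eq_true] at hd
  by_contra hne
  rcases Nat.lt_or_gt_of_ne hne with hlt | hlt
  · have h1 := hd j' (List.mem_range.mpr hj')
    rw [List.all_eq_true] at h1
    have h2 := h1 j (List.mem_range.mpr hlt)
    rw [bne_iff_ne] at h2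
    exact h2 h0
  · have h1 := hd j (List.mem_range.mpr hj)
    rw [List.all_eq_true] at h1
    have h2 := h1 j' (List.mem_range.mpr hlt)
    rw [bne_iff_ne] at h2
    exact h2 h0.symm

theorem vpt_inj_of (PV : ℕ → ℕ) (m : ℕ) (hv : chkVecs PV m = true) (hd : chkDistinct PV m = true)
    (j : ℕ) (hj : j < m) (j' : ℕ) (hj' : j' < m) (h : vpt (PV j) = vpt (PV j')) : j = j' := by
  unfold chkVecs at hv
  rw [List.all_eq_true] at hv
  have h1 := hv j (List.mem_range.mpr hj)
  have h2 := hv j' (List.mem_range.mpr hj')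
  rw [Bool.and_eq_true, beq_iff_eq] at h1 h2
  exact inj_of_distinct PV m hd j hj j' hj' (vpt_inj _ _ h1.1 h2.1 h1.2 h2.2 h)

theorem smul_vpt_of (gs : List Gm) (gens : List ℕ) (PV : ℕ → ℕ) (m : ℕ) (pi : ℕ → ℕ → ℕ)
    (hg : ∀ i < gens.length, φ (gs.getD i 1) = D (gens.getD i c1))
    (hv : chkVecs PV m = true) (ha : chkAct gens PV m pi = true)
    (i : ℕ) (hi : i < gens.length) (j : ℕ) (hj : j < m) :
    gs.getD i 1 • vpt (PV j) = vpt (PV (pi i j)) := by
  unfold chkVecs at hv
  rw [List.all_eq_true] at hv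
  have h1 := hv j (List.mem_range.mpr hj)
  rw [Bool.and_eq_true, beq_iff_eq] at h1
  unfold chkAct at ha
  rw [List.all_eq_true] at ha
  have h2 := ha i (List.mem_range.mpr hi)
  rw [List.all_eq_true] at h2
  have h3 := h2 j (List.mem_range.mpr hj)
  rw [beq_iff_eq] at h3
  have hc : canonB 14 3 (expand (PV j)) = true := by
    have := h1.1
    unfold sCanonB at this
    rw [Bool.and_eq_true] at this
    exact this.1
  exact smul_vpt _ _ (hg i hi) _ _ hc h3

/-- the 702 vectors -/
def pt702 (j : ℕ) : Mat := vpt (PV702 j)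

theorem chk_struct702 : D702.chkStruct = true := by decide +kernel

theorem chk_vecs702 : chkVecs PV702 702 = true := by decide +kernel

theorem chk_act702 : chkAct cGG PV702 702 D702.pi = true := by decide +kernel

theorem chk_distinct702 : chkDistinct PV702 702 = true := by decide +kernel

theorem pi_act702 (i : ℕ) (hi : i < D702.k) (j : ℕ) (hj : j < D702.m) :
    GG.getD i 1 • pt702 j = pt702 (D702.pi i j) :=
  smul_vpt_of GG cGG PV702 702 D702.pi φ_GG_get chk_vecs702 chk_act702 i hi j hj

theorem pt702_inj (j : ℕ) (hj : j < 702) (j' : ℕ) (hj' : j' < 702) (h : pt702 j = pt702 j') :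
    j = j' :=
  vpt_inj_of PV702 702 chk_vecs702 chk_distinct702 j hj j' hj' h

theorem hgen702 : Subgroup.closure {g : Gm | ∃ i < D702.k, g = GG.getD i 1} = ⊤ := hgen

theorem hrel702 : ∀ w ∈ D702.rels, wordProd GG w.1 = wordProd GG w.2 := hrel

theorem hord702 (p : ℕ) (hp7 : Nat.Coprime 7 p) (hp13 : Nat.Coprime 13 p) (i : ℕ)
    (hi : i < D702.k) :
    Nat.Coprime (D702.ords.getD i 0) p ∧ (GG.getD i 1) ^ (D702.ords.getD i 0) = 1 := by
  have hi' : i < 2 := hi
  interval_cases i
  · exact ⟨hp7, gA_pow⟩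
  · exact ⟨hp13, gB_pow⟩

/-- the stabilizer of the first vector -/
noncomputable abbrev K : Subgroup Gm := MulAction.stabilizer Gm (pt702 0)

theorem card_K_mul : Nat.card ↥K * 702 = Nat.card Gm :=
  StemOrb.card_stabilizer_mul D702 chk_struct702 pt702 GG hgen702 pi_act702 (by decide)
    (fun j hj j' hj' => pt702_inj j hj j' hj')

end Cfsg.Agent.Lib.Helper1.G23
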