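import Mathlib
import Cfsg.Agent.Lib.Helper1.G23C
import Cfsg.Agent.Lib.Helper1.G23D6
import Cfsg.Agent.Lib.Helper1.StemSA7

set_option autoImplicit false
set_option maxRecDepth 100000

/-! The Chevalley group of type `G₂` over the field with 3 elements: the stabilizer of a vector,
its action on 864 vectors, and a lower bound for the order of the subgroup generated by two
words. -/

namespace Cfsg.Agent.Lib.Helper1.G23

open Cfsg Cfsg.Lie Cfsg.Agent.Lib.Helper1.MatCode Cfsg.Agent.Lib.Helper1.StemSA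

/-- a subgroup, a point with enough images under it, and a subgroup fixing the point -/
theorem card_mul_le_of_orbit {G X : Type*} [Group G] [Finite G] [MulAction G X]
    (H L : Subgroup G) (x : X) (hLH : L ≤ H) (hLx : L ≤ MulAction.stabilizer G x)
    (S : Finset X) (hS : ∀ y ∈ S, ∃ h ∈ H, h • x = y) : S.card * Nat.card L ≤ Nat.card H := by
  classical
  haveI : Finite ↑(MulAction.orbit ↥H x) := Finite.of_surjective
    (fun h : ↥H => (⟨h • x, MulAction.mem_orbit x h⟩ : MulAction.orbit ↥H x)) (by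
      rintro ⟨y, h, rfl⟩
      exact ⟨h, rfl⟩)
  have h1 := Subgroup.card_mul_index (MulAction.stabilizer ↥H x)
  rw [MulAction.index_stabilizer] at h1
  have h2 : S.card ≤ (MulAction.orbit ↥H x).ncard := by
    rw [← Set.ncard_coe_finset S]
    apply Set.ncard_le_ncard _ (Set.toFinite _)
    intro y hy
    obtain ⟨h, hh, rfl⟩ := hS y (Finset.mem_coe.mp hy)
    exact ⟨⟨h, hh⟩, rfl⟩
  have h3 : Nat.card L ≤ Nat.card (MulAction.stabilizer ↥H x) := by
    let f : L → MulAction.stabilizer ↥H x := fun g => ⟨⟨g.1, hLH g.2⟩, by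
      rw [MulAction.mem_stabilizer_iff]
      exact MulAction.mem_stabilizer_iff.mp (hLx g.2)⟩
    apply Nat.card_le_card_of_injective f
    intro g g' hgg
    apply Subtype.ext
    exact congrArg (fun t : MulAction.stabilizer ↥H x => (t.1.1 : G)) hgg
  calc S.card * Nat.card L ≤ (MulAction.orbit ↥H x).ncard * Nat.card (MulAction.stabilizer ↥H x) :=
        Nat.mul_le_mul h2 h3
    _ = Nat.card ↥H := by rw [mul_comm]; exact h1

theorem card_image_range {X : Type*} [DecidableEq X] (pt : ℕ → X) (m : ℕ)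
    (hinj : ∀ j < m, ∀ j' < m, pt j = pt j' → j = j') :
    ((Finset.range m).image pt).card = m := by
  rw [Finset.card_image_of_injOn, Finset.card_range]
  intro j hj j' hj' h
  exact hinj j (Finset.mem_range.mp hj) j' (Finset.mem_range.mp hj') h

/-- the two words of the stabilizer -/
noncomputable def k1 : Gm := wordProd GG4 wK1

noncomputable def k2 : Gm := wordProd GG4 wK2

theorem ev_wK : ev cGG4 wK1 = cK1 ∧ ev cGG4 wK2 = cK2 := by decide +kernel

theorem φ_k1 : φ k1 = D cK1 := by rw [← ev_wK.1]; exact φ_GG4 wK1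

theorem φ_k2 : φ k2 = D cK2 := by rw [← ev_wK.2]; exact φ_GG4 wK2

theorem cn_cK1 : Cn cK1 := by rw [← ev_wK.1]; exact cn_ev _ _

theorem cn_cK2 : Cn cK2 := by rw [← ev_wK.2]; exact cn_ev _ _

/-- the words as a list -/
noncomputable def GK1 : List Gm := [k1, k2]

/-- their codes -/
def cGK : List ℕ := [cK1, cK2]

theorem GK1_hG : ∀ i, ∀ (h : i < GK1.length) (h' : i < cGK.length),
    φ (GK1[i]'h) = D (cGK[i]'h') := by
  intro i h h'
  have hi : i < 2 := h'
  interval_cases i
  · exact φ_k1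
  · exact φ_k2

theorem cGK_can : ∀ c ∈ cGK, Cn c := by
  intro c hc
  simp only [cGK, List.mem_cons, List.not_mem_nil, or_false] at hc
  rcases hc with rfl | rfl
  · exact cn_cK1
  · exact cn_cK2

theorem φ_GK1 (w : List ℕ) : φ (wordProd GK1 w) = D (ev cGK w) :=
  phi_wordProd GK1 cGK rfl GK1_hG cGK_can w

theorem eq_of_evGK1 (w w' : List ℕ) (h : ev cGK w = ev cGK w') :
    wordProd GK1 w = wordProd GK1 w' :=
  eq_of_ev GK1 cGK rfl GK1_hG cGK_can w w' h

theorem φ_GK1_get (i : ℕ) (hi : i < cGK.length) : φ (GK1.getD i 1) = D (cGK.getD i c1) := by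
  have hi' : i < 2 := hi
  interval_cases i
  · exact φ_k1
  · exact φ_k2

theorem fix_chk : (List.range 2).all (fun i =>
    mu (cGK.getD i c1) (expand (PV702 0)) == expand (PV702 0)) = true := by decide +kernel

theorem GK1_mem_K (i : ℕ) (hi : i < 2) : GK1.getD i 1 ∈ K := by
  rw [MulAction.mem_stabilizer_iff]
  have h := fix_chk
  rw [List.all_eq_true] at h
  have h1 := h i (List.mem_range.mpr hi)
  rw [beq_iff_eq] at h1
  have hv := chk_vecs702
  unfold chkVecs at hv
  rw [List.all_eq_true] at hv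
  have h2 := hv 0 (List.mem_range.mpr (by norm_num))
  rw [Bool.and_eq_true] at h2
  have hc : canonB 14 3 (expand (PV702 0)) = true := by
    have := h2.1
    unfold sCanonB at this
    rw [Bool.and_eq_true] at this
    exact this.1
  exact smul_vpt _ _ (φ_GK1_get i hi) _ _ hc h1

theorem k1_mem_K : k1 ∈ K := GK1_mem_K 0 (by norm_num)

theorem k2_mem_K : k2 ∈ K := GK1_mem_K 1 (by norm_num)

/-- the 864 vectors -/
def pt864 (j : ℕ) : Mat := vpt (PV864 j)

theorem chk_struct864 : D864.chkStruct = true := by decide +kernel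

theorem chk_vecs864 : chkVecs PV864 864 = true := by decide +kernel

theorem chk_act864 : chkAct cGK PV864 864 D864.pi = true := by decide +kernel

theorem chk_distinct864 : chkDistinct PV864 864 = true := by decide +kernel

theorem pi_act864 (i : ℕ) (hi : i < D864.k) (j : ℕ) (hj : j < D864.m) :
    GK1.getD i 1 • pt864 j = pt864 (D864.pi i j) :=
  smul_vpt_of GK1 cGK PV864 864 D864.pi φ_GK1_get chk_vecs864 chk_act864 i hi j hj

theorem pt864_inj (j : ℕ) (hj : j < 864) (j' : ℕ) (hj' : j' < 864) (h : pt864 j = pt864 j') :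
    j = j' :=
  vpt_inj_of PV864 864 chk_vecs864 chk_distinct864 j hj j' hj' h

/-- the subgroup generated by the two words -/
noncomputable def U : Subgroup Gm := Subgroup.closure {g | ∃ i < D864.k, g = GK1.getD i 1}

theorem U_le_K : U ≤ K := by
  unfold U
  rw [Subgroup.closure_le]
  rintro g ⟨i, hi, rfl⟩
  exact GK1_mem_K i hi

theorem k1_mem_U : k1 ∈ U := Subgroup.subset_closure ⟨0, by decide, rfl⟩

theorem powK_chk : ev cGK [0, 0, 0, 0, 0, 0, 0] = c1 ∧ ev cGK [1, 1, 1, 1, 1, 1, 1] = c1 ∧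
    ev cGK [0, 1, 0, 1, 0, 1, 0, 1] = c1 ∧
    ev cGK [0, 1, 1, 1, 0, 1, 1, 1, 0, 1, 1, 1, 0, 1, 1, 1, 0, 1, 1, 1, 0, 1, 1, 1, 0, 1, 1, 1,
      0, 1, 1, 1] = c1 ∧ neB 14 3 cK1 c1 = true := by decide +kernel

theorem k1_pow : k1 ^ 7 = 1 := by
  have h := eq_of_evGK1 [0, 0, 0, 0, 0, 0, 0] [] powK_chk.1
  rw [wordProd_nil] at h
  rw [← h]
  simp only [wordProd_cons, wordProd_nil, mul_one, pow_succ, pow_zero, one_mul, mul_assoc]
  rfl

theorem k2_pow : k2 ^ 7 = 1 := by
  have h := eq_of_evGK1 [1, 1, 1, 1, 1, 1, 1] [] powK_chk.2.1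
  rw [wordProd_nil] at h
  rw [← h]
  simp only [wordProd_cons, wordProd_nil, mul_one, pow_succ, pow_zero, one_mul, mul_assoc]
  rfl

theorem k12_pow : (k1 * k2) ^ 4 = 1 := by
  have h := eq_of_evGK1 [0, 1, 0, 1, 0, 1, 0, 1] [] powK_chk.2.2.1
  rw [wordProd_nil] at h
  rw [← h]
  simp only [wordProd_cons, wordProd_nil, mul_one, pow_succ, pow_zero, one_mul, mul_assoc]
  rfl

theorem k1222_pow : (k1 * k2 ^ 3) ^ 8 = 1 := by
  have h := eq_of_evGK1 [0, 1, 1, 1, 0, 1, 1, 1, 0, 1, 1, 1, 0, 1, 1, 1, 0, 1, 1, 1, 0, 1, 1, 1,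
    0, 1, 1, 1, 0, 1, 1, 1] [] powK_chk.2.2.2.1
  rw [wordProd_nil] at h
  rw [← h]
  simp only [wordProd_cons, wordProd_nil, mul_one, pow_succ, pow_zero, one_mul, mul_assoc]
  rfl

theorem k1_ne : k1 ≠ 1 := by
  intro h
  have h1 := φ_k1
  rw [h, map_one, ← D_c1] at h1
  exact dec_ne_of_neB 14 3 powK_chk.2.2.2.2 h1.symm

theorem orderOf_k1 : orderOf k1 = 7 := by
  haveI : Fact (Nat.Prime 7) := ⟨by norm_num⟩
  exact orderOf_eq_prime k1_pow k1_ne

theorem pi864_zero : D864.pi 0 0 = 0 := by decide +kernel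

theorem k1_fix : k1 ∈ MulAction.stabilizer Gm (pt864 0) := by
  rw [MulAction.mem_stabilizer_iff]
  have h := pi_act864 0 (by decide) 0 (by decide)
  rw [pi864_zero] at h
  exact h

/-- the subgroup generated by the two words has order at least 6048 -/
theorem card_U_ge : 6048 ≤ Nat.card ↥U := by
  have h := card_mul_le_of_orbit U (Subgroup.zpowers k1) (pt864 0)
    (by rw [Subgroup.zpowers_le]; exact k1_mem_U)
    (by rw [Subgroup.zpowers_le]; exact k1_fix)
    ((Finset.range 864).image pt864) (by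
      intro y hy
      rw [Finset.mem_image] at hy
      obtain ⟨j, hj, rfl⟩ := hy
      exact StemZB.exists_mem_closure_smul D864 chk_struct864 pt864 GK1 pi_act864 j
        (Finset.mem_range.mp hj))
  rw [card_image_range pt864 864 pt864_inj, Nat.card_zpowers, orderOf_k1] at h
  omega

end Cfsg.Agent.Lib.Helper1.G23
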