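import Mathlib
import Cfsg.Agent.Lib.Helper1.G23E
import Cfsg.Agent.S1059

set_option autoImplicit false
set_option maxRecDepth 100000

/-! The Chevalley group of type `G₂` over the field with 3 elements: the stabilizer of a vector is
generated by two words, and it is perfect. -/

namespace Cfsg.Agent.Lib.Helper1.G23

open Cfsg Cfsg.Lie Cfsg.Agent.Lib.Helper1.MatCode Cfsg.Agent.Lib.Helper1.StemSA

theorem card_Gm : Nat.card Gm = 4245696 := by
  have h := Cfsg.Agent.S1059.result (F := ZMod 3) (q := 3) (ZMod.card 3)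
  rw [h]
  norm_num

theorem card_K : Nat.card ↥K = 6048 := by
  have h := card_K_mul
  rw [card_Gm] at h
  omega

/-- the stabilizer of the first vector is generated by the two words -/
theorem U_eq_K : U = K := by
  have hle : U ≤ K := U_le_K
  have hU := card_U_ge
  have hK := card_K
  apply SetLike.coe_injective
  apply Set.eq_of_subset_of_ncard_le hle _ (Set.toFinite _)
  have e1 : (↑K : Set Gm).ncard = Nat.card ↥K := rfl
  have e2 : (↑U : Set Gm).ncard = Nat.card ↥U := rfl
  rw [e1, e2]
  omega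

/-- the generators of the stabilizer of the first vector -/
noncomputable abbrev GK : List ↥K := [⟨k1, k1_mem_K⟩, ⟨k2, k2_mem_K⟩]

theorem GK_val (i : ℕ) : ((GK.getD i 1 : ↥K) : Gm) = GK1.getD i 1 := by
  rcases i with _ | _ | i
  · rfl
  · rfl
  · rfl

theorem wordProd_GK (w : List ℕ) : ((wordProd GK w : ↥K) : Gm) = wordProd GK1 w := by
  induction w with
  | nil => rfl
  | cons i w ih =>
    rw [wordProd_cons, wordProd_cons, Subgroup.coe_mul, ih, GK_val]

theorem hgenK : Subgroup.closure {g : ↥K | ∃ i < D864.k, g = GK.getD i 1} = ⊤ := by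
  apply Subgroup.map_injective K.subtype_injective
  rw [MonoidHom.map_closure, ← MonoidHom.range_eq_map, Subgroup.range_subtype]
  have e : (K.subtype '' {g : ↥K | ∃ i < D864.k, g = GK.getD i 1}) =
      {g : Gm | ∃ i < D864.k, g = GK1.getD i 1} := by
    ext g
    constructor
    · rintro ⟨g', ⟨i, hi, rfl⟩, rfl⟩
      exact ⟨i, hi, GK_val i⟩
    · rintro ⟨i, hi, rfl⟩
      exact ⟨GK.getD i 1, ⟨i, hi, rfl⟩, GK_val i⟩
  rw [e]
  exact U_eq_K

theorem pi_actK (i : ℕ) (hi : i < D864.k) (j : ℕ) (hj : j < D864.m) :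
    GK.getD i 1 • pt864 j = pt864 (D864.pi i j) := by
  have h := pi_act864 i hi j hj
  rw [← GK_val i] at h
  exact h

theorem hordK (p : ℕ) (hp7 : Nat.Coprime 7 p) (i : ℕ) (hi : i < D864.k) :
    Nat.Coprime (D864.ords.getD i 0) p ∧ (GK.getD i 1) ^ (D864.ords.getD i 0) = 1 := by
  have hi' : i < 2 := hi
  interval_cases i
  · exact ⟨hp7, Subtype.ext k1_pow⟩
  · exact ⟨hp7, Subtype.ext k2_pow⟩

theorem krels_chk : krelsL.all (fun w => ev cGK w.1 == ev cGK w.2) = true := by decide +kernel

theorem hrelK : ∀ w ∈ D864.rels, wordProd GK w.1 = wordProd GK w.2 := by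
  intro w hw
  have h := krels_chk
  rw [List.all_eq_true] at h
  have h1 := h w hw
  rw [beq_iff_eq] at h1
  apply Subtype.ext
  rw [wordProd_GK, wordProd_GK]
  exact eq_of_evGK1 w.1 w.2 h1

/-- a group generated by two elements of order 7 whose product has order 4, the product of the
first and the cube of the second having order 8, is perfect -/
theorem commutator_eq_top_of_7748 {G : Type*} [Group G] (a b : G)
    (hgen : Subgroup.closure ({a, b} : Set G) = ⊤) (ha : a ^ 7 = 1) (hb : b ^ 7 = 1)
    (hab : (a * b) ^ 4 = 1) (hab3 : (a * b ^ 3) ^ 8 = 1) : commutator G = ⊤ := by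
  let π : G →* Abelianization G := Abelianization.of
  have hx7 : π a ^ 7 = 1 := by rw [← map_pow, ha, map_one]
  have hy7 : π b ^ 7 = 1 := by rw [← map_pow, hb, map_one]
  have hxy : (π a * π b) ^ 4 = 1 := by rw [← map_mul, ← map_pow, hab, map_one]
  have hxy3 : (π a * π b ^ 3) ^ 8 = 1 := by rw [← map_pow, ← map_mul, ← map_pow, hab3, map_one]
  rw [mul_pow] at hxy hxy3
  -- `a b^3 = 1`
  have h1 : π a * π b ^ 3 = 1 := by
    have e1 : π a ^ 8 = π a := by rw [pow_succ, hx7, one_mul]
    have e2 : (π b ^ 3) ^ 8 = π b ^ 3 := by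
      rw [← pow_mul, show 3 * 8 = 7 * 3 + 3 by norm_num, pow_add, pow_mul, hy7, one_pow, one_mul]
    rwa [e1, e2] at hxy3
  -- `a^4 b^4 = 1` and `a^4 b^12 = 1`
  have h2 : π a ^ 4 * π b ^ 12 = 1 := by
    have := congrArg (fun t => t ^ 4) h1
    simp only [mul_pow, one_pow, ← pow_mul] at this
    exact this
  have h3 : π b ^ 8 = 1 := by
    have e : π a ^ 4 * π b ^ 12 = (π a ^ 4 * π b ^ 4) * π b ^ 8 := by
      rw [mul_assoc, ← pow_add]
    rw [e, hxy, one_mul] at h2
    exact h2
  have hy1 : π b = 1 := by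
    have e : π b ^ 8 = π b ^ 7 * π b := pow_succ _ 7
    rw [h3, hy7, one_mul] at e
    exact e.symm
  have hx1 : π a = 1 := by
    rw [hy1, one_pow, mul_one] at h1
    exact h1
  have hker : ∀ g : G, π g = 1 → g ∈ commutator G := by
    intro g hg
    have := (QuotientGroup.eq_one_iff (N := commutator G) g).mp hg
    exact this
  rw [eq_top_iff, ← hgen, Subgroup.closure_le]
  intro g hg
  simp only [Set.mem_insert_iff, Set.mem_singleton_iff] at hg
  rcases hg with rfl | rfl
  · exact hker _ hx1
  · exact hker _ hy1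

/-- the stabilizer of the first vector is perfect -/
theorem K_perfect : commutator ↥K = ⊤ := by
  apply commutator_eq_top_of_7748 (⟨k1, k1_mem_K⟩ : ↥K) ⟨k2, k2_mem_K⟩
  · rw [← hgenK]
    congr 1
    ext g
    simp only [Set.mem_insert_iff, Set.mem_singleton_iff, Set.mem_setOf_eq]
    constructor
    · rintro (rfl | rfl)
      · exact ⟨0, by decide, rfl⟩
      · exact ⟨1, by decide, rfl⟩
    · rintro ⟨i, hi, rfl⟩
      have hi' : i < 2 := hi
      interval_cases i
      · exact Or.inl rfl
      · exact Or.inr rfl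
  · exact Subtype.ext k1_pow
  · exact Subtype.ext k2_pow
  · exact Subtype.ext k12_pow
  · exact Subtype.ext k1222_pow

/-- the stabilizer of the first of the 864 vectors -/
noncomputable abbrev KB : Subgroup ↥K := MulAction.stabilizer ↥K (pt864 0)

theorem card_KB : Nat.card ↥KB = 7 := by
  have h := StemOrb.card_stabilizer_mul D864 chk_struct864 pt864 GK hgenK pi_actK (by decide)
    (fun j hj j' hj' => pt864_inj j hj j' hj')
  rw [card_K] at h
  have h' : Nat.card ↥KB * 864 = 6048 := h
  omega

end Cfsg.Agent.Lib.Helper1.G23
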