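import Mathlib
import Cfsg.Agent.Lib.Helper1.G23D6
import Cfsg.Agent.Lib.Helper1.G23D8

set_option autoImplicit false
set_option maxRecDepth 100000
set_option maxHeartbeats 0

/-! The Chevalley group of type `G₂` over the field with 3 elements: the check of a certificate. -/

namespace Cfsg.Agent.Lib.Helper1.G23

open Cfsg.Agent.Lib.Helper1

theorem chk_cert864c : StemZP.chkCertR D864 C864c = true := by decide +kernel

end Cfsg.Agent.Lib.Helper1.G23
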