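import Mathlib
import Cfsg.Agent.Lib.Helper1.StemZP4
import Cfsg.Agent.Lib.Helper1.StemZD7
import Cfsg.Agent.Lib.Helper1.StemZE3

set_option autoImplicit false

/-! Labelled actions: a stem extension with kernel a `p`-group, over a group with a point
stabilizer `K` that has a perfect normal subgroup `K₁` with a cyclic quotient, has a kernel of
order at most `p ^ E * t`, where `t` bounds the kernels of the stem extensions of `K₁` that are
`p`-groups. -/

namespace Cfsg.Agent.Lib.Helper1.StemZP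

open Cfsg.Agent.Lib.Helper1.MatCode Cfsg.Agent.Lib.Helper1.Stem Cfsg.Agent.Lib.Helper1.StemSA
  Cfsg.Agent.Lib.Helper1.StemZLin Cfsg.Agent.Lib.Helper1.StemZA Cfsg.Agent.Lib.Helper1.StemZC
  Cfsg.Agent.Lib.Helper1.StemZD

universe u v

theorem card_ker_le_pow_mul_cyc (p : ℕ) [hp : Fact p.Prime] (D : SAData) (E : ℕ)
    (hV : ValsBound.{u} D p E) (hS : D.chkStruct = true) (hm : 0 < D.m)
    {G : Type v} {Y : Type*} [Group G] [MulAction G Y] (pt : ℕ → Y) (gs : List G)
    (hgen : Subgroup.closure {g | ∃ i < D.k, g = gs.getD i 1} = ⊤)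
    (pt_zero : ∀ j < D.m, pt j = pt 0 → j = 0)
    (pi_act : ∀ i < D.k, ∀ j < D.m, gs.getD i 1 • pt j = pt (D.pi i j))
    (hord : ∀ i < D.k, Nat.Coprime (D.ords.getD i 0) p ∧ (gs.getD i 1) ^ (D.ords.getD i 0) = 1)
    (hrel : ∀ w ∈ D.rels, wordProd gs w.1 = wordProd gs w.2)
    (K : Subgroup G) (hKdef : K = MulAction.stabilizer G (pt 0))
    {Q : Type*} [Group Q] [IsCyclic Q] (q : K →* Q)
    (K₁ : Subgroup G) (hle : K₁ ≤ K) (hK₁ : ∀ k : K, q k = 1 ↔ (k : G) ∈ K₁)
    (hperf : commutator K₁ = ⊤) (t : ℕ)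
    (hT : ∀ (Γ' : Type u) [Group Γ'] [Finite Γ'] (σ' : Γ' →* K₁),
      Cfsg.IsStemExtension σ' → IsPGroup p σ'.ker → Nat.card σ'.ker ≤ t)
    (Γ : Type u) [Group Γ] [Finite Γ] (σ : Γ →* G) (hσ : Cfsg.IsStemExtension σ)
    (hk : IsPGroup p σ.ker) : Nat.card σ.ker ≤ p ^ E * t := by
  classical
  obtain ⟨hs, hcen, hcomm⟩ := hσ
  obtain ⟨a, hc⟩ := IsPGroup.iff_card.mp hk
  set Kc := K.comap σ with hKc
  have hmemKc : ∀ g : Γ, g ∈ Kc ↔ σ g • pt 0 = pt 0 := by
    intro g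
    rw [hKc, Subgroup.mem_comap, hKdef, MulAction.mem_stabilizer_iff]
  have hkpow : ∀ c : Γ, σ c = 1 → c ^ p ^ a = 1 := by
    intro c hc1
    have h1 : (⟨c, MonoidHom.mem_ker.mpr hc1⟩ : σ.ker) ^ Nat.card σ.ker = 1 := pow_card_eq_one'
    rw [hc] at h1
    exact congrArg Subtype.val h1
  -- the order of the abelianization
  obtain ⟨e, u, hu, hNab⟩ := Nat.exists_eq_pow_mul_and_not_dvd
    (Nat.card_pos (α := Abelianization Kc)).ne' p hp.out.ne_one
  have hcopu : ∀ b : ℕ, Nat.Coprime u (p ^ b) := fun b =>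
    Nat.Coprime.pow_right b ((Nat.Prime.coprime_iff_not_dvd hp.out).mpr hu).symm
  -- the labels
  let pw : Abelianization Kc →* Abelianization Kc := powMonoidHom u
  let ψ : Kc →* pw.range := pw.rangeRestrict.comp Abelianization.of
  have hψ : ∀ x : Kc, ((ψ x : pw.range) : Abelianization Kc) = Abelianization.of x ^ u :=
    fun _ => rfl
  have hψ1 : ∀ x : Kc, ψ x = 1 → x ^ u ∈ commutator Kc := by
    intro x hx
    have h1 : Abelianization.of x ^ u = 1 := by rw [← hψ, hx]; rfl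
    rw [← map_pow] at h1
    exact (QuotientGroup.eq_one_iff _).mp h1
  let κ : Γ → Additive pw.range := fun g =>
    if h : g ∈ Kc then Additive.ofMul (ψ ⟨g, h⟩) else 0
  have hκ : ∀ (g : Γ) (h : g ∈ Kc), κ g = Additive.ofMul (ψ ⟨g, h⟩) := by
    intro g h
    simp only [κ, dif_pos h]
  have hlift : ∀ (g : Γ) (hg : g ∈ Kc), ((⟨g, hg⟩ : Kc) ∈ commutator Kc ↔ g ∈ liftSub σ K) := by
    intro g hg
    unfold liftSub
    rw [← Subgroup.map_subtype_commutator]
    constructor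
    · intro h
      exact ⟨⟨g, hg⟩, h, rfl⟩
    · rintro ⟨w, hw, hwg⟩
      have : w = ⟨g, hg⟩ := Subtype.ext hwg
      rw [← this]; exact hw
  have hKK₁ : liftSub σ K ≤ liftSub σ K₁ :=
    liftSub_le_of_cyclic_quotient σ hs hcen K K₁ hle q hK₁ hperf
  have hliftX : ∀ i : ℕ, ∃ x : Γ, σ x = gs.getD i 1 ∧ (i < D.k → x ^ (D.ords.getD i 0) = 1) := by
    intro i
    by_cases hi : i < D.k
    · obtain ⟨ho, hpw⟩ := hord i hi
      obtain ⟨x, hx1, hx2⟩ := StemZB.exists_lift_pow_eq_one σ hs p a hkpow _ _ ho hpw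
      exact ⟨x, hx1, fun _ => hx2⟩
    · obtain ⟨x, hx⟩ := hs (gs.getD i 1)
      exact ⟨x, hx, fun h => absurd h hi⟩
  choose xf hxf using hliftX
  let X : List Γ := (List.range D.k).map xf
  have hX : ∀ i < D.k, X.getD i 1 = xf i := by
    intro i hi
    have : i < X.length := by simp [X, hi]
    rw [List.getD_eq_getElem _ _ this]
    simp [X]
  have hσX : ∀ i < D.k, σ (X.getD i 1) = gs.getD i 1 := by
    intro i hi
    rw [hX i hi]; exact (hxf i).1
  have H : ZAHyp D σ pt X κ :=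
    { ker_central := hcen
      pt_zero := pt_zero
      pi_act := by
        intro i hi j hj
        rw [hσX i hi]; exact pi_act i hi j hj
      pow_one := by
        intro i hi
        rw [hX i hi]; exact (hxf i).2 hi
      rel_ok := by
        intro w hw
        obtain ⟨hw1, hw2⟩ := rels_lt D hS w hw
        rw [sigma_wordProd σ X gs D.k hσX w.1 hw1, sigma_wordProd σ X gs D.k hσX w.2 hw2]
        exact hrel w hw
      gen := by
        intro g
        have h1 : Subgroup.closure {g | ∃ i < D.k, g = X.getD i 1} = ⊤ := by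
          apply closure_eq_top_of_stem σ ⟨hs, hcen, hcomm⟩
          rw [eq_top_iff, ← hgen]
          apply Subgroup.closure_mono
          rintro _ ⟨i, hi, rfl⟩
          exact ⟨X.getD i 1, ⟨i, hi, rfl⟩, hσX i hi⟩
        rw [h1]; exact Subgroup.mem_top g
      kap_mul := by
        intro g h hg hh
        have hg' : g ∈ Kc := (hmemKc g).mpr hg
        have hh' : h ∈ Kc := (hmemKc h).mpr hh
        rw [hκ g hg', hκ h hh', hκ (g * h) (Kc.mul_mem hg' hh'), ← ofMul_mul, ← map_mul]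
        rfl }
  -- the exponent of the group of labels
  have h2 : ∀ x : Additive pw.range, (((p : ℕ) : ℤ) ^ e) • x = 0 := by
    intro x
    obtain ⟨t, rfl⟩ := Additive.ofMul.surjective x
    obtain ⟨t, ⟨y, rfl⟩⟩ := t
    rw [← ofMul_zpow]
    have e4 : (((p : ℕ) : ℤ) ^ e) = ((p ^ e : ℕ) : ℤ) := by push_cast; rfl
    rw [e4, zpow_natCast]
    have e5 : (⟨pw y, ⟨y, rfl⟩⟩ : pw.range) ^ p ^ e = 1 := by
      apply Subtype.ext
      show (y ^ u) ^ p ^ e = 1
      rw [← pow_mul, mul_comm, ← hNab]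
      exact pow_card_eq_one'
    rw [e5]; rfl
  haveI : Finite (Additive pw.range) := by
    show Finite pw.range
    infer_instance
  obtain ⟨A₀, hA₀, hker⟩ := zq_main D σ pt X κ hS H p E hV hm e h2
  -- elements of the kernel with the same image differ by an element of the lift
  have hdiff : ∀ c c' : Γ, σ c = 1 → σ c' = 1 → κ c = κ c' → c * c'⁻¹ ∈ liftSub σ K₁ := by
    intro c c' h1 h1' he
    have hcK : c ∈ Kc := by rw [hmemKc, h1, one_smul]
    have hcK' : c' ∈ Kc := by rw [hmemKc, h1', one_smul]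
    rw [hκ c hcK, hκ c' hcK'] at he
    have he' : ψ (⟨c, hcK⟩ : Kc) = ψ (⟨c', hcK'⟩ : Kc) := Additive.ofMul.injective he
    have hzK : c * c'⁻¹ ∈ Kc := Kc.mul_mem hcK (Kc.inv_mem hcK')
    have e1 : ψ (⟨c * c'⁻¹, hzK⟩ : Kc) = 1 := by
      have : (⟨c * c'⁻¹, hzK⟩ : Kc) = (⟨c, hcK⟩ : Kc) * (⟨c', hcK'⟩ : Kc)⁻¹ := rfl
      rw [this, map_mul, map_inv, he', mul_inv_cancel]
    have e2 : (⟨c * c'⁻¹, hzK⟩ : Kc) ^ u ∈ commutator Kc := hψ1 _ e1
    have e3 : (c * c'⁻¹) ^ u ∈ liftSub σ K₁ := by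
      apply hKK₁
      have : (⟨(c * c'⁻¹) ^ u, Kc.pow_mem hzK u⟩ : Kc) = (⟨c * c'⁻¹, hzK⟩ : Kc) ^ u := rfl
      exact (hlift _ (Kc.pow_mem hzK u)).mp (this ▸ e2)
    -- the element is a power of its `u`-th power
    have hz1 : σ (c * c'⁻¹) = 1 := by rw [map_mul, map_inv, h1, h1', inv_one, mul_one]
    have hzp : (c * c'⁻¹) ^ p ^ a = 1 := hkpow _ hz1
    have hcop : Nat.Coprime u (orderOf (c * c'⁻¹)) :=
      Nat.Coprime.coprime_dvd_right (orderOf_dvd_of_pow_eq_one hzp) (hcopu a)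
    obtain ⟨m, hm'⟩ := exists_pow_eq_self_of_coprime hcop
    rw [← hm']
    exact Subgroup.pow_mem _ e3 m
  -- the stem extension of the perfect subgroup
  have hstem := liftHom_isStem σ hs hcen K₁ hperf
  have hpk : IsPGroup p (liftHom σ K₁).ker := by
    intro x
    refine ⟨a, ?_⟩
    apply Subtype.ext
    apply Subtype.ext
    have hx : σ (x.1 : Γ) = 1 := by
      have := x.2
      rw [MonoidHom.mem_ker] at this
      exact congrArg Subtype.val this
    exact hkpow _ hx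
  have hcard := hT (liftSub σ K₁) (liftHom σ K₁) hstem hpk
  -- the counting
  let f : σ.ker → A₀ := fun c => ⟨κ c.1, hker c.1 (MonoidHom.mem_ker.mp c.2)⟩
  have hbase : ∀ bb : A₀, ∃ c₀ : σ.ker, (∃ c : σ.ker, f c = bb) → f c₀ = bb := by
    intro bb
    by_cases h : ∃ c : σ.ker, f c = bb
    · obtain ⟨c, hc'⟩ := h
      exact ⟨c, fun _ => hc'⟩
    · exact ⟨1, fun h' => absurd h' h⟩
  choose base hbase' using hbase
  have hsame : ∀ c : σ.ker, κ c.1 = κ (base (f c)).1 := by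
    intro c
    have hb : f (base (f c)) = f c := hbase' (f c) ⟨c, rfl⟩
    exact (congrArg Subtype.val hb).symm
  let g : σ.ker → A₀ × (liftHom σ K₁).ker := fun c =>
    (f c, ⟨⟨c.1 * (base (f c)).1⁻¹, hdiff _ _ (MonoidHom.mem_ker.mp c.2)
      (MonoidHom.mem_ker.mp (base (f c)).2) (hsame c)⟩, by
      rw [MonoidHom.mem_ker]
      apply Subtype.ext
      show σ (c.1 * (base (f c)).1⁻¹) = 1
      rw [map_mul, map_inv, MonoidHom.mem_ker.mp c.2, MonoidHom.mem_ker.mp (base (f c)).2,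
        inv_one, mul_one]⟩)
  have hg : Function.Injective g := by
    intro c c' hcc
    have h1 : f c = f c' := congrArg Prod.fst hcc
    have h2' : c.1 * (base (f c)).1⁻¹ = c'.1 * (base (f c')).1⁻¹ := by
      have := congrArg (fun q : A₀ × (liftHom σ K₁).ker => ((q.2 : liftSub σ K₁) : Γ)) hcc
      exact this
    rw [h1] at h2'
    exact Subtype.ext (mul_right_cancel h2')
  have h3 := Nat.card_le_card_of_injective g hg
  rw [Nat.card_prod] at h3
  exact h3.trans (Nat.mul_le_mul hA₀ hcard)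

/-- the case of a perfect point stabilizer -/
theorem card_ker_le_pow_mul_perf (p : ℕ) [hp : Fact p.Prime] (D : SAData) (E : ℕ)
    (hV : ValsBound.{u} D p E) (hS : D.chkStruct = true) (hm : 0 < D.m)
    {G : Type v} {Y : Type*} [Group G] [MulAction G Y] (pt : ℕ → Y) (gs : List G)
    (hgen : Subgroup.closure {g | ∃ i < D.k, g = gs.getD i 1} = ⊤)
    (pt_zero : ∀ j < D.m, pt j = pt 0 → j = 0)
    (pi_act : ∀ i < D.k, ∀ j < D.m, gs.getD i 1 • pt j = pt (D.pi i j))
    (hord : ∀ i < D.k, Nat.Coprime (D.ords.getD i 0) p ∧ (gs.getD i 1) ^ (D.ords.getD i 0) = 1)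
    (hrel : ∀ w ∈ D.rels, wordProd gs w.1 = wordProd gs w.2)
    (hperf : commutator (MulAction.stabilizer G (pt 0)) = ⊤) (t : ℕ)
    (hT : ∀ (Γ' : Type u) [Group Γ'] [Finite Γ'] (σ' : Γ' →* MulAction.stabilizer G (pt 0)),
      Cfsg.IsStemExtension σ' → IsPGroup p σ'.ker → Nat.card σ'.ker ≤ t)
    (Γ : Type u) [Group Γ] [Finite Γ] (σ : Γ →* G) (hσ : Cfsg.IsStemExtension σ)
    (hk : IsPGroup p σ.ker) : Nat.card σ.ker ≤ p ^ E * t :=
  card_ker_le_pow_mul_cyc p D E hV hS hm pt gs hgen pt_zero pi_act hord hrel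
    (MulAction.stabilizer G (pt 0)) rfl (Q := Unit) (1 : _ →* Unit)
    (MulAction.stabilizer G (pt 0)) le_rfl (fun k => ⟨fun _ => k.2, fun _ => rfl⟩) hperf t hT
    Γ σ hσ hk

end Cfsg.Agent.Lib.Helper1.StemZP
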