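import Mathlib
import Cfsg.Agent.Lib.Helper1.StemZD5

set_option autoImplicit false

/-! Labelled actions: a stem extension with kernel a 2-group, over a group with a point
stabilizer `K` that has a cyclic Sylow 2-subgroup of order `2 ^ n₂` and a normal subgroup of odd
order with a commutative quotient of order `2 ^ n₂`, has a kernel of order at most
`2 ^ E / 2 ^ n₂`. -/

namespace Cfsg.Agent.Lib.Helper1.StemZD

open Cfsg.Agent.Lib.Helper1.MatCode Cfsg.Agent.Lib.Helper1.Stem Cfsg.Agent.Lib.Helper1.StemSA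
  Cfsg.Agent.Lib.Helper1.StemZLin Cfsg.Agent.Lib.Helper1.StemZA Cfsg.Agent.Lib.Helper1.StemZC

universe u v

/-- the preimage of a cyclic subgroup under a central extension is commutative -/
theorem commute_of_map_mem_zpowers {Δ K : Type*} [Group Δ] [Group K] (τ : Δ →* K)
    (hτ : Function.Surjective τ) (hcen : τ.ker ≤ Subgroup.center Δ) (c : K) (x y : Δ)
    (hx : τ x ∈ Subgroup.zpowers c) (hy : τ y ∈ Subgroup.zpowers c) : x * y = y * x := by
  obtain ⟨t, ht⟩ := hτ c
  obtain ⟨i, hi⟩ := Subgroup.mem_zpowers_iff.mp hx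
  obtain ⟨j, hj⟩ := Subgroup.mem_zpowers_iff.mp hy
  have hz1 : x * (t ^ i)⁻¹ ∈ Subgroup.center Δ := by
    apply hcen
    rw [MonoidHom.mem_ker, map_mul, map_inv, map_zpow, ht, hi, mul_inv_cancel]
  have hz2 : y * (t ^ j)⁻¹ ∈ Subgroup.center Δ := by
    apply hcen
    rw [MonoidHom.mem_ker, map_mul, map_inv, map_zpow, ht, hj, mul_inv_cancel]
  rw [Subgroup.mem_center_iff] at hz1 hz2
  have ex : x = (x * (t ^ i)⁻¹) * t ^ i := by group
  have ey : y = (y * (t ^ j)⁻¹) * t ^ j := by group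
  set z1 := x * (t ^ i)⁻¹ with hz1d
  set z2 := y * (t ^ j)⁻¹ with hz2d
  have hc : t ^ i * t ^ j = t ^ j * t ^ i := by rw [← zpow_add, ← zpow_add, add_comm]
  calc x * y = (z1 * t ^ i) * (z2 * t ^ j) := by rw [← ex, ← ey]
    _ = z1 * (t ^ i * z2) * t ^ j := by group
    _ = z1 * (z2 * t ^ i) * t ^ j := by rw [hz2 (t ^ i)]
    _ = z1 * z2 * (t ^ i * t ^ j) := by group
    _ = z1 * z2 * (t ^ j * t ^ i) := by rw [hc]
    _ = (z1 * z2) * t ^ j * t ^ i := by group
    _ = (z2 * z1) * t ^ j * t ^ i := by rw [hz1 z2]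
    _ = z2 * (z1 * t ^ j) * t ^ i := by group
    _ = z2 * (t ^ j * z1) * t ^ i := by rw [hz1 (t ^ j)]
    _ = (z2 * t ^ j) * (z1 * t ^ i) := by group
    _ = y * x := by rw [← ex, ← ey]

/-- a central element of a 2-group kernel that lies in the commutator subgroup of the preimage
`Δ` of a group `K` with a cyclic subgroup of odd index is trivial -/
theorem eq_one_of_mem_commutator_of_cyclic {Δ K : Type*} [Group Δ] [Group K] [Finite Δ]
    (τ : Δ →* K) (hτ : Function.Surjective τ) (hcen : τ.ker ≤ Subgroup.center Δ) (c : K) (u a : ℕ)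
    (hu : Odd u) (hidx : (Subgroup.zpowers c).index = u) (w : Δ) (hw : w ∈ τ.ker)
    (hw2 : w ^ 2 ^ a = 1) (hwc : w ∈ commutator Δ) : w = 1 := by
  set P : Subgroup Δ := (Subgroup.zpowers c).comap τ with hP
  have hPi : P.index = u := by
    rw [hP, Subgroup.index_comap_of_surjective _ hτ, hidx]
  obtain ⟨h1, h2⟩ := pow_index_mem_commutator P w (hcen hw) hwc
  have hcomm : commutator P = ⊥ := by
    rw [commutator_def, Subgroup.commutator_eq_bot_iff_le_centralizer]
    intro x _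
    rw [Subgroup.mem_centralizer_iff]
    intro y _
    apply Subtype.ext
    show y.1 * x.1 = x.1 * y.1
    exact commute_of_map_mem_zpowers τ hτ hcen c y.1 x.1 y.2 x.2
  rw [hcomm, Subgroup.mem_bot] at h2
  have h3 : w ^ P.index = 1 := congrArg Subtype.val h2
  rw [hPi] at h3
  exact eq_one_of_pow_odd_of_pow_two w u a hu h3 hw2

theorem card_ker_mul_le_pow (D : SAData) (C : ZDCert) (hS : D.chkStruct = true)
    (hC : chkCertD D C = true) (hm : 0 < D.m)
    {G : Type v} {Y : Type*} [Group G] [MulAction G Y] (pt : ℕ → Y) (gs : List G)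
    (hgen : Subgroup.closure {g | ∃ i < D.k, g = gs.getD i 1} = ⊤)
    (pt_zero : ∀ j < D.m, pt j = pt 0 → j = 0)
    (pi_act : ∀ i < D.k, ∀ j < D.m, gs.getD i 1 • pt j = pt (D.pi i j))
    (hodd : ∀ i < D.k, Odd (D.ords.getD i 0) ∧ (gs.getD i 1) ^ (D.ords.getD i 0) = 1)
    (hrel : ∀ w ∈ D.rels, wordProd gs w.1 = wordProd gs w.2)
    (n2 u : ℕ) (hu : Odd u) (K : Subgroup G) (hKdef : K = MulAction.stabilizer G (pt 0))
    (hKcard : Nat.card K = 2 ^ n2 * u)
    (c : K) (hco : orderOf c = 2 ^ n2)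
    (N : Subgroup K) [hNn : N.Normal] (hN : Nat.card N = u)
    (hQ : ∀ x y : K ⧸ N, x * y = y * x)
    (Γ : Type u) [Group Γ] [Finite Γ] (σ : Γ →* G) (hσ : Cfsg.IsStemExtension σ)
    (a : ℕ) (hc : Nat.card σ.ker = 2 ^ a) : Nat.card σ.ker * 2 ^ n2 ≤ 2 ^ C.es.sum := by
  classical
  obtain ⟨hs, hcen, hcomm⟩ := hσ
  set Kc := K.comap σ with hKc
  have hu0 : 0 < u := hu.pos
  haveI : Finite K := Nat.finite_of_card_ne_zero (by rw [hKcard]; positivity)
  have hmemKc : ∀ g : Γ, g ∈ Kc ↔ σ g • pt 0 = pt 0 := by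
    intro g
    rw [hKc, Subgroup.mem_comap, hKdef, MulAction.mem_stabilizer_iff]
  have hkpow : ∀ c : Γ, σ c = 1 → c ^ 2 ^ a = 1 := by
    intro c hc1
    have h1 : (⟨c, MonoidHom.mem_ker.mpr hc1⟩ : σ.ker) ^ Nat.card σ.ker = 1 := pow_card_eq_one'
    rw [hc] at h1
    exact congrArg Subtype.val h1
  -- the restriction of `σ`
  let σK : Kc →* K := (σ.comp Kc.subtype).codRestrict K (fun x => x.2)
  have hσK : ∀ x : Kc, ((σK x : K) : G) = σ x.1 := fun _ => rfl
  have hσKs : Function.Surjective σK := by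
    intro k
    obtain ⟨g, hg⟩ := hs k.1
    exact ⟨⟨g, by rw [hKc, Subgroup.mem_comap, hg]; exact k.2⟩, Subtype.ext hg⟩
  have hσKker : ∀ x : Kc, x ∈ σK.ker ↔ σ x.1 = 1 := by
    intro x
    rw [MonoidHom.mem_ker]
    constructor
    · intro h; exact congrArg Subtype.val h
    · intro h; exact Subtype.ext h
  have hσKcen : σK.ker ≤ Subgroup.center Kc := by
    intro x hx
    rw [hσKker] at hx
    rw [Subgroup.mem_center_iff]
    intro y
    exact Subtype.ext (Subgroup.mem_center_iff.mp (hcen (MonoidHom.mem_ker.mpr hx)) y.1)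
  -- the quotient
  letI : CommGroup (K ⧸ N) := { (inferInstance : Group (K ⧸ N)) with mul_comm := hQ }
  let q : Kc →* K ⧸ N := (QuotientGroup.mk' N).comp σK
  have hqs : Function.Surjective q := (QuotientGroup.mk'_surjective N).comp hσKs
  have hQcard : Nat.card (K ⧸ N) = 2 ^ n2 := by
    have h1 := Subgroup.card_eq_card_quotient_mul_card_subgroup N
    rw [hKcard, hN] at h1
    exact (Nat.eq_of_mul_eq_mul_right hu0 h1).symm
  haveI : Finite (K ⧸ N) := Nat.finite_of_card_ne_zero (by rw [hQcard]; positivity)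
  -- the index of the cyclic subgroup
  have hidx : (Subgroup.zpowers c).index = u := by
    have h1 := Subgroup.card_mul_index (Subgroup.zpowers c)
    rw [Nat.card_zpowers, hco, hKcard] at h1
    exact Nat.eq_of_mul_eq_mul_left (by positivity) h1
  -- the labels
  let pw : Abelianization Kc →* Abelianization Kc := powMonoidHom u
  let ψ : Kc →* pw.range := pw.rangeRestrict.comp Abelianization.of
  have hψ : ∀ x : Kc, ((ψ x : pw.range) : Abelianization Kc) = Abelianization.of x ^ u :=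
    fun _ => rfl
  have hψ1 : ∀ x : Kc, ψ x = 1 → x ^ u ∈ commutator Kc := by
    intro x hx
    have h1 : Abelianization.of x ^ u = 1 := by rw [← hψ, hx]; rfl
    rw [← map_pow] at h1
    exact (QuotientGroup.eq_one_iff _).mp h1
  let κ : Γ → Additive pw.range := fun g =>
    if h : g ∈ Kc then Additive.ofMul (ψ ⟨g, h⟩) else 0
  have hκ : ∀ (g : Γ) (h : g ∈ Kc), κ g = Additive.ofMul (ψ ⟨g, h⟩) := by
    intro g h
    simp only [κ, dif_pos h]
  have hliftX : ∀ i : ℕ, ∃ x : Γ, σ x = gs.getD i 1 ∧ (i < D.k → x ^ (D.ords.getD i 0) = 1) := by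
    intro i
    by_cases hi : i < D.k
    · obtain ⟨ho, hp⟩ := hodd i hi
      obtain ⟨x, hx1, hx2⟩ := StemZA.exists_lift_pow_eq_one σ hs a hkpow _ _ ho hp
      exact ⟨x, hx1, fun _ => hx2⟩
    · obtain ⟨x, hx⟩ := hs (gs.getD i 1)
      exact ⟨x, hx, fun h => absurd h hi⟩
  choose xf hxf using hliftX
  let X : List Γ := (List.range D.k).map xf
  have hX : ∀ i < D.k, X.getD i 1 = xf i := by
    intro i hi
    have : i < X.length := by simp [X, hi]
    rw [List.getD_eq_getElem _ _ this]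
    simp [X]
  have hσX : ∀ i < D.k, σ (X.getD i 1) = gs.getD i 1 := by
    intro i hi
    rw [hX i hi]; exact (hxf i).1
  have H : ZAHyp D σ pt X κ :=
    { ker_central := hcen
      pt_zero := pt_zero
      pi_act := by
        intro i hi j hj
        rw [hσX i hi]; exact pi_act i hi j hj
      pow_one := by
        intro i hi
        rw [hX i hi]; exact (hxf i).2 hi
      rel_ok := by
        intro w hw
        obtain ⟨hw1, hw2⟩ := rels_lt D hS w hw
        rw [sigma_wordProd σ X gs D.k hσX w.1 hw1, sigma_wordProd σ X gs D.k hσX w.2 hw2]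
        exact hrel w hw
      gen := by
        intro g
        have h1 : Subgroup.closure {g | ∃ i < D.k, g = X.getD i 1} = ⊤ := by
          apply closure_eq_top_of_stem σ ⟨hs, hcen, hcomm⟩
          rw [eq_top_iff, ← hgen]
          apply Subgroup.closure_mono
          rintro _ ⟨i, hi, rfl⟩
          exact ⟨X.getD i 1, ⟨i, hi, rfl⟩, hσX i hi⟩
        rw [h1]; exact Subgroup.mem_top g
      kap_mul := by
        intro g h hg hh
        have hg' : g ∈ Kc := (hmemKc g).mpr hg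
        have hh' : h ∈ Kc := (hmemKc h).mpr hh
        rw [hκ g hg', hκ h hh', hκ (g * h) (Kc.mul_mem hg' hh'), ← ofMul_mul, ← map_mul]
        rfl }
  -- the exponent of the group of labels
  have h2 : ∀ x : Additive pw.range, ((2 : ℤ) ^ (a + n2)) • x = 0 := by
    intro x
    obtain ⟨t, rfl⟩ := Additive.ofMul.surjective x
    obtain ⟨t, ⟨y, rfl⟩⟩ := t
    obtain ⟨k, rfl⟩ := QuotientGroup.mk_surjective y
    have e1 : σ (k.1 ^ (2 ^ n2 * u)) = 1 := by
      have h1 : σK k ^ Nat.card K = 1 := pow_card_eq_one'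
      rw [hKcard] at h1
      have := congrArg Subtype.val h1
      rw [map_pow]
      exact this
    have e2 : (k.1 ^ (2 ^ n2 * u)) ^ 2 ^ a = 1 := hkpow _ e1
    have e3 : k ^ (u * 2 ^ (a + n2)) = 1 := by
      apply Subtype.ext
      show k.1 ^ (u * 2 ^ (a + n2)) = 1
      rw [← e2, ← pow_mul]
      congr 1
      rw [pow_add]; ring
    rw [← ofMul_zpow]
    have e4 : ((2 : ℤ) ^ (a + n2)) = ((2 ^ (a + n2) : ℕ) : ℤ) := by push_cast; rfl
    rw [e4, zpow_natCast]
    have e5 : (⟨pw (QuotientGroup.mk k), ⟨QuotientGroup.mk k, rfl⟩⟩ : pw.range) ^ 2 ^ (a + n2)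
        = 1 := by
      have e6 : (⟨pw (QuotientGroup.mk k), ⟨QuotientGroup.mk k, rfl⟩⟩ : pw.range) = ψ k := rfl
      rw [e6, ← map_pow]
      apply Subtype.ext
      rw [hψ, ← map_pow, ← pow_mul, mul_comm, e3, map_one]
      rfl
    rw [e5]; rfl
  haveI : Finite (Additive pw.range) := by
    show Finite pw.range
    infer_instance
  obtain ⟨A₀, hA₀, hker⟩ := zd_main' D σ pt X κ hS H C hC hm (a + n2) h2
  -- the kernel of `ψ` lies in the kernel of `q`
  have hψq : ∀ x : Kc, ψ x = 1 → q x = 1 := by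
    intro x hx
    have h1 : x ^ u ∈ commutator Kc := hψ1 x hx
    have h3 : q (x ^ u) = 1 := Abelianization.commutator_subset_ker q h1
    rw [map_pow] at h3
    have h4 : q x ^ 2 ^ n2 = 1 := by
      rw [← hQcard]; exact pow_card_eq_one'
    exact eq_one_of_pow_odd_of_pow_two _ u n2 hu h3 h4
  -- `ψ` is injective on the kernel
  have hψz : ∀ z : Γ, ∀ hz : σ z = 1, ψ ⟨z, by rw [hmemKc, hz, one_smul]⟩ = 1 → z = 1 := by
    intro z hz hψz
    have hzK : z ∈ Kc := by rw [hmemKc, hz, one_smul]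
    have h1 : (⟨z, hzK⟩ : Kc) ^ u ∈ commutator Kc := hψ1 _ hψz
    have h3 : (⟨z, hzK⟩ : Kc) ^ u ∈ σK.ker := by
      rw [hσKker]
      show σ (z ^ u) = 1
      rw [map_pow, hz, one_pow]
    have h4 : ((⟨z, hzK⟩ : Kc) ^ u) ^ 2 ^ a = 1 := by
      apply Subtype.ext
      show (z ^ u) ^ 2 ^ a = 1
      apply hkpow
      rw [map_pow, hz, one_pow]
    have h5 := eq_one_of_mem_commutator_of_cyclic σK hσKs hσKcen c u a hu hidx _ h3 h4 h1
    have h6 : z ^ u = 1 := congrArg Subtype.val h5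
    exact eq_one_of_pow_odd_of_pow_two z u a hu h6 (hkpow z hz)
  -- the counting
  have hsec : ∀ x : K ⧸ N, ∃ k : Kc, q k = x := fun x => hqs x
  choose sec hsec' using hsec
  have hzK : ∀ z : σ.ker, z.1 ∈ Kc := by
    intro z
    rw [hmemKc, MonoidHom.mem_ker.mp z.2, one_smul]
  have hqz : ∀ z : σ.ker, q ⟨z.1, hzK z⟩ = 1 := by
    intro z
    have : σK ⟨z.1, hzK z⟩ = 1 := Subtype.ext (MonoidHom.mem_ker.mp z.2)
    show QuotientGroup.mk' N (σK ⟨z.1, hzK z⟩) = 1
    rw [this, map_one]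
  let F : σ.ker × (K ⧸ N) → A₀ := fun p =>
    ⟨κ (p.1.1 * (sec p.2).1), hker _ ((hmemKc _).mp (Kc.mul_mem (hzK p.1) (sec p.2).2))⟩
  have hFv : ∀ p : σ.ker × (K ⧸ N), ((F p : A₀) : Additive pw.range) =
      Additive.ofMul (ψ (⟨p.1.1, hzK p.1⟩ * sec p.2)) := by
    intro p
    show κ (p.1.1 * (sec p.2).1) = _
    rw [hκ _ (Kc.mul_mem (hzK p.1) (sec p.2).2)]
    rfl
  have hF : Function.Injective F := by
    rintro ⟨z, x⟩ ⟨z', x'⟩ hp
    have h1 := congrArg Subtype.val hp
    rw [hFv, hFv] at h1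
    have h3 : ψ (⟨z.1, hzK z⟩ * sec x) = ψ (⟨z'.1, hzK z'⟩ * sec x') :=
      Additive.ofMul.injective h1
    have h4 : ψ ((⟨z.1, hzK z⟩ * sec x) * (⟨z'.1, hzK z'⟩ * sec x')⁻¹) = 1 := by
      rw [map_mul, map_inv, h3, mul_inv_cancel]
    have h5 := hψq _ h4
    rw [map_mul, map_inv, map_mul, map_mul, hqz z, hqz z', one_mul, one_mul, hsec', hsec',
      mul_inv_eq_one] at h5
    subst h5
    have h6 : ψ ⟨z.1, hzK z⟩ = ψ ⟨z'.1, hzK z'⟩ := by
      rw [map_mul, map_mul] at h3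
      exact mul_right_cancel h3
    have h7 : ψ ⟨z.1 * z'.1⁻¹, by
        rw [hmemKc, map_mul, map_inv, MonoidHom.mem_ker.mp z.2, MonoidHom.mem_ker.mp z'.2,
          inv_one, mul_one, one_smul]⟩ = 1 := by
      have : (⟨z.1 * z'.1⁻¹, Kc.mul_mem (hzK z) (Kc.inv_mem (hzK z'))⟩ : Kc) =
          ⟨z.1, hzK z⟩ * (⟨z'.1, hzK z'⟩ : Kc)⁻¹ := rfl
      rw [this, map_mul, map_inv, h6, mul_inv_cancel]
    have h8 := hψz (z.1 * z'.1⁻¹) (by
      rw [map_mul, map_inv, MonoidHom.mem_ker.mp z.2, MonoidHom.mem_ker.mp z'.2, inv_one,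
        mul_one]) h7
    have h9 : z = z' := Subtype.ext (mul_inv_eq_one.mp h8)
    rw [h9]
  have h3 := Nat.card_le_card_of_injective F hF
  rw [Nat.card_prod, hQcard] at h3
  exact h3.trans hA₀

end Cfsg.Agent.Lib.Helper1.StemZD
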