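import Mathlib
import Cfsg.Agent.Lib.Helper1.G23F
import Cfsg.Agent.Lib.Helper1.G23H1
import Cfsg.Agent.Lib.Helper1.G23H2
import Cfsg.Agent.Lib.Helper1.G23H3
import Cfsg.Agent.Lib.Helper1.G23H4
import Cfsg.Agent.Lib.Helper1.StemZP5
import Cfsg.Agent.Lib.Helper1.StemZP6
import Cfsg.Agent.Lib.Helper1.StemZP7
import Cfsg.Agent.Lib.Helper1.Stem17
import Cfsg.Agent.Lib.Helper1.Stem21

set_option autoImplicit false
set_option maxRecDepth 100000

/-! The Chevalley group of type `G₂` over the field with 3 elements: the kernel of a stem extension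
has order dividing 3. -/

namespace Cfsg.Agent.Lib.Helper1.G23

open Cfsg Cfsg.Lie Cfsg.Agent.Lib.Helper1.MatCode Cfsg.Agent.Lib.Helper1.StemSA
  Cfsg.Agent.Lib.Helper1.Stem

universe u

/-- a stem extension of the stabilizer of the first vector whose kernel is a `p`-group, for a
prime `p` with a certificate without distinguished unknowns, is trivial -/
theorem K_bound (p : ℕ) [Fact p.Prime] (hV : StemZP.ValsBound.{u} D864 p 0)
    (hp7 : Nat.Coprime 7 p)
    (Γ : Type u) [Group Γ] [Finite Γ] (σ : Γ →* ↥K)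
    (hσ : Cfsg.IsStemExtension σ) (hp : IsPGroup p σ.ker) : Nat.card σ.ker ≤ 1 := by
  obtain ⟨a, ha⟩ := IsPGroup.iff_card.mp hp
  have h := StemZP.card_ker_mul_le_powP p D864 0 hV chk_struct864 (by decide) pt864 GK hgenK
    (fun j hj h => pt864_inj j hj 0 (by decide) h) pi_actK (hordK p hp7) hrelK 0 7 hp7
    (by norm_num) KB rfl (by rw [card_KB]; norm_num) 1 (by rw [orderOf_one, pow_zero])
    ⊤ (by rw [Subgroup.card_top, card_KB]) (fun x y => (QuotientGroup.subsingleton_quotient_top (G := ↥KB)).elim _ _) Γ σ hσ a ha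
  rw [pow_zero, mul_one] at h
  exact h

/-- a stem extension of the group whose kernel is a 2-group is trivial -/
theorem card_ker_two (Γ : Type u) [Group Γ] [Finite Γ] (σ : Γ →* Gm)
    (hσ : Cfsg.IsStemExtension σ) (hp : IsPGroup 2 σ.ker) : Nat.card σ.ker ≤ 1 := by
  haveI : Fact (Nat.Prime 2) := ⟨Nat.prime_two⟩
  have h := StemZP.card_ker_le_pow_mul_perf 2 D702 0
    (StemZP.valsBound_of_certR D702 C702b chk_cert702b) chk_struct702
    (by decide) pt702 GG hgen702 (fun j hj h => pt702_inj j hj 0 (by decide) h) pi_act702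
    (hord702 2 (by decide) (by decide)) hrel702 K_perfect 1
    (fun Γ' _ _ σ' hσ' hk => K_bound 2 (StemZP.valsBound_of_certR D864 C864b chk_cert864b)
      (by decide) Γ' σ' hσ' hk)
    Γ σ hσ hp
  rw [pow_zero, mul_one] at h
  exact h

/-- a stem extension of the group whose kernel is a 3-group has a kernel of order at most 3 -/
theorem card_ker_three (Γ : Type u) [Group Γ] [Finite Γ] (σ : Γ →* Gm)
    (hσ : Cfsg.IsStemExtension σ) (hp : IsPGroup 3 σ.ker) : Nat.card σ.ker ≤ 3 := by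
  haveI : Fact (Nat.Prime 3) := ⟨Nat.prime_three⟩
  have h := StemZP.card_ker_le_pow_mul_perf 3 D702 1
    (StemZP.valsBound_of_certR D702 C702c chk_cert702c) chk_struct702
    (by decide) pt702 GG hgen702 (fun j hj h => pt702_inj j hj 0 (by decide) h) pi_act702
    (hord702 3 (by decide) (by decide)) hrel702 K_perfect 1
    (fun Γ' _ _ σ' hσ' hk => K_bound 3 (StemZP.valsBound_of_certR D864 C864c chk_cert864c)
      (by decide) Γ' σ' hσ' hk)
    Γ σ hσ hp
  rw [pow_one, mul_one] at h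
  exact h

theorem sq_chk : (List.range 2061).all
    (fun ℓ => !(4245696 % (ℓ * ℓ) == 0) || (216 % ℓ == 0)) = true := by decide +kernel

theorem sq_dvd (ℓ : ℕ) (h : ℓ * ℓ ∣ 4245696) : ℓ ∣ 216 := by
  have hlt : ℓ < 2061 := by
    by_contra hge
    have h1 : 2061 * 2061 ≤ ℓ * ℓ := Nat.mul_le_mul (by omega) (by omega)
    have h2 := Nat.le_of_dvd (by norm_num) h
    omega
  have h1 := sq_chk
  rw [List.all_eq_true] at h1
  have h2 := h1 ℓ (List.mem_range.mpr hlt)
  rw [Bool.or_eq_true, Bool.not_eq_true', beq_eq_false_iff_ne, beq_iff_eq] at h2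
  rcases h2 with h2 | h2
  · exact absurd (Nat.mod_eq_zero_of_dvd h) h2
  · exact Nat.dvd_of_mod_eq_zero h2

theorem not_sq_dvd (p : ℕ) (hp : p.Prime) (h2 : p ≠ 2) (h3 : p ≠ 3) :
    ¬ p * p ∣ 4245696 := by
  intro h
  have h' := sq_dvd p h
  have e : (216 : ℕ) = 2 ^ 3 * 3 ^ 3 := by norm_num
  rw [e] at h'
  rcases (Nat.Prime.dvd_mul hp).mp h' with h' | h'
  · exact h2 ((Nat.prime_dvd_prime_iff_eq hp Nat.prime_two).mp (hp.dvd_of_dvd_pow h'))
  · exact h3 ((Nat.prime_dvd_prime_iff_eq hp Nat.prime_three).mp (hp.dvd_of_dvd_pow h'))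

/-- the kernel of a stem extension has order dividing 3 -/
theorem hub (Γ : Type u) [Group Γ] [Finite Γ] (σ : Γ →* Gm)
    (hσ : Cfsg.IsStemExtension σ) : Nat.card σ.ker ∣ 3 := by
  apply card_dvd_of_primary σ 3 (by norm_num) ?_ hσ
  intro p hp Γ' _ _ σ' hσ' hk
  by_cases h2 : p = 2
  · subst h2
    have hle := card_ker_two Γ' σ' hσ' hk
    have hpos : 0 < Nat.card σ'.ker := Nat.card_pos
    have h1 : Nat.card σ'.ker = 1 := by omega
    rw [h1]; exact one_dvd _
  · by_cases h3 : p = 3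
    · subst h3
      have hle := card_ker_three Γ' σ' hσ' hk
      obtain ⟨a, ha⟩ := IsPGroup.iff_card.mp hk
      rw [ha] at hle ⊢
      have ha2 : a ≤ 1 := by
        by_contra hlt
        have : 3 ^ 2 ≤ 3 ^ a := Nat.pow_le_pow_right (by norm_num) (by omega)
        omega
      exact (pow_dvd_pow 3 ha2).trans (by norm_num)
    · have h1 : Nat.card σ'.ker = 1 := by
        apply card_ker_eq_one_of_not_sq_dvd σ' hσ' p hk
        rw [card_Gm]
        exact not_sq_dvd p hp.out h2 h3
      rw [h1]; exact one_dvd _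

end Cfsg.Agent.Lib.Helper1.G23
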