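import Mathlib
import Cfsg.Prelude.Def_KGroupFacts
import Cfsg.Agent.Lib.Helper1.StemLL5

set_option autoImplicit false

/-! The hypotheses of the labelled lifts for a simple group acting on a type, on the invariant
subset made of the points of the tables. -/

namespace Cfsg.Agent.Lib.Helper1.StemLL

section sub

variable {G X : Type*} [Group G] [Finite G] [MulAction G X] (L : LLData) (raw : ℕ → X)
  (gs : List G)

/-- the hypotheses on the raw points -/
structure RawHyp : Prop where
  range : L.chkRange = true
  pos : 0 < L.m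
  act : ∀ i < L.k, ∀ j < L.m, gs.getD i 1 • raw j = raw (L.pi i j)
  gen : Subgroup.closure {g | ∃ i < L.k, g = gs.getD i 1} = ⊤
  inj : ∀ j < L.m, ∀ j' < L.m, raw j = raw j' → j = j'
  move : ∃ i < L.k, ∃ j < L.m, L.pi i j ≠ j

variable {L raw gs} (H : RawHyp L raw gs)
include H

theorem raw_pi_lt (i j : ℕ) (hi : i < L.k) (hj : j < L.m) : L.pi i j < L.m := by
  have hR := H.range
  unfold LLData.chkRange at hR
  simp only [List.all_eq_true, List.mem_range, decide_eq_true_eq] at hR
  exact hR i hi j hj

/-- the points of the tables are permuted by the group -/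
theorem raw_invariant (g : G) : ∀ j < L.m, ∃ j' < L.m, g • raw j = raw j' := by
  let S : Subgroup G :=
    { carrier := {g | ∀ j < L.m, ∃ j' < L.m, g • raw j = raw j'}
      one_mem' := fun j hj => ⟨j, hj, one_smul _ _⟩
      mul_mem' := by
        intro g h hg hh j hj
        obtain ⟨j', hj', h1⟩ := hh j hj
        obtain ⟨j'', hj'', h2⟩ := hg j' hj'
        exact ⟨j'', hj'', by rw [mul_smul, h1, h2]⟩
      inv_mem' := by
        intro g hg
        have hpow : ∀ n : ℕ, ∀ j < L.m, ∃ j' < L.m, g ^ n • raw j = raw j' := by
          intro n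
          induction n with
          | zero => intro j hj; exact ⟨j, hj, by rw [pow_zero, one_smul]⟩
          | succ n ih =>
            intro j hj
            obtain ⟨j', hj', h1⟩ := ih j hj
            obtain ⟨j'', hj'', h2⟩ := hg j' hj'
            exact ⟨j'', hj'', by rw [pow_succ', mul_smul, h1, h2]⟩
        have hinv : g⁻¹ = g ^ (orderOf g - 1) := by
          apply inv_eq_of_mul_eq_one_right
          rw [← pow_succ', Nat.sub_add_cancel (orderOf_pos g), pow_orderOf_eq_one]
        show ∀ j < L.m, _
        rw [hinv]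
        exact hpow _ }
  have h1 : Subgroup.closure {g | ∃ i < L.k, g = gs.getD i 1} ≤ S := by
    rw [Subgroup.closure_le]
    rintro g ⟨i, hi, rfl⟩ j hj
    exact ⟨L.pi i j, raw_pi_lt H i j hi hj, H.act i hi j hj⟩
  rw [H.gen] at h1
  exact h1 (Subgroup.mem_top g)

/-- the invariant subset -/
def rawSub : SubMulAction G X where
  carrier := {x | ∃ j < L.m, x = raw j}
  smul_mem' := by
    rintro g x ⟨j, hj, rfl⟩
    obtain ⟨j', hj', h⟩ := raw_invariant H g j hj
    exact ⟨j', hj', h⟩

/-- the points of the invariant subset -/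
def ptSub (j : ℕ) : rawSub H :=
  if h : j < L.m then ⟨raw j, j, h, rfl⟩ else ⟨raw 0, 0, H.pos, rfl⟩

theorem ptSub_val (j : ℕ) (hj : j < L.m) : (ptSub H j : X) = raw j := by
  unfold ptSub
  rw [dif_pos hj]

instance rawSub_nonempty : Nonempty (rawSub H) := ⟨ptSub H 0⟩

/-- the hypotheses of the labelled lifts -/
theorem sub_hyp [IsSimpleGroup G] : LLHyp L (ptSub H) gs where
  pt_inj := by
    intro j hj j' hj' h
    have h1 := congrArg Subtype.val h
    rw [ptSub_val H j hj, ptSub_val H j' hj'] at h1
    exact H.inj j hj j' hj' h1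
  pt_surj := by
    rintro ⟨x, j, hj, rfl⟩
    exact ⟨j, hj, Subtype.ext (ptSub_val H j hj)⟩
  pi_act := by
    intro i hi j hj
    apply Subtype.ext
    rw [SubMulAction.val_smul, ptSub_val H j hj, ptSub_val H _ (raw_pi_lt H i j hi hj)]
    exact H.act i hi j hj
  gen := H.gen
  faithful := by
    intro g hg
    have hg' : ∀ j < L.m, g • raw j = raw j := by
      intro j hj
      have := congrArg Subtype.val (hg j hj)
      rw [SubMulAction.val_smul, ptSub_val H j hj] at this
      exact this
    let N : Subgroup G :=
      { carrier := {g | ∀ j < L.m, g • raw j = raw j}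
        one_mem' := fun j _ => one_smul _ _
        mul_mem' := by
          intro a b ha hb j hj
          rw [mul_smul, hb j hj, ha j hj]
        inv_mem' := by
          intro a ha j hj
          rw [inv_smul_eq_iff, ha j hj] }
    have hN : N.Normal := by
      constructor
      intro a ha h j hj
      obtain ⟨j', hj', h1⟩ := raw_invariant H h⁻¹ j hj
      rw [mul_smul, mul_smul, h1, ha j' hj', ← h1, smul_inv_smul]
    have hne : N ≠ ⊤ := by
      intro htop
      obtain ⟨i, hi, j, hj, hne⟩ := H.move
      have h1 : gs.getD i 1 ∈ N := by rw [htop]; exact Subgroup.mem_top _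
      have h2 := h1 j hj
      rw [H.act i hi j hj] at h2
      exact hne (H.inj _ (raw_pi_lt H i j hi hj) _ hj h2)
    have hbot : N = ⊥ := (hN.eq_bot_or_eq_top).resolve_right hne
    have hgN : g ∈ N := hg'
    rw [hbot, Subgroup.mem_bot] at hgN
    exact hgN

end sub

end Cfsg.Agent.Lib.Helper1.StemLL
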