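import Mathlib
import Cfsg.Agent.Lib.Helper1.G23D9
import Cfsg.Agent.Lib.Helper1.StemLL7
import Cfsg.Agent.Lib.Helper1.StemLL8

set_option autoImplicit false
set_option maxRecDepth 100000
set_option maxHeartbeats 0

/-! The Chevalley group of type `G₂` over the field with 3 elements: the checks of the tables of a
stem extension with a kernel of order 3, on 756 vectors. -/

namespace Cfsg.Agent.Lib.Helper1.G23E

open Cfsg.Agent.Lib.Helper1 Cfsg.Agent.Lib.Helper1.StemLL

theorem L_range : L.chkRange = true := by decide +kernel

theorem L_sorted : L.chkSorted = true := by decide +kernel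

theorem L_tree : L.chkTree = true := by decide +kernel

theorem L_wit : L.chkWit = true := by decide +kernel

/-- the check that a generator lifts at a point -/
def liftRow (i j : ℕ) : Bool :=
  (List.range L.d).all fun t =>
    decide (L.nb j t < L.m) && decide (hintF i j t < L.d) &&
      (L.nb (L.pi i j) (hintF i j t) == L.pi i (L.nb j t)) &&
      ((L.rho (L.pi i j) (hintF i j t) + L.lam i j) % L.c ==
        (L.rho j t + L.lam i (L.nb j t)) % L.c)

/-- the check that a generator lifts at the points of a range -/
def chunkOK (i q : ℕ) : Bool :=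
  (List.range 95).all fun r => decide (756 ≤ 95 * q + r) || liftRow i (95 * q + r)

theorem chunk_0_0 : chunkOK 0 0 = true := by decide +kernel

theorem chunk_0_1 : chunkOK 0 1 = true := by decide +kernel

theorem chunk_0_2 : chunkOK 0 2 = true := by decide +kernel

theorem chunk_0_3 : chunkOK 0 3 = true := by decide +kernel

theorem chunk_0_4 : chunkOK 0 4 = true := by decide +kernel

theorem chunk_0_5 : chunkOK 0 5 = true := by decide +kernel

theorem chunk_0_6 : chunkOK 0 6 = true := by decide +kernel

theorem chunk_0_7 : chunkOK 0 7 = true := by decide +kernel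

theorem chunk_1_0 : chunkOK 1 0 = true := by decide +kernel

theorem chunk_1_1 : chunkOK 1 1 = true := by decide +kernel

theorem chunk_1_2 : chunkOK 1 2 = true := by decide +kernel

theorem chunk_1_3 : chunkOK 1 3 = true := by decide +kernel

theorem chunk_1_4 : chunkOK 1 4 = true := by decide +kernel

theorem chunk_1_5 : chunkOK 1 5 = true := by decide +kernel

theorem chunk_1_6 : chunkOK 1 6 = true := by decide +kernel

theorem chunk_1_7 : chunkOK 1 7 = true := by decide +kernel

theorem chunk_all : ∀ i < 2, ∀ q < 8, chunkOK i q = true := by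
  intro i hi q hq
  interval_cases i <;> interval_cases q
  · exact chunk_0_0
  · exact chunk_0_1
  · exact chunk_0_2
  · exact chunk_0_3
  · exact chunk_0_4
  · exact chunk_0_5
  · exact chunk_0_6
  · exact chunk_0_7
  · exact chunk_1_0
  · exact chunk_1_1
  · exact chunk_1_2
  · exact chunk_1_3
  · exact chunk_1_4
  · exact chunk_1_5
  · exact chunk_1_6
  · exact chunk_1_7

theorem liftRow_ok (i : ℕ) (hi : i < 2) (j : ℕ) (hj : j < 756) : liftRow i j = true := by
  have h := chunk_all i hi (j / 95) (by omega)
  unfold chunkOK at h
  rw [List.all_eq_true] at h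
  have h1 := h (j % 95) (List.mem_range.mpr (Nat.mod_lt _ (by norm_num)))
  rw [Nat.div_add_mod, Bool.or_eq_true, decide_eq_true_eq] at h1
  rcases h1 with h1 | h1
  · omega
  · exact h1

theorem L_liftH : L.chkLiftH hintF = true := by
  unfold LLData.chkLiftH
  rw [List.all_eq_true]
  intro i hi
  rw [List.all_eq_true]
  intro j hj
  exact liftRow_ok i (List.mem_range.mp hi) j (List.mem_range.mp hj)

theorem L_chk : L.chk = true := by
  unfold LLData.chk
  rw [LLData.chkLift_of_hint hintF L_range L_sorted L_liftH, L_range, L_tree, L_wit]
  decide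

end Cfsg.Agent.Lib.Helper1.G23E
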