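import Mathlib
import Cfsg.Agent.Lib.Helper1.G23C
import Cfsg.Agent.Lib.Helper1.G23D9
import Cfsg.Agent.Lib.Helper1.G23I1
import Cfsg.Agent.Lib.Helper1.StemLL7
import Cfsg.Agent.Lib.Helper1.StemLL8
import Cfsg.Agent.S1055

set_option autoImplicit false
set_option maxRecDepth 100000
set_option maxHeartbeats 0

/-! The Chevalley group of type `G₂` over the field with 3 elements: a stem extension with a kernel
of order 3, on 756 vectors. -/

namespace Cfsg.Agent.Lib.Helper1.G23E

open Cfsg Cfsg.Lie Cfsg.Agent.Lib.Helper1 Cfsg.Agent.Lib.Helper1.MatCode MulAction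
open Cfsg.Agent.Lib.Helper1.G23 Cfsg.Agent.Lib.Helper1.StemLL

/-- the 756 vectors -/
def pt (j : ℕ) : Mat := vpt (PV756 j)

theorem chk_vecs756 : chkVecs PV756 756 = true := by decide +kernel

theorem chk_act756 : chkAct cGG PV756 756 L.pi = true := by decide +kernel

theorem chk_distinct756 : chkDistinct PV756 756 = true := by decide +kernel

theorem pt_inj (j : ℕ) (hj : j < 756) (j' : ℕ) (hj' : j' < 756) (h : pt j = pt j') : j = j' :=
  vpt_inj_of PV756 756 chk_vecs756 chk_distinct756 j hj j' hj' h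

instance simpleGm : IsSimpleGroup Gm :=
  (Cfsg.Agent.S1055.result (F := ZMod 3) ⟨2, by decide, by decide⟩).1

theorem rawHyp : RawHyp L pt GG where
  range := L_range
  pos := by decide
  act := fun i hi j hj =>
    smul_vpt_of GG cGG PV756 756 L.pi φ_GG_get chk_vecs756 chk_act756 i hi j hj
  gen := hgen
  inj := fun j hj j' hj' h => pt_inj j hj j' hj' h
  move := ⟨mvI, by decide, mvJ, by decide, by decide +kernel⟩

instance : NeZero L.c := ⟨by decide⟩

/-- the action on the points -/
noncomputable instance actSub : MulAction Gm ↥(rawSub rawHyp) :=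
  @SubMulAction.mulAction Gm _ _ _ (rawSub rawHyp)

/-- the hypotheses of the labelled lifts -/
theorem hyp : LLHyp L (ptSub rawHyp) GG := sub_hyp rawHyp

/-- the cover -/
theorem cover : Cfsg.IsStemExtension (sig Gm L.c (EY L (ptSub rawHyp)) (rhoY L (ptSub rawHyp))) ∧
    IsCyclic (sig Gm L.c (EY L (ptSub rawHyp)) (rhoY L (ptSub rawHyp))).ker ∧
    Nat.card (sig Gm L.c (EY L (ptSub rawHyp)) (rhoY L (ptSub rawHyp))).ker = 3 :=
  stem_of_data L (ptSub rawHyp) GG hyp L_chk

end Cfsg.Agent.Lib.Helper1.G23E
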