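import Mathlib
import Cfsg.Agent.Lib.Helper1.G23G
import Cfsg.Agent.Lib.Helper1.G23I
import Cfsg.Agent.Lib.Helper1.Stem14
import Cfsg.Agent.Lib.Helper3.ChevRingEquiv

set_option autoImplicit false
set_option maxRecDepth 100000

/-! The multiplier of the Chevalley group of type `G₂` over a field with 3 elements. -/

namespace Cfsg.Agent.Lib.Helper1.G23

open Cfsg Cfsg.Lie Cfsg.Agent.Lib.Helper1
open Cfsg.Agent.Lib.Helper1.Stem Cfsg.Agent.Lib.Helper1.StemLL

universe u

/-- the multiplier of a group isomorphic to the group over the integers modulo 3 -/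
theorem main {G : Type u} [Group G] (f : Gm ≃* G) : Cfsg.HasCyclicSchurMultiplier G 3 := by
  apply hasCyclicSchurMultiplier_of_equiv f 3
  · exact ⟨_, inferInstance, inferInstance, _, G23E.cover⟩
  · intro Γ _ _ σ hσ
    have hd := hub Γ σ hσ
    refine ⟨?_, hd⟩
    have hle : Nat.card σ.ker ≤ 3 := Nat.le_of_dvd (by norm_num) hd
    have hpos : 0 < Nat.card σ.ker := Nat.card_pos
    by_cases h1 : Nat.card σ.ker = 1
    · haveI : Subsingleton σ.ker := (Nat.card_eq_one_iff_unique.mp h1).1
      exact isCyclic_of_subsingleton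
    · have h3 : Nat.card σ.ker = 3 := by
        rcases (Nat.dvd_prime Nat.prime_three).mp hd with h | h
        · exact absurd h h1
        · exact h
      haveI : Fact (Nat.Prime 3) := ⟨Nat.prime_three⟩
      exact isCyclic_of_prime_card h3

/-- the multiplier of the group over a field with 3 elements -/
theorem main_field {F : Type u} [Field F] [Fintype F] (hF : Fintype.card F = 3) :
    Cfsg.HasCyclicSchurMultiplier ↥(chevG2.group F) 3 :=
  main (Cfsg.Agent.Lib.Helper3.ChevRE.groupRingEquiv chevG2
    (ZMod.ringEquivOfPrime F Nat.prime_three hF))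

end Cfsg.Agent.Lib.Helper1.G23
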