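import Mathlib
import Cfsg.Agent.Lib.Helper2.G2LDefs
import Cfsg.Agent.Lib.Helper8.TB9
import Cfsg.Agent.Lib.Lead.SolvPSolv

set_option autoImplicit false

/-!
# S3801 (Gross), package E1: the minimal normal subgroup not centralised by an involution

`H` finite solvable with `O_2(H) = 1`, `t` an involution.  Then `t` does not centralise
`M = O_{2'}(H)`; a normal subgroup `D ≤ M` of `H` minimal subject to `[D,t] ≠ 1` is a `q`-group
(`q` odd) of class at most `2` all of whose `q`-th powers are central.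
-/

namespace Cfsg.Agent.Lib.Helper1.G2LE1

open Cfsg Cfsg.Agent.Lib.Helper2.G2L
open scoped commutatorElement

universe u

section Elementary

variable {H : Type u} [Group H]

/-- `cm a b` is the Mathlib commutator of the inverses -/
theorem cm_eq_commutatorElement (a b : H) : cm a b = ⁅a⁻¹, b⁻¹⁆ := by
  unfold cm
  rw [commutatorElement_def, inv_inv, inv_inv]

/-- an involution centralising the odd order commutator `cm d t` centralises `d` -/
theorem commute_of_commute_cm {t d : H} (ht2 : t ^ 2 = 1) (hodd : Odd (orderOf (cm d t)))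
    (hc : t * cm d t = cm d t * t) : t * d = d * t := by
  have htt : t * t = 1 := by rw [← sq]; exact ht2
  have htinv : t⁻¹ = t := inv_eq_of_mul_eq_one_left htt
  have key : cm d t * (t * cm d t * t⁻¹) = 1 := by
    unfold cm
    have e1 : d⁻¹ * t⁻¹ * d * t * (t * (d⁻¹ * t⁻¹ * d * t) * t⁻¹)
        = d⁻¹ * t⁻¹ * d * (t * t) * d⁻¹ * t⁻¹ * d := by group
    rw [e1, htt, htinv]
    have e2 : d⁻¹ * t * d * 1 * d⁻¹ * t * d = d⁻¹ * (t * t) * d := by group
    rw [e2, htt]; group
  have h2 : cm d t * cm d t = 1 := by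
    have : t * cm d t * t⁻¹ = cm d t := by rw [hc]; group
    rw [this] at key; exact key
  have h3 : orderOf (cm d t) ∣ 2 := orderOf_dvd_of_pow_eq_one (by rw [sq]; exact h2)
  have h4 : orderOf (cm d t) = 1 := by
    rcases (Nat.dvd_prime Nat.prime_two).mp h3 with h | h
    · exact h
    · exfalso; rw [h] at hodd; exact (by decide : ¬ Odd 2) hodd
  have h5 : cm d t = 1 := orderOf_eq_one_iff.mp h4
  have h6 : t * d = d * t * (cm d t)⁻¹ := by unfold cm; group
  rw [h6, h5, inv_one, mul_one]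

/-- class two: `a * c = c * a * z` with `z` commuting with `a` gives `a ^ n * c = c * a ^ n * z ^ n` -/
theorem pow_mul_of_central {a c z : H} (hza : z * a = a * z) (h : a * c = c * a * z) (n : ℕ) :
    a ^ n * c = c * a ^ n * z ^ n := by
  induction n with
  | zero => simp
  | succ n ih =>
    have hzn : z ^ n * a = a * z ^ n := (Commute.pow_left (show Commute z a from hza) n).eq
    calc a ^ (n + 1) * c = a ^ n * (a * c) := by rw [pow_succ, mul_assoc]
      _ = a ^ n * (c * a * z) := by rw [h]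
      _ = (a ^ n * c) * a * z := by simp only [mul_assoc]
      _ = c * a ^ n * z ^ n * a * z := by rw [ih]
      _ = c * a ^ n * (z ^ n * a) * z := by simp only [mul_assoc]
      _ = c * a ^ n * (a * z ^ n) * z := by rw [hzn]
      _ = c * (a ^ n * a) * (z ^ n * z) := by simp only [mul_assoc]
      _ = c * a ^ (n + 1) * z ^ (n + 1) := by rw [← pow_succ, ← pow_succ]

/-- class two: `a * c = c * a * z` with `z` commuting with `c` gives `a * c ^ n = c ^ n * a * z ^ n` -/
theorem mul_pow_of_central {a c z : H} (hzc : z * c = c * z) (h : a * c = c * a * z) (n : ℕ) :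
    a * c ^ n = c ^ n * a * z ^ n := by
  induction n with
  | zero => simp
  | succ n ih =>
    have hzn : z ^ n * c = c * z ^ n := (Commute.pow_left (show Commute z c from hzc) n).eq
    calc a * c ^ (n + 1) = (a * c ^ n) * c := by rw [pow_succ, mul_assoc]
      _ = c ^ n * a * z ^ n * c := by rw [ih]
      _ = c ^ n * a * (z ^ n * c) := by simp only [mul_assoc]
      _ = c ^ n * a * (c * z ^ n) := by rw [hzn]
      _ = c ^ n * (a * c) * z ^ n := by simp only [mul_assoc]
      _ = c ^ n * (c * a * z) * z ^ n := by rw [h]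
      _ = (c ^ n * c) * a * (z * z ^ n) := by simp only [mul_assoc]
      _ = c ^ (n + 1) * a * z ^ (n + 1) := by rw [← pow_succ, ← pow_succ']

end Elementary


section Main

variable {H : Type u} [Group H] [Finite H]

/-- elements of `O_{2'}(H)` have odd order -/
theorem odd_orderOf_of_mem_pPrimeCore {x : H} (hx : x ∈ pPrimeCore 2 H) : Odd (orderOf x) := by
  have h1 : (Nat.card (pPrimeCore 2 H)).Coprime 2 := Cfsg.Agent.Lib.Helper6.pPrimeCore_coprime 2
  have h2 : orderOf x ∣ Nat.card (pPrimeCore 2 H) := Subgroup.orderOf_dvd_natCard _ hx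
  exact Nat.Coprime.odd_of_left (Nat.Coprime.coprime_dvd_left h2 h1).symm

omit [Finite H] in
/-- the three subgroups step: if `⁅D, T⁆ = D` and `T` centralises the normal subgroup `E ≤ D`
then `D` centralises `E` -/
theorem comm_eq_bot_of_three {D T E : Subgroup H} (hE : E.Normal) (hDT : ⁅D, T⁆ = D)
    (hTE : ⁅T, E⁆ = ⊥) : ⁅D, E⁆ = ⊥ := by
  have h1 : ⁅⁅T, E⁆, D⁆ = ⊥ := by rw [hTE, Subgroup.commutator_bot_left]
  have h2 : ⁅⁅E, D⁆, T⁆ = ⊥ := by
    have hle : ⁅⁅E, D⁆, T⁆ ≤ ⁅E, T⁆ :=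
      Subgroup.commutator_mono (Subgroup.commutator_le_left E D) le_rfl
    rw [Subgroup.commutator_comm E T, hTE] at hle
    exact le_bot_iff.mp hle
  have h3 := Subgroup.commutator_commutator_eq_bot_of_rotate h1 h2
  rwa [hDT] at h3


/-- E1 : the minimal normal subgroup not centralised by the involution `t` -/
theorem exists_minimal_D (H : Type u) [Group H] [Finite H] (hH : Group.IsSolvable H)
    (hO2 : pCore 2 H = ⊥) (t : H) (ht2 : t ^ 2 = 1) (ht : t ≠ 1) :
    ∃ (q : ℕ) (D : Subgroup H), q.Prime ∧ q ≠ 2 ∧ D.Normal ∧ IsPGroup q D ∧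
      (∃ d ∈ D, t * d ≠ d * t) ∧
      (∀ a ∈ D, ∀ b ∈ D, ∀ c ∈ D, cm a b * c = c * cm a b) ∧
      (∀ a ∈ D, ∀ c ∈ D, a ^ q * c = c * a ^ q) := by
  classical
  have : Fact (Nat.Prime 2) := ⟨Nat.prime_two⟩
  have := hH
  have hps : IsPSolvable 2 H := Cfsg.Agent.Lib.Lead.SolvPSolv.isPSolvable_of_isSolvable' 2 H
  have hCM := Cfsg.Agent.Lib.Helper8.TB.centralizer_pPrimeCore_le_of_isPSolvable hps hO2
  obtain ⟨M, hM⟩ : ∃ M : Subgroup H, M = pPrimeCore 2 H := ⟨_, rfl⟩
  rw [← hM] at hCM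
  have hModd : ∀ x ∈ M, Odd (orderOf x) := by
    intro x hx; rw [hM] at hx; exact odd_orderOf_of_mem_pPrimeCore hx
  have hMn : M.Normal := by rw [hM]; infer_instance
  -- `t ∉ M`
  have htM : t ∉ M := by
    intro h
    have h1 := hModd t h
    have h3 : orderOf t ∣ 2 := orderOf_dvd_of_pow_eq_one ht2
    rcases (Nat.dvd_prime Nat.prime_two).mp h3 with h4 | h4
    · exact ht (orderOf_eq_one_iff.mp h4)
    · rw [h4] at h1; exact (by decide : ¬ Odd 2) h1
  have htC : ∃ d ∈ M, t * d ≠ d * t := by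
    by_contra hcon
    apply htM; apply hCM
    rw [Subgroup.mem_centralizer_iff]
    intro d hd
    by_contra hne
    exact hcon ⟨d, hd, fun h => hne h.symm⟩
  -- the minimal `D`
  obtain ⟨D, ⟨hDn, hDM, hDt⟩, hmin⟩ := wellFounded_lt.has_min
    {D : Subgroup H | D.Normal ∧ D ≤ M ∧ ∃ d ∈ D, t * d ≠ d * t} ⟨M, hMn, le_rfl, htC⟩
  have := hDn
  have hmin' : ∀ E : Subgroup H, E.Normal → E ≤ D → (∃ d ∈ E, t * d ≠ d * t) → E = D := by
    intro E hEn hED hEt
    by_contra hne
    exact hmin E ⟨hEn, hED.trans hDM, hEt⟩ (lt_of_le_of_ne hED hne)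
  have hDodd : ∀ x ∈ D, Odd (orderOf x) := fun x hx => hModd x (hDM hx)
  -- the normal closure of `t`
  obtain ⟨T, hT⟩ : ∃ T : Subgroup H, T = Subgroup.normalClosure {t} := ⟨_, rfl⟩
  have hTn : T.Normal := by rw [hT]; exact Subgroup.normalClosure_normal
  have htT : t ∈ T := by rw [hT]; exact Subgroup.subset_normalClosure (Set.mem_singleton t)
  have hTE : ∀ E : Subgroup H, E.Normal → E ≤ D → E ≠ D → ⁅T, E⁆ = ⊥ := by
    intro E hEn hED hne
    have := hEn
    rw [Subgroup.commutator_eq_bot_iff_le_centralizer, hT]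
    apply Subgroup.normalClosure_le_normal
    intro x hx
    rw [Set.mem_singleton_iff] at hx
    rw [hx, SetLike.mem_coe, Subgroup.mem_centralizer_iff]
    intro d hd
    by_contra hcon
    exact hne (hmin' E hEn hED ⟨d, hd, fun h => hcon h.symm⟩)
  -- `⁅D, T⁆ = D`
  have hDT : ⁅D, T⁆ = D := by
    apply hmin' _ inferInstance (Subgroup.commutator_le_left D T)
    obtain ⟨d, hd, hdt⟩ := hDt
    refine ⟨cm d t, ?_, ?_⟩
    · rw [cm_eq_commutatorElement]
      exact Subgroup.commutator_mem_commutator (D.inv_mem hd) (T.inv_mem htT)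
    · intro hc
      apply hdt
      apply commute_of_commute_cm ht2 _ hc
      apply hDodd
      have hcm : cm d t = d⁻¹ * (t⁻¹ * d * t⁻¹⁻¹) := by unfold cm; group
      rw [hcm]
      exact D.mul_mem (D.inv_mem hd) (hDn.conj_mem d hd t⁻¹)
  -- every proper normal subgroup of `H` inside `D` is central in `D`
  have hDE : ∀ E : Subgroup H, E.Normal → E ≤ D → E ≠ D → ⁅D, E⁆ = ⊥ :=
    fun E hEn hED hne => comm_eq_bot_of_three hEn hDT (hTE E hEn hED hne)
  have hDE' : ∀ E : Subgroup H, E.Normal → E ≤ D → E ≠ D →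
      ∀ e ∈ E, ∀ c ∈ D, e * c = c * e := by
    intro E hEn hED hne e he c hc
    have h1 := Subgroup.commutator_eq_bot_iff_le_centralizer.mp (hDE E hEn hED hne)
    exact (Subgroup.mem_centralizer_iff.mp (h1 hc)) e he
  -- `D` is nontrivial and solvable, so `⁅D, D⁆ ≠ D`
  have hD' : ⁅D, D⁆ ≠ D := by
    intro hcon
    have hnt : Nontrivial D := by
      obtain ⟨d, hd, hdt⟩ := hDt
      refine ⟨⟨⟨d, hd⟩, 1, ?_⟩⟩
      intro h
      have h1 : d = 1 := congrArg Subtype.val h
      apply hdt; rw [h1, mul_one, one_mul]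
    have hlt := Group.IsSolvable.commutator_lt_top_of_nontrivial D
    apply hlt.ne
    apply Subgroup.map_injective D.subtype_injective
    rw [commutator_def, Subgroup.map_commutator, ← MonoidHom.range_eq_map,
      Subgroup.range_subtype]
    exact hcon
  have hD'n : (⁅D, D⁆ : Subgroup H).Normal := inferInstance
  -- class at most two
  have hcl : ∀ a ∈ D, ∀ b ∈ D, ∀ c ∈ D, cm a b * c = c * cm a b := by
    intro a ha b hb c hc
    apply hDE' ⁅D, D⁆ hD'n (Subgroup.commutator_le_left D D) hD' _ _ c hc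
    rw [cm_eq_commutatorElement]
    exact Subgroup.commutator_mem_commutator (D.inv_mem ha) (D.inv_mem hb)
  -- `D` is nilpotent
  have hnil : Group.IsNilpotent D := by
    apply Subgroup.isNilpotent_of_lowerCentralSeries_eq_bot (n := 2)
    rw [Subgroup.lowerCentralSeries_succ, Subgroup.lowerCentralSeries_succ,
      Subgroup.lowerCentralSeries_zero, Subgroup.commutator_comm]
    exact hDE ⁅D, D⁆ hD'n (Subgroup.commutator_le_left D D) hD'
  -- some Sylow subgroup of `D` is not centralised by `t`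
  obtain ⟨q, hq, P, x, hxP, hxt⟩ : ∃ (q : ℕ) (_ : Fact q.Prime) (P : Sylow q D) (x : D),
      x ∈ P ∧ t * (x : H) ≠ (x : H) * t := by
    by_contra hcon
    have hall : ∀ (q : ℕ) (_ : Fact q.Prime) (P : Sylow q D) (x : D), x ∈ P →
        t * (x : H) = (x : H) * t := by
      intro q hq P x hx
      by_contra hne
      exact hcon ⟨q, hq, P, x, hx, hne⟩
    obtain ⟨C, hCdef⟩ : ∃ C : Subgroup D, C = (Subgroup.centralizer {t}).subgroupOf D := ⟨_, rfl⟩
    have hC : C = ⊤ := by
      apply Subgroup.eq_top_of_card_eq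
      apply Nat.dvd_antisymm (Subgroup.card_subgroup_dvd_card C)
      rw [← Nat.factorization_prime_le_iff_dvd Nat.card_pos.ne' Nat.card_pos.ne']
      intro p hp
      have hpf : Fact p.Prime := ⟨hp⟩
      obtain ⟨P⟩ : Nonempty (Sylow p D) := inferInstance
      rw [← hp.pow_dvd_iff_le_factorization Nat.card_pos.ne', ← P.card_eq_multiplicity]
      apply Subgroup.card_dvd_of_le
      intro x hx
      rw [hCdef, Subgroup.mem_subgroupOf, Subgroup.mem_centralizer_iff]
      intro y hy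
      rw [Set.mem_singleton_iff] at hy
      rw [hy]; exact hall p hpf P x hx
    obtain ⟨d, hd, hdt⟩ := hDt
    apply hdt
    have h1 : (⟨d, hd⟩ : D) ∈ C := by rw [hC]; exact Subgroup.mem_top _
    rw [hCdef, Subgroup.mem_subgroupOf, Subgroup.mem_centralizer_iff] at h1
    exact h1 t rfl
  have hPn : (P : Subgroup D).Normal := inferInstance
  have hPc : (P : Subgroup D).Characteristic := Sylow.characteristic_of_normal P hPn
  have hEn : ((P : Subgroup D).map D.subtype).Normal :=
    ConjAct.normal_of_characteristic_of_normal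
  have hED : (P : Subgroup D).map D.subtype = D := by
    apply hmin' _ hEn (Subgroup.map_subtype_le _)
    exact ⟨x, Subgroup.mem_map_of_mem _ hxP, hxt⟩
  have hDq : IsPGroup q D := by
    have h1 := P.isPGroup'.map D.subtype
    rw [hED] at h1; exact h1
  have hq2 : q ≠ 2 := by
    intro h2
    apply hxt
    obtain ⟨k, hk⟩ := hDq x
    have h1 : orderOf (x : H) ∣ 2 ^ k := by
      apply orderOf_dvd_of_pow_eq_one
      rw [← h2]
      have h0 := congrArg Subtype.val hk
      simpa using h0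
    have h3 := hDodd x x.2
    have h4 : orderOf (x : H) = 1 :=
      Nat.Coprime.eq_one_of_dvd (Nat.Coprime.pow_right k (Nat.coprime_two_left.mpr h3).symm) h1
    rw [orderOf_eq_one_iff.mp h4, mul_one, one_mul]
  refine ⟨q, D, hq.out, hq2, hDn, hDq, hDt, hcl, ?_⟩
  -- the centraliser in `D` of the `q`-th powers
  obtain ⟨Y, hY⟩ : ∃ Y : Subgroup H,
      Y = D ⊓ Subgroup.centralizer {y | ∃ c ∈ D, c ^ q = y} := ⟨_, rfl⟩
  have hYmem : ∀ a, a ∈ Y ↔ a ∈ D ∧ ∀ c ∈ D, c ^ q * a = a * c ^ q := by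
    intro a
    rw [hY, Subgroup.mem_inf, Subgroup.mem_centralizer_iff]
    constructor
    · rintro ⟨h1, h2⟩; exact ⟨h1, fun c hc => h2 _ ⟨c, hc, rfl⟩⟩
    · rintro ⟨h1, h2⟩; refine ⟨h1, ?_⟩; rintro y ⟨c, hc, rfl⟩; exact h2 c hc
  have hYn : Y.Normal := by
    constructor
    intro n hn g
    rw [hYmem] at hn ⊢
    refine ⟨hDn.conj_mem n hn.1 g, ?_⟩
    intro c hc
    have h1 := hn.2 (g⁻¹ * c * g⁻¹⁻¹) (hDn.conj_mem c hc g⁻¹)
    rw [conj_pow] at h1
    obtain ⟨w, hw⟩ : ∃ w, w = c ^ q := ⟨_, rfl⟩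
    rw [← hw] at h1 ⊢
    calc w * (g * n * g⁻¹) = g * ((g⁻¹ * w * g⁻¹⁻¹) * n) * g⁻¹ := by group
      _ = g * (n * (g⁻¹ * w * g⁻¹⁻¹)) * g⁻¹ := by rw [h1]
      _ = g * n * g⁻¹ * w := by group
  have hYD : Y = D := by
    by_contra hne
    have hYle : Y ≤ D := by rw [hY]; exact inf_le_left
    have hYc := hDE' Y hYn hYle hne
    obtain ⟨a, haD, haY⟩ : ∃ a ∈ D, a ∉ Y := by
      by_contra hcon
      apply hne
      apply le_antisymm hYle
      intro a ha
      by_contra h
      exact hcon ⟨a, ha, h⟩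
    have hex : ∃ k, ∀ c ∈ D, a ^ q ^ k * c = c * a ^ q ^ k := by
      obtain ⟨k, hk⟩ := hDq ⟨a, haD⟩
      refine ⟨k, fun c _ => ?_⟩
      have h0 : a ^ q ^ k = 1 := by simpa using congrArg Subtype.val hk
      rw [h0, one_mul, mul_one]
    have hk0 : Nat.find hex ≠ 0 := by
      intro h0
      have h1 := Nat.find_spec hex
      rw [h0, pow_zero, pow_one] at h1
      apply haY
      rw [hYmem]
      exact ⟨haD, fun c hc => (h1 (c ^ q) (D.pow_mem hc q)).symm⟩
    obtain ⟨j, hj⟩ := Nat.exists_eq_succ_of_ne_zero hk0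
    have hb1 : ¬ ∀ c ∈ D, a ^ q ^ j * c = c * a ^ q ^ j :=
      Nat.find_min hex (by rw [hj]; exact Nat.lt_succ_self j)
    have hb2 : ∀ c ∈ D, (a ^ q ^ j) ^ q * c = c * (a ^ q ^ j) ^ q := by
      have h1 := Nat.find_spec hex
      rw [hj, pow_succ, pow_mul] at h1
      exact h1
    apply hb1
    have hbD : a ^ q ^ j ∈ D := D.pow_mem haD _
    apply hYc
    rw [hYmem]
    refine ⟨hbD, fun c hc => ?_⟩
    obtain ⟨b, hb⟩ : ∃ b, b = a ^ q ^ j := ⟨_, rfl⟩
    rw [← hb] at hbD hb2 ⊢
    have hz1 : cm b c * b = b * cm b c := hcl b hbD c hc b hbD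
    have hz2 : cm b c * c = c * cm b c := hcl b hbD c hc c hc
    have hbc : b * c = c * b * cm b c := by unfold cm; group
    have h1 := pow_mul_of_central hz1 hbc q
    have h2 := mul_pow_of_central hz2 hbc q
    have h3 : cm b c ^ q = 1 := by
      rw [hb2 c hc] at h1
      have h4 : c * b ^ q * 1 = c * b ^ q * cm b c ^ q := by rw [mul_one]; exact h1
      exact (mul_left_cancel h4).symm
    rw [h3, mul_one] at h2
    exact h2.symm
  intro a ha c hc
  have h1 : c ∈ Y := by rw [hYD]; exact hc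
  rw [hYmem] at h1
  exact h1.2 a ha

end Main

end Cfsg.Agent.Lib.Helper1.G2LE1
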