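import Mathlib
import Cfsg.Prelude.Def_G2
import Cfsg.Agent.Lib.Helper6.G2O_Defs
set_option autoImplicit false

/-!
# Idempotents of Zorn's vector-matrix algebra (S4632 swarm, PK-IDEM)

* `idem_iff` : `x * x = x` iff `x = 0`, `x = 1` or (`α + β = 1` and `α β = a · b`);
* `card_nontrivIdem` : over the field with `q` elements there are `q^6 + q^3` nontrivial idempotents.
-/

namespace Cfsg.Agent.Lib.Helper6.G2O

open Cfsg Cfsg.Lie Matrix

variable {F : Type*} [Field F]

/-- `x` is a nontrivial idempotent, in coordinates -/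
def IsNontrivIdem (x : Fin 8 → F) : Prop :=
  x 0 + x 7 = 1 ∧ x 0 * x 7 = dot3 (zA F x) (zB F x)

theorem isNontrivIdem_mk8 (α β : F) (a b : Fin 3 → F) :
    IsNontrivIdem (mk8 α a b β) ↔ α + β = 1 ∧ α * β = dot3 a b := by
  unfold IsNontrivIdem
  rw [zA_mk8, zB_mk8, mk8_apply_0, mk8_apply_7]

theorem zornMul_self_mk8 (α β : F) (a b : Fin 3 → F) :
    zornMul (mk8 α a b β) (mk8 α a b β) =
      mk8 (α * α + dot3 a b) ((α + β) • a) ((α + β) • b) (dot3 a b + β * β) := by
  rw [zornMul_mk8, cross3_self, cross3_self, sub_zero, add_zero, dot3_comm b a, add_smul, add_smul]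

/-- the idempotents of the Zorn algebra -/
theorem idem_iff (x : Fin 8 → F) :
    zornMul x x = x ↔ x = 0 ∨ x = one8 ∨ IsNontrivIdem x := by
  rw [← mk8_eta x]
  set α := x 0
  set β := x 7
  set a := zA F x
  set b := zB F x
  rw [zornMul_self_mk8, isNontrivIdem_mk8]
  constructor
  · intro h
    obtain ⟨h1, h2, h3, h4⟩ := mk8_inj h
    by_cases hab : a = 0 ∧ b = 0
    · obtain ⟨ha, hb⟩ := hab
      rw [ha, hb, dot3_zero_left] at h1 h4
      have hα : α = 0 ∨ α = 1 := by
        have : α * (α - 1) = 0 := by linear_combination h1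
        rcases mul_eq_zero.mp this with h | h
        · exact Or.inl h
        · exact Or.inr (sub_eq_zero.mp h)
      have hβ : β = 0 ∨ β = 1 := by
        have : β * (β - 1) = 0 := by linear_combination h4
        rcases mul_eq_zero.mp this with h | h
        · exact Or.inl h
        · exact Or.inr (sub_eq_zero.mp h)
      rcases hα with hα | hα <;> rcases hβ with hβ | hβ
      · left
        rw [hα, hβ, ha, hb, mk8_zero]
      · right; right
        rw [hα, hβ, ha, hb, dot3_zero_left]
        exact ⟨by ring, by ring⟩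
      · right; right
        rw [hα, hβ, ha, hb, dot3_zero_left]
        exact ⟨by ring, by ring⟩
      · right; left
        rw [hα, hβ, ha, hb]
        rfl
    · right; right
      have hsum : α + β = 1 := by
        by_contra hne
        apply hab
        have hne' : α + β - 1 ≠ 0 := sub_ne_zero.mpr hne
        constructor
        · have : (α + β - 1) • a = 0 := by
            rw [sub_smul, one_smul, h2, sub_self]
          exact (smul_eq_zero.mp this).resolve_left hne'
        · have : (α + β - 1) • b = 0 := by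
            rw [sub_smul, one_smul, h3, sub_self]
          exact (smul_eq_zero.mp this).resolve_left hne'
      refine ⟨hsum, ?_⟩
      have hβ : β = 1 - α := by linear_combination hsum
      rw [hβ]
      linear_combination -h1
  · rintro (h | h | ⟨hs, hp⟩)
    · obtain ⟨h1, h2, h3, h4⟩ := mk8_eq_zero_iff.mp h
      rw [h1, h2, h3, h4]
      simp
    · have h' : mk8 α a b β = mk8 1 0 0 1 := h
      obtain ⟨h1, h2, h3, h4⟩ := mk8_inj h'
      rw [h1, h2, h3, h4]
      simp
    · rw [hs, one_smul, one_smul, ← hp]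
      have hβ : β = 1 - α := by linear_combination hs
      congr 1
      · rw [hβ]; ring
      · rw [hβ]; ring

theorem IsNontrivIdem.ne_zero {x : Fin 8 → F} (h : IsNontrivIdem x) : x ≠ 0 := by
  intro h0
  have := h.1
  rw [h0] at this
  simp at this

theorem IsNontrivIdem.ne_one8 {x : Fin 8 → F} (h2 : (2 : F) ≠ 1) (h : IsNontrivIdem x) : x ≠ one8 := by
  intro h0
  have := h.1
  rw [h0] at this
  apply h2
  have e0 : (one8 : Fin 8 → F) 0 = 1 := rfl
  have e7 : (one8 : Fin 8 → F) 7 = 1 := rfl
  rw [e0, e7] at this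
  linear_combination this

theorem isNontrivIdem_e1 : IsNontrivIdem (e1 : Fin 8 → F) := by
  unfold e1
  rw [isNontrivIdem_mk8]
  simp

/-! ### counting -/

section count

variable [Fintype F] [DecidableEq F]

/-- the fibres of a nonzero linear functional `a · -` on `F³` have `q²` elements -/
theorem card_fiber_dot3 (a : Fin 3 → F) (ha : a ≠ 0) (c : F) :
    Fintype.card {b : Fin 3 → F // dot3 a b = c} = Fintype.card F ^ 2 := by
  obtain ⟨v₀, hv₀⟩ : ∃ v₀ : Fin 3 → F, dot3 a v₀ = 1 := by
    obtain ⟨i, hi⟩ : ∃ i, a i ≠ 0 := by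
      by_contra hcon
      push Not at hcon
      exact ha (funext hcon)
    refine ⟨Pi.single i (a i)⁻¹, ?_⟩
    fin_cases i <;> simp [dot3] at hi ⊢ <;> exact mul_inv_cancel₀ hi
  have e : (Fin 3 → F) ≃ F × {b : Fin 3 → F // dot3 a b = c} :=
    { toFun := fun v => (dot3 a v, ⟨v + (c - dot3 a v) • v₀, by
        rw [dot3_add_right, dot3_smul_right, hv₀]; ring⟩)
      invFun := fun p => p.2.1 + (p.1 - c) • v₀
      left_inv := by
        intro v
        show v + (c - dot3 a v) • v₀ + (dot3 a v - c) • v₀ = v
        module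
      right_inv := by
        rintro ⟨t, u, hu⟩
        have h1 : dot3 a (u + (t - c) • v₀) = t := by
          rw [dot3_add_right, dot3_smul_right, hv₀, hu]; ring
        refine Prod.ext h1 (Subtype.ext ?_)
        show u + (t - c) • v₀ + (c - dot3 a (u + (t - c) • v₀)) • v₀ = u
        rw [h1]
        module }
  have hcard := Fintype.card_congr e
  rw [Fintype.card_prod, Fintype.card_fun, Fintype.card_fin] at hcard
  have hq : 0 < Fintype.card F := Fintype.card_pos
  have : Fintype.card F * Fintype.card {b : Fin 3 → F // dot3 a b = c} =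
      Fintype.card F * Fintype.card F ^ 2 := by
    rw [← hcard]; ring
  exact Nat.eq_of_mul_eq_mul_left hq this

/-- the number of pairs `(a, b)` with `a · b = c` -/
theorem card_pairs_dot3 (c : F) :
    Fintype.card {p : (Fin 3 → F) × (Fin 3 → F) // dot3 p.1 p.2 = c} =
      (Fintype.card F ^ 3 - 1) * Fintype.card F ^ 2 + if c = 0 then Fintype.card F ^ 3 else 0 := by
  rw [Fintype.card_congr (Equiv.subtypeProdEquivSigmaSubtype
    (fun (a b : Fin 3 → F) => dot3 a b = c)), Fintype.card_sigma,
    ← Finset.add_sum_erase Finset.univ _ (Finset.mem_univ (0 : Fin 3 → F)), add_comm]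
  congr 1
  · rw [Finset.sum_congr rfl (fun a ha => card_fiber_dot3 a (Finset.ne_of_mem_erase ha) c),
      Finset.sum_const, Finset.card_erase_of_mem (Finset.mem_univ _), Finset.card_univ,
      Fintype.card_fun, Fintype.card_fin, smul_eq_mul]
  · by_cases hc : c = 0
    · rw [if_pos hc, hc]
      have : Fintype.card {b : Fin 3 → F // dot3 (0 : Fin 3 → F) b = 0} = Fintype.card (Fin 3 → F) := by
        apply Fintype.card_congr
        exact (Equiv.subtypeUnivEquiv (fun b => dot3_zero_left b))
      rw [this, Fintype.card_fun, Fintype.card_fin]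
    · rw [if_neg hc]
      apply Fintype.card_eq_zero_iff.mpr
      refine ⟨fun ⟨b, hb⟩ => hc ?_⟩
      rw [← hb, dot3_zero_left]

/-- the number of triples `(α, a, b)` with `α (1 - α) = a · b` -/
theorem card_triples :
    Fintype.card {t : F × ((Fin 3 → F) × (Fin 3 → F)) // dot3 t.2.1 t.2.2 = t.1 * (1 - t.1)} =
      Fintype.card F ^ 6 + Fintype.card F ^ 3 := by
  rw [Fintype.card_congr (Equiv.subtypeProdEquivSigmaSubtype
    (fun (α : F) (p : (Fin 3 → F) × (Fin 3 → F)) => dot3 p.1 p.2 = α * (1 - α))), Fintype.card_sigma,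
    Finset.sum_congr rfl (fun α _ => card_pairs_dot3 (α * (1 - α))), Finset.sum_add_distrib,
    Finset.sum_const, Finset.card_univ, smul_eq_mul, ← Finset.sum_filter]
  have hfil : (Finset.univ.filter (fun α : F => α * (1 - α) = 0)) = {0, 1} := by
    ext α
    simp only [Finset.mem_filter, Finset.mem_univ, true_and, Finset.mem_insert, Finset.mem_singleton,
      mul_eq_zero, sub_eq_zero]
    constructor
    · rintro (h | h)
      · exact Or.inl h
      · exact Or.inr h.symm
    · rintro (h | h)
      · exact Or.inl h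
      · exact Or.inr h.symm
  rw [hfil, Finset.sum_const, Finset.card_pair (zero_ne_one), smul_eq_mul]
  obtain ⟨k, hk⟩ : ∃ k, Fintype.card F ^ 3 = k + 1 :=
    ⟨Fintype.card F ^ 3 - 1, (Nat.sub_add_cancel (Nat.one_le_pow _ _ Fintype.card_pos)).symm⟩
  have h6 : Fintype.card F ^ 6 = (k + 1) * (k + 1) := by rw [← hk]; ring
  have h2 : Fintype.card F * ((k + 1 - 1) * Fintype.card F ^ 2) = k * (k + 1) := by
    rw [Nat.add_sub_cancel, ← hk]; ring
  rw [hk, h6, h2]
  ring

/-- **PK-IDEM.**  The number of nontrivial idempotents of the Zorn algebra over the field with `q` elements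
is `q^6 + q^3`. -/
theorem card_nontrivIdem :
    Nat.card {x : Fin 8 → F // IsNontrivIdem x} = Fintype.card F ^ 6 + Fintype.card F ^ 3 := by
  classical
  rw [← card_triples (F := F), Nat.card_eq_fintype_card]
  apply Fintype.card_congr
  exact
    { toFun := fun x => ⟨(x.1 0, (zA F x.1, zB F x.1)), by
        have h := x.2
        unfold IsNontrivIdem at h
        show dot3 (zA F x.1) (zB F x.1) = x.1 0 * (1 - x.1 0)
        rw [← h.2]
        have : x.1 7 = 1 - x.1 0 := by linear_combination h.1
        rw [this]⟩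
      invFun := fun t => ⟨mk8 t.1.1 t.1.2.1 t.1.2.2 (1 - t.1.1), by
        rw [isNontrivIdem_mk8]
        exact ⟨by ring, t.2.symm⟩⟩
      left_inv := by
        rintro ⟨x, hx⟩
        apply Subtype.ext
        show mk8 (x 0) (zA F x) (zB F x) (1 - x 0) = x
        have : 1 - x 0 = x 7 := by linear_combination -hx.1
        rw [this, mk8_eta]
      right_inv := by
        rintro ⟨⟨α, a, b⟩, ht⟩
        apply Subtype.ext
        show (mk8 α a b (1 - α) 0, (zA F (mk8 α a b (1 - α)), zB F (mk8 α a b (1 - α)))) = (α, a, b)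
        rw [zA_mk8, zB_mk8, mk8_apply_0] }

end count

end Cfsg.Agent.Lib.Helper6.G2O
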