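import Mathlib
import Cfsg.Prelude.Def_G2
import Cfsg.Agent.Lib.Helper6.G2O_Defs
import Cfsg.Agent.Lib.Helper6.G2O_Defs2
import Cfsg.Agent.Lib.Helper1.G2O_Idem
set_option autoImplicit false
open Cfsg Cfsg.Lie Matrix

/-!
# S4632 swarm: PK-IDEM and PK-COUNT in the form of the notes
-/

namespace Cfsg.Agent.Lib.Helper6.G2O

variable {F : Type*} [Field F]

/-- the two descriptions of nontrivial idempotents agree -/
theorem isNTIdem_iff_isNontrivIdem (x : Fin 8 → F) : IsNTIdem x ↔ IsNontrivIdem x := by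
  constructor
  · rintro ⟨h1, h2, h3⟩
    rcases (idem_iff x).mp h1 with h | h | h
    · exact absurd h h2
    · exact absurd h h3
    · exact h
  · intro h
    refine ⟨(idem_iff x).mpr (Or.inr (Or.inr h)), h.ne_zero, h.ne_one8 ?_⟩
    intro h21
    have : (1 : F) = 0 := by linear_combination h21
    exact one_ne_zero this

/-- PK-IDEM -/
theorem isNTIdem_mk8_iff (α β : F) (a b : Fin 3 → F) :
    IsNTIdem (mk8 α a b β) ↔ α + β = 1 ∧ α * β = dot3 a b := by
  rw [isNTIdem_iff_isNontrivIdem, isNontrivIdem_mk8]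

/-- PK-COUNT -/
theorem card_isNTIdem [Fintype F] :
    Nat.card {x : Fin 8 → F // IsNTIdem x} = Fintype.card F ^ 6 + Fintype.card F ^ 3 := by
  classical
  rw [← card_nontrivIdem (F := F)]
  exact Nat.card_congr (Equiv.subtypeEquivRight isNTIdem_iff_isNontrivIdem)

end Cfsg.Agent.Lib.Helper6.G2O
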