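import Mathlib

/-!
# Glauberman's theorem on fixed-point subgroups containing a centralizer of an involution: set-up

Everything lives in one ambient finite group `Γ`: `a : Γ` has prime order `r`, `G : Subgroup Γ` is
normalized by `a`, `r ∤ |G|`, `τ ∈ G` is an involution with `C_G(τ) ≤ C_G(a)`.
Conclusion `Concl G a`: all commutators `g⁻¹ a⁻¹ g a` (`g ∈ G`) lie in a subgroup of `G` of odd order.
"Points" are the `G`-conjugates of `a`; `K` is the `G`-class of `τ`.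
-/

set_option autoImplicit false

namespace Cfsg.Agent.Lib.Helper1.GC

universe u

section defs

variable {Γ : Type u} [Group Γ]

/-- The hypothesis package. -/
structure Hyp (G : Subgroup Γ) (a τ : Γ) (r : ℕ) : Prop where
  hr : r.Prime
  ha : orderOf a = r
  hnorm : ∀ g ∈ G, a⁻¹ * g * a ∈ G
  hcop : ¬ r ∣ Nat.card G
  hτG : τ ∈ G
  hτ : orderOf τ = 2
  hcent : ∀ g ∈ G, Commute g τ → Commute g a

/-- The conclusion: `[G,a]` lies in a subgroup of odd order. -/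
def Concl (G : Subgroup Γ) (a : Γ) : Prop :=
  ∃ R : Subgroup Γ, R ≤ G ∧ Odd (Nat.card R) ∧ ∀ g ∈ G, g⁻¹ * a⁻¹ * g * a ∈ R

/-- `b` is a point: a `G`-conjugate of `a`. -/
def IsPt (G : Subgroup Γ) (a b : Γ) : Prop := ∃ g ∈ G, b = g⁻¹ * a * g

/-- `u` lies in the `G`-class `K` of `τ`. -/
def IsK (G : Subgroup Γ) (τ u : Γ) : Prop := ∃ g ∈ G, u = g⁻¹ * τ * g

/-- `⟨a,b⟩ ∩ G`. -/
def Lam0 (G : Subgroup Γ) (a b : Γ) : Subgroup Γ := Subgroup.closure {a, b} ⊓ G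

/-- A minimal counterexample. -/
structure MinCE [Finite Γ] (G : Subgroup Γ) (a τ : Γ) (r : ℕ) : Prop where
  hyp : Hyp G a τ r
  nc : ¬ Concl G a
  ih : ∀ (Γ' : Type u) [Group Γ'] [Finite Γ'] (G' : Subgroup Γ') (a' τ' : Γ') (r' : ℕ),
    Nat.card G' < Nat.card G → Hyp G' a' τ' r' → Concl G' a'

end defs

section basic

variable {Γ : Type u} [Group Γ] {G : Subgroup Γ} {a τ : Γ} {r : ℕ}

theorem Hyp.a_pow (h : Hyp G a τ r) : a ^ r = 1 := by
  rw [← h.ha]; exact pow_orderOf_eq_one a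

theorem Hyp.tau_sq (h : Hyp G a τ r) : τ * τ = 1 := by
  have := pow_orderOf_eq_one τ
  rwa [h.hτ, pow_two] at this

theorem Hyp.tau_inv (h : Hyp G a τ r) : τ⁻¹ = τ :=
  inv_eq_of_mul_eq_one_right h.tau_sq

theorem Hyp.tau_ne_one (h : Hyp G a τ r) : τ ≠ 1 := by
  intro h1
  have := h.hτ
  rw [h1, orderOf_one] at this
  omega

theorem Hyp.norm_pow (h : Hyp G a τ r) (i : ℕ) : ∀ g ∈ G, (a ^ i)⁻¹ * g * a ^ i ∈ G := by
  induction i with
  | zero => intro g hg; simpa using hg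
  | succ i ih =>
    intro g hg
    have h1 := h.hnorm _ (ih g hg)
    have e : (a ^ (i + 1))⁻¹ * g * a ^ (i + 1) = a⁻¹ * ((a ^ i)⁻¹ * g * a ^ i) * a := by
      rw [pow_succ]; group
    rw [e]; exact h1

theorem Hyp.r_pos (h : Hyp G a τ r) : 0 < r := h.hr.pos

theorem Hyp.a_inv_eq (h : Hyp G a τ r) : a⁻¹ = a ^ (r - 1) := by
  apply inv_eq_of_mul_eq_one_right
  rw [← pow_succ']
  have : r - 1 + 1 = r := Nat.sub_add_cancel h.r_pos
  rw [this]; exact h.a_pow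

theorem Hyp.norm_inv (h : Hyp G a τ r) : ∀ g ∈ G, a * g * a⁻¹ ∈ G := by
  intro g hg
  have h1 := h.norm_pow (r - 1) g hg
  rw [← h.a_inv_eq, inv_inv] at h1
  exact h1

theorem Hyp.norm_zpow (h : Hyp G a τ r) (i : ℤ) : ∀ g ∈ G, (a ^ i)⁻¹ * g * a ^ i ∈ G := by
  intro g hg
  obtain ⟨n, rfl | rfl⟩ := Int.eq_nat_or_neg i
  · simpa using h.norm_pow n g hg
  · -- conj by a^{-n}
    have : ∀ n : ℕ, ∀ g ∈ G, a ^ n * g * (a ^ n)⁻¹ ∈ G := by
      intro n
      induction n with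
      | zero => intro g hg; simpa using hg
      | succ n ih =>
        intro g hg
        have h1 := h.norm_inv _ (ih g hg)
        have e : a ^ (n + 1) * g * (a ^ (n + 1))⁻¹ = a * (a ^ n * g * (a ^ n)⁻¹) * a⁻¹ := by
          rw [pow_succ']; group
        rw [e]; exact h1
    simpa using this n g hg

/-- An element of `G` whose `r`-th power is trivial is trivial. -/
theorem Hyp.eq_one_of_pow [Finite Γ] (h : Hyp G a τ r) {x : Γ} (hx : x ∈ G) (hxr : x ^ r = 1) :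
    x = 1 := by
  have h1 : orderOf x ∣ r := orderOf_dvd_of_pow_eq_one hxr
  have h2 : orderOf x ∣ Nat.card G := by
    have := Subgroup.orderOf_dvd_natCard G hx
    exact this
  rcases (Nat.dvd_prime h.hr).1 h1 with h3 | h3
  · exact orderOf_eq_one_iff.1 h3
  · exact absurd (h3 ▸ h2) h.hcop

theorem Hyp.a_not_mem [Finite Γ] (h : Hyp G a τ r) : a ∉ G := by
  intro ha
  have := h.eq_one_of_pow ha h.a_pow
  have h2 := h.ha
  rw [this, orderOf_one] at h2
  exact h.hr.one_lt.ne h2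

/-- commutators with `a` lie in `G`. -/
theorem Hyp.comm_mem (h : Hyp G a τ r) {g : Γ} (hg : g ∈ G) : g⁻¹ * a⁻¹ * g * a ∈ G := by
  have := G.mul_mem (G.inv_mem hg) (h.hnorm g hg)
  simpa [mul_assoc] using this

theorem Hyp.comm_mem' (h : Hyp G a τ r) {g : Γ} (hg : g ∈ G) : a⁻¹ * g⁻¹ * a * g ∈ G := by
  have := G.mul_mem (h.hnorm _ (G.inv_mem hg)) hg
  simpa [mul_assoc] using this

/-- If `c ∈ G` commutes with `a` and `a * c` has order dividing `r`, then `c = 1`. -/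
theorem Hyp.eq_one_of_commute [Finite Γ] (h : Hyp G a τ r) {c : Γ} (hc : c ∈ G)
    (hcomm : Commute a c) (hord : (a * c) ^ r = 1) : c = 1 := by
  apply h.eq_one_of_pow hc
  rw [hcomm.mul_pow, h.a_pow, one_mul] at hord
  exact hord

theorem Hyp.tau_comm (h : Hyp G a τ r) : Commute τ a := h.hcent τ h.hτG (Commute.refl τ)

/-- The centralizer in `G` of a conjugate `g⁻¹ τ g` centralizes `g⁻¹ a g`. -/
theorem Hyp.cent_conj (h : Hyp G a τ r) {g x : Γ} (hg : g ∈ G) (hx : x ∈ G)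
    (hc : Commute x (g⁻¹ * τ * g)) : Commute x (g⁻¹ * a * g) := by
  have h1 : Commute (g * x * g⁻¹) τ := by
    have e := hc.eq
    show g * x * g⁻¹ * τ = τ * (g * x * g⁻¹)
    calc g * x * g⁻¹ * τ = g * (x * (g⁻¹ * τ * g)) * g⁻¹ := by group
      _ = g * ((g⁻¹ * τ * g) * x) * g⁻¹ := by rw [e]
      _ = τ * (g * x * g⁻¹) := by group
  have h2 := h.hcent _ (G.mul_mem (G.mul_mem hg hx) (G.inv_mem hg)) h1
  have e := h2.eq
  show x * (g⁻¹ * a * g) = g⁻¹ * a * g * x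
  calc x * (g⁻¹ * a * g) = g⁻¹ * ((g * x * g⁻¹) * a) * g := by group
    _ = g⁻¹ * (a * (g * x * g⁻¹)) * g := by rw [e]
    _ = g⁻¹ * a * g * x := by group

/-- (E2) a point commuting with `a` equals `a`. -/
theorem Hyp.pt_eq_of_commute [Finite Γ] (h : Hyp G a τ r) {g : Γ} (hg : g ∈ G)
    (hc : Commute (g⁻¹ * a * g) a) : g⁻¹ * a * g = a := by
  set c := a⁻¹ * g⁻¹ * a * g with hcdef
  have hcG : c ∈ G := h.comm_mem' hg
  have hb : g⁻¹ * a * g = a * c := by rw [hcdef]; group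
  have hac : Commute a c := by
    have : c = a⁻¹ * (g⁻¹ * a * g) := by rw [hcdef]; group
    rw [this]
    exact (Commute.refl a).inv_right.mul_right hc.symm
  have hord : (a * c) ^ r = 1 := by
    rw [← hb]
    have : (g⁻¹ * a * g) ^ r = g⁻¹ * a ^ r * g := by
      have := conj_pow (a := g⁻¹) (b := a) (i := r)
      simpa using this
    rw [this, h.a_pow]; group
  have := h.eq_one_of_commute hcG hac hord
  rw [hb, this, mul_one]

/-- (E1) if `g⁻¹ τ g` commutes with `a` then `g` commutes with `a`. -/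
theorem Hyp.E1 [Finite Γ] (h : Hyp G a τ r) {g : Γ} (hg : g ∈ G)
    (hc : Commute (g⁻¹ * τ * g) a) : Commute g a := by
  -- c := a⁻¹ b commutes with t, hence with b
  have hcG : a⁻¹ * g⁻¹ * a * g ∈ G := h.comm_mem' hg
  have htb : Commute (g⁻¹ * τ * g) (g⁻¹ * a * g) := by
    have e := h.tau_comm.eq
    show g⁻¹ * τ * g * (g⁻¹ * a * g) = g⁻¹ * a * g * (g⁻¹ * τ * g)
    calc g⁻¹ * τ * g * (g⁻¹ * a * g) = g⁻¹ * (τ * a) * g := by group
      _ = g⁻¹ * (a * τ) * g := by rw [e]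
      _ = g⁻¹ * a * g * (g⁻¹ * τ * g) := by group
  have hct : Commute (a⁻¹ * g⁻¹ * a * g) (g⁻¹ * τ * g) := by
    have : a⁻¹ * g⁻¹ * a * g = a⁻¹ * (g⁻¹ * a * g) := by group
    rw [this]
    exact (hc.symm.inv_left).mul_left htb.symm
  have hcb := h.cent_conj hg hcG hct
  -- so b commutes with c, hence with a = b c⁻¹
  have hba : Commute (g⁻¹ * a * g) a := by
    have h3 : Commute (g⁻¹ * a * g) ((g⁻¹ * a * g) * (a⁻¹ * g⁻¹ * a * g)⁻¹) :=
      (Commute.refl _).mul_right hcb.symm.inv_right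
    have e : (g⁻¹ * a * g) * (a⁻¹ * g⁻¹ * a * g)⁻¹ = a := by group
    rwa [e] at h3
  have := h.pt_eq_of_commute hg hba
  show g * a = a * g
  calc g * a = g * (g⁻¹ * a * g) := by rw [this]
    _ = a * g := by group

theorem Hyp.conj [Finite Γ] (h : Hyp G a τ r) {g : Γ} (hg : g ∈ G) :
    Hyp G (g⁻¹ * a * g) (g⁻¹ * τ * g) r where
  hr := h.hr
  ha := by
    have : g⁻¹ * a * g = MulAut.conj g⁻¹ a := by simp [MulAut.conj_apply]
    rw [this, MulEquiv.orderOf_eq]; exact h.ha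
  hnorm := by
    intro x hx
    have h1 := h.hnorm _ (G.mul_mem (G.mul_mem hg hx) (G.inv_mem hg))
    have h2 := G.mul_mem (G.mul_mem (G.inv_mem hg) h1) hg
    have e : (g⁻¹ * a * g)⁻¹ * x * (g⁻¹ * a * g) = g⁻¹ * (a⁻¹ * (g * x * g⁻¹) * a) * g := by group
    rw [e]; exact h2
  hcop := h.hcop
  hτG := G.mul_mem (G.mul_mem (G.inv_mem hg) h.hτG) hg
  hτ := by
    have : g⁻¹ * τ * g = MulAut.conj g⁻¹ τ := by simp [MulAut.conj_apply]
    rw [this, MulEquiv.orderOf_eq]; exact h.hτ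
  hcent := fun x hx hc => h.cent_conj hg hx hc

theorem IsK.mem (h : Hyp G a τ r) {u : Γ} (hu : IsK G τ u) : u ∈ G := by
  obtain ⟨g, hg, rfl⟩ := hu
  exact G.mul_mem (G.mul_mem (G.inv_mem hg) h.hτG) hg

theorem IsK.mul_self (h : Hyp G a τ r) {u : Γ} (hu : IsK G τ u) : u * u = 1 := by
  obtain ⟨g, _, rfl⟩ := hu
  calc g⁻¹ * τ * g * (g⁻¹ * τ * g) = g⁻¹ * (τ * τ) * g := by group
    _ = 1 := by rw [h.tau_sq]; group

theorem IsK.inv_eq (h : Hyp G a τ r) {u : Γ} (hu : IsK G τ u) : u⁻¹ = u :=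
  inv_eq_of_mul_eq_one_right (hu.mul_self h)

theorem IsK.ne_one (h : Hyp G a τ r) {u : Γ} (hu : IsK G τ u) : u ≠ 1 := by
  obtain ⟨g, _, rfl⟩ := hu
  intro h1
  apply h.tau_ne_one
  have : τ = g * (g⁻¹ * τ * g) * g⁻¹ := by group
  rw [this, h1]; group

theorem IsK.orderOf (h : Hyp G a τ r) {u : Γ} (hu : IsK G τ u) : orderOf u = 2 := by
  apply orderOf_eq_prime
  · rw [pow_two]; exact hu.mul_self h
  · exact hu.ne_one h

theorem IsK.conj {u x : Γ} (hu : IsK G τ u) (hx : x ∈ G) : IsK G τ (x⁻¹ * u * x) := by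
  obtain ⟨g, hg, rfl⟩ := hu
  exact ⟨g * x, G.mul_mem hg hx, by group⟩

theorem IsK.tau (G : Subgroup Γ) (τ : Γ) : IsK G τ τ := ⟨1, G.one_mem, by group⟩

theorem IsPt.conj {b x : Γ} (hb : IsPt G a b) (hx : x ∈ G) : IsPt G a (x⁻¹ * b * x) := by
  obtain ⟨g, hg, rfl⟩ := hb
  exact ⟨g * x, G.mul_mem hg hx, by group⟩

theorem IsPt.self (G : Subgroup Γ) (a : Γ) : IsPt G a a := ⟨1, G.one_mem, by group⟩

/-- (E2) -/
theorem IsPt.eq_of_commute [Finite Γ] (h : Hyp G a τ r) {b : Γ} (hb : IsPt G a b)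
    (hc : Commute b a) : b = a := by
  obtain ⟨g, hg, rfl⟩ := hb
  exact h.pt_eq_of_commute hg hc

/-- the hypothesis package at another point -/
theorem Hyp.at_pt [Finite Γ] (h : Hyp G a τ r) {g : Γ} (hg : g ∈ G) :
    Hyp G (g⁻¹ * a * g) (g⁻¹ * τ * g) r := h.conj hg

/-- elements of `K` commuting with `a`: their `G`-centralizer centralizes `a`. -/
theorem Hyp.cent_le [Finite Γ] (h : Hyp G a τ r) {t x : Γ} (ht : IsK G τ t) (hta : Commute t a)
    (hx : x ∈ G) (hxt : Commute x t) : Commute x a := by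
  obtain ⟨g, hg, rfl⟩ := ht
  have h1 := h.cent_conj hg hx hxt
  have h2 := h.E1 hg hta
  have : g⁻¹ * a * g = a := by
    have := h2.eq
    calc g⁻¹ * a * g = g⁻¹ * (a * g) := by group
      _ = g⁻¹ * (g * a) := by rw [this]
      _ = a := by group
  rwa [this] at h1

/-- a conjugate of `t ∈ K_a` by `x ∈ G` which again commutes with `a` forces `x ∈ C(a)`. -/
theorem Hyp.E1' [Finite Γ] (h : Hyp G a τ r) {t x : Γ} (ht : IsK G τ t) (hta : Commute t a)
    (hx : x ∈ G) (hc : Commute (x⁻¹ * t * x) a) : Commute x a := by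
  obtain ⟨g, hg, rfl⟩ := ht
  have h1 : Commute g a := h.E1 hg hta
  have e : x⁻¹ * (g⁻¹ * τ * g) * x = (g * x)⁻¹ * τ * (g * x) := by group
  rw [e] at hc
  have h2 : Commute (g * x) a := h.E1 (G.mul_mem hg hx) hc
  have : x = g⁻¹ * (g * x) := by group
  rw [this]
  exact h1.inv_left.mul_left h2

/-- each `u ∈ K` commutes with exactly one point. -/
theorem Hyp.point_unique [Finite Γ] (h : Hyp G a τ r) {g : Γ} (hg : g ∈ G) {b : Γ}
    (hb : IsPt G a b) (hc : Commute (g⁻¹ * τ * g) b) : b = g⁻¹ * a * g := by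
  obtain ⟨k, hk, rfl⟩ := hb
  -- conjugate by k⁻¹: (g k⁻¹)⁻¹ τ (g k⁻¹) commutes with a
  have h1 : Commute ((g * k⁻¹)⁻¹ * τ * (g * k⁻¹)) a := by
    have e := hc.eq
    show (g * k⁻¹)⁻¹ * τ * (g * k⁻¹) * a = a * ((g * k⁻¹)⁻¹ * τ * (g * k⁻¹))
    calc (g * k⁻¹)⁻¹ * τ * (g * k⁻¹) * a = k * ((g⁻¹ * τ * g) * (k⁻¹ * a * k)) * k⁻¹ := by group
      _ = k * ((k⁻¹ * a * k) * (g⁻¹ * τ * g)) * k⁻¹ := by rw [e]
      _ = a * ((g * k⁻¹)⁻¹ * τ * (g * k⁻¹)) := by group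
  have h2 := h.E1 (G.mul_mem hg (G.inv_mem hk)) h1
  have e := h2.eq
  calc k⁻¹ * a * k = g⁻¹ * ((g * k⁻¹) * a) * k := by group
    _ = g⁻¹ * (a * (g * k⁻¹)) * k := by rw [e]
    _ = g⁻¹ * a * g := by group

theorem Hyp.K_commute_pt (h : Hyp G a τ r) {g : Γ} : Commute (g⁻¹ * τ * g) (g⁻¹ * a * g) := by
  have e := h.tau_comm.eq
  show g⁻¹ * τ * g * (g⁻¹ * a * g) = g⁻¹ * a * g * (g⁻¹ * τ * g)
  calc g⁻¹ * τ * g * (g⁻¹ * a * g) = g⁻¹ * (τ * a) * g := by group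
    _ = g⁻¹ * (a * τ) * g := by rw [e]
    _ = g⁻¹ * a * g * (g⁻¹ * τ * g) := by group

end basic

section mince

variable {Γ : Type u} [Group Γ] [Finite Γ] {G : Subgroup Γ} {a τ : Γ} {r : ℕ}

/-- The inductive hypothesis for `a`-invariant proper subgroups containing an element of `K_a`. -/
theorem MinCE.ih_sub (h : MinCE G a τ r) (H : Subgroup Γ) (hHG : H ≤ G) (hne : H ≠ G)
    (hinv : ∀ x ∈ H, a⁻¹ * x * a ∈ H) {t : Γ} (ht : IsK G τ t) (hta : Commute t a)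
    (htH : t ∈ H) : Concl H a := by
  have hlt : Nat.card H < Nat.card G := by
    have hle : Nat.card H ≤ Nat.card G := Subgroup.card_le_of_le hHG
    rcases lt_or_eq_of_le hle with h1 | h1
    · exact h1
    · exact absurd (Subgroup.eq_of_le_of_card_ge hHG h1.ge) hne
  apply h.ih Γ H a t r hlt
  exact
    { hr := h.hyp.hr
      ha := h.hyp.ha
      hnorm := hinv
      hcop := fun hd => h.hyp.hcop (hd.trans (Subgroup.card_dvd_of_le hHG))
      hτG := htH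
      hτ := ht.orderOf h.hyp
      hcent := fun x hx hc => h.hyp.cent_le ht hta (hHG hx) hc }

end mince

end Cfsg.Agent.Lib.Helper1.GC
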