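import Mathlib

/-!
# S3067, step (R0), second half: a transfer argument

`L = [L,a]`, `N` centralizes `L` and `a`, and every element of `L` has an odd power in `N`.
Then `L` has odd order.
-/

set_option autoImplicit false

namespace Cfsg.Agent.Lib.Helper1.GC

universe u

theorem odd_card_of_central_quotient {Γ : Type u} [Group Γ] [Finite Γ] (L N : Subgroup Γ) (a : Γ)
    (hLa : ∀ x ∈ L, a⁻¹ * x * a ∈ L) (hNa : ∀ n ∈ N, Commute n a)
    (hNL : ∀ n ∈ N, ∀ x ∈ L, Commute n x) (j : ℕ) (hj : Odd j) (hjN : ∀ x ∈ L, x ^ j ∈ N)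
    (hgen : L ≤ Subgroup.closure {y : Γ | ∃ x ∈ L, y = x⁻¹ * a⁻¹ * x * a}) :
    Odd (Nat.card L) := by
  classical
  -- the index of the center of `L` is odd
  set m := (Subgroup.center L).index with hm
  have hmodd : Odd m := by
    by_contra hcon
    have h2 : 2 ∣ m := by
      rcases Nat.even_or_odd m with he | ho
      · exact he.two_dvd
      · exact absurd ho hcon
    have hcard : m = Nat.card (L ⧸ Subgroup.center L) := by
      rw [hm, Subgroup.index]
    rw [hcard] at h2
    have : Fact (Nat.Prime 2) := ⟨Nat.prime_two⟩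
    obtain ⟨q, hq⟩ := exists_prime_orderOf_dvd_card' 2 h2
    obtain ⟨x, rfl⟩ := QuotientGroup.mk_surjective q
    have hx : (x : Γ) ^ j ∈ N := hjN x x.2
    have hxc : x ^ j ∈ Subgroup.center L := by
      rw [Subgroup.mem_center_iff]
      intro y
      apply Subtype.ext
      have := hNL _ hx y y.2
      simp only [Subgroup.coe_mul, Subgroup.coe_pow]
      exact this.eq.symm
    have h1 : ((x : L ⧸ Subgroup.center L)) ^ j = 1 := by
      rw [← QuotientGroup.mk_pow]
      exact (QuotientGroup.eq_one_iff _).2 hxc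
    have h3 : 2 ∣ j := hq ▸ orderOf_dvd_of_pow_eq_one h1
    exact (Nat.not_even_iff_odd.2 hj) (even_iff_two_dvd.2 h3)
  -- the homomorphism `x ↦ x^(m*j)` into the center
  have hcc : ∀ c d : Subgroup.center L, Commute c d := by
    intro c d
    apply Subtype.ext
    have := (Subgroup.mem_center_iff.1 d.2) c.1
    simpa using this
  let W : L →* Subgroup.center L :=
    { toFun := fun x => (MonoidHom.transferCenterPow L x) ^ j
      map_one' := by simp
      map_mul' := fun x y => by
        rw [map_mul]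
        exact (hcc _ _).mul_pow j }
  have hW : ∀ x : L, ((W x : L) : Γ) = (x : Γ) ^ (m * j) := by
    intro x
    show (((MonoidHom.transferCenterPow L x) ^ j : Subgroup.center L) : Γ) = (x : Γ) ^ (m * j)
    simp only [Subgroup.coe_pow, MonoidHom.transferCenterPow_apply, pow_mul, hm]
  -- generators lie in the kernel
  have hker : ∀ x ∈ L, ∀ hy : x⁻¹ * a⁻¹ * x * a ∈ L, W ⟨x⁻¹ * a⁻¹ * x * a, hy⟩ = 1 := by
    intro x hx hy
    have hxa : a⁻¹ * x * a ∈ L := hLa x hx
    have e : (⟨x⁻¹ * a⁻¹ * x * a, hy⟩ : L) = (⟨x, hx⟩ : L)⁻¹ * ⟨a⁻¹ * x * a, hxa⟩ := by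
      apply Subtype.ext
      simp only [Subgroup.coe_mul, Subgroup.coe_inv]
      group
    rw [e, map_mul, map_inv]
    have h1 : W ⟨a⁻¹ * x * a, hxa⟩ = W ⟨x, hx⟩ := by
      apply Subtype.ext
      apply Subtype.ext
      rw [hW, hW]
      show (a⁻¹ * x * a) ^ (m * j) = x ^ (m * j)
      have h2 : (a⁻¹ * x * a) ^ (m * j) = a⁻¹ * x ^ (m * j) * a := by
        have := conj_pow (a := a⁻¹) (b := x) (i := m * j)
        simpa using this
      rw [h2]
      have h3 : x ^ (m * j) ∈ N := by
        rw [mul_comm, pow_mul]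
        exact N.pow_mem (hjN x hx) m
      have h4 := (hNa _ h3).eq
      calc a⁻¹ * x ^ (m * j) * a = a⁻¹ * (x ^ (m * j) * a) := by group
        _ = a⁻¹ * (a * x ^ (m * j)) := by rw [h4]
        _ = x ^ (m * j) := by group
    rw [h1, inv_mul_cancel]
  -- hence every element of `L` is killed by `m * j`
  have hall : ∀ x ∈ L, x ^ (m * j) = 1 := by
    have hle : Subgroup.closure {y : Γ | ∃ x ∈ L, y = x⁻¹ * a⁻¹ * x * a} ≤
        (W.ker).map L.subtype := by
      rw [Subgroup.closure_le]
      rintro y ⟨x, hx, rfl⟩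
      have hy : x⁻¹ * a⁻¹ * x * a ∈ L := by
        have := L.mul_mem (L.inv_mem hx) (hLa x hx)
        simpa [mul_assoc] using this
      exact ⟨⟨_, hy⟩, hker x hx hy, rfl⟩
    intro x hx
    obtain ⟨y, hy, rfl⟩ := hle (hgen hx)
    have h1 : W y = 1 := hy
    have h2 := hW y
    rw [h1] at h2
    simpa using h2.symm
  -- so `L` has odd order
  by_contra hcon
  have h2 : 2 ∣ Nat.card L := by
    rcases Nat.even_or_odd (Nat.card L) with he | ho
    · exact he.two_dvd
    · exact absurd ho hcon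
  have : Fact (Nat.Prime 2) := ⟨Nat.prime_two⟩
  obtain ⟨y, hy⟩ := exists_prime_orderOf_dvd_card' 2 h2
  have h3 : (y : Γ) ^ (m * j) = 1 := hall y y.2
  have h4 : y ^ (m * j) = 1 := by
    apply Subtype.ext
    simpa using h3
  have h5 : 2 ∣ m * j := hy ▸ orderOf_dvd_of_pow_eq_one h4
  have : Odd (m * j) := hmodd.mul hj
  exact (Nat.not_even_iff_odd.2 this) (even_iff_two_dvd.2 h5)

end Cfsg.Agent.Lib.Helper1.GC
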