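import Cfsg.Agent.Lib.Helper1.GC0
import Cfsg.Agent.Lib.Helper1.GC3b
import Cfsg.Agent.Lib.Helper4.GlFixP1

/-!
# S3067, step (R0): in a minimal counterexample no nontrivial normal subgroup of `G` lies in `C(a)`
-/

set_option autoImplicit false
set_option maxHeartbeats 800000

namespace Cfsg.Agent.Lib.Helper1.GC

open Cfsg.Agent.Lib.Helper4.GlFixP1

universe u

variable {Γ : Type u} [Group Γ]

/-- the commutator subgroup `[G,a]` in the convention of `Concl`. -/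
def CL (G : Subgroup Γ) (a : Γ) : Subgroup Γ :=
  Subgroup.closure {y : Γ | ∃ x ∈ G, y = x⁻¹ * a⁻¹ * x * a}

theorem CL_eq_cm (G : Subgroup Γ) (a : Γ) : CL G a = cm G a⁻¹ := by
  unfold CL cm
  congr 1
  ext y
  constructor
  · rintro ⟨x, hx, rfl⟩
    exact ⟨x⁻¹, G.inv_mem hx, by simp⟩
  · rintro ⟨x, hx, rfl⟩
    exact ⟨x⁻¹, G.inv_mem hx, by simp⟩

theorem mem_CL {G : Subgroup Γ} {a x : Γ} (hx : x ∈ G) : x⁻¹ * a⁻¹ * x * a ∈ CL G a :=
  Subgroup.subset_closure ⟨x, hx, rfl⟩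

variable [Finite Γ] {G : Subgroup Γ} {a τ : Γ} {r : ℕ}

theorem Hyp.inv_pow (h : Hyp G a τ r) : a⁻¹ ^ r = 1 := by
  rw [_root_.inv_pow, h.a_pow, inv_one]

theorem Hyp.hnorm' (h : Hyp G a τ r) : ∀ x ∈ G, a⁻¹ * x * a⁻¹⁻¹ ∈ G := by
  intro x hx; rw [inv_inv]; exact h.hnorm x hx

theorem Hyp.CL_le (h : Hyp G a τ r) : CL G a ≤ G := by
  rw [CL_eq_cm]; exact cm_le h.hnorm'

theorem Hyp.CL_inv (h : Hyp G a τ r) : ∀ x ∈ CL G a, a⁻¹ * x * a ∈ CL G a := by
  intro x hx
  rw [CL_eq_cm] at hx ⊢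
  have := conj_self_mem_cm h.hnorm' hx
  rwa [inv_inv] at this

theorem Hyp.CL_CL (h : Hyp G a τ r) : CL (CL G a) a = CL G a := by
  have : Fact r.Prime := ⟨h.hr⟩
  rw [CL_eq_cm, CL_eq_cm]
  exact cm_cm a⁻¹ h.inv_pow h.hnorm' h.hcop

/-- (R0) -/
theorem R0 (h : MinCE G a τ r) (N : Subgroup Γ) (hNG : N ≤ G)
    (hnorm : ∀ g ∈ G, ∀ x ∈ N, g⁻¹ * x * g ∈ N) (hcent : ∀ x ∈ N, Commute x a) : N = ⊥ := by
  classical
  by_contra hN
  apply h.nc
  have hy := h.hyp
  have hfact : Fact r.Prime := ⟨hy.hr⟩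
  by_cases hτN : τ ∈ N
  · refine ⟨⊥, bot_le, by simp, ?_⟩
    intro g hg
    have h1 : g⁻¹ * τ * g ∈ N := hnorm g hg τ hτN
    have h2 : Commute g a := hy.E1 hg (hcent _ h1)
    rw [Subgroup.mem_bot]
    have e := h2.eq
    calc g⁻¹ * a⁻¹ * g * a = g⁻¹ * a⁻¹ * (g * a) := by group
      _ = g⁻¹ * a⁻¹ * (a * g) := by rw [e]
      _ = 1 := by group
  -- `N` centralizes `CL G a`
  have hNL : ∀ n ∈ N, ∀ x ∈ CL G a, Commute n x := by
    intro n hn x hx
    have hle : CL G a ≤ Subgroup.centralizer {n} := by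
      unfold CL
      rw [Subgroup.closure_le]
      rintro y ⟨x, hx, rfl⟩
      rw [SetLike.mem_coe, Subgroup.mem_centralizer_iff]
      intro m hm
      rw [Set.mem_singleton_iff] at hm
      subst hm
      have hn1 : x * m * x⁻¹ ∈ N := by
        have := hnorm x⁻¹ (G.inv_mem hx) m hn
        rwa [inv_inv] at this
      have e1 := (hcent m hn).eq
      have e2 := (hcent _ hn1).eq
      -- m * (x⁻¹ a⁻¹ x a) = (x⁻¹ a⁻¹ x a) * m
      have e3 : a⁻¹ * (x * m * x⁻¹) = (x * m * x⁻¹) * a⁻¹ := by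
        calc a⁻¹ * (x * m * x⁻¹) = a⁻¹ * ((x * m * x⁻¹) * a) * a⁻¹ := by group
          _ = a⁻¹ * (a * (x * m * x⁻¹)) * a⁻¹ := by rw [e2]
          _ = (x * m * x⁻¹) * a⁻¹ := by group
      calc m * (x⁻¹ * a⁻¹ * x * a) = x⁻¹ * ((x * m * x⁻¹) * a⁻¹) * x * a := by group
        _ = x⁻¹ * (a⁻¹ * (x * m * x⁻¹)) * x * a := by rw [e3]
        _ = x⁻¹ * a⁻¹ * x * (m * a) := by group
        _ = x⁻¹ * a⁻¹ * x * (a * m) := by rw [e1]
        _ = x⁻¹ * a⁻¹ * x * a * m := by group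
    have := hle hx
    rw [Subgroup.mem_centralizer_iff] at this
    exact this n rfl
  -- the quotient
  have hGNm : G ≤ (Subgroup.normalizer (N : Set Γ)) := by
    intro g hg
    rw [Subgroup.mem_normalizer_iff]
    intro n
    constructor
    · intro hn
      have := hnorm g⁻¹ (G.inv_mem hg) n hn
      rwa [inv_inv] at this
    · intro hn
      have := hnorm g hg _ hn
      have e : g⁻¹ * (g * n * g⁻¹) * g = n := by group
      rwa [e] at this
  have haNm : a ∈ (Subgroup.normalizer (N : Set Γ)) := by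
    rw [Subgroup.mem_normalizer_iff]
    intro n
    have key : ∀ m ∈ N, a * m * a⁻¹ = m := by
      intro m hm
      have := (hcent m hm).eq
      calc a * m * a⁻¹ = (a * m) * a⁻¹ := rfl
        _ = (m * a) * a⁻¹ := by rw [this]
        _ = m := by group
    constructor
    · intro hn; rw [key n hn]; exact hn
    · intro hn
      have h3 := key _ hn
      have e : a * n * a⁻¹ = n := by
        have : a⁻¹ * (a * (a * n * a⁻¹) * a⁻¹) * a = a⁻¹ * (a * n * a⁻¹) * a := by rw [h3]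
        have e1 : a⁻¹ * (a * (a * n * a⁻¹) * a⁻¹) * a = a * n * a⁻¹ := by group
        have e2 : a⁻¹ * (a * n * a⁻¹) * a = n := by group
        rw [e1, e2] at this; exact this
      rw [← e]; exact hn
  let N' : Subgroup (Subgroup.normalizer (N : Set Γ)) := N.subgroupOf (Subgroup.normalizer (N : Set Γ))
  let π : (Subgroup.normalizer (N : Set Γ)) →* (Subgroup.normalizer (N : Set Γ)) ⧸ N' := QuotientGroup.mk' N'
  have hπ1 : ∀ z : (Subgroup.normalizer (N : Set Γ)), π z = 1 ↔ (z : Γ) ∈ N := by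
    intro z
    show (QuotientGroup.mk z : (Subgroup.normalizer (N : Set Γ)) ⧸ N') = 1 ↔ _
    rw [QuotientGroup.eq_one_iff]
    rfl
  let G' : Subgroup ((Subgroup.normalizer (N : Set Γ)) ⧸ N') := (G.subgroupOf (Subgroup.normalizer (N : Set Γ))).map π
  have hG'mem : ∀ g (hg : g ∈ G), π ⟨g, hGNm hg⟩ ∈ G' := by
    intro g hg
    exact Subgroup.mem_map_of_mem π (Subgroup.mem_subgroupOf.2 hg)
  have hG'ex : ∀ q ∈ G', ∃ g, ∃ hg : g ∈ G, q = π ⟨g, hGNm hg⟩ := by
    intro q hq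
    obtain ⟨z, hz, rfl⟩ := Subgroup.mem_map.1 hq
    exact ⟨z.1, Subgroup.mem_subgroupOf.1 hz, rfl⟩
  let a' : (Subgroup.normalizer (N : Set Γ)) ⧸ N' := π ⟨a, haNm⟩
  let τ' : (Subgroup.normalizer (N : Set Γ)) ⧸ N' := π ⟨τ, hGNm hy.hτG⟩
  have hyp' : Hyp G' a' τ' r :=
    { hr := hy.hr
      ha := by
        apply orderOf_eq_prime
        · show (π ⟨a, haNm⟩) ^ r = 1
          rw [← map_pow]
          have : (⟨a, haNm⟩ : (Subgroup.normalizer (N : Set Γ))) ^ r = 1 := by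
            apply Subtype.ext
            simp [hy.a_pow]
          rw [this, map_one]
        · intro h1
          have := (hπ1 _).1 h1
          exact hy.a_not_mem (hNG this)
      hnorm := by
        intro q hq
        obtain ⟨g, hg, rfl⟩ := hG'ex q hq
        have := hG'mem _ (hy.hnorm g hg)
        have e : a'⁻¹ * π ⟨g, hGNm hg⟩ * a' = π ⟨a⁻¹ * g * a, hGNm (hy.hnorm g hg)⟩ := by
          show (π ⟨a, haNm⟩)⁻¹ * π ⟨g, hGNm hg⟩ * π ⟨a, haNm⟩ = _
          rw [← map_inv, ← map_mul, ← map_mul]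
          rfl
        rw [e]; exact this
      hcop := by
        intro hd
        apply hy.hcop
        have h1 : Nat.card G' ∣ Nat.card (G.subgroupOf (Subgroup.normalizer (N : Set Γ))) := Subgroup.card_map_dvd _ π
        have h2 : Nat.card (G.subgroupOf (Subgroup.normalizer (N : Set Γ))) = Nat.card G :=
          Nat.card_congr (Subgroup.subgroupOfEquivOfLe hGNm).toEquiv
        exact hd.trans (h2 ▸ h1)
      hτG := hG'mem τ hy.hτG
      hτ := by
        apply orderOf_eq_prime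
        · show (π ⟨τ, hGNm hy.hτG⟩) ^ 2 = 1
          rw [← map_pow]
          have : (⟨τ, hGNm hy.hτG⟩ : (Subgroup.normalizer (N : Set Γ))) ^ 2 = 1 := by
            apply Subtype.ext
            simp [pow_two, hy.tau_sq]
          rw [this, map_one]
        · intro h1
          exact hτN ((hπ1 _).1 h1)
      hcent := by
        intro q hq hc
        obtain ⟨x, hx, rfl⟩ := hG'ex q hq
        -- τ⁻¹ x⁻¹ τ x ∈ N
        have h1 : π (⟨τ, hGNm hy.hτG⟩⁻¹ * ⟨x, hGNm hx⟩⁻¹ * ⟨τ, hGNm hy.hτG⟩ * ⟨x, hGNm hx⟩) = 1 := by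
          have e := hc.eq
          simp only [map_mul, map_inv]
          show τ'⁻¹ * (π ⟨x, hGNm hx⟩)⁻¹ * τ' * π ⟨x, hGNm hx⟩ = 1
          have e' : π ⟨x, hGNm hx⟩ * τ' = τ' * π ⟨x, hGNm hx⟩ := e
          calc τ'⁻¹ * (π ⟨x, hGNm hx⟩)⁻¹ * τ' * π ⟨x, hGNm hx⟩
              = τ'⁻¹ * (π ⟨x, hGNm hx⟩)⁻¹ * (τ' * π ⟨x, hGNm hx⟩) := by group
            _ = τ'⁻¹ * (π ⟨x, hGNm hx⟩)⁻¹ * (π ⟨x, hGNm hx⟩ * τ') := by rw [e']
            _ = 1 := by group
        have h2 : τ⁻¹ * x⁻¹ * τ * x ∈ N := by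
          have := (hπ1 _).1 h1
          simpa using this
        have h3 : Commute (x⁻¹ * τ * x) a := by
          have e : x⁻¹ * τ * x = τ * (τ⁻¹ * x⁻¹ * τ * x) := by group
          rw [e]
          exact hy.tau_comm.mul_left (hcent _ h2)
        have h4 : Commute x a := hy.E1 hx h3
        show π ⟨x, hGNm hx⟩ * π ⟨a, haNm⟩ = π ⟨a, haNm⟩ * π ⟨x, hGNm hx⟩
        rw [← map_mul, ← map_mul]
        congr 1
        apply Subtype.ext
        exact h4.eq }
  have hlt : Nat.card G' < Nat.card G := by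
    have h2 : Nat.card (G.subgroupOf (Subgroup.normalizer (N : Set Γ))) = Nat.card G :=
      Nat.card_congr (Subgroup.subgroupOfEquivOfLe hGNm).toEquiv
    rw [← h2]
    let f : G.subgroupOf (Subgroup.normalizer (N : Set Γ)) → G' := fun z => ⟨π z, Subgroup.mem_map_of_mem π z.2⟩
    have hsurj : Function.Surjective f := by
      rintro ⟨q, hq⟩
      obtain ⟨z, hz, rfl⟩ := Subgroup.mem_map.1 hq
      exact ⟨⟨z, hz⟩, rfl⟩
    have hninj : ¬ Function.Injective f := by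
      intro hinj
      apply hN
      rw [Subgroup.eq_bot_iff_forall]
      intro n hn
      have hnNm : n ∈ (Subgroup.normalizer (N : Set Γ)) := hGNm (hNG hn)
      have hnG : (⟨n, hnNm⟩ : (Subgroup.normalizer (N : Set Γ))) ∈ G.subgroupOf (Subgroup.normalizer (N : Set Γ)) :=
        Subgroup.mem_subgroupOf.2 (hNG hn)
      have h1 : f ⟨⟨n, hnNm⟩, hnG⟩ = f 1 := by
        apply Subtype.ext
        show π ⟨n, hnNm⟩ = π 1
        rw [map_one]
        exact (hπ1 _).2 hn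
      have := hinj h1
      have := congrArg (fun z : G.subgroupOf (Subgroup.normalizer (N : Set Γ)) => ((z : (Subgroup.normalizer (N : Set Γ))) : Γ)) this
      simpa using this
    have := Fintype.ofFinite (G.subgroupOf (Subgroup.normalizer (N : Set Γ)))
    have := Fintype.ofFinite G'
    rw [Nat.card_eq_fintype_card, Nat.card_eq_fintype_card]
    exact Fintype.card_lt_of_surjective_not_injective f hsurj hninj
  obtain ⟨R', _, hR'odd, hR'⟩ := h.ih _ G' a' τ' r hlt hyp'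
  -- all elements of `CL G a` map into `R'`
  have hLG : CL G a ≤ G := hy.CL_le
  have hLR : ∀ x (hx : x ∈ CL G a), π ⟨x, hGNm (hLG hx)⟩ ∈ R' := by
    have hle : CL G a ≤ (R'.comap π).map (Subgroup.normalizer (N : Set Γ)).subtype := by
      unfold CL
      rw [Subgroup.closure_le]
      rintro y ⟨x, hx, rfl⟩
      have hyG : x⁻¹ * a⁻¹ * x * a ∈ G := hy.comm_mem hx
      refine ⟨⟨_, hGNm hyG⟩, ?_, rfl⟩
      show π ⟨x⁻¹ * a⁻¹ * x * a, hGNm hyG⟩ ∈ R'
      have h1 := hR' _ (hG'mem x hx)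
      have e : π ⟨x⁻¹ * a⁻¹ * x * a, hGNm hyG⟩ =
          (π ⟨x, hGNm hx⟩)⁻¹ * a'⁻¹ * π ⟨x, hGNm hx⟩ * a' := by
        show _ = (π ⟨x, hGNm hx⟩)⁻¹ * (π ⟨a, haNm⟩)⁻¹ * π ⟨x, hGNm hx⟩ * π ⟨a, haNm⟩
        rw [← map_inv, ← map_inv, ← map_mul, ← map_mul, ← map_mul]
        rfl
      rw [e]; exact h1
    intro x hx
    obtain ⟨z, hz, hzx⟩ := hle hx
    have : z = ⟨x, hGNm (hLG hx)⟩ := Subtype.ext hzx
    rw [← this]; exact hz
  have hjN : ∀ x ∈ CL G a, x ^ (Nat.card R') ∈ N := by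
    intro x hx
    have h1 := hLR x hx
    have h2 : (π ⟨x, hGNm (hLG hx)⟩) ^ (Nat.card R') = 1 := by
      have h3 : (⟨_, h1⟩ : R') ^ (Nat.card R') = 1 := pow_card_eq_one'
      have h4 := congrArg Subtype.val h3
      rw [Subgroup.coe_pow] at h4
      exact h4
    rw [← map_pow] at h2
    have := (hπ1 _).1 h2
    simpa using this
  have hodd : Odd (Nat.card (CL G a)) :=
    odd_card_of_central_quotient (CL G a) N a hy.CL_inv hcent hNL (Nat.card R') hR'odd hjN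
      (by rw [← CL, hy.CL_CL])
  exact ⟨CL G a, hLG, hodd, fun g hg => mem_CL hg⟩

end Cfsg.Agent.Lib.Helper1.GC
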