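import Cfsg.Agent.Lib.Helper1.GC0

/-!
# S3067 core: induction wrapper and adapter to the `CoreStatement` shape
-/

set_option autoImplicit false

namespace Cfsg.Agent.Lib.Helper1.GC

universe u

/-- The main theorem follows from the impossibility of a minimal counterexample. -/
theorem main_of_endgame
    (eg : ∀ (Γ : Type u) [Group Γ] [Finite Γ] (G : Subgroup Γ) (a τ : Γ) (r : ℕ),
      MinCE G a τ r → False) :
    ∀ (n : ℕ) (Γ : Type u) [Group Γ] [Finite Γ] (G : Subgroup Γ) (a τ : Γ) (r : ℕ),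
      Nat.card G = n → Hyp G a τ r → Concl G a := by
  intro n
  induction n using Nat.strong_induction_on with
  | _ n ih =>
    intro Γ _ _ G a τ r hn h
    by_contra hc
    refine eg Γ G a τ r ⟨h, hc, ?_⟩
    intro Γ' _ _ G' a' τ' r' hlt h'
    exact ih (Nat.card G') (hn ▸ hlt) Γ' G' a' τ' r' rfl h'

/-- `a`-invariance in the other direction. -/
theorem inv_of_conj {Γ : Type u} [Group Γ] {G : Subgroup Γ} {a : Γ} {r : ℕ} (hr : 0 < r)
    (ha : a ^ r = 1) (hn : ∀ g ∈ G, a * g * a⁻¹ ∈ G) : ∀ g ∈ G, a⁻¹ * g * a ∈ G := by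
  have hpow : ∀ i : ℕ, ∀ g ∈ G, a ^ i * g * (a ^ i)⁻¹ ∈ G := by
    intro i
    induction i with
    | zero => intro g hg; simpa using hg
    | succ i ih =>
      intro g hg
      have h1 := hn _ (ih g hg)
      have e : a ^ (i + 1) * g * (a ^ (i + 1))⁻¹ = a * (a ^ i * g * (a ^ i)⁻¹) * a⁻¹ := by
        rw [pow_succ']; group
      rw [e]; exact h1
  intro g hg
  have h1 := hpow (r - 1) g hg
  have e : a ^ (r - 1) = a⁻¹ := by
    symm
    apply inv_eq_of_mul_eq_one_right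
    rw [← pow_succ']
    have : r - 1 + 1 = r := Nat.sub_add_cancel hr
    rw [this]; exact ha
  rw [e, inv_inv] at h1
  exact h1

/-- Adapter: from `Concl` to the closure-of-commutators shape used by the glue. -/
theorem odd_closure_of_concl {Γ : Type u} [Group Γ] [Finite Γ] {G : Subgroup Γ} {a : Γ}
    (hn : ∀ g ∈ G, a * g * a⁻¹ ∈ G) (hc : Concl G a) :
    Odd (Nat.card (Subgroup.closure {x : Γ | ∃ g ∈ G, x = g * a * g⁻¹ * a⁻¹})) := by
  obtain ⟨R, _, hodd, hR⟩ := hc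
  -- the closure is contained in the conjugate `a R a⁻¹`
  set R' : Subgroup Γ := R.map (MulAut.conj a).toMonoidHom with hR'
  have hcard : Nat.card R' = Nat.card R := by
    rw [hR']
    exact Nat.card_congr
      ((MulAut.conj a).subgroupMap R).symm.toEquiv
  have hle : Subgroup.closure {x : Γ | ∃ g ∈ G, x = g * a * g⁻¹ * a⁻¹} ≤ R' := by
    rw [Subgroup.closure_le]
    rintro x ⟨g, hg, rfl⟩
    -- x = a * (g'⁻¹ a⁻¹ g' a)⁻¹ * a⁻¹ with g' = g⁻¹
    have h1 := hR g⁻¹ (G.inv_mem hg)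
    have h2 := R.inv_mem h1
    refine ⟨(g⁻¹⁻¹ * a⁻¹ * g⁻¹ * a)⁻¹, h2, ?_⟩
    simp only [MulEquiv.coe_toMonoidHom, MulAut.conj_apply]
    group
  have hdvd : Nat.card (Subgroup.closure {x : Γ | ∃ g ∈ G, x = g * a * g⁻¹ * a⁻¹}) ∣
      Nat.card R' := Subgroup.card_dvd_of_le hle
  rw [hcard] at hdvd
  exact Odd.of_dvd_nat hodd hdvd

end Cfsg.Agent.Lib.Helper1.GC
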