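import Mathlib
import Cfsg.Agent.Lib.Helper1.InvPair

set_option autoImplicit false
set_option linter.style.haveILetI false

namespace Cfsg.Agent.Lib.Helper1

open scoped Pointwise

section Isolated

variable {G : Type*} [Group G]

theorem isPGroup_zpowers_of_orderOf_two {u : G} (hu : orderOf u = 2) :
    IsPGroup 2 (Subgroup.zpowers u) := by
  apply IsPGroup.of_card (n := 1)
  rw [Nat.card_zpowers, hu, pow_one]

/-- Two commuting involutions lie in a common 2-subgroup. -/
theorem isPGroup_sup_zpowers {u w : G} (hu : orderOf u = 2) (hw : orderOf w = 2)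
    (hc : Commute u w) : IsPGroup 2 (Subgroup.zpowers u ⊔ Subgroup.zpowers w : Subgroup G) := by
  apply IsPGroup.to_sup_of_normal_right' (isPGroup_zpowers_of_orderOf_two hu)
    (isPGroup_zpowers_of_orderOf_two hw)
  rw [Subgroup.zpowers_le]
  rw [Subgroup.mem_normalizer_iff]
  intro h
  constructor
  · rintro ⟨k, rfl⟩
    refine ⟨k, ?_⟩
    simp only
    have : Commute u (w ^ k) := hc.zpow_right k
    rw [this.eq, mul_inv_cancel_right]
  · rintro ⟨k, hk⟩
    refine ⟨k, ?_⟩
    simp only at hk ⊢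
    have hcomm : Commute u (w ^ k) := hc.zpow_right k
    have : h = u⁻¹ * (w ^ k) * u := by
      rw [hk]; group
    rw [this, mul_assoc, ← hcomm.eq, inv_mul_cancel_left]

/-- An involution `u` of a Sylow 2-subgroup `P` that is conjugate to no other element of `P`
commutes with no other conjugate of itself. -/
theorem isolated_commute [Finite G] (P : Sylow 2 G) {u : G} (hu : orderOf u = 2)
    (hiso : ∀ g : G, g * u * g⁻¹ ∈ P → g * u * g⁻¹ = u) (h : G)
    (hc : Commute u (h * u * h⁻¹)) : h * u * h⁻¹ = u := by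
  haveI : Fact (Nat.Prime 2) := ⟨Nat.prime_two⟩
  set w := h * u * h⁻¹ with hw
  have hwo : orderOf w = 2 := by
    have := MulEquiv.orderOf_eq (MulAut.conj h) u
    rw [MulAut.conj_apply] at this
    rw [hw, this]
    exact hu
  obtain ⟨Q, hQ⟩ := (isPGroup_sup_zpowers hu hwo hc).exists_le_sylow
  obtain ⟨g, hg⟩ := MulAction.exists_smul_eq G P Q
  have huQ : u ∈ Q := hQ (Subgroup.mem_sup_left (Subgroup.mem_zpowers u))
  have hwQ : w ∈ Q := hQ (Subgroup.mem_sup_right (Subgroup.mem_zpowers w))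
  rw [← hg, Sylow.smul_def] at huQ hwQ
  replace huQ : u ∈ MulAut.conj g • (P : Subgroup G) := huQ
  replace hwQ : w ∈ MulAut.conj g • (P : Subgroup G) := hwQ
  rw [Subgroup.mem_smul_pointwise_iff_exists] at huQ hwQ
  obtain ⟨s, hs, hsu⟩ := huQ
  obtain ⟨s', hs', hsw⟩ := hwQ
  rw [MulAut.smul_def, MulAut.conj_apply] at hsu hsw
  -- s = g⁻¹ u g ∈ P
  have h1 : s = g⁻¹ * u * g⁻¹⁻¹ := by rw [← hsu]; group
  have h2 : s' = (g⁻¹ * h) * u * (g⁻¹ * h)⁻¹ := by
    have : s' = g⁻¹ * w * g := by rw [← hsw]; group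
    rw [this, hw]; group
  have h3 : s = u := by
    rw [h1]; apply hiso; rw [← h1]; exact hs
  have h4 : s' = u := by
    rw [h2]; apply hiso; rw [← h2]; exact hs'
  calc w = g * s' * g⁻¹ := hsw.symm
    _ = g * s * g⁻¹ := by rw [h4, h3]
    _ = u := hsu

end Isolated

section HalfPow

variable {G : Type*} [Group G] {x y : G}

/-- For involutions `x`, `y` whose product has even order `2m`, the element `(xy)^m x` is an
involution commuting with `x`, different from `x`, and conjugate to `x` (if `m` is even)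
or to `y` (if `m` is odd). -/
theorem invpair_half_conj (hx : x * x = 1) (hy : y * y = 1) (m : ℕ)
    (hm : orderOf (x * y) = m + m) (hpos : 0 < m) :
    Commute x ((x * y) ^ m * x) ∧ (x * y) ^ m * x ≠ x ∧
      ((Even m → ∃ d ∈ Subgroup.closure ({x, y} : Set G), d * x * d⁻¹ = (x * y) ^ m * x) ∧
       (Odd m → ∃ d ∈ Subgroup.closure ({x, y} : Set G), d * y * d⁻¹ = (x * y) ^ m * x)) := by
  obtain ⟨hz2, hzx, hzy⟩ := invpair_half_pow hx hy m hm hpos
  have hxm : x ∈ Subgroup.closure ({x, y} : Set G) := Subgroup.subset_closure (by simp)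
  have hym : y ∈ Subgroup.closure ({x, y} : Set G) := Subgroup.subset_closure (by simp)
  have hcm : ∀ k : ℤ, (x * y) ^ k ∈ Subgroup.closure ({x, y} : Set G) := fun k =>
    Subgroup.zpow_mem _ (Subgroup.mul_mem _ hxm hym) k
  refine ⟨?_, ?_, ?_, ?_⟩
  · exact (hzx.symm.mul_right (Commute.refl x))
  · intro h
    have : (x * y) ^ m = 1 := by
      have := congrArg (fun z => z * x⁻¹) h
      simpa using this
    exact ne_one_of_orderOf_two hz2 this
  · rintro ⟨k, hk⟩
    refine ⟨(x * y) ^ (k : ℤ), hcm _, ?_⟩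
    rw [invpair_zpow_conj_x hx hy, hk, ← zpow_natCast]
    congr 2
    push_cast; ring
  · rintro ⟨k, hk⟩
    refine ⟨(x * y) ^ ((k : ℤ) + 1), hcm _, ?_⟩
    -- y = (xy)^(-1) x
    have hy' := invpair_y_eq (x := x) hy
    have h1 : (x * y) ^ ((k : ℤ) + 1) * y * ((x * y) ^ ((k : ℤ) + 1))⁻¹ =
        (x * y) ^ (-1 : ℤ) * ((x * y) ^ ((k : ℤ) + 1) * x * ((x * y) ^ ((k : ℤ) + 1))⁻¹) := by
      nth_rewrite 2 [hy']
      have hcc : Commute ((x * y) ^ ((k : ℤ) + 1)) ((x * y) ^ (-1 : ℤ)) :=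
        (Commute.refl (x * y)).zpow_zpow _ _
      simp only [← mul_assoc]
      rw [hcc.eq]
    rw [h1, invpair_zpow_conj_x hx hy, ← mul_assoc, ← zpow_add, hk, ← zpow_natCast]
    congr 2
    push_cast; ring

end HalfPow

end Cfsg.Agent.Lib.Helper1
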