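import Cfsg.Agent.Lib.Helper1.GC3
import Cfsg.Agent.Lib.Helper1.GC9
import Cfsg.Agent.Lib.Helper8.GlFixE5
import Cfsg.Agent.Lib.Helper6.GlFixKL
import Cfsg.Agent.Lib.Lead.GlFixS1
import Cfsg.Agent.Lib.Helper2.GlFix7
import Cfsg.Agent.Lib.Helper7.GlEnd3

/-!
# S3067 core theorem: assembly

`main`: `Hyp G a τ r → Concl G a` (Glauberman: a coprime automorphism of prime order centralizing
the centralizer of an involution acts trivially modulo the core).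
-/

set_option autoImplicit false

namespace Cfsg.Agent.Lib.Helper1.GC

universe u

variable {Γ : Type u} [Group Γ] [Finite Γ] {G : Subgroup Γ} {a τ : Γ} {r : ℕ}

theorem E5 (h : Hyp G a τ r) (H : Subgroup Γ) (hHG : H ≤ G) (hinv : ∀ x ∈ H, a⁻¹ * x * a ∈ H)
    {g : Γ} (hg : g ∈ G) (hu : g⁻¹ * τ * g ∈ H) : ∃ x ∈ H, x⁻¹ * (g⁻¹ * a * g) * x = a :=
  Cfsg.Agent.Lib.Helper8.GlFixE5.E5 h H hHG hinv hg hu

theorem KL (h : MinCE G a τ r) (H : Subgroup Γ) (hHG : H ≤ G) (hne : H ≠ G)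
    (hinv : ∀ x ∈ H, a⁻¹ * x * a ∈ H) {u : Γ} (hu : IsK G τ u) (huH : u ∈ H)
    {k : Γ} (hk : k ∈ H) : Odd (Nat.card (Lam0 G a (k⁻¹ * a * k))) :=
  Cfsg.Agent.Lib.Helper6.GlFixKL.KL_of_E5
    (fun H hHG hinv {_} hg hu => E5 h.hyp H hHG hinv hg hu) h H hHG hne hinv hu huH hk

theorem R1 (h : MinCE G a τ r) {t : Γ} (ht : IsK G τ t) (hta : Commute t a) :
    ∃ t', IsK G τ t' ∧ Commute t' a ∧ t' ≠ t ∧ Commute t t' :=
  Cfsg.Agent.Lib.Helper7.GlEnd3.R1 h ht hta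

theorem S1 (h : MinCE G a τ r) {b : Γ} (hb : IsPt G a b) : Odd (Nat.card (Lam0 G a b)) :=
  Cfsg.Agent.Lib.Lead.GlFixS1.S1_of h
    (fun H hHG hinv {_} hg hu => E5 h.hyp H hHG hinv hg hu)
    (fun H hHG hne hinv {_} hu huH {_} hk => KL h H hHG hne hinv hu huH hk)
    (fun N hNG hn hc => R0 h N hNG hn hc)
    (fun {_} ht hta => R1 h ht hta) hb

theorem S5 (h : MinCE G a τ r) {t b : Γ} (ht : IsK G τ t) (hta : Commute t a)
    (hb : IsPt G a b) (hba : b ≠ a) :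
    (∀ x ∈ Lam0 G a b, t⁻¹ * x * t ∈ Lam0 G a b) ∧ ∃ x ∈ Lam0 G a b, b = x⁻¹ * a * x :=
  Cfsg.Agent.Lib.Helper2.GlFix.S5_of_S1 h.hyp (fun _ hb _ => S1 h hb) ht hta hb hba

theorem endgame (h : MinCE G a τ r) : False :=
  Cfsg.Agent.Lib.Helper7.GlEnd3.endgame h (fun N hNG hn hc => R0 h N hNG hn hc)
    (fun _ hb _ => S1 h hb) (fun _ _ ht hta hb hba => S5 h ht hta hb hba)

/-- **Main theorem.** -/
theorem main (Γ : Type u) [Group Γ] [Finite Γ] (G : Subgroup Γ) (a τ : Γ) (r : ℕ)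
    (h : Hyp G a τ r) : Concl G a :=
  main_of_endgame (fun _ _ _ _ _ _ _ h => endgame h) (Nat.card G) Γ G a τ r rfl h

end Cfsg.Agent.Lib.Helper1.GC
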