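import Mathlib
import Cfsg.Agent.Lib.Helper8.Gl69Defs

set_option autoImplicit false

/-! S4359 package G1a: the chain `P_{0,j}` (Glauberman 1969). -/

namespace Cfsg.Agent.Lib.Helper8.Gl69

open scoped Pointwise

universe u

variable {G : Type u} [Group G]

/-- the conjugate `g⁻¹ X g`. -/
def g1a_cg (g : G) (X : Subgroup G) : Subgroup G := MulAut.conj g⁻¹ • X

theorem g1a_mem_cg {g : G} {X : Subgroup G} {y : G} :
    y ∈ g1a_cg g X ↔ g * y * g⁻¹ ∈ X := by
  unfold g1a_cg
  rw [Subgroup.mem_pointwise_smul_iff_inv_smul_mem, ← map_inv, inv_inv, MulAut.smul_def,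
    MulAut.conj_apply]

theorem g1a_mem_chain {P : Subgroup G} {g : G} {j : ℕ} {y : G} :
    y ∈ chain P g j ↔ ∀ k : ℕ, k ≤ j → g ^ k * y * (g ^ k)⁻¹ ∈ P := by
  unfold chain
  simp only [Subgroup.mem_iInf, Finset.mem_range, mem_cj, zpow_natCast, Nat.lt_succ_iff]

theorem g1a_chain_zero (P : Subgroup G) (g : G) : chain P g 0 = P := by
  ext y
  rw [g1a_mem_chain]
  constructor
  · intro h
    simpa using h 0 le_rfl
  · intro h k hk
    obtain rfl : k = 0 := Nat.le_zero.mp hk
    simpa using h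

theorem g1a_chain_anti (P : Subgroup G) (g : G) {i j : ℕ} (h : i ≤ j) :
    chain P g j ≤ chain P g i := by
  intro y hy
  rw [g1a_mem_chain] at hy ⊢
  intro k hk
  exact hy k (hk.trans h)

/-- `D j = P_1 ⊓ … ⊓ P_{j+1}`, the `g`-conjugate of `chain P g j`. -/
def g1a_D (P : Subgroup G) (g : G) (j : ℕ) : Subgroup G := g1a_cg g (chain P g j)

theorem g1a_conj_pow (g y : G) (k : ℕ) :
    g ^ (k + 1) * y * (g ^ (k + 1))⁻¹ = g ^ k * (g * y * g⁻¹) * (g ^ k)⁻¹ := by
  rw [pow_succ]
  group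

theorem g1a_mem_D {P : Subgroup G} {g : G} {j : ℕ} {y : G} :
    y ∈ g1a_D P g j ↔ ∀ k : ℕ, k ≤ j → g ^ (k + 1) * y * (g ^ (k + 1))⁻¹ ∈ P := by
  unfold g1a_D
  rw [g1a_mem_cg, g1a_mem_chain]
  constructor
  · intro h k hk
    rw [g1a_conj_pow]
    exact h k hk
  · intro h k hk
    rw [← g1a_conj_pow]
    exact h k hk

theorem g1a_chain_succ (P : Subgroup G) (g : G) (j : ℕ) :
    chain P g (j + 1) = P ⊓ g1a_D P g j := by
  ext y
  rw [Subgroup.mem_inf, g1a_mem_chain, g1a_mem_D]
  constructor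
  · intro h
    refine ⟨by simpa using h 0 (Nat.zero_le _), fun k hk => h (k + 1) (Nat.succ_le_succ hk)⟩
  · rintro ⟨h0, h⟩ k hk
    cases k with
    | zero => simpa using h0
    | succ k => exact h k (Nat.le_of_succ_le_succ hk)

theorem g1a_D_anti (P : Subgroup G) (g : G) {i j : ℕ} (h : i ≤ j) :
    g1a_D P g j ≤ g1a_D P g i := by
  intro y hy
  rw [g1a_mem_D] at hy ⊢
  intro k hk
  exact hy k (hk.trans h)

theorem g1a_D_zero (P : Subgroup G) (g : G) : g1a_D P g 0 = g1a_cg g P := by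
  unfold g1a_D
  rw [g1a_chain_zero]

theorem g1a_D_le_cg (P : Subgroup G) (g : G) (j : ℕ) : g1a_D P g j ≤ g1a_cg g P := by
  rw [← g1a_D_zero]
  exact g1a_D_anti P g (Nat.zero_le j)

theorem g1a_chain_succ_le_D (P : Subgroup G) (g : G) (j : ℕ) :
    chain P g (j + 1) ≤ g1a_D P g j := by
  rw [g1a_chain_succ]
  exact inf_le_right

theorem g1a_card_cg (g : G) (X : Subgroup G) : Nat.card (g1a_cg g X) = Nat.card X :=
  (Nat.card_congr (Subgroup.equivSMul (MulAut.conj g⁻¹) X).toEquiv).symm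

theorem g1a_card_D (P : Subgroup G) (g : G) (j : ℕ) :
    Nat.card (g1a_D P g j) = Nat.card (chain P g j) :=
  g1a_card_cg g _

theorem g1a_chain_succ_eq (P : Subgroup G) (g : G) (j : ℕ) :
    chain P g (j + 1) = (P ⊓ g1a_cg g P) ⊓ g1a_D P g j := by
  rw [g1a_chain_succ, inf_assoc, inf_eq_right.mpr (g1a_D_le_cg P g j)]

theorem g1a_conj_mem (P : Subgroup G) (g : G)
    (hN : ((P ⊓ g1a_cg g P).subgroupOf (g1a_cg g P)).Normal) (j : ℕ) (d y : G)
    (hd : d ∈ g1a_D P g j) (hy : y ∈ chain P g (j + 1)) : d * y * d⁻¹ ∈ chain P g (j + 1) := by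
  rw [g1a_chain_succ_eq] at hy ⊢
  have hd' : d ∈ g1a_cg g P := g1a_D_le_cg P g j hd
  have hy' : y ∈ g1a_cg g P := hy.1.2
  refine ⟨?_, (g1a_D P g j).mul_mem ((g1a_D P g j).mul_mem hd hy.2) ((g1a_D P g j).inv_mem hd)⟩
  have hmem : (⟨y, hy'⟩ : ↥(g1a_cg g P)) ∈ (P ⊓ g1a_cg g P).subgroupOf (g1a_cg g P) := by
    rw [Subgroup.mem_subgroupOf]
    exact hy.1
  have := hN.conj_mem ⟨y, hy'⟩ hmem ⟨d, hd'⟩
  rw [Subgroup.mem_subgroupOf] at this
  simpa using this

theorem g1a_D_le_normalizer (P : Subgroup G) (g : G)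
    (hN : ((P ⊓ g1a_cg g P).subgroupOf (g1a_cg g P)).Normal) (j : ℕ) :
    g1a_D P g j ≤ Subgroup.normalizer (chain P g (j + 1) : Set G) := by
  intro d hd
  rw [Subgroup.mem_normalizer_iff]
  intro y
  constructor
  · intro hy
    exact g1a_conj_mem P g hN j d y hd hy
  · intro hy
    have := g1a_conj_mem P g hN j d⁻¹ _ ((g1a_D P g j).inv_mem hd) hy
    simpa [mul_assoc] using this

theorem g1a_relIndex_dvd (P : Subgroup G) (g : G) (p : ℕ)
    (hN : ((P ⊓ g1a_cg g P).subgroupOf (g1a_cg g P)).Normal)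
    (hidx : (P ⊓ g1a_cg g P).relIndex (g1a_cg g P) = p) (j : ℕ) :
    (chain P g (j + 1)).relIndex (g1a_D P g j) ∣ p := by
  rw [g1a_chain_succ_eq, Subgroup.inf_relIndex_right,
    ← Subgroup.relIndex_subgroupOf (g1a_D_le_cg P g j)]
  have := hN
  have h := Subgroup.relIndex_dvd_index_of_normal ((P ⊓ g1a_cg g P).subgroupOf (g1a_cg g P))
    ((g1a_D P g j).subgroupOf (g1a_cg g P))
  rw [← hidx]
  exact h

theorem g1a_card_mul (P : Subgroup G) (g : G) (j : ℕ) :
    Nat.card (chain P g (j + 1)) * (chain P g (j + 1)).relIndex (g1a_D P g j) =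
      Nat.card (chain P g j) := by
  have h := Subgroup.relIndex_mul_relIndex ⊥ (chain P g (j + 1)) (g1a_D P g j) bot_le
    (g1a_chain_succ_le_D P g j)
  rw [Subgroup.relIndex_bot_left, Subgroup.relIndex_bot_left, g1a_card_D] at h
  exact h

/-- `H ≤ K` of prime index, `L ≤ K`, `L ≰ H` implies `K ≤ H ⊔ L`. -/
theorem g1a_sup_of_prime {H K L : Subgroup G} {p : ℕ} (hp : p.Prime) (hHK : H ≤ K)
    (hidx : H.relIndex K = p) (hLK : L ≤ K) (hLH : ¬ L ≤ H) : K ≤ H ⊔ L := by
  have h := Subgroup.relIndex_mul_relIndex H (H ⊔ L) K le_sup_left (sup_le hHK hLK)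
  rw [hidx] at h
  have h1 : H.relIndex (H ⊔ L) ∣ p := Dvd.intro _ h
  rcases (Nat.dvd_prime hp).mp h1 with h1 | h1
  · exfalso
    rw [Subgroup.relIndex_eq_one] at h1
    exact hLH (le_sup_right.trans h1)
  · rw [h1] at h
    have h2 : (H ⊔ L).relIndex K = 1 := by
      have hp0 : 0 < p := hp.pos
      nlinarith [Nat.eq_of_mul_eq_mul_left hp0 (by rw [h, mul_one] : p * (H ⊔ L).relIndex K = p * 1)]
    rwa [Subgroup.relIndex_eq_one] at h2

/-- conjugation by `g` preserves the normalizer of a `g`-invariant subgroup. -/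
theorem g1a_normalizer_conj {Q : Subgroup G} {g : G} (hQ : g1a_cg g Q = Q) {z : G}
    (hz : z ∈ Subgroup.normalizer (Q : Set G)) : g * z * g⁻¹ ∈ Subgroup.normalizer (Q : Set G) ∧ g⁻¹ * z * g ∈ Subgroup.normalizer (Q : Set G) := by
  have hiff : ∀ y : G, y ∈ Q ↔ g * y * g⁻¹ ∈ Q := by
    intro y
    rw [← g1a_mem_cg, hQ]
  have hiff' : ∀ y : G, y ∈ Q ↔ g⁻¹ * y * g ∈ Q := by
    intro y
    rw [hiff (g⁻¹ * y * g)]
    have : g * (g⁻¹ * y * g) * g⁻¹ = y := by group
    rw [this]
  rw [Subgroup.mem_normalizer_iff] at hz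
  constructor
  · rw [Subgroup.mem_normalizer_iff]
    intro h
    rw [hiff' h, hz (g⁻¹ * h * g), hiff (z * (g⁻¹ * h * g) * z⁻¹)]
    have : g * (z * (g⁻¹ * h * g) * z⁻¹) * g⁻¹ = g * z * g⁻¹ * h * (g * z * g⁻¹)⁻¹ := by group
    rw [this]
  · rw [Subgroup.mem_normalizer_iff]
    intro h
    rw [hiff h, hz (g * h * g⁻¹), hiff' (z * (g * h * g⁻¹) * z⁻¹)]
    have : g⁻¹ * (z * (g * h * g⁻¹) * z⁻¹) * g = g⁻¹ * z * g * h * (g⁻¹ * z * g)⁻¹ := by group
    rw [this]

theorem chain_card [Finite G] (P : Subgroup G) (g : G) (p : ℕ) (hp : p.Prime)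
    (hN : ((P ⊓ MulAut.conj g⁻¹ • P).subgroupOf (MulAut.conj g⁻¹ • P)).Normal)
    (hidx : (P ⊓ MulAut.conj g⁻¹ • P).relIndex (MulAut.conj g⁻¹ • P) = p)
    (h1 : ∀ Q : Subgroup G, Q ≤ P → (Q.subgroupOf P).Normal → MulAut.conj g • Q = Q → Q = ⊥) :
    ∃ t : ℕ, 1 ≤ t ∧ ∀ i : ℕ, i ≤ t → Nat.card (chain P g i) = p ^ (t - i) := by
  classical
  have hN' : ((P ⊓ g1a_cg g P).subgroupOf (g1a_cg g P)).Normal := hN
  have hidx' : (P ⊓ g1a_cg g P).relIndex (g1a_cg g P) = p := hidx
  have hdvd : ∀ j, (chain P g (j + 1)).relIndex (g1a_D P g j) ∣ p :=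
    fun j => g1a_relIndex_dvd P g p hN' hidx' j
  have hcard := g1a_card_mul P g
  have ha0 : (chain P g (0 + 1)).relIndex (g1a_D P g 0) = p := by
    rw [g1a_chain_succ, g1a_D_zero, Subgroup.inf_relIndex_right]
    rw [← hidx', Subgroup.inf_relIndex_right]
  have hex : ∃ j, (chain P g (j + 1)).relIndex (g1a_D P g j) = 1 := by
    by_contra hne
    push Not at hne
    have hap : ∀ j, (chain P g (j + 1)).relIndex (g1a_D P g j) = p :=
      fun j => ((Nat.dvd_prime hp).mp (hdvd j)).resolve_left (hne j)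
    have hpow : ∀ j, Nat.card P = p ^ j * Nat.card (chain P g j) := by
      intro j
      induction j with
      | zero => simp [g1a_chain_zero]
      | succ j ih => rw [ih, ← hcard j, hap j]; ring
    have hpos : 0 < Nat.card (chain P g (Nat.card P)) := Nat.card_pos
    have h2 : Nat.card P < p ^ Nat.card P := Nat.lt_pow_self hp.one_lt
    have h3 := hpow (Nat.card P)
    have h4 : p ^ Nat.card P ≤ p ^ Nat.card P * Nat.card (chain P g (Nat.card P)) :=
      Nat.le_mul_of_pos_right _ hpos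
    omega
  obtain ⟨t, ht1, htmin⟩ : ∃ t, (chain P g (t + 1)).relIndex (g1a_D P g t) = 1 ∧
      ∀ j < t, (chain P g (j + 1)).relIndex (g1a_D P g j) ≠ 1 :=
    ⟨Nat.find hex, Nat.find_spec hex, fun j hj => Nat.find_min hex hj⟩
  have hap : ∀ j < t, (chain P g (j + 1)).relIndex (g1a_D P g j) = p :=
    fun j hj => ((Nat.dvd_prime hp).mp (hdvd j)).resolve_left (htmin j hj)
  have ht : 1 ≤ t := by
    rcases Nat.eq_zero_or_pos t with h0 | h0
    · exfalso
      subst h0
      rw [ha0] at ht1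
      exact hp.one_lt.ne' ht1
    · exact h0
  -- Q = chain t is g-invariant
  have hDt : g1a_D P g t ≤ chain P g (t + 1) := Subgroup.relIndex_eq_one.mp ht1
  have hcc : chain P g (t + 1) = chain P g t := by
    apply Subgroup.eq_of_le_of_card_ge (g1a_chain_anti P g (Nat.le_succ t))
    have := hcard t
    rw [ht1, mul_one] at this
    exact this.ge
  have hQg : g1a_cg g (chain P g t) = chain P g t := by
    have : g1a_D P g t = chain P g (t + 1) := le_antisymm hDt (g1a_chain_succ_le_D P g t)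
    show g1a_D P g t = chain P g t
    rw [this, hcc]
  -- downward induction: chain (t - d) normalizes Q
  have hnorm : ∀ d : ℕ, d ≤ t → chain P g (t - d) ≤ Subgroup.normalizer (chain P g t : Set G) := by
    intro d
    induction d with
    | zero => intro _; exact Subgroup.le_normalizer
    | succ d ih =>
      intro hd
      have ih' := ih (Nat.le_of_succ_le hd)
      -- i = t - d ≥ 1
      obtain ⟨i, hi⟩ : ∃ i, t - d = i + 1 := ⟨t - d - 1, by omega⟩
      have hi' : t - (d + 1) = i := by omega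
      rw [hi] at ih'
      rw [hi']
      -- D i ≤ N(Q)
      have hD : g1a_D P g i ≤ Subgroup.normalizer (chain P g t : Set G) := by
        rcases Nat.eq_zero_or_pos d with hd0 | hd0
        · -- i + 1 = t
          have : i + 1 = t := by omega
          have h := g1a_D_le_normalizer P g hN' i
          rwa [this] at h
        · -- i + 1 < t
          have hlt : i + 1 < t := by omega
          have hDi1 : g1a_D P g (i + 1) ≤ Subgroup.normalizer (chain P g t : Set G) := by
            intro y hy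
            have hy' : g * y * g⁻¹ ∈ chain P g (i + 1) := g1a_mem_cg.mp hy
            have := (g1a_normalizer_conj hQg (ih' hy')).2
            have e : g⁻¹ * (g * y * g⁻¹) * g = y := by group
            rwa [e] at this
          have hsup : g1a_D P g i ≤ chain P g (i + 1) ⊔ g1a_D P g (i + 1) := by
            apply g1a_sup_of_prime hp (g1a_chain_succ_le_D P g i) (hap i (by omega))
              (g1a_D_anti P g (Nat.le_succ i))
            intro hle
            apply htmin (i + 1) hlt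
            rw [Subgroup.relIndex_eq_one, g1a_chain_succ]
            exact le_inf (hle.trans (g1a_chain_anti P g (Nat.zero_le _) |>.trans
              (g1a_chain_zero P g).le)) le_rfl
          exact hsup.trans (sup_le ih' hDi1)
      intro y hy
      have hy' : g⁻¹ * y * g ∈ g1a_D P g i := by
        unfold g1a_D
        rw [g1a_mem_cg]
        have e : g * (g⁻¹ * y * g) * g⁻¹ = y := by group
        rwa [e]
      have := (g1a_normalizer_conj hQg (hD hy')).1
      have e : g * (g⁻¹ * y * g) * g⁻¹ = y := by group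
      rwa [e] at this
  -- Q = ⊥
  have hQP : chain P g t ≤ P := by
    have := g1a_chain_anti P g (Nat.zero_le t)
    rwa [g1a_chain_zero] at this
  have hQbot : chain P g t = ⊥ := by
    apply h1 _ hQP
    · rw [Subgroup.normal_subgroupOf_iff_le_normalizer hQP]
      have := hnorm t le_rfl
      rwa [Nat.sub_self, g1a_chain_zero] at this
    · have h := hQg
      unfold g1a_cg at h
      conv_lhs => rw [← h]
      rw [smul_smul, ← map_mul, mul_inv_cancel, map_one, one_smul]
  refine ⟨t, ht, ?_⟩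
  -- cards by downward induction
  have hc : ∀ d : ℕ, d ≤ t → Nat.card (chain P g (t - d)) = p ^ d := by
    intro d
    induction d with
    | zero => intro _; simp [hQbot]
    | succ d ih =>
      intro hd
      have ih' := ih (Nat.le_of_succ_le hd)
      obtain ⟨i, hi⟩ : ∃ i, t - (d + 1) = i := ⟨_, rfl⟩
      have e : t - d = i + 1 := by omega
      have hit : i < t := by omega
      rw [e] at ih'
      have := hcard i
      rw [ih', hap i hit] at this
      rw [hi, ← this, pow_succ]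
  intro i hi
  have := hc (t - i) (Nat.sub_le _ _)
  rwa [Nat.sub_sub_self hi] at this

end Cfsg.Agent.Lib.Helper8.Gl69
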