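import Mathlib
import Cfsg.Agent.Lib.Helper8.Gl69Defs
import Cfsg.Agent.Lib.Helper1.Gl69G1a
import Cfsg.Agent.Lib.Helper9.Gl69G1b

set_option autoImplicit false

/-! S4385 package B1: the canonical generators for `g = y * x` (apply `Gl69.chain_card` and
`Gl69.exists_seq`). -/

namespace Cfsg.Agent.Lib.Helper8.GDih

open Cfsg.Agent.Lib.Helper8.Gl69
open scoped Pointwise

variable {G : Type*} [Group G] [Finite G]

theorem b1_mem_conj {X : Subgroup G} {g w : G} :
    w ∈ MulAut.conj g • X ↔ g⁻¹ * w * g ∈ X := by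
  rw [Subgroup.mem_pointwise_smul_iff_inv_smul_mem, ← map_inv, MulAut.smul_def,
    MulAut.conj_apply, inv_inv]

theorem b1_conj_inv_eq {X : Subgroup G} {g : G} (h : MulAut.conj g • X = X) :
    MulAut.conj g⁻¹ • X = X := by
  conv_lhs => rw [← h]
  rw [smul_smul, ← map_mul, inv_mul_cancel, map_one, one_smul]

theorem b1_conj_mul (X : Subgroup G) (a b : G) :
    MulAut.conj (a * b) • X = MulAut.conj a • (MulAut.conj b • X) := by
  rw [smul_smul, ← map_mul]

theorem b1_seq (H P : Subgroup G) (x : G) (hx : x ∈ H) (hsup : P ⊔ MulAut.conj x⁻¹ • P = H)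
    (hidx : (P ⊓ MulAut.conj x⁻¹ • P).relIndex (MulAut.conj x⁻¹ • P) = 2)
    (hne : P ⊓ MulAut.conj x⁻¹ • P ≠ ⊥)
    (y : G) (hyN : MulAut.conj y • P = P)
    (hyQ : ∀ Q : Subgroup G, Q ≤ P → (Q.subgroupOf H).Normal → MulAut.conj y • Q = Q → Q = ⊥) :
    ∃ (t : ℕ) (z : ℤ → G), 2 ≤ t ∧ Seq 2 t (y * x) z ∧
      ∀ i : ℤ, cj P (y * x) i = Subgroup.closure (z '' Set.Ico (i - t + 1) (i + 1)) := by
  have hPH : P ≤ H := hsup ▸ le_sup_left
  have hg : MulAut.conj (y * x)⁻¹ • P = MulAut.conj x⁻¹ • P := by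
    rw [mul_inv_rev, b1_conj_mul, b1_conj_inv_eq hyN]
  -- index two gives normality
  have hN : ((P ⊓ MulAut.conj (y * x)⁻¹ • P).subgroupOf (MulAut.conj (y * x)⁻¹ • P)).Normal := by
    rw [hg]
    exact Subgroup.normal_of_index_eq_two hidx
  have hidx' : (P ⊓ MulAut.conj (y * x)⁻¹ • P).relIndex (MulAut.conj (y * x)⁻¹ • P) = 2 := by
    rw [hg]; exact hidx
  have h1 : ∀ Q : Subgroup G, Q ≤ P → (Q.subgroupOf P).Normal →
      MulAut.conj (y * x) • Q = Q → Q = ⊥ := by
    intro R hRP hRn hRg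
    have hRg' : MulAut.conj (y * x)⁻¹ • R = R := b1_conj_inv_eq hRg
    -- `P` normalizes `R`
    have hP_le : P ≤ Subgroup.normalizer (R : Set G) := by
      intro w hw
      have := (Subgroup.normal_subgroupOf_iff_le_normalizer hRP).mp hRn
      exact this hw
    -- `x⁻¹ P x` normalizes `R`
    have hP'_le : MulAut.conj x⁻¹ • P ≤ Subgroup.normalizer (R : Set G) := by
      rw [← hg]
      intro w hw
      rw [b1_mem_conj] at hw
      -- `w = g⁻¹ p g` with `p ∈ P`
      set g := y * x with hgdef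
      have hp : g⁻¹⁻¹ * w * g⁻¹ ∈ Subgroup.normalizer (R : Set G) := hP_le hw
      rw [Subgroup.mem_normalizer_iff] at hp ⊢
      intro v
      -- `v ∈ R ↔ g v g⁻¹ ∈ R`
      have hconj : ∀ u : G, u ∈ R ↔ g * u * g⁻¹ ∈ R := by
        intro u
        constructor
        · intro hu
          have : g * u * g⁻¹ ∈ MulAut.conj g • R := by
            rw [b1_mem_conj]
            have e : g⁻¹ * (g * u * g⁻¹) * g = u := by group
            rw [e]; exact hu
          rwa [hRg] at this
        · intro hu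
          have : g * u * g⁻¹ ∈ MulAut.conj g • R := by rwa [hRg]
          rw [b1_mem_conj] at this
          have e : g⁻¹ * (g * u * g⁻¹) * g = u := by group
          rwa [e] at this
      rw [hconj v, hp (g * v * g⁻¹), hconj (w * v * w⁻¹)]
      have e : g⁻¹⁻¹ * w * g⁻¹ * (g * v * g⁻¹) * (g⁻¹⁻¹ * w * g⁻¹)⁻¹ = g * (w * v * w⁻¹) * g⁻¹ := by
        group
      rw [e]
    have hH_le : H ≤ Subgroup.normalizer (R : Set G) := by
      rw [← hsup]
      exact sup_le hP_le hP'_le
    have hRH : R ≤ H := hRP.trans hPH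
    have hRnH : (R.subgroupOf H).Normal :=
      (Subgroup.normal_subgroupOf_iff_le_normalizer hRH).mpr hH_le
    -- `x` normalizes `R`
    have hxR : MulAut.conj x • R = R := by
      have hxn := hH_le hx
      rw [Subgroup.mem_normalizer_iff] at hxn
      ext w
      rw [b1_mem_conj]
      have hxn' := hxn (x⁻¹ * w * x)
      have e : x * (x⁻¹ * w * x) * x⁻¹ = w := by group
      rw [e] at hxn'
      exact hxn'
    have hyR : MulAut.conj y • R = R := by
      have := hRg
      rw [b1_conj_mul, hxR] at this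
      exact this
    exact hyQ R hRP hRnH hyR
  obtain ⟨t, ht1, hc⟩ := chain_card P (y * x) 2 Nat.prime_two hN hidx' h1
  -- `t ≥ 2`
  have ht2 : 2 ≤ t := by
    by_contra hlt
    have ht : t = 1 := by omega
    have h1c := hc 1 (by omega)
    rw [ht, Nat.sub_self, pow_zero] at h1c
    have hbot : chain P (y * x) 1 = ⊥ := Subgroup.card_eq_one.mp h1c
    apply hne
    have : chain P (y * x) 1 = P ⊓ MulAut.conj x⁻¹ • P := by
      have h := g1a_chain_succ P (y * x) 0
      rw [g1a_D_zero] at h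
      simp only [zero_add] at h
      rw [h]
      unfold g1a_cg
      rw [hg]
    rw [← this]
    exact hbot
  obtain ⟨z, hz, hcl⟩ := exists_seq P (y * x) 2 Nat.prime_two t ht1 hc
  exact ⟨t, z, ht2, hz, hcl⟩

end Cfsg.Agent.Lib.Helper8.GDih
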