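import Mathlib

set_option autoImplicit false

/-! S4385 package B1n: no nontrivial subgroup of `P` is normal in `H` and in `y H y⁻¹`. -/

namespace Cfsg.Agent.Lib.Helper8.GDih

open scoped Pointwise

variable {G : Type*} [Group G]

theorem b1n_mem_conj {X : Subgroup G} {g w : G} :
    w ∈ MulAut.conj g • X ↔ g⁻¹ * w * g ∈ X := by
  rw [Subgroup.mem_pointwise_smul_iff_inv_smul_mem, ← map_inv, MulAut.smul_def,
    MulAut.conj_apply, inv_inv]

/-- if `w` normalizes `N` then `a w a⁻¹` normalizes `a N a⁻¹`. -/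
theorem b1n_conj_mem_normalizer {N : Subgroup G} {w : G}
    (hw : w ∈ Subgroup.normalizer (N : Set G)) (a : G) :
    a * w * a⁻¹ ∈ Subgroup.normalizer ((MulAut.conj a • N : Subgroup G) : Set G) := by
  rw [Subgroup.mem_normalizer_iff] at hw ⊢
  intro v
  rw [b1n_mem_conj, b1n_mem_conj, hw (a⁻¹ * v * a)]
  have e : a⁻¹ * (a * w * a⁻¹ * v * (a * w * a⁻¹)⁻¹) * a = w * (a⁻¹ * v * a) * w⁻¹ := by group
  rw [e]

/-- a subgroup all of whose conjugates `h M h⁻¹`, `h ∈ H`, lie in `M` is normalized by `H`. -/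
theorem b1n_le_normalizer {H M : Subgroup G} (h : ∀ a ∈ H, MulAut.conj a • M ≤ M) :
    H ≤ Subgroup.normalizer (M : Set G) := by
  intro a ha
  rw [Subgroup.mem_normalizer_iff]
  intro v
  constructor
  · intro hv
    apply h a ha
    rw [b1n_mem_conj]
    have e : a⁻¹ * (a * v * a⁻¹) * a = v := by group
    rw [e]; exact hv
  · intro hv
    have h2 := h a⁻¹ (H.inv_mem ha)
    have : v ∈ MulAut.conj a⁻¹ • M := by
      rw [b1n_mem_conj, inv_inv]; exact hv
    exact h2 this

theorem b1n_smul_eq_of_mem_normalizer {N : Subgroup G} {a : G}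
    (ha : a ∈ Subgroup.normalizer (N : Set G)) : MulAut.conj a • N = N := by
  rw [Subgroup.mem_normalizer_iff] at ha
  ext w
  rw [b1n_mem_conj]
  have := ha (a⁻¹ * w * a)
  have e : a * (a⁻¹ * w * a) * a⁻¹ = w := by group
  rw [e] at this
  exact this

theorem b1_nn [Finite G] (H P : Subgroup G) (hPH : P ≤ H) (y : G)
    (hy2 : y ^ 2 ∈ P ⊔ Subgroup.centralizer (P : Set G)) (hyN : MulAut.conj y • P = P)
    (hyQ : ∀ Q : Subgroup G, Q ≤ P → (Q.subgroupOf H).Normal → MulAut.conj y • Q = Q → Q = ⊥)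
    (N : Subgroup G) (hNP : N ≤ P) (hN1 : H ≤ Subgroup.normalizer (N : Set G))
    (hN2 : MulAut.conj y • H ≤ Subgroup.normalizer (N : Set G)) : N = ⊥ := by
  classical
  have hyNinv : MulAut.conj y⁻¹ • P = P := by
    conv_lhs => rw [← hyN]
    rw [smul_smul, ← map_mul, inv_mul_cancel, map_one, one_smul]
  let S : Set (Subgroup G) := {K | K ≤ P ∧ H ≤ Subgroup.normalizer (K : Set G) ∧
    MulAut.conj y • H ≤ Subgroup.normalizer (K : Set G)}
  -- the set is stable under `K ↦ y⁻¹ K y`
  have hstep : ∀ K ∈ S, MulAut.conj y⁻¹ • K ∈ S := by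
    rintro K ⟨hKP, hK1, hK2⟩
    have hK'P : MulAut.conj y⁻¹ • K ≤ P := by
      rw [← hyNinv]
      exact Subgroup.pointwise_smul_le_pointwise_smul_iff.mpr hKP
    -- `H` normalizes `y⁻¹ K y`
    have hK'1 : H ≤ Subgroup.normalizer ((MulAut.conj y⁻¹ • K : Subgroup G) : Set G) := by
      intro w hw
      have h1 : y * w * y⁻¹ ∈ MulAut.conj y • H := by
        rw [b1n_mem_conj]
        have e : y⁻¹ * (y * w * y⁻¹) * y = w := by group
        rw [e]; exact hw
      have h2 := b1n_conj_mem_normalizer (hK2 h1) y⁻¹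
      have e : y⁻¹ * (y * w * y⁻¹) * y⁻¹⁻¹ = w := by group
      rw [e] at h2
      exact h2
    -- `y⁻¹ H y` normalizes `y⁻¹ K y`
    have hK'0 : ∀ w ∈ H, y⁻¹ * w * y ∈
        Subgroup.normalizer ((MulAut.conj y⁻¹ • K : Subgroup G) : Set G) := by
      intro w hw
      have h2 := b1n_conj_mem_normalizer (hK1 hw) y⁻¹
      rw [inv_inv] at h2
      exact h2
    -- `y ^ 2` normalizes `y⁻¹ K y`
    have hsq : y ^ 2 ∈ Subgroup.normalizer ((MulAut.conj y⁻¹ • K : Subgroup G) : Set G) := by
      have hle : P ⊔ Subgroup.centralizer (P : Set G) ≤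
          Subgroup.normalizer ((MulAut.conj y⁻¹ • K : Subgroup G) : Set G) := by
        apply sup_le
        · exact hPH.trans hK'1
        · intro c hc
          rw [Subgroup.mem_normalizer_iff]
          intro v
          have hcv : v ∈ MulAut.conj y⁻¹ • K → c * v * c⁻¹ = v := by
            intro hv
            have hvP : v ∈ P := hK'P hv
            have := hc v hvP
            -- `v * c = c * v`
            rw [← this, mul_inv_cancel_right]
          constructor
          · intro hv
            rw [hcv hv]; exact hv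
          · intro hv
            -- `c v c⁻¹ ∈ P`, so it is fixed by `c⁻¹`
            have hvP : c * v * c⁻¹ ∈ P := hK'P hv
            have hc' := hc (c * v * c⁻¹) hvP
            -- `(c v c⁻¹) c = c (c v c⁻¹)` gives `c v = c c v c⁻¹`, so `v = c v c⁻¹`
            have : v = c * v * c⁻¹ := by
              have h3 : c * v * c⁻¹ * c = c * (c * v * c⁻¹) := hc'
              have h4 : c * v = c * (c * v * c⁻¹) := by
                rw [← h3]; group
              exact mul_left_cancel h4
            rw [this]; exact hv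
      exact hle hy2
    have hK'2 : MulAut.conj y • H ≤
        Subgroup.normalizer ((MulAut.conj y⁻¹ • K : Subgroup G) : Set G) := by
      intro w hw
      rw [b1n_mem_conj] at hw
      -- `w = y² (y⁻¹ (y⁻¹ w y) y) y⁻²`
      have h1 := hK'0 (y⁻¹ * w * y) hw
      have h3 := Subgroup.mul_mem _ (Subgroup.mul_mem _ hsq h1) (Subgroup.inv_mem _ hsq)
      have e : y ^ 2 * (y⁻¹ * (y⁻¹ * w * y) * y) * (y ^ 2)⁻¹ = w := by
        rw [pow_two]; group
      rw [e] at h3
      exact h3
    exact ⟨hK'P, hK'1, hK'2⟩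
  set M : Subgroup G := sSup S with hM
  have hMP : M ≤ P := sSup_le (fun K hK => hK.1)
  have hMH : H ≤ Subgroup.normalizer (M : Set G) := by
    apply b1n_le_normalizer
    intro a ha
    rw [Subgroup.pointwise_smul_subset_iff]
    apply sSup_le
    intro K hK
    rw [← Subgroup.pointwise_smul_subset_iff, b1n_smul_eq_of_mem_normalizer (hK.2.1 ha)]
    exact le_sSup hK
  have hMy : MulAut.conj y⁻¹ • M ≤ M := by
    rw [Subgroup.pointwise_smul_subset_iff]
    apply sSup_le
    intro K hK
    rw [← Subgroup.pointwise_smul_subset_iff]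
    exact le_sSup (hstep K hK)
  have hMy' : MulAut.conj y⁻¹ • M = M := by
    apply Subgroup.eq_of_le_of_card_ge hMy
    exact (Nat.card_congr (Subgroup.equivSMul (MulAut.conj y⁻¹) M).toEquiv).le
  have hMy'' : MulAut.conj y • M = M := by
    conv_lhs => rw [← hMy']
    rw [smul_smul, ← map_mul, mul_inv_cancel, map_one, one_smul]
  have hMbot : M = ⊥ :=
    hyQ M hMP ((Subgroup.normal_subgroupOf_iff_le_normalizer (hMP.trans hPH)).mpr hMH) hMy''
  have hNM : N ≤ M := le_sSup ⟨hNP, hN1, hN2⟩
  rw [hMbot] at hNM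
  exact le_bot_iff.mp hNM

end Cfsg.Agent.Lib.Helper8.GDih
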