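import Mathlib

set_option autoImplicit false

namespace Cfsg.Agent.Lib.Helper1

open Matrix

/-- `∏_{i<n} (q^n - q^i) = q^(n(n-1)/2) * ∏_{i<n} (q^(n-i) - 1)`. -/
theorem prod_GL_factor (q n : ℕ) :
    ∏ i : Fin n, (q ^ n - q ^ (i : ℕ)) = q ^ (n * (n - 1) / 2) * ∏ i : Fin n, (q ^ (n - (i : ℕ)) - 1) := by
  have h1 : ∀ i : Fin n, q ^ n - q ^ (i : ℕ) = q ^ (i : ℕ) * (q ^ (n - (i : ℕ)) - 1) := by
    intro i
    rw [Nat.mul_sub, mul_one, ← pow_add, Nat.add_sub_cancel' i.2.le]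
  rw [Finset.prod_congr rfl fun i _ => h1 i, Finset.prod_mul_distrib, Finset.prod_pow_eq_pow_sum]
  congr 2
  rw [Fin.sum_univ_eq_sum_range (fun i => i) n, Finset.sum_range_id]

/-- `p` does not divide `∏_{i<n} (q^(n-i) - 1)` when `q` is a positive power of `p`. -/
theorem coprime_prod_GL (p f n : ℕ) (hp : p.Prime) (hf : 0 < f) :
    Nat.Coprime p (∏ i : Fin n, ((p ^ f) ^ (n - (i : ℕ)) - 1)) := by
  apply Nat.Coprime.prod_right
  intro i _
  rw [Nat.Prime.coprime_iff_not_dvd hp]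
  intro hdvd
  have hk : 0 < n - (i : ℕ) := Nat.sub_pos_of_lt i.2
  have hpos : 0 < (p ^ f) ^ (n - (i : ℕ)) := Nat.pos_of_ne_zero (pow_ne_zero _ (pow_ne_zero _ hp.ne_zero))
  have h2 : p ∣ (p ^ f) ^ (n - (i : ℕ)) :=
    dvd_pow (dvd_pow_self p hf.ne') hk.ne'
  have h3 : p ∣ 1 := by
    have := (Nat.dvd_sub h2 hdvd)
    rwa [Nat.sub_sub_self hpos] at this
  exact hp.one_lt.ne' (Nat.dvd_one.1 h3)

/-- A Sylow `p`-subgroup of `GL_n(q)`, `p` the characteristic, has order `q^(n(n-1)/2)`. -/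
theorem card_sylow_GL {F : Type*} [Field F] [Fintype F] (p : ℕ) [Fact p.Prime] [CharP F p] (n : ℕ)
    (P : Sylow p (GL (Fin n) F)) : Nat.card P = Fintype.card F ^ (n * (n - 1) / 2) := by
  obtain ⟨f, hp, hq⟩ := FiniteField.card F p
  have hf : 0 < (f : ℕ) := f.pos
  rw [Sylow.card_eq_multiplicity, Matrix.card_GL_field, prod_GL_factor, hq]
  have hcop := coprime_prod_GL p f n hp hf
  have hM0 : (∏ i : Fin n, ((p ^ (f : ℕ)) ^ (n - (i : ℕ)) - 1)) ≠ 0 := by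
    intro h
    rw [h] at hcop
    have := Nat.Coprime.eq_one_of_dvd hcop (dvd_zero p)
    exact hp.one_lt.ne' this
  rw [Nat.factorization_mul (pow_ne_zero _ (pow_ne_zero _ hp.ne_zero)) hM0]
  rw [Finsupp.add_apply, Nat.factorization_eq_zero_of_not_dvd ((Nat.Prime.coprime_iff_not_dvd hp).1 hcop),
    add_zero, ← pow_mul, Nat.factorization_pow, Finsupp.smul_apply, hp.factorization_self]
  simp

end Cfsg.Agent.Lib.Helper1
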