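import Mathlib
import Cfsg.Agent.Lib.Helper1.GLSylow
import Cfsg.Agent.Lib.Helper1.Conj

set_option autoImplicit false

namespace Cfsg.Agent.Lib.Helper1

open Matrix

variable {F : Type*} [Field F]

/-- The upper unitriangular element `[[1,t],[0,1]]` of `GL_2(F)`. -/
noncomputable def uT (t : F) : GL (Fin 2) F := GeneralLinearGroup.upperRightHom t

theorem uT_val (t : F) : ((uT t : GL (Fin 2) F) : Matrix (Fin 2) (Fin 2) F) = !![1, t; 0, 1] := rfl

theorem uT_add (s t : F) : uT (s + t) = uT s * uT t :=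
  AddChar.map_add_eq_mul _ _ _

theorem uT_zero : uT (0 : F) = 1 := AddChar.map_zero_eq_one _

theorem uT_injective : Function.Injective (uT : F → GL (Fin 2) F) :=
  GeneralLinearGroup.injective_upperRightHom

theorem uT_inv (t : F) : (uT t)⁻¹ = uT (-t) := by
  apply inv_eq_of_mul_eq_one_left
  rw [← uT_add, neg_add_cancel, uT_zero]

theorem uT_eq_one_iff (t : F) : uT t = 1 ↔ t = 0 := by
  rw [← uT_zero]; exact uT_injective.eq_iff

/-- The key commutation computation. -/
theorem mul_uT_eq_iff (g : GL (Fin 2) F) (s t : F) :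
    g * uT t = uT s * g ↔ (s * g 1 0 = 0 ∧ g 0 0 * t = s * g 1 1 ∧ g 1 0 * t = 0) := by
  rw [GeneralLinearGroup.ext_iff]
  simp only [Units.val_mul, uT_val, Matrix.mul_apply, Fin.sum_univ_two, Fin.forall_fin_two]
  simp only [Matrix.of_apply, Matrix.cons_val', Matrix.cons_val_zero, Matrix.cons_val_one,
    Matrix.cons_val_fin_one, mul_one, mul_zero, add_zero, one_mul, zero_mul, zero_add]
  constructor
  · rintro ⟨⟨h1, h2⟩, ⟨-, h4⟩⟩
    refine ⟨?_, ?_, ?_⟩
    · linear_combination -h1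
    · linear_combination h2
    · linear_combination h4
  · rintro ⟨h1, h2, h3⟩
    refine ⟨⟨?_, ?_⟩, ⟨trivial, ?_⟩⟩
    · linear_combination -h1
    · linear_combination h2
    · linear_combination h3

end Cfsg.Agent.Lib.Helper1

namespace Cfsg.Agent.Lib.Helper1

open Matrix

variable {F : Type*} [Field F]

/-- The upper unitriangular subgroup of `GL_2(F)`. -/
noncomputable def uGL (F : Type*) [Field F] : Subgroup (GL (Fin 2) F) :=
  (GeneralLinearGroup.upperRightHom (R := F)).toMonoidHom.range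

theorem mem_uGL_iff (g : GL (Fin 2) F) : g ∈ uGL F ↔ ∃ t : F, g = uT t := by
  unfold uGL
  rw [MonoidHom.mem_range]
  constructor
  · rintro ⟨t, rfl⟩
    exact ⟨Multiplicative.toAdd t, rfl⟩
  · rintro ⟨t, rfl⟩
    exact ⟨Multiplicative.ofAdd t, rfl⟩

theorem uT_mem (t : F) : uT t ∈ uGL F := (mem_uGL_iff _).2 ⟨t, rfl⟩

theorem card_uGL : Nat.card (uGL F) = Nat.card F := by
  unfold uGL
  have hinj : Function.Injective (GeneralLinearGroup.upperRightHom (R := F)).toMonoidHom := by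
    intro a b hab
    have := GeneralLinearGroup.injective_upperRightHom (R := F)
      (a₁ := Multiplicative.toAdd a) (a₂ := Multiplicative.toAdd b) hab
    exact this
  rw [← Nat.card_congr (MonoidHom.ofInjective hinj).toEquiv]
  rfl

theorem det_of_lower_zero (g : GL (Fin 2) F) (h : g 1 0 = 0) : g 0 0 * g 1 1 ≠ 0 := by
  have hdet : (g : Matrix (Fin 2) (Fin 2) F).det ≠ 0 := by
    have := g.isUnit.map (Matrix.detMonoidHom (R := F) (n := Fin 2))
    simpa using this.ne_zero
  rw [Matrix.det_fin_two, h, mul_zero, sub_zero] at hdet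
  exact hdet

theorem conj_uT_of_lower_zero (g : GL (Fin 2) F) (h : g 1 0 = 0) (t : F) :
    g * uT t * g⁻¹ = uT (g 0 0 * t / g 1 1) := by
  have hd : g 1 1 ≠ 0 := right_ne_zero_of_mul (det_of_lower_zero g h)
  rw [mul_inv_eq_iff_eq_mul, mul_uT_eq_iff, h]
  refine ⟨by ring, ?_, by ring⟩
  field_simp

theorem inv_lower_zero (g : GL (Fin 2) F) (h : g 1 0 = 0) : (g⁻¹ : GL (Fin 2) F) 1 0 = 0 := by
  have ha : g 0 0 ≠ 0 := left_ne_zero_of_mul (det_of_lower_zero g h)
  have h1 : ((g⁻¹ * g : GL (Fin 2) F) : Matrix (Fin 2) (Fin 2) F) 1 0 = 0 := by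
    rw [inv_mul_cancel]; simp
  rw [Units.val_mul, Matrix.mul_apply, Fin.sum_univ_two, h, mul_zero, add_zero] at h1
  exact (mul_eq_zero.1 h1).resolve_right ha

/-- The normaliser of the unitriangular group is the Borel subgroup. -/
theorem mem_normalizer_uGL_iff (g : GL (Fin 2) F) :
    g ∈ Subgroup.normalizer ((uGL F : Subgroup (GL (Fin 2) F)) : Set (GL (Fin 2) F)) ↔ g 1 0 = 0 := by
  rw [Subgroup.mem_normalizer_iff]
  constructor
  · intro h
    have h1 := (h (uT 1)).1 (uT_mem 1)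
    obtain ⟨s, hs⟩ := (mem_uGL_iff _).1 h1
    rw [mul_inv_eq_iff_eq_mul, mul_uT_eq_iff] at hs
    simpa using hs.2.2
  · intro h x
    constructor
    · intro hx
      obtain ⟨t, rfl⟩ := (mem_uGL_iff _).1 hx
      rw [conj_uT_of_lower_zero g h]
      exact uT_mem _
    · intro hx
      obtain ⟨t, ht⟩ := (mem_uGL_iff _).1 hx
      have : x = g⁻¹ * uT t * g⁻¹⁻¹ := by rw [← ht]; group
      rw [this, conj_uT_of_lower_zero g⁻¹ (inv_lower_zero g h)]
      exact uT_mem _

end Cfsg.Agent.Lib.Helper1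

namespace Cfsg.Agent.Lib.Helper1

open Matrix

variable {F : Type*} [Field F]

/-- upper triangular element of `GL_2` -/
noncomputable def mkUpper (a d : Fˣ) (b : F) : GL (Fin 2) F :=
  GeneralLinearGroup.mkOfDetNeZero !![(a : F), b; 0, (d : F)] (by
    rw [Matrix.det_fin_two_of]; simp)

theorem mkUpper_val (a d : Fˣ) (b : F) :
    ((mkUpper a d b : GL (Fin 2) F) : Matrix (Fin 2) (Fin 2) F) = !![(a : F), b; 0, (d : F)] := rfl

/-- The Borel subgroup (as a set) is in bijection with `Fˣ × Fˣ × F`. -/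
noncomputable def borelEquiv : {g : GL (Fin 2) F // g 1 0 = 0} ≃ Fˣ × Fˣ × F where
  toFun g := (Units.mk0 (g.1 0 0) (left_ne_zero_of_mul (det_of_lower_zero g.1 g.2)),
    Units.mk0 (g.1 1 1) (right_ne_zero_of_mul (det_of_lower_zero g.1 g.2)), g.1 0 1)
  invFun x := ⟨mkUpper x.1 x.2.1 x.2.2, by simp [mkUpper_val]⟩
  left_inv g := by
    apply Subtype.ext
    apply GeneralLinearGroup.ext
    intro i j
    fin_cases i <;> fin_cases j <;> simp [mkUpper_val, g.2]
  right_inv x := by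
    obtain ⟨a, d, b⟩ := x
    simp [mkUpper_val]

theorem card_borel [Fintype F] :
    Nat.card {g : GL (Fin 2) F // g 1 0 = 0} = Fintype.card F * (Fintype.card F - 1) ^ 2 := by
  rw [Nat.card_congr borelEquiv, Nat.card_prod, Nat.card_prod, Nat.card_units,
    Nat.card_eq_fintype_card]
  ring

/-- The centraliser of a unipotent element (as a set) is in bijection with `Fˣ × F`. -/
noncomputable def centEquiv : {g : GL (Fin 2) F // g 1 0 = 0 ∧ g 0 0 = g 1 1} ≃ Fˣ × F where
  toFun g := (Units.mk0 (g.1 0 0) (left_ne_zero_of_mul (det_of_lower_zero g.1 g.2.1)), g.1 0 1)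
  invFun x := ⟨mkUpper x.1 x.1 x.2, by simp [mkUpper_val]⟩
  left_inv g := by
    apply Subtype.ext
    apply GeneralLinearGroup.ext
    intro i j
    fin_cases i <;> fin_cases j <;> simp [mkUpper_val, g.2.1, g.2.2]
  right_inv x := by
    obtain ⟨a, b⟩ := x
    simp [mkUpper_val]

theorem card_centSet [Fintype F] :
    Nat.card {g : GL (Fin 2) F // g 1 0 = 0 ∧ g 0 0 = g 1 1} =
      Fintype.card F * (Fintype.card F - 1) := by
  rw [Nat.card_congr centEquiv, Nat.card_prod, Nat.card_units, Nat.card_eq_fintype_card]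
  ring

theorem card_normalizer_uGL [Fintype F] :
    Nat.card (Subgroup.normalizer ((uGL F : Subgroup (GL (Fin 2) F)) : Set (GL (Fin 2) F))) =
      Fintype.card F * (Fintype.card F - 1) ^ 2 := by
  rw [← card_borel]
  exact Nat.card_congr (Equiv.subtypeEquivRight (fun g => mem_normalizer_uGL_iff g))

theorem mem_centralizer_uT_iff (g : GL (Fin 2) F) (t : F) (ht : t ≠ 0) :
    g ∈ Subgroup.centralizer ({uT t} : Set (GL (Fin 2) F)) ↔ (g 1 0 = 0 ∧ g 0 0 = g 1 1) := by
  rw [Subgroup.mem_centralizer_singleton_iff, mul_uT_eq_iff]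
  constructor
  · rintro ⟨h1, h2, -⟩
    have hc : g 1 0 = 0 := (mul_eq_zero.1 h1).resolve_left ht
    refine ⟨hc, ?_⟩
    have : t * (g 0 0 - g 1 1) = 0 := by linear_combination h2
    exact sub_eq_zero.1 ((mul_eq_zero.1 this).resolve_left ht)
  · rintro ⟨h1, h2⟩
    rw [h1, h2]
    refine ⟨by ring, by ring, by ring⟩

theorem card_centralizer_uT [Fintype F] (t : F) (ht : t ≠ 0) :
    Nat.card (Subgroup.centralizer ({uT t} : Set (GL (Fin 2) F))) =
      Fintype.card F * (Fintype.card F - 1) := by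
  rw [← card_centSet]
  exact Nat.card_congr (Equiv.subtypeEquivRight (fun g => mem_centralizer_uT_iff g t ht))

end Cfsg.Agent.Lib.Helper1

namespace Cfsg.Agent.Lib.Helper1

open Matrix

variable {F : Type*} [Field F] [Fintype F] (p : ℕ) [Fact p.Prime] [CharP F p]

theorem card_uGL_eq_pow : Nat.card (uGL F) = p ^ (Nat.card (GL (Fin 2) F)).factorization p := by
  obtain ⟨P₀⟩ : Nonempty (Sylow p (GL (Fin 2) F)) := inferInstance
  rw [card_uGL, ← Sylow.card_eq_multiplicity P₀, card_sylow_GL p 2 P₀, Nat.card_eq_fintype_card]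
  norm_num

/-- The unitriangular group as a Sylow `p`-subgroup of `GL_2(q)`. -/
noncomputable def uSylow : Sylow p (GL (Fin 2) F) := Sylow.ofCard (uGL F) (card_uGL_eq_pow p)

theorem coe_uSylow : ((uSylow p : Sylow p (GL (Fin 2) F)) : Subgroup (GL (Fin 2) F)) = uGL F :=
  Sylow.coe_ofCard _ _

/-- Every Sylow `p`-subgroup of `GL_2(q)` is a conjugate of the unitriangular group. -/
theorem sylow_eq_cj (P : Sylow p (GL (Fin 2) F)) :
    ∃ g : GL (Fin 2) F, (P : Subgroup (GL (Fin 2) F)) = cj g (uGL F) := by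
  obtain ⟨g, hg⟩ := MulAction.exists_smul_eq (GL (Fin 2) F) (uSylow p) P
  refine ⟨g, ?_⟩
  rw [← hg, Sylow.coe_subgroup_smul, coe_uSylow]
  rfl

theorem card_GL2 : Nat.card (GL (Fin 2) F) =
    Fintype.card F * (Fintype.card F - 1) ^ 2 * (Fintype.card F + 1) := by
  rw [Matrix.card_GL_field, Fin.prod_univ_two]
  simp only [Fin.val_zero, Fin.val_one, pow_zero, pow_one]
  obtain ⟨k, hk⟩ : ∃ k, Fintype.card F = k + 1 := ⟨Fintype.card F - 1, by
    have : 0 < Fintype.card F := Fintype.card_pos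
    omega⟩
  rw [hk]
  have h1 : (k + 1) ^ 2 - 1 = k * (k + 2) := by
    have : (k + 1) ^ 2 = k * (k + 2) + 1 := by ring
    omega
  have h2 : (k + 1) ^ 2 - (k + 1) = (k + 1) * k := by
    have : (k + 1) ^ 2 = (k + 1) * k + (k + 1) := by ring
    omega
  rw [h1, h2, Nat.add_sub_cancel]
  ring

/-- `GL_2(q)` has exactly `q + 1` Sylow `p`-subgroups. -/
theorem card_sylow_GL2 : Nat.card (Sylow p (GL (Fin 2) F)) = Fintype.card F + 1 := by
  have h0 : Nat.card (Sylow p (GL (Fin 2) F)) = (Subgroup.normalizer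
      (((uSylow p : Sylow p (GL (Fin 2) F)) : Subgroup (GL (Fin 2) F)) : Set (GL (Fin 2) F))).index :=
    Sylow.card_eq_index_normalizer (uSylow p)
  rw [h0, coe_uSylow]
  have h1 := (Subgroup.normalizer ((uGL F : Subgroup (GL (Fin 2) F)) : Set (GL (Fin 2) F))).card_mul_index
  rw [card_normalizer_uGL, card_GL2] at h1
  have hq : 1 < Fintype.card F := Fintype.one_lt_card
  have hpos : 0 < Fintype.card F * (Fintype.card F - 1) ^ 2 := by
    apply Nat.mul_pos (by omega)
    apply pow_pos; omega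
  exact Nat.eq_of_mul_eq_mul_left hpos h1

/-- The normaliser of any Sylow `p`-subgroup of `GL_2(q)` has order `q (q-1)^2`. -/
theorem card_normalizer_sylow_GL2 (P : Sylow p (GL (Fin 2) F)) :
    Nat.card (Subgroup.normalizer ((P : Subgroup (GL (Fin 2) F)) : Set (GL (Fin 2) F))) =
      Fintype.card F * (Fintype.card F - 1) ^ 2 := by
  have h1 := (Subgroup.normalizer ((P : Subgroup (GL (Fin 2) F)) : Set (GL (Fin 2) F))).card_mul_index
  have h0 : Nat.card (Sylow p (GL (Fin 2) F)) = (Subgroup.normalizer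
      ((P : Subgroup (GL (Fin 2) F)) : Set (GL (Fin 2) F))).index :=
    Sylow.card_eq_index_normalizer P
  rw [← h0, card_sylow_GL2, card_GL2] at h1
  exact Nat.eq_of_mul_eq_mul_right (by omega) h1

end Cfsg.Agent.Lib.Helper1

namespace Cfsg.Agent.Lib.Helper1

theorem card_centralizer_conj {G : Type*} [Group G] (g x : G) :
    Nat.card (Subgroup.centralizer ({g * x * g⁻¹} : Set G)) =
      Nat.card (Subgroup.centralizer ({x} : Set G)) := by
  apply Nat.card_congr
  refine Equiv.subtypeEquiv (MulAut.conj g⁻¹).toEquiv (fun h => ?_)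
  change h ∈ Subgroup.centralizer ({g * x * g⁻¹} : Set G) ↔
    g⁻¹ * h * g⁻¹⁻¹ ∈ Subgroup.centralizer ({x} : Set G)
  rw [Subgroup.mem_centralizer_singleton_iff, Subgroup.mem_centralizer_singleton_iff, inv_inv]
  constructor
  · intro e
    calc g⁻¹ * h * g * x = g⁻¹ * (h * (g * x * g⁻¹)) * g := by group
      _ = g⁻¹ * ((g * x * g⁻¹) * h) * g := by rw [e]
      _ = x * (g⁻¹ * h * g) := by group
  · intro e
    calc h * (g * x * g⁻¹) = g * ((g⁻¹ * h * g) * x) * g⁻¹ := by group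
      _ = g * (x * (g⁻¹ * h * g)) * g⁻¹ := by rw [e]
      _ = g * x * g⁻¹ * h := by group

open Matrix

variable {F : Type*} [Field F] [Fintype F] (p : ℕ) [Fact p.Prime] [CharP F p]

/-- The centraliser in `GL_2(q)` of a nontrivial `p`-element has order `q (q - 1)`. -/
theorem card_centralizer_unipotent_GL2 (P : Sylow p (GL (Fin 2) F)) (a : GL (Fin 2) F)
    (ha : a ∈ P) (ha1 : a ≠ 1) :
    Nat.card (Subgroup.centralizer ({a} : Set (GL (Fin 2) F))) =
      Fintype.card F * (Fintype.card F - 1) := by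
  obtain ⟨g, hg⟩ := sylow_eq_cj p P
  have ha' : a ∈ cj g (uGL F) := by rw [← hg]; exact ha
  rw [mem_cj, mem_uGL_iff] at ha'
  obtain ⟨t, ht⟩ := ha'
  have hat : a = g * uT t * g⁻¹ := by rw [← ht]; group
  have ht0 : t ≠ 0 := by
    rintro rfl
    apply ha1
    rw [hat, uT_zero]; group
  rw [hat, card_centralizer_conj, card_centralizer_uT t ht0]

/-- Distinct Sylow `p`-subgroups of `GL_2(q)` intersect trivially. -/
theorem sylow_GL2_inf_eq_bot (P Q : Sylow p (GL (Fin 2) F)) (h : P ≠ Q) :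
    (P : Subgroup (GL (Fin 2) F)) ⊓ (Q : Subgroup (GL (Fin 2) F)) = ⊥ := by
  obtain ⟨x, hx⟩ := sylow_eq_cj p P
  obtain ⟨y, hy⟩ := sylow_eq_cj p Q
  rw [eq_bot_iff]
  intro a ha
  rw [Subgroup.mem_bot]
  obtain ⟨haP, haQ⟩ := Subgroup.mem_inf.1 ha
  rw [hx, mem_cj, mem_uGL_iff] at haP
  rw [hy, mem_cj, mem_uGL_iff] at haQ
  obtain ⟨t, ht⟩ := haP
  obtain ⟨s, hs⟩ := haQ
  by_cases ht0 : t = 0
  · rw [ht0, uT_zero] at ht
    have : a = x * (x⁻¹ * a * x) * x⁻¹ := by group
    rw [this, ht]; group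
  · exfalso
    apply h
    have hconj : (x⁻¹ * y) * uT s = uT t * (x⁻¹ * y) := by
      rw [← hs, ← ht]; group
    have h10 := ((mul_uT_eq_iff _ _ _).1 hconj).1
    have hg : ((x⁻¹ * y : GL (Fin 2) F)) 1 0 = 0 := (mul_eq_zero.1 h10).resolve_left ht0
    have hnorm := (mem_normalizer_uGL_iff _).2 hg
    have hcj := cj_eq_of_mem_normalizer hnorm
    have hPQ : (P : Subgroup (GL (Fin 2) F)) = (Q : Subgroup (GL (Fin 2) F)) := by
      rw [hx, hy]
      conv_lhs => rw [← hcj]
      rw [cj_cj]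
      congr 1
      group
    exact Sylow.ext hPQ

end Cfsg.Agent.Lib.Helper1
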