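import Mathlib
import Cfsg.Agent.Lib.Helper1.StemOrb

/-!
# Permutations given by tables, automorphisms of a relation on `Fin n`, and bounds for their number
by colourings invariant under stabilizers
-/

set_option autoImplicit false

namespace Cfsg.Agent.Lib.Helper1.GraphRef

open Cfsg.Agent.Lib.Helper1.MatCode Cfsg.Agent.Lib.Helper1.Stem Cfsg.Agent.Lib.Helper1.StemSA

variable {n : ℕ}

/-- the point with a given index -/
def pt (hn : 0 < n) (j : ℕ) : Fin n := ⟨j % n, Nat.mod_lt _ hn⟩

theorem pt_val (hn : 0 < n) {j : ℕ} (hj : j < n) : (pt hn j).val = j := Nat.mod_eq_of_lt hj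

theorem pt_self (hn : 0 < n) (v : Fin n) : pt hn v.val = v := Fin.ext (pt_val hn v.isLt)

theorem pt_inj (hn : 0 < n) (j : ℕ) (hj : j < n) (j' : ℕ) (hj' : j' < n) (h : pt hn j = pt hn j') :
    j = j' := by
  have := congrArg Fin.val h
  rwa [pt_val hn hj, pt_val hn hj'] at this

/-- the check that two tables are inverse to each other on `0, …, n - 1` -/
def chkPerm (n : ℕ) (f fi : ℕ → ℕ) : Bool :=
  (List.range n).all fun j => decide (f j < n) && decide (fi j < n) && (fi (f j) == j) &&
    (f (fi j) == j)

theorem chkPerm_spec {f fi : ℕ → ℕ} (h : chkPerm n f fi = true) (j : ℕ) (hj : j < n) :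
    f j < n ∧ fi j < n ∧ fi (f j) = j ∧ f (fi j) = j := by
  rw [chkPerm, List.all_eq_true] at h
  have := h j (List.mem_range.mpr hj)
  rw [Bool.and_eq_true, Bool.and_eq_true, Bool.and_eq_true, beq_iff_eq, beq_iff_eq] at this
  exact ⟨of_decide_eq_true this.1.1.1, of_decide_eq_true this.1.1.2, this.1.2, this.2⟩

/-- the permutation given by a table and the table of its inverse -/
def tabPerm (f fi : ℕ → ℕ) (h : chkPerm n f fi = true) : Equiv.Perm (Fin n) where
  toFun v := ⟨f v.val, (chkPerm_spec h v.val v.isLt).1⟩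
  invFun v := ⟨fi v.val, (chkPerm_spec h v.val v.isLt).2.1⟩
  left_inv v := Fin.ext (chkPerm_spec h v.val v.isLt).2.2.1
  right_inv v := Fin.ext (chkPerm_spec h v.val v.isLt).2.2.2

theorem tabPerm_apply (f fi : ℕ → ℕ) (h : chkPerm n f fi = true) (v : Fin n) :
    (tabPerm f fi h v).val = f v.val := rfl

theorem tabPerm_inv_apply (f fi : ℕ → ℕ) (h : chkPerm n f fi = true) (v : Fin n) :
    ((tabPerm f fi h)⁻¹ v).val = fi v.val := rfl

/-! ### The automorphisms of a relation -/

/-- the permutations preserving a relation given on the indices -/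
def autGroup (n : ℕ) (R : ℕ → ℕ → Bool) : Subgroup (Equiv.Perm (Fin n)) where
  carrier := {g | ∀ u v : Fin n, R (g u).val (g v).val = R u.val v.val}
  one_mem' := fun _ _ => rfl
  mul_mem' := by
    intro g h hg hh u v
    rw [Equiv.Perm.mul_apply, Equiv.Perm.mul_apply, hg, hh]
  inv_mem' := by
    intro g hg u v
    have := hg (g⁻¹ u) (g⁻¹ v)
    have e1 : g (g⁻¹ u) = u := g.apply_symm_apply u
    have e2 : g (g⁻¹ v) = v := g.apply_symm_apply v
    rw [e1, e2] at this
    exact this.symm

theorem mem_autGroup {R : ℕ → ℕ → Bool} {g : Equiv.Perm (Fin n)} :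
    g ∈ autGroup n R ↔ ∀ u v : Fin n, R (g u).val (g v).val = R u.val v.val := Iff.rfl

/-! ### Invariant colourings -/

/-- a colouring of the indices is invariant under a subgroup -/
def Inv (K : Subgroup (Equiv.Perm (Fin n))) (c : ℕ → ℕ) : Prop :=
  ∀ g ∈ K, ∀ v : Fin n, c (g v).val = c v.val

theorem inv_const (K : Subgroup (Equiv.Perm (Fin n))) (a : ℕ) : Inv K fun _ => a :=
  fun _ _ _ => rfl

theorem Inv.mono {K K' : Subgroup (Equiv.Perm (Fin n))} {c : ℕ → ℕ} (h : Inv K c) (hK : K' ≤ K) :
    Inv K' c := fun g hg v => h g (hK hg) v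

/-- a function of invariant colourings is invariant -/
theorem Inv.comp₂ {K : Subgroup (Equiv.Perm (Fin n))} {c d : ℕ → ℕ} (hc : Inv K c) (hd : Inv K d)
    (F : ℕ → ℕ → ℕ) : Inv K fun v => F (c v) (d v) := by
  intro g hg v
  show F (c (g v).val) (d (g v).val) = F (c v.val) (d v.val)
  rw [hc g hg v, hd g hg v]

/-- the flag of a fixed point is invariant -/
theorem inv_flag {K : Subgroup (Equiv.Perm (Fin n))} (b : Fin n) (hb : ∀ g ∈ K, g b = b) :
    Inv K fun v => if v = b.val then 1 else 0 := by
  intro g hg v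
  show (if (g v).val = b.val then 1 else 0) = if v.val = b.val then 1 else 0
  have : (g v).val = b.val ↔ v.val = b.val := by
    rw [← Fin.ext_iff, ← Fin.ext_iff]
    constructor
    · intro h
      have h2 : g v = g b := by rw [h, hb g hg]
      exact g.injective h2
    · intro h
      rw [h, hb g hg]
  simp only [this]

/-- the relation to a fixed point is invariant -/
theorem inv_rel {K : Subgroup (Equiv.Perm (Fin n))} {R : ℕ → ℕ → Bool} (hK : K ≤ autGroup n R)
    (b : Fin n) (hb : ∀ g ∈ K, g b = b) : Inv K fun v => (R v b.val).toNat := by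
  intro g hg v
  show (R (g v).val b.val).toNat = (R v.val b.val).toNat
  have := hK hg v b
  rw [hb g hg] at this
  rw [this]

/-- the number of the points of a class related to a point -/
def cntRel (n : ℕ) (R : ℕ → ℕ → Bool) (c : ℕ → ℕ) (z v : ℕ) : ℕ :=
  ((List.range n).filter fun w => c w == c z).countP fun w => R v w

theorem countP_range_eq_card (n : ℕ) (p : ℕ → Bool) :
    (List.range n).countP p = (Finset.univ.filter fun w : Fin n => p w.val = true).card := by
  rw [← List.map_coe_finRange_eq_range, List.countP_map, Fin.univ_def, Finset.card_def,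
    Finset.filter_val]
  simp only [Multiset.filter_coe, Multiset.coe_card, List.countP_eq_length_filter]
  congr 1
  apply List.filter_congr
  intro w _
  simp

theorem cntRel_eq (R : ℕ → ℕ → Bool) (c : ℕ → ℕ) (z : ℕ) (v : Fin n) :
    cntRel n R c z v.val =
      (Finset.univ.filter fun w : Fin n => c w.val = c z ∧ R v.val w.val = true).card := by
  rw [cntRel, List.countP_filter, countP_range_eq_card]
  congr 1
  ext w
  simp only [Finset.mem_filter, Finset.mem_univ, true_and, Bool.and_eq_true, beq_iff_eq]
  exact and_comm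

/-- the number of the points of a class related to a point is invariant -/
theorem inv_cntRel {K : Subgroup (Equiv.Perm (Fin n))} {R : ℕ → ℕ → Bool}
    (hK : K ≤ autGroup n R) {c : ℕ → ℕ} (hc : Inv K c) (z : ℕ) :
    Inv K fun v => cntRel n R c z v := by
  intro g hg v
  show cntRel n R c z (g v).val = cntRel n R c z v.val
  rw [cntRel_eq, cntRel_eq]
  symm
  apply Finset.card_bijective g g.bijective
  intro w
  simp only [Finset.mem_filter, Finset.mem_univ, true_and]
  rw [hc g hg w, hK hg v w]

/-- the check that a colouring is the colouring by the ranks of the keys -/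
def chkRound (n : ℕ) (key c' TAB : ℕ → ℕ) (L : ℕ) : Bool :=
  ((List.range n).all fun v => decide (c' v < L) && (key v == TAB (c' v))) &&
    ((List.range (L - 1)).all fun i => decide (TAB i < TAB (i + 1)))

theorem inv_rerank {K : Subgroup (Equiv.Perm (Fin n))} {key c' TAB : ℕ → ℕ} {L : ℕ}
    (hkey : Inv K key) (h : chkRound n key c' TAB L = true) : Inv K c' := by
  rw [chkRound, Bool.and_eq_true, List.all_eq_true, List.all_eq_true] at h
  have h1 : ∀ v < n, c' v < L ∧ key v = TAB (c' v) := by
    intro v hv
    have := h.1 v (List.mem_range.mpr hv)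
    rw [Bool.and_eq_true, beq_iff_eq] at this
    exact ⟨of_decide_eq_true this.1, this.2⟩
  have h2 : ∀ i, i + 1 < L → TAB i < TAB (i + 1) := by
    intro i hi
    exact of_decide_eq_true (h.2 i (List.mem_range.mpr (by omega)))
  have hmono : ∀ d i, i + d + 1 < L → TAB i < TAB (i + d + 1) := by
    intro d
    induction d with
    | zero => intro i hi; exact h2 i hi
    | succ d ih =>
      intro i hi
      exact lt_trans (ih i (by omega)) (h2 (i + d + 1) (by omega))
  have hinj : ∀ i < L, ∀ j < L, TAB i = TAB j → i = j := by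
    intro i hi j hj he
    by_contra hne
    rcases Nat.lt_or_gt_of_ne hne with hlt | hlt
    · have := hmono (j - i - 1) i (by omega)
      rw [show i + (j - i - 1) + 1 = j by omega] at this
      omega
    · have := hmono (i - j - 1) j (by omega)
      rw [show j + (i - j - 1) + 1 = i by omega] at this
      omega
  intro g hg v
  obtain ⟨a1, a2⟩ := h1 (g v).val (g v).isLt
  obtain ⟨b1, b2⟩ := h1 v.val v.isLt
  apply hinj _ a1 _ b1
  rw [← a2, ← b2]
  exact hkey g hg v

/-- the check that a point is alone in its class -/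
def chkAlone (n : ℕ) (c : ℕ → ℕ) (b : ℕ) : Bool :=
  (List.range n).all fun v => (v == b) || (c v != c b)

theorem fixed_of_alone {K : Subgroup (Equiv.Perm (Fin n))} {c : ℕ → ℕ} (hc : Inv K c) (b : Fin n)
    (h : chkAlone n c b.val = true) : ∀ g ∈ K, g b = b := by
  intro g hg
  rw [chkAlone, List.all_eq_true] at h
  have := h (g b).val (List.mem_range.mpr (g b).isLt)
  rw [Bool.or_eq_true, beq_iff_eq, bne_iff_ne] at this
  rcases this with h1 | h1
  · exact Fin.ext h1
  · exact absurd (hc g hg b) h1

/-- the orbit of a point is contained in its class -/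
theorem orbit_le {K : Subgroup (Equiv.Perm (Fin n))} {c : ℕ → ℕ} (hc : Inv K c) (b : Fin n) :
    (MulAction.orbit ↥K b).ncard ≤ (List.range n).countP fun v => c v == c b.val := by
  rw [countP_range_eq_card, ← Set.ncard_coe_finset]
  apply Set.ncard_le_ncard _ (Set.toFinite _)
  rintro _ ⟨g, rfl⟩
  simp only [Finset.coe_filter, Finset.mem_univ, true_and, Set.mem_ofPred_eq, beq_iff_eq]
  exact hc g.1 g.2 b

/-- the check that a colouring has different values at different points -/
def chkDiscrete (n : ℕ) (c IT : ℕ → ℕ) : Bool := (List.range n).all fun v => IT (c v) == v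

theorem eq_bot_of_discrete {K : Subgroup (Equiv.Perm (Fin n))} {c IT : ℕ → ℕ} (hc : Inv K c)
    (h : chkDiscrete n c IT = true) : K = ⊥ := by
  rw [chkDiscrete, List.all_eq_true] at h
  rw [Subgroup.eq_bot_iff_forall]
  intro g hg
  ext v
  have h1 := h (g v).val (List.mem_range.mpr (g v).isLt)
  have h2 := h v.val (List.mem_range.mpr v.isLt)
  rw [beq_iff_eq] at h1 h2
  rw [hc g hg v, h2] at h1
  rw [Equiv.Perm.one_apply]
  exact h1.symm

/-! ### Chains of stabilizers -/

theorem mem_inf_stabilizer {K : Subgroup (Equiv.Perm (Fin n))} (b : Fin n) :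
    ∀ g ∈ K ⊓ MulAction.stabilizer (Equiv.Perm (Fin n)) b, g b = b := by
  intro g hg
  exact MulAction.mem_stabilizer_iff.mp (Subgroup.mem_inf.mp hg).2

/-- the order of a subgroup is the length of the orbit of a point times the order of its
stabilizer -/
theorem card_chain (K : Subgroup (Equiv.Perm (Fin n))) (b : Fin n) :
    Nat.card ↥(K ⊓ MulAction.stabilizer (Equiv.Perm (Fin n)) b) * (MulAction.orbit ↥K b).ncard =
      Nat.card ↥K := by
  have h1 := Subgroup.relIndex_mul_relIndex (H := ⊥)
    (K := K ⊓ MulAction.stabilizer (Equiv.Perm (Fin n)) b) (L := K) bot_le inf_le_left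
  rw [Subgroup.relIndex_bot_left, Subgroup.relIndex_bot_left] at h1
  rw [← h1]
  congr 1
  rw [inf_comm, Subgroup.inf_relIndex_right]
  have key : (MulAction.stabilizer (Equiv.Perm (Fin n)) b).subgroupOf K =
      MulAction.stabilizer ↥K b := by
    ext
    rfl
  rw [Subgroup.relIndex, key, MulAction.index_stabilizer]

end Cfsg.Agent.Lib.Helper1.GraphRef
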