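import Mathlib
import Cfsg.Agent.Lib.Helper1.GraphRef

/-!
# Checks for tables to preserve a relation given by rows of bits, lower bounds for orbits from words,
and the permutation representation on an invariant finite family of points
-/

set_option autoImplicit false

namespace Cfsg.Agent.Lib.Helper1.GraphRef

open Cfsg.Agent.Lib.Helper1.MatCode Cfsg.Agent.Lib.Helper1.Stem Cfsg.Agent.Lib.Helper1.StemSA

/-! ### Tables preserving a relation -/

/-- the relation given by rows of bits -/
def relOf (row : ℕ → ℕ) (u v : ℕ) : Bool := Nat.testBit (row v) u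

/-- compare the bits of two rows along a list of images -/
def chkRowAux (r1 r2 : ℕ) : List ℕ → ℕ → Bool
  | [], _ => true
  | fu :: t, u => (Nat.testBit r2 fu == Nat.testBit r1 u) && chkRowAux r1 r2 t (u + 1)

theorem chkRowAux_spec (r1 r2 : ℕ) : ∀ (l : List ℕ) (u0 : ℕ), chkRowAux r1 r2 l u0 = true →
    ∀ k (hk : k < l.length), Nat.testBit r2 l[k] = Nat.testBit r1 (u0 + k)
  | [], _, _, k, hk => absurd hk (by simp)
  | fu :: t, u0, h, k, hk => by
    rw [chkRowAux, Bool.and_eq_true, beq_iff_eq] at h
    cases k with
    | zero => simpa using h.1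
    | succ k =>
      have := chkRowAux_spec r1 r2 t (u0 + 1) h.2 k (by simpa using hk)
      rw [List.getElem_cons_succ, this]
      congr 1
      omega

/-- the check that a table preserves the relation, for the rows `lo, …, hi - 1` -/
def chkAutTab (n : ℕ) (row f : ℕ → ℕ) (lo hi : ℕ) : Bool :=
  (List.range' lo (hi - lo)).all fun v =>
    chkRowAux (row v) (row (f v)) ((List.range n).map f) 0

theorem chkAutTab_spec {n : ℕ} {row f : ℕ → ℕ} {lo hi : ℕ} (h : chkAutTab n row f lo hi = true)
    (u v : ℕ) (hu : u < n) (hv1 : lo ≤ v) (hv2 : v < hi) :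
    relOf row (f u) (f v) = relOf row u v := by
  rw [chkAutTab, List.all_eq_true] at h
  have h1 := h v (by rw [List.mem_range']; exact ⟨v - lo, by omega, by omega⟩)
  have h2 := chkRowAux_spec _ _ _ 0 h1 u (by simpa using hu)
  rw [List.getElem_map, List.getElem_range, zero_add] at h2
  exact h2

theorem tabPerm_mem_autGroup {n : ℕ} {row f fi : ℕ → ℕ} (hp : chkPerm n f fi = true)
    (h : ∀ u < n, ∀ v < n, relOf row (f u) (f v) = relOf row u v) :
    tabPerm f fi hp ∈ autGroup n (relOf row) := by
  intro u v
  exact h u.val u.isLt v.val v.isLt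

/-! ### Lower bounds for orbits -/

section

variable (D : SAData) (hS : D.chkStruct = true) {G Y : Type*} [Group G] [MulAction G Y]
  (pt : ℕ → Y) (gs : List G)
  (pi_act : ∀ i < D.k, ∀ j < D.m, gs.getD i 1 • pt j = pt (D.pi i j))
  (pt_inj : ∀ j < D.m, ∀ j' < D.m, pt j = pt j' → j = j')

/-- the check of the tree of an orbit: the points `T j` for `j < c`, each but the first reached from
an earlier one by one of the words; `pos` gives the places of the points -/
def chkTree (W : List (List ℕ)) (c : ℕ) (T pos : ℕ → ℕ) (par : ℕ → ℕ × ℕ) : Bool :=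
  (List.range c).all fun j => decide (T j < D.m) && (pos (T j) == j) &&
    ((j == 0) || (decide ((par j).2 < j) &&
      (D.actW (W.getD (par j).1 []) (T (par j).2) == T j)))

/-- the check that the words fix given points -/
def chkFixW (W : List (List ℕ)) (bs : List ℕ) : Bool :=
  W.all fun w => (w.all fun i => decide (i < D.k)) && (bs.all fun b => D.actW w b == b)

include hS pi_act pt_inj in
theorem orbit_ge [Finite Y] (K : Subgroup G) (W : List (List ℕ))
    (hW : ∀ w ∈ W, (∀ i ∈ w, i < D.k) ∧ wordProd gs w ∈ K) (c : ℕ) (T pos : ℕ → ℕ)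
    (par : ℕ → ℕ × ℕ) (h : chkTree D W c T pos par = true) :
    c ≤ (MulAction.orbit ↥K (pt (T 0))).ncard := by
  rw [chkTree, List.all_eq_true] at h
  have hj : ∀ j < c, T j < D.m ∧ pos (T j) = j ∧ (j = 0 ∨ ((par j).2 < j ∧
      D.actW (W.getD (par j).1 []) (T (par j).2) = T j)) := by
    intro j hj
    have := h j (List.mem_range.mpr hj)
    rw [Bool.and_eq_true, Bool.and_eq_true, Bool.or_eq_true, beq_iff_eq, beq_iff_eq] at this
    refine ⟨of_decide_eq_true this.1.1, this.1.2, ?_⟩
    rcases this.2 with h1 | h1
    · exact Or.inl h1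
    · rw [Bool.and_eq_true, beq_iff_eq] at h1
      exact Or.inr ⟨of_decide_eq_true h1.1, h1.2⟩
  have hW' : ∀ r, (∀ i ∈ W.getD r [], i < D.k) ∧ wordProd gs (W.getD r []) ∈ K := by
    intro r
    by_cases hr : r < W.length
    · rw [List.getD_eq_getElem _ _ hr]
      exact hW _ (List.getElem_mem hr)
    · rw [List.getD_eq_default _ _ (not_lt.mp hr)]
      exact ⟨fun i hi => absurd hi (List.not_mem_nil), by rw [wordProd_nil]; exact K.one_mem⟩
  have hmem : ∀ j < c, pt (T j) ∈ MulAction.orbit ↥K (pt (T 0)) := by
    intro j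
    induction j using Nat.strong_induction_on with
    | _ j ih =>
      intro hjc
      rcases (hj j hjc).2.2 with h0 | ⟨h1, h2⟩
      · rw [h0]
        exact MulAction.mem_orbit_self _
      · obtain ⟨g, hg⟩ := ih _ h1 (by omega)
        obtain ⟨hw, hk⟩ := hW' (par j).1
        have hact := (StemZB.smul_wordProd D hS pt gs pi_act _ hw _ (hj (par j).2 (by omega)).1).2
        rw [h2] at hact
        have hg' : g • pt (T 0) = pt (T (par j).2) := hg
        refine ⟨⟨wordProd gs (W.getD (par j).1 []), hk⟩ * g, ?_⟩
        show (⟨wordProd gs (W.getD (par j).1 []), hk⟩ * g : ↥K) • pt (T 0) = pt (T j)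
        rw [mul_smul, hg']
        exact hact
  have hsub : (fun j => pt (T j)) '' (↑(Finset.range c) : Set ℕ) ⊆
      MulAction.orbit ↥K (pt (T 0)) := by
    rintro _ ⟨j, hj', rfl⟩
    exact hmem j (Finset.mem_range.mp (Finset.mem_coe.mp hj'))
  have hinj : Set.InjOn (fun j => pt (T j)) (↑(Finset.range c) : Set ℕ) := by
    intro j hj1 j' hj2 he
    have hj1' := Finset.mem_range.mp (Finset.mem_coe.mp hj1)
    have hj2' := Finset.mem_range.mp (Finset.mem_coe.mp hj2)
    have := pt_inj _ (hj j hj1').1 _ (hj j' hj2').1 he
    rw [← (hj j hj1').2.1, ← (hj j' hj2').2.1, this]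
  have := Set.ncard_le_ncard hsub (Set.toFinite _)
  rwa [hinj.ncard_image, Set.ncard_coe_finset, Finset.card_range] at this

end

/-! ### The permutation representation on an invariant family of points -/

section

variable {G Y : Type*} [Group G] [MulAction G Y] {m : ℕ} (e : Fin m → Y)
  (he : Function.Injective e) (hinv : ∀ (g : G) (i : Fin m), ∃ i', g • e i = e i')


noncomputable def famSmul (g : G) (i : Fin m) : Fin m := Classical.choose (hinv g i)

theorem famSmul_spec (g : G) (i : Fin m) : e (famSmul e hinv g i) = g • e i :=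
  (Classical.choose_spec (hinv g i)).symm

/-- the action on the indices of an invariant family of points -/
noncomputable def famAction : MulAction G (Fin m) where
  smul g i := famSmul e hinv g i
  one_smul i := by
    apply he
    show e (famSmul e hinv 1 i) = e i
    rw [famSmul_spec e hinv, one_smul]
  mul_smul g h i := by
    apply he
    show e (famSmul e hinv (g * h) i) = e (famSmul e hinv g (famSmul e hinv h i))
    rw [famSmul_spec e hinv, famSmul_spec e hinv, famSmul_spec e hinv, mul_smul]

/-- the permutation representation on the indices of an invariant family of points -/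
noncomputable def permRep : G →* Equiv.Perm (Fin m) :=
  @MulAction.toPermHom G (Fin m) _ (famAction e he hinv)

theorem permRep_spec (g : G) (i : Fin m) : e (permRep e he hinv g i) = g • e i :=
  famSmul_spec e hinv g i

theorem permRep_injective (hf : ∀ g : G, (∀ i, g • e i = e i) → g = 1) :
    Function.Injective (permRep e he hinv) := by
  rw [injective_iff_map_eq_one]
  intro g hg
  apply hf
  intro i
  rw [← permRep_spec e he hinv g i, hg, Equiv.Perm.one_apply]

end

/-- two injective homomorphisms into the same group whose ranges are generated by the same two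
elements have isomorphic domains -/
theorem nonempty_mulEquiv_of_ranges {G₁ G₂ P : Type*} [Group G₁] [Group G₂] [Group P]
    (f₁ : G₁ →* P) (f₂ : G₂ →* P) (h₁ : Function.Injective f₁) (h₂ : Function.Injective f₂)
    (S₁ : Set G₁) (S₂ : Set G₂) (hS₁ : Subgroup.closure S₁ = ⊤) (hS₂ : Subgroup.closure S₂ = ⊤)
    (h : f₁ '' S₁ = f₂ '' S₂) : Nonempty (G₁ ≃* G₂) := by
  have hr : f₁.range = f₂.range := by
    rw [MonoidHom.range_eq_map, MonoidHom.range_eq_map, ← hS₁, ← hS₂, MonoidHom.map_closure,
      MonoidHom.map_closure, h]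
  exact ⟨(MonoidHom.ofInjective h₁).trans
    ((MulEquiv.subgroupCongr hr).trans (MonoidHom.ofInjective h₂).symm)⟩

end Cfsg.Agent.Lib.Helper1.GraphRef
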