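import Mathlib
import Cfsg.Agent.Lib.Helper1.GraphRef2
import Cfsg.Agent.Lib.Helper1.StemLL11

/-!
# Checks written with the operations on numerals, for the kernel: tables preserving a relation given
by rows of bits, and the numbers of related points of a class
-/

set_option autoImplicit false

namespace Cfsg.Agent.Lib.Helper1.GraphRef

open Cfsg.Agent.Lib.Helper1.StemLL

/-- a bit of a number, as a number -/
def bitN (x c : ℕ) : ℕ := Nat.land (Nat.shiftRight x c) 1

theorem bitN_eq (x c : ℕ) : bitN x c = (Nat.testBit x c).toNat := by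
  unfold bitN
  show (x >>> c) &&& 1 = _
  rw [Nat.testBit_eq_decide_div_mod_eq, Nat.and_one_is_mod, Nat.shiftRight_eq_div_pow]
  rcases Nat.mod_two_eq_zero_or_one (x / 2 ^ c) with h | h <;> rw [h] <;> rfl

theorem bitN_eq_iff (x c y d : ℕ) : bitN x c = bitN y d ↔ Nat.testBit x c = Nat.testBit y d := by
  rw [bitN_eq, bitN_eq]
  cases Nat.testBit x c <;> cases Nat.testBit y d <;> simp

/-- evaluate a number before using it -/
def force (r : ℕ) (f : ℕ → Bool) : Bool := Nat.rec (f 0) (fun m _ => f (Nat.succ m)) r

theorem force_eq (r : ℕ) (f : ℕ → Bool) : force r f = f r := by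
  cases r <;> rfl

/-- conjunction, the second argument evaluated only if needed -/
def band' (a b : Bool) : Bool := Bool.rec false b a

theorem band'_eq_true (a b : Bool) : band' a b = true ↔ a = true ∧ b = true := by
  cases a <;> simp [band']

/-- a test for all numbers below a bound -/
def allN (f : ℕ → Bool) (n : ℕ) : Bool := Nat.rec true (fun k ih => Bool.rec false ih (f k)) n

theorem allN_succ (f : ℕ → Bool) (k : ℕ) : allN f (k + 1) = Bool.rec false (allN f k) (f k) := rfl

theorem allN_spec {f : ℕ → Bool} {n : ℕ} (h : allN f n = true) : ∀ i < n, f i = true := by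
  induction n with
  | zero => intro i hi; omega
  | succ k ih =>
    rw [allN_succ] at h
    intro i hi
    cases hf : f k with
    | false => rw [hf] at h; exact absurd h (by simp)
    | true =>
      rw [hf] at h
      rcases Nat.lt_succ_iff_lt_or_eq.mp hi with h1 | rfl
      · exact ih h i h1
      · exact hf

/-- the relation given by rows of bits: the second point is in the row of the first -/
def relRow (row : ℕ → ℕ) (u v : ℕ) : Bool := Nat.testBit (row u) v

/-! ### Permutations of the bits of a number by exchanges at a fixed distance -/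

/-- exchange the bits at the places `p` and `p + d` for the places `p` of a mask -/
def dswap (d m r : ℕ) : ℕ :=
  (fun t => Nat.xor (Nat.xor r t) (Nat.shiftLeft t d)) (Nat.land (Nat.xor (Nat.shiftRight r d) r) m)

theorem dswap_eq (d m r : ℕ) :
    dswap d m r = r ^^^ (((r >>> d) ^^^ r) &&& m) ^^^ ((((r >>> d) ^^^ r) &&& m) <<< d) := rfl

theorem dswap_xor (d m a b : ℕ) : dswap d m (a ^^^ b) = dswap d m a ^^^ dswap d m b := by
  have ht : (((a ^^^ b) >>> d) ^^^ (a ^^^ b)) &&& m =
      (((a >>> d) ^^^ a) &&& m) ^^^ (((b >>> d) ^^^ b) &&& m) := by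
    rw [Nat.shiftRight_xor_distrib, ← Nat.and_xor_distrib_right]
    congr 1
    simp only [Nat.xor_assoc, Nat.xor_comm, Nat.xor_left_comm]
  rw [dswap_eq, dswap_eq, dswap_eq, ht, Nat.shiftLeft_xor_distrib]
  simp only [Nat.xor_assoc, Nat.xor_comm, Nat.xor_left_comm]

/-- a sequence of exchanges -/
def net (st : List (ℕ × ℕ)) (r : ℕ) : ℕ := List.foldl (fun r s => dswap s.1 s.2 r) r st

theorem net_xor (st : List (ℕ × ℕ)) (a b : ℕ) : net st (a ^^^ b) = net st a ^^^ net st b := by
  unfold net
  induction st generalizing a b with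
  | nil => rfl
  | cons s t ih => rw [List.foldl_cons, List.foldl_cons, List.foldl_cons, dswap_xor, ih]

theorem net_zero (st : List (ℕ × ℕ)) : net st 0 = 0 := by
  have := net_xor st 0 0
  rw [Nat.xor_self] at this
  have h2 : net st 0 ^^^ net st 0 = 0 := Nat.xor_self _
  rw [h2] at this
  exact this

/-- the check of the sequence of exchanges on the powers of two -/
def chkUnit (st : List (ℕ × ℕ)) (f : ℕ → ℕ) (n : ℕ) : Bool :=
  allN (fun u => Nat.beq (net st (Nat.shiftLeft 1 u)) (Nat.shiftLeft 1 (f u))) n

theorem testBit_net {st : List (ℕ × ℕ)} {f : ℕ → ℕ} {n : ℕ} (hU : chkUnit st f n = true)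
    (hinj : ∀ u < n, ∀ u' < n, f u = f u' → u = u') :
    ∀ r, r < 2 ^ n → ∀ u < n, Nat.testBit (net st r) (f u) = Nat.testBit r u := by
  have hunit : ∀ u < n, net st (2 ^ u) = 2 ^ f u := by
    intro u hu
    have := Nat.eq_of_beq_eq_true (allN_spec hU u hu)
    have e1 : Nat.shiftLeft 1 u = 2 ^ u := Nat.one_shiftLeft u
    have e2 : Nat.shiftLeft 1 (f u) = 2 ^ f u := Nat.one_shiftLeft (f u)
    rw [e1, e2] at this
    exact this
  intro r
  induction r using Nat.strong_induction_on with
  | _ r ih =>
    intro hr u hu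
    by_cases h0 : r = 0
    · subst h0
      rw [net_zero, Nat.zero_testBit, Nat.zero_testBit]
    · set k := r.log2 with hk
      have hkn : k < n := (Nat.log2_lt h0).mpr hr
      have hle : 2 ^ k ≤ r := Nat.log2_self_le h0
      have hlt : r < 2 ^ (k + 1) := (Nat.log2_lt h0).mp (Nat.lt_succ_self _)
      have hr' : r ^^^ 2 ^ k < 2 ^ k := by
        apply Nat.lt_pow_two_of_testBit
        intro i hi
        rw [Nat.testBit_xor, Nat.testBit_two_pow]
        rcases Nat.eq_or_lt_of_le hi with h1 | h1
        · subst h1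
          rw [hk, Nat.testBit_log2 h0]
          simp
        · have : r.testBit i = false :=
            Nat.testBit_lt_two_pow (lt_of_lt_of_le hlt (Nat.pow_le_pow_right (by norm_num) h1))
          rw [this]
          have : ¬ k = i := by omega
          simp [this]
      have e : r = (r ^^^ 2 ^ k) ^^^ 2 ^ k := by
        rw [Nat.xor_assoc, Nat.xor_self, Nat.xor_zero]
      have h1 := ih (r ^^^ 2 ^ k) (by omega) (lt_trans hr' (Nat.pow_lt_pow_right (by norm_num) hkn))
        u hu
      have h2 : net st r = net st (r ^^^ 2 ^ k) ^^^ 2 ^ f k := by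
        conv_lhs => rw [e]
        rw [net_xor, hunit k hkn]
      rw [h2, Nat.testBit_xor, h1, Nat.testBit_two_pow]
      conv_rhs => rw [e, Nat.testBit_xor, Nat.testBit_two_pow]
      congr 1
      have : (f k = f u) ↔ (k = u) := ⟨fun h => hinj k hkn u hu h, fun h => by rw [h]⟩
      simp only [this]

/-- the check that the sequence of exchanges maps each row to the row of the image -/
def chkNet (st : List (ℕ × ℕ)) (row f : ℕ → ℕ) (n : ℕ) : Bool :=
  allN (fun u => band' (Nat.ble (Nat.succ (row u)) (Nat.pow 2 n))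
    (Nat.beq (net st (row u)) (row (f u)))) n

theorem tabPerm_mem_of_net {n : ℕ} {st : List (ℕ × ℕ)} {row f fi : ℕ → ℕ}
    (hp : chkPerm n f fi = true) (hU : chkUnit st f n = true) (hN : chkNet st row f n = true) :
    tabPerm f fi hp ∈ autGroup n (relRow row) := by
  have hinj : ∀ u < n, ∀ u' < n, f u = f u' → u = u' := by
    intro u hu u' hu' h
    rw [← (chkPerm_spec hp u hu).2.2.1, ← (chkPerm_spec hp u' hu').2.2.1, h]
  intro u v
  show relRow row (f u.val) (f v.val) = relRow row u.val v.val
  unfold relRow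
  have h1 := allN_spec hN u.val u.isLt
  rw [band'_eq_true] at h1
  have h2 : row u.val < 2 ^ n := Nat.le_of_ble_eq_true h1.1
  have h3 : net st (row u.val) = row (f u.val) := Nat.eq_of_beq_eq_true h1.2
  rw [← h3]
  exact testBit_net hU hinj _ h2 v.val v.isLt

/-- the number of the points of a list related to a point -/
def cntL (row : ℕ → ℕ) (ML : List ℕ) (v : ℕ) : ℕ :=
  List.foldl (fun s w => Nat.add s (bitN (row v) w)) 0 ML

theorem foldl_add_eq (g : ℕ → ℕ) (ML : List ℕ) (a : ℕ) :
    List.foldl (fun s w => Nat.add s (g w)) a ML = a + (ML.map g).sum := by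
  induction ML generalizing a with
  | nil => simp
  | cons x t ih =>
    rw [List.foldl_cons, ih, List.map_cons, List.sum_cons]
    show a + g x + _ = _
    omega

theorem cntL_eq (row : ℕ → ℕ) (ML : List ℕ) (v : ℕ) :
    cntL row ML v = ML.countP fun w => relRow row v w := by
  unfold cntL
  rw [foldl_add_eq, zero_add]
  induction ML with
  | nil => rfl
  | cons x t ih =>
    rw [List.map_cons, List.sum_cons, ih, List.countP_cons, bitN_eq, add_comm]
    unfold relRow
    cases Nat.testBit (row v) x <;> rfl

/-- the number of the points of a class related to a point, from the list of the class -/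
theorem cntL_eq_cntRel (n : ℕ) (row c : ℕ → ℕ) (z : ℕ) (ML : List ℕ)
    (hML : ML = (List.range n).filter fun w => c w == c z) (v : ℕ) :
    cntL row ML v = cntRel n (relRow row) c z v := by
  rw [cntL_eq, hML, cntRel]

/-! ### The two kinds of steps -/

/-- the key of a step fixing a point -/
def keyFix (c : ℕ → ℕ) (b : ℕ) (v : ℕ) : ℕ := Nat.add (Nat.mul (c v) 2) (cond (Nat.beq v b) 1 0)

/-- the key of a step counting the related points of a class -/
def keyPiv (row c : ℕ → ℕ) (ML : List ℕ) (v : ℕ) : ℕ := Nat.add (Nat.mul (c v) 2048) (cntL row ML v)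

/-- the check that the keys of the points `lo, …, lo + len - 1` are the entries of the table at
their new colours -/
def chkKeys (key c' TAB : ℕ → ℕ) (L lo len : ℕ) : Bool :=
  allN (fun k => band' (Nat.blt (c' (Nat.add lo k)) L)
    (Nat.beq (key (Nat.add lo k)) (TAB (c' (Nat.add lo k))))) len

theorem chkKeys_spec {key c' TAB : ℕ → ℕ} {L lo len : ℕ} (h : chkKeys key c' TAB L lo len = true)
    (v : ℕ) (h1 : lo ≤ v) (h2 : v < lo + len) : c' v < L ∧ key v = TAB (c' v) := by
  have h3 := allN_spec h (v - lo) (by omega)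
  have e : Nat.add lo (v - lo) = v := by show lo + (v - lo) = v; omega
  rw [e, band'_eq_true] at h3
  exact ⟨Nat.le_of_ble_eq_true h3.1, Nat.eq_of_beq_eq_true h3.2⟩

/-- the check that a table is increasing -/
def chkInc (TAB : ℕ → ℕ) (L : ℕ) : Bool :=
  allN (fun i => Nat.blt (TAB i) (TAB (Nat.succ i))) (Nat.pred L)

theorem inv_rerank' {n : ℕ} {K : Subgroup (Equiv.Perm (Fin n))} {key c' TAB : ℕ → ℕ} {L : ℕ}
    (hkey : Inv K key) (h1 : ∀ v < n, c' v < L ∧ key v = TAB (c' v))
    (hinc : chkInc TAB L = true) : Inv K c' := by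
  have h2 : ∀ i, i + 1 < L → TAB i < TAB (i + 1) := by
    intro i hi
    exact Nat.le_of_ble_eq_true (allN_spec hinc i (by show i < L - 1; omega))
  have hmono : ∀ d i, i + d + 1 < L → TAB i < TAB (i + d + 1) := by
    intro d
    induction d with
    | zero => intro i hi; exact h2 i hi
    | succ d ih =>
      intro i hi
      exact lt_trans (ih i (by omega)) (h2 (i + d + 1) (by omega))
  have hinj : ∀ i < L, ∀ j < L, TAB i = TAB j → i = j := by
    intro i hi j hj he
    by_contra hne
    rcases Nat.lt_or_gt_of_ne hne with hlt | hlt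
    · have := hmono (j - i - 1) i (by omega)
      rw [show i + (j - i - 1) + 1 = j by omega] at this
      omega
    · have := hmono (i - j - 1) j (by omega)
      rw [show j + (i - j - 1) + 1 = i by omega] at this
      omega
  intro g hg v
  obtain ⟨a1, a2⟩ := h1 (g v).val (g v).isLt
  obtain ⟨b1, b2⟩ := h1 v.val v.isLt
  apply hinj _ a1 _ b1
  rw [← a2, ← b2]
  exact hkey g hg v

theorem step_fix {n : ℕ} {K : Subgroup (Equiv.Perm (Fin n))} {c c' TAB : ℕ → ℕ} {L : ℕ}
    (hc : Inv K c) (b : Fin n) (h : ∀ v < n, c' v < L ∧ keyFix c b.val v = TAB (c' v))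
    (hinc : chkInc TAB L = true) :
    Inv (K ⊓ MulAction.stabilizer (Equiv.Perm (Fin n)) b) c' := by
  refine inv_rerank' ?_ h hinc
  have h1 : Inv (K ⊓ MulAction.stabilizer (Equiv.Perm (Fin n)) b) c := hc.mono inf_le_left
  have h2 := inv_flag (K := K ⊓ MulAction.stabilizer (Equiv.Perm (Fin n)) b) b
    (mem_inf_stabilizer b)
  have h3 := h1.comp₂ h2 fun x y => Nat.add (Nat.mul x 2) y
  intro g hg v
  have := h3 g hg v
  unfold keyFix
  have e : ∀ u : ℕ, cond (Nat.beq u b.val) 1 0 = if u = b.val then 1 else 0 := by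
    intro u
    by_cases hu : u = b.val
    · rw [if_pos hu, hu, Nat.beq_refl]
      rfl
    · rw [if_neg hu]
      have : Nat.beq u b.val = false := by
        cases hb : Nat.beq u b.val
        · rfl
        · exact absurd (Nat.eq_of_beq_eq_true hb) hu
      rw [this]
      rfl
  rw [e, e]
  exact this

theorem step_piv {n : ℕ} {K : Subgroup (Equiv.Perm (Fin n))} {row c c' TAB : ℕ → ℕ} {L : ℕ}
    (hK : K ≤ autGroup n (relRow row)) (hc : Inv K c) (z : ℕ) (ML : List ℕ)
    (hML : ML = (List.range n).filter fun w => c w == c z)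
    (h : ∀ v < n, c' v < L ∧ keyPiv row c ML v = TAB (c' v)) (hinc : chkInc TAB L = true) :
    Inv K c' := by
  refine inv_rerank' ?_ h hinc
  have h2 := inv_cntRel hK hc z
  have h3 := hc.comp₂ h2 fun x y => Nat.add (Nat.mul x 2048) y
  intro g hg v
  have := h3 g hg v
  unfold keyPiv
  rw [cntL_eq_cntRel n row c z ML hML, cntL_eq_cntRel n row c z ML hML]
  exact this

end Cfsg.Agent.Lib.Helper1.GraphRef
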