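import Mathlib
import Cfsg.Prelude.Def_Blocks
import Cfsg.Prelude.Def_BlockRank
import Cfsg.Agent.Lib.Helper8.MJ19
import Cfsg.Agent.Lib.Helper8.Sub16
import Cfsg.Agent.Lib.Helper8.CharPPart

set_option autoImplicit false

/-!
S4588, package PK-B: for `χ` of `p'`-degree in the principal block and a `p`-element `x`, the principal
section part of `χ` at `x` does not vanish (its value at `1` is `χ x ≡ χ 1` modulo the local ideal).
-/

namespace Cfsg.Agent.Lib.Helper8.HKS

open Cfsg
open scoped ComplexConjugate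
open Cfsg.Agent.Lib.Helper1 Cfsg.Agent.Lib.Helper4 Cfsg.Agent.Lib.Helper8 Cfsg.Agent.Lib.Helper8.MJ

universe u

section PkB

variable {G : Type u} [Group G] [Fintype G] {p : ℕ} [Fact p.Prime] {M : Ideal AlgInt}

theorem secPart_principal_ne_zero (hM : IsPModular p M) (C : Subgroup G) [Fintype C] {x : G}
    (hC : ∀ t, t ∈ C ↔ t * x = x * t) (hx : ∃ j : ℕ, orderOf x = p ^ j)
    {χ : IrrCharacter G} (hχ : χ ∈ principalBlock M G)
    (hdeg : ¬ p ∣ charDegree (χ : G → ℂ)) :
    secPart p C (principalBlock M C) x (χ : G → ℂ) ≠ 0 := by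
  classical
  have hCeq : C = Subgroup.centralizer ({x} : Set G) := by
    ext t
    rw [hC t, Subgroup.mem_centralizer_singleton_iff]
  subst hCeq
  have hp : p.Prime := Fact.out
  have hreg : ¬ p ∣ orderOf (1 : Subgroup.centralizer ({x} : Set G)) := by
    rw [orderOf_one]
    exact hp.one_lt.ne' ∘ Nat.dvd_one.1
  have h1 := blockPart_principal_section hM x hx χ hreg
  rw [if_pos hχ, one_mul] at h1
  intro h0
  have h2 := congrFun h0 (1 : Subgroup.centralizer ({x} : Set G))
  have h3 : secPart p (Subgroup.centralizer ({x} : Set G))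
      (principalBlock M (Subgroup.centralizer ({x} : Set G))) x (χ : G → ℂ) 1 =
      (χ : G → ℂ) x := by
    unfold secPart pRegularPart
    have : IsPRegular p (1 : Subgroup.centralizer ({x} : Set G)) := by
      unfold IsPRegular
      exact hreg
    rw [if_pos this]
    unfold secFun
    rw [h1]
    simp
  rw [h3, Pi.zero_apply] at h2
  obtain ⟨j, hj⟩ := hx
  have hxp : x ^ (p ^ j) = 1 := by rw [← hj]; exact pow_orderOf_eq_one x
  have h4 := memLocalIdeal_char_mul_sub hM (isCharacter_of_irr χ.2) x 1 j hxp (by simp)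
  rw [mul_one, h2, zero_sub] at h4
  have h5 := memLocalIdeal_neg h4
  rw [neg_neg, (irr_apply_one_eq_charDegree χ.2).1, memLocalIdeal_natCast_iff hM] at h5
  exact hdeg h5

end PkB

end Cfsg.Agent.Lib.Helper8.HKS
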