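import Mathlib
import Cfsg.Prelude.Def_Blocks
import Cfsg.Prelude.Def_BlockRank
import Cfsg.Agent.Lib.Helper8.MJ19
import Cfsg.Agent.Lib.Helper8.QB4
import Cfsg.Agent.Lib.Helper8.QB3
import Cfsg.Agent.Lib.Helper8.TildeChar
import Cfsg.Agent.Lib.Helper1.CharFound7

set_option autoImplicit false

/-!
S4588, package PK-C: central `p`-subgroups. The `p'`-part power map `g ↦ g ^ N` (with `N ≡ 0` modulo
`|H|_p` and `N ≡ 1` modulo `|H|_{p'}`) turns a generalized character into a generalized character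
(Brauer's characterisation); regular expansion of a block part through the characters trivial on a
central `p`-subgroup; the principal block of `H` on `p`-regular elements is spanned by the principal
block of `H ⧸ Z`.
-/

namespace Cfsg.Agent.Lib.Helper8.HKS

open Cfsg
open scoped ComplexConjugate
open Cfsg.Agent.Lib.Helper1 Cfsg.Agent.Lib.Helper4 Cfsg.Agent.Lib.Helper8 Cfsg.Agent.Lib.Helper8.MJ

universe u

namespace PkC

section pow

variable {H : Type u} [Group H] [Finite H] {p : ℕ} [Fact p.Prime]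

/-- the exponent `N`: `0` modulo the `p`-part and `1` modulo the `p'`-part of `|H|` -/
theorem exists_exponent (H : Type u) [Group H] [Finite H] (p : ℕ) [Fact p.Prime] :
    ∃ N : ℕ, p ^ (Nat.card H).factorization p ∣ N ∧
      N ≡ 1 [MOD Nat.card H / p ^ (Nat.card H).factorization p] := by
  have hp : p.Prime := Fact.out
  have hcop : Nat.Coprime (p ^ (Nat.card H).factorization p)
      (Nat.card H / p ^ (Nat.card H).factorization p) :=
    Nat.Coprime.pow_left _ (Nat.coprime_ordCompl hp Nat.card_pos.ne')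
  obtain ⟨N, h0, h1⟩ := Nat.chineseRemainder hcop 0 1
  exact ⟨N, (Nat.modEq_zero_iff_dvd).1 h0, h1⟩

theorem card_eq_mul (H : Type u) [Group H] [Finite H] (p : ℕ) :
    Nat.card H = p ^ (Nat.card H).factorization p *
      (Nat.card H / p ^ (Nat.card H).factorization p) :=
  (Nat.ordProj_mul_ordCompl_eq_self (Nat.card H) p).symm

/-- `g ^ N = g` for `p`-regular `g` -/
theorem pow_eq_self {N : ℕ} (h1 : N ≡ 1 [MOD Nat.card H / p ^ (Nat.card H).factorization p])
    {g : H} (hg : ¬ p ∣ orderOf g) : g ^ N = g := by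
  have hp : p.Prime := Fact.out
  have hdvd : orderOf g ∣ Nat.card H / p ^ (Nat.card H).factorization p := by
    have h2 : orderOf g ∣ p ^ (Nat.card H).factorization p *
        (Nat.card H / p ^ (Nat.card H).factorization p) := by
      rw [← card_eq_mul H p]
      exact orderOf_dvd_natCard g
    have hcop : Nat.Coprime (orderOf g) (p ^ (Nat.card H).factorization p) :=
      Nat.Coprime.pow_right _ ((Nat.Prime.coprime_iff_not_dvd hp).2 hg).symm
    exact hcop.dvd_of_dvd_mul_left h2
  have h3 : N ≡ 1 [MOD orderOf g] := h1.of_dvd hdvd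
  have h4 : g ^ N = g ^ 1 := pow_eq_pow_iff_modEq.2 h3
  rw [h4, pow_one]

/-- `z ^ N = 1` for a `p`-element `z` -/
theorem pow_eq_one {N : ℕ} (h0 : p ^ (Nat.card H).factorization p ∣ N)
    {z : H} (hz : ∃ k : ℕ, orderOf z = p ^ k) : z ^ N = 1 := by
  have hp : p.Prime := Fact.out
  obtain ⟨k, hk⟩ := hz
  have h1 : p ^ k ∣ Nat.card H := hk ▸ orderOf_dvd_natCard z
  have h2 : k ≤ (Nat.card H).factorization p :=
    (hp.pow_dvd_iff_le_factorization Nat.card_pos.ne').1 h1
  have h3 : orderOf z ∣ N := by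
    rw [hk]
    exact (pow_dvd_pow p h2).trans h0
  exact orderOf_dvd_iff_pow_eq_one.1 h3

/-- `g ^ N` is `p`-regular -/
theorem pow_regular {N : ℕ} (h0 : p ^ (Nat.card H).factorization p ∣ N) (g : H) :
    ¬ p ∣ orderOf (g ^ N) := by
  have hp : p.Prime := Fact.out
  intro hdvd
  have h1 : (g ^ N) ^ (Nat.card H / p ^ (Nat.card H).factorization p) = 1 := by
    rw [← pow_mul]
    obtain ⟨c, hc⟩ := h0
    have : N * (Nat.card H / p ^ (Nat.card H).factorization p) = Nat.card H * c := by
      rw [hc]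
      conv_rhs => rw [card_eq_mul H p]
      ring
    rw [this, pow_mul, pow_card_eq_one', one_pow]
  have h2 : orderOf (g ^ N) ∣ Nat.card H / p ^ (Nat.card H).factorization p :=
    orderOf_dvd_of_pow_eq_one h1
  exact (Nat.not_dvd_ordCompl hp Nat.card_pos.ne') (hdvd.trans h2)

/-- `g * (g ^ N)⁻¹` is a `p`-element -/
theorem mul_inv_pow_pelement {N : ℕ}
    (h1 : N ≡ 1 [MOD Nat.card H / p ^ (Nat.card H).factorization p]) (g : H) :
    ∃ k : ℕ, orderOf (g * (g ^ N)⁻¹) = p ^ k := by
  have hp : p.Prime := Fact.out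
  have hcomm : Commute g ((g ^ N)⁻¹) := (Commute.refl g).pow_right N |>.inv_right
  have h2 : (g * (g ^ N)⁻¹) ^ (p ^ (Nat.card H).factorization p) = 1 := by
    rw [hcomm.mul_pow, inv_pow, ← pow_mul, mul_inv_eq_one]
    apply pow_eq_pow_iff_modEq.2
    have h3 : p ^ (Nat.card H).factorization p ≡ N * p ^ (Nat.card H).factorization p
        [MOD Nat.card H] := by
      have := (h1.symm.mul_right' (p ^ (Nat.card H).factorization p))
      rw [one_mul, mul_comm (Nat.card H / p ^ (Nat.card H).factorization p),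
        ← card_eq_mul H p] at this
      exact this
    exact h3.of_dvd (orderOf_dvd_natCard g)
  have h4 : orderOf (g * (g ^ N)⁻¹) ∣ p ^ (Nat.card H).factorization p :=
    orderOf_dvd_of_pow_eq_one h2
  obtain ⟨k, -, hk⟩ := (Nat.dvd_prime_pow hp).1 h4
  exact ⟨k, hk⟩

end pow

section nilp

variable {H : Type u} [Group H] [Finite H] {p : ℕ} [Fact p.Prime]

/-- on a nilpotent subgroup the power map `e ↦ e ^ N` is multiplicative (it is the projection onto
the normal `p`-complement) -/
theorem mul_pow_of_nilpotent (E : Subgroup H) [Group.IsNilpotent E] {N : ℕ}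
    (h0 : p ^ (Nat.card H).factorization p ∣ N)
    (h1 : N ≡ 1 [MOD Nat.card H / p ^ (Nat.card H).factorization p]) (x y : E) :
    (x * y) ^ N = x ^ N * y ^ N := by
  classical
  have hp : p.Prime := Fact.out
  obtain ⟨K, hKn, hKmem, -⟩ := exists_normal_pComplement_of_isNilpotent (E := E) p
  obtain ⟨Q⟩ : Nonempty (Sylow p E) := inferInstance
  have hQn : (Q : Subgroup E).Normal := inferInstance
  have hord : ∀ e : E, orderOf e = orderOf (e : H) := fun e => (Subgroup.orderOf_coe e).symm
  have hreg : ∀ e : E, e ^ N ∈ K := by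
    intro e
    rw [hKmem, hord, Subgroup.coe_pow]
    exact pow_regular h0 (e : H)
  have hpel : ∀ e : E, e * (e ^ N)⁻¹ ∈ (Q : Subgroup E) := by
    intro e
    obtain ⟨k, hk⟩ := mul_inv_pow_pelement (p := p) h1 (e : H)
    have hk' : orderOf (e * (e ^ N)⁻¹) = p ^ k := by
      rw [hord]
      push_cast
      exact hk
    have hpg : IsPGroup p (Subgroup.zpowers (e * (e ^ N)⁻¹)) := by
      rw [IsPGroup.iff_card]
      exact ⟨k, by rw [Nat.card_zpowers, hk']⟩
    obtain ⟨Q', hQ'⟩ := hpg.exists_le_sylow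
    obtain ⟨g, hg⟩ := MulAction.exists_smul_eq E Q Q'
    rw [Sylow.smul_eq_of_normal] at hg
    rw [hg]
    exact hQ' (Subgroup.mem_zpowers _)
  have hK1 : ∀ k ∈ K, k ^ N = k := by
    intro k hk
    apply Subtype.ext
    rw [Subgroup.coe_pow]
    apply pow_eq_self h1
    rw [← hord]
    exact (hKmem k).1 hk
  have hQ1 : ∀ u ∈ (Q : Subgroup E), u ^ N = 1 := by
    intro u hu
    apply Subtype.ext
    rw [Subgroup.coe_pow, Subgroup.coe_one]
    apply pow_eq_one h0
    obtain ⟨k, hk⟩ := (IsPGroup.iff_orderOf.1 Q.isPGroup') ⟨u, hu⟩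
    refine ⟨k, ?_⟩
    have h3 : orderOf u = p ^ k := by
      rw [← hk]
      exact Subgroup.orderOf_coe (⟨u, hu⟩ : (Q : Subgroup E))
    rw [← hord u]
    exact h3
  have hdisj : Disjoint (Q : Subgroup E) K := by
    rw [Subgroup.disjoint_def]
    intro e heQ heK
    obtain ⟨k, hk⟩ := (IsPGroup.iff_orderOf.1 Q.isPGroup') ⟨e, heQ⟩
    rw [Subgroup.orderOf_mk] at hk
    have h2 := (hKmem e).1 heK
    rcases Nat.eq_zero_or_pos k with rfl | hkpos
    · rw [pow_zero, orderOf_eq_one_iff] at hk
      exact hk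
    · exfalso
      apply h2
      rw [hk]
      exact dvd_pow_self p hkpos.ne'
  have hcomm : ∀ u ∈ (Q : Subgroup E), ∀ k ∈ K, Commute u k := fun u hu k hk =>
    Subgroup.commute_of_normal_of_disjoint _ _ hQn hKn hdisj u k hu hk
  -- decomposition
  set ux := x * (x ^ N)⁻¹ with hux
  set uy := y * (y ^ N)⁻¹ with huy
  have hx : x = ux * x ^ N := by rw [hux, inv_mul_cancel_right]
  have hy : y = uy * y ^ N := by rw [huy, inv_mul_cancel_right]
  have hxy : x * y = (ux * uy) * (x ^ N * y ^ N) := by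
    conv_lhs => rw [hx, hy]
    have hc : Commute (x ^ N) uy := (hcomm uy (hpel y) (x ^ N) (hreg x)).symm
    calc ux * x ^ N * (uy * y ^ N) = ux * (x ^ N * uy) * y ^ N := by group
      _ = ux * (uy * x ^ N) * y ^ N := by rw [hc.eq]
      _ = ux * uy * (x ^ N * y ^ N) := by group
  have hQmem : ux * uy ∈ (Q : Subgroup E) := (Q : Subgroup E).mul_mem (hpel x) (hpel y)
  have hKmem' : x ^ N * y ^ N ∈ K := K.mul_mem (hreg x) (hreg y)
  rw [hxy, (hcomm _ hQmem _ hKmem').mul_pow, hQ1 _ hQmem, one_mul, hK1 _ hKmem']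

end nilp

section genchar

variable {H : Type u} [Group H] [Fintype H] {p : ℕ} [Fact p.Prime]

omit [Fintype H] in
theorem isClassFunction_of_isGenChar {θ : H → ℂ} (h : IsGeneralizedCharacter H θ) :
    IsClassFunction H θ := by
  obtain ⟨a, b, ha, hb, rfl⟩ := h
  intro g x
  rw [Pi.sub_apply, Pi.sub_apply, isClassFunction_of_isCharacter ha g x,
    isClassFunction_of_isCharacter hb g x]

/-- `g ↦ θ (g ^ N)` is a generalized character -/
theorem isGenChar_pow {θ : H → ℂ} (h : IsGeneralizedCharacter H θ) {N : ℕ}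
    (h0 : p ^ (Nat.card H).factorization p ∣ N)
    (h1 : N ≡ 1 [MOD Nat.card H / p ^ (Nat.card H).factorization p]) :
    IsGeneralizedCharacter H (fun g => θ (g ^ N)) := by
  classical
  have hcf := isClassFunction_of_isGenChar h
  apply Cfsg.Agent.S0164.result
  · intro g x
    show θ ((x * g * x⁻¹) ^ N) = θ (g ^ N)
    rw [conj_pow]
    exact hcf _ x
  · intro E q hq hE
    have : Fact q.Prime := ⟨hq⟩
    have : Group.IsNilpotent E := Cfsg.Agent.Lib.Helper2.BrauerInd.isNilpotent_of_isElementary hE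
    let π : E →* E :=
      { toFun := fun e => e ^ N
        map_one' := one_pow N
        map_mul' := fun x y => mul_pow_of_nilpotent (p := p) E h0 h1 x y }
    obtain ⟨a, b, ha, hb, rfl⟩ := h
    have ha' := isCharacter_comp_hom (Cfsg.Agent.S0148.isCharacter_restrict E ha) π
    have hb' := isCharacter_comp_hom (Cfsg.Agent.S0148.isCharacter_restrict E hb) π
    refine ⟨_, _, ha', hb', ?_⟩
    funext e
    simp only [Pi.sub_apply, π, MonoidHom.coe_mk, OneHom.coe_mk, Subgroup.coe_pow]

end genchar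

section inv

variable {H : Type u} [Group H] [Fintype H]

/-- A function invariant under a central element is orthogonal to the irreducible characters not
trivial on it. -/
theorem classInner_eq_zero_of_central_invariant' {η : H → ℂ} (hη : IsIrrCharacter H η) {z : H}
    (hz : z ∈ Subgroup.center H) (hne : η z ≠ η 1) {θ : H → ℂ}
    (hθ : ∀ g, θ (z * g) = θ g) : classInner θ η = 0 := by
  have hη1 : η 1 ≠ 0 := irr_apply_one_ne_zero hη
  have hmul : ∀ g, η (z * g) = η g * (η z / η 1) := by
    intro g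
    have hcomm : z * g = g * z := (Subgroup.mem_center_iff.1 hz g).symm
    rw [hcomm, irr_mul_central hη g hz]
    ring
  have h1 : ∑ g : H, θ g * conj (η g) = ∑ g : H, θ (z * g) * conj (η (z * g)) :=
    (Equiv.sum_comp (Equiv.mulLeft z) (fun g => θ g * conj (η g))).symm
  have h2 : ∑ g : H, θ (z * g) * conj (η (z * g)) =
      conj (η z / η 1) * ∑ g : H, θ g * conj (η g) := by
    rw [Finset.mul_sum]
    refine Finset.sum_congr rfl fun g _ => ?_
    rw [hθ g, hmul g, map_mul]
    ring
  have hlam : conj (η z / η 1) ≠ 1 := by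
    intro h
    have h' : η z / η 1 = 1 := by
      have := congrArg conj h
      rwa [Complex.conj_conj, map_one] at this
    apply hne
    field_simp at h'
    exact h'
  have h3 : ∑ g : H, θ g * conj (η g) = 0 := by
    have : (1 - conj (η z / η 1)) * ∑ g : H, θ g * conj (η g) = 0 := by
      linear_combination h1 + h2
    rcases mul_eq_zero.1 this with h | h
    · exact absurd (sub_eq_zero.1 h).symm hlam
    · exact h
  unfold classInner
  rw [h3, mul_zero]

end inv

end PkC

section PkC

variable {H : Type u} [Group H] [Fintype H] {p : ℕ} [Fact p.Prime] {M : Ideal AlgInt}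

theorem exists_genChar_pPrime {θ : H → ℂ} (h : IsGeneralizedCharacter H θ) :
    ∃ θ' : H → ℂ, IsGeneralizedCharacter H θ' ∧ (∀ g, ¬ p ∣ orderOf g → θ' g = θ g) ∧
      ∀ z g : H, z ∈ Subgroup.center H → (∃ k : ℕ, orderOf z = p ^ k) → θ' (z * g) = θ' g := by
  obtain ⟨N, h0, h1⟩ := PkC.exists_exponent H p
  refine ⟨fun g => θ (g ^ N), PkC.isGenChar_pow h h0 h1, ?_, ?_⟩
  · intro g hg
    show θ (g ^ N) = θ g
    rw [PkC.pow_eq_self h1 hg]
  · intro z g hz hzp
    show θ ((z * g) ^ N) = θ (g ^ N)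
    have hcomm : Commute z g := (Subgroup.mem_center_iff.1 hz g).symm
    rw [hcomm.mul_pow, PkC.pow_eq_one h0 hzp, one_mul]

theorem regular_expansion [Fintype (IrrCharacter H)] (hM : IsPModular p M) (Z : Subgroup H)
    (hZc : Z ≤ Subgroup.center H) (hZp : IsPGroup p Z) {b : Set (IrrCharacter H)}
    (hb : IsPBlock M b) {θ : H → ℂ} (hθ : IsGeneralizedCharacter H θ) :
    ∃ m : IrrCharacter H → ℤ,
      (∀ η, m η ≠ 0 → η ∈ b ∧ ∀ z ∈ Z, (η : H → ℂ) z = (η : H → ℂ) 1) ∧
      ∀ ρ : H, ¬ p ∣ orderOf ρ →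
        blockPart b θ ρ = ∑ η : IrrCharacter H, (m η : ℂ) * (η : H → ℂ) ρ := by
  classical
  obtain ⟨θ', hθ', hreg, hinv⟩ := exists_genChar_pPrime (p := p) hθ
  have hint : ∀ η : IrrCharacter H, ∃ k : ℤ, classInner θ' (η : H → ℂ) = k :=
    fun η => classInner_genChar_int hθ' (isGenChar_of_irr η.2)
  choose n hn using hint
  refine ⟨fun η => if η ∈ b then n η else 0, ?_, ?_⟩
  · intro η hη
    simp only at hη
    by_cases hηb : η ∈ b
    · refine ⟨hηb, ?_⟩
      intro z hz
      by_contra hne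
      apply hη
      rw [if_pos hηb]
      have hzp : ∃ k : ℕ, orderOf z = p ^ k := by
        obtain ⟨k, hk⟩ := (IsPGroup.iff_orderOf.1 hZp) ⟨z, hz⟩
        exact ⟨k, by rw [← hk]; exact Subgroup.orderOf_coe (⟨z, hz⟩ : Z)⟩
      have := PkC.classInner_eq_zero_of_central_invariant' η.2 (hZc hz) hne
        (fun g => hinv z g (hZc hz) hzp)
      rw [hn η] at this
      exact_mod_cast this
    · rw [if_neg hηb] at hη
      exact absurd rfl hη
  · intro ρ hρ
    rw [blockPart_congr_pRegular hM hb (fun c hc => (hreg c hc).symm) hρ, blockPart_eq_sum]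
    refine Finset.sum_congr rfl fun η _ => ?_
    simp only
    by_cases hηb : η ∈ b
    · simp only [hηb, if_true, hn η, one_mul]
    · simp only [hηb, if_false, zero_mul, Int.cast_zero]

theorem pReg_principal_mem_closure (hM : IsPModular p M) (Z : Subgroup H) [Z.Normal]
    (hZc : Z ≤ Subgroup.center H) (hZp : IsPGroup p Z) {ψ : IrrCharacter H}
    (hψ : ψ ∈ principalBlock M H) :
    pRegularPart p (ψ : H → ℂ) ∈ AddSubgroup.closure
      ((fun χ : IrrCharacter (H ⧸ Z) =>
        pRegularPart p (fun h : H => (χ : H ⧸ Z → ℂ) (QuotientGroup.mk h))) ''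
          principalBlock M (H ⧸ Z)) := by
  classical
  have : Fintype (IrrCharacter H) := Fintype.ofFinite _
  obtain ⟨m, hm1, hm2⟩ := regular_expansion hM Z hZc hZp
    (isPBlock_principalBlock (M := M) (G := H)) (isGenChar_of_irr ψ.2)
  have hexp : pRegularPart p (ψ : H → ℂ) =
      ∑ η : IrrCharacter H, m η • pRegularPart p (η : H → ℂ) := by
    funext ρ
    rw [Finset.sum_apply]
    by_cases hρ : p ∣ orderOf ρ
    · rw [pRegularPart_of_dvd _ hρ]
      symm
      apply Finset.sum_eq_zero
      intro η _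
      rw [Pi.smul_apply, pRegularPart_of_dvd _ hρ, smul_zero]
    · rw [pRegularPart_of_not_dvd _ hρ]
      have h1 := hm2 ρ hρ
      rw [blockPart_irr, if_pos hψ, one_mul] at h1
      rw [h1]
      refine Finset.sum_congr rfl fun η _ => ?_
      rw [Pi.smul_apply, pRegularPart_of_not_dvd _ hρ, zsmul_eq_mul]
  rw [hexp]
  apply AddSubgroup.sum_mem
  intro η _
  by_cases hη : m η = 0
  · rw [hη, zero_smul]
    exact AddSubgroup.zero_mem _
  · obtain ⟨hηb, hηZ⟩ := hm1 η hη
    apply AddSubgroup.zsmul_mem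
    apply AddSubgroup.subset_closure
    obtain ⟨ζ, hζ⟩ := exists_inflIrr_eq Z η hηZ
    refine ⟨ζ, ?_, ?_⟩
    · rw [← qb_principal_inflation hM Z hZp hZc ζ, hζ]
      exact hηb
    · show pRegularPart p (fun h : H => (ζ : H ⧸ Z → ℂ) (QuotientGroup.mk h)) =
        pRegularPart p (η : H → ℂ)
      rw [← hζ]
      rfl

end PkC

end Cfsg.Agent.Lib.Helper8.HKS
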