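import Cfsg.Agent.Lib.Helper1.HSM2
import Cfsg.Agent.Lib.Helper1.HSED
import Cfsg.Agent.Lib.Helper1.StemLL7
import Cfsg.Agent.Lib.Helper1.StemLL8

/-!
# A stem extension of the Higman–Sims group with a kernel of order 2, on the 704 halves of the
graph
-/

set_option autoImplicit false
set_option maxRecDepth 100000

namespace Cfsg.Agent.Lib.Helper1.HSE

open Cfsg Cfsg.Agent.Lib.Helper1 Cfsg.Agent.Lib.Helper1.MatCode MulAction
open Cfsg.Agent.Lib.Helper1.HSM Cfsg.Agent.Lib.Helper1.MaskAct
open Cfsg.Agent.Lib.Helper1.StemLL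

theorem L_range : L.chkRange = true := by decide +kernel

theorem L_sorted : L.chkSorted = true := by decide +kernel

theorem L_liftH : L.chkLiftH hintF = true := by decide +kernel

theorem L_tree : L.chkTree = true := by decide +kernel

theorem L_wit : L.chkWit = true := by decide +kernel

theorem L_chk : L.chk = true := by
  unfold LLData.chk
  rw [LLData.chkLift_of_hint hintF L_range L_sorted L_liftH, L_range, L_tree, L_wit]
  decide

/-- the halves -/
def pt (j : ℕ) : Finset (Fin 100) := mset 100 (MSK j)

theorem MSK_lt (j : ℕ) : MSK j < 2 ^ 100 := Nat.mod_lt _ (by norm_num)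

theorem act_ok : (List.range 2).all (fun i => (List.range 704).all (fun j =>
    imgMask 100 (fT i) (MSK j) == MSK (L.pi i j))) = true := by
  decide +kernel

theorem distinct_ok : (List.range 704).all (fun j => (List.range j).all (fun j' =>
    MSK j' != MSK j)) = true := by
  decide +kernel

theorem pt_inj (j : ℕ) (hj : j < 704) (j' : ℕ) (hj' : j' < 704) (h : pt j = pt j') : j = j' :=
  inj_of_distinct MSK 704 distinct_ok j hj j' hj' (mset_inj 100 (MSK_lt j) (MSK_lt j') h)

theorem rawHyp : RawHyp L pt GG where
  range := L_range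
  pos := by decide
  act := by
    intro i hi j hj
    have hi' : i < 2 := hi
    have hj' : j < 704 := hj
    have h := act_ok
    rw [List.all_eq_true] at h
    have h1 := h i (List.mem_range.mpr hi')
    rw [List.all_eq_true] at h1
    have h2 := h1 j (List.mem_range.mpr hj')
    rw [beq_iff_eq] at h2
    unfold pt
    rw [smul_mset' (GG.getD i 1) (fT i) (φ_GG i hi') (MSK j), h2]
  gen := hgen352
  inj := fun j hj j' hj' h => pt_inj j hj j' hj' h
  move := ⟨mvI, by decide, mvJ, by decide, by decide +kernel⟩

instance : NeZero L.c := ⟨by decide⟩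

/-- the action on the points -/
noncomputable instance actSub : MulAction Gh ↥(rawSub rawHyp) :=
  @SubMulAction.mulAction Gh _ _ _ (rawSub rawHyp)

/-- the hypotheses of the labelled lifts -/
theorem hyp : LLHyp L (ptSub rawHyp) GG := sub_hyp rawHyp

/-- the cover -/
theorem cover : Cfsg.IsStemExtension (sig Gh L.c (EY L (ptSub rawHyp)) (rhoY L (ptSub rawHyp))) ∧
    IsCyclic (sig Gh L.c (EY L (ptSub rawHyp)) (rhoY L (ptSub rawHyp))).ker ∧
    Nat.card (sig Gh L.c (EY L (ptSub rawHyp)) (rhoY L (ptSub rawHyp))).ker = 2 :=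
  stem_of_data L (ptSub rawHyp) GG hyp L_chk

end Cfsg.Agent.Lib.Helper1.HSE
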