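import Cfsg.Agent.Lib.Helper1.SteinAut1
import Cfsg.Agent.Lib.Helper1.StabCard

/-!
# The graph on an extra vertex, the points and the blocks of a set system
-/

set_option autoImplicit false
set_option linter.unusedSectionVars false

namespace Cfsg.Agent.Lib.Helper1.HSG

open Cfsg Cfsg.Agent.Lib.Helper1.Stein

variable {α : Type*} [DecidableEq α] (B : Set (Finset α))

/-- the vertices -/
abbrev Vx := Option (α ⊕ B)

theorem adj_iff (u v : Vx B) :
    (pointBlockGraph B).Adj u v ↔ u ≠ v ∧ (pointBlockRel B u v ∨ pointBlockRel B v u) :=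
  SimpleGraph.fromRel_adj _ _ _

theorem adj_none_pt (a : α) : (pointBlockGraph B).Adj none (some (Sum.inl a)) := by
  rw [adj_iff]
  exact ⟨by simp, Or.inl trivial⟩

theorem adj_none_iff (v : Vx B) :
    (pointBlockGraph B).Adj none v ↔ ∃ a, v = some (Sum.inl a) := by
  constructor
  · intro h
    rw [adj_iff] at h
    match v, h with
    | none, h => exact absurd rfl h.1
    | some (Sum.inl a), _ => exact ⟨a, rfl⟩
    | some (Sum.inr b), h =>
      rcases h.2 with h2 | h2
      · exact absurd h2 (by simp [pointBlockRel])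
      · exact absurd h2 (by simp [pointBlockRel])
  · rintro ⟨a, rfl⟩
    exact adj_none_pt B a

theorem adj_pt_blk (a : α) (b : B) :
    (pointBlockGraph B).Adj (some (Sum.inl a)) (some (Sum.inr b)) ↔ a ∈ (b : Finset α) := by
  rw [adj_iff]
  constructor
  · rintro ⟨_, h | h⟩
    · exact h
    · exact absurd h (by simp [pointBlockRel])
  · intro h
    exact ⟨by simp, Or.inl h⟩

theorem adj_blk_blk (b c : B) :
    (pointBlockGraph B).Adj (some (Sum.inr b)) (some (Sum.inr c)) ↔
      b ≠ c ∧ Disjoint (b : Finset α) (c : Finset α) := by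
  rw [adj_iff]
  constructor
  · rintro ⟨hne, h | h⟩
    · exact ⟨fun hbc => hne (by rw [hbc]), h⟩
    · exact ⟨fun hbc => hne (by rw [hbc]), Disjoint.symm h⟩
  · rintro ⟨hne, h⟩
    exact ⟨fun hbc => hne (by simpa using hbc), Or.inl h⟩

theorem not_adj_pt_pt (a a' : α) :
    ¬ (pointBlockGraph B).Adj (some (Sum.inl a)) (some (Sum.inl a')) := by
  rw [adj_iff]
  rintro ⟨_, h | h⟩
  · exact absurd h (by simp [pointBlockRel])
  · exact absurd h (by simp [pointBlockRel])

/-- the map of vertices induced by a map of points -/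
def vmap {β : Type*} [DecidableEq β] (B' : Set (Finset β)) (g : α → β)
    (hg : ∀ b ∈ B, b.image g ∈ B') : Vx B → Vx B'
  | none => none
  | some (Sum.inl a) => some (Sum.inl (g a))
  | some (Sum.inr b) => some (Sum.inr ⟨b.1.image g, hg b.1 b.2⟩)

theorem vmap_adj {β : Type*} [DecidableEq β] (B' : Set (Finset β)) (g : α → β)
    (hinj : Function.Injective g)
    (hg : ∀ b ∈ B, b.image g ∈ B') (u v : Vx B) (h : (pointBlockGraph B).Adj u v) :
    (pointBlockGraph B').Adj (vmap B B' g hg u) (vmap B B' g hg v) := by
  match u, v, h with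
  | none, v, h =>
    obtain ⟨a, rfl⟩ := (adj_none_iff B v).1 h
    exact adj_none_pt B' (g a)
  | some (Sum.inl a), none, _ => exact (adj_none_pt B' (g a)).symm
  | some (Sum.inl a), some (Sum.inl a'), h => exact absurd h (not_adj_pt_pt B a a')
  | some (Sum.inl a), some (Sum.inr b), h =>
    rw [adj_pt_blk] at h
    show (pointBlockGraph B').Adj (some (Sum.inl (g a))) (some (Sum.inr ⟨b.1.image g, _⟩))
    rw [adj_pt_blk]
    exact Finset.mem_image_of_mem g h
  | some (Sum.inr b), none, h =>
    obtain ⟨a, ha⟩ := (adj_none_iff B _).1 h.symm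
    exact absurd ha (by simp)
  | some (Sum.inr b), some (Sum.inl a), h =>
    have h' := (adj_pt_blk B a b).1 h.symm
    show (pointBlockGraph B').Adj (some (Sum.inr ⟨b.1.image g, _⟩)) (some (Sum.inl (g a)))
    apply SimpleGraph.Adj.symm
    rw [adj_pt_blk]
    exact Finset.mem_image_of_mem g h'
  | some (Sum.inr b), some (Sum.inr c), h =>
    rw [adj_blk_blk] at h
    show (pointBlockGraph B').Adj (some (Sum.inr ⟨b.1.image g, _⟩))
      (some (Sum.inr ⟨c.1.image g, _⟩))
    rw [adj_blk_blk]
    refine ⟨?_, ?_⟩
    · intro hbc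
      apply h.1
      apply Subtype.ext
      have := congrArg Subtype.val hbc
      exact Finset.image_injective hinj this
    · exact (Finset.disjoint_image hinj).2 h.2

theorem vmap_vmap {β γ : Type*} [DecidableEq β] [DecidableEq γ] (B' : Set (Finset β))
    (B'' : Set (Finset γ)) (g : α → β) (hg : ∀ b ∈ B, b.image g ∈ B') (k : β → γ)
    (hk : ∀ b ∈ B', b.image k ∈ B'') (hkg : ∀ b ∈ B, b.image (k ∘ g) ∈ B'') (v : Vx B) :
    vmap B' B'' k hk (vmap B B' g hg v) = vmap B B'' (k ∘ g) hkg v := by
  match v with
  | none => rfl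
  | some (Sum.inl a) => rfl
  | some (Sum.inr b) =>
    show some (Sum.inr _) = some (Sum.inr _)
    congr 2
    apply Subtype.ext
    exact Finset.image_image

theorem vmap_id (hid : ∀ b ∈ B, b.image (id : α → α) ∈ B) (v : Vx B) : vmap B B id hid v = v := by
  match v with
  | none => rfl
  | some (Sum.inl a) => rfl
  | some (Sum.inr b) =>
    show some (Sum.inr _) = some (Sum.inr b)
    congr 2
    apply Subtype.ext
    exact Finset.image_id

/-- an isomorphism of set systems gives an isomorphism of graphs -/
def isoOf {β : Type*} [DecidableEq β] (B' : Set (Finset β)) (e : α ≃ β)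
    (he : mapSys e B = B') : pointBlockGraph B ≃g pointBlockGraph B' := by
  have hg : ∀ b ∈ B, b.image e ∈ B' := fun b hb => he ▸ image_mem_mapSys e B b hb
  have hg' : ∀ b ∈ B', b.image e.symm ∈ B := fun b hb => by
    rw [← he] at hb
    exact (mem_mapSys e B b).1 hb
  have h1 : ∀ v, vmap B' B e.symm hg' (vmap B B' e hg v) = v := by
    intro v
    rw [vmap_vmap B B' B e hg e.symm hg' (by
      intro b hb
      have : (e.symm ∘ e : α → α) = id := by ext; simp
      rw [this, Finset.image_id]; exact hb)]
    have : (e.symm ∘ e : α → α) = id := by ext; simp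
    simp only [this]
    exact vmap_id B _ v
  have h2 : ∀ v, vmap B B' e hg (vmap B' B e.symm hg' v) = v := by
    intro v
    rw [vmap_vmap B' B B' e.symm hg' e hg (by
      intro b hb
      have : (e ∘ e.symm : β → β) = id := by ext; simp
      rw [this, Finset.image_id]; exact hb)]
    have : (e ∘ e.symm : β → β) = id := by ext; simp
    simp only [this]
    exact vmap_id B' _ v
  exact
    { toFun := vmap B B' e hg
      invFun := vmap B' B e.symm hg'
      left_inv := h1
      right_inv := h2
      map_rel_iff' := by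
        intro u v
        constructor
        · intro h
          have h' : (pointBlockGraph B').Adj (vmap B B' e hg u) (vmap B B' e hg v) := h
          have := vmap_adj B' B e.symm e.symm.injective hg' _ _ h'
          rwa [h1, h1] at this
        · exact vmap_adj B B' e e.injective hg u v }

theorem isoOf_none {β : Type*} [DecidableEq β] (B' : Set (Finset β)) (e : α ≃ β)
    (he : mapSys e B = B') : isoOf B B' e he none = none := rfl

theorem isoOf_pt {β : Type*} [DecidableEq β] (B' : Set (Finset β)) (e : α ≃ β)
    (he : mapSys e B = B') (a : α) : isoOf B B' e he (some (Sum.inl a)) = some (Sum.inl (e a)) :=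
  rfl

theorem isoOf_blk {β : Type*} [DecidableEq β] (B' : Set (Finset β)) (e : α ≃ β)
    (he : mapSys e B = B') (b : B) :
    ∃ h, isoOf B B' e he (some (Sum.inr b)) = some (Sum.inr ⟨b.1.image e, h⟩) := ⟨_, rfl⟩

end Cfsg.Agent.Lib.Helper1.HSG
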