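import Cfsg.Agent.Lib.Helper1.Stein10

set_option autoImplicit false
set_option linter.unusedSectionVars false

namespace Cfsg.Agent.Lib.Helper1.Stein

open Cfsg
open scoped Pointwise

section

variable {α β : Type*} [Fintype α] [DecidableEq α] [Fintype β] [DecidableEq β]

theorem smul_finset_eq_image (g : Equiv.Perm α) (b : Finset α) : g • b = b.image g := by
  ext x
  simp [Finset.mem_smul_finset]

theorem mem_setSystemAut_iff (B : Set (Finset α)) (g : Equiv.Perm α) :
    g ∈ setSystemAut B ↔ ∀ b ∈ B, b.image g ∈ B := by
  change g ∈ MulAction.stabilizer (Equiv.Perm α) B ↔ _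
  rw [MulAction.mem_stabilizer_set' (Set.toFinite B)]
  simp only [smul_finset_eq_image]

theorem mapSys_refl (B : Set (Finset α)) : mapSys (Equiv.refl α) B = B := by
  ext c
  rw [mem_mapSys]
  simp

theorem mapSys_symm_self (e : α ≃ β) (B : Set (Finset α)) : mapSys e.symm (mapSys e B) = B := by
  rw [mapSys_mapSys, Equiv.self_trans_symm, mapSys_refl]

theorem mapSys_self_symm (e : α ≃ β) (B : Set (Finset β)) : mapSys e (mapSys e.symm B) = B := by
  rw [mapSys_mapSys, Equiv.symm_trans_self, mapSys_refl]

theorem permCongr_mem (e : α ≃ β) (B : Set (Finset α)) (g : Equiv.Perm α)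
    (hg : g ∈ setSystemAut B) : e.permCongr g ∈ setSystemAut (mapSys e B) := by
  rw [mem_setSystemAut_iff] at hg ⊢
  rintro _ ⟨b, hb, rfl⟩
  have : (b.image e).image (e.permCongr g) = (b.image g).image e := by
    rw [Finset.image_image, Finset.image_image]
    congr 1
    ext a
    simp [Equiv.permCongr_apply]
  simp only
  rw [this]
  exact image_mem_mapSys e B _ (hg b hb)

/-- an isomorphism of set systems carries the automorphism group over -/
def autCongr (e : α ≃ β) (B : Set (Finset α)) :
    setSystemAut B ≃* setSystemAut (mapSys e B) where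
  toFun g := ⟨e.permCongr g, permCongr_mem e B g g.2⟩
  invFun g := ⟨e.symm.permCongr g, by
    have := permCongr_mem e.symm (mapSys e B) g g.2
    rwa [mapSys_symm_self] at this⟩
  left_inv g := by
    apply Subtype.ext
    ext a
    simp [Equiv.permCongr_apply]
  right_inv g := by
    apply Subtype.ext
    ext a
    simp [Equiv.permCongr_apply]
  map_mul' g h := by
    apply Subtype.ext
    ext a
    simp [Equiv.permCongr_apply]

theorem autCongr_apply (e : α ≃ β) (B : Set (Finset α)) (g : setSystemAut B) (a : α) :
    ((autCongr e B g : setSystemAut (mapSys e B)) : Equiv.Perm β) (e a) =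
      e ((g : Equiv.Perm α) a) := by
  simp [autCongr, Equiv.permCongr_apply]

theorem pretransitive_congr (e : α ≃ β) (B : Set (Finset α)) (n : ℕ)
    (h : MulAction.IsMultiplyPretransitive (setSystemAut B) α n) :
    MulAction.IsMultiplyPretransitive (setSystemAut (mapSys e B)) β n := by
  rw [MulAction.isMultiplyPretransitive_iff] at h ⊢
  intro x y
  obtain ⟨g, hg⟩ := h (x.trans e.symm.toEmbedding) (y.trans e.symm.toEmbedding)
  refine ⟨autCongr e B g, ?_⟩
  ext i
  have h1 := DFunLike.congr_fun hg i
  simp only [Function.Embedding.smul_apply, Function.Embedding.trans_apply,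
    Equiv.coe_toEmbedding] at h1
  rw [Function.Embedding.smul_apply]
  have h2 := autCongr_apply e B g (e.symm (x i))
  rw [Equiv.apply_symm_apply] at h2
  change ((autCongr e B g : setSystemAut (mapSys e B)) : Equiv.Perm β) (x i) = y i
  rw [h2]
  change e (g • e.symm (x i)) = y i
  rw [h1, Equiv.apply_symm_apply]

end

end Cfsg.Agent.Lib.Helper1.Stein
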