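import Cfsg.Agent.Lib.Helper1.SteinHyp3
import Cfsg.Agent.Lib.Helper1.SteinAut1

/-!
# Extending the permutations of a hyperoval: the general argument
-/

set_option autoImplicit false
set_option linter.unusedSectionVars false

namespace Cfsg.Agent.Lib.Helper1.Stein

open Cfsg
open scoped Pointwise

/-- a list codes an automorphism of the standard system -/
def autOk (n : ℕ) (K0 : List ℕ) (σ : List ℕ) : Bool :=
  permOk n σ && K0.all (fun b => K0.contains (permMask σ b))

theorem autOk_perm {n : ℕ} {K0 σ : List ℕ} (h : autOk n K0 σ = true) : permOk n σ = true := by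
  unfold autOk at h
  rw [Bool.and_eq_true] at h
  exact h.1

theorem autOk_mem {n : ℕ} {K0 σ : List ℕ} (h : autOk n K0 σ = true) :
    permOf σ (autOk_perm h) ∈ setSystemAut (sysOf n K0) := by
  rw [mem_setSystemAut_iff]
  rintro _ ⟨m, hm, rfl⟩
  rw [image_permOf]
  have h2 : K0.all (fun b => K0.contains (permMask σ b)) = true := by
    unfold autOk at h
    rw [Bool.and_eq_true] at h
    exact h.2
  rw [List.all_eq_true] at h2
  have h3 := h2 m hm
  rw [List.contains_iff_mem] at h3
  exact ⟨_, h3, rfl⟩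

theorem mem_filter_of_indep (n : ℕ) (K0 : List ℕ) (r : ℕ) (S : Finset (Fin n)) (hc : S.card = r)
    (hI : Indep (sysOf n K0) S) :
    ofFin n S ∈ (subs (bitsOf n (full n)) r).filter (indepM K0) := by
  rw [List.mem_filter]
  constructor
  · apply mem_subs_of_subset
    · intro j hj
      have hjn := testBit_lt_of_ofFin hj
      refine ⟨hjn, ?_⟩
      rw [testBit_full]; simpa using hjn
    · rw [← card_toFin, toFin_ofFin, hc]
  · rw [indepM_iff n K0 (ofFin_lt n S), toFin_ofFin]; exact hI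

section

variable {α β : Type*} [Fintype α] [DecidableEq α] [Fintype β] [DecidableEq β]

theorem mapSys_of_mem_aut (B : Set (Finset α)) (g : Equiv.Perm α) (hg : g ∈ setSystemAut B) :
    mapSys g B = B := by
  have h : g • B = B := hg
  ext c
  constructor
  · rintro ⟨b, hb, rfl⟩
    rw [← h]
    exact ⟨b, hb, (smul_finset_eq_image g b)⟩
  · intro hc
    rw [← h] at hc
    obtain ⟨b, hb, rfl⟩ := hc
    exact ⟨b, hb, (smul_finset_eq_image g b).symm⟩

/-- the permutations of a set of points which extend to automorphisms -/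
def extSub (L : Set (Finset α)) (H : Finset α) : Subgroup (Equiv.Perm ↥H) where
  carrier := {σ | ∃ g ∈ setSystemAut L, ∀ p : ↥H, g p = σ p}
  mul_mem' := by
    rintro σ τ ⟨g, hg, hgσ⟩ ⟨k, hk, hkτ⟩
    refine ⟨g * k, mul_mem hg hk, fun p => ?_⟩
    rw [Equiv.Perm.mul_apply, Equiv.Perm.mul_apply, hkτ p, hgσ (τ p)]
  one_mem' := ⟨1, one_mem _, fun p => rfl⟩
  inv_mem' := by
    rintro σ ⟨g, hg, hgσ⟩
    refine ⟨g⁻¹, inv_mem hg, fun p => ?_⟩
    rw [Equiv.Perm.inv_eq_iff_eq, hgσ (σ⁻¹ p)]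
    simp

theorem hyperoval_ext (n : ℕ) (K0 H6 : List ℕ) (h0 : ℕ)
    (hH6 : (subs (bitsOf n (full n)) 6).filter (indepM K0) = H6)
    (S2 : ∀ m ∈ H6, ∃ τ ∈ setSystemAut (sysOf n K0), (toFin n h0).image τ = toFin n m)
    (S3 : ∀ a b : Fin n, a ∈ toFin n h0 → b ∈ toFin n h0 → a ≠ b →
      ∃ g ∈ setSystemAut (sysOf n K0), g a = b ∧ g b = a ∧
        ∀ x ∈ toFin n h0, x ≠ a → x ≠ b → g x = x)
    (S4 : ∀ g ∈ setSystemAut (sysOf n K0), (∀ x ∈ toFin n h0, g x = x) → g = 1)
    (L : Set (Finset α)) (e : α ≃ Fin n) (he : mapSys e L = sysOf n K0)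
    (H : Finset α) (hH : H.card = 6 ∧ Indep L H) (σ : Equiv.Perm ↥H) :
    ∃! g : Equiv.Perm α, g ∈ setSystemAut L ∧ ∀ p : ↥H, g p = σ p := by
  -- move the hyperoval to the standard one
  have hI' : Indep (sysOf n K0) (H.image e) := by
    rw [← he]; exact (indep_image e L H).2 hH.2
  have hc' : (H.image e).card = 6 := by
    rw [Finset.card_image_of_injective _ e.injective]; exact hH.1
  have hm := mem_filter_of_indep n K0 6 (H.image e) hc' hI'
  rw [hH6] at hm
  obtain ⟨τ, hτ, hτH⟩ := S2 _ hm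
  rw [toFin_ofFin] at hτH
  set f : α ≃ Fin n := e.trans τ.symm with hf
  have hfL : mapSys f L = sysOf n K0 := by
    rw [hf, ← mapSys_mapSys, he]
    exact mapSys_of_mem_aut _ τ⁻¹ (inv_mem hτ)
  have hfH : H.image f = toFin n h0 := by
    rw [hf]
    have : H.image (e.trans τ.symm) = (H.image e).image τ.symm := by
      rw [Finset.image_image]; rfl
    rw [this, ← hτH, Finset.image_image]
    simp
  have hfmem : ∀ p : α, p ∈ H ↔ f p ∈ toFin n h0 := by
    intro p
    rw [← hfH, Finset.mem_image]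
    constructor
    · intro hp; exact ⟨p, hp, rfl⟩
    · rintro ⟨q, hq, hqp⟩
      rw [← f.injective hqp]; exact hq
  have hLf : mapSys f.symm (sysOf n K0) = L := by
    rw [← hfL]; exact mapSys_symm_self f L
  -- existence
  have hall : extSub L H = ⊤ := by
    rw [eq_top_iff, ← Equiv.Perm.closure_isSwap, Subgroup.closure_le]
    rintro s ⟨a, b, hab, rfl⟩
    have hab' : f a ≠ f b := fun h => hab (Subtype.ext (f.injective h))
    obtain ⟨g0, hg0, h1, h2, h3⟩ := S3 (f a) (f b) ((hfmem a).1 a.2) ((hfmem b).1 b.2) hab'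
    have hg : f.symm.permCongr g0 ∈ setSystemAut L := by
      have := permCongr_mem f.symm (sysOf n K0) g0 hg0
      rwa [hLf] at this
    refine ⟨f.symm.permCongr g0, hg, fun p => ?_⟩
    rw [Equiv.permCongr_apply, Equiv.symm_symm]
    by_cases hpa : p = a
    · rw [hpa, h1, Equiv.swap_apply_left]; simp
    · by_cases hpb : p = b
      · rw [hpb, h2, Equiv.swap_apply_right]; simp
      · rw [Equiv.swap_apply_of_ne_of_ne hpa hpb,
          h3 (f p) ((hfmem p).1 p.2) (fun h => hpa (Subtype.ext (f.injective h)))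
            (fun h => hpb (Subtype.ext (f.injective h)))]
        simp
  have hσ : σ ∈ extSub L H := by rw [hall]; exact Subgroup.mem_top σ
  obtain ⟨g, hg, hgσ⟩ := hσ
  refine ⟨g, ⟨hg, hgσ⟩, ?_⟩
  rintro g' ⟨hg', hg'σ⟩
  -- uniqueness
  have hk : g⁻¹ * g' ∈ setSystemAut L := mul_mem (inv_mem hg) hg'
  have hk' : f.permCongr (g⁻¹ * g') ∈ setSystemAut (sysOf n K0) := by
    have := permCongr_mem f L _ hk
    rwa [hfL] at this
  have hone := S4 _ hk' (by
    intro x hx
    have hp : f.symm x ∈ H := by rw [hfmem, Equiv.apply_symm_apply]; exact hx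
    rw [Equiv.permCongr_apply, Equiv.Perm.mul_apply]
    have e1 := hg'σ ⟨f.symm x, hp⟩
    have e2 := hgσ ⟨f.symm x, hp⟩
    simp only at e1 e2
    rw [e1, ← e2]
    simp)
  have h1 : g⁻¹ * g' = 1 := by
    have := congrArg f.symm.permCongr hone
    have h2 : f.symm.permCongr (f.permCongr (g⁻¹ * g')) = g⁻¹ * g' := by
      ext a; simp [Equiv.permCongr_apply]
    rw [h2] at this
    rw [this]
    ext a; simp [Equiv.permCongr_apply]
  rw [inv_mul_eq_one] at h1
  exact h1.symm

end

end Cfsg.Agent.Lib.Helper1.Stein
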