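import Cfsg.Agent.Lib.Helper1.HSGraph1
import Cfsg.Agent.Lib.Helper1.SteinHypAut1

/-!
# Automorphisms of the point-block graph fixing the extra vertex
-/

set_option autoImplicit false
set_option linter.unusedSectionVars false

namespace Cfsg.Agent.Lib.Helper1.HSG

open Cfsg Cfsg.Agent.Lib.Helper1.Stein

variable {α : Type*} [Fintype α] [DecidableEq α] (B : Set (Finset α))

/-- the automorphism group of the graph -/
abbrev GA := pointBlockGraph B ≃g pointBlockGraph B

/-- the graph automorphism induced by an automorphism of the set system -/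
def liftAut (g : setSystemAut B) : GA B :=
  isoOf B B (g : Equiv.Perm α) (mapSys_of_mem_aut B g.1 g.2)

theorem liftAut_none (g : setSystemAut B) : liftAut B g none = none := rfl

theorem liftAut_pt (g : setSystemAut B) (a : α) :
    liftAut B g (some (Sum.inl a)) = some (Sum.inl ((g : Equiv.Perm α) a)) := rfl

theorem liftAut_blk (g : setSystemAut B) (b : B) :
    ∃ h, liftAut B g (some (Sum.inr b)) =
      some (Sum.inr ⟨b.1.image (g : Equiv.Perm α), h⟩) := ⟨_, rfl⟩

theorem liftAut_mem_stab (g : setSystemAut B) :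
    liftAut B g ∈ MulAction.stabilizer (GA B) (none : Vx B) := by
  rw [MulAction.mem_stabilizer_iff]
  rfl

theorem liftAut_injective : Function.Injective (liftAut B) := by
  intro g g' h
  apply Subtype.ext
  ext a
  have h1 := congrArg (fun φ : GA B => φ (some (Sum.inl a))) h
  simp only [liftAut_pt] at h1
  exact Sum.inl_injective (Option.some_injective _ h1)

theorem pt_of_fix (φ : GA B) (hφ : φ none = none) (a : α) :
    ∃ a', φ (some (Sum.inl a)) = some (Sum.inl a') := by
  have h1 : (pointBlockGraph B).Adj (φ none) (φ (some (Sum.inl a))) :=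
    φ.map_rel_iff.2 (adj_none_pt B a)
  rw [hφ] at h1
  exact (adj_none_iff B _).1 h1

theorem blk_of_fix (φ : GA B) (hφ : φ none = none) (b : B) :
    ∃ b', φ (some (Sum.inr b)) = some (Sum.inr b') := by
  match hv : φ (some (Sum.inr b)) with
  | none =>
    have := φ.injective (hv.trans hφ.symm)
    exact absurd this (by simp)
  | some (Sum.inl a) =>
    have hφ' : φ.symm none = none := by
      have := φ.symm_apply_apply none
      rwa [hφ] at this
    obtain ⟨a', ha'⟩ := pt_of_fix B φ.symm hφ' a
    have h1 : φ.symm (some (Sum.inl a)) = some (Sum.inr b) := by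
      rw [← hv]; exact φ.symm_apply_apply _
    rw [h1] at ha'
    exact absurd ha' (by simp)
  | some (Sum.inr b') => exact ⟨b', rfl⟩

theorem liftAut_surj (φ : GA B) (hφ : φ none = none) : ∃ g : setSystemAut B, liftAut B g = φ := by
  have hφ' : φ.symm none = none := by
      have := φ.symm_apply_apply none
      rwa [hφ] at this
  choose gf hgf using pt_of_fix B φ hφ
  choose gf' hgf' using pt_of_fix B φ.symm hφ'
  have h1 : ∀ a, gf' (gf a) = a := by
    intro a
    have := hgf' (gf a)
    rw [← hgf a, φ.symm_apply_apply] at this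
    exact (Sum.inl_injective (Option.some_injective _ this)).symm
  have h2 : ∀ a, gf (gf' a) = a := by
    intro a
    have := hgf (gf' a)
    rw [← hgf' a, φ.apply_symm_apply] at this
    exact (Sum.inl_injective (Option.some_injective _ this)).symm
  let g : Equiv.Perm α := ⟨gf, gf', h1, h2⟩
  choose bf hbf using blk_of_fix B φ hφ
  have himg : ∀ b : B, (bf b : Finset α) = (b : Finset α).image g := by
    intro b
    ext x
    rw [Finset.mem_image]
    have key : ∀ a : α, a ∈ (b : Finset α) ↔ gf a ∈ (bf b : Finset α) := by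
      intro a
      rw [← adj_pt_blk B a b, ← adj_pt_blk B (gf a) (bf b), ← hgf a, ← hbf b]
      exact φ.map_rel_iff.symm
    constructor
    · intro hx
      refine ⟨gf' x, ?_, h2 x⟩
      rw [key, h2]; exact hx
    · rintro ⟨a, ha, rfl⟩
      exact (key a).1 ha
  have hg : g ∈ setSystemAut B := by
    rw [mem_setSystemAut_iff]
    intro b hb
    rw [← himg ⟨b, hb⟩]
    exact (bf ⟨b, hb⟩).2
  refine ⟨⟨g, hg⟩, ?_⟩
  apply RelIso.ext
  intro v
  match v with
  | none => rw [liftAut_none, hφ]
  | some (Sum.inl a) =>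
    rw [liftAut_pt, hgf a]
    rfl
  | some (Sum.inr b) =>
    obtain ⟨h, hb⟩ := liftAut_blk B ⟨g, hg⟩ b
    rw [hb, hbf b]
    congr 2
    apply Subtype.ext
    exact (himg b).symm

theorem card_stab : Nat.card (MulAction.stabilizer (GA B) (none : Vx B)) =
    Nat.card (setSystemAut B) := by
  symm
  apply Nat.card_congr
  refine Equiv.ofBijective (fun g => ⟨liftAut B g, liftAut_mem_stab B g⟩) ⟨?_, ?_⟩
  · intro g g' h
    exact liftAut_injective B (congrArg Subtype.val h)
  · rintro ⟨φ, hφ⟩
    rw [MulAction.mem_stabilizer_iff] at hφ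
    obtain ⟨g, hg⟩ := liftAut_surj B φ hφ
    exact ⟨g, Subtype.ext hg⟩

theorem adj_pt_iff (p : α) (v : Vx B) : (pointBlockGraph B).Adj (some (Sum.inl p)) v ↔
    v = none ∨ ∃ b : B, v = some (Sum.inr b) ∧ p ∈ (b : Finset α) := by
  match v with
  | none =>
    constructor
    · intro _; exact Or.inl rfl
    · intro _; exact (adj_none_pt B p).symm
  | some (Sum.inl a) =>
    constructor
    · intro h; exact absurd h (not_adj_pt_pt B p a)
    · rintro (h | ⟨b, h, _⟩)
      · exact absurd h (by simp)
      · exact absurd h (by simp)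
  | some (Sum.inr b) =>
    rw [adj_pt_blk]
    constructor
    · intro h; exact Or.inr ⟨b, rfl, h⟩
    · rintro (h | ⟨b', h, hp⟩)
      · exact absurd h (by simp)
      · have : b = b' := Sum.inr_injective (Option.some_injective _ h)
        rw [this]; exact hp

/-- the automorphism group of the graph is transitive as soon as the extra vertex can be moved -/
theorem pretransitive (hpt : ∀ a a' : α, ∃ g : setSystemAut B, (g : Equiv.Perm α) a = a')
    (hblk : ∀ b b' : B, ∃ g : setSystemAut B, (b : Finset α).image (g : Equiv.Perm α) = b')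
    (a₁ a₂ : α) (h12 : a₁ ≠ a₂) (t : GA B) (p : α) (ht : t none = some (Sum.inl p)) :
    MulAction.IsPretransitive (GA B) (Vx B) := by
  have hpts : ∀ a : α, ∃ φ : GA B, φ none = some (Sum.inl a) := by
    intro a
    obtain ⟨g, hg⟩ := hpt p a
    refine ⟨liftAut B g * t, ?_⟩
    rw [RelIso.mul_apply, ht, liftAut_pt, hg]
  -- some point is mapped to a block
  have hex : ∃ a : α, ∃ b₀ : B, t (some (Sum.inl a)) = some (Sum.inr b₀) := by
    have hadj : ∀ a : α, (pointBlockGraph B).Adj (some (Sum.inl p)) (t (some (Sum.inl a))) := by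
      intro a
      rw [← ht]
      exact t.map_rel_iff.2 (adj_none_pt B a)
    rcases (adj_pt_iff B p _).1 (hadj a₁) with h1 | ⟨b, h1, _⟩
    · rcases (adj_pt_iff B p _).1 (hadj a₂) with h2 | ⟨b, h2, _⟩
      · have := t.injective (h1.trans h2.symm)
        exact absurd (Sum.inl_injective (Option.some_injective _ this)) h12
      · exact ⟨a₂, b, h2⟩
    · exact ⟨a₁, b, h1⟩
  obtain ⟨a, b₀, hab⟩ := hex
  have hblks : ∀ b : B, ∃ φ : GA B, φ none = some (Sum.inr b) := by
    intro b
    obtain ⟨φ₁, hφ₁⟩ := hpts a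
    obtain ⟨g, hg⟩ := hblk b₀ b
    refine ⟨liftAut B g * (t * φ₁), ?_⟩
    rw [RelIso.mul_apply, RelIso.mul_apply, hφ₁, hab]
    obtain ⟨h, hb⟩ := liftAut_blk B g b₀
    rw [hb]
    congr 2
    exact Subtype.ext hg
  have hall : ∀ v : Vx B, ∃ φ : GA B, φ none = v := by
    intro v
    match v with
    | none => exact ⟨1, rfl⟩
    | some (Sum.inl a) => exact hpts a
    | some (Sum.inr b) => exact hblks b
  constructor
  intro u v
  obtain ⟨φ, hφ⟩ := hall u
  obtain ⟨ψ, hψ⟩ := hall v
  refine ⟨ψ * φ⁻¹, ?_⟩
  rw [RelIso.smul_def, RelIso.mul_apply, ← hφ]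
  rw [show φ⁻¹ (φ none) = none from φ.symm_apply_apply none, hψ]

end Cfsg.Agent.Lib.Helper1.HSG
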