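import Cfsg.Agent.Lib.Helper1.SteinW21

set_option autoImplicit false
set_option maxRecDepth 1000000

namespace Cfsg.Agent.Lib.Helper1.Stein.W22

open Cfsg Cfsg.Agent.Lib.Helper1.Stein

/-- the blocks of the standard system -/
def K0 : List ℕ := [1656, 1926, 6246, 6552, 27808, 29504, 43532, 46098, 49364, 49450, 73930, 74036, 84498, 87052, 101696, 103072, 140357, 151683, 165937, 197385, 272643, 279077, 296073, 331857, 395968, 398624, 417816, 491526, 533137, 542793, 561413, 590883, 655532, 655698, 706048, 735232, 789524, 791050, 827488, 868736, 1060905, 1066257, 1081923, 1116293, 1182730, 1184276, 1220992, 1261664, 1310898, 1311052, 1366016, 1385984, 1575712, 1578176, 1597446, 1671192, 2097183, 2097633, 2104833, 2220033, 2236962, 2246916, 2265160, 2294928, 2371716, 2376770, 2392848, 2426920, 2630920, 2641968, 2656386, 2687556, 3156048, 3162760,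 3179556, 3215618, 4063233]

/-- the blocks through the last point -/
def K1 : List ℕ := [2097183, 2097633, 2104833, 2220033, 2236962, 2246916, 2265160, 2294928, 2371716, 2376770, 2392848, 2426920, 2630920, 2641968, 2656386, 2687556, 3156048, 3162760, 3179556, 3215618, 4063233]

theorem K1_eq : K1 = W21.K0.map (fun m => m ||| 1 <<< 21) := by decide +kernel

def c0 : Cert := (.excl 3 (.excl 3 (.excl 3 (.excl 3 (.excl 4 (.excl 4 (.excl 4 (.excl 9 (.excl 9 (.excl 13 (.excl 3 (.excl 3 (.excl 3 (.excl 3 (.excl 4 (.excl 4 (.excl 4 (.excl 14 (.excl 18 (.excl 14 (.excl 4 (.excl 4 (.excl 4 (.excl 11 (.excl 11 (.excl 19 (.excl 4 (.excl 4 (.excl 4 (.excl 20 Cert.done))))))))))))))))))))))))))))))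

def c1 : Cert := (.excl 4 (.excl 13 (.excl 19 (.excl 13 (.excl 3 (.excl 3 (.excl 3 (.excl 3 (.excl 3 (.excl 3 (.excl 3 (.excl 3 (.excl 3 (.excl 3 (.excl 3 (.excl 3 (.excl 3 (.excl 3 (.excl 3 (.excl 4 (.excl 4 (.excl 4 (.excl 4 (.excl 4 (.excl 4 (.excl 3 (.excl 3 (.excl 3 (.excl 3 (.excl 3 c0))))))))))))))))))))))))))))))

def c2 : Cert := (.excl 2 (.excl 2 (.excl 0 (.excl 9 (.excl 2 (.excl 2 (.excl 2 (.excl 2 (.excl 2 (.excl 22 (.excl 7 (.excl 7 (.excl 0 (.excl 1 (.excl 2 (.excl 7 (.excl 1 (.excl 8 (.excl 1 (.excl 1 (.excl 2 (.excl 0 (.excl 7 (.excl 0 (.excl 9 (.excl 0 (.excl 2 (.excl 2 (.excl 19 (.excl 22 Cert.done))))))))))))))))))))))))))))))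

def c3 : Cert := (.excl 11 (.excl 4 (.excl 11 (.excl 0 (.excl 4 (.excl 11 (.excl 5 (.excl 4 (.excl 4 (.excl 11 (.excl 10 (.excl 4 (.excl 11 (.excl 11 (.excl 4 (.excl 10 (.excl 5 (.excl 4 (.excl 4 (.excl 11 (.excl 11 (.excl 11 (.excl 5 (.excl 11 (.excl 9 (.excl 11 (.excl 11 (.excl 5 (.excl 5 (.excl 9 Cert.done))))))))))))))))))))))))))))))

def c4 : Cert := (.excl 7 (.excl 7 (.excl 7 (.excl 7 (.excl 7 (.excl 9 (.excl 8 (.excl 8 (.excl 6 (.excl 6 (.excl 7 (.excl 17 (.excl 31 (.kid 51808 (.forced 96 10 [42, 23, 20, 0] 78944 (.forced 544 7 [46, 35, 22, 1] 788128 (.forced 160 11 [44, 26, 21, 0] 1185952 (.forced 576 8 [59, 35, 20, 3] 1181504 (.forced 320 11 [46, 22, 19, 0] 792896 (.forced 640 8 [63, 38, 22, 3] 76672 (.forced 384 10 [48, 20, 19, 0] 54656 (.forced 8224 8 [52, 43, 26, 6] 1335584 (.forced 288 15 [50, 30, 29, 0] 753952 (.forced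 8256 7 [66, 41, 27, 8] 680128 (.forced 192 15 [52, 27, 26, 0] 1409216 (.forced 8704 12 [56, 43, 19, 5] 1618432 (.forced 4608 14 [55, 33, 29, 0] 479744 (.forced 9216 11 [66, 51, 21, 12] 437248 (.forced 3072 14 [57, 36, 30, 0] 1657856 (.leaf [0, 1, 2, 3, 4, 5, 8, 6, 7, 17, 20, 18, 19, 9, 12, 10, 11, 13, 16, 14, 15, 21] [34, 33, 39, 30, 6, 5, 17, 18, 28, 38, 29, 35, 19, 16, 4, 7, 48, 52, 49, 47, 54, 51, 40, 42, 9, 15, 21, 27, 46, 41, 45, 55, 36, 32, 3, 2, 22, 24, 12, 10, 50, 43, 53, 44, 25, 23, 11, 13, 37, 31, 0, 1, 14, 8, 26, 20, 56, 57, 59, 76, 60, 71, 73, 66, 61, 70, 72, 67, 62, 69, 75, 64, 63, 68, 74, 65, 58])))))))))))))))) (.excl 14 (.excl 6 (.excl 7 (.excl 16 (.excl 16 (.excl 16 (.excl 14 (.excl 6 (.excl 7 (.excl 7 (.excl 9 (.excl 9 Cert.done))))))))))))))))))))))))))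

def c5 : Cert := (.excl 4 (.excl 4 (.excl 4 (.excl 4 (.excl 1 (.excl 20 (.excl 20 (.excl 23 (.kid 1313286 (.forced 6 10 [29, 12, 6, 0] 660486 (.forced 514 3 [34, 26, 6, 1] 99850 (.forced 10 11 [31, 13, 4, 0] 30730 (.forced 516 4 [47, 24, 12, 3] 26132 (.forced 20 11 [33, 12, 5, 0] 104468 (.forced 520 4 [51, 25, 14, 3] 657944 (.forced 24 10 [35, 13, 9, 0] 1315864 (.forced 8194 4 [40, 33, 13, 4] 860178 (.forced 18 14 [37, 18, 13, 0] 1228818 (.forced 8196 3 [46, 33, 15, 5] 1253388 (.forced 12 14 [39, 19, 14, 0] 835596 (.branch 96 9 [41, 22, 19] (.excl 15 (.excl 7 (.excl 7 (.excl 9 (.excl 9 (.excl 7 (.excl 7 (.excl 9 (.excl 9 c4))))))))))))))))))))) (.excl 0 (.excl 1 (.excl 4 (.excl 4 (.excl 4 (.excl 4 (.excl 0 (.excl 1 (.excl 1 (.excl 0 (.excl 0 Cert.done))))))))))))))))))))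

def c6 : Cert := (.excl 5 (.excl 5 (.excl 0 (.excl 2 (.excl 2 (.excl 2 (.excl 2 (.excl 2 (.kid 41286 (.forced 66 4 [32, 21, 5, 0] 4818 (.forced 68 3 [39, 13, 3, 1] 3276 (.forced 72 4 [31, 16, 7, 0] 82264 (.forced 130 3 [40, 23, 9, 2] 393610 (.forced 132 4 [35, 19, 10, 2] 1573268 (.branch 6 9 [28, 11, 5] (.excl 3 (.excl 3 (.excl 3 (.excl 3 (.excl 3 (.excl 4 (.excl 4 (.excl 4 (.excl 4 (.excl 1 (.excl 20 (.excl 20 (.excl 16 (.excl 16 (.excl 0 c5))))))))))))))))))))) (.excl 2 (.excl 2 (.excl 13 (.excl 11 Cert.done)))))))))))))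

def c7 : Cert := (.excl 1 (.excl 1 (.excl 1 (.excl 1 (.kid 4908 (.forced 36 4 [38, 15, 3, 0] 393332 (.forced 40 4 [32, 15, 3, 1] 41144 (.branch 66 2 [31, 20, 4] (.excl 1 (.excl 1 (.excl 1 (.excl 0 (.excl 0 (.excl 1 (.excl 1 (.excl 1 (.excl 1 (.excl 1 (.excl 1 (.excl 1 (.excl 1 (.excl 1 (.excl 0 (.excl 2 (.excl 2 (.excl 5 (.excl 5 (.excl 2 (.excl 5 (.excl 5 c6))))))))))))))))))))))))) (.excl 11 (.excl 7 (.excl 9 (.excl 7 (.excl 7 (.excl 11 (.excl 10 (.excl 10 (.excl 13 Cert.done))))))))))))))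

def c8 : Cert := (.excl 1 (.excl 11 (.excl 4 (.excl 11 (.excl 12 (.excl 1 (.kid 1572970 (.forced 34 4 [22, 17, 1, 0] 3378 (.branch 36 3 [37, 14, 2] (.excl 0 (.excl 1 (.excl 1 (.excl 1 (.excl 1 (.excl 0 (.excl 0 (.excl 0 (.excl 0 (.excl 12 (.excl 11 (.excl 10 (.excl 9 (.excl 18 (.excl 13 (.excl 1 (.excl 1 (.excl 1 (.excl 1 (.excl 1 (.excl 1 c7))))))))))))))))))))))) (.excl 1 (.excl 11 (.excl 1 (.excl 1 (.excl 1 (.excl 1 (.excl 11 (.excl 1 (.excl 11 (.excl 1 Cert.done)))))))))))))))))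

def c9 : Cert := (.excl 13 (.excl 11 (.excl 10 (.excl 4 (.excl 11 (.excl 13 (.excl 2 (.excl 11 (.excl 11 (.excl 11 (.kid 82086 (.branch 34 3 [21, 16, 0] (.excl 17 (.excl 4 (.excl 15 (.excl 4 (.excl 10 (.excl 11 (.excl 1 (.excl 13 (.excl 1 (.excl 11 (.excl 4 (.excl 10 (.excl 12 (.excl 1 (.excl 10 (.excl 11 (.excl 1 (.excl 13 c8))))))))))))))))))) (.excl 11 (.excl 5 (.excl 1 (.excl 9 (.excl 11 (.excl 4 (.excl 4 (.excl 4 (.excl 4 (.excl 4 c3)))))))))))))))))))))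

def c10 : Cert := (.excl 5 (.excl 14 (.excl 11 (.excl 5 (.excl 4 (.excl 11 (.excl 5 (.excl 4 (.excl 11 (.excl 5 (.excl 11 (.excl 5 (.excl 4 (.excl 3 (.excl 5 (.excl 5 (.excl 11 (.excl 11 (.excl 5 (.excl 5 (.excl 5 (.excl 5 (.excl 11 (.excl 5 (.excl 5 (.excl 4 (.excl 11 (.excl 12 (.excl 4 (.excl 11 c9))))))))))))))))))))))))))))))

def c11 : Cert := (.excl 13 (.excl 2 (.excl 2 (.excl 9 (.excl 11 (.excl 9 (.excl 4 (.excl 11 (.excl 12 (.excl 4 (.excl 11 (.excl 9 (.excl 11 (.excl 10 (.excl 4 (.excl 3 (.excl 9 (.excl 2 (.excl 9 (.excl 11 (.excl 9 (.excl 9 (.excl 11 (.excl 5 (.excl 9 (.excl 9 (.excl 9 (.excl 17 (.excl 13 (.excl 11 c10))))))))))))))))))))))))))))))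

def c12 : Cert := (.excl 4 (.excl 0 (.excl 10 (.excl 4 (.excl 11 (.excl 0 (.excl 10 (.excl 10 (.excl 4 (.excl 10 (.excl 10 (.excl 10 (.excl 11 (.excl 11 (.excl 0 (.excl 10 (.excl 10 (.excl 5 (.excl 1 (.excl 9 (.excl 11 (.excl 16 (.excl 16 (.excl 3 (.excl 11 (.excl 5 (.excl 9 (.excl 3 (.excl 5 (.excl 16 c11))))))))))))))))))))))))))))))

def c13 : Cert := (.forced 5 8 [11, 6, 3, 0] 328965 (.forced 65 4 [13, 10, 3, 1] 558161 (.forced 17 7 [13, 6, 3, 0] 280721 (.forced 129 3 [15, 11, 6, 0] 594057 (.forced 9 8 [15, 9, 6, 0] 1083657 (.branch 34 2 [20, 15] (.excl 16 (.excl 16 (.excl 16 (.excl 10 (.excl 11 (.excl 10 (.excl 9 (.excl 11 (.excl 9 (.excl 16 (.excl 16 (.excl 10 (.excl 11 (.excl 5 (.excl 14 (.excl 11 (.excl 5 (.excl 16 (.excl 10 (.excl 11 (.excl 10 (.excl 1 (.excl 1 (.excl 13 c12))))))))))))))))))))))))))))))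

def c14 : Cert := (.excl 0 (.excl 0 (.excl 0 (.excl 0 (.excl 6 (.excl 1 (.excl 6 (.excl 1 (.excl 3 (.excl 1 (.excl 4 (.excl 8 (.excl 1 (.excl 7 (.excl 4 (.excl 1 (.excl 4 (.excl 1 (.excl 3 (.excl 1 (.excl 8 (.excl 1 (.kid 1069125 c13 (.excl 1 (.excl 3 (.excl 1 (.excl 1 (.excl 3 (.excl 1 (.excl 1 Cert.done))))))))))))))))))))))))))))))

def c15 : Cert := (.excl 1 (.excl 7 (.excl 2 (.excl 1 (.excl 2 (.excl 1 (.excl 6 (.excl 1 (.excl 2 (.excl 8 (.excl 5 (.excl 8 (.excl 2 (.excl 2 (.excl 2 (.excl 5 (.excl 6 (.excl 5 (.excl 2 (.excl 2 (.excl 2 (.kid 164485 (.forced 513 3 [10, 4, 1, 0] 270921 (.forced 8193 4 [12, 6, 4, 0] 143633 (.branch 5 6 [10, 5, 2] (.excl 0 (.excl 4 (.excl 8 (.excl 1 (.excl 7 c14)))))))) (.excl 6 (.excl 15 (.excl 2 (.excl 2 (.excl 2 (.excl 6 Cert.done))))))))))))))))))))))))))))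

def c16 : Cert := (.excl 5 (.excl 5 (.excl 2 (.excl 5 (.excl 5 (.excl 5 (.excl 3 (.excl 5 (.excl 5 (.excl 1 (.excl 7 (.excl 7 (.excl 2 (.excl 1 (.excl 1 (.excl 1 (.excl 3 (.excl 16 (.excl 9 (.excl 8 (.kid 148521 (.forced 33 4 [7, 5, 1, 0] 1114673 (.branch 513 2 [9, 3, 0] (.excl 7 (.excl 2 (.excl 7 (.excl 1 (.excl 7 (.excl 2 (.excl 7 c15))))))))) (.excl 2 (.excl 3 (.excl 2 (.excl 2 (.excl 3 (.excl 8 (.excl 22 (.excl 3 Cert.done)))))))))))))))))))))))))))))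

def c17 : Cert := (.excl 2 (.excl 2 (.excl 6 (.excl 1 (.excl 1 (.excl 1 (.excl 1 (.excl 1 (.excl 1 (.excl 7 (.excl 9 (.excl 0 (.excl 1 (.excl 2 (.excl 19 (.excl 1 (.excl 22 (.excl 1 (.excl 1 (.excl 7 (.excl 2 (.excl 2 (.kid 534565 (.branch 33 3 [6, 4, 0] (.excl 5 (.excl 1 (.excl 5 (.excl 5 (.excl 5 (.excl 5 c16))))))) (.excl 1 c2))))))))))))))))))))))))

def c18 : Cert := (.excl 6 (.excl 1 (.excl 0 (.excl 6 (.excl 6 (.excl 0 (.excl 1 (.excl 6 (.excl 0 (.excl 2 (.excl 2 (.excl 0 (.excl 6 (.excl 0 (.excl 7 (.excl 8 (.excl 0 (.excl 1 (.excl 0 (.excl 0 (.excl 0 (.excl 0 (.excl 2 (.excl 0 (.excl 19 (.excl 0 (.excl 8 (.excl 0 (.excl 1 (.excl 6 c17))))))))))))))))))))))))))))))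

def c19 : Cert := (.excl 0 (.excl 4 (.excl 4 (.excl 1 (.excl 4 (.excl 4 (.excl 4 (.excl 4 (.excl 1 (.excl 4 (.excl 4 (.excl 2 (.excl 2 (.excl 4 (.excl 4 (.excl 4 (.excl 4 (.excl 4 (.excl 4 (.excl 1 (.excl 4 (.excl 4 (.excl 0 (.excl 4 (.excl 2 (.excl 4 (.excl 4 (.excl 4 (.excl 4 (.excl 4 c18))))))))))))))))))))))))))))))

def c20 : Cert := (.excl 4 (.excl 4 (.excl 1 (.excl 4 (.excl 4 (.excl 2 (.excl 2 (.excl 4 (.excl 4 (.excl 4 (.excl 4 (.excl 4 (.excl 4 (.excl 1 (.excl 4 (.excl 4 (.excl 0 (.excl 4 (.excl 2 (.excl 4 (.excl 4 (.excl 4 (.excl 4 (.excl 4 (.excl 4 (.excl 4 (.excl 4 (.excl 0 (.excl 4 (.excl 4 c19))))))))))))))))))))))))))))))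

def c21 : Cert := (.excl 6 (.excl 16 (.excl 19 (.excl 16 (.excl 5 (.excl 14 (.kid 1057923 (.forced 3 8 [3, 2, 1, 0] 541443 (.branch 33 2 [5, 3] (.excl 4 (.excl 4 (.excl 4 (.excl 4 (.excl 4 (.excl 4 (.excl 4 (.excl 4 (.excl 4 (.excl 4 (.excl 4 (.excl 4 (.excl 0 (.excl 4 (.excl 4 (.excl 0 (.excl 4 (.excl 4 (.excl 1 (.excl 4 (.excl 4 c20))))))))))))))))))))))) (.excl 11 (.excl 11 (.excl 16 (.excl 5 (.excl 5 (.excl 16 (.excl 16 Cert.done))))))))))))))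

def c22 : Cert := (.excl 4 (.excl 6 (.excl 10 (.excl 10 (.kid 198723 (.branch 3 7 [2, 1, 0] (.excl 3 (.excl 3 (.excl 3 (.excl 3 (.excl 3 (.excl 3 (.excl 3 (.excl 3 (.excl 3 (.excl 3 (.excl 3 (.excl 3 (.excl 3 (.excl 3 (.excl 3 (.excl 4 (.excl 4 (.excl 4 (.excl 4 (.excl 5 (.excl 6 c21)))))))))))))))))))))) (.excl 15 (.excl 17 (.excl 15 (.excl 17 (.excl 15 (.excl 4 (.excl 4 (.excl 4 (.excl 4 (.excl 4 (.excl 4 (.excl 4 (.excl 5 (.excl 5 (.excl 17 (.excl 4 (.excl 4 (.excl 4 (.excl 10 (.excl 10 (.excl 10 (.excl 16 (.excl 20 (.excl 16 (.excl 21 Cert.done))))))))))))))))))))))))))))))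

def c23 : Cert := (.excl 16 (.excl 5 (.excl 5 (.excl 16 (.excl 3 (.excl 3 (.excl 3 (.excl 3 (.excl 3 (.excl 3 (.excl 4 (.excl 4 (.excl 5 (.excl 10 (.excl 10 (.excl 4 (.excl 10 (.excl 10 (.excl 10 (.excl 8 (.excl 10 (.excl 10 (.excl 10 (.excl 10 (.excl 10 (.excl 4 (.excl 4 (.excl 5 (.excl 15 (.excl 17 c22))))))))))))))))))))))))))))))

def c24 : Cert := (.excl 2 (.excl 2 (.excl 2 (.excl 2 (.excl 2 (.excl 2 (.excl 3 (.excl 3 (.excl 3 (.excl 3 (.excl 3 (.excl 3 (.excl 3 (.excl 3 (.excl 3 (.excl 3 (.excl 3 (.excl 3 (.excl 3 (.excl 4 (.excl 4 (.excl 5 (.excl 5 (.excl 5 (.excl 4 (.excl 5 (.excl 10 (.excl 10 (.excl 5 (.excl 16 c23))))))))))))))))))))))))))))))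

def c25 : Cert := (.excl 2 (.excl 2 (.excl 2 (.excl 2 (.excl 2 (.excl 2 (.excl 2 (.excl 2 (.excl 2 (.excl 2 (.excl 2 (.excl 2 (.excl 2 (.excl 2 (.excl 2 (.excl 2 (.excl 2 (.excl 2 (.excl 2 (.excl 2 (.excl 2 (.excl 2 (.excl 2 (.excl 2 (.excl 2 (.excl 2 (.excl 2 (.excl 2 (.excl 2 (.excl 2 c24))))))))))))))))))))))))))))))

def c26 : Cert := (.excl 2 (.excl 2 (.excl 2 (.excl 2 (.excl 2 (.excl 2 (.excl 2 (.excl 2 (.excl 2 (.excl 2 (.excl 2 (.excl 2 (.excl 2 (.excl 2 (.excl 2 (.excl 2 (.excl 2 (.excl 2 (.excl 2 (.excl 2 (.excl 2 (.excl 2 (.excl 2 (.excl 2 (.excl 2 (.excl 2 (.excl 2 (.excl 2 (.excl 2 (.excl 2 c25))))))))))))))))))))))))))))))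

def c27 : Cert := (.excl 3 (.excl 4 (.excl 4 (.excl 4 (.excl 4 (.excl 3 (.excl 3 (.excl 4 (.excl 9 (.excl 13 (.excl 13 (.excl 3 (.excl 4 (.kid 299043 (.branch 3 6 [1, 0] (.excl 2 (.excl 2 (.excl 2 (.excl 2 (.excl 2 (.excl 2 (.excl 2 (.excl 2 (.excl 2 (.excl 2 (.excl 2 (.excl 2 (.excl 2 (.excl 2 (.excl 2 c26)))))))))))))))) (.excl 13 (.excl 18 (.excl 4 (.excl 11 (.excl 13 (.excl 19 (.excl 4 (.excl 4 c1))))))))))))))))))))))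

def c28 : Cert := (.excl 4 (.excl 7 (.excl 7 (.excl 7 (.excl 7 (.excl 10 (.excl 16 (.excl 7 (.excl 7 (.excl 10 (.excl 4 (.excl 4 (.excl 4 (.excl 4 (.excl 4 (.excl 4 (.excl 4 (.excl 5 (.excl 5 (.excl 10 (.excl 4 (.excl 4 (.excl 4 (.excl 7 (.excl 7 (.excl 10 (.excl 10 (.excl 16 (.excl 10 (.excl 10 Cert.done))))))))))))))))))))))))))))))

def c29 : Cert := (.excl 8 (.excl 6 (.excl 6 (.excl 7 (.excl 16 (.excl 16 (.excl 14 (.excl 16 (.excl 6 (.excl 7 (.excl 31 (.excl 17 (.excl 14 (.kid 1315424 (.forced 96 10 [42, 22, 21, 0] 658528 (.forced 544 8 [46, 36, 21, 1] 83744 (.forced 288 11 [44, 26, 21, 0] 47392 (.forced 576 7 [59, 35, 20, 3] 42688 (.forced 192 11 [46, 22, 19, 0] 88256 (.forced 640 8 [63, 43, 25, 1] 660352 (.forced 384 10 [48, 20, 19, 0] 1314176 (.forced 8224 7 [52, 41, 28, 4] 1646752 (.forced 160 14 [50, 31, 28, 0] 442528 (.forced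 8256 8 [66, 48, 30, 5] 467264 (.forced 320 14 [52, 27, 26, 0] 1622336 (.forced 8704 11 [56, 44, 17, 7] 813568 (.forced 2560 15 [55, 32, 29, 0] 1280512 (.forced 9216 12 [66, 47, 24, 9] 1209344 (.forced 5120 15 [57, 37, 30, 0] 889856 (.leaf [0, 1, 2, 3, 4, 5, 7, 8, 6, 13, 15, 16, 14, 17, 19, 20, 18, 9, 11, 12, 10, 21] [34, 33, 39, 30, 15, 9, 23, 25, 31, 38, 32, 35, 24, 22, 8, 14, 48, 54, 49, 46, 53, 51, 43, 40, 5, 7, 21, 26, 47, 42, 44, 55, 36, 29, 1, 3, 16, 18, 13, 10, 50, 41, 52, 45, 19, 17, 11, 12, 37, 28, 0, 2, 6, 4, 27, 20, 56, 57, 76, 58, 60, 64, 68, 72, 71, 75, 63, 67, 73, 69, 65, 61, 66, 62, 74, 70, 59])))))))))))))))) (.excl 6 (.excl 7 (.excl 7 (.excl 9 (.excl 9 Cert.done)))))))))))))))))))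

def c30 : Cert := (.excl 20 (.kid 53766 (.forced 6 10 [29, 12, 6, 0] 76806 (.forced 514 4 [34, 27, 6, 1] 1574418 (.forced 18 11 [31, 12, 4, 0] 399378 (.forced 516 3 [47, 24, 11, 3] 394764 (.forced 12 11 [33, 13, 5, 0] 1579020 (.forced 520 4 [51, 28, 10, 1] 78360 (.forced 24 10 [35, 13, 9, 0] 52248 (.forced 8194 3 [40, 34, 9, 6] 1351690 (.forced 10 14 [37, 19, 13, 0] 737290 (.forced 8196 4 [46, 30, 18, 8] 696340 (.forced 20 14 [39, 18, 14, 0] 1392660 (.branch 96 9 [41, 21, 20] (.excl 15 (.excl 7 (.excl 7 (.excl 9 (.excl 9 (.excl 7 (.excl 7 (.excl 9 (.excl 9 (.excl 7 (.excl 7 (.excl 7 (.excl 7 (.excl 7 (.excl 9 (.excl 8 c29)))))))))))))))))))))))))))) (.excl 23 (.excl 0 (.excl 1 (.excl 1 (.excl 0 (.excl 0 Cert.done))))))))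

def c31 : Cert := (.forced 130 4 [40, 23, 8, 3] 24978 (.forced 132 3 [35, 15, 6, 4] 98700 (.branch 6 9 [28, 11, 5] (.excl 3 (.excl 4 (.excl 4 (.excl 4 (.excl 4 (.excl 3 (.excl 3 (.excl 3 (.excl 3 (.excl 1 (.excl 20 (.excl 20 (.excl 16 (.excl 16 (.excl 0 (.excl 4 (.excl 4 (.excl 4 (.excl 4 (.excl 1 (.excl 4 (.excl 4 (.excl 4 (.excl 4 (.excl 0 (.excl 1 (.excl 20 c30))))))))))))))))))))))))))))))

def c32 : Cert := (.excl 2 (.excl 2 (.excl 0 (.excl 0 (.excl 1 (.excl 2 (.excl 2 (.excl 2 (.excl 2 (.excl 0 (.excl 1 (.excl 1 (.excl 5 (.excl 5 (.excl 1 (.excl 1 (.excl 1 (.excl 1 (.excl 1 (.kid 1179846 (.forced 66 3 [32, 21, 4, 0] 2890 (.forced 68 4 [39, 13, 4, 1] 5460 (.forced 72 4 [31, 12, 5, 1] 786648 c31))) (.excl 1 (.excl 5 (.excl 5 (.excl 5 (.excl 5 (.excl 0 (.excl 1 (.excl 1 (.excl 13 (.excl 11 Cert.done))))))))))))))))))))))))))))))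

def c33 : Cert := (.excl 1 (.excl 1 (.excl 1 (.excl 1 (.excl 13 (.excl 11 (.excl 10 (.excl 9 (.excl 18 (.excl 12 (.excl 1 (.excl 1 (.excl 1 (.excl 1 (.excl 8 (.excl 11 (.excl 10 (.excl 8 (.excl 8 (.kid 24684 (.forced 36 4 [38, 15, 3, 0] 2740 (.forced 40 4 [32, 15, 3, 1] 1179960 (.branch 66 2 [31, 20, 3] (.excl 2 (.excl 1 (.excl 1 (.excl 2 (.excl 2 c32)))))))) (.excl 1 (.excl 1 (.excl 1 (.excl 1 (.excl 1 (.excl 1 (.excl 9 (.excl 13 (.excl 11 (.excl 9 Cert.done))))))))))))))))))))))))))))))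

def c34 : Cert := (.excl 10 (.excl 2 (.excl 2 (.excl 14 (.excl 10 (.excl 10 (.excl 4 (.excl 2 (.excl 12 (.excl 11 (.excl 4 (.excl 15 (.excl 11 (.excl 4 (.excl 4 (.excl 4 (.excl 4 (.excl 11 (.excl 4 (.excl 4 (.kid 5290 (.forced 34 4 [22, 17, 1, 0] 98418 (.branch 36 3 [37, 14, 2] (.excl 0 (.excl 0 (.excl 0 (.excl 0 (.excl 0 c33))))))) (.excl 11 (.excl 4 (.excl 2 (.excl 12 (.excl 11 (.excl 11 (.excl 4 (.excl 4 (.excl 11 Cert.done))))))))))))))))))))))))))))))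

def c35 : Cert := (.excl 11 (.excl 11 (.excl 2 (.excl 11 (.excl 11 (.excl 5 (.excl 10 (.excl 11 (.excl 0 (.kid 786726 (.branch 34 3 [21, 16, 0] (.excl 17 (.excl 4 (.excl 15 (.excl 11 (.excl 4 c34)))))) (.excl 11 (.excl 11 (.excl 9 (.excl 4 (.excl 11 (.excl 5 (.excl 4 (.excl 9 (.excl 4 (.excl 4 (.excl 11 (.excl 5 (.excl 10 (.excl 11 (.excl 11 (.excl 11 (.excl 5 (.excl 10 (.excl 5 (.excl 11 Cert.done))))))))))))))))))))))))))))))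

def c36 : Cert := (.excl 5 (.excl 5 (.excl 11 (.excl 5 (.excl 4 (.excl 11 (.excl 12 (.excl 11 (.excl 13 (.excl 4 (.excl 4 (.excl 4 (.excl 4 (.excl 4 (.excl 4 (.excl 1 (.excl 11 (.excl 11 (.excl 4 (.excl 11 (.excl 5 (.excl 4 (.excl 11 (.excl 4 (.excl 4 (.excl 11 (.excl 12 (.excl 11 (.excl 9 (.excl 4 c35))))))))))))))))))))))))))))))

def c37 : Cert := (.excl 11 (.excl 5 (.excl 10 (.excl 9 (.excl 0 (.excl 9 (.excl 17 (.excl 4 (.excl 11 (.excl 5 (.excl 11 (.excl 5 (.excl 4 (.excl 12 (.excl 11 (.excl 5 (.excl 11 (.excl 5 (.excl 14 (.excl 11 (.excl 5 (.excl 3 (.excl 5 (.excl 4 (.excl 5 (.excl 11 (.excl 5 (.excl 11 (.excl 5 (.excl 5 c36))))))))))))))))))))))))))))))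

def c38 : Cert := (.excl 16 (.excl 16 (.excl 9 (.excl 11 (.excl 5 (.excl 11 (.excl 5 (.excl 14 (.excl 16 (.excl 4 (.excl 1 (.excl 1 (.excl 11 (.excl 9 (.excl 4 (.excl 9 (.excl 11 (.excl 12 (.excl 0 (.excl 9 (.excl 0 (.excl 9 (.excl 9 (.excl 9 (.excl 9 (.excl 4 (.excl 1 (.excl 11 (.excl 9 (.excl 11 c37))))))))))))))))))))))))))))))

def c39 : Cert := (.excl 5 (.excl 10 (.excl 16 (.excl 4 (.excl 11 (.excl 10 (.excl 11 (.excl 13 (.excl 4 (.excl 12 (.excl 2 (.excl 10 (.excl 11 (.excl 2 (.excl 10 (.excl 11 (.excl 10 (.excl 3 (.excl 9 (.excl 4 (.excl 10 (.excl 11 (.excl 2 (.excl 10 (.excl 10 (.excl 5 (.excl 10 (.excl 11 (.excl 10 (.excl 10 c38))))))))))))))))))))))))))))))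

def c40 : Cert := (.excl 1 (.excl 1 (.excl 3 (.excl 4 (.excl 3 (.excl 1 (.excl 1 (.excl 1 (.kid 297029 (.forced 5 7 [11, 6, 3, 0] 541829 (.forced 65 3 [13, 10, 3, 1] 1115209 (.forced 9 8 [13, 7, 3, 0] 282889 (.forced 129 4 [15, 11, 4, 2] 1085585 (.forced 17 8 [15, 8, 6, 0] 592145 (.branch 34 2 [20, 15] (.excl 16 (.excl 16 (.excl 16 (.excl 9 (.excl 11 (.excl 10 (.excl 11 (.excl 9 (.excl 10 (.excl 16 (.excl 16 (.excl 3 (.excl 11 (.excl 5 (.excl 3 c39))))))))))))))))))))) (.excl 4 (.excl 8 (.excl 1 (.excl 1 (.excl 1 (.excl 4 Cert.done)))))))))))))))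

def c41 : Cert := (.excl 5 (.excl 2 (.excl 6 (.excl 2 (.excl 10 (.excl 2 (.kid 1057541 (.forced 513 4 [10, 5, 2, 0] 148049 (.forced 8193 3 [12, 7, 2, 1] 141449 (.branch 5 6 [10, 5, 2] (.excl 0 (.excl 1 (.excl 6 (.excl 3 (.excl 8 (.excl 0 (.excl 0 (.excl 0 (.excl 0 (.excl 1 (.excl 1 (.excl 1 (.excl 7 (.excl 4 (.excl 7 (.excl 1 (.excl 6 (.excl 3 (.excl 8 (.excl 1 c40))))))))))))))))))))))) (.excl 2 (.excl 6 (.excl 2 (.excl 2 (.excl 6 (.excl 2 (.excl 2 Cert.done))))))))))))))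

def c42 : Cert := (.excl 2 (.excl 7 (.excl 8 (.excl 2 (.excl 3 (.excl 2 (.kid 557609 (.forced 33 4 [7, 5, 1, 0] 271409 (.branch 513 2 [9, 4, 1] (.excl 7 (.excl 0 (.excl 7 (.excl 2 (.excl 7 (.excl 0 (.excl 7 (.excl 2 (.excl 7 (.excl 0 (.excl 0 (.excl 0 (.excl 2 (.excl 6 (.excl 2 (.excl 5 (.excl 8 (.excl 2 (.excl 8 (.excl 5 (.excl 2 c41))))))))))))))))))))))) (.excl 2 (.excl 1 (.excl 16 (.excl 3 (.excl 1 (.excl 1 (.excl 16 (.excl 8 (.excl 3 (.excl 3 (.excl 16 Cert.done))))))))))))))))))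

def c43 : Cert := (.excl 7 (.excl 0 (.excl 12 (.excl 2 (.kid 200741 (.branch 33 3 [6, 4, 0] (.excl 5 (.excl 5 (.excl 5 (.excl 2 (.excl 5 (.excl 5 (.excl 1 (.excl 5 (.excl 5 (.excl 5 (.excl 5 (.excl 3 (.excl 5 (.excl 5 (.excl 5 (.excl 7 (.excl 1 c42)))))))))))))))))) (.excl 1 (.excl 2 (.excl 12 (.excl 2 (.excl 2 (.excl 7 (.excl 0 (.excl 7 (.excl 2 (.excl 7 (.excl 1 (.excl 2 (.excl 8 (.excl 2 (.excl 2 (.excl 0 (.excl 1 (.excl 7 (.excl 0 (.excl 0 (.excl 22 (.excl 1 (.excl 19 (.excl 1 (.excl 24 Cert.done))))))))))))))))))))))))))))))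

def c44 : Cert := (.excl 1 (.excl 1 (.excl 8 (.excl 1 (.excl 2 (.excl 0 (.excl 6 (.excl 0 (.excl 6 (.excl 2 (.excl 0 (.excl 7 (.excl 0 (.excl 12 (.excl 2 (.excl 0 (.excl 0 (.excl 0 (.excl 0 (.excl 0 (.excl 1 (.excl 19 (.excl 0 (.excl 0 (.excl 22 (.excl 2 (.excl 2 (.excl 2 (.excl 2 (.excl 2 c43))))))))))))))))))))))))))))))

def c45 : Cert := (.excl 4 (.excl 1 (.excl 4 (.excl 4 (.excl 4 (.excl 4 (.excl 6 (.excl 6 (.excl 0 (.excl 1 (.excl 0 (.excl 1 (.excl 6 (.excl 2 (.excl 6 (.excl 1 (.excl 6 (.excl 1 (.excl 2 (.excl 7 (.excl 1 (.excl 8 (.excl 1 (.excl 2 (.excl 1 (.excl 0 (.excl 1 (.excl 19 (.excl 1 (.excl 1 c44))))))))))))))))))))))))))))))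

def c46 : Cert := (.excl 4 (.excl 4 (.excl 4 (.excl 4 (.excl 1 (.excl 4 (.excl 1 (.excl 4 (.excl 4 (.excl 4 (.excl 0 (.excl 4 (.excl 0 (.excl 4 (.excl 4 (.excl 2 (.excl 4 (.excl 4 (.excl 4 (.excl 4 (.excl 2 (.excl 4 (.excl 4 (.excl 4 (.excl 4 (.excl 2 (.excl 4 (.excl 0 (.excl 4 (.excl 4 c45))))))))))))))))))))))))))))))

def c47 : Cert := (.excl 1 (.excl 4 (.excl 4 (.excl 4 (.excl 0 (.excl 4 (.excl 0 (.excl 4 (.excl 4 (.excl 2 (.excl 4 (.excl 4 (.excl 4 (.excl 4 (.excl 2 (.excl 4 (.excl 4 (.excl 4 (.excl 4 (.excl 2 (.excl 4 (.excl 0 (.excl 4 (.excl 4 (.excl 4 (.excl 1 (.excl 4 (.excl 4 (.excl 4 (.excl 4 c46))))))))))))))))))))))))))))))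

def c48 : Cert := (.excl 3 (.excl 3 (.excl 3 (.excl 3 (.excl 4 (.excl 4 (.excl 4 (.excl 4 (.excl 5 (.excl 6 (.excl 12 (.excl 6 (.kid 328323 (.forced 3 8 [3, 2, 1, 0] 165123 (.branch 33 2 [5, 3] (.excl 4 (.excl 4 (.excl 4 (.excl 4 (.excl 4 (.excl 4 (.excl 4 (.excl 4 (.excl 4 (.excl 4 (.excl 4 (.excl 4 (.excl 4 (.excl 1 (.excl 4 c47))))))))))))))))) (.excl 6 (.excl 5 (.excl 9 (.excl 11 (.excl 9 (.excl 9 (.excl 9 (.excl 5 (.excl 5 (.excl 16 (.excl 9 Cert.done))))))))))))))))))))))))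

def c49 : Cert := (.excl 5 (.excl 10 (.excl 10 (.excl 4 (.excl 7 (.excl 10 (.excl 10 (.excl 8 (.excl 10 (.excl 10 (.excl 10 (.excl 10 (.excl 10 (.excl 4 (.excl 4 (.excl 5 (.excl 9 (.kid 536643 (.branch 3 7 [2, 1, 0] (.excl 3 (.excl 3 (.excl 3 (.excl 3 (.excl 3 (.excl 3 (.excl 3 (.excl 3 (.excl 3 (.excl 3 (.excl 3 c48)))))))))))) c28))))))))))))))))))

def c50 : Cert := (.excl 3 (.excl 3 (.excl 3 (.excl 3 (.excl 3 (.excl 3 (.excl 3 (.excl 4 (.excl 4 (.excl 5 (.excl 5 (.excl 5 (.excl 4 (.excl 5 (.excl 10 (.excl 15 (.excl 5 (.excl 10 (.excl 16 (.excl 5 (.excl 5 (.excl 10 (.excl 3 (.excl 3 (.excl 3 (.excl 3 (.excl 3 (.excl 3 (.excl 4 (.excl 4 c49))))))))))))))))))))))))))))))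

def c51 : Cert := (.excl 2 (.excl 2 (.excl 2 (.excl 2 (.excl 2 (.excl 2 (.excl 2 (.excl 2 (.excl 2 (.excl 2 (.excl 2 (.excl 2 (.excl 2 (.excl 2 (.excl 2 (.excl 2 (.excl 2 (.excl 2 (.excl 2 (.excl 2 (.excl 2 (.excl 2 (.excl 2 (.excl 2 (.excl 3 (.excl 3 (.excl 3 (.excl 3 (.excl 3 (.excl 3 c50))))))))))))))))))))))))))))))

def c52 : Cert := (.excl 2 (.excl 2 (.excl 2 (.excl 2 (.excl 2 (.excl 2 (.excl 2 (.excl 2 (.excl 2 (.excl 2 (.excl 2 (.excl 2 (.excl 2 (.excl 2 (.excl 2 (.excl 2 (.excl 2 (.excl 2 (.excl 2 (.excl 2 (.excl 2 (.excl 2 (.excl 2 (.excl 2 (.excl 2 (.excl 2 (.excl 2 (.excl 2 (.excl 2 (.excl 2 c51))))))))))))))))))))))))))))))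

def c53 : Cert := (.excl 13 (.kid 1067043 (.branch 3 6 [1, 0] (.excl 2 (.excl 2 (.excl 2 (.excl 2 (.excl 2 (.excl 2 (.excl 2 (.excl 2 (.excl 2 (.excl 2 (.excl 2 (.excl 2 (.excl 2 (.excl 2 (.excl 2 (.excl 2 (.excl 2 (.excl 2 (.excl 2 (.excl 2 (.excl 2 (.excl 2 (.excl 2 (.excl 2 (.excl 2 (.excl 2 (.excl 2 c52)))))))))))))))))))))))))))) (.excl 3 (.excl 4 (.excl 11 (.excl 14 (.excl 14 (.excl 4 (.excl 11 (.excl 11 (.excl 11 (.excl 4 (.excl 4 (.excl 4 (.excl 11 (.excl 11 (.excl 14 (.excl 3 (.excl 3 c27)))))))))))))))))))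

def c54 : Cert := (.excl 4 (.excl 7 (.excl 10 (.excl 10 (.excl 7 (.excl 7 (.excl 7 (.excl 7 (.excl 7 (.excl 10 (.excl 4 (.excl 4 (.excl 4 (.excl 4 (.excl 4 (.excl 4 (.excl 4 (.excl 5 (.excl 5 (.excl 10 (.excl 4 (.excl 4 (.excl 4 (.excl 10 (.excl 10 (.excl 10 (.excl 7 (.excl 7 (.excl 10 (.excl 10 Cert.done))))))))))))))))))))))))))))))

def c55 : Cert := (.excl 1 (.excl 1 (.excl 1 (.excl 1 (.excl 1 (.excl 12 (.excl 2 (.excl 1 (.excl 1 (.excl 12 (.excl 7 (.excl 1 (.excl 0 (.excl 7 (.excl 7 (.excl 0 (.excl 2 (.excl 0 (.excl 8 (.excl 0 (.excl 1 (.excl 7 (.excl 2 (.excl 1 (.excl 1 (.excl 22 (.excl 22 (.excl 2 (.excl 2 (.excl 22 Cert.done))))))))))))))))))))))))))))))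

def c56 : Cert := (.excl 2 (.excl 8 (.excl 2 (.excl 2 (.excl 0 (.excl 1 (.excl 6 (.excl 1 (.excl 0 (.excl 6 (.excl 0 (.excl 0 (.excl 0 (.excl 0 (.excl 0 (.excl 7 (.excl 1 (.excl 0 (.excl 9 (.excl 9 (.excl 0 (.excl 2 (.excl 0 (.excl 9 (.excl 0 (.excl 1 (.excl 7 (.excl 1 (.excl 0 (.excl 12 c55))))))))))))))))))))))))))))))

def c57 : Cert := (.excl 4 (.excl 4 (.excl 4 (.excl 4 (.excl 4 (.excl 11 (.excl 0 (.excl 4 (.excl 4 (.excl 11 (.excl 11 (.excl 4 (.excl 11 (.excl 5 (.excl 9 (.excl 11 (.excl 5 (.excl 9 (.excl 5 (.excl 5 (.excl 4 (.excl 11 (.excl 10 (.excl 4 (.excl 4 (.excl 10 (.excl 11 (.excl 11 (.excl 11 (.excl 11 Cert.done))))))))))))))))))))))))))))))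

def c58 : Cert := (.excl 11 (.excl 11 (.excl 14 (.excl 11 (.excl 5 (.excl 4 (.excl 11 (.excl 4 (.excl 11 (.excl 5 (.excl 5 (.excl 5 (.excl 5 (.excl 5 (.excl 5 (.excl 11 (.excl 4 (.excl 11 (.excl 5 (.excl 11 (.excl 11 (.excl 5 (.excl 3 (.excl 5 (.excl 5 (.excl 4 (.excl 11 (.excl 4 (.excl 11 (.excl 5 c57))))))))))))))))))))))))))))))

def c59 : Cert := (.excl 1 (.excl 1 (.excl 1 (.excl 1 (.excl 1 (.excl 11 (.excl 10 (.excl 10 (.excl 0 (.excl 0 (.excl 1 (.excl 16 (.excl 30 (.kid 827488 (.forced 96 14 [42, 24, 19, 0] 1261664 (.forced 8224 7 [46, 36, 21, 1] 27808 (.forced 160 9 [44, 24, 23, 0] 103072 (.forced 544 8 [48, 39, 22, 0] 1575712 (.forced 288 10 [46, 27, 24, 0] 398624 (.forced 640 6 [63, 37, 19, 2] 395968 (.forced 192 10 [48, 24, 21, 0] 1578176 (.forced 576 8 [63, 46, 26, 1] 29504 (.forced 320 10 [50, 25, 24, 0] 101696 (.forced 8320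 8 [58, 41, 27, 7] 1220992 (.forced 384 14 [52, 24, 23, 0] 868736 (.forced 8704 10 [56, 43, 17, 3] 1385984 (.forced 1536 14 [55, 31, 26, 0] 706048 (.forced 10240 12 [70, 50, 19, 11] 735232 (.forced 6144 14 [57, 38, 27, 0] 1366016 (.leaf [0, 1, 2, 3, 4, 5, 6, 7, 8, 9, 10, 11, 12, 13, 14, 15, 16, 17, 18, 19, 20, 21] [34, 29, 39, 28, 13, 7, 21, 25, 30, 38, 33, 35, 24, 20, 6, 12, 46, 53, 49, 48, 52, 51, 43, 41, 9, 10, 17, 26, 47, 42, 44, 55, 36, 32, 2, 1, 18, 23, 15, 4, 50, 40, 54, 45, 22, 19, 5, 14, 37, 31, 0, 3, 11, 8, 27, 16, 56, 57, 58, 59, 60, 61, 62, 63, 64, 65, 66, 67, 68, 69, 70, 71, 72, 73, 74, 75, 76])))))))))))))))) (.excl 15 (.excl 0 (.excl 1 (.excl 16 (.excl 17 (.excl 17 (.excl 15 (.excl 0 (.excl 1 (.excl 1 (.excl 11 (.excl 11 Cert.done))))))))))))))))))))))))))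

def c60 : Cert := (.excl 5 (.excl 5 (.excl 5 (.excl 18 (.excl 4 (.excl 18 (.excl 23 (.excl 3 (.kid 1597446 (.forced 6 15 [29, 12, 2, 0] 491526 (.forced 8194 4 [34, 26, 7, 1] 46098 (.forced 18 9 [31, 12, 7, 0] 84498 (.forced 514 3 [36, 30, 5, 0] 791050 (.forced 10 10 [33, 15, 10, 0] 1182730 (.forced 520 2 [51, 26, 12, 1] 43532 (.forced 12 10 [35, 15, 10, 0] 87052 (.forced 516 4 [51, 31, 9, 1] 1184276 (.forced 20 10 [37, 16, 11, 0] 789524 (.forced 8200 4 [50, 32, 15, 3] 417816 (.forced 24 15 [39, 17, 11, 0] 1671192 (.branch 96 13 [41, 23, 18] (.excl 14 (.excl 1 (.excl 1 (.excl 11 (.excl 11 (.excl 1 (.excl 1 (.excl 11 (.excl 11 c59))))))))))))))))))))) (.excl 5 (.excl 5 (.excl 5 (.excl 5 (.excl 18 (.excl 4 (.excl 18 (.excl 16 (.excl 3 (.excl 16 (.excl 5 (.excl 4 (.excl 5 (.excl 5 (.excl 3 (.excl 5 (.excl 4 (.excl 3 (.excl 4 (.excl 3 Cert.done)))))))))))))))))))))))))))))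

def c61 : Cert := (.excl 0 (.excl 0 (.excl 0 (.excl 0 (.excl 0 (.excl 0 (.excl 0 (.excl 0 (.excl 0 (.excl 0 (.excl 4 (.excl 4 (.excl 2 (.excl 2 (.kid 73930 (.forced 66 4 [32, 21, 6, 0] 655698 (.forced 72 2 [30, 10, 2, 1] 1311052 (.forced 68 4 [40, 15, 8, 0] 49364 (.forced 130 2 [40, 23, 7, 3] 1926 (.forced 136 4 [44, 14, 7, 4] 6552 (.branch 6 13 [28, 11, 1] (.excl 2 (.excl 2 (.excl 2 (.excl 2 (.excl 2 (.excl 5 c60)))))))))))) (.excl 2 (.excl 2 (.excl 2 (.excl 2 (.excl 2 (.excl 1 (.excl 4 (.excl 4 (.excl 4 (.excl 4 (.excl 2 (.excl 12 (.excl 8 (.excl 2 (.excl 2 Cert.done))))))))))))))))))))))))))))))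

def c62 : Cert := (.excl 1 (.excl 1 (.excl 1 (.excl 1 (.excl 13 (.excl 9 (.excl 10 (.excl 11 (.excl 18 (.excl 12 (.excl 1 (.excl 1 (.excl 1 (.excl 1 (.excl 8 (.excl 9 (.excl 10 (.excl 8 (.excl 8 (.kid 655532 (.forced 36 4 [38, 15, 3, 0] 74036 (.forced 40 4 [32, 15, 3, 1] 1656 (.branch 66 3 [31, 20, 5] (.excl 0 (.excl 0 (.excl 0 (.excl 0 (.excl 0 c61)))))))) (.excl 1 (.excl 1 (.excl 1 (.excl 1 (.excl 1 (.excl 1 (.excl 9 (.excl 13 (.excl 9 (.excl 11 Cert.done))))))))))))))))))))))))))))))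

def c63 : Cert := (.excl 1 (.excl 10 (.excl 13 (.excl 1 (.excl 10 (.excl 12 (.excl 1 (.excl 4 (.excl 10 (.excl 11 (.excl 14 (.excl 4 (.excl 4 (.excl 11 (.excl 4 (.excl 4 (.excl 11 (.excl 4 (.excl 4 (.excl 4 (.kid 49450 (.forced 34 4 [22, 17, 1, 0] 1310898 (.branch 36 3 [37, 14, 2] (.excl 0 (.excl 0 (.excl 0 (.excl 0 (.excl 0 c62))))))) (.excl 12 (.excl 1 (.excl 4 (.excl 11 (.excl 11 (.excl 4 (.excl 11 (.excl 11 (.excl 4 Cert.done))))))))))))))))))))))))))))))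

def c64 : Cert := (.excl 9 (.excl 11 (.excl 0 (.excl 9 (.excl 9 (.excl 11 (.excl 17 (.excl 5 (.excl 13 (.excl 11 (.excl 14 (.excl 11 (.excl 5 (.excl 12 (.excl 4 (.excl 11 (.excl 4 (.excl 11 (.excl 14 (.kid 6246 (.branch 34 3 [21, 16, 0] (.excl 17 (.excl 14 (.excl 4 (.excl 4 (.excl 11 c63)))))) (.excl 2 (.excl 9 (.excl 11 (.excl 5 (.excl 11 (.excl 4 (.excl 1 (.excl 10 (.excl 11 (.excl 11 c58))))))))))))))))))))))))))))))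

def c65 : Cert := (.excl 16 (.excl 16 (.excl 9 (.excl 1 (.excl 11 (.excl 9 (.excl 1 (.excl 14 (.excl 16 (.excl 5 (.excl 13 (.excl 11 (.excl 9 (.excl 11 (.excl 5 (.excl 9 (.excl 4 (.excl 0 (.excl 4 (.excl 11 (.excl 0 (.excl 9 (.excl 9 (.excl 9 (.excl 9 (.excl 5 (.excl 11 (.excl 4 (.excl 1 (.excl 10 c64))))))))))))))))))))))))))))))

def c66 : Cert := (.excl 11 (.excl 10 (.excl 16 (.excl 5 (.excl 10 (.excl 11 (.excl 3 (.excl 3 (.excl 5 (.excl 12 (.excl 4 (.excl 11 (.excl 4 (.excl 11 (.excl 10 (.excl 10 (.excl 2 (.excl 9 (.excl 11 (.excl 5 (.excl 10 (.excl 4 (.excl 10 (.excl 10 (.excl 11 (.excl 11 (.excl 10 (.excl 3 (.excl 10 (.excl 10 c65))))))))))))))))))))))))))))))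

def c67 : Cert := (.excl 3 (.excl 7 (.excl 1 (.excl 4 (.excl 3 (.excl 1 (.excl 3 (.excl 1 (.kid 1116293 (.forced 5 8 [11, 6, 1, 0] 561413 (.forced 129 3 [13, 9, 3, 1] 296073 (.forced 9 6 [13, 7, 5, 0] 542793 (.forced 65 4 [15, 12, 4, 0] 331857 (.forced 17 8 [15, 8, 6, 0] 1066257 (.branch 34 2 [20, 15] (.excl 16 (.excl 16 (.excl 16 (.excl 9 (.excl 10 (.excl 11 (.excl 9 (.excl 11 (.excl 10 (.excl 16 (.excl 16 (.excl 2 (.excl 10 (.excl 2 (.excl 14 c66))))))))))))))))))))) (.excl 1 (.excl 7 (.excl 1 (.excl 4 (.excl 1 (.excl 4 (.excl 1 (.excl 1 (.excl 8 (.excl 1 (.excl 1 Cert.done))))))))))))))))))))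

def c68 : Cert := (.excl 4 (.excl 8 (.excl 1 (.excl 1 (.excl 1 (.excl 4 (.excl 6 (.excl 4 (.excl 1 (.excl 1 (.excl 1 (.kid 197385 (.forced 513 4 [10, 6, 3, 0] 533137 (.forced 8193 2 [12, 5, 3, 0] 140357 (.branch 5 7 [10, 5, 0] (.excl 6 (.excl 3 (.excl 2 (.excl 1 (.excl 6 (.excl 7 (.excl 2 (.excl 1 (.excl 4 (.excl 2 (.excl 1 (.excl 8 (.excl 1 (.excl 2 (.excl 1 c67)))))))))))))))))) (.excl 6 (.excl 19 (.excl 1 (.excl 1 (.excl 1 (.excl 6 Cert.done))))))))))))))))))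

def c69 : Cert := (.excl 2 (.excl 7 (.excl 1 (.excl 1 (.excl 1 (.excl 11 (.excl 3 (.excl 16 (.excl 8 (.excl 2 (.kid 1060905 (.forced 33 4 [7, 5, 1, 0] 165937 (.branch 513 3 [9, 5, 2] (.excl 7 (.excl 1 (.excl 7 (.excl 0 (.excl 7 (.excl 1 (.excl 7 (.excl 0 (.excl 7 (.excl 1 (.excl 0 (.excl 1 (.excl 0 (.excl 6 (.excl 0 (.excl 1 (.excl 8 c68))))))))))))))))))) (.excl 2 (.excl 3 (.excl 2 (.excl 8 (.excl 3 (.excl 9 (.excl 3 Cert.done))))))))))))))))))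

def c70 : Cert := (.excl 2 (.excl 1 (.excl 6 (.excl 2 (.excl 7 (.excl 2 (.excl 8 (.excl 0 (.excl 2 (.excl 2 (.excl 1 (.kid 279077 (.branch 33 3 [6, 4, 0] (.excl 5 (.excl 1 (.excl 5 (.excl 5 (.excl 5 (.excl 5 (.excl 5 (.excl 2 (.excl 5 (.excl 5 (.excl 5 (.excl 5 (.excl 5 (.excl 3 (.excl 5 (.excl 1 (.excl 7 c69)))))))))))))))))) (.excl 2 (.excl 2 (.excl 2 c56)))))))))))))))

def c71 : Cert := (.excl 4 (.excl 1 (.excl 4 (.excl 1 (.excl 4 (.excl 4 (.excl 4 (.excl 4 (.excl 4 (.excl 0 (.excl 4 (.excl 4 (.excl 1 (.excl 4 (.excl 4 (.excl 4 (.excl 4 (.excl 2 (.excl 4 (.excl 4 (.excl 4 (.excl 6 (.excl 0 (.excl 6 (.excl 2 (.excl 6 (.excl 0 (.excl 2 (.excl 6 (.excl 1 c70))))))))))))))))))))))))))))))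

def c72 : Cert := (.excl 4 (.excl 4 (.excl 4 (.excl 0 (.excl 4 (.excl 4 (.excl 1 (.excl 4 (.excl 4 (.excl 4 (.excl 4 (.excl 2 (.excl 4 (.excl 4 (.excl 4 (.excl 4 (.excl 4 (.excl 4 (.excl 4 (.excl 2 (.excl 4 (.excl 4 (.excl 2 (.excl 4 (.excl 0 (.excl 4 (.excl 4 (.excl 4 (.excl 0 (.excl 4 c71))))))))))))))))))))))))))))))

def c73 : Cert := (.excl 4 (.excl 4 (.excl 4 (.excl 4 (.excl 4 (.excl 4 (.excl 4 (.excl 4 (.excl 4 (.excl 4 (.excl 4 (.excl 4 (.excl 4 (.excl 2 (.excl 4 (.excl 4 (.excl 2 (.excl 4 (.excl 0 (.excl 4 (.excl 4 (.excl 4 (.excl 0 (.excl 4 (.excl 4 (.excl 1 (.excl 4 (.excl 1 (.excl 4 (.excl 4 c72))))))))))))))))))))))))))))))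

def c74 : Cert := (.excl 3 (.excl 3 (.excl 3 (.excl 3 (.excl 3 (.excl 3 (.excl 3 (.excl 3 (.excl 3 (.excl 3 (.excl 4 (.excl 4 (.excl 4 (.excl 4 (.excl 5 (.excl 6 (.excl 10 (.excl 7 (.excl 11 (.excl 16 (.excl 5 (.excl 6 (.excl 10 (.kid 151683 (.forced 3 8 [3, 2, 1, 0] 272643 (.branch 33 2 [5, 3] c73)) (.excl 10 (.excl 10 (.excl 5 (.excl 5 (.excl 6 (.excl 11 Cert.done))))))))))))))))))))))))))))))

def c75 : Cert := (.kid 1081923 (.branch 3 7 [2, 1, 0] (.excl 3 (.excl 3 (.excl 3 (.excl 3 (.excl 3 c74)))))) (.excl 5 (.excl 5 (.excl 10 (.excl 3 (.excl 3 (.excl 3 (.excl 3 (.excl 3 (.excl 3 (.excl 4 (.excl 4 (.excl 5 (.excl 10 (.excl 17 (.excl 4 (.excl 6 (.excl 10 (.excl 10 (.excl 7 (.excl 10 (.excl 15 (.excl 10 (.excl 17 (.excl 10 (.excl 4 (.excl 4 (.excl 5 (.excl 9 (.excl 17 c54))))))))))))))))))))))))))))))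

def c76 : Cert := (.excl 2 (.excl 2 (.excl 2 (.excl 2 (.excl 2 (.excl 2 (.excl 3 (.excl 3 (.excl 3 (.excl 3 (.excl 3 (.excl 3 (.excl 3 (.excl 3 (.excl 3 (.excl 3 (.excl 3 (.excl 3 (.excl 3 (.excl 4 (.excl 4 (.excl 5 (.excl 5 (.excl 5 (.excl 4 (.excl 5 (.excl 10 (.excl 10 (.excl 5 (.excl 10 c75))))))))))))))))))))))))))))))

def c77 : Cert := (.excl 2 (.excl 2 (.excl 2 (.excl 2 (.excl 2 (.excl 2 (.excl 2 (.excl 2 (.excl 2 (.excl 2 (.excl 2 (.excl 2 (.excl 2 (.excl 2 (.excl 2 (.excl 2 (.excl 2 (.excl 2 (.excl 2 (.excl 2 (.excl 2 (.excl 2 (.excl 2 (.excl 2 (.excl 2 (.excl 2 (.excl 2 (.excl 2 (.excl 2 (.excl 2 c76))))))))))))))))))))))))))))))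

def c78 : Cert := (.excl 2 (.excl 2 (.excl 2 (.excl 2 (.excl 2 (.excl 2 (.excl 2 (.excl 2 (.excl 2 (.excl 2 (.excl 2 (.excl 2 (.excl 2 (.excl 2 (.excl 2 (.excl 2 (.excl 2 (.excl 2 (.excl 2 (.excl 2 (.excl 2 (.excl 2 (.excl 2 (.excl 2 (.excl 2 (.excl 2 (.excl 2 (.excl 2 (.excl 2 (.excl 2 c77))))))))))))))))))))))))))))))

def c79 : Cert := (.excl 18 (.excl 4 (.excl 9 (.kid 590883 (.branch 3 6 [1, 0] (.excl 2 (.excl 2 (.excl 2 (.excl 2 (.excl 2 (.excl 2 (.excl 2 (.excl 2 (.excl 2 (.excl 2 (.excl 2 (.excl 2 (.excl 2 (.excl 2 (.excl 2 c78)))))))))))))))) (.excl 18 (.excl 4 (.excl 4 (.excl 4 (.excl 9 (.excl 9 (.excl 18 (.excl 2 (.excl 2 (.excl 2 (.excl 2 (.excl 2 (.excl 2 (.excl 2 (.excl 2 (.excl 3 (.excl 3 (.excl 3 (.excl 4 (.excl 4 (.excl 4 (.excl 4 (.excl 3 (.excl 3 (.excl 4 (.excl 9 c53))))))))))))))))))))))))))))))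

def c80 : Cert := (.excl 2 (.excl 2 (.excl 2 (.excl 2 (.excl 2 (.excl 2 (.excl 2 (.excl 2 (.excl 2 (.excl 2 (.excl 2 (.excl 2 (.excl 2 (.excl 3 (.excl 3 (.excl 3 (.excl 4 (.excl 4 (.excl 4 (.excl 4 (.excl 3 (.excl 3 (.excl 4 (.excl 9 (.excl 9 (.excl 9 (.excl 3 (.excl 4 (.excl 9 (.excl 14 c79))))))))))))))))))))))))))))))

def c81 : Cert := (.excl 3 (.excl 4 (.excl 4 (.excl 4 (.excl 4 (.excl 3 (.excl 3 (.excl 4 (.excl 4 (.excl 4 (.excl 4 (.excl 3 (.excl 4 (.excl 4 (.excl 4 (.excl 4 (.excl 4 (.excl 4 (.excl 4 (.excl 4 (.excl 4 (.excl 4 (.excl 4 (.excl 4 (.excl 4 (.excl 4 (.excl 2 (.excl 2 (.excl 2 (.excl 2 c80))))))))))))))))))))))))))))))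

def c82 : Cert := (.excl 1 (.excl 2 (.excl 2 (.excl 2 (.excl 2 (.excl 2 (.excl 2 (.excl 2 (.excl 2 (.excl 2 (.excl 2 (.excl 2 (.excl 2 (.excl 2 (.excl 2 (.excl 2 (.excl 2 (.excl 2 (.excl 2 (.excl 2 (.excl 2 (.excl 2 (.excl 2 (.excl 2 (.excl 2 (.excl 2 (.excl 2 (.excl 2 (.excl 3 (.excl 3 c81))))))))))))))))))))))))))))))

def c83 : Cert := (.excl 1 (.excl 1 (.excl 1 (.excl 1 (.excl 1 (.excl 1 (.excl 1 (.excl 1 (.excl 1 (.excl 1 (.excl 1 (.excl 1 (.excl 1 (.excl 1 (.excl 1 (.excl 1 (.excl 1 (.excl 1 (.excl 1 (.excl 1 (.excl 1 (.excl 1 (.excl 1 (.excl 1 (.excl 1 (.excl 1 (.excl 1 (.excl 1 (.excl 1 (.excl 1 c82))))))))))))))))))))))))))))))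

def c84 : Cert := (.excl 1 (.excl 1 (.excl 1 (.excl 1 (.excl 1 (.excl 1 (.excl 1 (.excl 1 (.excl 1 (.excl 1 (.excl 1 (.excl 1 (.excl 1 (.excl 1 (.excl 1 (.excl 1 (.excl 1 (.excl 1 (.excl 1 (.excl 1 (.excl 1 (.excl 1 (.excl 1 (.excl 1 (.excl 1 (.excl 1 (.excl 1 (.excl 1 (.excl 1 (.excl 1 c83))))))))))))))))))))))))))))))

def c85 : Cert := (.excl 1 (.excl 1 (.excl 1 (.excl 1 (.excl 1 (.excl 1 (.excl 1 (.excl 1 (.excl 1 (.excl 1 (.excl 1 (.excl 1 (.excl 1 (.excl 1 (.excl 1 (.excl 1 (.excl 1 (.excl 1 (.excl 1 (.excl 1 (.excl 1 (.excl 1 (.excl 1 (.excl 1 (.excl 1 (.excl 1 (.excl 1 (.excl 1 (.excl 1 (.excl 1 c84))))))))))))))))))))))))))))))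

def c86 : Cert := (.excl 1 (.excl 1 (.excl 1 (.excl 1 (.excl 1 (.excl 1 (.excl 1 (.excl 1 (.excl 1 (.excl 1 (.excl 1 (.excl 1 (.excl 1 (.excl 1 (.excl 1 (.excl 1 (.excl 1 (.excl 1 (.excl 1 (.excl 1 (.excl 1 (.excl 1 (.excl 1 (.excl 1 (.excl 1 (.excl 1 (.excl 1 (.excl 1 (.excl 1 (.excl 1 c85))))))))))))))))))))))))))))))

def c87 : Cert := (.excl 1 (.excl 1 (.excl 1 (.excl 1 (.excl 1 (.excl 1 (.excl 1 (.excl 1 (.excl 1 (.excl 1 (.excl 1 (.excl 1 (.excl 1 (.excl 1 (.excl 1 (.excl 1 (.excl 1 (.excl 1 (.excl 1 (.excl 1 (.excl 1 (.excl 1 (.excl 1 (.excl 1 (.excl 1 (.excl 1 (.excl 1 (.excl 1 (.excl 1 (.excl 1 c86))))))))))))))))))))))))))))))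

def c88 : Cert := (.excl 1 (.excl 1 (.excl 1 (.excl 1 (.excl 1 (.excl 1 (.excl 1 (.excl 1 (.excl 1 (.excl 1 (.excl 1 (.excl 1 (.excl 1 (.excl 1 (.excl 1 (.excl 1 (.excl 1 (.excl 1 (.excl 1 (.excl 1 (.excl 1 (.excl 1 (.excl 1 (.excl 1 (.excl 1 (.excl 1 (.excl 1 (.excl 1 (.excl 1 (.excl 1 c87))))))))))))))))))))))))))))))

def c89 : Cert := (.excl 1 (.excl 1 (.excl 1 (.excl 1 (.excl 1 (.excl 1 (.excl 1 (.excl 1 (.excl 1 (.excl 1 (.excl 1 (.excl 1 (.excl 1 (.excl 1 (.excl 1 (.excl 1 (.excl 1 (.excl 1 (.excl 1 (.excl 1 (.excl 1 (.excl 1 (.excl 1 (.excl 1 (.excl 1 (.excl 1 (.excl 1 (.excl 1 (.excl 1 (.excl 1 c88))))))))))))))))))))))))))))))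

def cert : Cert := (.branch 3 5 [0] (.excl 1 (.excl 1 (.excl 1 (.excl 1 (.excl 1 (.excl 1 (.excl 1 (.excl 1 (.excl 1 (.excl 1 (.excl 1 (.excl 1 (.excl 1 (.excl 1 (.excl 1 (.excl 1 (.excl 1 (.excl 1 (.excl 1 (.excl 1 (.excl 1 (.excl 1 (.excl 1 (.excl 1 c89)))))))))))))))))))))))))

theorem K0_ok : targetOk 22 3 6 K0 = true := by decide +kernel

theorem cert_node : cert.isNode = true := by decide +kernel

theorem cert_ok : check 22 3 6 K0 cert K1 [] 0 [] = true := by decide +kernel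

universe u

theorem unique {α : Type u} [Fintype α] [DecidableEq α] (hα : Fintype.card α = 22)
    {B : Set (Finset α)} (hB : IsSteinerSystem 3 6 B) : SetSystemIso B (sysOf 22 K0) :=
  unique_ext (n := 21) (t := 2) (k := 5) K0_ok cert_node K1_eq cert_ok hα hB
    (@fun γ _ _ hγ D hD => @W21.unique γ _ _ hγ D hD)

end Cfsg.Agent.Lib.Helper1.Stein.W22
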