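import Cfsg.Agent.Lib.Helper1.HSGraph2
import Cfsg.Agent.Lib.Helper1.SteinW22

/-!
# An automorphism of the standard graph on 100 vertices moving the extra vertex
-/

set_option autoImplicit false
set_option linter.unusedSectionVars false

namespace Cfsg.Agent.Lib.Helper1.HSG

open Cfsg Cfsg.Agent.Lib.Helper1.Stein

/-- the standard system -/
abbrev S22 : Set (Finset (Fin 22)) := sysOf 22 W22.K0

theorem K_nodup : W22.K0.Nodup := by decide +kernel

theorem K_lt : ∀ m ∈ W22.K0, m < 2 ^ 22 := by decide +kernel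

theorem K_len : W22.K0.length = 77 := by decide +kernel

theorem ofFin_toFin' {m : ℕ} (hm : m < 2 ^ 22) : ofFin 22 (toFin 22 m) = m :=
  toFin_injOn (n := 22) (ofFin_lt 22 _) hm (toFin_ofFin 22 _)

/-- the mask of a block -/
def bMask (b : S22) : ℕ := ofFin 22 b.1

theorem bMask_mem (b : S22) : bMask b ∈ W22.K0 := by
  obtain ⟨m, hm, hb⟩ := b.2
  unfold bMask
  rw [← hb, ofFin_toFin' (K_lt m hm)]
  exact hm

theorem toFin_bMask (b : S22) : toFin 22 (bMask b) = b.1 := toFin_ofFin 22 _

/-- the index of a block -/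
def bIdx (b : S22) : ℕ := W22.K0.idxOf (bMask b)

theorem bIdx_lt (b : S22) : bIdx b < 77 := by
  rw [← K_len]
  exact List.idxOf_lt_length_of_mem (bMask_mem b)

theorem getD_bIdx (b : S22) : W22.K0.getD (bIdx b) 0 = bMask b := by
  have h := bIdx_lt b
  rw [← K_len] at h
  rw [List.getD_eq_getElem _ _ h]
  exact List.getElem_idxOf h

/-- the code of a vertex -/
def encV : Vx S22 → ℕ
  | none => 0
  | some (Sum.inl a) => a.val + 1
  | some (Sum.inr b) => 23 + bIdx b

/-- the vertex with a given code -/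
def decV (i : ℕ) : Vx S22 :=
  if h0 : i = 0 then none
  else if h : i ≤ 22 then some (Sum.inl ⟨i - 1, by omega⟩)
  else if h2 : i - 23 < W22.K0.length then
    some (Sum.inr ⟨toFin 22 W22.K0[i - 23], ⟨W22.K0[i - 23], List.getElem_mem h2, rfl⟩⟩)
  else none

theorem encV_none : encV none = 0 := rfl

theorem encV_pt (a : Fin 22) : encV (some (Sum.inl a)) = a.val + 1 := rfl

theorem encV_blk (b : S22) : encV (some (Sum.inr b)) = 23 + bIdx b := rfl

theorem encV_lt (v : Vx S22) : encV v < 100 := by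
  match v with
  | none => show 0 < 100; norm_num
  | some (Sum.inl a) => show a.val + 1 < 100; have := a.2; omega
  | some (Sum.inr b) => show 23 + bIdx b < 100; have := bIdx_lt b; omega

theorem decV_encV (v : Vx S22) : decV (encV v) = v := by
  match v with
  | none => rfl
  | some (Sum.inl a) =>
    rw [encV_pt]
    unfold decV
    have := a.2
    rw [dif_neg (by omega), dif_pos (by omega)]
    congr 2
  | some (Sum.inr b) =>
    rw [encV_blk]
    unfold decV
    have hb := bIdx_lt b
    have hb' : 23 + bIdx b - 23 < W22.K0.length := by rw [K_len]; omega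
    rw [dif_neg (by omega), dif_neg (by omega), dif_pos hb']
    congr 2
    apply Subtype.ext
    show toFin 22 W22.K0[23 + bIdx b - 23] = b.1
    have h1 : W22.K0[23 + bIdx b - 23] = bMask b := by
      have h2 : W22.K0.getD (bIdx b) 0 = W22.K0[23 + bIdx b - 23] := by
        rw [List.getD_eq_getElem _ _ (by rw [K_len]; exact hb)]
        congr 1
        omega
      rw [← h2, getD_bIdx]
    rw [h1, toFin_bMask]

theorem encV_injective : Function.Injective encV := by
  intro u v h
  rw [← decV_encV u, ← decV_encV v, h]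

theorem encV_decV {i : ℕ} (hi : i < 100) : encV (decV i) = i := by
  unfold decV
  by_cases h0 : i = 0
  · rw [dif_pos h0, h0]; rfl
  · rw [dif_neg h0]
    by_cases h : i ≤ 22
    · rw [dif_pos h]
      show i - 1 + 1 = i
      omega
    · have h2 : i - 23 < W22.K0.length := by rw [K_len]; omega
      rw [dif_neg h, dif_pos h2]
      show 23 + bIdx _ = i
      have h3 : bIdx ⟨toFin 22 W22.K0[i - 23], ⟨W22.K0[i - 23], List.getElem_mem h2, rfl⟩⟩ =
          i - 23 := by
        unfold bIdx bMask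
        show W22.K0.idxOf (ofFin 22 (toFin 22 W22.K0[i - 23])) = i - 23
        rw [ofFin_toFin' (K_lt _ (List.getElem_mem h2))]
        exact List.Nodup.idxOf_getElem K_nodup _ h2
      rw [h3]
      omega

/-- the relation on codes -/
def relN (i j : ℕ) : Bool :=
  if i = 0 then decide (1 ≤ j ∧ j ≤ 22)
  else if i ≤ 22 then decide (23 ≤ j) && (W22.K0.getD (j - 23) 0).testBit (i - 1)
  else decide (23 ≤ j) && (W22.K0.getD (i - 23) 0 &&& W22.K0.getD (j - 23) 0 == 0)

/-- adjacency on codes -/
def adjN (i j : ℕ) : Bool := (i != j) && (relN i j || relN j i)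

theorem disjoint_iff (b c : S22) :
    Disjoint (b : Finset (Fin 22)) (c : Finset (Fin 22)) ↔ bMask b &&& bMask c = 0 := by
  rw [Finset.disjoint_iff_inter_eq_empty, ← toFin_bMask b, ← toFin_bMask c, ← toFin_land]
  constructor
  · intro h
    have hlt : bMask b &&& bMask c < 2 ^ 22 :=
      lt_of_le_of_lt Nat.and_le_left (K_lt _ (bMask_mem b))
    apply toFin_injOn (n := 22) hlt (by norm_num)
    rw [h, toFin_zero]
  · intro h
    rw [h, toFin_zero]

theorem relN_zero (j : ℕ) : relN 0 j = decide (1 ≤ j ∧ j ≤ 22) := by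
  unfold relN
  rw [if_pos rfl]

theorem relN_pt {i : ℕ} (h0 : i ≠ 0) (h : i ≤ 22) (j : ℕ) :
    relN i j = (decide (23 ≤ j) && (W22.K0.getD (j - 23) 0).testBit (i - 1)) := by
  unfold relN
  rw [if_neg h0, if_pos h]

theorem relN_blk {i : ℕ} (h : ¬ i ≤ 22) (j : ℕ) :
    relN i j = (decide (23 ≤ j) &&
      (W22.K0.getD (i - 23) 0 &&& W22.K0.getD (j - 23) 0 == 0)) := by
  unfold relN
  rw [if_neg (by omega), if_neg h]

theorem rel_iff (u v : Vx S22) : pointBlockRel S22 u v ↔ relN (encV u) (encV v) = true := by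
  match u, v with
  | none, none =>
    rw [encV_none, relN_zero]
    simp [pointBlockRel]
  | none, some (Sum.inl a) =>
    have := a.2
    rw [encV_none, encV_pt, relN_zero]
    simp only [pointBlockRel, true_iff, decide_eq_true_eq]
    omega
  | none, some (Sum.inr b) =>
    rw [encV_none, encV_blk, relN_zero]
    simp only [pointBlockRel, false_iff, decide_eq_true_eq]
    omega
  | some (Sum.inl a), none =>
    have := a.2
    rw [encV_none, encV_pt, relN_pt (by omega) (by omega)]
    simp [pointBlockRel]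
  | some (Sum.inl a), some (Sum.inl a') =>
    have := a.2
    have := a'.2
    rw [encV_pt, encV_pt, relN_pt (by omega) (by omega)]
    simp only [pointBlockRel, false_iff, Bool.and_eq_true, decide_eq_true_eq, not_and]
    intro h; omega
  | some (Sum.inl a), some (Sum.inr b) =>
    have := a.2
    rw [encV_pt, encV_blk, relN_pt (by omega) (by omega)]
    have h1 : 23 + bIdx b - 23 = bIdx b := by omega
    have h2 : (a : ℕ) + 1 - 1 = a := by omega
    rw [h1, h2, getD_bIdx, bMask, testBit_ofFin]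
    simp [pointBlockRel]
  | some (Sum.inr b), none =>
    rw [encV_none, encV_blk, relN_blk (by omega)]
    simp [pointBlockRel]
  | some (Sum.inr b), some (Sum.inl a) =>
    have := a.2
    rw [encV_pt, encV_blk, relN_blk (by omega)]
    simp only [pointBlockRel, false_iff, Bool.and_eq_true, decide_eq_true_eq, not_and]
    intro h; omega
  | some (Sum.inr b), some (Sum.inr c) =>
    rw [encV_blk, encV_blk, relN_blk (by omega)]
    have h1 : 23 + bIdx b - 23 = bIdx b := by omega
    have h2 : 23 + bIdx c - 23 = bIdx c := by omega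
    rw [h1, h2, getD_bIdx, getD_bIdx]
    simp only [pointBlockRel]
    rw [disjoint_iff]
    simp

theorem adj_iff_adjN (u v : Vx S22) :
    (pointBlockGraph S22).Adj u v ↔ adjN (encV u) (encV v) = true := by
  rw [adj_iff, rel_iff, rel_iff]
  unfold adjN
  rw [Bool.and_eq_true, Bool.or_eq_true, bne_iff_ne]
  constructor
  · rintro ⟨h1, h2⟩
    exact ⟨fun h => h1 (encV_injective h), h2⟩
  · rintro ⟨h1, h2⟩
    exact ⟨fun h => h1 (by rw [h]), h2⟩

/-- the table of an automorphism -/
def tauL : List ℕ := [1, 0, 39, 54, 81, 64, 46, 43, 44, 99, 82, 65, 41, 53, 40, 66, 51, 80, 79, 42, 52, 63, 45, 55, 26, 96, 33, 91, 23, 72, 90, 85, 32, 78, 29, 60, 49, 36, 67, 2, 3, 5, 22, 18, 17, 10, 9, 76, 27, 61, 73, 15, 12, 20, 7, 69, 38, 48, 74, 87, 71, 97, 30, 13, 21, 14, 6, 62, 47, 37, 57, 93, 31, 88, 59, 24, 86, 89, 50, 11, 19, 16, 8, 75, 28, 70, 58, 95, 92, 25, 77, 34, 83, 98, 68, 94, 56, 84, 35, 4]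

/-- the table of its inverse -/
def tauInvL : List ℕ := [1, 0, 39, 40, 99, 41, 66, 54, 82, 46, 45, 79, 52, 63, 65, 51, 81, 44, 43, 80, 53, 64, 42, 28, 75, 89, 24, 48, 84, 34, 62, 72, 32, 26, 91, 98, 37, 69, 56, 2, 14, 12, 19, 7, 8, 22, 6, 68, 57, 36, 78, 16, 20, 13, 3, 23, 96, 70, 86, 74, 35, 49, 67, 21, 5, 11, 15, 38, 94, 55, 85, 60, 29, 50, 58, 83, 47, 90, 33, 18, 17, 4, 10, 92, 97, 31, 76, 59, 73, 77, 30, 27, 88, 71, 95, 87, 25, 61, 93, 9]

theorem tau_perm : ∀ i < 100, tauL.getD i 0 < 100 ∧ tauInvL.getD i 0 < 100 ∧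
    tauInvL.getD (tauL.getD i 0) 0 = i ∧ tauL.getD (tauInvL.getD i 0) 0 = i := by decide +kernel

set_option maxRecDepth 1000000 in
theorem tau_adj : ∀ i < 100, ∀ j < 100,
    adjN (tauL.getD i 0) (tauL.getD j 0) = adjN i j := by decide +kernel

/-- the automorphism -/
def tAut : GA S22 where
  toFun v := decV (tauL.getD (encV v) 0)
  invFun v := decV (tauInvL.getD (encV v) 0)
  left_inv v := by
    obtain ⟨h1, -, h3, -⟩ := tau_perm _ (encV_lt v)
    show decV (tauInvL.getD (encV (decV (tauL.getD (encV v) 0))) 0) = v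
    rw [encV_decV h1, h3, decV_encV]
  right_inv v := by
    obtain ⟨-, h2, -, h4⟩ := tau_perm _ (encV_lt v)
    show decV (tauL.getD (encV (decV (tauInvL.getD (encV v) 0))) 0) = v
    rw [encV_decV h2, h4, decV_encV]
  map_rel_iff' := by
    intro u v
    show (pointBlockGraph S22).Adj (decV (tauL.getD (encV u) 0)) (decV (tauL.getD (encV v) 0)) ↔ _
    rw [adj_iff_adjN, adj_iff_adjN, encV_decV (tau_perm _ (encV_lt u)).1,
      encV_decV (tau_perm _ (encV_lt v)).1, tau_adj _ (encV_lt u) _ (encV_lt v)]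

theorem tAut_none : tAut none = some (Sum.inl (0 : Fin 22)) := by
  show decV (tauL.getD 0 0) = _
  rfl

end Cfsg.Agent.Lib.Helper1.HSG
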