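import Cfsg.Agent.Lib.Helper1.HSGraph3

/-!
# Odd and even automorphisms of the standard graph on 100 vertices
-/

set_option autoImplicit false
set_option linter.unusedSectionVars false

namespace Cfsg.Agent.Lib.Helper1.HSG

open Cfsg Cfsg.Agent.Lib.Helper1.Stein

/-- the sign of an automorphism of a graph, as a permutation of the vertices -/
noncomputable def sgn {V : Type*} [Fintype V] [DecidableEq V] (Γ : SimpleGraph V) :
    (Γ ≃g Γ) →* ℤˣ :=
  Equiv.Perm.sign.comp (MulAction.toPermHom (Γ ≃g Γ) V)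

theorem sgn_apply {V : Type*} [Fintype V] [DecidableEq V] (Γ : SimpleGraph V) (φ : Γ ≃g Γ) :
    sgn Γ φ = Equiv.Perm.sign (φ.toEquiv : Equiv.Perm V) := rfl

/-- two tables are mutually inverse permutations of the codes -/
def TblPerm (l l' : List ℕ) : Prop :=
  ∀ i < 100, l.getD i 0 < 100 ∧ l'.getD i 0 < 100 ∧
    l'.getD (l.getD i 0) 0 = i ∧ l.getD (l'.getD i 0) 0 = i

/-- a table preserves adjacency of codes -/
def TblAdj (l : List ℕ) : Prop :=
  ∀ i < 100, ∀ j < 100, adjN (l.getD i 0) (l.getD j 0) = adjN i j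

/-- the automorphism with a given table -/
def autOfList (l l' : List ℕ) (hp : TblPerm l l') (ha : TblAdj l) : GA S22 where
  toFun v := decV (l.getD (encV v) 0)
  invFun v := decV (l'.getD (encV v) 0)
  left_inv v := by
    obtain ⟨h1, -, h3, -⟩ := hp _ (encV_lt v)
    show decV (l'.getD (encV (decV (l.getD (encV v) 0))) 0) = v
    rw [encV_decV h1, h3, decV_encV]
  right_inv v := by
    obtain ⟨-, h2, -, h4⟩ := hp _ (encV_lt v)
    show decV (l.getD (encV (decV (l'.getD (encV v) 0))) 0) = v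
    rw [encV_decV h2, h4, decV_encV]
  map_rel_iff' := by
    intro u v
    show (pointBlockGraph S22).Adj (decV (l.getD (encV u) 0)) (decV (l.getD (encV v) 0)) ↔ _
    rw [adj_iff_adjN, adj_iff_adjN, encV_decV (hp _ (encV_lt u)).1,
      encV_decV (hp _ (encV_lt v)).1, ha _ (encV_lt u) _ (encV_lt v)]

theorem autOfList_apply (l l' : List ℕ) (hp : TblPerm l l') (ha : TblAdj l) (v : Vx S22) :
    autOfList l l' hp ha v = decV (l.getD (encV v) 0) := rfl

/-- the vertices and their codes -/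
def encE : Vx S22 ≃ Fin 100 where
  toFun v := ⟨encV v, encV_lt v⟩
  invFun i := decV i
  left_inv := decV_encV
  right_inv i := Fin.ext (encV_decV i.2)

theorem sign_autOfList [Fintype (Vx S22)] [DecidableEq (Vx S22)] (l l' : List ℕ)
    (hp : TblPerm l l') (ha : TblAdj l) (P : Equiv.Perm (Fin 100))
    (hP : ∀ i : Fin 100, ((P i : Fin 100) : ℕ) = l.getD i 0) :
    sgn (pointBlockGraph S22) (autOfList l l' hp ha) = Equiv.Perm.sign P := by
  rw [sgn_apply]
  have h : P = encE.permCongr ((autOfList l l' hp ha).toEquiv : Equiv.Perm (Vx S22)) := by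
    ext i
    rw [hP i, Equiv.permCongr_apply]
    show l.getD i 0 = encV (decV (l.getD (encV (decV i)) 0))
    rw [encV_decV i.2, encV_decV (hp _ i.2).1]
  rw [h, Equiv.Perm.sign_permCongr]

/-- the table of an even automorphism -/
def evL : List ℕ := [1, 0, 39, 54, 64, 81, 46, 43, 99, 44, 82, 65, 53, 41, 79, 42, 63, 52, 40, 66, 80, 51, 45, 55, 26, 96, 33, 27, 76, 47, 62, 31, 93, 38, 69, 71, 87, 86, 24, 2, 18, 13, 15, 3, 17, 21, 12, 23, 91, 61, 89, 22, 9, 6, 7, 29, 78, 59, 74, 49, 60, 57, 30, 5, 10, 14, 20, 90, 72, 37, 97, 32, 85, 88, 48, 67, 36, 73, 50, 11, 19, 16, 4, 75, 95, 94, 34, 28, 92, 56, 83, 58, 77, 35, 68, 70, 25, 84, 98, 8]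

/-- the table of its inverse -/
def evInvL : List ℕ := [1, 0, 39, 43, 82, 63, 53, 54, 99, 52, 64, 79, 46, 41, 65, 42, 81, 44, 40, 80, 66, 45, 51, 47, 38, 96, 24, 27, 87, 55, 62, 31, 71, 26, 86, 93, 76, 69, 33, 2, 18, 13, 15, 7, 9, 22, 6, 29, 74, 59, 78, 21, 17, 12, 3, 23, 89, 61, 91, 57, 60, 49, 30, 16, 4, 11, 19, 75, 94, 34, 95, 35, 68, 77, 58, 83, 28, 92, 56, 14, 20, 5, 10, 90, 97, 72, 37, 36, 73, 50, 67, 48, 88, 32, 85, 84, 25, 70, 98, 8]

theorem ev_perm : TblPerm evL evInvL := by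
  unfold TblPerm
  decide +kernel

set_option maxRecDepth 1000000 in
theorem ev_adj : TblAdj evL := by
  unfold TblAdj
  decide +kernel

theorem tau_perm' : TblPerm tauL tauInvL := tau_perm

theorem tau_adj' : TblAdj tauL := tau_adj

/-- the odd automorphism as a product of transpositions -/
def pOdd : Equiv.Perm (Fin 100) :=
  Equiv.swap 0 1 *
    Equiv.swap 2 39 *
    Equiv.swap 3 54 *
    Equiv.swap 54 7 *
    Equiv.swap 7 43 *
    Equiv.swap 43 18 *
    Equiv.swap 18 79 *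
    Equiv.swap 79 11 *
    Equiv.swap 11 65 *
    Equiv.swap 65 14 *
    Equiv.swap 14 40 *
    Equiv.swap 4 81 *
    Equiv.swap 81 16 *
    Equiv.swap 16 51 *
    Equiv.swap 51 15 *
    Equiv.swap 15 66 *
    Equiv.swap 66 6 *
    Equiv.swap 6 46 *
    Equiv.swap 46 9 *
    Equiv.swap 9 99 *
    Equiv.swap 5 64 *
    Equiv.swap 64 21 *
    Equiv.swap 21 63 *
    Equiv.swap 63 13 *
    Equiv.swap 13 53 *
    Equiv.swap 53 20 *
    Equiv.swap 20 52 *
    Equiv.swap 52 12 *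
    Equiv.swap 12 41 *
    Equiv.swap 8 44 *
    Equiv.swap 44 17 *
    Equiv.swap 17 80 *
    Equiv.swap 80 19 *
    Equiv.swap 19 42 *
    Equiv.swap 42 22 *
    Equiv.swap 22 45 *
    Equiv.swap 45 10 *
    Equiv.swap 10 82 *
    Equiv.swap 23 55 *
    Equiv.swap 55 69 *
    Equiv.swap 69 37 *
    Equiv.swap 37 36 *
    Equiv.swap 36 49 *
    Equiv.swap 49 61 *
    Equiv.swap 61 97 *
    Equiv.swap 97 84 *
    Equiv.swap 84 28 *
    Equiv.swap 24 26 *
    Equiv.swap 26 33 *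
    Equiv.swap 33 78 *
    Equiv.swap 78 50 *
    Equiv.swap 50 73 *
    Equiv.swap 73 88 *
    Equiv.swap 88 92 *
    Equiv.swap 92 83 *
    Equiv.swap 83 75 *
    Equiv.swap 25 96 *
    Equiv.swap 96 56 *
    Equiv.swap 56 38 *
    Equiv.swap 38 67 *
    Equiv.swap 67 62 *
    Equiv.swap 62 30 *
    Equiv.swap 30 90 *
    Equiv.swap 90 77 *
    Equiv.swap 77 89 *
    Equiv.swap 27 91 *
    Equiv.swap 91 34 *
    Equiv.swap 34 29 *
    Equiv.swap 29 72 *
    Equiv.swap 72 31 *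
    Equiv.swap 31 85 *
    Equiv.swap 85 70 *
    Equiv.swap 70 57 *
    Equiv.swap 57 48 *
    Equiv.swap 35 60 *
    Equiv.swap 60 71 *
    Equiv.swap 71 93 *
    Equiv.swap 93 98 *
    Equiv.swap 47 76 *
    Equiv.swap 76 86 *
    Equiv.swap 86 58 *
    Equiv.swap 58 74 *
    Equiv.swap 74 59 *
    Equiv.swap 59 87 *
    Equiv.swap 87 95 *
    Equiv.swap 95 94 *
    Equiv.swap 94 68

/-- the even automorphism as a product of transpositions -/
def pEv : Equiv.Perm (Fin 100) :=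
  Equiv.swap 0 1 *
    Equiv.swap 2 39 *
    Equiv.swap 3 54 *
    Equiv.swap 54 7 *
    Equiv.swap 7 43 *
    Equiv.swap 4 64 *
    Equiv.swap 64 10 *
    Equiv.swap 10 82 *
    Equiv.swap 5 81 *
    Equiv.swap 81 16 *
    Equiv.swap 16 63 *
    Equiv.swap 6 46 *
    Equiv.swap 46 12 *
    Equiv.swap 12 53 *
    Equiv.swap 8 99 *
    Equiv.swap 9 44 *
    Equiv.swap 44 17 *
    Equiv.swap 17 52 *
    Equiv.swap 11 65 *
    Equiv.swap 65 14 *
    Equiv.swap 14 79 *
    Equiv.swap 13 41 *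
    Equiv.swap 15 42 *
    Equiv.swap 18 40 *
    Equiv.swap 19 66 *
    Equiv.swap 66 20 *
    Equiv.swap 20 80 *
    Equiv.swap 21 51 *
    Equiv.swap 51 22 *
    Equiv.swap 22 45 *
    Equiv.swap 23 55 *
    Equiv.swap 55 29 *
    Equiv.swap 29 47 *
    Equiv.swap 24 26 *
    Equiv.swap 26 33 *
    Equiv.swap 33 38 *
    Equiv.swap 25 96 *
    Equiv.swap 28 76 *
    Equiv.swap 76 36 *
    Equiv.swap 36 87 *
    Equiv.swap 30 62 *
    Equiv.swap 32 93 *
    Equiv.swap 93 35 *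
    Equiv.swap 35 71 *
    Equiv.swap 34 69 *
    Equiv.swap 69 37 *
    Equiv.swap 37 86 *
    Equiv.swap 48 91 *
    Equiv.swap 91 58 *
    Equiv.swap 58 74 *
    Equiv.swap 49 61 *
    Equiv.swap 61 57 *
    Equiv.swap 57 59 *
    Equiv.swap 50 89 *
    Equiv.swap 89 56 *
    Equiv.swap 56 78 *
    Equiv.swap 67 90 *
    Equiv.swap 90 83 *
    Equiv.swap 83 75 *
    Equiv.swap 68 72 *
    Equiv.swap 72 85 *
    Equiv.swap 85 94 *
    Equiv.swap 70 97 *
    Equiv.swap 97 84 *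
    Equiv.swap 84 95 *
    Equiv.swap 73 88 *
    Equiv.swap 88 92 *
    Equiv.swap 92 77

set_option maxRecDepth 1000000 in
theorem pOdd_apply : ∀ i : Fin 100, ((pOdd i : Fin 100) : ℕ) = tauL.getD i 0 := by decide +kernel

set_option maxRecDepth 1000000 in
theorem pEv_apply : ∀ i : Fin 100, ((pEv i : Fin 100) : ℕ) = evL.getD i 0 := by decide +kernel

set_option maxRecDepth 1000000 in
theorem pOdd_sign : Equiv.Perm.sign pOdd = -1 := by
  rw [pOdd]
  simp only [map_mul, Equiv.Perm.sign_swap']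
  decide +kernel

set_option maxRecDepth 1000000 in
theorem pEv_sign : Equiv.Perm.sign pEv = 1 := by
  rw [pEv]
  simp only [map_mul, Equiv.Perm.sign_swap']
  decide +kernel

theorem exists_odd [Fintype (Vx S22)] [DecidableEq (Vx S22)] :
    ∃ φ : GA S22, sgn (pointBlockGraph S22) φ = -1 :=
  ⟨autOfList tauL tauInvL tau_perm' tau_adj', by
    rw [sign_autOfList _ _ _ _ pOdd pOdd_apply, pOdd_sign]⟩

theorem exists_even_move [Fintype (Vx S22)] [DecidableEq (Vx S22)] :
    ∃ φ : GA S22, sgn (pointBlockGraph S22) φ = 1 ∧ φ none = some (Sum.inl (0 : Fin 22)) :=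
  ⟨autOfList evL evInvL ev_perm ev_adj, by
    rw [sign_autOfList _ _ _ _ pEv pEv_apply, pEv_sign], by
    rw [autOfList_apply]
    rfl⟩

end Cfsg.Agent.Lib.Helper1.HSG
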