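import Cfsg.Agent.Lib.Helper1.SteinRig2

set_option autoImplicit false
set_option linter.unusedSectionVars false

namespace Cfsg.Agent.Lib.Helper1.Stein

open Cfsg

variable {n t : ℕ} {K0 : List ℕ}

/-- an assignment is complete when all points are assigned -/
def completeA (n : ℕ) (L : List (ℕ × ℕ)) : Prop := ∀ x < n, (look L x).isSome = true

theorem leaves_complete : ∀ (c : RCert) (asg : List (ℕ × ℕ)) (z : ℕ) (cands : List ℕ),
    checkR n t K0 c asg z cands = true → ∀ L ∈ leavesR n c asg z cands, completeA n L := by
  intro c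
  induction c with
  | leaf =>
    intro asg z cands h L hL
    simp only [leavesR, List.mem_singleton] at hL
    subst hL
    rw [checkR, List.all_eq_true] at h
    intro x hx
    exact h x (List.mem_range.2 hx)
  | contra b b' z0 =>
    intro asg z cands _ L hL
    simp [leavesR] at hL
  | contraInj z1 z2 =>
    intro asg z cands _ L hL
    simp [leavesR] at hL
  | force b b' z0 w sub ih =>
    intro asg z cands h L hL
    rw [checkR] at h
    simp only [Bool.and_eq_true] at h
    rw [leavesR] at hL
    exact ih _ _ _ h.2 L hL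
  | branch z0 b b' items ih =>
    intro asg z cands h L hL
    rw [checkR] at h
    simp only [Bool.and_eq_true] at h
    rw [leavesR] at hL
    exact ih _ _ _ h.2 L hL
  | item sub rest ih1 ih2 =>
    intro asg z cands h L hL
    cases cands with
    | nil => simp [checkR] at h
    | cons w ws =>
      simp only [checkR, Bool.and_eq_true] at h
      simp only [leavesR, List.mem_append] at hL
      rcases hL with hL | hL
      · exact ih1 _ _ _ h.1.2 L hL
      · exact ih2 _ _ _ h.2 L hL
  | done =>
    intro asg z cands _ L hL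
    simp [leavesR] at hL

theorem eq_of_holds_complete {g g' : Equiv.Perm (Fin n)} {L : List (ℕ × ℕ)}
    (hc : completeA n L) (h : Holds n g L) (h' : Holds n g' L) : g = g' := by
  ext x
  have h1 := hc x x.2
  obtain ⟨w, hw⟩ := Option.isSome_iff_exists.1 h1
  obtain ⟨-, e1⟩ := look_spec n h hw
  obtain ⟨-, e2⟩ := look_spec n h' hw
  rw [gfun_eq] at e1 e2
  rw [e1, e2]

/-- the number of automorphisms extending an assignment is at most the number of leaves -/
theorem card_ext_le {k : ℕ} (hS : IsSteinerSystem t k (sysOf n K0)) (c : RCert)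
    (asg0 : List (ℕ × ℕ)) (hnode : c.isNode = true)
    (hc : checkR n t K0 c asg0 0 [] = true) :
    Nat.card {g : Equiv.Perm (Fin n) // (∀ b ∈ sysOf n K0, b.image g ∈ sysOf n K0) ∧
      Holds n g asg0} ≤ (leavesR n c asg0 0 []).length := by
  classical
  set Ls := leavesR n c asg0 0 [] with hLs
  have hex : ∀ g : {g : Equiv.Perm (Fin n) // (∀ b ∈ sysOf n K0, b.image g ∈ sysOf n K0) ∧
      Holds n g asg0}, ∃ L ∈ Ls, Holds n g.1 L := fun g =>
    checkR_sound hS c asg0 0 [] hc g.1 g.2.1 g.2.2 (fun hh => absurd hh (by rw [hnode]; simp))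
  choose f hf using hex
  have hinj : Function.Injective (fun g => (⟨f g, List.mem_toFinset.2 (hf g).1⟩ :
      {L // L ∈ Ls.toFinset})) := by
    intro g g' hgg'
    have h1 : f g = f g' := congrArg Subtype.val hgg'
    apply Subtype.ext
    apply eq_of_holds_complete (leaves_complete c asg0 0 [] hc _ (hf g).1) (hf g).2
    rw [h1]; exact (hf g').2
  have h2 := Nat.card_le_card_of_injective _ hinj
  have h3 : Nat.card {L // L ∈ Ls.toFinset} = Ls.toFinset.card := by
    rw [Nat.card_eq_fintype_card, Fintype.card_coe]
  rw [h3] at h2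
  exact h2.trans (List.toFinset_card_le _)

end Cfsg.Agent.Lib.Helper1.Stein
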