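import Cfsg.Agent.Lib.Helper1.SteinAut4
import Cfsg.Agent.Lib.Helper1.SteinRig3

set_option autoImplicit false
set_option linter.unusedSectionVars false

namespace Cfsg.Agent.Lib.Helper1.Stein

open Cfsg
open scoped Pointwise

theorem card_of_bounds {A : Type*} [Group A] [Finite A] (H : Subgroup A) {m : ℕ} (hm : 0 < m)
    (hH : Nat.card H = m) (hne : H ≠ ⊤) (hle : Nat.card A ≤ 2 * m) :
    Nat.card A = 2 * m ∧ H.index = 2 := by
  have h1 := Subgroup.card_mul_index H
  rw [hH] at h1
  have h2 : H.index ≠ 1 := fun h => hne (Subgroup.index_eq_one.1 h)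
  have h3 : H.index ≠ 0 := Subgroup.index_ne_zero_of_finite
  have h4 : H.index ≤ 2 := by
    by_contra hcon
    push Not at hcon
    have : m * 3 ≤ m * H.index := Nat.mul_le_mul_left m hcon
    omega
  have h5 : H.index = 2 := by omega
  rw [h5] at h1
  exact ⟨by omega, h5⟩

theorem hom_trivial_of_simple {M : Type*} [Group M] [IsSimpleGroup M] (hM : 2 < Nat.card M)
    (s : M →* ℤˣ) (m : M) : s m = 1 := by
  rcases s.normal_ker.eq_bot_or_eq_top with h | h
  · exfalso
    have hinj : Function.Injective s := (MonoidHom.ker_eq_bot_iff s).1 h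
    have := Nat.card_le_card_of_injective s hinj
    have h2 : Nat.card ℤˣ = 2 := by
      rw [Nat.card_eq_fintype_card]; rfl
    omega
  · have : m ∈ s.ker := by rw [h]; trivial
    exact this

/-- the assignment fixing the first `t` points -/
def idAsg (t : ℕ) : List (ℕ × ℕ) := (List.range t).map (fun i => (i, i))

section

variable {n t k : ℕ} {K0 : List ℕ}

theorem card_aut_le (hS : IsSteinerSystem t k (sysOf n K0)) (htn : t ≤ n) (c : RCert)
    (hnode : c.isNode = true) (hc : checkR n t K0 c (idAsg t) 0 [] = true)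
    (htrans : MulAction.IsMultiplyPretransitive (setSystemAut (sysOf n K0)) (Fin n) t) :
    Nat.card (setSystemAut (sysOf n K0)) ≤
      (leavesR n c (idAsg t) 0 []).length * n.descFactorial t := by
  set x0 : Fin t ↪ Fin n := Fin.castLEEmb htn with hx0
  have h1 := Subgroup.card_mul_index (MulAction.stabilizer (setSystemAut (sysOf n K0)) x0)
  have h2 : (MulAction.stabilizer (setSystemAut (sysOf n K0)) x0).index = n.descFactorial t := by
    rw [@MulAction.index_stabilizer_of_transitive _ _ _ _ x0 htrans, Nat.card_eq_fintype_card,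
      Fintype.card_embedding_eq, Fintype.card_fin, Fintype.card_fin]
  rw [h2] at h1
  rw [← h1]
  apply Nat.mul_le_mul_right
  refine le_trans ?_ (card_ext_le hS c (idAsg t) hnode hc)
  have hmem : ∀ a : MulAction.stabilizer (setSystemAut (sysOf n K0)) x0,
      (∀ b ∈ sysOf n K0, b.image ((a : setSystemAut (sysOf n K0)) : Equiv.Perm (Fin n)) ∈
        sysOf n K0) ∧ Holds n ((a : setSystemAut (sysOf n K0)) : Equiv.Perm (Fin n)) (idAsg t) := by
    intro a
    refine ⟨(mem_setSystemAut_iff _ _).1 a.1.2, ?_⟩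
    intro p hp
    rw [idAsg, List.mem_map] at hp
    obtain ⟨i, hi, rfl⟩ := hp
    rw [List.mem_range] at hi
    have hin : i < n := lt_of_lt_of_le hi htn
    refine ⟨hin, ?_⟩
    have ha := a.2
    rw [MulAction.mem_stabilizer_iff] at ha
    have h3 : ((a : setSystemAut (sysOf n K0)) : Equiv.Perm (Fin n)) (x0 ⟨i, hi⟩) = x0 ⟨i, hi⟩ :=
      DFunLike.congr_fun ha ⟨i, hi⟩
    have h4 : x0 ⟨i, hi⟩ = ⟨i, hin⟩ := by
      apply Fin.ext
      simp [hx0]
    rw [h4] at h3
    simp only
    rw [gfun, dif_pos hin, h3]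
  apply Nat.card_le_card_of_injective (fun a => (⟨_, hmem a⟩ : {g : Equiv.Perm (Fin n) //
    (∀ b ∈ sysOf n K0, b.image g ∈ sysOf n K0) ∧ Holds n g (idAsg t)}))
  intro a a' haa'
  have := congrArg Subtype.val haa'
  exact Subtype.ext (Subtype.ext this)

end

end Cfsg.Agent.Lib.Helper1.Stein
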