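import Cfsg.Agent.Lib.Helper1.HSGraph4
import Cfsg.Agent.Lib.Helper1.PrimSimple8
import Cfsg.Agent.Lib.Helper1.SteinAut7

/-!
# Group-theoretic lemmas for the even automorphisms of the graph on 100 vertices
-/

set_option autoImplicit false
set_option linter.unusedSectionVars false

namespace Cfsg.Agent.Lib.Helper1.HSG

open Cfsg Cfsg.Agent.Lib.Helper1.Stein MulAction

/-- a subgroup of index two is transitive on every orbit of odd size -/
theorem orbit_eq_of_index_two {G X : Type*} [Group G] [Finite G] [MulAction G X] (K : Subgroup G)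
    (hK : K.index = 2) (x : X) (hodd : Odd (orbit G x).ncard) :
    ∀ z ∈ orbit G x, ∃ k ∈ K, k • x = z := by
  have hfin : (orbit G x).Finite := Set.finite_range _
  have h1 := Cfsg.Agent.Lib.Helper1.StabCard.card_eq_ncard_orbit_mul (G := G) x
  have h2 := Cfsg.Agent.Lib.Helper1.StabCard.card_subgroup_eq_orbit_mul K x
    {z | ∃ k ∈ K, k • x = z} (fun r => Iff.rfl)
  have h3 : Nat.card K * 2 = Nat.card G := by rw [← hK]; exact K.card_mul_index
  have hle : K ⊓ stabilizer G x ≤ stabilizer G x := inf_le_right
  obtain ⟨m, hm⟩ := Subgroup.card_dvd_of_le hle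
  have hsub : {z | ∃ k ∈ K, k • x = z} ⊆ orbit G x := by
    rintro z ⟨k, _, rfl⟩
    exact ⟨k, rfl⟩
  have hle2 : ({z | ∃ k ∈ K, k • x = z} : Set X).ncard ≤ (orbit G x).ncard :=
    Set.ncard_le_ncard hsub hfin
  have hpos : 0 < Nat.card ↥(K ⊓ stabilizer G x) := Nat.card_pos
  set a := (orbit G x).ncard with ha
  set b := ({z | ∃ k ∈ K, k • x = z} : Set X).ncard with hb
  set c := Nat.card ↥(K ⊓ stabilizer G x) with hc
  -- a * (c * m) = 2 * (b * c)
  have key : a * m = 2 * b := by
    have : a * (c * m) = b * c * 2 := by rw [← hm, ← h1, ← h3, h2]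
    have h4 : c * (a * m) = c * (2 * b) := by
      calc c * (a * m) = a * (c * m) := by ring
        _ = b * c * 2 := this
        _ = c * (2 * b) := by ring
    exact Nat.eq_of_mul_eq_mul_left hpos h4
  obtain ⟨r, hr⟩ := hodd
  have hm2 : m = 2 := by
    have hmle : m ≤ 2 := by
      by_contra hcon
      push Not at hcon
      have : a * 3 ≤ a * m := Nat.mul_le_mul_left a hcon
      have hapos : 0 < a := by omega
      nlinarith
    have hmodd : m ≠ 1 := by
      intro h1m
      rw [h1m] at key
      omega
    have hm0 : m ≠ 0 := by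
      intro h0
      have hspos : 0 < Nat.card (stabilizer G x) := Nat.card_pos
      rw [hm, h0, Nat.mul_zero] at hspos
      exact absurd hspos (lt_irrefl 0)
    omega
  have hab : b = a := by rw [hm2] at key; omega
  have heq : {z | ∃ k ∈ K, k • x = z} = orbit G x :=
    Set.eq_of_subset_of_ncard_le hsub (by rw [← ha, ← hb, hab]) hfin
  intro z hz
  rw [← heq] at hz
  exact hz

variable {α : Type*} [Fintype α] [DecidableEq α] (B : Set (Finset α))

/-- lifting automorphisms of the system to the graph, as a homomorphism -/
def liftHom : setSystemAut B →* GA B where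
  toFun := liftAut B
  map_one' := by
    apply RelIso.ext
    intro v
    match v with
    | none => rfl
    | some (Sum.inl a) => rfl
    | some (Sum.inr b) =>
      obtain ⟨h, hb⟩ := liftAut_blk B 1 b
      rw [hb]
      show some (Sum.inr _) = some (Sum.inr b)
      congr 2
      apply Subtype.ext
      show (b : Finset α).image (1 : Equiv.Perm α) = b
      rw [Equiv.Perm.coe_one, Finset.image_id]
  map_mul' g k := by
    apply RelIso.ext
    intro v
    match v with
    | none => rfl
    | some (Sum.inl a) => rfl
    | some (Sum.inr b) =>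
      obtain ⟨h, hb⟩ := liftAut_blk B (g * k) b
      rw [hb, RelIso.mul_apply]
      obtain ⟨h', hb'⟩ := liftAut_blk B k b
      rw [hb']
      obtain ⟨h'', hb''⟩ := liftAut_blk B g ⟨_, h'⟩
      rw [hb'']
      congr 2
      apply Subtype.ext
      show (b : Finset α).image ((g * k : setSystemAut B) : Equiv.Perm α) =
        ((b : Finset α).image (k : Equiv.Perm α)).image (g : Equiv.Perm α)
      rw [Finset.image_image]
      rfl

theorem liftHom_apply (g : setSystemAut B) : liftHom B g = liftAut B g := rfl

end Cfsg.Agent.Lib.Helper1.HSG
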