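import Cfsg.Agent.Lib.Helper1.SteinW11

set_option autoImplicit false
set_option maxRecDepth 1000000

namespace Cfsg.Agent.Lib.Helper1.Stein.W12

open Cfsg Cfsg.Agent.Lib.Helper1.Stein

/-- the blocks of the standard system -/
def K0 : List ℕ := [126, 189, 207, 243, 311, 349, 363, 411, 430, 470, 485, 504, 571, 599, 621, 670, 679, 729, 746, 756, 783, 828, 858, 870, 881, 917, 937, 946, 963, 972, 1071, 1115, 1141, 1175, 1210, 1244, 1254, 1257, 1310, 1337, 1351, 1388, 1394, 1421, 1443, 1460, 1482, 1489, 1565, 1590, 1614, 1635, 1656, 1675, 1708, 1713, 1733, 1746, 1811, 1829, 1834, 1865, 1876, 1926, 1944, 2016, 2079, 2151, 2169, 2219, 2230, 2261, 2266, 2284, 2349, 2362, 2382, 2387, 2420, 2439, 2460, 2481, 2505, 2530, 2606, 2613, 2635, 2652, 2674, 2701, 2707, 2744, 2758, 2785, 2838, 2841, 2851, 2885, 2920, 2954, 2980, 3024, 3123, 3132, 3149, 3158, 3178, 3214, 3225, 3237, 3267, 3312, 3339, 3349, 3366, 3416,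 3425, 3474, 3496, 3524, 3591, 3610, 3625, 3665, 3684, 3732, 3746, 3784, 3852, 3888, 3906, 3969]

/-- the blocks through the last point -/
def K1 : List ℕ := [2079, 2151, 2169, 2219, 2230, 2261, 2266, 2284, 2349, 2362, 2382, 2387, 2420, 2439, 2460, 2481, 2505, 2530, 2606, 2613, 2635, 2652, 2674, 2701, 2707, 2744, 2758, 2785, 2838, 2841, 2851, 2885, 2920, 2954, 2980, 3024, 3123, 3132, 3149, 3158, 3178, 3214, 3225, 3237, 3267, 3312, 3339, 3349, 3366, 3416, 3425, 3474, 3496, 3524, 3591, 3610, 3625, 3665, 3684, 3732, 3746, 3784, 3852, 3888, 3906, 3969]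

theorem K1_eq : K1 = W11.K0.map (fun m => m ||| 1 <<< 11) := by decide +kernel

def c0 : Cert := (.forced 46 7 [55, 36, 0] 430 (.forced 54 9 [42, 34, 1] 1590 (.forced 58 7 [48, 30, 2] 1210 (.forced 60 8 [77, 21, 3] 828 (.forced 78 9 [51, 39, 4] 1614 (.forced 86 7 [81, 35, 5] 470 (.forced 90 8 [49, 31, 6] 858 (.forced 92 7 [65, 21, 7] 1244 (.forced 106 7 [85, 35, 8] 746 (.forced 108 8 [53, 26, 9] 1388 (.forced 114 8 [69, 36, 10] 1394 (.forced 116 7 [60, 27, 11] 756 (.forced 142 4 [90, 47, 11] 670 (.forced 30 8 [50, 13, 0] 1310 (.forced 166 6 [55, 46, 13] 1254 (.forced 102 8 [53, 15, 0] 870 (.forced 172 9 [60, 34, 15] 1708 (.forced 178 8 [58, 43, 14] 946 (.forced 180 8 [59, 36, 6] 1460 (.forced 184 6 [81, 37, 16] 504 (.forced 120 9 [59, 20, 0] 1656 (.forced 202 8 [64, 56, 12] 1482 (.forced 204 8 [66, 57, 14] 972 (.forced 210 9 [66, 49, 17] 1746 (.forced 298 9 [70, 51, 23] 1834 (.forced 340 9 [74, 39,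 19] 1876 (.forced 390 9 [76, 25, 20] 1926 (.forced 408 9 [78, 51, 7] 1944 (.forced 480 9 [82, 39, 8] 2016 (.leaf [0, 1, 2, 3, 4, 5, 6, 7, 8, 9, 10, 11] [29, 47, 64, 55, 62, 43, 56, 53, 28, 23, 40, 9, 57, 59, 46, 16, 61, 41, 20, 17, 63, 25, 22, 13, 38, 36, 35, 11, 49, 6, 65, 54, 45, 60, 26, 21, 14, 39, 15, 44, 58, 19, 18, 37, 50, 10, 7, 32, 42, 27, 24, 52, 8, 51, 12, 34, 33, 5, 48, 31, 4, 30, 3, 2, 1, 0, 66, 67, 68, 69, 70, 71, 72, 73, 74, 75, 76, 77, 78, 79, 80, 81, 82, 83, 84, 85, 86, 87, 88, 89, 90, 91, 92, 93, 94, 95, 96, 97, 98, 99, 100, 101, 102, 103, 104, 105, 106, 107, 108, 109, 110, 111, 112, 113, 114, 115, 116, 117, 118, 119, 120, 121, 122, 123, 124, 125, 126, 127, 128, 129, 130, 131]))))))))))))))))))))))))))))))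

def c1 : Cert := (.forced 27 7 [12, 3, 0] 411 (.forced 99 9 [14, 3, 2] 1635 (.forced 139 9 [17, 12, 1] 1675 (.forced 163 8 [18, 10, 4] 1443 (.forced 195 8 [60, 14, 5] 963 (.forced 275 9 [28, 13, 4] 1811 (.branch 45 4 [26, 17] (.excl 20 (.kid 189 (.forced 45 6 [27, 18, 0] 621 (.forced 53 6 [39, 16, 1] 1141 (.forced 57 8 [23, 12, 2] 1337 (.forced 77 4 [60, 20, 2] 349 (.forced 29 9 [23, 4, 0] 1565 (.forced 89 7 [26, 12, 1] 729 (.forced 101 7 [26, 5, 4] 485 (.forced 105 7 [28, 16, 6] 1257 (.forced 113 8 [29, 16, 6] 881 (.forced 141 8 [51, 26, 9] 1421 (.forced 149 8 [34, 23, 10] 917 (.forced 169 8 [33, 11, 3] 937 (.forced 177 9 [46, 20, 12] 1713 (.forced 197 9 [37, 30, 6] 1733 (.forced 209 8 [38, 22, 8] 1489 (.forced 293 9 [42, 30, 8] 1829 (.forced 329 9 [51, 25, 12] 1865 (.branch 46 4 [54, 35] (.kid 126 c0 (.excl 17 (.excl 32 Cert.done))))))))))))))))))))) (.excl 9 Cert.done))))))))))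

def cert : Cert := (.branch 15 5 [0] (.excl 1 (.excl 3 (.excl 8 (.excl 18 (.kid 1071 (.branch 15 6 [1, 0] (.kid 207 (.forced 15 8 [2, 1, 0] 783 (.branch 39 4 [4, 2] (.excl 7 (.kid 311 (.forced 39 7 [5, 3, 0] 679 (.forced 135 4 [18, 3, 0] 1175 (.forced 23 6 [6, 2, 0] 599 (.forced 71 8 [8, 5, 0] 1351 (.branch 43 4 [11, 7] (.excl 10 (.excl 4 (.kid 571 (.forced 43 6 [12, 8, 0] 363 (.forced 51 6 [46, 6, 1] 243 (.forced 75 4 [31, 9, 1] 1115 c1))) Cert.done)))))))) (.excl 22 Cert.done))))) (.excl 11 (.excl 21 Cert.done)))) Cert.done))))))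

theorem K0_ok : targetOk 12 5 6 K0 = true := by decide +kernel

theorem cert_node : cert.isNode = true := by decide +kernel

theorem cert_ok : check 12 5 6 K0 cert K1 [] 0 [] = true := by decide +kernel

universe u

theorem unique {α : Type u} [Fintype α] [DecidableEq α] (hα : Fintype.card α = 12)
    {B : Set (Finset α)} (hB : IsSteinerSystem 5 6 B) : SetSystemIso B (sysOf 12 K0) :=
  unique_ext (n := 11) (t := 4) (k := 5) K0_ok cert_node K1_eq cert_ok hα hB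
    (@fun γ _ _ hγ D hD => @W11.unique γ _ _ hγ D hD)

end Cfsg.Agent.Lib.Helper1.Stein.W12
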