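import Cfsg.Agent.Lib.Helper1.SteinRig2
import Cfsg.Agent.Lib.Helper1.SteinW12

set_option autoImplicit false
set_option maxRecDepth 1000000

namespace Cfsg.Agent.Lib.Helper1.Stein.W12

open Cfsg Cfsg.Agent.Lib.Helper1.Stein

def rcert : RCert := (.force 2079 2079 11 11 (.branch 5 0 0 (.item (.contraInj 5 0) (.item (.contraInj 5 1) (.item (.contraInj 5 2) (.item (.contraInj 5 3) (.item (.contraInj 5 4) (.item (.force 126 126 6 6 (.force 189 189 7 7 (.force 311 311 8 8 (.force 571 571 9 9 (.force 1071 1071 10 10 RCert.leaf))))) (.item (.force 126 126 6 5 (.force 189 349 7 8 (.contra 207 1071 7))) (.item (.force 126 670 6 9 (.contra 243 2707 11)) (.item (.force 126 1310 6 10 (.contra 363 3339 11)) (.item (.force 126 670 6 7 (.contra 243 2707 11)) (.item (.force 126 1310 6 8 (.contra 363 3339 11)) (.item (.contraInj 5 11) RCert.done))))))))))))))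

def asg0 : List (ℕ × ℕ) := [(0, 0), (1, 1), (2, 2), (3, 3), (4, 4)]

theorem rcert_node : rcert.isNode = true := by decide +kernel

theorem rcert_ok : checkR 12 5 K0 rcert asg0 0 [] = true := by decide +kernel

theorem rcert_id : allId 12 (leavesR 12 rcert asg0 0 []) = true := by decide +kernel

/-- an automorphism of the standard system fixing the first points is trivial -/
theorem rigid (hS : IsSteinerSystem 5 6 (sysOf 12 K0)) (g : Equiv.Perm (Fin 12))
    (hg : ∀ b ∈ sysOf 12 K0, b.image g ∈ sysOf 12 K0)
    (h : ∀ i : Fin 12, (i : ℕ) < 5 → g i = i) : g = 1 := by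
  apply rigid_of_cert hS rcert asg0 rcert_node rcert_ok rcert_id g hg
  intro p hp
  simp only [asg0, List.mem_cons, List.not_mem_nil, or_false] at hp
  rcases hp with rfl | rfl | rfl | rfl | rfl
  all_goals
    refine ⟨by norm_num, ?_⟩
    rw [gfun, dif_pos (by norm_num)]
    rw [h _ (by norm_num)]

end Cfsg.Agent.Lib.Helper1.Stein.W12
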