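import Cfsg.Agent.Lib.Helper1.SteinAut4
import Cfsg.Agent.Lib.Helper1.SteinR12
import Cfsg.Agent.Lib.Helper1.M24N
import Cfsg.Agent.S0369
import Cfsg.Agent.S0385

set_option autoImplicit false
set_option linter.unusedSectionVars false

namespace Cfsg.Agent.Lib.Helper1.Stein

open Cfsg
open scoped Pointwise

theorem M24_le_aut : Cfsg.M24 ≤ setSystemAut Cfsg.octads := le_of_eq Cfsg.Agent.S0369.result

variable (d : Finset GolayPt)

/-- the stabilizer of a dodecad acts on its system of hexads -/
def rho12 : MulAction.stabilizer Cfsg.M24 d →* setSystemAut (traceSys Cfsg.octads d 6) :=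
  traceHom Cfsg.M24 M24_le_aut d 6

theorem hexads_steiner (hd : d ∈ dodecads) : IsSteinerSystem 5 6 (traceSys Cfsg.octads d 6) :=
  Cfsg.Agent.S0385.result d hd

theorem card_dodecad_pts (hd : d ∈ dodecads) : Fintype.card {p : GolayPt // p ∈ d} = 12 := by
  rw [Fintype.card_coe]; exact hd.2

theorem stab_smul (g : MulAction.stabilizer Cfsg.M24 d) :
    ((g : Cfsg.M24) : Equiv.Perm GolayPt) • d = d := by
  have := g.2
  rw [MulAction.mem_stabilizer_iff] at this
  exact this

theorem rho12_injective (hd : d ∈ dodecads) : Function.Injective (rho12 d) := by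
  intro g g' hgg'
  have hcard := card_dodecad_pts d hd
  obtain ⟨x⟩ : Nonempty (Fin 5 ↪ {p : GolayPt // p ∈ d}) :=
    Function.Embedding.nonempty_of_card_le (by rw [Fintype.card_fin, hcard]; norm_num)
  have hval : ∀ p : {p : GolayPt // p ∈ d},
      ((g : Cfsg.M24) : Equiv.Perm GolayPt) p = ((g' : Cfsg.M24) : Equiv.Perm GolayPt) p := by
    intro p
    have h1 := traceHom_apply Cfsg.M24 M24_le_aut d 6 g p
    have h2 := traceHom_apply Cfsg.M24 M24_le_aut d 6 g' p
    change (((rho12 d g : setSystemAut (traceSys Cfsg.octads d 6)) :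
      Equiv.Perm {p : GolayPt // p ∈ d}) p : GolayPt) = _ at h1
    change (((rho12 d g' : setSystemAut (traceSys Cfsg.octads d 6)) :
      Equiv.Perm {p : GolayPt // p ∈ d}) p : GolayPt) = _ at h2
    rw [← h1, ← h2, hgg']
  obtain ⟨g0, -, -, -, huniq⟩ := Cfsg.Agent.Lib.Helper1.M24.sharp_general d hd
    (fun i => (x i : GolayPt))
    (fun i => ((g : Cfsg.M24) : Equiv.Perm GolayPt) (x i))
    (fun i j h => x.injective (Subtype.ext h))
    (fun i j h => x.injective (Subtype.ext (Equiv.injective _ h)))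
    (fun i => (x i).2)
    (fun i => (mem_iff_of_image (stab_image Cfsg.M24 d g) _).2 (x i).2)
  have e1 := huniq _ g.1.2 (stab_smul d g) (fun i => rfl)
  have e2 := huniq _ g'.1.2 (stab_smul d g') (fun i => (hval (x i)).symm)
  apply Subtype.ext
  apply Subtype.ext
  rw [e1, e2]

theorem trans12 (hd : d ∈ dodecads) :
    MulAction.IsMultiplyPretransitive (setSystemAut (traceSys Cfsg.octads d 6))
      {p : GolayPt // p ∈ d} 5 := by
  rw [MulAction.isMultiplyPretransitive_iff]
  intro x y
  obtain ⟨g0, hg0, hg0d, hg0x, -⟩ := Cfsg.Agent.Lib.Helper1.M24.sharp_general d hd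
    (fun i => (x i : GolayPt)) (fun i => (y i : GolayPt))
    (fun i j h => x.injective (Subtype.ext h))
    (fun i j h => y.injective (Subtype.ext h))
    (fun i => (x i).2) (fun i => (y i).2)
  refine ⟨rho12 d ⟨⟨g0, hg0⟩, ?_⟩, ?_⟩
  · rw [MulAction.mem_stabilizer_iff]
    exact hg0d
  · apply Function.Embedding.ext
    intro i
    apply Subtype.ext
    exact hg0x i

end Cfsg.Agent.Lib.Helper1.Stein
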