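import Cfsg.Agent.Lib.Helper1.SteinRig3
import Cfsg.Agent.Lib.Helper1.SteinW22

set_option autoImplicit false
set_option maxRecDepth 1000000

namespace Cfsg.Agent.Lib.Helper1.Stein.W22

open Cfsg Cfsg.Agent.Lib.Helper1.Stein

def rc0 : RCert := (.item (.branch 9 1656 3156048 (.item (.contraInj 9 4) (.item (.contra 140357 140357 9) (.item (.force 1656 3156048 10 6 (.branch 7 1926 6246 (.item (.contraInj 7 1) (.item (.contraInj 7 2) (.item (.force 1926 6246 8 12 (.branch 11 6246 1597446 (.item (.contraInj 11 1) (.item (.contraInj 11 2) (.item (.contraInj 11 6) (.item (.force 6246 1597446 12 19 (.branch 13 27808 1261664 (.item (.contraInj 13 7) (.item (.contraInj 13 10) (.item (.contraInj 13 11) (.item (.contra 43532 2246916 13) (.item (.force 27808 1261664 14 16 (.force 43532 2246916 15 8 (.force 73930 2236962 16 9 (.force 140357 140357 17 10 (.force 272643 151683 18 7 (.force 533137 165937 19 15 (.force 1060905 4063233 20 18 RCert.leaf))))))) (.item (.contraInj 13 5) RCert.done)))))))) (.item (.contra 27808 1261664 11) (.item (.contraInj 11 5) RCert.done)))))))) (.item (.contraInj 7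 10) (.item (.contraInj 7 9) (.item (.contra 49364 74036 7) RCert.done)))))))) (.item (.contraInj 9 6) (.item (.contraInj 9 5) (.item (.contraInj 9 3) RCert.done))))))) (.item (.contraInj 6 5) (.item (.contraInj 6 3) RCert.done)))

def rc1 : RCert := (.item (.branch 9 1656 2641968 (.item (.contraInj 9 4) (.item (.contra 140357 279077 9) (.item (.force 1656 2641968 10 5 (.branch 7 1926 6246 (.item (.contraInj 7 1) (.item (.contraInj 7 2) (.item (.contraInj 7 10) (.item (.force 1926 6246 8 11 (.branch 11 6246 1597446 (.item (.contraInj 11 1) (.item (.contraInj 11 2) (.item (.force 6246 1597446 12 20 (.branch 13 27808 827488 (.item (.contraInj 13 10) (.item (.contraInj 13 7) (.item (.contraInj 13 11) (.item (.contra 43532 2371716 13) (.item (.force 27808 827488 14 15 (.force 43532 2371716 15 7 (.force 73930 2376770 16 10 (.force 140357 279077 17 9 (.force 272643 272643 18 8 (.force 533137 331857 19 16 (.force 1060905 4063233 20 17 RCert.leaf))))))) (.item (.contraInj 13 5) RCert.done)))))))) (.item (.contraInj 11 6) (.item (.contraInj 11 5) (.item (.contra 27808 827488 11) RCert.done))))))))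 (.item (.contra 49364 49364 7) (.item (.contraInj 7 9) RCert.done)))))))) (.item (.contraInj 9 6) (.item (.contraInj 9 5) (.item (.contraInj 9 3) RCert.done))))))) (.item (.contraInj 6 5) (.item (.contraInj 6 3) RCert.done)))

def rc2 : RCert := (.branch 9 1656 2392848 (.item (.contraInj 9 4) (.item (.contra 140357 561413 9) (.item (.force 1656 2392848 10 8 (.branch 7 1926 1926 (.item (.contraInj 7 1) (.item (.contraInj 7 2) (.item (.force 1926 1926 8 10 (.branch 11 6246 491526 (.item (.contraInj 11 1) (.item (.contraInj 11 2) (.item (.contraInj 11 6) (.item (.force 6246 491526 12 17 (.branch 13 27808 868736 (.item (.contraInj 13 7) (.item (.contraInj 13 10) (.item (.contra 43532 2687556 13) (.item (.contraInj 13 11) (.item (.contraInj 13 5) (.item (.force 27808 868736 14 14 (.force 43532 2687556 15 6 (.force 73930 2656386 16 11 (.force 140357 561413 17 12 (.force 272643 590883 18 5 (.force 533137 533137 19 13 (.force 1060905 4063233 20 20 RCert.leaf))))))) RCert.done)))))))) (.item (.contra 27808 868736 11) (.item (.contraInj 11 5) RCert.done)))))))) (.item (.contraInj 7 10) (.item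 (.contraInj 7 9) (.item (.contra 49364 49364 7) RCert.done)))))))) (.item (.contraInj 9 6) (.item (.contraInj 9 5) (.item (.contraInj 9 3) RCert.done)))))))

def rc3 : RCert := (.branch 9 1656 2294928 (.item (.contraInj 9 4) (.item (.contra 140357 1116293 9) (.item (.force 1656 2294928 10 7 (.branch 7 1926 1926 (.item (.contraInj 7 1) (.item (.contraInj 7 2) (.item (.contraInj 7 10) (.item (.force 1926 1926 8 9 (.branch 11 6246 491526 (.item (.contraInj 11 1) (.item (.contraInj 11 2) (.item (.force 6246 491526 12 18 (.branch 13 27808 1220992 (.item (.contraInj 13 10) (.item (.contraInj 13 7) (.item (.contra 43532 3179556 13) (.item (.contraInj 13 11) (.item (.contraInj 13 5) (.item (.force 27808 1220992 14 13 (.force 43532 3179556 15 5 (.force 73930 3215618 16 12 (.force 140357 1116293 17 11 (.force 272643 1081923 18 6 (.force 533137 1066257 19 14 (.force 1060905 4063233 20 19 RCert.leaf))))))) RCert.done)))))))) (.item (.contraInj 11 6) (.item (.contraInj 11 5) (.item (.contra 27808 1220992 11) RCert.done)))))))) (.item (.contra 49364 74036 7) (.item (.contraInj 7 9) RCert.done))))))))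 (.item (.contraInj 9 6) (.item (.contraInj 9 5) (.item (.contraInj 9 3) RCert.done)))))))

def rc4 : RCert := (.branch 9 1656 2294928 (.item (.contraInj 9 4) (.item (.force 1656 2294928 10 10 (.branch 7 1926 1926 (.item (.contraInj 7 1) (.item (.contraInj 7 2) (.item (.contraInj 7 9) (.item (.contra 49364 1184276 7) (.item (.force 1926 1926 8 8 (.branch 11 6246 491526 (.item (.contraInj 11 1) (.item (.contraInj 11 2) (.item (.contra 27808 1385984 11) (.item (.contraInj 11 5) (.item (.contraInj 11 6) (.item (.force 6246 491526 12 15 (.branch 13 27808 1385984 (.item (.contraInj 13 7) (.item (.contraInj 13 10) (.item (.force 27808 1385984 14 20 (.force 43532 2371716 15 12 (.force 73930 2236962 16 5 (.force 140357 140357 17 6 (.force 272643 272643 18 11 (.force 533137 533137 19 19 (.force 1060905 2220033 20 14 RCert.leaf))))))) (.item (.contraInj 13 5) (.item (.contraInj 13 11) (.item (.contra 43532 2371716 13) RCert.done)))))))) RCert.done)))))))) (.item (.contraInj 7 10) RCert.done)))))))) (.item (.contra 140357 140357 9) (.item (.contraInj 9 5) (.item (.contraInj 9 6) (.item (.contraInj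 9 3) RCert.done)))))))

def rc5 : RCert := (.branch 9 1656 2392848 (.item (.contraInj 9 4) (.item (.force 1656 2392848 10 9 (.branch 7 1926 1926 (.item (.contraInj 7 1) (.item (.contraInj 7 2) (.item (.contra 49364 789524 7) (.item (.contraInj 7 9) (.item (.contraInj 7 10) (.item (.force 1926 1926 8 7 (.branch 11 6246 491526 (.item (.contraInj 11 1) (.item (.contraInj 11 2) (.item (.contraInj 11 5) (.item (.contra 27808 706048 11) (.item (.force 6246 491526 12 16 (.branch 13 27808 706048 (.item (.contraInj 13 10) (.item (.contraInj 13 7) (.item (.force 27808 706048 14 19 (.force 43532 2246916 15 11 (.force 73930 2376770 16 6 (.force 140357 279077 17 5 (.force 272643 151683 18 12 (.force 533137 1066257 19 20 (.force 1060905 2220033 20 13 RCert.leaf))))))) (.item (.contraInj 13 5) (.item (.contraInj 13 11) (.item (.contra 43532 2246916 13) RCert.done)))))))) (.item (.contraInj 11 6) RCert.done)))))))) RCert.done)))))))) (.item (.contra 140357 279077 9) (.item (.contraInj 9 5) (.item (.contraInj 9 6) (.item (.contraInj 9 3) RCert.done)))))))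

def rc6 : RCert := (.item (.contraInj 9 4) (.item (.force 1656 2641968 10 12 (.branch 7 1926 6246 (.item (.contraInj 7 1) (.item (.contraInj 7 2) (.item (.contraInj 7 9) (.item (.contra 49364 789524 7) (.item (.force 1926 6246 8 6 (.branch 11 6246 1597446 (.item (.contraInj 11 1) (.item (.contraInj 11 2) (.item (.contra 27808 1366016 11) (.item (.contraInj 11 5) (.item (.contraInj 11 6) (.item (.force 6246 1597446 12 13 (.branch 13 27808 1366016 (.item (.contraInj 13 7) (.item (.contraInj 13 10) (.item (.contraInj 13 5) (.item (.force 27808 1366016 14 18 (.force 43532 3179556 15 10 (.force 73930 2656386 16 7 (.force 140357 561413 17 8 (.force 272643 1081923 18 9 (.force 533137 165937 19 17 (.force 1060905 2220033 20 16 RCert.leaf))))))) (.item (.contra 43532 3179556 13) (.item (.contraInj 13 11) RCert.done)))))))) RCert.done)))))))) (.item (.contraInj 7 10) RCert.done)))))))) (.item (.contra 140357 561413 9) (.item (.contraInj 9 5) (.item (.contraInj 9 6) (.item (.contraInj 9 3) RCert.done))))))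

def rc7 : RCert := (.item (.contraInj 9 4) (.item (.force 1656 3156048 10 11 (.branch 7 1926 6246 (.item (.contraInj 7 1) (.item (.contraInj 7 2) (.item (.contra 49364 1184276 7) (.item (.contraInj 7 9) (.item (.contraInj 7 10) (.item (.force 1926 6246 8 5 (.branch 11 6246 1597446 (.item (.contraInj 11 1) (.item (.contraInj 11 2) (.item (.contraInj 11 5) (.item (.contra 27808 735232 11) (.item (.force 6246 1597446 12 14 (.branch 13 27808 735232 (.item (.contraInj 13 10) (.item (.contraInj 13 7) (.item (.contraInj 13 5) (.item (.force 27808 735232 14 17 (.force 43532 2687556 15 9 (.force 73930 3215618 16 8 (.force 140357 1116293 17 7 (.force 272643 590883 18 10 (.force 533137 331857 19 18 (.force 1060905 2220033 20 15 RCert.leaf))))))) (.item (.contra 43532 2687556 13) (.item (.contraInj 13 11) RCert.done)))))))) (.item (.contraInj 11 6) RCert.done)))))))) RCert.done)))))))) (.item (.contra 140357 1116293 9) (.item (.contraInj 9 5) (.item (.contraInj 9 6) (.item (.contraInj 9 3) RCert.done))))))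

def rc8 : RCert := (.item (.branch 9 1656 2641968 (.item (.contraInj 9 4) (.item (.contraInj 9 6) (.item (.contraInj 9 5) (.item (.contra 140357 279077 9) (.item (.force 1656 2641968 10 14 (.branch 7 1926 1597446 (.item (.contraInj 7 1) (.item (.contraInj 7 2) (.item (.force 1926 1597446 8 20 (.branch 11 6246 6246 (.item (.contraInj 11 1) (.item (.contraInj 11 2) (.item (.contraInj 11 6) (.item (.force 6246 6246 12 11 (.branch 13 27808 29504 (.item (.contraInj 13 11) (.item (.contra 43532 2687556 13) (.item (.force 27808 29504 14 8 (.force 43532 2687556 15 16 (.force 73930 2236962 16 17 (.force 140357 279077 17 18 (.force 272643 1081923 18 15 (.force 533137 533137 19 7 (.force 1060905 2104833 20 10 RCert.leaf))))))) (.item (.contraInj 13 5) (.item (.contraInj 13 7) (.item (.contraInj 13 10) RCert.done)))))))) (.item (.contra 27808 29504 11) (.item (.contraInj 11 5) RCert.done)))))))) (.item (.contraInj 7 10) (.item (.contraInj 7 9) (.item (.contra 49364 74036 7) RCert.done)))))))) (.item (.contraInj 9 3) RCert.done))))))) (.item (.contraInj 6 5) (.item (.contra 6246 6246 6) (.item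 (.contra 6246 6246 6) (.item (.contraInj 6 3) RCert.done)))))

def rc9 : RCert := (.item (.branch 9 1656 3156048 (.item (.contraInj 9 4) (.item (.contraInj 9 6) (.item (.contraInj 9 5) (.item (.contra 140357 140357 9) (.item (.force 1656 3156048 10 13 (.branch 7 1926 1597446 (.item (.contraInj 7 1) (.item (.contraInj 7 2) (.item (.contraInj 7 10) (.item (.force 1926 1597446 8 19 (.branch 11 6246 6246 (.item (.contraInj 11 1) (.item (.contraInj 11 2) (.item (.force 6246 6246 12 12 (.branch 13 27808 27808 (.item (.contraInj 13 11) (.item (.contra 43532 3179556 13) (.item (.force 27808 27808 14 7 (.force 43532 3179556 15 15 (.force 73930 2376770 16 18 (.force 140357 140357 17 17 (.force 272643 590883 18 16 (.force 533137 1066257 19 8 (.force 1060905 2104833 20 9 RCert.leaf))))))) (.item (.contraInj 13 5) (.item (.contraInj 13 10) (.item (.contraInj 13 7) RCert.done)))))))) (.item (.contraInj 11 6) (.item (.contraInj 11 5) (.item (.contra 27808 27808 11) RCert.done)))))))) (.item (.contra 49364 49364 7) (.item (.contraInj 7 9) RCert.done)))))))) (.item (.contraInj 9 3) RCert.done)))))))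 (.item (.contraInj 6 5) (.item (.contra 6246 6246 6) (.item (.contra 6246 6246 6) (.item (.contraInj 6 3) RCert.done)))))

def rc10 : RCert := (.branch 9 1656 2294928 (.item (.contraInj 9 4) (.item (.contraInj 9 6) (.item (.contraInj 9 5) (.item (.contra 140357 1116293 9) (.item (.force 1656 2294928 10 16 (.branch 7 1926 491526 (.item (.contraInj 7 1) (.item (.contraInj 7 2) (.item (.force 1926 491526 8 18 (.branch 11 6246 1926 (.item (.contraInj 11 1) (.item (.contraInj 11 2) (.item (.contraInj 11 6) (.item (.force 6246 1926 12 9 (.branch 13 27808 101696 (.item (.contra 43532 2246916 13) (.item (.contraInj 13 11) (.item (.contraInj 13 5) (.item (.force 27808 101696 14 6 (.force 43532 2246916 15 14 (.force 73930 2656386 16 19 (.force 140357 1116293 17 20 (.force 272643 272643 18 13 (.force 533137 165937 19 5 (.force 1060905 2104833 20 12 RCert.leaf))))))) (.item (.contraInj 13 7) (.item (.contraInj 13 10) RCert.done)))))))) (.item (.contra 27808 101696 11) (.item (.contraInj 11 5) RCert.done)))))))) (.item (.contraInj 7 10) (.item (.contraInj 7 9) (.item (.contra 49364 49364 7) RCert.done))))))))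 (.item (.contraInj 9 3) RCert.done)))))))

def rc11 : RCert := (.branch 9 1656 2392848 (.item (.contraInj 9 4) (.item (.contraInj 9 6) (.item (.contraInj 9 5) (.item (.contra 140357 561413 9) (.item (.force 1656 2392848 10 15 (.branch 7 1926 491526 (.item (.contraInj 7 1) (.item (.contraInj 7 2) (.item (.contraInj 7 10) (.item (.force 1926 491526 8 17 (.branch 11 6246 1926 (.item (.contraInj 11 1) (.item (.contraInj 11 2) (.item (.force 6246 1926 12 10 (.branch 13 27808 103072 (.item (.contra 43532 2371716 13) (.item (.contraInj 13 11) (.item (.contraInj 13 5) (.item (.force 27808 103072 14 5 (.force 43532 2371716 15 13 (.force 73930 3215618 16 20 (.force 140357 561413 17 19 (.force 272643 151683 18 14 (.force 533137 331857 19 6 (.force 1060905 2104833 20 11 RCert.leaf))))))) (.item (.contraInj 13 10) (.item (.contraInj 13 7) RCert.done)))))))) (.item (.contraInj 11 6) (.item (.contraInj 11 5) (.item (.contra 27808 103072 11) RCert.done)))))))) (.item (.contra 49364 74036 7) (.item (.contraInj 7 9) RCert.done)))))))) (.item (.contraInj 9 3) RCert.done)))))))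

def rc12 : RCert := (.branch 9 1656 2392848 (.item (.contraInj 9 4) (.item (.contraInj 9 5) (.item (.contraInj 9 6) (.item (.force 1656 2392848 10 18 (.branch 7 1926 491526 (.item (.contraInj 7 1) (.item (.contraInj 7 2) (.item (.contraInj 7 9) (.item (.contra 49364 1184276 7) (.item (.force 1926 491526 8 16 (.branch 11 6246 1926 (.item (.contraInj 11 1) (.item (.contraInj 11 2) (.item (.contra 27808 398624 11) (.item (.contraInj 11 5) (.item (.contraInj 11 6) (.item (.force 6246 1926 12 7 (.branch 13 27808 398624 (.item (.force 27808 398624 14 12 (.force 43532 3179556 15 20 (.force 73930 2236962 16 13 (.force 140357 279077 17 14 (.force 272643 590883 18 19 (.force 533137 165937 19 11 (.force 1060905 2097633 20 6 RCert.leaf))))))) (.item (.contraInj 13 5) (.item (.contraInj 13 11) (.item (.contra 43532 3179556 13) (.item (.contraInj 13 7) (.item (.contraInj 13 10) RCert.done)))))))) RCert.done)))))))) (.item (.contraInj 7 10) RCert.done)))))))) (.item (.contra 140357 279077 9) (.item (.contraInj 9 3) RCert.done)))))))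

def rc13 : RCert := (.branch 9 1656 2294928 (.item (.contraInj 9 4) (.item (.contraInj 9 5) (.item (.contraInj 9 6) (.item (.force 1656 2294928 10 17 (.branch 7 1926 491526 (.item (.contraInj 7 1) (.item (.contraInj 7 2) (.item (.contra 49364 789524 7) (.item (.contraInj 7 9) (.item (.contraInj 7 10) (.item (.force 1926 491526 8 15 (.branch 11 6246 1926 (.item (.contraInj 11 1) (.item (.contraInj 11 2) (.item (.contraInj 11 5) (.item (.contra 27808 395968 11) (.item (.force 6246 1926 12 8 (.branch 13 27808 395968 (.item (.force 27808 395968 14 11 (.force 43532 2687556 15 19 (.force 73930 2376770 16 14 (.force 140357 140357 17 13 (.force 272643 1081923 18 20 (.force 533137 331857 19 12 (.force 1060905 2097633 20 5 RCert.leaf))))))) (.item (.contraInj 13 5) (.item (.contraInj 13 11) (.item (.contra 43532 2687556 13) (.item (.contraInj 13 10) (.item (.contraInj 13 7) RCert.done)))))))) (.item (.contraInj 11 6) RCert.done)))))))) RCert.done)))))))) (.item (.contra 140357 140357 9) (.item (.contraInj 9 3) RCert.done)))))))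

def rc14 : RCert := (.item (.contraInj 9 4) (.item (.contraInj 9 5) (.item (.contraInj 9 6) (.item (.force 1656 3156048 10 20 (.branch 7 1926 1597446 (.item (.contraInj 7 1) (.item (.contraInj 7 2) (.item (.contraInj 7 9) (.item (.contra 49364 789524 7) (.item (.force 1926 1597446 8 14 (.branch 11 6246 6246 (.item (.contraInj 11 1) (.item (.contraInj 11 2) (.item (.contra 27808 1578176 11) (.item (.contraInj 11 5) (.item (.contraInj 11 6) (.item (.force 6246 6246 12 5 (.branch 13 27808 1578176 (.item (.contraInj 13 5) (.item (.force 27808 1578176 14 10 (.force 43532 2371716 15 18 (.force 73930 2656386 16 15 (.force 140357 1116293 17 16 (.force 272643 151683 18 17 (.force 533137 533137 19 9 (.force 1060905 2097633 20 8 RCert.leaf))))))) (.item (.contra 43532 2371716 13) (.item (.contraInj 13 11) (.item (.contraInj 13 7) (.item (.contraInj 13 10) RCert.done)))))))) RCert.done)))))))) (.item (.contraInj 7 10) RCert.done)))))))) (.item (.contra 140357 1116293 9) (.item (.contraInj 9 3) RCert.done))))))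

def rc15 : RCert := (.item (.contraInj 9 4) (.item (.contraInj 9 5) (.item (.contraInj 9 6) (.item (.force 1656 2641968 10 19 (.branch 7 1926 1597446 (.item (.contraInj 7 1) (.item (.contraInj 7 2) (.item (.contra 49364 1184276 7) (.item (.contraInj 7 9) (.item (.contraInj 7 10) (.item (.force 1926 1597446 8 13 (.branch 11 6246 6246 (.item (.contraInj 11 1) (.item (.contraInj 11 2) (.item (.contraInj 11 5) (.item (.contra 27808 1575712 11) (.item (.force 6246 6246 12 6 (.branch 13 27808 1575712 (.item (.contraInj 13 5) (.item (.force 27808 1575712 14 9 (.force 43532 2246916 15 17 (.force 73930 3215618 16 16 (.force 140357 561413 17 15 (.force 272643 272643 18 18 (.force 533137 1066257 19 10 (.force 1060905 2097633 20 7 RCert.leaf))))))) (.item (.contra 43532 2246916 13) (.item (.contraInj 13 11) (.item (.contraInj 13 10) (.item (.contraInj 13 7) RCert.done)))))))) (.item (.contraInj 11 6) RCert.done)))))))) RCert.done)))))))) (.item (.contra 140357 561413 9) (.item (.contraInj 9 3) RCert.done))))))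

def rc16 : RCert := (.branch 9 1656 3162760 (.item (.contraInj 9 4) (.item (.force 1656 3162760 10 9 (.branch 7 1926 1926 (.item (.contraInj 7 1) (.item (.contraInj 7 2) (.item (.contraInj 7 9) (.item (.contra 49364 87052 7) (.item (.contraInj 7 10) (.item (.force 1926 1926 8 8 (.branch 11 6246 1597446 (.item (.contraInj 11 1) (.item (.contraInj 11 2) (.item (.force 6246 1597446 12 19 (.branch 13 27808 1385984 (.item (.contraInj 13 10) (.item (.contraInj 13 7) (.item (.contraInj 13 11) (.item (.contra 43532 2371716 13) (.item (.force 27808 1385984 14 16 (.force 43532 2371716 15 12 (.force 73930 2376770 16 6 (.force 140357 279077 17 5 (.force 272643 272643 18 11 (.force 533137 296073 19 15 (.force 1060905 4063233 20 17 RCert.leaf))))))) (.item (.contraInj 13 5) RCert.done)))))))) (.item (.contraInj 11 6) (.item (.contra 27808 1385984 11) (.item (.contraInj 11 5) RCert.done)))))))) RCert.done)))))))) (.item (.contra 140357 279077 9) (.item (.contraInj 9 6) (.item (.contraInj 9 5) (.item (.contraInj 9 3) RCert.done)))))))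

def rc17 : RCert := (.branch 9 1656 2630920 (.item (.contraInj 9 4) (.item (.force 1656 2630920 10 10 (.branch 7 1926 1926 (.item (.contraInj 7 1) (.item (.contraInj 7 2) (.item (.contra 49364 43532 7) (.item (.contraInj 7 9) (.item (.force 1926 1926 8 7 (.branch 11 6246 1597446 (.item (.contraInj 11 1) (.item (.contraInj 11 2) (.item (.contraInj 11 6) (.item (.force 6246 1597446 12 20 (.branch 13 27808 706048 (.item (.contraInj 13 7) (.item (.contraInj 13 10) (.item (.contraInj 13 11) (.item (.contra 43532 2246916 13) (.item (.force 27808 706048 14 15 (.force 43532 2246916 15 11 (.force 73930 2236962 16 5 (.force 140357 140357 17 6 (.force 272643 151683 18 12 (.force 533137 197385 19 16 (.force 1060905 4063233 20 18 RCert.leaf))))))) (.item (.contraInj 13 5) RCert.done)))))))) (.item (.contraInj 11 5) (.item (.contra 27808 706048 11) RCert.done)))))))) (.item (.contraInj 7 10) RCert.done)))))))) (.item (.contra 140357 140357 9) (.item (.contraInj 9 6) (.item (.contraInj 9 5) (.item (.contraInj 9 3) RCert.done)))))))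

def rc18 : RCert := (.item (.contraInj 9 4) (.item (.force 1656 2426920 10 11 (.branch 7 1926 6246 (.item (.contraInj 7 1) (.item (.contraInj 7 2) (.item (.contraInj 7 9) (.item (.contra 49364 87052 7) (.item (.contraInj 7 10) (.item (.force 1926 6246 8 6 (.branch 11 6246 491526 (.item (.contraInj 11 1) (.item (.contraInj 11 2) (.item (.force 6246 491526 12 17 (.branch 13 27808 1366016 (.item (.contraInj 13 10) (.item (.contraInj 13 7) (.item (.contra 43532 3179556 13) (.item (.contraInj 13 11) (.item (.contraInj 13 5) (.item (.force 27808 1366016 14 14 (.force 43532 3179556 15 10 (.force 73930 3215618 16 8 (.force 140357 1116293 17 7 (.force 272643 1081923 18 9 (.force 533137 1060905 19 13 (.force 1060905 4063233 20 19 RCert.leaf))))))) RCert.done)))))))) (.item (.contraInj 11 6) (.item (.contra 27808 1366016 11) (.item (.contraInj 11 5) RCert.done)))))))) RCert.done)))))))) (.item (.contra 140357 1116293 9) (.item (.contraInj 9 6) (.item (.contraInj 9 5) (.item (.contraInj 9 3) RCert.done))))))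

def rc19 : RCert := (.item (.contraInj 9 4) (.item (.force 1656 2265160 10 12 (.branch 7 1926 6246 (.item (.contraInj 7 1) (.item (.contraInj 7 2) (.item (.contra 49364 43532 7) (.item (.contraInj 7 9) (.item (.force 1926 6246 8 5 (.branch 11 6246 491526 (.item (.contraInj 11 1) (.item (.contraInj 11 2) (.item (.contraInj 11 6) (.item (.force 6246 491526 12 18 (.branch 13 27808 735232 (.item (.contraInj 13 7) (.item (.contraInj 13 10) (.item (.contra 43532 2687556 13) (.item (.contraInj 13 11) (.item (.contraInj 13 5) (.item (.force 27808 735232 14 13 (.force 43532 2687556 15 9 (.force 73930 2656386 16 7 (.force 140357 561413 17 8 (.force 272643 590883 18 10 (.force 533137 542793 19 14 (.force 1060905 4063233 20 20 RCert.leaf))))))) RCert.done)))))))) (.item (.contraInj 11 5) (.item (.contra 27808 735232 11) RCert.done)))))))) (.item (.contraInj 7 10) RCert.done)))))))) (.item (.contra 140357 561413 9) (.item (.contraInj 9 6) (.item (.contraInj 9 5) (.item (.contraInj 9 3) RCert.done))))))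

def rc20 : RCert := (.item (.branch 9 1656 2426920 (.item (.contraInj 9 4) (.item (.contra 140357 279077 9) (.item (.force 1656 2426920 10 5 (.branch 7 1926 6246 (.item (.contraInj 7 1) (.item (.contraInj 7 2) (.item (.contraInj 7 10) (.item (.force 1926 6246 8 12 (.branch 11 6246 491526 (.item (.contraInj 11 1) (.item (.contraInj 11 2) (.item (.contra 27808 1261664 11) (.item (.contraInj 11 5) (.item (.force 6246 491526 12 15 (.branch 13 27808 1261664 (.item (.contraInj 13 10) (.item (.contraInj 13 7) (.item (.force 27808 1261664 14 20 (.force 43532 2246916 15 8 (.force 73930 2376770 16 10 (.force 140357 279077 17 9 (.force 272643 151683 18 7 (.force 533137 542793 19 19 (.force 1060905 2220033 20 13 RCert.leaf))))))) (.item (.contraInj 13 5) (.item (.contraInj 13 11) (.item (.contra 43532 2246916 13) RCert.done)))))))) (.item (.contraInj 11 6) RCert.done)))))))) (.item (.contraInj 7 9) (.item (.contra 49364 1311052 7) RCert.done)))))))) (.item (.contraInj 9 5) (.item (.contraInj 9 6) (.item (.contraInj 9 3) RCert.done))))))) (.item (.contraInj 6 3) RCert.done))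

def rc21 : RCert := (.item (.branch 9 1656 2265160 (.item (.contraInj 9 4) (.item (.contra 140357 140357 9) (.item (.force 1656 2265160 10 6 (.branch 7 1926 6246 (.item (.contraInj 7 1) (.item (.contraInj 7 2) (.item (.force 1926 6246 8 11 (.branch 11 6246 491526 (.item (.contraInj 11 1) (.item (.contraInj 11 2) (.item (.contraInj 11 5) (.item (.contra 27808 827488 11) (.item (.contraInj 11 6) (.item (.force 6246 491526 12 16 (.branch 13 27808 827488 (.item (.contraInj 13 7) (.item (.contraInj 13 10) (.item (.force 27808 827488 14 19 (.force 43532 2371716 15 7 (.force 73930 2236962 16 9 (.force 140357 140357 17 10 (.force 272643 272643 18 8 (.force 533137 1060905 19 20 (.force 1060905 2220033 20 14 RCert.leaf))))))) (.item (.contraInj 13 5) (.item (.contraInj 13 11) (.item (.contra 43532 2371716 13) RCert.done)))))))) RCert.done)))))))) (.item (.contraInj 7 10) (.item (.contra 49364 655532 7) (.item (.contraInj 7 9) RCert.done)))))))) (.item (.contraInj 9 5) (.item (.contraInj 9 6) (.item (.contraInj 9 3) RCert.done))))))) (.item (.contraInj 6 3) RCert.done))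

def rc22 : RCert := (.branch 9 1656 3162760 (.item (.contraInj 9 4) (.item (.contra 140357 1116293 9) (.item (.force 1656 3162760 10 7 (.branch 7 1926 1926 (.item (.contraInj 7 1) (.item (.contraInj 7 2) (.item (.contraInj 7 10) (.item (.force 1926 1926 8 10 (.branch 11 6246 1597446 (.item (.contraInj 11 1) (.item (.contraInj 11 2) (.item (.contra 27808 868736 11) (.item (.contraInj 11 5) (.item (.force 6246 1597446 12 13 (.branch 13 27808 868736 (.item (.contraInj 13 10) (.item (.contraInj 13 7) (.item (.contraInj 13 5) (.item (.force 27808 868736 14 18 (.force 43532 2687556 15 6 (.force 73930 3215618 16 12 (.force 140357 1116293 17 11 (.force 272643 590883 18 5 (.force 533137 197385 19 17 (.force 1060905 2220033 20 15 RCert.leaf))))))) (.item (.contra 43532 2687556 13) (.item (.contraInj 13 11) RCert.done)))))))) (.item (.contraInj 11 6) RCert.done)))))))) (.item (.contraInj 7 9) (.item (.contra 49364 1311052 7) RCert.done)))))))) (.item (.contraInj 9 5) (.item (.contraInj 9 6) (.item (.contraInj 9 3) RCert.done)))))))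

def rc23 : RCert := (.branch 9 1656 2630920 (.item (.contraInj 9 4) (.item (.contra 140357 561413 9) (.item (.force 1656 2630920 10 8 (.branch 7 1926 1926 (.item (.contraInj 7 1) (.item (.contraInj 7 2) (.item (.force 1926 1926 8 9 (.branch 11 6246 1597446 (.item (.contraInj 11 1) (.item (.contraInj 11 2) (.item (.contraInj 11 5) (.item (.contra 27808 1220992 11) (.item (.contraInj 11 6) (.item (.force 6246 1597446 12 14 (.branch 13 27808 1220992 (.item (.contraInj 13 7) (.item (.contraInj 13 10) (.item (.contraInj 13 5) (.item (.force 27808 1220992 14 17 (.force 43532 3179556 15 5 (.force 73930 2656386 16 11 (.force 140357 561413 17 12 (.force 272643 1081923 18 6 (.force 533137 296073 19 18 (.force 1060905 2220033 20 16 RCert.leaf))))))) (.item (.contra 43532 3179556 13) (.item (.contraInj 13 11) RCert.done)))))))) RCert.done)))))))) (.item (.contraInj 7 10) (.item (.contra 49364 655532 7) (.item (.contraInj 7 9) RCert.done)))))))) (.item (.contraInj 9 5) (.item (.contraInj 9 6) (.item (.contraInj 9 3) RCert.done)))))))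

def rc24 : RCert := (.branch 9 1656 2265160 (.item (.contraInj 9 4) (.item (.contraInj 9 6) (.item (.contraInj 9 5) (.item (.force 1656 2265160 10 17 (.branch 7 1926 491526 (.item (.contraInj 7 1) (.item (.contraInj 7 2) (.item (.contraInj 7 9) (.item (.contra 49364 1311052 7) (.item (.contraInj 7 10) (.item (.force 1926 491526 8 16 (.branch 11 6246 6246 (.item (.contraInj 11 1) (.item (.contraInj 11 2) (.item (.force 6246 6246 12 11 (.branch 13 27808 398624 (.item (.contraInj 13 11) (.item (.contra 43532 3179556 13) (.item (.force 27808 398624 14 8 (.force 43532 3179556 15 20 (.force 73930 2376770 16 14 (.force 140357 140357 17 13 (.force 272643 590883 18 19 (.force 533137 296073 19 7 (.force 1060905 2104833 20 9 RCert.leaf))))))) (.item (.contraInj 13 5) (.item (.contraInj 13 10) (.item (.contraInj 13 7) RCert.done)))))))) (.item (.contraInj 11 6) (.item (.contra 27808 398624 11) (.item (.contraInj 11 5) RCert.done)))))))) RCert.done)))))))) (.item (.contra 140357 140357 9) (.item (.contraInj 9 3) RCert.done)))))))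

def rc25 : RCert := (.branch 9 1656 2426920 (.item (.contraInj 9 4) (.item (.contraInj 9 6) (.item (.contraInj 9 5) (.item (.force 1656 2426920 10 18 (.branch 7 1926 491526 (.item (.contraInj 7 1) (.item (.contraInj 7 2) (.item (.contra 49364 655532 7) (.item (.contraInj 7 9) (.item (.force 1926 491526 8 15 (.branch 11 6246 6246 (.item (.contraInj 11 1) (.item (.contraInj 11 2) (.item (.contraInj 11 6) (.item (.force 6246 6246 12 12 (.branch 13 27808 395968 (.item (.contraInj 13 11) (.item (.contra 43532 2687556 13) (.item (.force 27808 395968 14 7 (.force 43532 2687556 15 19 (.force 73930 2236962 16 13 (.force 140357 279077 17 14 (.force 272643 1081923 18 20 (.force 533137 197385 19 8 (.force 1060905 2104833 20 10 RCert.leaf))))))) (.item (.contraInj 13 5) (.item (.contraInj 13 7) (.item (.contraInj 13 10) RCert.done)))))))) (.item (.contraInj 11 5) (.item (.contra 27808 395968 11) RCert.done)))))))) (.item (.contraInj 7 10) RCert.done)))))))) (.item (.contra 140357 279077 9) (.item (.contraInj 9 3) RCert.done)))))))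

def rc26 : RCert := (.item (.contraInj 9 4) (.item (.contraInj 9 6) (.item (.contraInj 9 5) (.item (.force 1656 2630920 10 19 (.branch 7 1926 1597446 (.item (.contraInj 7 1) (.item (.contraInj 7 2) (.item (.contraInj 7 9) (.item (.contra 49364 1311052 7) (.item (.contraInj 7 10) (.item (.force 1926 1597446 8 14 (.branch 11 6246 1926 (.item (.contraInj 11 1) (.item (.contraInj 11 2) (.item (.force 6246 1926 12 9 (.branch 13 27808 1578176 (.item (.contra 43532 2371716 13) (.item (.contraInj 13 11) (.item (.contraInj 13 5) (.item (.force 27808 1578176 14 6 (.force 43532 2371716 15 18 (.force 73930 3215618 16 16 (.force 140357 561413 17 15 (.force 272643 151683 18 17 (.force 533137 1060905 19 5 (.force 1060905 2104833 20 11 RCert.leaf))))))) (.item (.contraInj 13 10) (.item (.contraInj 13 7) RCert.done)))))))) (.item (.contraInj 11 6) (.item (.contra 27808 1578176 11) (.item (.contraInj 11 5) RCert.done)))))))) RCert.done)))))))) (.item (.contra 140357 561413 9) (.item (.contraInj 9 3) RCert.done))))))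

def rc27 : RCert := (.item (.contraInj 9 4) (.item (.contraInj 9 6) (.item (.contraInj 9 5) (.item (.force 1656 3162760 10 20 (.branch 7 1926 1597446 (.item (.contraInj 7 1) (.item (.contraInj 7 2) (.item (.contra 49364 655532 7) (.item (.contraInj 7 9) (.item (.force 1926 1597446 8 13 (.branch 11 6246 1926 (.item (.contraInj 11 1) (.item (.contraInj 11 2) (.item (.contraInj 11 6) (.item (.force 6246 1926 12 10 (.branch 13 27808 1575712 (.item (.contra 43532 2246916 13) (.item (.contraInj 13 11) (.item (.contraInj 13 5) (.item (.force 27808 1575712 14 5 (.force 43532 2246916 15 17 (.force 73930 2656386 16 15 (.force 140357 1116293 17 16 (.force 272643 272643 18 18 (.force 533137 542793 19 6 (.force 1060905 2104833 20 12 RCert.leaf))))))) (.item (.contraInj 13 7) (.item (.contraInj 13 10) RCert.done)))))))) (.item (.contraInj 11 5) (.item (.contra 27808 1575712 11) RCert.done)))))))) (.item (.contraInj 7 10) RCert.done)))))))) (.item (.contra 140357 1116293 9) (.item (.contraInj 9 3) RCert.done))))))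

def rc28 : RCert := (.item (.branch 9 1656 2630920 (.item (.contraInj 9 4) (.item (.contraInj 9 5) (.item (.contraInj 9 6) (.item (.contra 140357 140357 9) (.item (.force 1656 2630920 10 13 (.branch 7 1926 1597446 (.item (.contraInj 7 1) (.item (.contraInj 7 2) (.item (.contraInj 7 10) (.item (.force 1926 1597446 8 20 (.branch 11 6246 1926 (.item (.contraInj 11 1) (.item (.contraInj 11 2) (.item (.contra 27808 29504 11) (.item (.contraInj 11 5) (.item (.force 6246 1926 12 7 (.branch 13 27808 29504 (.item (.force 27808 29504 14 12 (.force 43532 2687556 15 16 (.force 73930 2376770 16 18 (.force 140357 140357 17 17 (.force 272643 1081923 18 15 (.force 533137 542793 19 11 (.force 1060905 2097633 20 5 RCert.leaf))))))) (.item (.contraInj 13 5) (.item (.contraInj 13 11) (.item (.contra 43532 2687556 13) (.item (.contraInj 13 10) (.item (.contraInj 13 7) RCert.done)))))))) (.item (.contraInj 11 6) RCert.done)))))))) (.item (.contraInj 7 9) (.item (.contra 49364 87052 7) RCert.done)))))))) (.item (.contraInj 9 3) RCert.done))))))) (.item (.contra 6246 1926 6) (.item (.contra 6246 1926 6)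 (.item (.contraInj 6 3) RCert.done))))

def rc29 : RCert := (.item (.branch 9 1656 3162760 (.item (.contraInj 9 4) (.item (.contraInj 9 5) (.item (.contraInj 9 6) (.item (.contra 140357 279077 9) (.item (.force 1656 3162760 10 14 (.branch 7 1926 1597446 (.item (.contraInj 7 1) (.item (.contraInj 7 2) (.item (.force 1926 1597446 8 19 (.branch 11 6246 1926 (.item (.contraInj 11 1) (.item (.contraInj 11 2) (.item (.contraInj 11 5) (.item (.contra 27808 27808 11) (.item (.contraInj 11 6) (.item (.force 6246 1926 12 8 (.branch 13 27808 27808 (.item (.force 27808 27808 14 11 (.force 43532 3179556 15 15 (.force 73930 2236962 16 17 (.force 140357 279077 17 18 (.force 272643 590883 18 16 (.force 533137 1060905 19 12 (.force 1060905 2097633 20 6 RCert.leaf))))))) (.item (.contraInj 13 5) (.item (.contraInj 13 11) (.item (.contra 43532 3179556 13) (.item (.contraInj 13 7) (.item (.contraInj 13 10) RCert.done)))))))) RCert.done)))))))) (.item (.contraInj 7 10) (.item (.contra 49364 43532 7) (.item (.contraInj 7 9) RCert.done)))))))) (.item (.contraInj 9 3) RCert.done))))))) (.item (.contra 6246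 1926 6) (.item (.contra 6246 1926 6) (.item (.contraInj 6 3) RCert.done))))

def rc30 : RCert := (.branch 9 1656 2265160 (.item (.contraInj 9 4) (.item (.contraInj 9 5) (.item (.contraInj 9 6) (.item (.contra 140357 561413 9) (.item (.force 1656 2265160 10 15 (.branch 7 1926 491526 (.item (.contraInj 7 1) (.item (.contraInj 7 2) (.item (.contraInj 7 10) (.item (.force 1926 491526 8 18 (.branch 11 6246 6246 (.item (.contraInj 11 1) (.item (.contraInj 11 2) (.item (.contra 27808 101696 11) (.item (.contraInj 11 5) (.item (.force 6246 6246 12 5 (.branch 13 27808 101696 (.item (.contraInj 13 5) (.item (.force 27808 101696 14 10 (.force 43532 2246916 15 14 (.force 73930 3215618 16 20 (.force 140357 561413 17 19 (.force 272643 272643 18 13 (.force 533137 197385 19 9 (.force 1060905 2097633 20 7 RCert.leaf))))))) (.item (.contra 43532 2246916 13) (.item (.contraInj 13 11) (.item (.contraInj 13 10) (.item (.contraInj 13 7) RCert.done)))))))) (.item (.contraInj 11 6) RCert.done)))))))) (.item (.contraInj 7 9) (.item (.contra 49364 87052 7) RCert.done)))))))) (.item (.contraInj 9 3) RCert.done)))))))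

def rc31 : RCert := (.branch 9 1656 2426920 (.item (.contraInj 9 4) (.item (.contraInj 9 5) (.item (.contraInj 9 6) (.item (.contra 140357 1116293 9) (.item (.force 1656 2426920 10 16 (.branch 7 1926 491526 (.item (.contraInj 7 1) (.item (.contraInj 7 2) (.item (.force 1926 491526 8 17 (.branch 11 6246 6246 (.item (.contraInj 11 1) (.item (.contraInj 11 2) (.item (.contraInj 11 5) (.item (.contra 27808 103072 11) (.item (.contraInj 11 6) (.item (.force 6246 6246 12 6 (.branch 13 27808 103072 (.item (.contraInj 13 5) (.item (.force 27808 103072 14 9 (.force 43532 2371716 15 13 (.force 73930 2656386 16 19 (.force 140357 1116293 17 20 (.force 272643 151683 18 14 (.force 533137 296073 19 10 (.force 1060905 2097633 20 8 RCert.leaf))))))) (.item (.contra 43532 2371716 13) (.item (.contraInj 13 11) (.item (.contraInj 13 7) (.item (.contraInj 13 10) RCert.done)))))))) RCert.done)))))))) (.item (.contraInj 7 10) (.item (.contra 49364 43532 7) (.item (.contraInj 7 9) RCert.done)))))))) (.item (.contraInj 9 3) RCert.done)))))))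

def rc32 : RCert := (.force 2097183 2097183 21 4 (.branch 5 0 0 (.item (.contraInj 5 0) (.item (.contraInj 5 1) (.item (.contraInj 5 2) (.item (.contraInj 5 4) (.item (.contraInj 5 21) (.item (.branch 6 1656 2426920 (.item (.contraInj 6 4) (.item (.contraInj 6 5) (.item rc31 (.item (.contra 6246 6246 6) (.item (.contra 6246 6246 6) (.item (.contraInj 6 3) RCert.done))))))) (.item (.branch 6 1656 2265160 (.item (.contraInj 6 4) (.item (.contraInj 6 5) (.item rc30 (.item (.contra 6246 6246 6) (.item (.contra 6246 6246 6) (.item (.contraInj 6 3) RCert.done))))))) (.item (.branch 6 1656 3162760 (.item (.contraInj 6 4) (.item (.contraInj 6 5) rc29))) (.item (.branch 6 1656 2630920 (.item (.contraInj 6 4) (.item (.contraInj 6 5) rc28))) (.item (.branch 6 1656 3162760 (.item (.contraInj 6 4) (.item (.branch 9 1656 3162760 rc27) (.item (.contraInj 6 5) (.item (.contra 6246 1926 6) (.item (.contra 6246 1926 6) (.item (.contraInj 6 3) RCert.done))))))) (.item (.branch 6 1656 2630920 (.item (.contraInj 6 4) (.item (.branch 9 1656 2630920 rc26) (.item (.contraInj 6 5) (.item (.contra 6246 1926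 6) (.item (.contra 6246 1926 6) (.item (.contraInj 6 3) RCert.done))))))) (.item (.branch 6 1656 2426920 (.item (.contraInj 6 4) (.item rc25 (.item (.contraInj 6 5) (.item (.contra 6246 6246 6) (.item (.contra 6246 6246 6) (.item (.contraInj 6 3) RCert.done))))))) (.item (.branch 6 1656 2265160 (.item (.contraInj 6 4) (.item rc24 (.item (.contraInj 6 5) (.item (.contra 6246 6246 6) (.item (.contra 6246 6246 6) (.item (.contraInj 6 3) RCert.done))))))) (.item (.branch 6 1656 2630920 (.item (.contraInj 6 4) (.item (.contra 6246 1597446 6) (.item (.contra 6246 1597446 6) (.item (.contraInj 6 5) (.item rc23 (.item (.contraInj 6 3) RCert.done))))))) (.item (.branch 6 1656 3162760 (.item (.contraInj 6 4) (.item (.contra 6246 1597446 6) (.item (.contra 6246 1597446 6) (.item (.contraInj 6 5) (.item rc22 (.item (.contraInj 6 3) RCert.done))))))) (.item (.branch 6 1656 2265160 (.item (.contraInj 6 4) (.item (.contra 6246 491526 6) (.item (.contra 6246 491526 6) (.item (.contraInj 6 5) rc21))))) (.item (.branch 6 1656 2426920 (.item (.contraInj 6 4) (.item (.contra 6246 491526 6) (.item (.contra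 6246 491526 6) (.item (.contraInj 6 5) rc20))))) (.item (.branch 6 1656 2265160 (.item (.contraInj 6 4) (.item (.contra 6246 491526 6) (.item (.contra 6246 491526 6) (.item (.branch 9 1656 2265160 rc19) (.item (.contraInj 6 5) (.item (.contraInj 6 3) RCert.done))))))) (.item (.branch 6 1656 2426920 (.item (.contraInj 6 4) (.item (.contra 6246 491526 6) (.item (.contra 6246 491526 6) (.item (.branch 9 1656 2426920 rc18) (.item (.contraInj 6 5) (.item (.contraInj 6 3) RCert.done))))))) (.item (.branch 6 1656 2630920 (.item (.contraInj 6 4) (.item (.contra 6246 1597446 6) (.item (.contra 6246 1597446 6) (.item rc17 (.item (.contraInj 6 5) (.item (.contraInj 6 3) RCert.done))))))) (.item (.branch 6 1656 3162760 (.item (.contraInj 6 4) (.item (.contra 6246 1597446 6) (.item (.contra 6246 1597446 6) (.item rc16 (.item (.contraInj 6 5) (.item (.contraInj 6 3) RCert.done))))))) (.item (.contraInj 5 3) RCert.done))))))))))))))))))))))))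

def rc33 : RCert := (.item rc32 (.item (.force 2097183 2097183 21 3 (.branch 5 0 0 (.item (.contraInj 5 0) (.item (.contraInj 5 1) (.item (.contraInj 5 2) (.item (.contraInj 5 21) (.item (.contraInj 5 4) (.item (.branch 6 1656 2641968 (.item (.contraInj 6 4) (.item (.contraInj 6 5) (.item (.branch 9 1656 2641968 rc15) (.item (.contra 6246 6246 6) (.item (.contra 6246 6246 6) (.item (.contraInj 6 3) RCert.done))))))) (.item (.branch 6 1656 3156048 (.item (.contraInj 6 4) (.item (.contraInj 6 5) (.item (.branch 9 1656 3156048 rc14) (.item (.contra 6246 6246 6) (.item (.contra 6246 6246 6) (.item (.contraInj 6 3) RCert.done))))))) (.item (.branch 6 1656 2294928 (.item (.contraInj 6 4) (.item (.contraInj 6 5) (.item rc13 (.item (.contra 6246 1926 6) (.item (.contra 6246 1926 6) (.item (.contraInj 6 3) RCert.done))))))) (.item (.branch 6 1656 2392848 (.item (.contraInj 6 4) (.item (.contraInj 6 5) (.item rc12 (.item (.contra 6246 1926 6) (.item (.contra 6246 1926 6) (.item (.contraInj 6 3) RCert.done))))))) (.item (.branch 6 1656 2392848 (.item (.contraInj 6 4) (.item rc11 (.item (.contraInj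 6 5) (.item (.contra 6246 1926 6) (.item (.contra 6246 1926 6) (.item (.contraInj 6 3) RCert.done))))))) (.item (.branch 6 1656 2294928 (.item (.contraInj 6 4) (.item rc10 (.item (.contraInj 6 5) (.item (.contra 6246 1926 6) (.item (.contra 6246 1926 6) (.item (.contraInj 6 3) RCert.done))))))) (.item (.branch 6 1656 3156048 (.item (.contraInj 6 4) rc9)) (.item (.branch 6 1656 2641968 (.item (.contraInj 6 4) rc8)) (.item (.branch 6 1656 3156048 (.item (.contraInj 6 4) (.item (.contra 6246 1597446 6) (.item (.contra 6246 1597446 6) (.item (.contraInj 6 5) (.item (.branch 9 1656 3156048 rc7) (.item (.contraInj 6 3) RCert.done))))))) (.item (.branch 6 1656 2641968 (.item (.contraInj 6 4) (.item (.contra 6246 1597446 6) (.item (.contra 6246 1597446 6) (.item (.contraInj 6 5) (.item (.branch 9 1656 2641968 rc6) (.item (.contraInj 6 3) RCert.done))))))) (.item (.branch 6 1656 2392848 (.item (.contraInj 6 4) (.item (.contra 6246 491526 6) (.item (.contra 6246 491526 6) (.item (.contraInj 6 5) (.item rc5 (.item (.contraInj 6 3) RCert.done))))))) (.item (.branch 6 1656 2294928 (.item (.contraInj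 6 4) (.item (.contra 6246 491526 6) (.item (.contra 6246 491526 6) (.item (.contraInj 6 5) (.item rc4 (.item (.contraInj 6 3) RCert.done))))))) (.item (.branch 6 1656 2294928 (.item (.contraInj 6 4) (.item (.contra 6246 491526 6) (.item (.contra 6246 491526 6) (.item rc3 (.item (.contraInj 6 5) (.item (.contraInj 6 3) RCert.done))))))) (.item (.branch 6 1656 2392848 (.item (.contraInj 6 4) (.item (.contra 6246 491526 6) (.item (.contra 6246 491526 6) (.item rc2 (.item (.contraInj 6 5) (.item (.contraInj 6 3) RCert.done))))))) (.item (.branch 6 1656 2641968 (.item (.contraInj 6 4) (.item (.contra 6246 1597446 6) (.item (.contra 6246 1597446 6) rc1)))) (.item (.branch 6 1656 3156048 (.item (.contraInj 6 4) (.item (.contra 6246 1597446 6) (.item (.contra 6246 1597446 6) rc0)))) (.item (.contraInj 5 3) RCert.done)))))))))))))))))))))))) (.item (.contraInj 4 3) RCert.done)))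

def rc34 : RCert := (.item (.contraInj 9 3) (.item (.contra 140357 140357 9) (.item (.force 1656 3156048 10 6 (.branch 7 1926 6246 (.item (.contraInj 7 1) (.item (.contraInj 7 2) (.item (.contra 49364 2371716 7) (.item (.contraInj 7 10) (.item (.contraInj 7 9) (.item (.force 1926 6246 8 5 (.branch 11 6246 1597446 (.item (.contraInj 11 1) (.item (.contraInj 11 2) (.item (.contraInj 11 6) (.item (.contra 27808 1578176 11) (.item (.force 6246 1597446 12 14 (.branch 13 27808 1578176 (.item (.contraInj 13 10) (.item (.contra 43532 789524 13) (.item (.force 27808 1578176 14 7 (.force 43532 789524 15 18 (.force 73930 46098 16 15 (.force 140357 140357 17 17 (.force 272643 590883 18 16 (.force 533137 2104833 19 9 (.force 1060905 1066257 20 8 RCert.leaf))))))) (.item (.contraInj 13 7) (.item (.contraInj 13 11) (.item (.contraInj 13 5) RCert.done)))))))) (.item (.contraInj 11 5) RCert.done)))))))) RCert.done)))))))) (.item (.contraInj 9 6) (.item (.contraInj 9 5) (.item (.contraInj 9 4) RCert.done))))))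

def rc35 : RCert := (.item (.contraInj 9 3) (.item (.contra 140357 279077 9) (.item (.force 1656 2641968 10 5 (.branch 7 1926 6246 (.item (.contraInj 7 1) (.item (.contraInj 7 2) (.item (.contraInj 7 10) (.item (.contra 49364 2246916 7) (.item (.force 1926 6246 8 6 (.branch 11 6246 1597446 (.item (.contraInj 11 1) (.item (.contraInj 11 2) (.item (.contra 27808 1575712 11) (.item (.contraInj 11 6) (.item (.contraInj 11 5) (.item (.force 6246 1597446 12 13 (.branch 13 27808 1575712 (.item (.contraInj 13 10) (.item (.contra 43532 1184276 13) (.item (.force 27808 1575712 14 8 (.force 43532 1184276 15 17 (.force 73930 84498 16 16 (.force 140357 279077 17 18 (.force 272643 1081923 18 15 (.force 533137 2104833 19 10 (.force 1060905 533137 20 7 RCert.leaf))))))) (.item (.contraInj 13 7) (.item (.contraInj 13 5) (.item (.contraInj 13 11) RCert.done)))))))) RCert.done)))))))) (.item (.contraInj 7 9) RCert.done)))))))) (.item (.contraInj 9 6) (.item (.contraInj 9 5) (.item (.contraInj 9 4) RCert.done))))))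

def rc36 : RCert := (.item (.contra 140357 561413 9) (.item (.force 1656 2392848 10 8 (.branch 7 1926 1926 (.item (.contraInj 7 1) (.item (.contraInj 7 2) (.item (.contra 49364 3179556 7) (.item (.contraInj 7 10) (.item (.contraInj 7 9) (.item (.force 1926 1926 8 7 (.branch 11 6246 491526 (.item (.contraInj 11 1) (.item (.contraInj 11 2) (.item (.contraInj 11 6) (.item (.contra 27808 398624 11) (.item (.force 6246 491526 12 16 (.branch 13 27808 398624 (.item (.contra 43532 1184276 13) (.item (.contraInj 13 10) (.item (.contraInj 13 7) (.item (.force 27808 398624 14 5 (.force 43532 1184276 15 20 (.force 73930 46098 16 13 (.force 140357 561413 17 19 (.force 272643 151683 18 14 (.force 533137 2104833 19 11 (.force 1060905 331857 20 6 RCert.leaf))))))) (.item (.contraInj 13 11) (.item (.contraInj 13 5) RCert.done)))))))) (.item (.contraInj 11 5) RCert.done)))))))) RCert.done)))))))) (.item (.contraInj 9 6) (.item (.contraInj 9 5) (.item (.contraInj 9 4) RCert.done)))))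

def rc37 : RCert := (.item (.contra 140357 1116293 9) (.item (.force 1656 2294928 10 7 (.branch 7 1926 1926 (.item (.contraInj 7 1) (.item (.contraInj 7 2) (.item (.contraInj 7 10) (.item (.contra 49364 2687556 7) (.item (.force 1926 1926 8 8 (.branch 11 6246 491526 (.item (.contraInj 11 1) (.item (.contraInj 11 2) (.item (.contra 27808 395968 11) (.item (.contraInj 11 6) (.item (.contraInj 11 5) (.item (.force 6246 491526 12 15 (.branch 13 27808 395968 (.item (.contra 43532 789524 13) (.item (.contraInj 13 10) (.item (.contraInj 13 7) (.item (.force 27808 395968 14 6 (.force 43532 789524 15 19 (.force 73930 84498 16 14 (.force 140357 1116293 17 20 (.force 272643 272643 18 13 (.force 533137 2104833 19 12 (.force 1060905 165937 20 5 RCert.leaf))))))) (.item (.contraInj 13 5) (.item (.contraInj 13 11) RCert.done)))))))) RCert.done)))))))) (.item (.contraInj 7 9) RCert.done)))))))) (.item (.contraInj 9 6) (.item (.contraInj 9 5) (.item (.contraInj 9 4) RCert.done)))))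

def rc38 : RCert := (.branch 6 1656 2294928 (.item (.contraInj 6 3) (.item (.contra 6246 491526 6) (.item (.contra 6246 491526 6) (.item (.contraInj 6 5) (.item (.branch 9 1656 2294928 (.item (.contraInj 9 3) (.item (.force 1656 2294928 10 10 (.branch 7 1926 1926 (.item (.contraInj 7 1) (.item (.contraInj 7 2) (.item (.contraInj 7 9) (.item (.force 1926 1926 8 9 (.branch 11 6246 491526 (.item (.contraInj 11 1) (.item (.contraInj 11 2) (.item (.force 6246 491526 12 18 (.branch 13 27808 101696 (.item (.force 27808 101696 14 11 (.force 43532 49364 15 14 (.force 73930 655698 16 19 (.force 140357 140357 17 13 (.force 272643 1081923 18 20 (.force 533137 2097633 19 5 (.force 1060905 331857 20 12 RCert.leaf))))))) (.item (.contraInj 13 7) (.item (.contraInj 13 10) (.item (.contra 43532 49364 13) (.item (.contraInj 13 11) (.item (.contraInj 13 5) RCert.done)))))))) (.item (.contraInj 11 5) (.item (.contraInj 11 6) (.item (.contra 27808 101696 11) RCert.done)))))))) (.item (.contra 49364 2246916 7) (.item (.contraInj 7 10) RCert.done)))))))) (.item (.contra 140357 140357 9) (.item (.contraInj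 9 5) (.item (.contraInj 9 6) (.item (.contraInj 9 4) RCert.done))))))) (.item (.contraInj 6 4) RCert.done)))))))

def rc39 : RCert := (.branch 6 1656 2392848 (.item (.contraInj 6 3) (.item (.contra 6246 491526 6) (.item (.contra 6246 491526 6) (.item (.contraInj 6 5) (.item (.branch 9 1656 2392848 (.item (.contraInj 9 3) (.item (.force 1656 2392848 10 9 (.branch 7 1926 1926 (.item (.contraInj 7 1) (.item (.contraInj 7 2) (.item (.force 1926 1926 8 10 (.branch 11 6246 491526 (.item (.contraInj 11 1) (.item (.contraInj 11 2) (.item (.contraInj 11 5) (.item (.force 6246 491526 12 17 (.branch 13 27808 103072 (.item (.force 27808 103072 14 12 (.force 43532 74036 15 13 (.force 73930 1310898 16 20 (.force 140357 279077 17 14 (.force 272643 590883 18 19 (.force 533137 2097633 19 6 (.force 1060905 165937 20 11 RCert.leaf))))))) (.item (.contraInj 13 7) (.item (.contraInj 13 10) (.item (.contra 43532 74036 13) (.item (.contraInj 13 5) (.item (.contraInj 13 11) RCert.done)))))))) (.item (.contra 27808 103072 11) (.item (.contraInj 11 6) RCert.done)))))))) (.item (.contraInj 7 9) (.item (.contraInj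 7 10) (.item (.contra 49364 2371716 7) RCert.done)))))))) (.item (.contra 140357 279077 9) (.item (.contraInj 9 5) (.item (.contraInj 9 6) (.item (.contraInj 9 4) RCert.done))))))) (.item (.contraInj 6 4) RCert.done)))))))

def rc40 : RCert := (.item (.contraInj 6 3) (.item (.contra 6246 1597446 6) (.item (.contra 6246 1597446 6) (.item (.contraInj 6 5) (.item (.branch 9 1656 2641968 (.item (.contraInj 9 3) (.item (.force 1656 2641968 10 12 (.branch 7 1926 6246 (.item (.contraInj 7 1) (.item (.contraInj 7 2) (.item (.contraInj 7 9) (.item (.force 1926 6246 8 11 (.branch 11 6246 1597446 (.item (.contraInj 11 1) (.item (.contraInj 11 2) (.item (.force 6246 1597446 12 20 (.branch 13 27808 29504 (.item (.contraInj 13 7) (.item (.force 27808 29504 14 9 (.force 43532 74036 15 16 (.force 73930 655698 16 17 (.force 140357 561413 17 15 (.force 272643 272643 18 18 (.force 533137 2097633 19 7 (.force 1060905 1066257 20 10 RCert.leaf))))))) (.item (.contra 43532 74036 13) (.item (.contraInj 13 10) (.item (.contraInj 13 11) (.item (.contraInj 13 5) RCert.done)))))))) (.item (.contraInj 11 5) (.item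 (.contraInj 11 6) (.item (.contra 27808 29504 11) RCert.done)))))))) (.item (.contra 49364 2687556 7) (.item (.contraInj 7 10) RCert.done)))))))) (.item (.contra 140357 561413 9) (.item (.contraInj 9 5) (.item (.contraInj 9 6) (.item (.contraInj 9 4) RCert.done))))))) (.item (.contraInj 6 4) RCert.done))))))

def rc41 : RCert := (.item (.contraInj 6 3) (.item (.contra 6246 1597446 6) (.item (.contra 6246 1597446 6) (.item (.contraInj 6 5) (.item (.branch 9 1656 3156048 (.item (.contraInj 9 3) (.item (.force 1656 3156048 10 11 (.branch 7 1926 6246 (.item (.contraInj 7 1) (.item (.contraInj 7 2) (.item (.force 1926 6246 8 12 (.branch 11 6246 1597446 (.item (.contraInj 11 1) (.item (.contraInj 11 2) (.item (.contraInj 11 5) (.item (.force 6246 1597446 12 19 (.branch 13 27808 27808 (.item (.contraInj 13 7) (.item (.force 27808 27808 14 10 (.force 43532 49364 15 15 (.force 73930 1310898 16 18 (.force 140357 1116293 17 16 (.force 272643 151683 18 17 (.force 533137 2097633 19 8 (.force 1060905 533137 20 9 RCert.leaf))))))) (.item (.contra 43532 49364 13) (.item (.contraInj 13 10) (.item (.contraInj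 13 5) (.item (.contraInj 13 11) RCert.done)))))))) (.item (.contra 27808 27808 11) (.item (.contraInj 11 6) RCert.done)))))))) (.item (.contraInj 7 9) (.item (.contraInj 7 10) (.item (.contra 49364 3179556 7) RCert.done)))))))) (.item (.contra 140357 1116293 9) (.item (.contraInj 9 5) (.item (.contraInj 9 6) (.item (.contraInj 9 4) RCert.done))))))) (.item (.contraInj 6 4) RCert.done))))))

def rc42 : RCert := (.item (.force 1656 2641968 10 14 (.branch 7 1926 1597446 (.item (.contraInj 7 1) (.item (.contraInj 7 2) (.item (.contra 49364 3179556 7) (.item (.contraInj 7 10) (.item (.contraInj 7 9) (.item (.force 1926 1597446 8 13 (.branch 11 6246 6246 (.item (.contraInj 11 1) (.item (.contraInj 11 2) (.item (.contraInj 11 6) (.item (.contra 27808 1366016 11) (.item (.force 6246 6246 12 6 (.branch 13 27808 1366016 (.item (.contraInj 13 11) (.item (.contraInj 13 5) (.item (.contraInj 13 10) (.item (.contra 43532 789524 13) (.item (.force 27808 1366016 14 15 (.force 43532 789524 15 10 (.force 73930 1310898 16 7 (.force 140357 279077 17 9 (.force 272643 272643 18 8 (.force 533137 4063233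 19 17 (.force 1060905 331857 20 16 RCert.leaf))))))) (.item (.contraInj 13 7) RCert.done)))))))) (.item (.contraInj 11 5) RCert.done)))))))) RCert.done)))))))) (.item (.contraInj 9 4) RCert.done))

def rc43 : RCert := (.item (.force 1656 3156048 10 13 (.branch 7 1926 1597446 (.item (.contraInj 7 1) (.item (.contraInj 7 2) (.item (.contraInj 7 10) (.item (.contra 49364 2687556 7) (.item (.force 1926 1597446 8 14 (.branch 11 6246 6246 (.item (.contraInj 11 1) (.item (.contraInj 11 2) (.item (.contra 27808 735232 11) (.item (.contraInj 11 6) (.item (.contraInj 11 5) (.item (.force 6246 6246 12 5 (.branch 13 27808 735232 (.item (.contraInj 13 5) (.item (.contraInj 13 11) (.item (.contraInj 13 10) (.item (.contra 43532 1184276 13) (.item (.force 27808 735232 14 16 (.force 43532 1184276 15 9 (.force 73930 655698 16 8 (.force 140357 140357 17 10 (.force 272643 151683 18 7 (.force 533137 4063233 19 18 (.force 1060905 165937 20 15 RCert.leaf))))))) (.item (.contraInj 13 7) RCert.done)))))))) RCert.done)))))))) (.item (.contraInj 7 9) RCert.done)))))))) (.item (.contraInj 9 4) RCert.done))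

def rc44 : RCert := (.force 1656 2294928 10 16 (.branch 7 1926 491526 (.item (.contraInj 7 1) (.item (.contraInj 7 2) (.item (.contra 49364 2371716 7) (.item (.contraInj 7 10) (.item (.contraInj 7 9) (.item (.force 1926 491526 8 15 (.branch 11 6246 1926 (.item (.contraInj 11 1) (.item (.contraInj 11 2) (.item (.contraInj 11 6) (.item (.contra 27808 1385984 11) (.item (.force 6246 1926 12 8 (.branch 13 27808 1385984 (.item (.contraInj 13 11) (.item (.contraInj 13 5) (.item (.contra 43532 1184276 13) (.item (.contraInj 13 10) (.item (.contraInj 13 7) (.item (.force 27808 1385984 14 13 (.force 43532 1184276 15 12 (.force 73930 1310898 16 5 (.force 140357 1116293 17 11 (.force 272643 1081923 18 6 (.force 533137 4063233 19 19 (.force 1060905 1066257 20 14 RCert.leaf))))))) RCert.done)))))))) (.item (.contraInj 11 5) RCert.done)))))))) RCert.done))))))))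

def rc45 : RCert := (.force 1656 2392848 10 15 (.branch 7 1926 491526 (.item (.contraInj 7 1) (.item (.contraInj 7 2) (.item (.contraInj 7 10) (.item (.contra 49364 2246916 7) (.item (.force 1926 491526 8 16 (.branch 11 6246 1926 (.item (.contraInj 11 1) (.item (.contraInj 11 2) (.item (.contra 27808 706048 11) (.item (.contraInj 11 6) (.item (.contraInj 11 5) (.item (.force 6246 1926 12 7 (.branch 13 27808 706048 (.item (.contraInj 13 5) (.item (.contraInj 13 11) (.item (.contra 43532 789524 13) (.item (.contraInj 13 10) (.item (.contraInj 13 7) (.item (.force 27808 706048 14 14 (.force 43532 789524 15 11 (.force 73930 655698 16 6 (.force 140357 561413 17 12 (.force 272643 590883 18 5 (.force 533137 4063233 19 20 (.force 1060905 533137 20 13 RCert.leaf))))))) RCert.done)))))))) RCert.done)))))))) (.item (.contraInj 7 9) RCert.done))))))))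

def rc46 : RCert := (.item (.contraInj 6 5) (.item (.branch 9 1656 2392848 (.item (.contraInj 9 3) (.item (.contraInj 9 5) (.item (.contraInj 9 6) (.item (.force 1656 2392848 10 18 (.branch 7 1926 491526 (.item (.contraInj 7 1) (.item (.contraInj 7 2) (.item (.contraInj 7 9) (.item (.force 1926 491526 8 17 (.branch 11 6246 1926 (.item (.contraInj 11 1) (.item (.contraInj 11 2) (.item (.force 6246 1926 12 10 (.branch 13 27808 868736 (.item (.contraInj 13 11) (.item (.contraInj 13 5) (.item (.force 27808 868736 14 19 (.force 43532 49364 15 6 (.force 73930 84498 16 11 (.force 140357 279077 17 5 (.force 272643 151683 18 12 (.force 533137 2220033 19 13 (.force 1060905 1066257 20 20 RCert.leaf))))))) (.item (.contraInj 13 7) (.item (.contraInj 13 10) (.item (.contra 43532 49364 13) RCert.done)))))))) (.item (.contraInj 11 5) (.item (.contraInj 11 6) (.item (.contra 27808 868736 11) RCert.done)))))))) (.item (.contra 49364 2687556 7) (.item (.contraInj 7 10) RCert.done)))))))) (.item (.contra 140357 279077 9) (.item (.contraInj 9 4) RCert.done))))))) (.item (.contra 6246 1926 6) (.item (.contra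 6246 1926 6) (.item (.contraInj 6 4) RCert.done)))))

def rc47 : RCert := (.item (.contraInj 6 5) (.item (.branch 9 1656 2294928 (.item (.contraInj 9 3) (.item (.contraInj 9 5) (.item (.contraInj 9 6) (.item (.force 1656 2294928 10 17 (.branch 7 1926 491526 (.item (.contraInj 7 1) (.item (.contraInj 7 2) (.item (.force 1926 491526 8 18 (.branch 11 6246 1926 (.item (.contraInj 11 1) (.item (.contraInj 11 2) (.item (.contraInj 11 5) (.item (.force 6246 1926 12 9 (.branch 13 27808 1220992 (.item (.contraInj 13 5) (.item (.contraInj 13 11) (.item (.force 27808 1220992 14 20 (.force 43532 74036 15 5 (.force 73930 46098 16 12 (.force 140357 140357 17 6 (.force 272643 272643 18 11 (.force 533137 2220033 19 14 (.force 1060905 533137 20 19 RCert.leaf))))))) (.item (.contraInj 13 7) (.item (.contraInj 13 10) (.item (.contra 43532 74036 13) RCert.done)))))))) (.item (.contra 27808 1220992 11) (.item (.contraInj 11 6) RCert.done)))))))) (.item (.contraInj 7 9) (.item (.contraInj 7 10) (.item (.contra 49364 3179556 7) RCert.done)))))))) (.item (.contra 140357 140357 9) (.item (.contraInj 9 4) RCert.done)))))))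 (.item (.contra 6246 1926 6) (.item (.contra 6246 1926 6) (.item (.contraInj 6 4) RCert.done)))))

def rc48 : RCert := (.item (.branch 9 1656 3156048 (.item (.contraInj 9 3) (.item (.contraInj 9 5) (.item (.contraInj 9 6) (.item (.force 1656 3156048 10 20 (.branch 7 1926 1597446 (.item (.contraInj 7 1) (.item (.contraInj 7 2) (.item (.contraInj 7 9) (.item (.force 1926 1597446 8 19 (.branch 11 6246 6246 (.item (.contraInj 11 1) (.item (.contraInj 11 2) (.item (.force 6246 6246 12 12 (.branch 13 27808 1261664 (.item (.contraInj 13 11) (.item (.contraInj 13 5) (.item (.contraInj 13 7) (.item (.force 27808 1261664 14 17 (.force 43532 74036 15 8 (.force 73930 84498 16 9 (.force 140357 1116293 17 7 (.force 272643 590883 18 10 (.force 533137 2220033 19 15 (.force 1060905 331857 20 18 RCert.leaf))))))) (.item (.contra 43532 74036 13) (.item (.contraInj 13 10) RCert.done)))))))) (.item (.contraInj 11 5) (.item (.contraInj 11 6) (.item (.contra 27808 1261664 11) RCert.done)))))))) (.item (.contra 49364 2246916 7) (.item (.contraInj 7 10) RCert.done)))))))) (.item (.contra 140357 1116293 9)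 (.item (.contraInj 9 4) RCert.done))))))) (.item (.contra 6246 6246 6) (.item (.contra 6246 6246 6) (.item (.contraInj 6 4) RCert.done))))

def rc49 : RCert := (.item (.branch 9 1656 2641968 (.item (.contraInj 9 3) (.item (.contraInj 9 5) (.item (.contraInj 9 6) (.item (.force 1656 2641968 10 19 (.branch 7 1926 1597446 (.item (.contraInj 7 1) (.item (.contraInj 7 2) (.item (.force 1926 1597446 8 20 (.branch 11 6246 6246 (.item (.contraInj 11 1) (.item (.contraInj 11 2) (.item (.contraInj 11 5) (.item (.force 6246 6246 12 11 (.branch 13 27808 827488 (.item (.contraInj 13 5) (.item (.contraInj 13 11) (.item (.contraInj 13 7) (.item (.force 27808 827488 14 18 (.force 43532 49364 15 7 (.force 73930 46098 16 10 (.force 140357 561413 17 8 (.force 272643 1081923 18 9 (.force 533137 2220033 19 16 (.force 1060905 165937 20 17 RCert.leaf))))))) (.item (.contra 43532 49364 13) (.item (.contraInj 13 10) RCert.done)))))))) (.item (.contra 27808 827488 11) (.item (.contraInj 11 6) RCert.done)))))))) (.item (.contraInj 7 9) (.item (.contraInj 7 10) (.item (.contra 49364 2371716 7) RCert.done))))))))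 (.item (.contra 140357 561413 9) (.item (.contraInj 9 4) RCert.done))))))) (.item (.contra 6246 6246 6) (.item (.contra 6246 6246 6) (.item (.contraInj 6 4) RCert.done))))

def rc50 : RCert := (.force 2097183 2097183 21 3 (.branch 5 0 0 (.item (.contraInj 5 0) (.item (.contraInj 5 1) (.item (.contraInj 5 2) (.item (.contraInj 5 21) (.item (.contraInj 5 3) (.item (.branch 6 1656 2641968 (.item (.contraInj 6 3) (.item (.contraInj 6 5) rc49))) (.item (.branch 6 1656 3156048 (.item (.contraInj 6 3) (.item (.contraInj 6 5) rc48))) (.item (.branch 6 1656 2294928 (.item (.contraInj 6 3) rc47)) (.item (.branch 6 1656 2392848 (.item (.contraInj 6 3) rc46)) (.item (.branch 6 1656 2392848 (.item (.contraInj 6 3) (.item (.branch 9 1656 2392848 (.item (.contraInj 9 3) (.item (.contraInj 9 6) (.item (.contraInj 9 5) (.item (.contra 140357 561413 9) (.item rc45 (.item (.contraInj 9 4) RCert.done))))))) (.item (.contraInj 6 5) (.item (.contra 6246 1926 6) (.item (.contra 6246 1926 6) (.item (.contraInj 6 4) RCert.done))))))) (.item (.branch 6 1656 2294928 (.item (.contraInj 6 3) (.item (.branch 9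 1656 2294928 (.item (.contraInj 9 3) (.item (.contraInj 9 6) (.item (.contraInj 9 5) (.item (.contra 140357 1116293 9) (.item rc44 (.item (.contraInj 9 4) RCert.done))))))) (.item (.contraInj 6 5) (.item (.contra 6246 1926 6) (.item (.contra 6246 1926 6) (.item (.contraInj 6 4) RCert.done))))))) (.item (.branch 6 1656 3156048 (.item (.contraInj 6 3) (.item (.branch 9 1656 3156048 (.item (.contraInj 9 3) (.item (.contraInj 9 6) (.item (.contraInj 9 5) (.item (.contra 140357 140357 9) rc43))))) (.item (.contraInj 6 5) (.item (.contra 6246 6246 6) (.item (.contra 6246 6246 6) (.item (.contraInj 6 4) RCert.done))))))) (.item (.branch 6 1656 2641968 (.item (.contraInj 6 3) (.item (.branch 9 1656 2641968 (.item (.contraInj 9 3) (.item (.contraInj 9 6) (.item (.contraInj 9 5) (.item (.contra 140357 279077 9) rc42))))) (.item (.contraInj 6 5) (.item (.contra 6246 6246 6) (.item (.contra 6246 6246 6) (.item (.contraInj 6 4) RCert.done))))))) (.item (.branch 6 1656 3156048 rc41) (.item (.branch 6 1656 2641968 rc40) (.item rc39 (.item rc38 (.item (.branch 6 1656 2294928 (.item (.contraInj 6 3)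 (.item (.contra 6246 491526 6) (.item (.contra 6246 491526 6) (.item (.branch 9 1656 2294928 (.item (.contraInj 9 3) rc37)) (.item (.contraInj 6 5) (.item (.contraInj 6 4) RCert.done))))))) (.item (.branch 6 1656 2392848 (.item (.contraInj 6 3) (.item (.contra 6246 491526 6) (.item (.contra 6246 491526 6) (.item (.branch 9 1656 2392848 (.item (.contraInj 9 3) rc36)) (.item (.contraInj 6 5) (.item (.contraInj 6 4) RCert.done))))))) (.item (.branch 6 1656 2641968 (.item (.contraInj 6 3) (.item (.contra 6246 1597446 6) (.item (.contra 6246 1597446 6) (.item (.branch 9 1656 2641968 rc35) (.item (.contraInj 6 5) (.item (.contraInj 6 4) RCert.done))))))) (.item (.branch 6 1656 3156048 (.item (.contraInj 6 3) (.item (.contra 6246 1597446 6) (.item (.contra 6246 1597446 6) (.item (.branch 9 1656 3156048 rc34) (.item (.contraInj 6 5) (.item (.contraInj 6 4) RCert.done))))))) (.item (.contraInj 5 4) RCert.done))))))))))))))))))))))))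

def rc51 : RCert := (.item (.contra 6246 1597446 6) (.item (.branch 9 1656 1671192 (.item (.contraInj 9 4) (.item (.contraInj 9 3) (.item (.contra 140357 561413 9) (.item (.force 1656 1671192 10 15 (.branch 7 1926 491526 (.item (.contraInj 7 1) (.item (.contraInj 7 2) (.item (.contraInj 7 10) (.item (.contraInj 7 9) (.item (.force 1926 491526 8 18 (.branch 11 6246 1597446 (.item (.contraInj 11 1) (.item (.contraInj 11 2) (.item (.force 6246 1597446 12 14 (.branch 13 27808 1220992 (.item (.contra 43532 74036 13) (.item (.force 27808 1220992 14 7 (.force 43532 74036 15 5 (.force 73930 655698 16 6 (.force 140357 561413 17 12 (.force 272643 272643 18 11 (.force 533137 197385 19 9 (.force 1060905 1066257 20 10 RCert.leaf))))))) (.item (.contraInj 13 11) (.item (.contraInj 13 10) (.item (.contraInj 13 7) (.item (.contraInj 13 5) RCert.done)))))))) (.item (.contra 27808 1220992 11) (.item (.contraInj 11 6) (.item (.contraInj 11 5) RCert.done)))))))) (.item (.contra 49364 655532 7) RCert.done)))))))) (.item (.contraInj 9 6) (.item (.contraInj 9 5) RCert.done))))))) (.item (.contraInj 6 5)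 RCert.done)))

def rc52 : RCert := (.item (.contraInj 6 5) (.item (.branch 9 1656 1671192 (.item (.contraInj 9 4) (.item (.contraInj 9 3) (.item (.force 1656 1671192 10 16 (.branch 7 1926 491526 (.item (.contraInj 7 1) (.item (.contraInj 7 2) (.item (.contraInj 7 9) (.item (.contraInj 7 10) (.item (.contra 49364 1311052 7) (.item (.force 1926 491526 8 17 (.branch 11 6246 1597446 (.item (.contraInj 11 1) (.item (.contraInj 11 2) (.item (.contra 27808 868736 11) (.item (.force 6246 1597446 12 13 (.branch 13 27808 868736 (.item (.force 27808 868736 14 8 (.force 43532 49364 15 6 (.force 73930 1310898 16 5 (.force 140357 1116293 17 11 (.force 272643 151683 18 12 (.force 533137 296073 19 10 (.force 1060905 533137 20 9 RCert.leaf))))))) (.item (.contra 43532 49364 13) (.item (.contraInj 13 11) (.item (.contraInj 13 10) (.item (.contraInj 13 7) (.item (.contraInj 13 5) RCert.done)))))))) (.item (.contraInj 11 5) (.item (.contraInj 11 6) RCert.done)))))))) RCert.done)))))))) (.item (.contra 140357 1116293 9) (.item (.contraInj 9 5) (.item (.contraInj 9 6) RCert.done))))))) RCert.done))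

def rc53 : RCert := (.item (.contra 6246 491526 6) (.item (.branch 9 1656 417816 (.item (.contraInj 9 4) (.item (.contraInj 9 3) (.item (.contra 140357 140357 9) (.item (.force 1656 417816 10 13 (.branch 7 1926 1597446 (.item (.contraInj 7 1) (.item (.contraInj 7 2) (.item (.contraInj 7 10) (.item (.contraInj 7 9) (.item (.force 1926 1597446 8 20 (.branch 11 6246 491526 (.item (.contraInj 11 1) (.item (.contraInj 11 2) (.item (.force 6246 491526 12 16 (.branch 13 27808 827488 (.item (.contra 43532 49364 13) (.item (.force 27808 827488 14 5 (.force 43532 49364 15 7 (.force 73930 655698 16 8 (.force 140357 140357 17 10 (.force 272643 1081923 18 9 (.force 533137 542793 19 11 (.force 1060905 331857 20 12 RCert.leaf))))))) (.item (.contraInj 13 10) (.item (.contraInj 13 11) (.item (.contraInj 13 5) (.item (.contraInj 13 7) RCert.done)))))))) (.item (.contra 27808 827488 11) (.item (.contraInj 11 6) (.item (.contraInj 11 5) RCert.done)))))))) (.item (.contra 49364 655532 7) RCert.done)))))))) (.item (.contraInj 9 6) (.item (.contraInj 9 5) RCert.done))))))) (.item (.contraInj 6 5) RCert.done)))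

def rc54 : RCert := (.item (.contraInj 6 5) (.item (.branch 9 1656 417816 (.item (.contraInj 9 4) (.item (.contraInj 9 3) (.item (.force 1656 417816 10 14 (.branch 7 1926 1597446 (.item (.contraInj 7 1) (.item (.contraInj 7 2) (.item (.contraInj 7 9) (.item (.contraInj 7 10) (.item (.contra 49364 1311052 7) (.item (.force 1926 1597446 8 19 (.branch 11 6246 491526 (.item (.contraInj 11 1) (.item (.contraInj 11 2) (.item (.contra 27808 1261664 11) (.item (.force 6246 491526 12 15 (.branch 13 27808 1261664 (.item (.force 27808 1261664 14 6 (.force 43532 74036 15 8 (.force 73930 1310898 16 7 (.force 140357 279077 17 9 (.force 272643 590883 18 10 (.force 533137 1060905 19 12 (.force 1060905 165937 20 11 RCert.leaf))))))) (.item (.contra 43532 74036 13) (.item (.contraInj 13 10) (.item (.contraInj 13 11) (.item (.contraInj 13 5) (.item (.contraInj 13 7) RCert.done)))))))) (.item (.contraInj 11 5) (.item (.contraInj 11 6) RCert.done)))))))) RCert.done)))))))) (.item (.contra 140357 279077 9) (.item (.contraInj 9 5) (.item (.contraInj 9 6) RCert.done))))))) RCert.done))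

def rc55 : RCert := (.branch 9 1656 1671192 (.item (.contraInj 9 4) (.item (.contraInj 9 3) (.item (.contraInj 9 6) (.item (.contraInj 9 5) (.item (.contra 140357 561413 9) (.item (.force 1656 1671192 10 19 (.branch 7 1926 1597446 (.item (.contraInj 7 1) (.item (.contraInj 7 2) (.item (.force 1926 1597446 8 14 (.branch 11 6246 491526 (.item (.contraInj 11 1) (.item (.contraInj 11 2) (.item (.contraInj 11 6) (.item (.contraInj 11 5) (.item (.force 6246 491526 12 18 (.branch 13 27808 735232 (.item (.contra 43532 1184276 13) (.item (.force 27808 735232 14 11 (.force 43532 1184276 15 9 (.force 73930 46098 16 10 (.force 140357 561413 17 8 (.force 272643 151683 18 7 (.force 533137 1060905 19 5 (.force 1060905 331857 20 6 RCert.leaf))))))) (.item (.contraInj 13 7) (.item (.contraInj 13 5) (.item (.contraInj 13 11) (.item (.contraInj 13 10) RCert.done)))))))) (.item (.contra 27808 735232 11) RCert.done)))))))) (.item (.contra 49364 43532 7) (.item (.contraInj 7 10) (.item (.contraInj 7 9) RCert.done)))))))) RCert.done)))))))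

def rc56 : RCert := (.branch 9 1656 1671192 (.item (.contraInj 9 4) (.item (.contraInj 9 3) (.item (.contraInj 9 5) (.item (.contraInj 9 6) (.item (.force 1656 1671192 10 20 (.branch 7 1926 1597446 (.item (.contraInj 7 1) (.item (.contraInj 7 2) (.item (.contra 49364 87052 7) (.item (.force 1926 1597446 8 13 (.branch 11 6246 491526 (.item (.contraInj 11 1) (.item (.contraInj 11 2) (.item (.contraInj 11 5) (.item (.contraInj 11 6) (.item (.contra 27808 1366016 11) (.item (.force 6246 491526 12 17 (.branch 13 27808 1366016 (.item (.force 27808 1366016 14 12 (.force 43532 789524 15 10 (.force 73930 84498 16 9 (.force 140357 1116293 17 7 (.force 272643 272643 18 8 (.force 533137 542793 19 6 (.force 1060905 165937 20 5 RCert.leaf))))))) (.item (.contra 43532 789524 13) (.item (.contraInj 13 7) (.item (.contraInj 13 5) (.item (.contraInj 13 11) (.item (.contraInj 13 10) RCert.done)))))))) RCert.done)))))))) (.item (.contraInj 7 9) (.item (.contraInj 7 10) RCert.done)))))))) (.item (.contra 140357 1116293 9) RCert.done)))))))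

def rc57 : RCert := (.branch 9 1656 417816 (.item (.contraInj 9 4) (.item (.contraInj 9 3) (.item (.contraInj 9 6) (.item (.contraInj 9 5) (.item (.contra 140357 140357 9) (.item (.force 1656 417816 10 17 (.branch 7 1926 491526 (.item (.contraInj 7 1) (.item (.contraInj 7 2) (.item (.force 1926 491526 8 16 (.branch 11 6246 1597446 (.item (.contraInj 11 1) (.item (.contraInj 11 2) (.item (.contraInj 11 6) (.item (.contraInj 11 5) (.item (.force 6246 1597446 12 20 (.branch 13 27808 706048 (.item (.contra 43532 789524 13) (.item (.force 27808 706048 14 9 (.force 43532 789524 15 11 (.force 73930 46098 16 12 (.force 140357 140357 17 6 (.force 272643 590883 18 5 (.force 533137 296073 19 7 (.force 1060905 1066257 20 8 RCert.leaf))))))) (.item (.contraInj 13 5) (.item (.contraInj 13 7) (.item (.contraInj 13 10) (.item (.contraInj 13 11) RCert.done)))))))) (.item (.contra 27808 706048 11) RCert.done)))))))) (.item (.contra 49364 43532 7) (.item (.contraInj 7 10) (.item (.contraInj 7 9) RCert.done)))))))) RCert.done)))))))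

def rc58 : RCert := (.branch 9 1656 417816 (.item (.contraInj 9 4) (.item (.contraInj 9 3) (.item (.contraInj 9 5) (.item (.contraInj 9 6) (.item (.force 1656 417816 10 18 (.branch 7 1926 491526 (.item (.contraInj 7 1) (.item (.contraInj 7 2) (.item (.contra 49364 87052 7) (.item (.force 1926 491526 8 15 (.branch 11 6246 1597446 (.item (.contraInj 11 1) (.item (.contraInj 11 2) (.item (.contraInj 11 5) (.item (.contraInj 11 6) (.item (.contra 27808 1385984 11) (.item (.force 6246 1597446 12 19 (.branch 13 27808 1385984 (.item (.force 27808 1385984 14 10 (.force 43532 1184276 15 12 (.force 73930 84498 16 11 (.force 140357 279077 17 5 (.force 272643 1081923 18 6 (.force 533137 197385 19 8 (.force 1060905 533137 20 7 RCert.leaf))))))) (.item (.contra 43532 1184276 13) (.item (.contraInj 13 5) (.item (.contraInj 13 7) (.item (.contraInj 13 10) (.item (.contraInj 13 11) RCert.done)))))))) RCert.done)))))))) (.item (.contraInj 7 9) (.item (.contraInj 7 10) RCert.done)))))))) (.item (.contra 140357 279077 9) RCert.done)))))))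

def rc59 : RCert := (.item (.contraInj 9 3) (.item (.contra 140357 1116293 9) (.item (.force 1656 6552 10 7 (.branch 7 1926 1926 (.item (.contraInj 7 1) (.item (.contraInj 7 2) (.item (.contraInj 7 10) (.item (.contraInj 7 9) (.item (.force 1926 1926 8 10 (.branch 11 6246 6246 (.item (.contraInj 11 1) (.item (.contraInj 11 2) (.item (.force 6246 6246 12 6 (.branch 13 27808 103072 (.item (.contraInj 13 11) (.item (.contraInj 13 10) (.item (.contraInj 13 7) (.item (.contraInj 13 5) (.item (.contra 43532 74036 13) (.item (.force 27808 103072 14 15 (.force 43532 74036 15 13 (.force 73930 84498 16 14 (.force 140357 1116293 17 20 (.force 272643 590883 18 19 (.force 533137 197385 19 17 (.force 1060905 331857 20 18 RCert.leaf))))))) RCert.done)))))))) (.item (.contra 27808 103072 11) (.item (.contraInj 11 6) (.item (.contraInj 11 5) RCert.done)))))))) (.item (.contra 49364 43532 7) RCert.done)))))))) (.item (.contraInj 9 6) (.item (.contraInj 9 5) RCert.done)))))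

def rc60 : RCert := (.item (.contraInj 9 3) (.item (.force 1656 6552 10 8 (.branch 7 1926 1926 (.item (.contraInj 7 1) (.item (.contraInj 7 2) (.item (.contraInj 7 9) (.item (.contraInj 7 10) (.item (.contra 49364 87052 7) (.item (.force 1926 1926 8 9 (.branch 11 6246 6246 (.item (.contraInj 11 1) (.item (.contraInj 11 2) (.item (.contra 27808 101696 11) (.item (.force 6246 6246 12 5 (.branch 13 27808 101696 (.item (.contraInj 13 11) (.item (.contraInj 13 10) (.item (.contraInj 13 7) (.item (.contraInj 13 5) (.item (.force 27808 101696 14 16 (.force 43532 49364 15 14 (.force 73930 46098 16 13 (.force 140357 561413 17 19 (.force 272643 1081923 18 20 (.force 533137 296073 19 18 (.force 1060905 165937 20 17 RCert.leaf))))))) (.item (.contra 43532 49364 13) RCert.done)))))))) (.item (.contraInj 11 5) (.item (.contraInj 11 6) RCert.done)))))))) RCert.done)))))))) (.item (.contra 140357 561413 9) (.item (.contraInj 9 5) (.item (.contraInj 9 6) RCert.done)))))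

def rc61 : RCert := (.item (.contraInj 9 3) (.item (.contra 140357 279077 9) (.item (.force 1656 1656 10 5 (.branch 7 1926 6246 (.item (.contraInj 7 1) (.item (.contraInj 7 2) (.item (.contraInj 7 10) (.item (.contraInj 7 9) (.item (.force 1926 6246 8 12 (.branch 11 6246 1926 (.item (.contraInj 11 1) (.item (.contraInj 11 2) (.item (.force 6246 1926 12 8 (.branch 13 27808 27808 (.item (.contraInj 13 10) (.item (.contraInj 13 11) (.item (.contraInj 13 5) (.item (.contraInj 13 7) (.item (.contra 43532 49364 13) (.item (.force 27808 27808 14 13 (.force 43532 49364 15 15 (.force 73930 84498 16 16 (.force 140357 279077 17 18 (.force 272643 151683 18 17 (.force 533137 542793 19 19 (.force 1060905 1066257 20 20 RCert.leaf))))))) RCert.done)))))))) (.item (.contra 27808 27808 11) (.item (.contraInj 11 6) (.item (.contraInj 11 5) RCert.done)))))))) (.item (.contra 49364 43532 7) RCert.done)))))))) (.item (.contraInj 9 6) (.item (.contraInj 9 5) RCert.done)))))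

def rc62 : RCert := (.item (.contraInj 9 3) (.item (.force 1656 1656 10 6 (.branch 7 1926 6246 (.item (.contraInj 7 1) (.item (.contraInj 7 2) (.item (.contraInj 7 9) (.item (.contraInj 7 10) (.item (.contra 49364 87052 7) (.item (.force 1926 6246 8 11 (.branch 11 6246 1926 (.item (.contraInj 11 1) (.item (.contraInj 11 2) (.item (.contra 27808 29504 11) (.item (.force 6246 1926 12 7 (.branch 13 27808 29504 (.item (.contraInj 13 10) (.item (.contraInj 13 11) (.item (.contraInj 13 5) (.item (.contraInj 13 7) (.item (.force 27808 29504 14 14 (.force 43532 74036 15 16 (.force 73930 46098 16 15 (.force 140357 140357 17 17 (.force 272643 272643 18 18 (.force 533137 1060905 19 20 (.force 1060905 533137 20 19 RCert.leaf))))))) (.item (.contra 43532 74036 13) RCert.done)))))))) (.item (.contraInj 11 5) (.item (.contraInj 11 6) RCert.done)))))))) RCert.done)))))))) (.item (.contra 140357 140357 9) (.item (.contraInj 9 5) (.item (.contraInj 9 6) RCert.done)))))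

def rc63 : RCert := (.item (.contraInj 9 5) (.item (.contra 140357 1116293 9) (.item (.force 1656 6552 10 11 (.branch 7 1926 6246 (.item (.contraInj 7 1) (.item (.contraInj 7 2) (.item (.force 1926 6246 8 6 (.branch 11 6246 1926 (.item (.contraInj 11 1) (.item (.contraInj 11 2) (.item (.contraInj 11 6) (.item (.contraInj 11 5) (.item (.force 6246 1926 12 10 (.branch 13 27808 1575712 (.item (.contraInj 13 7) (.item (.contraInj 13 5) (.item (.contraInj 13 11) (.item (.contraInj 13 10) (.item (.contra 43532 1184276 13) (.item (.force 27808 1575712 14 19 (.force 43532 1184276 15 17 (.force 73930 1310898 16 18 (.force 140357 1116293 17 16 (.force 272643 1081923 18 15 (.force 533137 1060905 19 13 (.force 1060905 1066257 20 14 RCert.leaf))))))) RCert.done)))))))) (.item (.contra 27808 1575712 11) RCert.done)))))))) (.item (.contra 49364 655532 7) (.item (.contraInj 7 10) (.item (.contraInj 7 9) RCert.done)))))))) RCert.done)))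

def rc64 : RCert := (.item (.contraInj 9 6) (.item (.force 1656 6552 10 12 (.branch 7 1926 6246 (.item (.contraInj 7 1) (.item (.contraInj 7 2) (.item (.contra 49364 1311052 7) (.item (.force 1926 6246 8 5 (.branch 11 6246 1926 (.item (.contraInj 11 1) (.item (.contraInj 11 2) (.item (.contraInj 11 5) (.item (.contraInj 11 6) (.item (.contra 27808 1578176 11) (.item (.force 6246 1926 12 9 (.branch 13 27808 1578176 (.item (.contraInj 13 7) (.item (.contraInj 13 5) (.item (.contraInj 13 11) (.item (.contraInj 13 10) (.item (.force 27808 1578176 14 20 (.force 43532 789524 15 18 (.force 73930 655698 16 17 (.force 140357 561413 17 15 (.force 272643 590883 18 16 (.force 533137 542793 19 14 (.force 1060905 533137 20 13 RCert.leaf))))))) (.item (.contra 43532 789524 13) RCert.done)))))))) RCert.done)))))))) (.item (.contraInj 7 9) (.item (.contraInj 7 10) RCert.done)))))))) (.item (.contra 140357 561413 9) RCert.done)))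

def rc65 : RCert := (.item (.contraInj 9 5) (.item (.contra 140357 279077 9) (.item (.force 1656 1656 10 9 (.branch 7 1926 1926 (.item (.contraInj 7 1) (.item (.contraInj 7 2) (.item (.force 1926 1926 8 8 (.branch 11 6246 6246 (.item (.contraInj 11 1) (.item (.contraInj 11 2) (.item (.contraInj 11 6) (.item (.contraInj 11 5) (.item (.force 6246 6246 12 12 (.branch 13 27808 395968 (.item (.contraInj 13 5) (.item (.contraInj 13 7) (.item (.contraInj 13 10) (.item (.contraInj 13 11) (.item (.contra 43532 789524 13) (.item (.force 27808 395968 14 17 (.force 43532 789524 15 19 (.force 73930 1310898 16 20 (.force 140357 279077 17 14 (.force 272643 272643 18 13 (.force 533137 296073 19 15 (.force 1060905 331857 20 16 RCert.leaf))))))) RCert.done)))))))) (.item (.contra 27808 395968 11) RCert.done)))))))) (.item (.contra 49364 655532 7) (.item (.contraInj 7 10) (.item (.contraInj 7 9) RCert.done)))))))) RCert.done)))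

def rc66 : RCert := (.item (.contraInj 9 6) (.item (.force 1656 1656 10 10 (.branch 7 1926 1926 (.item (.contraInj 7 1) (.item (.contraInj 7 2) (.item (.contra 49364 1311052 7) (.item (.force 1926 1926 8 7 (.branch 11 6246 6246 (.item (.contraInj 11 1) (.item (.contraInj 11 2) (.item (.contraInj 11 5) (.item (.contraInj 11 6) (.item (.contra 27808 398624 11) (.item (.force 6246 6246 12 11 (.branch 13 27808 398624 (.item (.contraInj 13 5) (.item (.contraInj 13 7) (.item (.contraInj 13 10) (.item (.contraInj 13 11) (.item (.force 27808 398624 14 18 (.force 43532 1184276 15 20 (.force 73930 655698 16 19 (.force 140357 140357 17 13 (.force 272643 151683 18 14 (.force 533137 197385 19 16 (.force 1060905 165937 20 15 RCert.leaf))))))) (.item (.contra 43532 1184276 13) RCert.done)))))))) RCert.done)))))))) (.item (.contraInj 7 9) (.item (.contraInj 7 10) RCert.done)))))))) (.item (.contra 140357 140357 9) RCert.done)))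

def rc67 : RCert := (.item (.contraInj 4 1) (.item (.contraInj 4 2) (.item (.force 2097183 2097183 21 21 (.branch 5 0 0 (.item (.contraInj 5 0) (.item (.contraInj 5 1) (.item (.contraInj 5 2) (.item (.contraInj 5 4) (.item (.contraInj 5 3) (.item (.branch 6 1656 1656 (.item (.contraInj 6 4) (.item (.contraInj 6 3) (.item (.contraInj 6 5) (.item (.branch 9 1656 1656 (.item (.contraInj 9 4) (.item (.contraInj 9 3) (.item (.contraInj 9 5) rc66)))) (.item (.contra 6246 6246 6) (.item (.contra 6246 6246 6) RCert.done))))))) (.item (.branch 6 1656 1656 (.item (.contraInj 6 4) (.item (.contraInj 6 3) (.item (.branch 9 1656 1656 (.item (.contraInj 9 4) (.item (.contraInj 9 3) (.item (.contraInj 9 6) rc65)))) (.item (.contraInj 6 5) (.item (.contra 6246 6246 6) (.item (.contra 6246 6246 6) RCert.done))))))) (.item (.branch 6 1656 6552 (.item (.contraInj 6 4) (.item (.contraInj 6 3) (.item (.contraInj 6 5) (.item (.branch 9 1656 6552 (.item (.contraInj 9 4) (.item (.contraInj 9 3) (.item (.contraInj 9 5) rc64)))) (.item (.contra 6246 1926 6) (.item (.contra 6246 1926 6) RCert.done))))))) (.item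 (.branch 6 1656 6552 (.item (.contraInj 6 4) (.item (.contraInj 6 3) (.item (.branch 9 1656 6552 (.item (.contraInj 9 4) (.item (.contraInj 9 3) (.item (.contraInj 9 6) rc63)))) (.item (.contraInj 6 5) (.item (.contra 6246 1926 6) (.item (.contra 6246 1926 6) RCert.done))))))) (.item (.branch 6 1656 1656 (.item (.contraInj 6 4) (.item (.contraInj 6 3) (.item (.contra 6246 1926 6) (.item (.contra 6246 1926 6) (.item (.contraInj 6 5) (.item (.branch 9 1656 1656 (.item (.contraInj 9 4) rc62)) RCert.done))))))) (.item (.branch 6 1656 1656 (.item (.contraInj 6 4) (.item (.contraInj 6 3) (.item (.contra 6246 1926 6) (.item (.contra 6246 1926 6) (.item (.branch 9 1656 1656 (.item (.contraInj 9 4) rc61)) (.item (.contraInj 6 5) RCert.done))))))) (.item (.branch 6 1656 6552 (.item (.contraInj 6 4) (.item (.contraInj 6 3) (.item (.contra 6246 6246 6) (.item (.contra 6246 6246 6) (.item (.contraInj 6 5) (.item (.branch 9 1656 6552 (.item (.contraInj 9 4) rc60)) RCert.done))))))) (.item (.branch 6 1656 6552 (.item (.contraInj 6 4) (.item (.contraInj 6 3) (.item (.contra 6246 6246 6) (.item (.contra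 6246 6246 6) (.item (.branch 9 1656 6552 (.item (.contraInj 9 4) rc59)) (.item (.contraInj 6 5) RCert.done))))))) (.item (.branch 6 1656 417816 (.item (.contraInj 6 4) (.item (.contraInj 6 3) (.item (.contraInj 6 5) (.item rc58 (.item (.contra 6246 1597446 6) (.item (.contra 6246 1597446 6) RCert.done))))))) (.item (.branch 6 1656 417816 (.item (.contraInj 6 4) (.item (.contraInj 6 3) (.item rc57 (.item (.contraInj 6 5) (.item (.contra 6246 1597446 6) (.item (.contra 6246 1597446 6) RCert.done))))))) (.item (.branch 6 1656 1671192 (.item (.contraInj 6 4) (.item (.contraInj 6 3) (.item (.contraInj 6 5) (.item rc56 (.item (.contra 6246 491526 6) (.item (.contra 6246 491526 6) RCert.done))))))) (.item (.branch 6 1656 1671192 (.item (.contraInj 6 4) (.item (.contraInj 6 3) (.item rc55 (.item (.contraInj 6 5) (.item (.contra 6246 491526 6) (.item (.contra 6246 491526 6) RCert.done))))))) (.item (.branch 6 1656 417816 (.item (.contraInj 6 4) (.item (.contraInj 6 3) (.item (.contra 6246 491526 6) (.item (.contra 6246 491526 6) rc54))))) (.item (.branch 6 1656 417816 (.item (.contraInj 6 4)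 (.item (.contraInj 6 3) (.item (.contra 6246 491526 6) rc53)))) (.item (.branch 6 1656 1671192 (.item (.contraInj 6 4) (.item (.contraInj 6 3) (.item (.contra 6246 1597446 6) (.item (.contra 6246 1597446 6) rc52))))) (.item (.branch 6 1656 1671192 (.item (.contraInj 6 4) (.item (.contraInj 6 3) (.item (.contra 6246 1597446 6) rc51)))) (.item (.contraInj 5 21) RCert.done)))))))))))))))))))))))) (.item (.contraInj 4 3) (.item rc50 RCert.done)))))

def rc68 : RCert := (.item (.contraInj 6 3) (.item (.contra 6246 1597446 6) (.item (.contra 6246 1597446 6) (.item (.branch 9 1656 3162760 (.item (.contraInj 9 3) (.item (.force 1656 3162760 10 9 (.branch 7 1926 1926 (.item (.contraInj 7 1) (.item (.contraInj 7 2) (.item (.contraInj 7 9) (.item (.force 1926 1926 8 10 (.branch 11 6246 1597446 (.item (.contraInj 11 1) (.item (.contraInj 11 2) (.item (.contra 27808 1575712 11) (.item (.contraInj 11 6) (.item (.force 6246 1597446 12 13 (.branch 13 27808 1575712 (.item (.force 27808 1575712 14 11 (.force 43532 655532 15 17 (.force 73930 49450 16 15 (.force 140357 279077 17 18 (.force 272643 590883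 18 16 (.force 533137 2097633 19 6 (.force 1060905 1060905 20 12 RCert.leaf))))))) (.item (.contraInj 13 7) (.item (.contraInj 13 10) (.item (.contra 43532 655532 13) (.item (.contraInj 13 11) (.item (.contraInj 13 5) RCert.done)))))))) (.item (.contraInj 11 5) RCert.done)))))))) (.item (.contraInj 7 10) (.item (.contra 49364 2246916 7) RCert.done)))))))) (.item (.contra 140357 279077 9) (.item (.contraInj 9 6) (.item (.contraInj 9 5) (.item (.contraInj 9 4) RCert.done))))))) (.item (.contraInj 6 5) (.item (.contraInj 6 4) RCert.done))))))

def rc69 : RCert := (.item (.contraInj 6 3) (.item (.contra 6246 1597446 6) (.item (.contra 6246 1597446 6) (.item (.branch 9 1656 2630920 (.item (.contraInj 9 3) (.item (.force 1656 2630920 10 10 (.branch 7 1926 1926 (.item (.contraInj 7 1) (.item (.contraInj 7 2) (.item (.force 1926 1926 8 9 (.branch 11 6246 1597446 (.item (.contraInj 11 1) (.item (.contraInj 11 2) (.item (.contraInj 11 6) (.item (.contra 27808 1578176 11) (.item (.contraInj 11 5) (.item (.force 6246 1597446 12 14 (.branch 13 27808 1578176 (.item (.force 27808 1578176 14 12 (.force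 43532 1311052 15 18 (.force 73930 73930 16 16 (.force 140357 140357 17 17 (.force 272643 1081923 18 15 (.force 533137 2097633 19 5 (.force 1060905 542793 20 11 RCert.leaf))))))) (.item (.contraInj 13 7) (.item (.contraInj 13 10) (.item (.contra 43532 1311052 13) (.item (.contraInj 13 5) (.item (.contraInj 13 11) RCert.done)))))))) RCert.done)))))))) (.item (.contraInj 7 9) (.item (.contra 49364 2371716 7) (.item (.contraInj 7 10) RCert.done)))))))) (.item (.contra 140357 140357 9) (.item (.contraInj 9 6) (.item (.contraInj 9 5) (.item (.contraInj 9 4) RCert.done))))))) (.item (.contraInj 6 5) (.item (.contraInj 6 4) RCert.done))))))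

def rc70 : RCert := (.item (.contra 6246 491526 6) (.item (.contra 6246 491526 6) (.item (.branch 9 1656 2426920 (.item (.contraInj 9 3) (.item (.force 1656 2426920 10 11 (.branch 7 1926 6246 (.item (.contraInj 7 1) (.item (.contraInj 7 2) (.item (.contraInj 7 9) (.item (.force 1926 6246 8 12 (.branch 11 6246 491526 (.item (.contraInj 11 1) (.item (.contraInj 11 2) (.item (.contra 27808 395968 11) (.item (.contraInj 11 6) (.item (.force 6246 491526 12 15 (.branch 13 27808 395968 (.item (.contraInj 13 7) (.item (.force 27808 395968 14 9 (.force 43532 655532 15 19 (.force 73930 73930 16 13 (.force 140357 1116293 17 20 (.force 272643 151683 18 14 (.force 533137 2097633 19 8 (.force 1060905 296073 20 10 RCert.leaf))))))) (.item (.contra 43532 655532 13) (.item (.contraInj 13 10) (.item (.contraInj 13 11) (.item (.contraInj 13 5) RCert.done)))))))) (.item (.contraInj 11 5) RCert.done)))))))) (.item (.contraInj 7 10) (.item (.contra 49364 2687556 7) RCert.done)))))))) (.item (.contra 140357 1116293 9) (.item (.contraInj 9 6) (.item (.contraInj 9 5) (.item (.contraInj 9 4) RCert.done)))))))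 (.item (.contraInj 6 5) (.item (.contraInj 6 4) RCert.done)))))

def rc71 : RCert := (.item (.contra 6246 491526 6) (.item (.contra 6246 491526 6) (.item (.branch 9 1656 2265160 (.item (.contraInj 9 3) (.item (.force 1656 2265160 10 12 (.branch 7 1926 6246 (.item (.contraInj 7 1) (.item (.contraInj 7 2) (.item (.force 1926 6246 8 11 (.branch 11 6246 491526 (.item (.contraInj 11 1) (.item (.contraInj 11 2) (.item (.contraInj 11 6) (.item (.contra 27808 398624 11) (.item (.contraInj 11 5) (.item (.force 6246 491526 12 16 (.branch 13 27808 398624 (.item (.contraInj 13 7) (.item (.force 27808 398624 14 10 (.force 43532 1311052 15 20 (.force 73930 49450 16 14 (.force 140357 561413 17 19 (.force 272643 272643 18 13 (.force 533137 2097633 19 7 (.force 1060905 197385 20 9 RCert.leaf))))))) (.item (.contra 43532 1311052 13) (.item (.contraInj 13 10) (.item (.contraInj 13 5) (.item (.contraInj 13 11) RCert.done)))))))) RCert.done)))))))) (.item (.contraInj 7 9) (.item (.contra 49364 3179556 7) (.item (.contraInj 7 10) RCert.done)))))))) (.item (.contra 140357 561413 9) (.item (.contraInj 9 6)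 (.item (.contraInj 9 5) (.item (.contraInj 9 4) RCert.done))))))) (.item (.contraInj 6 5) (.item (.contraInj 6 4) RCert.done)))))

def rc72 : RCert := (.item (.branch 9 1656 2426920 (.item (.contraInj 9 3) (.item (.contra 140357 279077 9) (.item (.force 1656 2426920 10 5 (.branch 7 1926 6246 (.item (.contraInj 7 1) (.item (.contraInj 7 2) (.item (.contraInj 7 10) (.item (.contra 49364 2371716 7) (.item (.contraInj 7 9) (.item (.force 1926 6246 8 6 (.branch 11 6246 491526 (.item (.contraInj 11 1) (.item (.contraInj 11 2) (.item (.force 6246 491526 12 17 (.branch 13 27808 103072 (.item (.contraInj 13 10) (.item (.contra 43532 43532 13) (.item (.force 27808 103072 14 7 (.force 43532 43532 15 13 (.force 73930 791050 16 19 (.force 140357 279077 17 14 (.force 272643 1081923 18 20 (.force 533137 2104833 19 10 (.force 1060905 197385 20 8 RCert.leaf))))))) (.item (.contraInj 13 7) (.item (.contraInj 13 11) (.item (.contraInj 13 5) RCert.done)))))))) (.item (.contraInj 11 5) (.item (.contra 27808 103072 11) (.item (.contraInj 11 6) RCert.done)))))))) RCert.done)))))))) (.item (.contraInj 9 5)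 (.item (.contraInj 9 6) (.item (.contraInj 9 4) RCert.done))))))) (.item (.contraInj 6 4) RCert.done))

def rc73 : RCert := (.item (.branch 9 1656 2265160 (.item (.contraInj 9 3) (.item (.contra 140357 140357 9) (.item (.force 1656 2265160 10 6 (.branch 7 1926 6246 (.item (.contraInj 7 1) (.item (.contraInj 7 2) (.item (.contra 49364 2246916 7) (.item (.contraInj 7 10) (.item (.force 1926 6246 8 5 (.branch 11 6246 491526 (.item (.contraInj 11 1) (.item (.contraInj 11 2) (.item (.contraInj 11 5) (.item (.force 6246 491526 12 18 (.branch 13 27808 101696 (.item (.contraInj 13 10) (.item (.contra 43532 87052 13) (.item (.force 27808 101696 14 8 (.force 43532 87052 15 14 (.force 73930 1182730 16 20 (.force 140357 140357 17 13 (.force 272643 590883 18 19 (.force 533137 2104833 19 9 (.force 1060905 296073 20 7 RCert.leaf))))))) (.item (.contraInj 13 7) (.item (.contraInj 13 5) (.item (.contraInj 13 11) RCert.done)))))))) (.item (.contraInj 11 6) (.item (.contra 27808 101696 11) RCert.done)))))))) (.item (.contraInj 7 9) RCert.done)))))))) (.item (.contraInj 9 5) (.item (.contraInj 9 6) (.item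 (.contraInj 9 4) RCert.done))))))) (.item (.contraInj 6 4) RCert.done))

def rc74 : RCert := (.branch 9 1656 3162760 (.item (.contraInj 9 3) (.item (.contra 140357 1116293 9) (.item (.force 1656 3162760 10 7 (.branch 7 1926 1926 (.item (.contraInj 7 1) (.item (.contraInj 7 2) (.item (.contraInj 7 10) (.item (.contra 49364 3179556 7) (.item (.contraInj 7 9) (.item (.force 1926 1926 8 8 (.branch 11 6246 1597446 (.item (.contraInj 11 1) (.item (.contraInj 11 2) (.item (.force 6246 1597446 12 19 (.branch 13 27808 27808 (.item (.contra 43532 43532 13) (.item (.contraInj 13 10) (.item (.contraInj 13 7) (.item (.force 27808 27808 14 5 (.force 43532 43532 15 15 (.force 73930 1182730 16 17 (.force 140357 1116293 17 16 (.force 272643 272643 18 18 (.force 533137 2104833 19 12 (.force 1060905 542793 20 6 RCert.leaf))))))) (.item (.contraInj 13 11) (.item (.contraInj 13 5) RCert.done)))))))) (.item (.contraInj 11 5) (.item (.contra 27808 27808 11) (.item (.contraInj 11 6) RCert.done)))))))) RCert.done)))))))) (.item (.contraInj 9 5) (.item (.contraInj 9 6) (.item (.contraInj 9 4) RCert.done)))))))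

def rc75 : RCert := (.branch 9 1656 2630920 (.item (.contraInj 9 3) (.item (.contra 140357 561413 9) (.item (.force 1656 2630920 10 8 (.branch 7 1926 1926 (.item (.contraInj 7 1) (.item (.contraInj 7 2) (.item (.contra 49364 2687556 7) (.item (.contraInj 7 10) (.item (.force 1926 1926 8 7 (.branch 11 6246 1597446 (.item (.contraInj 11 1) (.item (.contraInj 11 2) (.item (.contraInj 11 5) (.item (.force 6246 1597446 12 20 (.branch 13 27808 29504 (.item (.contra 43532 87052 13) (.item (.contraInj 13 10) (.item (.contraInj 13 7) (.item (.force 27808 29504 14 6 (.force 43532 87052 15 16 (.force 73930 791050 16 18 (.force 140357 561413 17 15 (.force 272643 151683 18 17 (.force 533137 2104833 19 11 (.force 1060905 1060905 20 5 RCert.leaf))))))) (.item (.contraInj 13 5) (.item (.contraInj 13 11) RCert.done)))))))) (.item (.contraInj 11 6) (.item (.contra 27808 29504 11) RCert.done)))))))) (.item (.contraInj 7 9) RCert.done)))))))) (.item (.contraInj 9 5) (.item (.contraInj 9 6) (.item (.contraInj 9 4) RCert.done)))))))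

def rc76 : RCert := (.branch 9 1656 2265160 (.item (.contraInj 9 3) (.item (.contraInj 9 6) (.item (.contraInj 9 5) (.item (.force 1656 2265160 10 17 (.branch 7 1926 491526 (.item (.contraInj 7 1) (.item (.contraInj 7 2) (.item (.contraInj 7 9) (.item (.force 1926 491526 8 18 (.branch 11 6246 6246 (.item (.contraInj 11 1) (.item (.contraInj 11 2) (.item (.contra 27808 735232 11) (.item (.contraInj 11 6) (.item (.force 6246 6246 12 5 (.branch 13 27808 735232 (.item (.contraInj 13 11) (.item (.contraInj 13 5) (.item (.force 27808 735232 14 19 (.force 43532 43532 15 9 (.force 73930 73930 16 7 (.force 140357 140357 17 10 (.force 272643 272643 18 8 (.force 533137 2220033 19 14 (.force 1060905 1060905 20 20 RCert.leaf))))))) (.item (.contraInj 13 7) (.item (.contraInj 13 10) (.item (.contra 43532 43532 13) RCert.done)))))))) (.item (.contraInj 11 5) RCert.done)))))))) (.item (.contraInj 7 10) (.item (.contra 49364 2687556 7) RCert.done)))))))) (.item (.contra 140357 140357 9) (.item (.contraInj 9 4) RCert.done)))))))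

def rc77 : RCert := (.branch 9 1656 2426920 (.item (.contraInj 9 3) (.item (.contraInj 9 6) (.item (.contraInj 9 5) (.item (.force 1656 2426920 10 18 (.branch 7 1926 491526 (.item (.contraInj 7 1) (.item (.contraInj 7 2) (.item (.force 1926 491526 8 17 (.branch 11 6246 6246 (.item (.contraInj 11 1) (.item (.contraInj 11 2) (.item (.contraInj 11 6) (.item (.contra 27808 1366016 11) (.item (.contraInj 11 5) (.item (.force 6246 6246 12 6 (.branch 13 27808 1366016 (.item (.contraInj 13 5) (.item (.contraInj 13 11) (.item (.force 27808 1366016 14 20 (.force 43532 87052 15 10 (.force 73930 49450 16 8 (.force 140357 279077 17 9 (.force 272643 151683 18 7 (.force 533137 2220033 19 13 (.force 1060905 542793 20 19 RCert.leaf))))))) (.item (.contraInj 13 7) (.item (.contraInj 13 10) (.item (.contra 43532 87052 13) RCert.done)))))))) RCert.done)))))))) (.item (.contraInj 7 9) (.item (.contra 49364 3179556 7) (.item (.contraInj 7 10) RCert.done)))))))) (.item (.contra 140357 279077 9) (.item (.contraInj 9 4) RCert.done)))))))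

def rc78 : RCert := (.item (.contraInj 9 3) (.item (.contraInj 9 6) (.item (.contraInj 9 5) (.item (.force 1656 2630920 10 19 (.branch 7 1926 1597446 (.item (.contraInj 7 1) (.item (.contraInj 7 2) (.item (.contraInj 7 9) (.item (.force 1926 1597446 8 20 (.branch 11 6246 1926 (.item (.contraInj 11 1) (.item (.contraInj 11 2) (.item (.contra 27808 706048 11) (.item (.contraInj 11 6) (.item (.force 6246 1926 12 7 (.branch 13 27808 706048 (.item (.contraInj 13 11) (.item (.contraInj 13 5) (.item (.contraInj 13 7) (.item (.force 27808 706048 14 17 (.force 43532 43532 15 11 (.force 73930 49450 16 5 (.force 140357 561413 17 12 (.force 272643 1081923 18 6 (.force 533137 2220033 19 16 (.force 1060905 296073 20 18 RCert.leaf))))))) (.item (.contra 43532 43532 13) (.item (.contraInj 13 10) RCert.done)))))))) (.item (.contraInj 11 5) RCert.done)))))))) (.item (.contraInj 7 10) (.item (.contra 49364 2246916 7) RCert.done)))))))) (.item (.contra 140357 561413 9) (.item (.contraInj 9 4) RCert.done))))))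

def rc79 : RCert := (.item (.contraInj 9 3) (.item (.contraInj 9 6) (.item (.contraInj 9 5) (.item (.force 1656 3162760 10 20 (.branch 7 1926 1597446 (.item (.contraInj 7 1) (.item (.contraInj 7 2) (.item (.force 1926 1597446 8 19 (.branch 11 6246 1926 (.item (.contraInj 11 1) (.item (.contraInj 11 2) (.item (.contraInj 11 6) (.item (.contra 27808 1385984 11) (.item (.contraInj 11 5) (.item (.force 6246 1926 12 8 (.branch 13 27808 1385984 (.item (.contraInj 13 5) (.item (.contraInj 13 11) (.item (.contraInj 13 7) (.item (.force 27808 1385984 14 18 (.force 43532 87052 15 12 (.force 73930 73930 16 6 (.force 140357 1116293 17 11 (.force 272643 590883 18 5 (.force 533137 2220033 19 15 (.force 1060905 197385 20 17 RCert.leaf))))))) (.item (.contra 43532 87052 13) (.item (.contraInj 13 10) RCert.done)))))))) RCert.done)))))))) (.item (.contraInj 7 9) (.item (.contra 49364 2371716 7) (.item (.contraInj 7 10) RCert.done)))))))) (.item (.contra 140357 1116293 9) (.item (.contraInj 9 4) RCert.done))))))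

def rc80 : RCert := (.item (.contraInj 9 6) (.item (.contra 140357 140357 9) (.item (.force 1656 2630920 10 13 (.branch 7 1926 1597446 (.item (.contraInj 7 1) (.item (.contraInj 7 2) (.item (.contraInj 7 10) (.item (.contra 49364 3179556 7) (.item (.contraInj 7 9) (.item (.force 1926 1597446 8 14 (.branch 11 6246 1926 (.item (.contraInj 11 1) (.item (.contraInj 11 2) (.item (.force 6246 1926 12 9 (.branch 13 27808 1220992 (.item (.contraInj 13 11) (.item (.contraInj 13 5) (.item (.contraInj 13 10) (.item (.contra 43532 655532 13) (.item (.force 27808 1220992 14 15 (.force 43532 655532 15 5 (.force 73930 1182730 16 11 (.force 140357 140357 17 6 (.force 272643 151683 18 12 (.force 533137 4063233 19 18 (.force 1060905 197385 20 16 RCert.leaf))))))) (.item (.contraInj 13 7) RCert.done)))))))) (.item (.contraInj 11 5) (.item (.contra 27808 1220992 11) (.item (.contraInj 11 6) RCert.done)))))))) RCert.done)))))))) (.item (.contraInj 9 4) RCert.done))))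

def rc81 : RCert := (.item (.contraInj 9 6) (.item (.contra 140357 279077 9) (.item (.force 1656 3162760 10 14 (.branch 7 1926 1597446 (.item (.contraInj 7 1) (.item (.contraInj 7 2) (.item (.contra 49364 2687556 7) (.item (.contraInj 7 10) (.item (.force 1926 1597446 8 13 (.branch 11 6246 1926 (.item (.contraInj 11 1) (.item (.contraInj 11 2) (.item (.contraInj 11 5) (.item (.force 6246 1926 12 10 (.branch 13 27808 868736 (.item (.contraInj 13 5) (.item (.contraInj 13 11) (.item (.contraInj 13 10) (.item (.contra 43532 1311052 13) (.item (.force 27808 868736 14 16 (.force 43532 1311052 15 6 (.force 73930 791050 16 12 (.force 140357 279077 17 5 (.force 272643 272643 18 11 (.force 533137 4063233 19 17 (.force 1060905 296073 20 15 RCert.leaf))))))) (.item (.contraInj 13 7) RCert.done)))))))) (.item (.contraInj 11 6) (.item (.contra 27808 868736 11) RCert.done)))))))) (.item (.contraInj 7 9) RCert.done)))))))) (.item (.contraInj 9 4) RCert.done))))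

def rc82 : RCert := (.item (.contra 140357 561413 9) (.item (.force 1656 2265160 10 15 (.branch 7 1926 491526 (.item (.contraInj 7 1) (.item (.contraInj 7 2) (.item (.contraInj 7 10) (.item (.contra 49364 2371716 7) (.item (.contraInj 7 9) (.item (.force 1926 491526 8 16 (.branch 11 6246 6246 (.item (.contraInj 11 1) (.item (.contraInj 11 2) (.item (.force 6246 6246 12 11 (.branch 13 27808 827488 (.item (.contraInj 13 11) (.item (.contraInj 13 5) (.item (.contra 43532 655532 13) (.item (.contraInj 13 10) (.item (.contraInj 13 7) (.item (.force 27808 827488 14 13 (.force 43532 655532 15 7 (.force 73930 791050 16 9 (.force 140357 561413 17 8 (.force 272643 590883 18 10 (.force 533137 4063233 19 20 (.force 1060905 542793 20 14 RCert.leaf))))))) RCert.done)))))))) (.item (.contraInj 11 5) (.item (.contra 27808 827488 11) (.item (.contraInj 11 6) RCert.done)))))))) RCert.done)))))))) (.item (.contraInj 9 4) RCert.done)))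

def rc83 : RCert := (.item (.contra 140357 1116293 9) (.item (.force 1656 2426920 10 16 (.branch 7 1926 491526 (.item (.contraInj 7 1) (.item (.contraInj 7 2) (.item (.contra 49364 2246916 7) (.item (.contraInj 7 10) (.item (.force 1926 491526 8 15 (.branch 11 6246 6246 (.item (.contraInj 11 1) (.item (.contraInj 11 2) (.item (.contraInj 11 5) (.item (.force 6246 6246 12 12 (.branch 13 27808 1261664 (.item (.contraInj 13 5) (.item (.contraInj 13 11) (.item (.contra 43532 1311052 13) (.item (.contraInj 13 10) (.item (.contraInj 13 7) (.item (.force 27808 1261664 14 14 (.force 43532 1311052 15 8 (.force 73930 1182730 16 10 (.force 140357 1116293 17 7 (.force 272643 1081923 18 9 (.force 533137 4063233 19 19 (.force 1060905 1060905 20 13 RCert.leaf))))))) RCert.done)))))))) (.item (.contraInj 11 6) (.item (.contra 27808 1261664 11) RCert.done)))))))) (.item (.contraInj 7 9) RCert.done)))))))) (.item (.contraInj 9 4) RCert.done)))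

def rc84 : RCert := (.branch 9 1656 1671192 (.item (.contraInj 9 3) (.item (.contraInj 9 4) (.item (.contra 140357 561413 9) (.item (.force 1656 1671192 10 15 (.branch 7 1926 491526 (.item (.contraInj 7 1) (.item (.contraInj 7 2) (.item (.contraInj 7 10) (.item (.contraInj 7 9) (.item (.contra 49364 789524 7) (.item (.force 1926 491526 8 17 (.branch 11 6246 1597446 (.item (.contraInj 11 1) (.item (.contraInj 11 2) (.item (.contra 27808 1366016 11) (.item (.force 6246 1597446 12 13 (.branch 13 27808 1366016 (.item (.contra 43532 87052 13) (.item (.force 27808 1366016 14 11 (.force 43532 87052 15 10 (.force 73930 791050 16 9 (.force 140357 561413 17 8 (.force 272643 151683 18 7 (.force 533137 331857 19 6 (.force 1060905 1060905 20 5 RCert.leaf))))))) (.item (.contraInj 13 11) (.item (.contraInj 13 10) (.item (.contraInj 13 7) (.item (.contraInj 13 5) RCert.done)))))))) (.item (.contraInj 11 6) (.item (.contraInj 11 5) RCert.done)))))))) RCert.done)))))))) (.item (.contraInj 9 6) (.item (.contraInj 9 5) RCert.done)))))))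

def rc85 : RCert := (.item (.contra 6246 1597446 6) (.item (.contra 6246 1597446 6) (.item (.contraInj 6 5) (.item (.branch 9 1656 1671192 (.item (.contraInj 9 3) (.item (.contraInj 9 4) (.item (.force 1656 1671192 10 16 (.branch 7 1926 491526 (.item (.contraInj 7 1) (.item (.contraInj 7 2) (.item (.contraInj 7 9) (.item (.contraInj 7 10) (.item (.force 1926 491526 8 18 (.branch 11 6246 1597446 (.item (.contraInj 11 1) (.item (.contraInj 11 2) (.item (.force 6246 1597446 12 14 (.branch 13 27808 735232 (.item (.force 27808 735232 14 12 (.force 43532 43532 15 9 (.force 73930 1182730 16 10 (.force 140357 1116293 17 7 (.force 272643 272643 18 8 (.force 533137 165937 19 5 (.force 1060905 542793 20 6 RCert.leaf))))))) (.item (.contra 43532 43532 13) (.item (.contraInj 13 11) (.item (.contraInj 13 10) (.item (.contraInj 13 7) (.item (.contraInj 13 5) RCert.done)))))))) (.item (.contra 27808 735232 11) (.item (.contraInj 11 5) (.item (.contraInj 11 6) RCert.done)))))))) (.item (.contra 49364 1184276 7) RCert.done)))))))) (.item (.contra 140357 1116293 9) (.item (.contraInj 9 5) (.item (.contraInj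 9 6) RCert.done))))))) RCert.done))))

def rc86 : RCert := (.branch 9 1656 417816 (.item (.contraInj 9 3) (.item (.contraInj 9 4) (.item (.contra 140357 140357 9) (.item (.force 1656 417816 10 13 (.branch 7 1926 1597446 (.item (.contraInj 7 1) (.item (.contraInj 7 2) (.item (.contraInj 7 10) (.item (.contraInj 7 9) (.item (.contra 49364 1184276 7) (.item (.force 1926 1597446 8 19 (.branch 11 6246 491526 (.item (.contraInj 11 1) (.item (.contraInj 11 2) (.item (.contra 27808 1385984 11) (.item (.force 6246 491526 12 15 (.branch 13 27808 1385984 (.item (.contra 43532 87052 13) (.item (.force 27808 1385984 14 9 (.force 43532 87052 15 12 (.force 73930 1182730 16 11 (.force 140357 140357 17 6 (.force 272643 590883 18 5 (.force 533137 1066257 19 8 (.force 1060905 296073 20 7 RCert.leaf))))))) (.item (.contraInj 13 10) (.item (.contraInj 13 11) (.item (.contraInj 13 5) (.item (.contraInj 13 7) RCert.done)))))))) (.item (.contraInj 11 6) (.item (.contraInj 11 5) RCert.done)))))))) RCert.done)))))))) (.item (.contraInj 9 6) (.item (.contraInj 9 5) RCert.done)))))))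

def rc87 : RCert := (.item (.contra 6246 491526 6) (.item (.contra 6246 491526 6) (.item (.contraInj 6 5) (.item (.branch 9 1656 417816 (.item (.contraInj 9 3) (.item (.contraInj 9 4) (.item (.force 1656 417816 10 14 (.branch 7 1926 1597446 (.item (.contraInj 7 1) (.item (.contraInj 7 2) (.item (.contraInj 7 9) (.item (.contraInj 7 10) (.item (.force 1926 1597446 8 20 (.branch 11 6246 491526 (.item (.contraInj 11 1) (.item (.contraInj 11 2) (.item (.force 6246 491526 12 16 (.branch 13 27808 706048 (.item (.force 27808 706048 14 10 (.force 43532 43532 15 11 (.force 73930 791050 16 12 (.force 140357 279077 17 5 (.force 272643 1081923 18 6 (.force 533137 533137 19 7 (.force 1060905 197385 20 8 RCert.leaf))))))) (.item (.contra 43532 43532 13) (.item (.contraInj 13 10) (.item (.contraInj 13 11) (.item (.contraInj 13 5) (.item (.contraInj 13 7) RCert.done)))))))) (.item (.contra 27808 706048 11) (.item (.contraInj 11 5) (.item (.contraInj 11 6) RCert.done)))))))) (.item (.contra 49364 789524 7) RCert.done)))))))) (.item (.contra 140357 279077 9) (.item (.contraInj 9 5) (.item (.contraInj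 9 6) RCert.done))))))) RCert.done))))

def rc88 : RCert := (.item (.contraInj 9 4) (.item (.contraInj 9 6) (.item (.contraInj 9 5) (.item (.contra 140357 561413 9) (.item (.force 1656 1671192 10 19 (.branch 7 1926 1597446 (.item (.contraInj 7 1) (.item (.contraInj 7 2) (.item (.contra 49364 49364 7) (.item (.force 1926 1597446 8 13 (.branch 11 6246 491526 (.item (.contraInj 11 1) (.item (.contraInj 11 2) (.item (.contraInj 11 6) (.item (.contraInj 11 5) (.item (.contra 27808 868736 11) (.item (.force 6246 491526 12 17 (.branch 13 27808 868736 (.item (.contra 43532 1311052 13) (.item (.force 27808 868736 14 7 (.force 43532 1311052 15 6 (.force 73930 49450 16 5 (.force 140357 561413 17 12 (.force 272643 272643 18 11 (.force 533137 1066257 19 10 (.force 1060905 197385 20 9 RCert.leaf))))))) (.item (.contraInj 13 7) (.item (.contraInj 13 5) (.item (.contraInj 13 11) (.item (.contraInj 13 10) RCert.done)))))))) RCert.done)))))))) (.item (.contraInj 7 10) (.item (.contraInj 7 9) RCert.done)))))))) RCert.done)))))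

def rc89 : RCert := (.item (.contraInj 6 5) (.item (.branch 9 1656 1671192 (.item (.contraInj 9 3) (.item (.contraInj 9 4) (.item (.contraInj 9 5) (.item (.contraInj 9 6) (.item (.force 1656 1671192 10 20 (.branch 7 1926 1597446 (.item (.contraInj 7 1) (.item (.contraInj 7 2) (.item (.force 1926 1597446 8 14 (.branch 11 6246 491526 (.item (.contraInj 11 1) (.item (.contraInj 11 2) (.item (.contraInj 11 5) (.item (.contraInj 11 6) (.item (.force 6246 491526 12 18 (.branch 13 27808 1220992 (.item (.force 27808 1220992 14 8 (.force 43532 655532 15 5 (.force 73930 73930 16 6 (.force 140357 1116293 17 11 (.force 272643 151683 18 12 (.force 533137 533137 19 9 (.force 1060905 296073 20 10 RCert.leaf))))))) (.item (.contra 43532 655532 13) (.item (.contraInj 13 7) (.item (.contraInj 13 5) (.item (.contraInj 13 11) (.item (.contraInj 13 10) RCert.done)))))))) (.item (.contra 27808 1220992 11) RCert.done)))))))) (.item (.contra 49364 74036 7) (.item (.contraInj 7 9) (.item (.contraInj 7 10) RCert.done)))))))) (.item (.contra 140357 1116293 9) RCert.done))))))) (.item (.contra 6246 491526 6)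 (.item (.contra 6246 491526 6) RCert.done))))

def rc90 : RCert := (.item (.contraInj 9 4) (.item (.contraInj 9 6) (.item (.contraInj 9 5) (.item (.contra 140357 140357 9) (.item (.force 1656 417816 10 17 (.branch 7 1926 491526 (.item (.contraInj 7 1) (.item (.contraInj 7 2) (.item (.contra 49364 74036 7) (.item (.force 1926 491526 8 15 (.branch 11 6246 1597446 (.item (.contraInj 11 1) (.item (.contraInj 11 2) (.item (.contraInj 11 6) (.item (.contraInj 11 5) (.item (.contra 27808 1261664 11) (.item (.force 6246 1597446 12 19 (.branch 13 27808 1261664 (.item (.contra 43532 1311052 13) (.item (.force 27808 1261664 14 5 (.force 43532 1311052 15 8 (.force 73930 73930 16 7 (.force 140357 140357 17 10 (.force 272643 1081923 18 9 (.force 533137 331857 19 12 (.force 1060905 542793 20 11 RCert.leaf))))))) (.item (.contraInj 13 5) (.item (.contraInj 13 7) (.item (.contraInj 13 10) (.item (.contraInj 13 11) RCert.done)))))))) RCert.done)))))))) (.item (.contraInj 7 10) (.item (.contraInj 7 9) RCert.done)))))))) RCert.done)))))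

def rc91 : RCert := (.item (.contraInj 6 5) (.item (.branch 9 1656 417816 (.item (.contraInj 9 3) (.item (.contraInj 9 4) (.item (.contraInj 9 5) (.item (.contraInj 9 6) (.item (.force 1656 417816 10 18 (.branch 7 1926 491526 (.item (.contraInj 7 1) (.item (.contraInj 7 2) (.item (.force 1926 491526 8 16 (.branch 11 6246 1597446 (.item (.contraInj 11 1) (.item (.contraInj 11 2) (.item (.contraInj 11 5) (.item (.contraInj 11 6) (.item (.force 6246 1597446 12 20 (.branch 13 27808 827488 (.item (.force 27808 827488 14 6 (.force 43532 655532 15 7 (.force 73930 49450 16 8 (.force 140357 279077 17 9 (.force 272643 590883 18 10 (.force 533137 165937 19 11 (.force 1060905 1060905 20 12 RCert.leaf))))))) (.item (.contra 43532 655532 13) (.item (.contraInj 13 5) (.item (.contraInj 13 7) (.item (.contraInj 13 10) (.item (.contraInj 13 11) RCert.done)))))))) (.item (.contra 27808 827488 11) RCert.done)))))))) (.item (.contra 49364 49364 7) (.item (.contraInj 7 9) (.item (.contraInj 7 10) RCert.done)))))))) (.item (.contra 140357 279077 9) RCert.done))))))) (.item (.contra 6246 1597446 6) (.item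 (.contra 6246 1597446 6) RCert.done))))

def rc92 : RCert := (.item (.force 1656 6552 10 7 (.branch 7 1926 1926 (.item (.contraInj 7 1) (.item (.contraInj 7 2) (.item (.contraInj 7 10) (.item (.contraInj 7 9) (.item (.contra 49364 789524 7) (.item (.force 1926 1926 8 9 (.branch 11 6246 6246 (.item (.contraInj 11 1) (.item (.contraInj 11 2) (.item (.contra 27808 1578176 11) (.item (.force 6246 6246 12 5 (.branch 13 27808 1578176 (.item (.contraInj 13 11) (.item (.contraInj 13 10) (.item (.contraInj 13 7) (.item (.contraInj 13 5) (.item (.contra 43532 1311052 13) (.item (.force 27808 1578176 14 19 (.force 43532 1311052 15 18 (.force 73930 1182730 16 17 (.force 140357 1116293 17 16 (.force 272643 1081923 18 15 (.force 533137 1066257 19 14 (.force 1060905 1060905 20 13 RCert.leaf))))))) RCert.done)))))))) (.item (.contraInj 11 6) (.item (.contraInj 11 5) RCert.done)))))))) RCert.done)))))))) (.item (.contraInj 9 6) (.item (.contraInj 9 5) RCert.done)))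

def rc93 : RCert := (.branch 9 1656 6552 (.item (.contraInj 9 3) (.item (.contraInj 9 4) (.item (.force 1656 6552 10 8 (.branch 7 1926 1926 (.item (.contraInj 7 1) (.item (.contraInj 7 2) (.item (.contraInj 7 9) (.item (.contraInj 7 10) (.item (.force 1926 1926 8 10 (.branch 11 6246 6246 (.item (.contraInj 11 1) (.item (.contraInj 11 2) (.item (.force 6246 6246 12 6 (.branch 13 27808 1575712 (.item (.contraInj 13 11) (.item (.contraInj 13 10) (.item (.contraInj 13 7) (.item (.contraInj 13 5) (.item (.force 27808 1575712 14 20 (.force 43532 655532 15 17 (.force 73930 791050 16 18 (.force 140357 561413 17 15 (.force 272643 590883 18 16 (.force 533137 533137 19 13 (.force 1060905 542793 20 14 RCert.leaf))))))) (.item (.contra 43532 655532 13) RCert.done)))))))) (.item (.contra 27808 1575712 11) (.item (.contraInj 11 5) (.item (.contraInj 11 6) RCert.done)))))))) (.item (.contra 49364 1184276 7) RCert.done)))))))) (.item (.contra 140357 561413 9) (.item (.contraInj 9 5) (.item (.contraInj 9 6) RCert.done)))))))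

def rc94 : RCert := (.item (.force 1656 1656 10 5 (.branch 7 1926 6246 (.item (.contraInj 7 1) (.item (.contraInj 7 2) (.item (.contraInj 7 10) (.item (.contraInj 7 9) (.item (.contra 49364 1184276 7) (.item (.force 1926 6246 8 11 (.branch 11 6246 1926 (.item (.contraInj 11 1) (.item (.contraInj 11 2) (.item (.contra 27808 398624 11) (.item (.force 6246 1926 12 7 (.branch 13 27808 398624 (.item (.contraInj 13 10) (.item (.contraInj 13 11) (.item (.contraInj 13 5) (.item (.contraInj 13 7) (.item (.contra 43532 1311052 13) (.item (.force 27808 398624 14 17 (.force 43532 1311052 15 20 (.force 73930 791050 16 19 (.force 140357 279077 17 14 (.force 272643 272643 18 13 (.force 533137 331857 19 16 (.force 1060905 296073 20 15 RCert.leaf))))))) RCert.done)))))))) (.item (.contraInj 11 6) (.item (.contraInj 11 5) RCert.done)))))))) RCert.done)))))))) (.item (.contraInj 9 6) (.item (.contraInj 9 5) RCert.done)))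

def rc95 : RCert := (.branch 9 1656 1656 (.item (.contraInj 9 3) (.item (.contraInj 9 4) (.item (.force 1656 1656 10 6 (.branch 7 1926 6246 (.item (.contraInj 7 1) (.item (.contraInj 7 2) (.item (.contraInj 7 9) (.item (.contraInj 7 10) (.item (.force 1926 6246 8 12 (.branch 11 6246 1926 (.item (.contraInj 11 1) (.item (.contraInj 11 2) (.item (.force 6246 1926 12 8 (.branch 13 27808 395968 (.item (.contraInj 13 10) (.item (.contraInj 13 11) (.item (.contraInj 13 5) (.item (.contraInj 13 7) (.item (.force 27808 395968 14 18 (.force 43532 655532 15 19 (.force 73930 1182730 16 20 (.force 140357 140357 17 13 (.force 272643 151683 18 14 (.force 533137 165937 19 15 (.force 1060905 197385 20 16 RCert.leaf))))))) (.item (.contra 43532 655532 13) RCert.done)))))))) (.item (.contra 27808 395968 11) (.item (.contraInj 11 5) (.item (.contraInj 11 6) RCert.done)))))))) (.item (.contra 49364 789524 7) RCert.done)))))))) (.item (.contra 140357 140357 9) (.item (.contraInj 9 5) (.item (.contraInj 9 6) RCert.done)))))))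

def rc96 : RCert := (.item (.force 1656 6552 10 11 (.branch 7 1926 6246 (.item (.contraInj 7 1) (.item (.contraInj 7 2) (.item (.contra 49364 49364 7) (.item (.force 1926 6246 8 5 (.branch 11 6246 1926 (.item (.contraInj 11 1) (.item (.contraInj 11 2) (.item (.contraInj 11 6) (.item (.contraInj 11 5) (.item (.contra 27808 101696 11) (.item (.force 6246 1926 12 9 (.branch 13 27808 101696 (.item (.contraInj 13 7) (.item (.contraInj 13 5) (.item (.contraInj 13 11) (.item (.contraInj 13 10) (.item (.contra 43532 87052 13) (.item (.force 27808 101696 14 15 (.force 43532 87052 15 14 (.force 73930 73930 16 13 (.force 140357 1116293 17 20 (.force 272643 590883 18 19 (.force 533137 331857 19 18 (.force 1060905 197385 20 17 RCert.leaf))))))) RCert.done)))))))) RCert.done)))))))) (.item (.contraInj 7 10) (.item (.contraInj 7 9) RCert.done)))))))) RCert.done)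

def rc97 : RCert := (.item (.contraInj 9 4) (.item (.contraInj 9 5) (.item (.contraInj 9 6) (.item (.force 1656 6552 10 12 (.branch 7 1926 6246 (.item (.contraInj 7 1) (.item (.contraInj 7 2) (.item (.force 1926 6246 8 6 (.branch 11 6246 1926 (.item (.contraInj 11 1) (.item (.contraInj 11 2) (.item (.contraInj 11 5) (.item (.contraInj 11 6) (.item (.force 6246 1926 12 10 (.branch 13 27808 103072 (.item (.contraInj 13 7) (.item (.contraInj 13 5) (.item (.contraInj 13 11) (.item (.contraInj 13 10) (.item (.force 27808 103072 14 16 (.force 43532 43532 15 13 (.force 73930 49450 16 14 (.force 140357 561413 17 19 (.force 272643 1081923 18 20 (.force 533137 165937 19 17 (.force 1060905 296073 20 18 RCert.leaf))))))) (.item (.contra 43532 43532 13) RCert.done)))))))) (.item (.contra 27808 103072 11) RCert.done)))))))) (.item (.contra 49364 74036 7) (.item (.contraInj 7 9) (.item (.contraInj 7 10) RCert.done)))))))) (.item (.contra 140357 561413 9) RCert.done)))))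

def rc98 : RCert := (.item (.force 1656 1656 10 9 (.branch 7 1926 1926 (.item (.contraInj 7 1) (.item (.contraInj 7 2) (.item (.contra 49364 74036 7) (.item (.force 1926 1926 8 7 (.branch 11 6246 6246 (.item (.contraInj 11 1) (.item (.contraInj 11 2) (.item (.contraInj 11 6) (.item (.contraInj 11 5) (.item (.contra 27808 29504 11) (.item (.force 6246 6246 12 11 (.branch 13 27808 29504 (.item (.contraInj 13 5) (.item (.contraInj 13 7) (.item (.contraInj 13 10) (.item (.contraInj 13 11) (.item (.contra 43532 87052 13) (.item (.force 27808 29504 14 13 (.force 43532 87052 15 16 (.force 73930 49450 16 15 (.force 140357 279077 17 18 (.force 272643 151683 18 17 (.force 533137 1066257 19 20 (.force 1060905 542793 20 19 RCert.leaf))))))) RCert.done)))))))) RCert.done)))))))) (.item (.contraInj 7 10) (.item (.contraInj 7 9) RCert.done)))))))) RCert.done)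

def rc99 : RCert := (.item (.contraInj 9 4) (.item (.contraInj 9 5) (.item (.contraInj 9 6) (.item (.force 1656 1656 10 10 (.branch 7 1926 1926 (.item (.contraInj 7 1) (.item (.contraInj 7 2) (.item (.force 1926 1926 8 8 (.branch 11 6246 6246 (.item (.contraInj 11 1) (.item (.contraInj 11 2) (.item (.contraInj 11 5) (.item (.contraInj 11 6) (.item (.force 6246 6246 12 12 (.branch 13 27808 27808 (.item (.contraInj 13 5) (.item (.contraInj 13 7) (.item (.contraInj 13 10) (.item (.contraInj 13 11) (.item (.force 27808 27808 14 14 (.force 43532 43532 15 15 (.force 73930 73930 16 16 (.force 140357 140357 17 17 (.force 272643 272643 18 18 (.force 533137 533137 19 19 (.force 1060905 1060905 20 20 RCert.leaf))))))) (.item (.contra 43532 43532 13) RCert.done)))))))) (.item (.contra 27808 27808 11) RCert.done)))))))) (.item (.contra 49364 49364 7) (.item (.contraInj 7 9) (.item (.contraInj 7 10) RCert.done)))))))) (.item (.contra 140357 140357 9) RCert.done)))))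

def rc100 : RCert := (.force 2097183 2097183 21 21 (.branch 5 0 0 (.item (.contraInj 5 0) (.item (.contraInj 5 1) (.item (.contraInj 5 2) (.item (.contraInj 5 3) (.item (.contraInj 5 4) (.item (.branch 6 1656 1656 (.item (.contraInj 6 3) (.item (.contraInj 6 4) (.item (.contraInj 6 5) (.item (.branch 9 1656 1656 (.item (.contraInj 9 3) rc99)) (.item (.contra 6246 6246 6) (.item (.contra 6246 6246 6) RCert.done))))))) (.item (.branch 6 1656 1656 (.item (.contraInj 6 3) (.item (.contraInj 6 4) (.item (.branch 9 1656 1656 (.item (.contraInj 9 3) (.item (.contraInj 9 4) (.item (.contraInj 9 6) (.item (.contraInj 9 5) (.item (.contra 140357 279077 9) rc98)))))) (.item (.contraInj 6 5) (.item (.contra 6246 6246 6) (.item (.contra 6246 6246 6) RCert.done))))))) (.item (.branch 6 1656 6552 (.item (.contraInj 6 3) (.item (.contraInj 6 4) (.item (.contraInj 6 5) (.item (.branch 9 1656 6552 (.item (.contraInj 9 3) rc97)) (.item (.contra 6246 1926 6) (.item (.contra 6246 1926 6) RCert.done))))))) (.item (.branch 6 1656 6552 (.item (.contraInj 6 3) (.item (.contraInj 6 4) (.item (.branch 9 1656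 6552 (.item (.contraInj 9 3) (.item (.contraInj 9 4) (.item (.contraInj 9 6) (.item (.contraInj 9 5) (.item (.contra 140357 1116293 9) rc96)))))) (.item (.contraInj 6 5) (.item (.contra 6246 1926 6) (.item (.contra 6246 1926 6) RCert.done))))))) (.item (.branch 6 1656 1656 (.item (.contraInj 6 3) (.item (.contraInj 6 4) (.item (.contra 6246 1926 6) (.item (.contra 6246 1926 6) (.item (.contraInj 6 5) (.item rc95 RCert.done))))))) (.item (.branch 6 1656 1656 (.item (.contraInj 6 3) (.item (.contraInj 6 4) (.item (.contra 6246 1926 6) (.item (.contra 6246 1926 6) (.item (.branch 9 1656 1656 (.item (.contraInj 9 3) (.item (.contraInj 9 4) (.item (.contra 140357 279077 9) rc94)))) (.item (.contraInj 6 5) RCert.done))))))) (.item (.branch 6 1656 6552 (.item (.contraInj 6 3) (.item (.contraInj 6 4) (.item (.contra 6246 6246 6) (.item (.contra 6246 6246 6) (.item (.contraInj 6 5) (.item rc93 RCert.done))))))) (.item (.branch 6 1656 6552 (.item (.contraInj 6 3) (.item (.contraInj 6 4) (.item (.contra 6246 6246 6) (.item (.contra 6246 6246 6) (.item (.branch 9 1656 6552 (.item (.contraInj 9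 3) (.item (.contraInj 9 4) (.item (.contra 140357 1116293 9) rc92)))) (.item (.contraInj 6 5) RCert.done))))))) (.item (.branch 6 1656 417816 (.item (.contraInj 6 3) (.item (.contraInj 6 4) rc91))) (.item (.branch 6 1656 417816 (.item (.contraInj 6 3) (.item (.contraInj 6 4) (.item (.branch 9 1656 417816 (.item (.contraInj 9 3) rc90)) (.item (.contraInj 6 5) (.item (.contra 6246 1597446 6) (.item (.contra 6246 1597446 6) RCert.done))))))) (.item (.branch 6 1656 1671192 (.item (.contraInj 6 3) (.item (.contraInj 6 4) rc89))) (.item (.branch 6 1656 1671192 (.item (.contraInj 6 3) (.item (.contraInj 6 4) (.item (.branch 9 1656 1671192 (.item (.contraInj 9 3) rc88)) (.item (.contraInj 6 5) (.item (.contra 6246 491526 6) (.item (.contra 6246 491526 6) RCert.done))))))) (.item (.branch 6 1656 417816 (.item (.contraInj 6 3) (.item (.contraInj 6 4) rc87))) (.item (.branch 6 1656 417816 (.item (.contraInj 6 3) (.item (.contraInj 6 4) (.item (.contra 6246 491526 6) (.item (.contra 6246 491526 6) (.item rc86 (.item (.contraInj 6 5) RCert.done))))))) (.item (.branch 6 1656 1671192 (.item (.contraInj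 6 3) (.item (.contraInj 6 4) rc85))) (.item (.branch 6 1656 1671192 (.item (.contraInj 6 3) (.item (.contraInj 6 4) (.item (.contra 6246 1597446 6) (.item (.contra 6246 1597446 6) (.item rc84 (.item (.contraInj 6 5) RCert.done))))))) (.item (.contraInj 5 21) RCert.done))))))))))))))))))))))))

def rc101 : RCert := (.item (.contraInj 4 0) (.item (.contraInj 4 1) (.item (.contraInj 4 2) (.item (.contraInj 4 3) (.item rc100 (.item (.force 2097183 2097183 21 4 (.branch 5 0 0 (.item (.contraInj 5 0) (.item (.contraInj 5 1) (.item (.contraInj 5 2) (.item (.contraInj 5 3) (.item (.contraInj 5 21) (.item (.branch 6 1656 2426920 (.item (.contraInj 6 3) (.item (.contraInj 6 5) (.item (.branch 9 1656 2426920 (.item (.contraInj 9 3) (.item (.contraInj 9 5) (.item (.contraInj 9 6) rc83)))) (.item (.contra 6246 6246 6) (.item (.contra 6246 6246 6) (.item (.contraInj 6 4) RCert.done))))))) (.item (.branch 6 1656 2265160 (.item (.contraInj 6 3) (.item (.contraInj 6 5) (.item (.branch 9 1656 2265160 (.item (.contraInj 9 3) (.item (.contraInj 9 5) (.item (.contraInj 9 6) rc82)))) (.item (.contra 6246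 6246 6) (.item (.contra 6246 6246 6) (.item (.contraInj 6 4) RCert.done))))))) (.item (.branch 6 1656 3162760 (.item (.contraInj 6 3) (.item (.contraInj 6 5) (.item (.branch 9 1656 3162760 (.item (.contraInj 9 3) (.item (.contraInj 9 5) rc81))) (.item (.contra 6246 1926 6) (.item (.contra 6246 1926 6) (.item (.contraInj 6 4) RCert.done))))))) (.item (.branch 6 1656 2630920 (.item (.contraInj 6 3) (.item (.contraInj 6 5) (.item (.branch 9 1656 2630920 (.item (.contraInj 9 3) (.item (.contraInj 9 5) rc80))) (.item (.contra 6246 1926 6) (.item (.contra 6246 1926 6) (.item (.contraInj 6 4) RCert.done))))))) (.item (.branch 6 1656 3162760 (.item (.contraInj 6 3) (.item (.branch 9 1656 3162760 rc79) (.item (.contraInj 6 5) (.item (.contra 6246 1926 6) (.item (.contra 6246 1926 6) (.item (.contraInj 6 4) RCert.done))))))) (.item (.branch 6 1656 2630920 (.item (.contraInj 6 3) (.item (.branch 9 1656 2630920 rc78) (.item (.contraInj 6 5) (.item (.contra 6246 1926 6) (.item (.contra 6246 1926 6) (.item (.contraInj 6 4) RCert.done))))))) (.item (.branch 6 1656 2426920 (.item (.contraInj 6 3)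 (.item rc77 (.item (.contraInj 6 5) (.item (.contra 6246 6246 6) (.item (.contra 6246 6246 6) (.item (.contraInj 6 4) RCert.done))))))) (.item (.branch 6 1656 2265160 (.item (.contraInj 6 3) (.item rc76 (.item (.contraInj 6 5) (.item (.contra 6246 6246 6) (.item (.contra 6246 6246 6) (.item (.contraInj 6 4) RCert.done))))))) (.item (.branch 6 1656 2630920 (.item (.contraInj 6 3) (.item (.contra 6246 1597446 6) (.item (.contra 6246 1597446 6) (.item (.contraInj 6 5) (.item rc75 (.item (.contraInj 6 4) RCert.done))))))) (.item (.branch 6 1656 3162760 (.item (.contraInj 6 3) (.item (.contra 6246 1597446 6) (.item (.contra 6246 1597446 6) (.item (.contraInj 6 5) (.item rc74 (.item (.contraInj 6 4) RCert.done))))))) (.item (.branch 6 1656 2265160 (.item (.contraInj 6 3) (.item (.contra 6246 491526 6) (.item (.contra 6246 491526 6) (.item (.contraInj 6 5) rc73))))) (.item (.branch 6 1656 2426920 (.item (.contraInj 6 3) (.item (.contra 6246 491526 6) (.item (.contra 6246 491526 6) (.item (.contraInj 6 5) rc72))))) (.item (.branch 6 1656 2265160 (.item (.contraInj 6 3) rc71)) (.item (.branch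 6 1656 2426920 (.item (.contraInj 6 3) rc70)) (.item (.branch 6 1656 2630920 rc69) (.item (.branch 6 1656 3162760 rc68) (.item (.contraInj 5 4) RCert.done)))))))))))))))))))))))) RCert.done))))))

def rcert : RCert := (.branch 3 2097183 2097183 (.item (.contraInj 3 0) (.item (.contraInj 3 1) (.item (.contraInj 3 2) (.item (.branch 4 2097183 2097183 rc101) (.item (.branch 4 2097183 2097183 (.item (.contraInj 4 0) rc67)) (.item (.branch 4 2097183 2097183 (.item (.contraInj 4 0) (.item (.contraInj 4 1) (.item (.contraInj 4 2) rc33)))) RCert.done)))))))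

def asg0 : List (ℕ × ℕ) := [(0, 0), (1, 1), (2, 2)]

theorem rcert_node : rcert.isNode = true := by decide +kernel

theorem rcert_ok : checkR 22 3 K0 rcert asg0 0 [] = true := by decide +kernel

theorem rcert_len : (leavesR 22 rcert asg0 0 []).length = 96 := by decide +kernel

/-- an automorphism of the standard system that is an odd permutation -/
def sig0 : List ℕ := [0, 1, 2, 4, 3, 5, 6, 8, 7, 9, 10, 12, 11, 17, 18, 20, 19, 13, 14, 16, 15, 21]

def g0 : Equiv.Perm (Fin 22) :=
  Equiv.swap 3 4 * Equiv.swap 7 8 * Equiv.swap 11 12 * Equiv.swap 13 17 * Equiv.swap 14 18 * Equiv.swap 15 20 * Equiv.swap 16 19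

theorem sig0_ok : permOk 22 sig0 = true := by decide +kernel

theorem g0_apply : ∀ i : Fin 22, ((g0 i : Fin 22) : ℕ) = sig0.getD i 0 := by decide

theorem sig0_aut : K0.all (fun m => K0.contains (permMask sig0 m)) = true := by decide +kernel

theorem g0_sign : Equiv.Perm.sign g0 = -1 := by
  rw [g0]
  simp only [map_mul, Equiv.Perm.sign_swap']
  decide

end Cfsg.Agent.Lib.Helper1.Stein.W22
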