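import Cfsg.Agent.Lib.Helper1.SteinAut7
import Cfsg.Agent.Lib.Helper1.SteinAut5
import Cfsg.Agent.Lib.Helper1.SteinR22
import Cfsg.Agent.S0363
import Cfsg.Agent.S0366
import Cfsg.Agent.S0378
import Cfsg.Agent.S0379
import Cfsg.Prelude.Def_Sporadic

set_option autoImplicit false
set_option linter.unusedSectionVars false

namespace Cfsg.Agent.Lib.Helper1.Stein

open Cfsg
open scoped Pointwise

variable (p q : GolayPt) (hqp : q ≠ p)

/-- the stabilizer of two points -/
abbrev M22g : Subgroup Cfsg.M24 :=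
  MulAction.stabilizer Cfsg.M24 p ⊓ MulAction.stabilizer Cfsg.M24 q

/-- the twice derived system of the octads -/
abbrev Dpq : Set (Finset {x : {a : GolayPt // a ≠ p} // x ≠ ⟨q, hqp⟩}) :=
  derivedSys (derivedSys Cfsg.octads p) (⟨q, hqp⟩ : {a : GolayPt // a ≠ p})

theorem m22_fix_p (g : M22g p q) : ((g : Cfsg.M24) : Equiv.Perm GolayPt) p = p := by
  have h1 : (g : Cfsg.M24) ∈ MulAction.stabilizer Cfsg.M24 p := (Subgroup.mem_inf.1 g.2).1
  rw [MulAction.mem_stabilizer_iff] at h1
  exact h1

theorem m22_fix_q (g : M22g p q) : ((g : Cfsg.M24) : Equiv.Perm GolayPt) q = q := by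
  have h1 : (g : Cfsg.M24) ∈ MulAction.stabilizer Cfsg.M24 q := (Subgroup.mem_inf.1 g.2).2
  rw [MulAction.mem_stabilizer_iff] at h1
  exact h1

/-- first step: the stabilizer of `p` in the automorphism group of the octads -/
def m22s1 (g : M22g p q) : MulAction.stabilizer (setSystemAut Cfsg.octads) p :=
  ⟨⟨g.1.1, M24_le_aut g.1.2⟩, by
    rw [MulAction.mem_stabilizer_iff]
    exact m22_fix_p p q g⟩

theorem m22s2_mem (g : M22g p q) :
    restrictHom Cfsg.octads p (m22s1 p q g) ∈
      MulAction.stabilizer (setSystemAut (derivedSys Cfsg.octads p))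
        (⟨q, hqp⟩ : {a : GolayPt // a ≠ p}) := by
  rw [MulAction.mem_stabilizer_iff]
  apply Subtype.ext
  exact m22_fix_q p q g

/-- the stabilizer of two points acts on the twice derived system -/
def rho22 : M22g p q →* setSystemAut (Dpq p q hqp) where
  toFun g := restrictHom _ _ ⟨restrictHom Cfsg.octads p (m22s1 p q g), m22s2_mem p q hqp g⟩
  map_one' := by
    apply Subtype.ext
    ext x
    rfl
  map_mul' g h := by
    apply Subtype.ext
    ext x
    rfl

theorem rho22_apply (g : M22g p q) (x : {x : {a : GolayPt // a ≠ p} // x ≠ ⟨q, hqp⟩}) :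
    (((((rho22 p q hqp g : setSystemAut (Dpq p q hqp)) : Equiv.Perm _) x :
      {x : {a : GolayPt // a ≠ p} // x ≠ ⟨q, hqp⟩}) : {a : GolayPt // a ≠ p}) : GolayPt) =
      ((g : Cfsg.M24) : Equiv.Perm GolayPt) x := rfl

theorem rho22_injective : Function.Injective (rho22 p q hqp) := by
  intro g g' hgg'
  apply Subtype.ext
  apply Subtype.ext
  apply Equiv.ext
  intro x
  by_cases hxp : x = p
  · rw [hxp, m22_fix_p p q g, m22_fix_p p q g']
  · by_cases hxq : (⟨x, hxp⟩ : {a : GolayPt // a ≠ p}) = ⟨q, hqp⟩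
    · have : x = q := congrArg Subtype.val hxq
      rw [this, m22_fix_q p q g, m22_fix_q p q g']
    · have e1 := rho22_apply p q hqp g ⟨⟨x, hxp⟩, hxq⟩
      have e2 := rho22_apply p q hqp g' ⟨⟨x, hxp⟩, hxq⟩
      rw [hgg'] at e1
      rw [← e1, ← e2]

theorem aut_octads_five : MulAction.IsMultiplyPretransitive (setSystemAut Cfsg.octads) GolayPt 5 := by
  rw [← Cfsg.Agent.S0369.result]; exact Cfsg.Agent.S0366.result

theorem card_golayPt : Fintype.card GolayPt = 24 := by simp [GolayPt]

theorem dpq_steiner : IsSteinerSystem 3 6 (Dpq p q hqp) :=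
  derived_steiner (derived_steiner Cfsg.Agent.S0363.result p) _

theorem dpq_card : Fintype.card {x : {a : GolayPt // a ≠ p} // x ≠ ⟨q, hqp⟩} = 22 :=
  card_subtype_ne' (card_subtype_ne' card_golayPt p) _

theorem dpq_trans : MulAction.IsMultiplyPretransitive (setSystemAut (Dpq p q hqp))
    {x : {a : GolayPt // a ≠ p} // x ≠ ⟨q, hqp⟩} 3 :=
  derived_pretransitive _ _ 3 (derived_pretransitive _ p 4 aut_octads_five)

theorem W22_asg0 : W22.asg0 = idAsg 3 := by decide

theorem g0_aut : ∀ b ∈ sysOf 22 W22.K0, b.image W22.g0 ∈ sysOf 22 W22.K0 := by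
  have heq : W22.g0 = permOf W22.sig0 W22.sig0_ok := by
    ext i
    rw [permOf_apply W22.sig0 W22.sig0_ok i (by rw [length_of_permOk _ W22.sig0_ok]; exact i.2),
      W22.g0_apply i]
    rw [List.getD_eq_getElem?_getD, List.getElem?_eq_getElem
      (by rw [length_of_permOk _ W22.sig0_ok]; exact i.2)]
    rfl
  rintro _ ⟨m, hm, rfl⟩
  rw [heq, image_permOf]
  have h1 := W22.sig0_aut
  rw [List.all_eq_true] at h1
  have h2 := h1 m hm
  rw [List.contains_iff_mem] at h2
  exact ⟨_, h2, rfl⟩

/-- the automorphism group of the twice derived system: order, transitivity, and a simple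
subgroup of index two -/
theorem model22 : Nat.card (setSystemAut (Dpq p q hqp)) = 887040 ∧
    MulAction.IsMultiplyPretransitive (setSystemAut (Dpq p q hqp))
      {x : {a : GolayPt // a ≠ p} // x ≠ ⟨q, hqp⟩} 3 ∧
    ∃ H : Subgroup (setSystemAut (Dpq p q hqp)), H.index = 2 ∧ IsM22 H := by
  have hD := dpq_steiner p q hqp
  obtain ⟨e2, he2⟩ := W22.unique (dpq_card p q hqp) hD
  change mapSys e2 _ = sysOf 22 W22.K0 at he2
  have hS : IsSteinerSystem 3 6 (sysOf 22 W22.K0) := he2 ▸ steiner_map 3 6 e2 hD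
  have htr := dpq_trans p q hqp
  have htr0 : MulAction.IsMultiplyPretransitive (setSystemAut (sysOf 22 W22.K0)) (Fin 22) 3 := by
    rw [← he2]; exact pretransitive_congr e2 _ 3 htr
  have hle0 := card_aut_le hS (by norm_num) W22.rcert W22.rcert_node
    (by rw [← W22_asg0]; exact W22.rcert_ok) htr0
  rw [← W22_asg0, W22.rcert_len] at hle0
  have hle : Nat.card (setSystemAut (Dpq p q hqp)) ≤ 2 * 443520 := by
    rw [Nat.card_congr (autCongr e2 (Dpq p q hqp)).toEquiv, he2]
    refine hle0.trans ?_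
    decide
  have hinj := rho22_injective p q hqp
  set H : Subgroup (setSystemAut (Dpq p q hqp)) := (rho22 p q hqp).range with hH
  have hMcard : Nat.card (M22g p q) = 443520 := Cfsg.Agent.S0378.result p q hqp.symm
  have hMsimple : IsSimpleGroup (M22g p q) := Cfsg.Agent.S0379.result p q hqp.symm
  have hHcard : Nat.card H = 443520 := by
    rw [← Nat.card_congr (MonoidHom.ofInjective hinj).toEquiv]; exact hMcard
  -- the elements of `H` are even
  have heven : ∀ h ∈ H, Equiv.Perm.sign h.1 = 1 := by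
    rintro _ ⟨m, rfl⟩
    exact hom_trivial_of_simple (by rw [hMcard]; norm_num)
      ((Equiv.Perm.sign.comp (Subgroup.subtype _)).comp (rho22 p q hqp)) m
  -- an odd automorphism
  have hDeq : mapSys e2.symm (sysOf 22 W22.K0) = Dpq p q hqp := by
    rw [← he2, mapSys_symm_self]
  have hodd_mem : e2.symm.permCongr W22.g0 ∈ setSystemAut (Dpq p q hqp) := by
    have := permCongr_mem e2.symm (sysOf 22 W22.K0) W22.g0
      ((mem_setSystemAut_iff _ _).2 g0_aut)
    rw [hDeq] at this
    exact this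
  have hodd : Equiv.Perm.sign (e2.symm.permCongr W22.g0) = -1 := by
    rw [Equiv.Perm.sign_permCongr]; exact W22.g0_sign
  have hne : H ≠ ⊤ := by
    intro htop
    have h1 : (⟨_, hodd_mem⟩ : setSystemAut (Dpq p q hqp)) ∈ H := by rw [htop]; trivial
    have h2 := heven _ h1
    rw [hodd] at h2
    exact absurd h2 (by decide)
  obtain ⟨hcard, hindex⟩ := card_of_bounds H (by norm_num) hHcard hne hle
  refine ⟨hcard, htr, H, hindex, ?_, hHcard⟩
  exact (MonoidHom.ofInjective hinj).symm.isSimpleGroup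

end Cfsg.Agent.Lib.Helper1.Stein
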