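import Cfsg.Agent.Lib.Helper1.HSGraph5
import Cfsg.Agent.S0414
import Cfsg.Agent.S1586

/-!
# The even automorphisms of the graph on 100 vertices: transitivity
-/

set_option autoImplicit false
set_option linter.unusedSectionVars false

namespace Cfsg.Agent.Lib.Helper1.HSG

open Cfsg Cfsg.Agent.Lib.Helper1.Stein MulAction
open scoped Pointwise

variable {α : Type*} [Fintype α] [DecidableEq α] (B : Set (Finset α))

theorem card_blocks_22 (hα : Fintype.card α = 22) (hB : IsSteinerSystem 3 6 B) :
    B.ncard = 77 := by
  classical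
  have := card_blocks hB B.toFinset (fun b => Set.mem_toFinset)
  rw [hα] at this
  have h20 : Nat.choose 6 3 = 20 := by decide
  have h1540 : Nat.choose 22 3 = 1540 := by decide
  rw [h20, h1540] at this
  rw [Set.ncard_eq_toFinset_card']
  omega

theorem aut_blocks_trans (hB : IsSteinerSystem 3 6 B)
    (h3 : IsMultiplyPretransitive (setSystemAut B) α 3) (b b' : Finset α) (hb : b ∈ B)
    (hb' : b' ∈ B) : ∃ g : setSystemAut B, b.image (g : Equiv.Perm α) = b' := by
  have hb6 := hB.1 b hb
  have hb6' := hB.1 b' hb'
  obtain ⟨x0⟩ : Nonempty (Fin 3 ↪ {p : α // p ∈ b}) :=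
    Function.Embedding.nonempty_of_card_le (by
      rw [Fintype.card_fin, Fintype.card_coe, hb6]; norm_num)
  obtain ⟨y0⟩ : Nonempty (Fin 3 ↪ {p : α // p ∈ b'}) :=
    Function.Embedding.nonempty_of_card_le (by
      rw [Fintype.card_fin, Fintype.card_coe, hb6']; norm_num)
  let x : Fin 3 ↪ α := x0.trans (Function.Embedding.subtype _)
  let y : Fin 3 ↪ α := y0.trans (Function.Embedding.subtype _)
  rw [MulAction.isMultiplyPretransitive_iff] at h3
  obtain ⟨g, hg⟩ := h3 x y
  refine ⟨g, ?_⟩
  have hgb : b.image (g : Equiv.Perm α) ∈ B := (mem_setSystemAut_iff B g.1).1 g.2 b hb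
  apply block_unique hB hgb hb'
  have hsub : (Finset.univ.image y) ⊆ b.image (g : Equiv.Perm α) ∩ b' := by
    intro z hz
    rw [Finset.mem_image] at hz
    obtain ⟨i, -, rfl⟩ := hz
    rw [Finset.mem_inter]
    constructor
    · rw [Finset.mem_image]
      refine ⟨x i, (x0 i).2, ?_⟩
      have := DFunLike.congr_fun hg i
      exact this
    · exact (y0 i).2
  calc 3 = (Finset.univ.image y).card := by
        rw [Finset.card_image_of_injective _ y.injective, Finset.card_univ, Fintype.card_fin]
    _ ≤ _ := Finset.card_le_card hsub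

theorem smul_eq_image (g : setSystemAut B) (b : Finset α) :
    g • b = b.image (g : Equiv.Perm α) := smul_finset_eq_image (g : Equiv.Perm α) b

/-- a subgroup of index two of the automorphism group of the system is transitive on blocks -/
theorem index_two_blocks_trans (hα : Fintype.card α = 22) (hB : IsSteinerSystem 3 6 B)
    (h3 : IsMultiplyPretransitive (setSystemAut B) α 3) (K : Subgroup (setSystemAut B))
    (hK : K.index = 2) (b b' : Finset α) (hb : b ∈ B) (hb' : b' ∈ B) :
    ∃ g ∈ K, b.image ((g : setSystemAut B) : Equiv.Perm α) = b' := by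
  have horb : orbit (setSystemAut B) b = B := by
    ext c
    constructor
    · rintro ⟨g, rfl⟩
      show g • b ∈ B
      rw [smul_eq_image]
      exact (mem_setSystemAut_iff B g.1).1 g.2 b hb
    · intro hc
      obtain ⟨g, hg⟩ := aut_blocks_trans B hB h3 b c hb hc
      exact ⟨g, by show g • b = c; rw [smul_eq_image, hg]⟩
  have hodd : Odd (orbit (setSystemAut B) b).ncard := by
    rw [horb, card_blocks_22 B hα hB]
    decide
  obtain ⟨k, hk, hkb⟩ := orbit_eq_of_index_two K hK b hodd b' (by rw [horb]; exact hb')
  exact ⟨k, hk, by rw [← smul_eq_image]; exact hkb⟩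

/-- a subgroup of index two of the automorphism group of the system is transitive on points -/
theorem index_two_points_trans (hα : Fintype.card α = 22)
    (h3 : IsMultiplyPretransitive (setSystemAut B) α 3) (K : Subgroup (setSystemAut B))
    (hK : K.index = 2) (hKcard : 1 < Nat.card K) (a a' : α) :
    ∃ g ∈ K, ((g : setSystemAut B) : Equiv.Perm α) a = a' := by
  have hcα : Nat.card α = 22 := by rw [Nat.card_eq_fintype_card, hα]
  have h2 : IsMultiplyPretransitive (setSystemAut B) α 2 :=
    isMultiplyPretransitive_of_le (n := 3) (by norm_num) (by rw [hcα]; norm_num)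
  have : IsPreprimitive (setSystemAut B) α := isPreprimitive_of_is_two_pretransitive h2
  have : K.Normal := Subgroup.normal_of_index_eq_two hK
  have hfix : fixedPoints K α ≠ Set.univ := by
    intro hfix
    have hall : ∀ g : K, g = 1 := by
      intro g
      apply Subtype.ext
      apply Subtype.ext
      ext c
      have hc : c ∈ fixedPoints K α := by rw [hfix]; trivial
      exact hc g
    have : Subsingleton K := ⟨fun g k => by rw [hall g, hall k]⟩
    have : Nat.card K = 1 := Nat.card_of_subsingleton (1 : K)
    omega
  have : IsPretransitive K α := IsQuasiPreprimitive.isPretransitive_of_normal hfix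
  obtain ⟨g, hg⟩ := exists_smul_eq K a a'
  exact ⟨g.1, g.2, hg⟩

end Cfsg.Agent.Lib.Helper1.HSG
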