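import Cfsg.Agent.Lib.Helper1.HSGraph6
import Cfsg.Agent.Lib.Helper1.PrimSimple7

/-!
# The even automorphisms of the graph on 100 vertices form a simple group
-/

set_option autoImplicit false
set_option linter.unusedSectionVars false

namespace Cfsg.Agent.Lib.Helper1.HSG

open Cfsg Cfsg.Agent.Lib.Helper1.Stein MulAction
open scoped Pointwise

variable {α : Type*} [Fintype α] [DecidableEq α] (B : Set (Finset α))

theorem hreg_arith (c : Fin 2 → ℕ) : ¬ ∀ p : ℕ, p.Prime → p ∣ (1 + ∑ i, ![22, 77] i) →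
    (p ∣ (∑ i ∈ Finset.univ.filter (fun i => c i = p), ![22, 77] i) + 1) ∧
    (¬ p ^ 2 ∣ (1 + ∑ i, ![22, 77] i) → ∃ s, s ∣ (1 + ∑ i, ![22, 77] i) ∧ s % p = 1 ∧
      ∑ i ∈ Finset.univ.filter (fun i => c i = p), ![22, 77] i = (p - 1) * s) := by
  intro h
  have h2 := (h 2 Nat.prime_two (by decide)).1
  have h5 := (h 5 (by norm_num) (by decide)).1
  rw [Finset.sum_filter, Fin.sum_univ_two] at h2 h5
  simp only [Matrix.cons_val_zero, Matrix.cons_val_one] at h2 h5
  split_ifs at h2 h5 <;> omega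

theorem hprim_arith : ∀ I : Finset (Fin 2), (1 + ∑ i ∈ I, ![22, 77] i) ∣ (1 + ∑ i, ![22, 77] i) →
    (∑ i ∈ I, ![22, 77] i = 0) ∨ (∑ i ∈ I, ![22, 77] i = ∑ i, ![22, 77] i) := by decide

theorem card_units_int' : Nat.card ℤˣ = 2 := by
  rw [Nat.card_eq_fintype_card]; rfl

theorem card_vx (hα : Fintype.card α = 22) (hB : IsSteinerSystem 3 6 B) :
    Nat.card (Vx B) = 100 := by
  classical
  have h77 := card_blocks_22 B hα hB
  have hfin : Finite B := by
    apply Nat.finite_of_card_ne_zero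
    rw [Nat.card_coe_set_eq, h77]; norm_num
  have : Fintype B := Fintype.ofFinite B
  have hB77 : Fintype.card B = 77 := by
    rw [← Nat.card_eq_fintype_card, Nat.card_coe_set_eq, h77]
  rw [Nat.card_eq_fintype_card, Fintype.card_option, Fintype.card_sum, hα, hB77]

theorem hs_of [Fintype (Vx B)] [DecidableEq (Vx B)] (hα : Fintype.card α = 22)
    (hB : IsSteinerSystem 3 6 B)
    (hodd : ∃ φ : GA B, sgn (pointBlockGraph B) φ = -1)
    (hev : ∃ φ : GA B, sgn (pointBlockGraph B) φ = 1 ∧ ∃ p : α, φ none = some (Sum.inl p)) :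
    IsHS (sgn (pointBlockGraph B)).ker := by
  obtain ⟨hAcard, h3, H22, hidx, hsimple, hcard22⟩ := Cfsg.Agent.S0414.result hα hB
  have hG := Cfsg.Agent.S1586.result hα hB
  have hfinG : Finite (GA B) := Nat.finite_of_card_ne_zero (by rw [hG]; norm_num)
  set s := sgn (pointBlockGraph B) with hs
  -- index two
  have hrange : s.range = ⊤ := by
    rw [eq_top_iff]
    intro u _
    rcases Int.units_eq_one_or u with rfl | rfl
    · exact ⟨1, map_one s⟩
    · obtain ⟨φ, hφ⟩ := hodd
      exact ⟨φ, hφ⟩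
  have hindex : s.ker.index = 2 := by
    rw [Subgroup.index_ker, hrange, Subgroup.card_top, card_units_int']
  have hHcard : Nat.card s.ker = 44352000 := by
    have := s.ker.card_mul_index
    rw [hindex, hG] at this
    omega
  -- the lifts of the simple subgroup are even
  have h22even : ∀ g ∈ H22, liftHom B g ∈ s.ker := by
    intro g hg
    rw [MonoidHom.mem_ker]
    exact hom_trivial_of_simple (by rw [hcard22]; norm_num)
      ((s.comp (liftHom B)).comp H22.subtype) ⟨g, hg⟩
  have hK1 : 1 < Nat.card H22 := by rw [hcard22]; norm_num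
  have hpts := index_two_points_trans B hα h3 H22 hidx hK1
  have hblks := index_two_blocks_trans B hα hB h3 H22 hidx
  -- transitivity of the kernel
  obtain ⟨φ₀, hφ₀, p, hp⟩ := hev
  have hφ₀mem : φ₀ ∈ s.ker := hφ₀
  have hptsV : ∀ a : α, ∃ φ ∈ s.ker, φ none = some (Sum.inl a) := by
    intro a
    obtain ⟨g, hg, hga⟩ := hpts p a
    refine ⟨liftHom B g * φ₀, s.ker.mul_mem (h22even g hg) hφ₀mem, ?_⟩
    rw [RelIso.mul_apply, hp, liftHom_apply, liftAut_pt, hga]
  have h1lt : 1 < Fintype.card α := by rw [hα]; norm_num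
  obtain ⟨a₁, a₂, h12⟩ := Fintype.exists_pair_of_one_lt_card h1lt
  have hex : ∃ a : α, ∃ b₀ : B, φ₀ (some (Sum.inl a)) = some (Sum.inr b₀) := by
    have hadj : ∀ a : α, (pointBlockGraph B).Adj (some (Sum.inl p)) (φ₀ (some (Sum.inl a))) := by
      intro a
      rw [← hp]
      exact φ₀.map_rel_iff.2 (adj_none_pt B a)
    rcases (adj_pt_iff B p _).1 (hadj a₁) with h1 | ⟨b, h1, _⟩
    · rcases (adj_pt_iff B p _).1 (hadj a₂) with h2 | ⟨b, h2, _⟩
      · have := φ₀.injective (h1.trans h2.symm)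
        exact absurd (Sum.inl_injective (Option.some_injective _ this)) h12
      · exact ⟨a₂, b, h2⟩
    · exact ⟨a₁, b, h1⟩
  obtain ⟨a₀, b₀, hab⟩ := hex
  have hblksV : ∀ b : B, ∃ φ ∈ s.ker, φ none = some (Sum.inr b) := by
    intro b
    obtain ⟨φ₁, hφ₁mem, hφ₁⟩ := hptsV a₀
    obtain ⟨g, hg, hgb⟩ := hblks b₀.1 b.1 b₀.2 b.2
    refine ⟨liftHom B g * (φ₀ * φ₁),
      s.ker.mul_mem (h22even g hg) (s.ker.mul_mem hφ₀mem hφ₁mem), ?_⟩
    rw [RelIso.mul_apply, RelIso.mul_apply, hφ₁, hab, liftHom_apply]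
    obtain ⟨h, hb⟩ := liftAut_blk B g b₀
    rw [hb]
    congr 2
    exact Subtype.ext hgb
  have hall : ∀ v : Vx B, ∃ φ ∈ s.ker, φ none = v := by
    intro v
    match v with
    | none => exact ⟨1, s.ker.one_mem, rfl⟩
    | some (Sum.inl a) => exact hptsV a
    | some (Sum.inr b) => exact hblksV b
  have htrans : IsPretransitive s.ker (Vx B) := by
    constructor
    intro u v
    obtain ⟨φ, hφ, hu⟩ := hall u
    obtain ⟨ψ, hψ, hv⟩ := hall v
    refine ⟨⟨ψ * φ⁻¹, s.ker.mul_mem hψ (s.ker.inv_mem hφ)⟩, ?_⟩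
    show (ψ * φ⁻¹) u = v
    rw [RelIso.mul_apply, ← hu]
    rw [show φ⁻¹ (φ none) = none from φ.symm_apply_apply none, hv]
  -- the order of the stabilizer
  have hV := card_vx B hα hB
  have hcount := Cfsg.Agent.Lib.Helper1.StabCard.card_eq_card_mul_stabilizer (G := s.ker)
    (none : Vx B)
  rw [← Nat.card_eq_fintype_card, hV, hHcard] at hcount
  have hMcard : Nat.card (stabilizer s.ker (none : Vx B)) = 443520 := by omega
  -- the stabilizer is the simple group
  let f : H22 →* stabilizer s.ker (none : Vx B) :=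
    { toFun := fun g => ⟨⟨liftHom B g.1, h22even g.1 g.2⟩, by
        rw [mem_stabilizer_iff]; rfl⟩
      map_one' := Subtype.ext (Subtype.ext (map_one _))
      map_mul' := fun g k => Subtype.ext (Subtype.ext (map_mul _ _ _)) }
  have hfinj : Function.Injective f := by
    intro g k hgk
    have h1 : liftAut B g.1 = liftAut B k.1 :=
      congrArg (fun m : stabilizer s.ker (none : Vx B) => ((m : s.ker) : GA B)) hgk
    exact Subtype.ext (liftAut_injective B h1)
  have hfinM : Finite (stabilizer s.ker (none : Vx B)) :=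
    Nat.finite_of_card_ne_zero (by rw [hMcard]; norm_num)
  have hfbij : Function.Bijective f :=
    hfinj.bijective_of_nat_card_le (by rw [hMcard, hcard22])
  have hntM : Nontrivial (stabilizer s.ker (none : Vx B)) := by
    rw [← Finite.one_lt_card_iff_nontrivial, hMcard]; norm_num
  have hsimpM : IsSimpleGroup (stabilizer s.ker (none : Vx B)) :=
    IsSimpleGroup.isSimpleGroup_of_surjective f hfbij.2
  -- the suborbits
  have hBne : B.Nonempty := by
    apply Set.nonempty_of_ncard_ne_zero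
    rw [card_blocks_22 B hα hB]; norm_num
  obtain ⟨b₁, hb₁⟩ := hBne
  have horb0 : orbit (stabilizer s.ker (none : Vx B)) (some (Sum.inl p) : Vx B) =
      Set.range (fun a : α => (some (Sum.inl a) : Vx B)) := by
    ext v
    constructor
    · rintro ⟨m, rfl⟩
      have hm : ((m : s.ker) : GA B) none = none := m.2
      obtain ⟨a', ha'⟩ := pt_of_fix B _ hm p
      exact ⟨a', ha'.symm⟩
    · rintro ⟨a, rfl⟩
      obtain ⟨g, hg, hga⟩ := hpts p a
      refine ⟨f ⟨g, hg⟩, ?_⟩
      show liftAut B g (some (Sum.inl p)) = _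
      rw [liftAut_pt, hga]
  have horb1 : orbit (stabilizer s.ker (none : Vx B)) (some (Sum.inr ⟨b₁, hb₁⟩) : Vx B) =
      Set.range (fun b : B => (some (Sum.inr b) : Vx B)) := by
    ext v
    constructor
    · rintro ⟨m, rfl⟩
      have hm : ((m : s.ker) : GA B) none = none := m.2
      obtain ⟨b', hb'⟩ := blk_of_fix B _ hm ⟨b₁, hb₁⟩
      exact ⟨b', hb'.symm⟩
    · rintro ⟨b, rfl⟩
      obtain ⟨g, hg, hgb⟩ := hblks b₁ b.1 hb₁ b.2
      refine ⟨f ⟨g, hg⟩, ?_⟩
      show liftAut B g (some (Sum.inr ⟨b₁, hb₁⟩)) = _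
      obtain ⟨h, hb⟩ := liftAut_blk B g ⟨b₁, hb₁⟩
      rw [hb]
      congr 2
      exact Subtype.ext hgb
  have hn : ∀ i : Fin 2, (orbit (stabilizer s.ker (none : Vx B))
      ((![some (Sum.inl p), some (Sum.inr ⟨b₁, hb₁⟩)] : Fin 2 → Vx B) i)).ncard =
      (![22, 77] : Fin 2 → ℕ) i := by
    intro i
    fin_cases i
    · show (orbit (stabilizer s.ker (none : Vx B)) (some (Sum.inl p) : Vx B)).ncard = 22
      rw [horb0, Set.ncard_range_of_injective (fun a a' h =>
        Sum.inl_injective (Option.some_injective _ h)), Nat.card_eq_fintype_card, hα]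
    · show (orbit (stabilizer s.ker (none : Vx B)) (some (Sum.inr ⟨b₁, hb₁⟩) : Vx B)).ncard = 77
      rw [horb1, Set.ncard_range_of_injective (fun b b' h =>
        Sum.inr_injective (Option.some_injective _ h)), Nat.card_coe_set_eq,
        card_blocks_22 B hα hB]
  have hfinH : Finite s.ker := inferInstance
  have D : Cfsg.Agent.Lib.Helper1.PrimSimple.SubData s.ker (none : Vx B) 2
      ![some (Sum.inl p), some (Sum.inr ⟨b₁, hb₁⟩)] ![22, 77] := by
    apply Cfsg.Agent.Lib.Helper1.PrimSimple.subData_of_orbits' (none : Vx B) Set.univ 2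
    · intro g; trivial
    · intro z _
      obtain ⟨φ, hφ, h⟩ := hall z
      exact ⟨⟨φ, hφ⟩, h⟩
    · intro i; trivial
    · intro i
      fin_cases i
      · show (some (Sum.inl p) : Vx B) ≠ none
        simp
      · show (some (Sum.inr ⟨b₁, hb₁⟩) : Vx B) ≠ none
        simp
    · exact hn
    · decide
    · rw [Set.ncard_univ, hV]
      decide
  exact ⟨D.simple' hsimpM hprim_arith ⟨0, by decide⟩ hreg_arith, hHcard⟩

end Cfsg.Agent.Lib.Helper1.HSG
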