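import Mathlib
import Cfsg.Prelude.Def_Sporadic_a

/-!
# A design from incidence counts

Points `α`, blocks `β`, an incidence relation and an adjacency relation on the blocks with the
counts coming from a strongly regular graph with parameters `(100, 22, 0, 6)`: the blocks form
a Steiner system `S(3, 6, 22)`, and two blocks are adjacent exactly when they are disjoint.
-/

set_option autoImplicit false

namespace Cfsg.Agent.Lib.Helper1.SRG100

open Cfsg Finset
open scoped Classical

noncomputable section

variable {α β : Type*} [Fintype α] [Fintype β]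

/-- the block of points incident with `b` -/
def blk (I : α → β → Prop) (b : β) : Finset α := Finset.univ.filter (fun p => I p b)

omit [Fintype β] in
theorem mem_blk (I : α → β → Prop) (b : β) (p : α) : p ∈ blk I b ↔ I p b := by
  simp [blk]

/-- the counts -/
structure Counts (I : α → β → Prop) (A : β → β → Prop) : Prop where
  c1 : ∀ b, (blk I b).card = 6
  c2 : ∀ p, (Finset.univ.filter (fun b => I p b)).card = 21
  c3 : ∀ p q, p ≠ q → (Finset.univ.filter (fun b => I p b ∧ I q b)).card = 5
  c4 : ∀ b, (Finset.univ.filter (fun b' => A b b')).card = 16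
  c5 : ∀ b b', A b b' → Disjoint (blk I b) (blk I b')
  c6 : Fintype.card β = 77
  c7 : Fintype.card α = 22
  irrefl : ∀ b, ¬ A b b

variable {I : α → β → Prop} {A : β → β → Prop}

theorem inter_card_eq_sum (I : α → β → Prop) (b b' : β) :
    (blk I b ∩ blk I b').card = ∑ p ∈ blk I b, if I p b' then 1 else 0 := by
  rw [← Finset.card_filter]
  congr 1
  ext p
  simp [mem_blk]

theorem sum1 (h : Counts I A) (b : β) : ∑ b', (blk I b ∩ blk I b').card = 126 := by
  simp_rw [inter_card_eq_sum]
  rw [Finset.sum_comm]
  simp_rw [← Finset.card_filter]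
  rw [Finset.sum_congr rfl (fun p _ => h.c2 p), Finset.sum_const, h.c1]
  rfl

theorem inter_sq_eq_sum (I : α → β → Prop) (b b' : β) :
    (blk I b ∩ blk I b').card ^ 2 =
      ∑ pq ∈ blk I b ×ˢ blk I b, if I pq.1 b' ∧ I pq.2 b' then 1 else 0 := by
  rw [← Finset.card_filter, sq, ← Finset.card_product]
  congr 1
  ext pq
  simp only [Finset.mem_product, Finset.mem_inter, mem_blk, Finset.mem_filter]
  tauto

theorem sum2 (h : Counts I A) (b : β) : ∑ b', (blk I b ∩ blk I b').card ^ 2 = 276 := by
  simp_rw [inter_sq_eq_sum]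
  rw [Finset.sum_comm]
  simp_rw [← Finset.card_filter]
  rw [Finset.sum_product]
  have hrow : ∀ p ∈ blk I b, ∑ q ∈ blk I b,
      (Finset.univ.filter (fun b' => I (p, q).1 b' ∧ I (p, q).2 b')).card = 46 := by
    intro p hp
    rw [← Finset.add_sum_erase _ _ hp]
    have h1 : (Finset.univ.filter (fun b' => I (p, p).1 b' ∧ I (p, p).2 b')).card = 21 := by
      rw [← h.c2 p]
      congr 1
      ext b'
      simp
    have h2 : ∀ q ∈ (blk I b).erase p,
        (Finset.univ.filter (fun b' => I (p, q).1 b' ∧ I (p, q).2 b')).card = 5 := by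
      intro q hq
      exact h.c3 p q (Finset.ne_of_mem_erase hq).symm
    rw [h1, Finset.sum_congr rfl h2, Finset.sum_const, Finset.card_erase_of_mem hp, h.c1]
    rfl
  rw [Finset.sum_congr rfl hrow, Finset.sum_const, h.c1]
  rfl

theorem inter_two (h : Counts I A) (b b' : β) (hne : b' ≠ b) (hA : ¬ A b b') :
    (blk I b ∩ blk I b').card = 2 := by
  set g : β → ℤ := fun b' => ((blk I b ∩ blk I b').card : ℤ) with hg
  have s1 : ∑ b', g b' = 126 := by
    have := sum1 h b
    simp only [hg]
    exact_mod_cast this
  have s2 : ∑ b', g b' ^ 2 = 276 := by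
    have := sum2 h b
    simp only [hg]
    exact_mod_cast this
  have s3 : ∑ b', (g b' - 2) ^ 2 = 80 := by
    have : ∀ x : β, (g x - 2) ^ 2 = g x ^ 2 - 4 * g x + 4 := fun x => by ring
    simp_rw [this]
    rw [Finset.sum_add_distrib, Finset.sum_sub_distrib, ← Finset.mul_sum, s1, s2, Finset.sum_const,
      Finset.card_univ, h.c6]
    norm_num
  have hsplit := Finset.sum_filter_add_sum_filter_not Finset.univ (fun x => A b x)
    (fun x => (g x - 2) ^ 2)
  have hadj : ∑ x ∈ Finset.univ.filter (fun x => A b x), (g x - 2) ^ 2 = 64 := by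
    have : ∀ x ∈ Finset.univ.filter (fun x => A b x), (g x - 2) ^ 2 = 4 := by
      intro x hx
      have hx' : A b x := (Finset.mem_filter.mp hx).2
      have : g x = 0 := by
        simp only [hg]
        rw [Finset.disjoint_iff_inter_eq_empty.mp (h.c5 b x hx')]
        simp
      rw [this]
      norm_num
    rw [Finset.sum_congr rfl this, Finset.sum_const, h.c4]
    norm_num
  have hb : b ∈ Finset.univ.filter (fun x => ¬ A b x) := by
    simp [h.irrefl b]
  rw [← Finset.add_sum_erase _ _ hb] at hsplit
  have hgb : g b = 6 := by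
    simp only [hg]
    rw [Finset.inter_self, h.c1]
    rfl
  rw [hadj, s3, hgb] at hsplit
  have hzero : ∑ x ∈ (Finset.univ.filter (fun x => ¬ A b x)).erase b, (g x - 2) ^ 2 = 0 := by
    linarith
  have hmem : b' ∈ (Finset.univ.filter (fun x => ¬ A b x)).erase b := by
    simp [hne, hA]
  have := (Finset.sum_eq_zero_iff_of_nonneg (fun x _ => sq_nonneg (g x - 2))).mp hzero b' hmem
  have h2 : g b' = 2 := by
    have := pow_eq_zero_iff (two_ne_zero) |>.mp this
    linarith
  simp only [hg] at h2
  exact_mod_cast h2

theorem blk_injective (h : Counts I A) : Function.Injective (blk I) := by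
  intro b b' hbb
  by_contra hne
  by_cases hA : A b b'
  · have h1 := h.c5 b b' hA
    rw [hbb, Finset.disjoint_self_iff_empty] at h1
    have := h.c1 b'
    rw [h1] at this
    simp at this
  · have h1 := inter_two h b b' (Ne.symm hne) hA
    rw [hbb, Finset.inter_self, h.c1] at h1
    omega

theorem adj_iff_disjoint (h : Counts I A) (b b' : β) (hne : b ≠ b') :
    A b b' ↔ Disjoint (blk I b) (blk I b') := by
  constructor
  · exact h.c5 b b'
  · intro hd
    by_contra hA
    have h1 := inter_two h b b' (Ne.symm hne) hA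
    rw [Finset.disjoint_iff_inter_eq_empty.mp hd] at h1
    simp at h1

theorem inter_le_two (h : Counts I A) (b b' : β) (hne : b ≠ b') :
    (blk I b ∩ blk I b').card ≤ 2 := by
  by_cases hA : A b b'
  · rw [Finset.disjoint_iff_inter_eq_empty.mp (h.c5 b b' hA)]
    simp
  · rw [inter_two h b b' (Ne.symm hne) hA]

theorem block_unique (h : Counts I A) (s : Finset α) (hs : s.card = 3) (b b' : β)
    (hb : s ⊆ blk I b) (hb' : s ⊆ blk I b') : b = b' := by
  by_contra hne
  have h1 := inter_le_two h b b' hne
  have h2 : s ⊆ blk I b ∩ blk I b' := Finset.subset_inter hb hb'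
  have := Finset.card_le_card h2
  omega

theorem block_exists (h : Counts I A) (s : Finset α) (hs : s.card = 3) : ∃ b, s ⊆ blk I b := by
  set C : Finset (Finset α) := Finset.univ.biUnion (fun b => Finset.powersetCard 3 (blk I b))
    with hC
  have hCcard : C.card = 1540 := by
    rw [hC, Finset.card_biUnion]
    · have : ∀ b ∈ (Finset.univ : Finset β), (Finset.powersetCard 3 (blk I b)).card = 20 := by
        intro b _
        rw [Finset.card_powersetCard, h.c1]
        rfl
      rw [Finset.sum_congr rfl this, Finset.sum_const, Finset.card_univ, h.c6]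
      rfl
    · intro b _ b' _ hne
      show Disjoint (Finset.powersetCard 3 (blk I b)) (Finset.powersetCard 3 (blk I b'))
      rw [Finset.disjoint_left]
      intro t ht ht'
      rw [Finset.mem_powersetCard] at ht ht'
      exact hne (block_unique h t ht.2 b b' ht.1 ht'.1)
  have hT : (Finset.powersetCard 3 (Finset.univ : Finset α)).card = 1540 := by
    rw [Finset.card_powersetCard, Finset.card_univ, h.c7]
    rfl
  have hsub : C ⊆ Finset.powersetCard 3 (Finset.univ : Finset α) := by
    intro t ht
    rw [hC, Finset.mem_biUnion] at ht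
    obtain ⟨b, _, ht⟩ := ht
    rw [Finset.mem_powersetCard] at ht ⊢
    exact ⟨Finset.subset_univ _, ht.2⟩
  have heq := Finset.eq_of_subset_of_card_le hsub (by rw [hCcard, hT])
  have hsT : s ∈ Finset.powersetCard 3 (Finset.univ : Finset α) := by
    rw [Finset.mem_powersetCard]
    exact ⟨Finset.subset_univ _, hs⟩
  rw [← heq, hC, Finset.mem_biUnion] at hsT
  obtain ⟨b, _, hb⟩ := hsT
  exact ⟨b, (Finset.mem_powersetCard.mp hb).1⟩

/-- the blocks form a Steiner system -/
theorem steiner (h : Counts I A) : IsSteinerSystem 3 6 (Set.range (blk I)) := by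
  refine ⟨?_, ?_⟩
  · rintro _ ⟨b, rfl⟩
    exact h.c1 b
  · intro s hs
    obtain ⟨b, hb⟩ := block_exists h s hs
    refine ⟨blk I b, ⟨⟨b, rfl⟩, hb⟩, ?_⟩
    rintro _ ⟨⟨b', rfl⟩, hb'⟩
    rw [block_unique h s hs b' b hb' hb]

end

end Cfsg.Agent.Lib.Helper1.SRG100
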