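import Mathlib
import Cfsg.Agent.Lib.Helper1.SRG100a

/-!
# The design of a strongly regular graph with parameters `(100, 22, 0, 6)`
-/

set_option autoImplicit false
set_option linter.unusedSectionVars false

namespace Cfsg.Agent.Lib.Helper1.SRG100

open Cfsg Finset
open scoped Classical

noncomputable section

variable {V : Type*} [Fintype V] (G : SimpleGraph V)

/-- the neighbours -/
def N (v : V) : Finset V := Finset.univ.filter (fun w => G.Adj v w)

theorem mem_N (v w : V) : w ∈ N G v ↔ G.Adj v w := by simp [N]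

theorem card_filter_subtype (S : Finset V) (q : V → Prop)
    (i1 : DecidablePred (fun x : ↥S => q x.1)) (i2 : DecidablePred q) :
    (@Finset.filter _ (fun x : ↥S => q x.1) i1 Finset.univ).card =
      (@Finset.filter _ q i2 S).card := by
  rw [← Finset.card_map (Function.Embedding.subtype _)]
  congr 1
  ext x
  simp only [Finset.mem_map, Finset.mem_filter, Finset.mem_univ, true_and,
    Function.Embedding.coe_subtype, Subtype.exists, exists_and_right, exists_eq_right]
  constructor
  · rintro ⟨h1, h2⟩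
    exact ⟨h1, h2⟩
  · rintro ⟨h1, h2⟩
    exact ⟨h1, h2⟩

/-- the facts used, with classical decidability -/
structure Facts : Prop where
  card : Fintype.card V = 100
  deg : ∀ v, (N G v).card = 22
  adj : ∀ v w, G.Adj v w → N G v ∩ N G w = ∅
  nonadj : ∀ v w, v ≠ w → ¬ G.Adj v w → (N G v ∩ N G w).card = 6

section

variable [DecidableRel G.Adj] (hG : G.IsSRGWith 100 22 0 6)
include hG

theorem card_N (v : V) : (N G v).card = 22 := by
  have h := hG.regular v
  rw [← h, SimpleGraph.degree]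
  congr 1
  ext w
  simp [mem_N]

theorem cn_adj {v w : V} (h : G.Adj v w) : N G v ∩ N G w = ∅ := by
  have h0 := hG.of_adj v w h
  rw [Fintype.card_eq_zero_iff] at h0
  rw [Finset.eq_empty_iff_forall_notMem]
  intro x hx
  rw [Finset.mem_inter, mem_N, mem_N] at hx
  exact h0.false ⟨x, hx⟩

theorem cn_nonadj {v w : V} (hne : v ≠ w) (h : ¬ G.Adj v w) : (N G v ∩ N G w).card = 6 := by
  have h0 := hG.of_not_adj hne h
  rw [← h0]
  symm
  apply Fintype.card_of_subtype
  intro x
  rw [Finset.mem_inter, mem_N, mem_N]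
  rfl

theorem facts_of_srg : Facts G :=
  ⟨hG.card, card_N G hG, fun _ _ h => cn_adj G hG h, fun _ _ hne h => cn_nonadj G hG hne h⟩

end

variable (hG : Facts G)
include hG

theorem no_triangle {a b c : V} (hab : G.Adj a b) (hac : G.Adj a c) : ¬ G.Adj b c := by
  intro hbc
  have h := hG.adj _ _ hbc
  have : a ∈ N G b ∩ N G c := by
    rw [Finset.mem_inter, mem_N, mem_N]
    exact ⟨hab.symm, hac.symm⟩
  rw [h] at this
  simp at this

omit hG in
/-- the non-neighbours of a vertex -/
def Qs (v₀ : V) : Finset V := Finset.univ.filter (fun b => b ≠ v₀ ∧ ¬ G.Adj v₀ b)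

omit hG in
theorem mem_Qs (v₀ b : V) : b ∈ Qs G v₀ ↔ b ≠ v₀ ∧ ¬ G.Adj v₀ b := by simp [Qs]

theorem card_Qs (v₀ : V) : (Qs G v₀).card = 77 := by
  have h1 : Qs G v₀ = Finset.univ \ insert v₀ (N G v₀) := by
    ext b
    simp only [mem_Qs, Finset.mem_sdiff, Finset.mem_univ, true_and, Finset.mem_insert, mem_N,
      not_or]
  rw [h1, Finset.card_sdiff_of_subset (Finset.subset_univ _), Finset.card_univ, hG.card,
    Finset.card_insert_of_notMem, hG.deg _]
  rw [mem_N]
  exact G.loopless.irrefl v₀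

/-- incidence between the neighbours and the non-neighbours -/
def Inc (v₀ : V) (p : ↥(N G v₀)) (b : ↥(Qs G v₀)) : Prop := G.Adj p.1 b.1

/-- adjacency between the non-neighbours -/
def AdjQ (v₀ : V) (b b' : ↥(Qs G v₀)) : Prop := G.Adj b.1 b'.1

theorem counts (v₀ : V) : Counts (Inc G v₀) (AdjQ G v₀) where
  c1 := by
    intro b
    have hb := (mem_Qs G v₀ b.1).mp b.2
    unfold blk Inc
    rw [card_filter_subtype (N G v₀) (fun p => G.Adj p b.1) _ inferInstance, ← hG.nonadj _ _ (Ne.symm hb.1) hb.2]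
    congr 1
    ext x
    rw [Finset.mem_filter, Finset.mem_inter, mem_N, mem_N]
    exact ⟨fun h => ⟨h.1, h.2.symm⟩, fun h => ⟨h.1, h.2.symm⟩⟩
  c2 := by
    intro p
    have hp := (mem_N G v₀ p.1).mp p.2
    unfold Inc
    rw [card_filter_subtype (Qs G v₀) (fun b => G.Adj p.1 b) _ inferInstance]
    have h1 : (Qs G v₀).filter (fun b => G.Adj p.1 b) = (N G p.1).erase v₀ := by
      ext x
      rw [Finset.mem_filter, mem_Qs, Finset.mem_erase, mem_N]
      constructor
      · rintro ⟨⟨h1, -⟩, h3⟩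
        exact ⟨h1, h3⟩
      · rintro ⟨h1, h3⟩
        exact ⟨⟨h1, fun h => no_triangle G hG hp h h3⟩, h3⟩
    rw [h1, Finset.card_erase_of_mem ((mem_N G _ _).mpr hp.symm), hG.deg _]
  c3 := by
    intro p q hpq
    have hp := (mem_N G v₀ p.1).mp p.2
    have hq := (mem_N G v₀ q.1).mp q.2
    have hne : p.1 ≠ q.1 := fun h => hpq (Subtype.ext h)
    have hnadj : ¬ G.Adj p.1 q.1 := no_triangle G hG hp hq
    unfold Inc
    rw [card_filter_subtype (Qs G v₀) (fun b => G.Adj p.1 b ∧ G.Adj q.1 b) _ inferInstance]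
    have h1 : (Qs G v₀).filter (fun b => G.Adj p.1 b ∧ G.Adj q.1 b) =
        (N G p.1 ∩ N G q.1).erase v₀ := by
      ext x
      rw [Finset.mem_filter, mem_Qs, Finset.mem_erase, Finset.mem_inter, mem_N, mem_N]
      constructor
      · rintro ⟨⟨h1, -⟩, h3⟩
        exact ⟨h1, h3⟩
      · rintro ⟨h1, h3⟩
        exact ⟨⟨h1, fun h => no_triangle G hG hp h h3.1⟩, h3⟩
    have hv : v₀ ∈ N G p.1 ∩ N G q.1 := by
      rw [Finset.mem_inter, mem_N, mem_N]
      exact ⟨hp.symm, hq.symm⟩
    rw [h1, Finset.card_erase_of_mem hv, hG.nonadj _ _ hne hnadj]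
  c4 := by
    intro b
    have hb := (mem_Qs G v₀ b.1).mp b.2
    unfold AdjQ
    rw [card_filter_subtype (Qs G v₀) (fun b' => G.Adj b.1 b') _ inferInstance]
    have h1 : (Qs G v₀).filter (fun b' => G.Adj b.1 b') = N G b.1 \ (N G v₀ ∩ N G b.1) := by
      ext x
      rw [Finset.mem_filter, mem_Qs, Finset.mem_sdiff, Finset.mem_inter, mem_N, mem_N]
      constructor
      · rintro ⟨⟨-, h2⟩, h3⟩
        exact ⟨h3, fun h => h2 h.1⟩
      · rintro ⟨h1, h2⟩
        refine ⟨⟨?_, fun h => h2 ⟨h, h1⟩⟩, h1⟩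
        rintro rfl
        exact hb.2 h1.symm
    rw [h1, Finset.card_sdiff_of_subset Finset.inter_subset_right, hG.deg _,
      hG.nonadj _ _ (Ne.symm hb.1) hb.2]
  c5 := by
    intro b b' hbb
    rw [Finset.disjoint_left]
    intro p hp hp'
    rw [mem_blk] at hp hp'
    have h := hG.adj _ _ hbb
    have : p.1 ∈ N G b.1 ∩ N G b'.1 := by
      rw [Finset.mem_inter, mem_N, mem_N]
      exact ⟨hp.symm, hp'.symm⟩
    rw [h] at this
    simp at this
  c6 := by
    rw [Fintype.card_coe, card_Qs G hG]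
  c7 := by
    rw [Fintype.card_coe, hG.deg _]
  irrefl := fun b => G.loopless.irrefl b.1

/-- the blocks -/
def Blocks (v₀ : V) : Set (Finset ↥(N G v₀)) := Set.range (blk (Inc G v₀))

theorem blocks_steiner (v₀ : V) : IsSteinerSystem 3 6 (Blocks G v₀) := steiner (counts G hG v₀)

end

end Cfsg.Agent.Lib.Helper1.SRG100
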