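import Mathlib
import Cfsg.Agent.Lib.Helper1.SRG100b
import Cfsg.Agent.Lib.Helper1.HSGraph1
import Cfsg.Agent.S0410

/-!
# A strongly regular graph with parameters `(100, 22, 0, 6)` is the graph of its design
-/

set_option autoImplicit false
set_option linter.unusedSectionVars false

namespace Cfsg.Agent.Lib.Helper1.SRG100

open Cfsg Finset Cfsg.Agent.Lib.Helper1.HSG
open scoped Classical

noncomputable section

variable {V : Type*} [Fintype V] (G : SimpleGraph V) (hG : Facts G) (v₀ : V)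

/-- the block of a non-neighbour, as a member of the family -/
def blkOf (b : ↥(Qs G v₀)) : ↥(Blocks G v₀) := ⟨blk (Inc G v₀) b, ⟨b, rfl⟩⟩

/-- the vertex map -/
def toVx (v : V) : Vx (Blocks G v₀) :=
  if h0 : v = v₀ then none
  else if h : G.Adj v₀ v then some (Sum.inl ⟨v, (mem_N G v₀ v).mpr h⟩)
  else some (Sum.inr (blkOf G v₀ ⟨v, (mem_Qs G v₀ v).mpr ⟨h0, h⟩⟩))

theorem toVx_base : toVx G v₀ v₀ = none := by
  unfold toVx
  rw [dif_pos rfl]

theorem toVx_pt (p : ↥(N G v₀)) : toVx G v₀ p.1 = some (Sum.inl p) := by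
  have hp := (mem_N G v₀ p.1).mp p.2
  unfold toVx
  rw [dif_neg (fun h => G.loopless.irrefl v₀ (by rw [h] at hp; exact hp)), dif_pos hp]

theorem toVx_blk (b : ↥(Qs G v₀)) : toVx G v₀ b.1 = some (Sum.inr (blkOf G v₀ b)) := by
  have hb := (mem_Qs G v₀ b.1).mp b.2
  unfold toVx
  rw [dif_neg hb.1, dif_neg hb.2]

theorem cases_vx (v : V) : v = v₀ ∨ (∃ p : ↥(N G v₀), v = p.1) ∨ ∃ b : ↥(Qs G v₀), v = b.1 := by
  by_cases h0 : v = v₀
  · exact Or.inl h0
  · by_cases h : G.Adj v₀ v
    · exact Or.inr (Or.inl ⟨⟨v, (mem_N G v₀ v).mpr h⟩, rfl⟩)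
    · exact Or.inr (Or.inr ⟨⟨v, (mem_Qs G v₀ v).mpr ⟨h0, h⟩⟩, rfl⟩)

include hG

theorem blkOf_injective : Function.Injective (blkOf G v₀) := by
  intro b b' h
  exact blk_injective (counts G hG v₀) (congrArg Subtype.val h)

theorem toVx_injective : Function.Injective (toVx G v₀) := by
  intro u v huv
  rcases cases_vx G v₀ u with hu | ⟨p, hu⟩ | ⟨b, hu⟩
  · rcases cases_vx G v₀ v with hv | ⟨p', hv⟩ | ⟨b', hv⟩
    · rw [hu, hv]
    · rw [hu, hv, toVx_base, toVx_pt] at huv
      exact absurd huv (by simp)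
    · rw [hu, hv, toVx_base, toVx_blk] at huv
      exact absurd huv (by simp)
  · rcases cases_vx G v₀ v with hv | ⟨p', hv⟩ | ⟨b', hv⟩
    · rw [hu, hv, toVx_base, toVx_pt] at huv
      exact absurd huv (by simp)
    · rw [hu, hv, toVx_pt, toVx_pt] at huv
      have : p = p' := by simpa using huv
      rw [hu, hv, this]
    · rw [hu, hv, toVx_pt, toVx_blk] at huv
      exact absurd huv (by simp)
  · rcases cases_vx G v₀ v with hv | ⟨p', hv⟩ | ⟨b', hv⟩
    · rw [hu, hv, toVx_base, toVx_blk] at huv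
      exact absurd huv (by simp)
    · rw [hu, hv, toVx_pt, toVx_blk] at huv
      exact absurd huv (by simp)
    · rw [hu, hv, toVx_blk, toVx_blk] at huv
      have : blkOf G v₀ b = blkOf G v₀ b' := by simpa using huv
      rw [hu, hv, blkOf_injective G hG v₀ this]

theorem toVx_surjective : Function.Surjective (toVx G v₀) := by
  intro x
  match x with
  | none => exact ⟨v₀, toVx_base G v₀⟩
  | some (Sum.inl p) => exact ⟨p.1, toVx_pt G v₀ p⟩
  | some (Sum.inr ⟨_, ⟨b, rfl⟩⟩) => exact ⟨b.1, toVx_blk G v₀ b⟩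

theorem toVx_adj (u v : V) :
    (pointBlockGraph (Blocks G v₀)).Adj (toVx G v₀ u) (toVx G v₀ v) ↔ G.Adj u v := by
  have key : ∀ u v : V, (u = v₀ ∨ ∃ p : ↥(N G v₀), u = p.1) →
      ((pointBlockGraph (Blocks G v₀)).Adj (toVx G v₀ u) (toVx G v₀ v) ↔ G.Adj u v) := by
    intro u v hu
    rcases hu with hu | ⟨p, hu⟩ <;> rw [hu]
    · rw [toVx_base, adj_none_iff]
      rcases cases_vx G v₀ v with hv | ⟨p', hv⟩ | ⟨b', hv⟩ <;> rw [hv]
      · rw [toVx_base]
        simp
      · rw [toVx_pt]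
        have hp := (mem_N G v₀ p'.1).mp p'.2
        exact ⟨fun _ => hp, fun _ => ⟨p', rfl⟩⟩
      · rw [toVx_blk]
        have hb := (mem_Qs G v₀ b'.1).mp b'.2
        constructor
        · rintro ⟨a, ha⟩
          simp at ha
        · intro h
          exact absurd h hb.2
    · have hp := (mem_N G v₀ p.1).mp p.2
      rw [toVx_pt]
      rcases cases_vx G v₀ v with hv | ⟨p', hv⟩ | ⟨b', hv⟩ <;> rw [hv]
      · rw [toVx_base, SimpleGraph.adj_comm, adj_none_iff]
        exact ⟨fun _ => hp.symm, fun _ => ⟨p, rfl⟩⟩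
      · rw [toVx_pt]
        have hp' := (mem_N G v₀ p'.1).mp p'.2
        constructor
        · intro h
          exact absurd h (not_adj_pt_pt _ _ _)
        · intro h
          exact absurd h (no_triangle G hG hp hp')
      · rw [toVx_blk, adj_pt_blk]
        show p ∈ blk (Inc G v₀) b' ↔ _
        rw [mem_blk]
        rfl
  rcases cases_vx G v₀ u with hu | hu | ⟨b, hu⟩
  · exact key u v (Or.inl hu)
  · exact key u v (Or.inr hu)
  · rcases cases_vx G v₀ v with hv | hv | ⟨b', hv⟩
    · rw [SimpleGraph.adj_comm, key v u (Or.inl hv), SimpleGraph.adj_comm]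
    · rw [SimpleGraph.adj_comm, key v u (Or.inr hv), SimpleGraph.adj_comm]
    · rw [hu, hv, toVx_blk, toVx_blk, adj_blk_blk]
      by_cases hbb : b = b'
      · subst hbb
        simp
      · have h1 : blkOf G v₀ b ≠ blkOf G v₀ b' := fun h => hbb (blkOf_injective G hG v₀ h)
        have h2 := adj_iff_disjoint (counts G hG v₀) b b' hbb
        constructor
        · rintro ⟨-, hd⟩
          exact h2.mpr hd
        · intro h
          exact ⟨h1, h2.mp h⟩

/-- the graph is the graph of its design -/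
def graphIso : G ≃g pointBlockGraph (Blocks G v₀) where
  toEquiv := Equiv.ofBijective (toVx G v₀) ⟨toVx_injective G hG v₀, toVx_surjective G hG v₀⟩
  map_rel_iff' := by
    intro u v
    exact toVx_adj G hG v₀ u v

end

end Cfsg.Agent.Lib.Helper1.SRG100
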