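import Mathlib
import Cfsg.Agent.S1584
import Cfsg.Agent.Lib.Helper1.LeechCross1
import Cfsg.Agent.Lib.Helper1.SRG100c

/-!
# The graph on the 100 minimal vectors of the Higman–Sims configuration
-/

set_option autoImplicit false
set_option linter.unusedSectionVars false

namespace Cfsg.Agent.Lib.Helper1.HSI

open Cfsg MulAction Cfsg.Agent.Lib.Helper1.LeechEnum Cfsg.Agent.Lib.Helper1.LeechAut
open scoped Classical

/-- the 100 minimal vectors -/
def AA (v w : leechLattice) : Set leechLattice :=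
  {x : leechLattice | sqNorm (x : GolayPt → ℤ) = 32 ∧
    dotInt (v : GolayPt → ℤ) (x : GolayPt → ℤ) = 24 ∧
    dotInt (w : GolayPt → ℤ) (x : GolayPt → ℤ) = -24}

theorem dot_comm' (x y : GolayPt → ℤ) : dotInt x y = dotInt y x := by
  unfold dotInt
  apply Finset.sum_congr rfl
  intro i _
  ring

/-- the graph: customary inner product 1 -/
def gA (v w : leechLattice) : SimpleGraph ↥(AA v w) where
  Adj x y := dotInt ((x : leechLattice) : GolayPt → ℤ) ((y : leechLattice) : GolayPt → ℤ) = 8
  symm := by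
    constructor
    intro x y h
    show dotInt _ _ = 8
    rw [dot_comm']
    exact h
  loopless := by
    constructor
    intro x h
    have h1 : dotInt ((x : leechLattice) : GolayPt → ℤ) ((x : leechLattice) : GolayPt → ℤ) = 8 := h
    rw [dot_self', x.2.1] at h1
    norm_num at h1

theorem gA_adj (v w : leechLattice) (x y : ↥(AA v w)) : (gA v w).Adj x y ↔
    dotInt ((x : leechLattice) : GolayPt → ℤ) ((y : leechLattice) : GolayPt → ℤ) = 8 := Iff.rfl

/-- the norm of a combination of five vectors -/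
theorem norm_five (a b c d e : GolayPt → ℤ) :
    sqNorm (a + b + c - d + e) = sqNorm a + sqNorm b + sqNorm c + sqNorm d + sqNorm e +
      2 * (dotInt a b + dotInt a c + dotInt b c) - 2 * (dotInt d a + dotInt d b + dotInt d c) +
      2 * (dotInt e a + dotInt e b + dotInt e c) - 2 * dotInt d e := by
  unfold sqNorm dotInt
  simp only [Finset.mul_sum, ← Finset.sum_add_distrib, ← Finset.sum_sub_distrib]
  apply Finset.sum_congr rfl
  intro i _
  simp only [Pi.add_apply, Pi.sub_apply]
  ring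


section act

variable (v w : leechLattice)

/-- the joint stabilizer -/
abbrev HS' : Subgroup Co0 := stabilizer Co0 v ⊓ stabilizer Co0 w

theorem smul_mem_AA (g : Co0) (hg : g ∈ HS' v w) (x : leechLattice) (hx : x ∈ AA v w) :
    g • x ∈ AA v w := by
  have gv : g • v = v := (Subgroup.mem_inf.mp hg).1
  have gw : g • w = w := (Subgroup.mem_inf.mp hg).2
  have e1 := smul_dot g v x
  rw [gv] at e1
  have e2 := smul_dot g w x
  rw [gw] at e2
  exact ⟨(smul_norm g x).trans hx.1, e1.trans hx.2.1, e2.trans hx.2.2⟩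

/-- the automorphism of the graph given by an element of the stabilizer -/
def rho (g : HS' v w) : gA v w ≃g gA v w where
  toFun x := ⟨g.1 • x.1, smul_mem_AA v w g.1 g.2 x.1 x.2⟩
  invFun x := ⟨g.1⁻¹ • x.1, smul_mem_AA v w g.1⁻¹ (Subgroup.inv_mem _ g.2) x.1 x.2⟩
  left_inv x := Subtype.ext (inv_smul_smul g.1 x.1)
  right_inv x := Subtype.ext (smul_inv_smul g.1 x.1)
  map_rel_iff' := by
    intro x y
    show dotInt ((g.1 • x.1 : leechLattice) : GolayPt → ℤ) ((g.1 • y.1 : leechLattice) : GolayPt → ℤ) = 8 ↔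
      dotInt ((x : leechLattice) : GolayPt → ℤ) ((y : leechLattice) : GolayPt → ℤ) = 8
    rw [smul_dot]

theorem rho_apply (g : HS' v w) (x : ↥(AA v w)) : ((rho v w g x : ↥(AA v w)) : leechLattice) = g.1 • x.1 := rfl

/-- the homomorphism to the automorphisms of the graph -/
def rhoHom : HS' v w →* (gA v w ≃g gA v w) where
  toFun := rho v w
  map_one' := by
    apply RelIso.ext
    intro x
    apply Subtype.ext
    show ((1 : HS' v w) : Co0) • x.1 = x.1
    exact one_smul Co0 x.1
  map_mul' g h := by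
    apply RelIso.ext
    intro x
    apply Subtype.ext
    show ((g * h : HS' v w) : Co0) • x.1 = g.1 • (h.1 • x.1)
    exact mul_smul g.1 h.1 x.1

theorem rhoHom_apply (g : HS' v w) (x : ↥(AA v w)) :
    ((rhoHom v w g x : ↥(AA v w)) : leechLattice) = g.1 • x.1 := rfl

end act


section facts

open Cfsg.Agent.Lib.Helper1.SRG100

theorem card_filter_eq_ncard {α : Type*} (S : Set α) [Fintype ↥S] (P : α → Prop) :
    (Finset.univ.filter (fun y : ↥S => P y.1)).card = {y | y ∈ S ∧ P y}.ncard := by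
  rw [← Finset.card_map (Function.Embedding.subtype _), ← Set.ncard_coe_finset]
  congr 1
  ext y
  simp only [Finset.coe_map, Function.Embedding.coe_subtype, Set.mem_image, Finset.mem_coe,
    Finset.mem_filter, Finset.mem_univ, true_and, Subtype.exists, exists_and_right,
    exists_eq_right, Set.mem_setOf_eq]
  constructor
  · rintro ⟨h1, h2⟩
    exact ⟨h1, h2⟩
  · rintro ⟨h1, h2⟩
    exact ⟨h1, h2⟩

variable (v w : leechLattice) [Fintype ↥(AA v w)]
  (hv : sqNorm (v : GolayPt → ℤ) = 48) (hw : sqNorm (w : GolayPt → ℤ) = 48)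
  (hvw : dotInt (v : GolayPt → ℤ) (w : GolayPt → ℤ) = -32)
include hv hw hvw

theorem card_AA : Fintype.card ↥(AA v w) = 100 := by
  have h := (Cfsg.Agent.S1583.result v w hv hw hvw).1
  rw [← Set.toFinset_card, ← Set.ncard_eq_toFinset_card']
  exact h

theorem deg_AA (x : ↥(AA v w)) : (N (gA v w) x).card = 22 := by
  have h := (Cfsg.Agent.S1584.result v w x.1 hv hw hvw x.2).1
  have e := card_filter_eq_ncard (AA v w) (fun y : leechLattice =>
    dotInt ((x : leechLattice) : GolayPt → ℤ) (y : GolayPt → ℤ) = 8)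
  have h' : {y : leechLattice | y ∈ AA v w ∧
      dotInt ((x : leechLattice) : GolayPt → ℤ) (y : GolayPt → ℤ) = 8}.ncard = 22 := h
  rw [← h', ← e]
  unfold N
  congr 1

omit [Fintype ↥(AA v w)] in
/-- the graph has no triangles -/
theorem no_tri (x y z : ↥(AA v w)) (hxy : (gA v w).Adj x y) (hxz : (gA v w).Adj x z)
    (hyz : (gA v w).Adj y z) : False := by
  rw [gA_adj] at hxy hxz hyz
  have hn := norm_five (x.1 : GolayPt → ℤ) (y.1 : GolayPt → ℤ) (z.1 : GolayPt → ℤ)
    (v : GolayPt → ℤ) (w : GolayPt → ℤ)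
  rw [x.2.1, y.2.1, z.2.1, hv, hw, hxy, hxz, hyz, x.2.2.1, y.2.2.1, z.2.2.1, x.2.2.2, y.2.2.2,
    z.2.2.2, hvw] at hn
  have hn' : sqNorm ((x.1 : GolayPt → ℤ) + (y.1 : GolayPt → ℤ) + (z.1 : GolayPt → ℤ) -
      (v : GolayPt → ℤ) + (w : GolayPt → ℤ)) = 16 := by
    rw [hn]; norm_num
  have hmem : (x.1 : GolayPt → ℤ) + (y.1 : GolayPt → ℤ) + (z.1 : GolayPt → ℤ) -
      (v : GolayPt → ℤ) + (w : GolayPt → ℤ) ∈ leechLattice :=
    leechLattice.add_mem (leechLattice.sub_mem (leechLattice.add_mem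
      (leechLattice.add_mem x.1.2 y.1.2) z.1.2) v.2) w.2
  have hne : (x.1 : GolayPt → ℤ) + (y.1 : GolayPt → ℤ) + (z.1 : GolayPt → ℤ) -
      (v : GolayPt → ℤ) + (w : GolayPt → ℤ) ≠ 0 := by
    intro h0
    rw [h0] at hn'
    have : sqNorm (0 : GolayPt → ℤ) = 0 := by
      unfold sqNorm
      simp
    rw [this] at hn'
    norm_num at hn'
  have := Cfsg.Agent.Lib.Helper1.LeechCross.sqNorm_ge_of_mem hmem hne
  rw [hn'] at this
  norm_num at this

omit hv hw hvw [Fintype ↥(AA v w)] in
/-- automorphisms preserve the number of common neighbours -/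
theorem card_inter_map {V : Type*} [Fintype V] (G : SimpleGraph V) (φ : G ≃g G) (a b : V) :
    (N G (φ a) ∩ N G (φ b)).card = (N G a ∩ N G b).card := by
  have hmap : ∀ c : V, N G (φ c) = (N G c).map φ.toEquiv.toEmbedding := by
    intro c
    ext z
    rw [mem_N, Finset.mem_map]
    constructor
    · intro h
      refine ⟨φ.symm z, ?_, φ.apply_symm_apply z⟩
      rw [mem_N]
      have := φ.symm.map_rel_iff.2 h
      rwa [φ.symm_apply_apply] at this
    · rintro ⟨z', hz', rfl⟩
      rw [mem_N] at hz'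
      exact φ.map_rel_iff.2 hz'
  rw [hmap a, hmap b, ← Finset.map_inter, Finset.card_map]

theorem card_Qs_AA (x : ↥(AA v w)) : (Qs (gA v w) x).card = 77 := by
  have h := (Cfsg.Agent.S1584.result v w x.1 hv hw hvw x.2).2.1
  have h' : {y : leechLattice | y ∈ AA v w ∧ (y ≠ x.1 ∧
      dotInt ((x : leechLattice) : GolayPt → ℤ) (y : GolayPt → ℤ) ≠ 8)}.ncard = 77 := h
  have e := card_filter_eq_ncard (AA v w) (fun y : leechLattice => y ≠ x.1 ∧
    dotInt ((x : leechLattice) : GolayPt → ℤ) (y : GolayPt → ℤ) ≠ 8)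
  rw [← h', ← e]
  unfold Qs
  congr 1
  ext y
  simp only [Finset.mem_filter, Finset.mem_univ, true_and, gA_adj]
  constructor
  · rintro ⟨h1, h2⟩
    exact ⟨fun h => h1 (Subtype.ext h), h2⟩
  · rintro ⟨h1, h2⟩
    exact ⟨fun h => h1 (congrArg Subtype.val h), h2⟩

/-- two distinct nonadjacent vertices have six common neighbours -/
theorem nonadj_AA (a b : ↥(AA v w)) (hne : a ≠ b) (hab : ¬ (gA v w).Adj a b) :
    (N (gA v w) a ∩ N (gA v w) b).card = 6 := by
  set G := gA v w with hG
  have hdc := Finset.sum_card_bipartiteAbove_eq_sum_card_bipartiteBelow (s := N G a)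
    (t := Qs G a) (r := fun y q => G.Adj y q)
  -- the left side
  have hL : ∀ y ∈ N G a, ((Qs G a).bipartiteAbove (fun y q => G.Adj y q) y).card = 21 := by
    intro y hy
    rw [mem_N] at hy
    have e : (Qs G a).bipartiteAbove (fun y q => G.Adj y q) y = (N G y).erase a := by
      ext q
      rw [Finset.mem_bipartiteAbove, mem_Qs, Finset.mem_erase, mem_N]
      constructor
      · rintro ⟨⟨h1, _⟩, h3⟩
        exact ⟨h1, h3⟩
      · rintro ⟨h1, h3⟩
        refine ⟨⟨h1, ?_⟩, h3⟩
        intro haq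
        exact no_tri v w hv hw hvw a y q hy haq h3
    rw [e, Finset.card_erase_of_mem ((mem_N G y a).mpr hy.symm), deg_AA v w hv hw hvw y]
  -- the right side
  have hR : ∀ q ∈ Qs G a, ((N G a).bipartiteBelow (fun y q => G.Adj y q) q).card =
      (N G a ∩ N G b).card := by
    intro q hq
    rw [mem_Qs] at hq
    have e : (N G a).bipartiteBelow (fun y q => G.Adj y q) q = N G a ∩ N G q := by
      ext y
      rw [Finset.mem_bipartiteBelow, Finset.mem_inter, mem_N, mem_N]
      constructor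
      · rintro ⟨h1, h2⟩; exact ⟨h1, h2.symm⟩
      · rintro ⟨h1, h2⟩; exact ⟨h1, h2.symm⟩
    rw [e]
    obtain ⟨g, gv, gw, ga, gb⟩ := (Cfsg.Agent.S1584.result v w a.1 hv hw hvw a.2).2.2 b.1 b.2 q.1 q.2
      (fun h => hne (Subtype.ext h).symm) (fun h => hq.1 (Subtype.ext h))
      ⟨fun h => absurd h hab, fun h => absurd h hq.2⟩
    let g' : HS' v w := ⟨g, Subgroup.mem_inf.mpr ⟨gv, gw⟩⟩
    have e1 : rho v w g' a = a := Subtype.ext ga
    have e2 : rho v w g' b = q := Subtype.ext gb
    have := card_inter_map G (rho v w g') a b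
    rw [e1, e2] at this
    convert this
  rw [Finset.sum_congr rfl hL, Finset.sum_congr rfl hR, Finset.sum_const, Finset.sum_const,
    deg_AA v w hv hw hvw a, card_Qs_AA v w hv hw hvw a, smul_eq_mul, smul_eq_mul] at hdc
  omega

omit hv hw hvw [Fintype ↥(AA v w)] in
theorem adj_of_no_tri {V : Type*} [Fintype V] (G : SimpleGraph V)
    (h : ∀ x y z, G.Adj x y → G.Adj x z → G.Adj y z → False) (a b : V) (hab : G.Adj a b) :
    N G a ∩ N G b = ∅ := by
  rw [Finset.eq_empty_iff_forall_notMem]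
  intro z hz
  rw [Finset.mem_inter, mem_N, mem_N] at hz
  exact h a b z hab hz.1 hz.2

theorem facts_AA : Facts (gA v w) where
  card := card_AA v w hv hw hvw
  deg := deg_AA v w hv hw hvw
  adj := adj_of_no_tri (gA v w) (no_tri v w hv hw hvw)
  nonadj := by
    intro a b h1 h2
    convert nonadj_AA v w hv hw hvw a b h1 h2

end facts

end Cfsg.Agent.Lib.Helper1.HSI
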