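import Mathlib
import Cfsg.Agent.Lib.Helper1.HSIso1
import Cfsg.Agent.Lib.Helper1.HSGraph7
import Cfsg.Agent.S0405

/-!
# The joint stabilizer of the Higman–Sims configuration is the group of the even automorphisms
of the standard graph on 100 vertices
-/

set_option autoImplicit false
set_option linter.unusedSectionVars false

namespace Cfsg.Agent.Lib.Helper1.HSI

open Cfsg MulAction Cfsg.Agent.Lib.Helper1.LeechEnum Cfsg.Agent.Lib.Helper1.LeechAut
  Cfsg.Agent.Lib.Helper1.SRG100 Cfsg.Agent.Lib.Helper1.HSG Cfsg.Agent.Lib.Helper1.Stein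

noncomputable instance fintypeVx : Fintype (Vx S22) := Fintype.ofFinite _

/-- the group of the even automorphisms of the standard graph -/
noncomputable def H0 : Subgroup (GA S22) := (sgn (pointBlockGraph S22)).ker

/-- the conjugation of the automorphisms along an isomorphism of graphs -/
def cj {V W : Type*} {G : SimpleGraph V} {H : SimpleGraph W} (ψ : G ≃g H) : (G ≃g G) →* (H ≃g H) where
  toFun φ := (ψ.symm.trans φ).trans ψ
  map_one' := by
    apply RelIso.ext
    intro x
    show ψ (ψ.symm x) = x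
    exact ψ.apply_symm_apply x
  map_mul' φ φ' := by
    apply RelIso.ext
    intro x
    show ψ (φ (φ' (ψ.symm x))) = ψ (φ (ψ.symm (ψ (φ' (ψ.symm x)))))
    rw [ψ.symm_apply_apply]

theorem cj_apply {V W : Type*} {G : SimpleGraph V} {H : SimpleGraph W} (ψ : G ≃g H) (φ : G ≃g G)
    (x : W) : cj ψ φ x = ψ (φ (ψ.symm x)) := rfl

theorem cj_injective {V W : Type*} {G : SimpleGraph V} {H : SimpleGraph W} (ψ : G ≃g H) :
    Function.Injective (cj ψ) := by
  intro φ φ' h
  apply RelIso.ext
  intro x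
  have h1 := congrArg (fun f : H ≃g H => f (ψ x)) h
  simp only [cj_apply, ψ.symm_apply_apply] at h1
  exact ψ.injective h1

section iso

variable (v w : leechLattice)
  (hv : sqNorm (v : GolayPt → ℤ) = 48) (hw : sqNorm (w : GolayPt → ℤ) = 48)
  (hvw : dotInt (v : GolayPt → ℤ) (w : GolayPt → ℤ) = -32)
include hv hw hvw

theorem finite_AA : Finite ↥(AA v w) := by
  have h := (Cfsg.Agent.S1583.result v w hv hw hvw).1
  have : (AA v w).Finite := Set.finite_of_ncard_ne_zero (by
    show {x : leechLattice | sqNorm (x : GolayPt → ℤ) = 32 ∧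
      dotInt (v : GolayPt → ℤ) (x : GolayPt → ℤ) = 24 ∧
      dotInt (w : GolayPt → ℤ) (x : GolayPt → ℤ) = -24}.ncard ≠ 0
    rw [h]; norm_num)
  exact this

/-- the graph on the 100 vectors is the standard graph; the system on 22 points is a Steiner
system -/
theorem exists_graphIso : Nonempty (gA v w ≃g pointBlockGraph S22) ∧ IsSteinerSystem 3 6 S22 := by
  classical
  haveI := finite_AA v w hv hw hvw
  letI : Fintype ↥(AA v w) := Fintype.ofFinite _
  have fG := facts_AA v w hv hw hvw
  have hne : Nonempty ↥(AA v w) := by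
    rw [← Fintype.card_pos_iff, fG.card]
    norm_num
  obtain ⟨x₀⟩ := hne
  have e1 := graphIso (gA v w) fG x₀
  have hB := blocks_steiner (gA v w) fG x₀
  have hα : Fintype.card ↥(N (gA v w) x₀) = 22 := by rw [Fintype.card_coe, fG.deg]
  obtain ⟨e, he⟩ := W22.unique hα hB
  change mapSys e _ = S22 at he
  exact ⟨⟨e1.trans (isoOf _ S22 e he)⟩, he ▸ steiner_map 3 6 e hB⟩

/-- the stabilizer acts faithfully -/
theorem rhoHom_injective : Function.Injective (rhoHom v w) := by
  classical
  haveI := finite_AA v w hv hw hvw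
  letI : Fintype ↥(AA v w) := Fintype.ofFinite _
  have hS : IsSimpleGroup ↥(HS' v w) := (Cfsg.Agent.S0405.result v w hv hw hvw).1
  rw [← MonoidHom.ker_eq_bot_iff]
  rcases (rhoHom v w).normal_ker.eq_bot_or_eq_top with h | h
  · exact h
  · exfalso
    have hc := card_AA v w hv hw hvw
    have h1 : 1 < Fintype.card ↥(AA v w) := by rw [hc]; norm_num
    obtain ⟨x, x', hxx⟩ := Fintype.exists_pair_of_one_lt_card h1
    obtain ⟨g, gv, gw, gx⟩ := (Cfsg.Agent.S1583.result v w hv hw hvw).2 x.1 x.2 x'.1 x'.2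
    let g' : HS' v w := ⟨g, Subgroup.mem_inf.mpr ⟨gv, gw⟩⟩
    have hk : g' ∈ (rhoHom v w).ker := by rw [h]; trivial
    rw [MonoidHom.mem_ker] at hk
    have h2 : rhoHom v w g' x = x' := Subtype.ext gx
    rw [hk] at h2
    exact hxx h2

/-- the joint stabilizer is the group of the even automorphisms of the standard graph -/
theorem nonempty_equiv_H0 : Nonempty (↥(HS' v w) ≃* ↥H0) ∧ IsHS ↥H0 := by
  classical
  obtain ⟨⟨ψ⟩, hS22⟩ := exists_graphIso v w hv hw hvw
  have hHS := Cfsg.Agent.S0405.result v w hv hw hvw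
  haveI : IsSimpleGroup ↥(HS' v w) := hHS.1
  have hH0 : IsHS ↥H0 := by
    obtain ⟨φe, h1, h2⟩ := exists_even_move
    exact hs_of S22 (by simp) hS22 exists_odd ⟨φe, h1, _, h2⟩
  refine ⟨?_, hH0⟩
  let τ : ↥(HS' v w) →* GA S22 := (cj ψ).comp (rhoHom v w)
  have hτi : Function.Injective τ := (cj_injective ψ).comp (rhoHom_injective v w hv hw hvw)
  have hτm : ∀ g, τ g ∈ H0 := by
    intro g
    show τ g ∈ (sgn (pointBlockGraph S22)).ker
    rw [MonoidHom.mem_ker]
    exact hom_trivial_of_simple (by rw [hHS.2]; norm_num)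
      ((sgn (pointBlockGraph S22)).comp τ) g
  let τ' : ↥(HS' v w) →* ↥H0 := τ.codRestrict H0 hτm
  have hτ'i : Function.Injective τ' := by
    intro a b hab
    exact hτi (congrArg Subtype.val hab)
  haveI : Finite ↥H0 := Nat.finite_of_card_ne_zero (by rw [hH0.2]; norm_num)
  have hb : Function.Bijective τ' :=
    hτ'i.bijective_of_nat_card_le (by rw [hH0.2, hHS.2])
  exact ⟨MulEquiv.ofBijective τ' hb⟩

end iso

end Cfsg.Agent.Lib.Helper1.HSI
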