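import Mathlib
import Cfsg.Agent.Lib.Helper1.HSIso2
import Cfsg.Prelude.Def_Spor_Conway

/-!
# The Higman–Sims group of the definitions is the group of the even automorphisms of the standard
graph on 100 vertices
-/

set_option autoImplicit false
set_option linter.unusedSectionVars false

namespace Cfsg.Agent.Lib.Helper1.HSI

open Cfsg MulAction Cfsg.Agent.Lib.Helper1.LeechEnum Cfsg.Agent.Lib.Helper1.LeechAut
  Cfsg.Agent.Lib.Helper1.HSG

/-- the first vector -/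
def VV : leechLattice := Cfsg.Spor.leechV

/-- the second vector -/
def WW : leechLattice := -(Cfsg.Spor.leechV + Cfsg.Spor.leechU')

theorem VV_norm : sqNorm (VV : GolayPt → ℤ) = 48 := by
  show sqNorm Cfsg.Spor.vecV = 48
  decide +kernel

theorem WW_norm : sqNorm (WW : GolayPt → ℤ) = 48 := by
  show sqNorm (-(Cfsg.Spor.vecV + Cfsg.Spor.vecU')) = 48
  decide +kernel

theorem VV_WW : dotInt (VV : GolayPt → ℤ) (WW : GolayPt → ℤ) = -32 := by
  show dotInt Cfsg.Spor.vecV (-(Cfsg.Spor.vecV + Cfsg.Spor.vecU')) = -32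
  decide +kernel

theorem mem_HS_iff (g : Equiv.Perm leechLattice) : g ∈ Cfsg.Spor.HS ↔
    g ∈ Co0 ∧ g Cfsg.Spor.leechV = Cfsg.Spor.leechV ∧ g Cfsg.Spor.leechU' = Cfsg.Spor.leechU' := by
  unfold Cfsg.Spor.HS Cfsg.Spor.Co3
  rw [Subgroup.mem_inf, Subgroup.mem_inf, mem_stabilizer_iff, mem_stabilizer_iff]
  exact ⟨fun h => ⟨h.1.1, h.1.2, h.2⟩, fun h => ⟨⟨h.1, h.2.1⟩, h.2.2⟩⟩

theorem mem_HS'_iff (g : Co0) : g ∈ HS' VV WW ↔
    g.1 Cfsg.Spor.leechV = Cfsg.Spor.leechV ∧ g.1 Cfsg.Spor.leechU' = Cfsg.Spor.leechU' := by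
  rw [Subgroup.mem_inf, mem_stabilizer_iff, mem_stabilizer_iff]
  constructor
  · rintro ⟨h1, h2⟩
    refine ⟨h1, ?_⟩
    have e : Cfsg.Spor.leechU' = -WW - VV := by
      unfold WW VV
      abel
    have h3 : g • Cfsg.Spor.leechU' = Cfsg.Spor.leechU' := by
      rw [e, LeechEnum.smul_sub, smul_neg', h1, h2]
    exact h3
  · rintro ⟨h1, h2⟩
    have h1' : g • Cfsg.Spor.leechV = Cfsg.Spor.leechV := h1
    have h2' : g • Cfsg.Spor.leechU' = Cfsg.Spor.leechU' := h2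
    refine ⟨h1, ?_⟩
    unfold WW
    rw [smul_neg', smul_add', h1', h2']

/-- the group of the definitions as the joint stabilizer -/
def toHS' : ↥Cfsg.Spor.HS ≃* ↥(HS' VV WW) where
  toFun g := ⟨⟨g.1, ((mem_HS_iff g.1).mp g.2).1⟩,
    (mem_HS'_iff _).mpr ((mem_HS_iff g.1).mp g.2).2⟩
  invFun h := ⟨h.1.1, (mem_HS_iff _).mpr ⟨h.1.2, (mem_HS'_iff h.1).mp h.2⟩⟩
  left_inv _ := rfl
  right_inv _ := rfl
  map_mul' _ _ := rfl

/-- the Higman–Sims group of the definitions is the group of the even automorphisms of the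
standard graph on 100 vertices -/
theorem nonempty_HS_equiv : Nonempty (↥Cfsg.Spor.HS ≃* ↥H0) ∧ IsHS ↥H0 := by
  obtain ⟨⟨e⟩, h⟩ := nonempty_equiv_H0 VV WW VV_norm WW_norm VV_WW
  exact ⟨⟨toHS'.trans e⟩, h⟩

end Cfsg.Agent.Lib.Helper1.HSI
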