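import Mathlib

set_option autoImplicit false

/-! The Higman–Sims group on the 100 vertices: the tables of two generators of orders 7 and 11,
of two generators of orders 5 and 7 of the stabilizer of a half, relations and words. -/

namespace Cfsg.Agent.Lib.Helper1.HSM

/-- the table of the first generator -/
def aL : List ℕ := [43, 38, 85, 23, 86, 14, 36, 96, 97, 9, 19, 68, 55, 78, 94, 31, 12, 92, 57, 1, 76, 70, 2, 61, 62, 4, 28, 3, 48, 73, 27, 58, 75, 22, 69, 74, 5, 37, 47, 10, 16, 95, 72, 64, 99, 52, 39, 46, 80, 63, 66, 49, 8, 84, 13, 11, 34, 90, 20, 82, 44, 41, 42, 17, 91, 59, 6, 18, 87, 26, 15, 51, 53, 81, 45, 89, 21, 7, 29, 77, 56, 88, 67, 71, 98, 25, 33, 40, 54, 0, 65, 32, 83, 35, 50, 30, 60, 93, 24, 79]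

/-- the table of its inverse -/
def aInvL : List ℕ := [89, 19, 22, 27, 25, 36, 66, 77, 52, 9, 39, 55, 16, 54, 5, 70, 40, 63, 67, 10, 58, 76, 33, 3, 98, 85, 69, 30, 26, 78, 95, 15, 91, 86, 56, 93, 6, 37, 1, 46, 87, 61, 62, 0, 60, 74, 47, 38, 28, 51, 94, 71, 45, 72, 88, 12, 80, 18, 31, 65, 96, 23, 24, 49, 43, 90, 50, 82, 11, 34, 21, 83, 42, 29, 35, 32, 20, 79, 13, 99, 48, 73, 59, 92, 53, 2, 4, 68, 81, 75, 57, 64, 17, 97, 14, 41, 7, 8, 84, 44]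

/-- the table of the second generator -/
def bL : List ℕ := [96, 61, 58, 30, 39, 34, 15, 56, 41, 4, 54, 21, 37, 10, 48, 46, 59, 50, 8, 22, 25, 53, 43, 73, 72, 44, 60, 77, 29, 11, 65, 5, 32, 18, 52, 17, 75, 63, 28, 66, 24, 40, 26, 79, 84, 98, 81, 87, 0, 93, 80, 6, 7, 42, 64, 62, 45, 69, 51, 99, 89, 82, 91, 35, 67, 20, 16, 71, 47, 33, 27, 88, 90, 83, 95, 49, 74, 13, 3, 14, 36, 68, 19, 31, 55, 38, 76, 94, 97, 85, 92, 78, 57, 12, 2, 9, 1, 70, 23, 86]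

/-- the table of its inverse -/
def bInvL : List ℕ := [48, 96, 94, 78, 9, 31, 51, 52, 18, 95, 13, 29, 93, 77, 79, 6, 66, 35, 33, 82, 65, 11, 19, 98, 40, 20, 42, 70, 38, 28, 3, 83, 32, 69, 5, 63, 80, 12, 85, 4, 41, 8, 53, 22, 25, 56, 15, 68, 14, 75, 17, 58, 34, 21, 10, 84, 7, 92, 2, 16, 26, 1, 55, 37, 54, 30, 39, 64, 81, 57, 97, 67, 24, 23, 76, 36, 86, 27, 91, 43, 50, 46, 61, 73, 44, 89, 99, 47, 71, 60, 72, 62, 90, 49, 87, 74, 0, 88, 45, 59]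

/-- the packed tables -/
def TN : List ℕ := [0x9e62ebc3cc91d341040365084ce28f0ec389a74395b2b68b5663cd572419ddb22a94aca452d221636a086309fd05c9da638122f9014bd2859514b4b746e4b0067023e7a0a34c02e6e0c3f7a737884c4e1c0907562f5532b, 0xac5e30112086399d72ae1bd313373e4e2241c0c6ca637e9dab06d0af8e40a43476e959c6ce2ad7d015070d42e80af471549e694188471fcb22d09200b0459d9af164892ada992c2193b5cc05252ad8229703d1273ce9ee0]

/-- the action of the generators on the codes of the vertices -/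
def fT (i x : ℕ) : ℕ := (TN.getD i 0 >>> (7 * x)) &&& 127

/-- relations between the generators -/
def relsL : List (List ℕ × List ℕ) := [([0, 1, 1, 1, 0, 1, 1, 1, 0, 1, 1, 1, 0, 1, 1, 1, 0, 1, 1, 1], []), ([0, 0, 1, 0, 0, 1, 0, 0, 1, 0, 0, 1, 0, 0, 1, 0, 0, 1, 0, 0, 1], []), ([0, 1, 0, 1, 0, 1, 0, 1, 0, 1, 0, 1, 0, 1, 0, 1, 0, 1, 0, 1, 0, 1, 0, 1], []), ([0, 1, 1, 0, 1, 1, 0, 1, 1, 0, 1, 1, 0, 1, 1, 0, 1, 1, 0, 1, 1, 0, 1, 1], []), ([0, 0, 0, 0, 0, 1, 0, 1, 0, 0, 0, 0, 0, 1, 0, 1, 0, 0, 0, 0, 0, 1, 0, 1], [])]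

/-- the words of two generators of the stabilizer of a half -/
def w1 : List ℕ := [1, 1, 1, 1, 1, 1, 1, 1, 1, 0, 0, 0, 0, 0, 0, 1, 0, 1, 1, 1, 0, 1]
def w2 : List ℕ := [0, 0, 0, 0, 0, 1, 0, 0, 0, 1, 0, 1, 0, 0, 0, 0]

/-- the packed tables of these generators -/
def TN1 : List ℕ := [0x95255d9b12163062ef1afaef805a64b5e3d8f00a1c101a8df0896962464a0833c093c420915464459f97190ab3abd3198f1339b2642d5a1a1c28fa9a0a27d52b70c8b704dbdd40469819b2c6c5c26cc430f80e85736ea2e, 0x477cdafb4e8ec9766aa5184965b4537402b32044ca635b010280c6c62e869d88e183c44939c882c7a6bc644c7405588c289ee10416d16dccaa287910b85be35b21fa76031ad07b5d62e4470a84164935c3f799d2b2f8143]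

/-- the action of these generators on the codes of the vertices -/
def fT1 (i x : ℕ) : ℕ := (TN1.getD i 0 >>> (7 * x)) &&& 127

/-- relations between these generators -/
def rels1L : List (List ℕ × List ℕ) := [([0, 1, 0, 1, 0, 1, 0, 1, 0, 1, 0, 1], []), ([0, 0, 1, 0, 1, 0, 0, 1, 0, 1, 0, 0, 1, 0, 1], []), ([0, 1, 1, 1, 0, 1, 1, 1, 0, 1, 1, 1, 0, 1, 1, 1], [])]

/-- two commuting elements of order 3 and an involution inverting the first and centralizing the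
second -/
def wX : List ℕ := [0, 0, 0, 0, 1, 1, 1, 1, 0, 1, 1, 0, 1, 0, 1, 0, 0, 1, 0, 1, 0, 0]
def wY : List ℕ := [0, 0, 1, 1, 1, 0, 1, 1, 1, 1, 1, 0, 1, 1, 0, 1, 0, 0, 0, 1, 0, 1, 0, 0, 1, 1]
def wN : List ℕ := [1, 1, 0, 0, 1, 0, 1, 0, 1, 0, 1, 0, 1, 1, 0, 0, 1, 0, 0, 1, 0, 0, 0, 0]

/-- a vertex moved by the second of these and not by the first in the same way -/
def vXY : ℕ := 0

end Cfsg.Agent.Lib.Helper1.HSM
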