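import Mathlib
import Cfsg.Agent.Lib.Helper1.HSIso3
import Cfsg.Agent.Lib.Helper1.HSGraph4
import Cfsg.Agent.Lib.Helper1.HSMD1
import Cfsg.Agent.Lib.Helper1.MatCode3

/-!
# The Higman–Sims group as the group of the even automorphisms of the standard graph: two
generators, their tables on the codes of the 100 vertices, and words
-/

set_option autoImplicit false
set_option maxRecDepth 100000

namespace Cfsg.Agent.Lib.Helper1.HSM

open Cfsg Equiv Cfsg.Agent.Lib.Helper1.HSG Cfsg.Agent.Lib.Helper1.HSI
  Cfsg.Agent.Lib.Helper1.MatCode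

/-- the group -/
abbrev Gh : Type := ↥H0

theorem isHS_Gh : IsHS Gh := nonempty_HS_equiv.2

instance isSimpleGroup_Gh : IsSimpleGroup Gh := isHS_Gh.1

theorem card_Gh : Nat.card Gh = 44352000 := isHS_Gh.2

instance finite_Gh : Finite Gh := Nat.finite_of_card_ne_zero (by rw [card_Gh]; norm_num)

/-- the automorphisms of the graph as permutations of the codes -/
def φ0 : GA S22 →* Perm (Fin 100) where
  toFun g := encE.permCongr (g.toEquiv : Perm (Vx S22))
  map_one' := by
    ext i
    rw [Equiv.permCongr_apply, Perm.one_apply]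
    show ((encE (encE.symm i) : Fin 100) : ℕ) = _
    rw [Equiv.apply_symm_apply]
  map_mul' g h := by
    ext i
    rw [Perm.mul_apply, Equiv.permCongr_apply, Equiv.permCongr_apply, Equiv.permCongr_apply,
      Equiv.symm_apply_apply]
    rfl

theorem φ0_apply (g : GA S22) (i : Fin 100) : φ0 g i = encE (g (encE.symm i)) := rfl

theorem φ0_injective : Function.Injective φ0 := by
  intro g h hgh
  apply RelIso.ext
  intro v
  have h1 := congrArg (fun p : Perm (Fin 100) => p (encE v)) hgh
  simp only [φ0_apply, Equiv.symm_apply_apply] at h1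
  exact encE.injective h1

theorem φ0_autOfList (l l' : List ℕ) (hp : TblPerm l l') (ha : TblAdj l) (i : Fin 100) :
    (φ0 (autOfList l l' hp ha) i).val = l.getD i.val 0 := by
  rw [φ0_apply]
  show encV (decV (l.getD (encV (decV i)) 0)) = _
  rw [encV_decV i.2, encV_decV (hp _ i.2).1]

/-- the group as permutations of the codes -/
noncomputable def φ : Gh →* Perm (Fin 100) := φ0.comp H0.subtype

theorem φ_injective : Function.Injective φ :=
  φ0_injective.comp Subtype.val_injective

theorem a_perm : TblPerm aL aInvL := by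
  unfold TblPerm
  decide +kernel

set_option maxRecDepth 1000000 in
theorem a_adj : TblAdj aL := by
  unfold TblAdj
  decide +kernel

theorem b_perm : TblPerm bL bInvL := by
  unfold TblPerm
  decide +kernel

set_option maxRecDepth 1000000 in
theorem b_adj : TblAdj bL := by
  unfold TblAdj
  decide +kernel

/-- the generators, as automorphisms of the graph -/
def gA0 : GA S22 := autOfList aL aInvL a_perm a_adj

def gB0 : GA S22 := autOfList bL bInvL b_perm b_adj

theorem fT_chk : ∀ x : Fin 100, aL.getD x.val 0 = fT 0 x.val ∧ bL.getD x.val 0 = fT 1 x.val := by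
  decide +kernel

theorem φ0_gA0 (x : Fin 100) : (φ0 gA0 x).val = fT 0 x.val := by
  rw [← (fT_chk x).1]
  exact φ0_autOfList _ _ _ _ x

theorem φ0_gB0 (x : Fin 100) : (φ0 gB0 x).val = fT 1 x.val := by
  rw [← (fT_chk x).2]
  exact φ0_autOfList _ _ _ _ x

/-- the iterates of a table -/
def iterT (i : ℕ) : ℕ → ℕ → ℕ
  | 0, x => x
  | n + 1, x => fT i (iterT i n x)

theorem φ0_pow_gA0 (n : ℕ) (x : Fin 100) : (φ0 (gA0 ^ n) x).val = iterT 0 n x.val := by
  induction n with
  | zero => simp [iterT]
  | succ n ih => rw [pow_succ', map_mul, Perm.mul_apply, φ0_gA0, ih]; rfl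

theorem φ0_pow_gB0 (n : ℕ) (x : Fin 100) : (φ0 (gB0 ^ n) x).val = iterT 1 n x.val := by
  induction n with
  | zero => simp [iterT]
  | succ n ih => rw [pow_succ', map_mul, Perm.mul_apply, φ0_gB0, ih]; rfl

theorem iter_chk : ∀ x : Fin 100, iterT 0 7 x.val = x.val ∧ iterT 1 11 x.val = x.val := by
  decide +kernel

theorem gA0_pow : gA0 ^ 7 = 1 := by
  apply φ0_injective
  ext x
  rw [φ0_pow_gA0, (iter_chk x).1, map_one, Perm.one_apply]

theorem gB0_pow : gB0 ^ 11 = 1 := by
  apply φ0_injective
  ext x
  rw [φ0_pow_gB0, (iter_chk x).2, map_one, Perm.one_apply]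

theorem mem_H0_of_pow_odd (g : GA S22) (n : ℕ) (hn : Odd n) (h : g ^ n = 1) : g ∈ H0 := by
  show g ∈ (sgn (pointBlockGraph S22)).ker
  rw [MonoidHom.mem_ker]
  have h1 : (sgn (pointBlockGraph S22) g) ^ n = 1 := by rw [← map_pow, h, map_one]
  rcases Int.units_eq_one_or (sgn (pointBlockGraph S22) g) with h2 | h2
  · exact h2
  · rw [h2, hn.neg_one_pow] at h1
    exact absurd h1 (by decide)

/-- the generators -/
noncomputable def gA : Gh := ⟨gA0, mem_H0_of_pow_odd gA0 7 (by decide) gA0_pow⟩

noncomputable def gB : Gh := ⟨gB0, mem_H0_of_pow_odd gB0 11 (by decide) gB0_pow⟩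

/-- the generators -/
noncomputable abbrev GG : List Gh := [gA, gB]

theorem φ_GG (i : ℕ) (hi : i < 2) (x : Fin 100) : (φ (GG.getD i 1) x).val = fT i x.val := by
  interval_cases i
  · exact φ0_gA0 x
  · exact φ0_gB0 x

/-- the action of a word on a vertex, on the tables -/
def wordTab (w : List ℕ) (x : ℕ) : ℕ := w.foldr (fun i x => fT i x) x

theorem φ_wordProd (w : List ℕ) (hw : ∀ i ∈ w, i < 2) (x : Fin 100) :
    (φ (wordProd GG w) x).val = wordTab w x.val := by
  induction w with
  | nil => simp [wordProd_nil, wordTab]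
  | cons i w ih =>
    rw [wordProd_cons, map_mul, Perm.mul_apply, φ_GG i (hw i (by simp))]
    rw [ih (fun i' hi' => hw i' (by simp [hi']))]
    rfl

/-- the boolean comparison of two words -/
def wordBeq (w w' : List ℕ) : Bool :=
  (w.all fun i => decide (i < 2)) && (w'.all fun i => decide (i < 2)) &&
    (List.range 100).all fun x => wordTab w x == wordTab w' x

theorem eq_of_wordBeq (w w' : List ℕ) (h : wordBeq w w' = true) :
    wordProd GG w = wordProd GG w' := by
  unfold wordBeq at h
  simp only [Bool.and_eq_true, List.all_eq_true, decide_eq_true_eq, beq_iff_eq, List.mem_range]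
    at h
  obtain ⟨⟨h1, h2⟩, h3⟩ := h
  apply φ_injective
  apply Equiv.ext
  intro x
  apply Fin.ext
  rw [φ_wordProd w h1, φ_wordProd w' h2]
  exact h3 x.val x.isLt

theorem wordProd_replicate' {Γ : Type*} [Group Γ] (G : List Γ) (i n : ℕ) :
    wordProd G (List.replicate n i) = (G.getD i 1) ^ n := by
  induction n with
  | zero => simp [wordProd_nil]
  | succ n ih => rw [List.replicate_succ, wordProd_cons, ih, pow_succ']

theorem gA_pow : gA ^ 7 = 1 := Subtype.ext gA0_pow

theorem gB_pow : gB ^ 11 = 1 := Subtype.ext gB0_pow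

theorem hrel : ∀ w ∈ relsL, wordProd GG w.1 = wordProd GG w.2 := by
  have h : relsL.all (fun w => wordBeq w.1 w.2) = true := by decide +kernel
  rw [List.all_eq_true] at h
  intro w hw
  exact eq_of_wordBeq _ _ (h w hw)

/-- the generators of the stabilizer of a half -/
noncomputable def gA1 : Gh := wordProd GG w1

noncomputable def gB1 : Gh := wordProd GG w2

/-- the generators of the stabilizer of a half -/
noncomputable abbrev GG1 : List Gh := [gA1, gB1]

theorem fT1_chk : ∀ x : Fin 100, wordTab w1 x.val = fT1 0 x.val ∧ wordTab w2 x.val = fT1 1 x.val := by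
  decide +kernel

theorem φ_GG1 (i : ℕ) (hi : i < 2) (x : Fin 100) : (φ (GG1.getD i 1) x).val = fT1 i x.val := by
  interval_cases i
  · rw [← (fT1_chk x).1]
    exact φ_wordProd w1 (by decide) x
  · rw [← (fT1_chk x).2]
    exact φ_wordProd w2 (by decide) x

/-- the action of a word in the generators of the stabilizer on a vertex, on the tables -/
def wordTab1 (w : List ℕ) (x : ℕ) : ℕ := w.foldr (fun i x => fT1 i x) x

theorem φ_wordProd1 (w : List ℕ) (hw : ∀ i ∈ w, i < 2) (x : Fin 100) :
    (φ (wordProd GG1 w) x).val = wordTab1 w x.val := by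
  induction w with
  | nil => simp [wordProd_nil, wordTab1]
  | cons i w ih =>
    rw [wordProd_cons, map_mul, Perm.mul_apply, φ_GG1 i (hw i (by simp))]
    rw [ih (fun i' hi' => hw i' (by simp [hi']))]
    rfl

/-- the boolean comparison of two words in the generators of the stabilizer -/
def wordBeq1 (w w' : List ℕ) : Bool :=
  (w.all fun i => decide (i < 2)) && (w'.all fun i => decide (i < 2)) &&
    (List.range 100).all fun x => wordTab1 w x == wordTab1 w' x

theorem eq_of_wordBeq1 (w w' : List ℕ) (h : wordBeq1 w w' = true) :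
    wordProd GG1 w = wordProd GG1 w' := by
  unfold wordBeq1 at h
  simp only [Bool.and_eq_true, List.all_eq_true, decide_eq_true_eq, beq_iff_eq, List.mem_range]
    at h
  obtain ⟨⟨h1, h2⟩, h3⟩ := h
  apply φ_injective
  apply Equiv.ext
  intro x
  apply Fin.ext
  rw [φ_wordProd1 w h1, φ_wordProd1 w' h2]
  exact h3 x.val x.isLt

theorem gA1_pow : gA1 ^ 5 = 1 := by
  have h := eq_of_wordBeq1 (List.replicate 5 0) [] (by decide +kernel)
  rwa [wordProd_replicate', wordProd_nil] at h

theorem gB1_pow : gB1 ^ 7 = 1 := by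
  have h := eq_of_wordBeq1 (List.replicate 7 1) [] (by decide +kernel)
  rwa [wordProd_replicate', wordProd_nil] at h

theorem hrel1 : ∀ w ∈ rels1L, wordProd GG1 w.1 = wordProd GG1 w.2 := by
  have h : rels1L.all (fun w => wordBeq1 w.1 w.2) = true := by decide +kernel
  rw [List.all_eq_true] at h
  intro w hw
  exact eq_of_wordBeq1 _ _ (h w hw)

end Cfsg.Agent.Lib.Helper1.HSM
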