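import Mathlib
import Cfsg.Agent.Lib.Helper1.HSMD1

set_option autoImplicit false
set_option maxRecDepth 100000
set_option maxHeartbeats 8000000

/-! The Higman–Sims group: words for the chain of stabilizers. -/

namespace Cfsg.Agent.Lib.Helper1.HSM

open Cfsg.Agent.Lib.Helper1

/-- a vertex of the first set of 25 vertices -/
def v0 : ℕ := 64

/-- an element of order 4 and an element of order 5 of the stabilizer of the set and of the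
vertex, as words in the generators of the stabilizer of a half -/
def wC : List ℕ := [1, 0, 1, 1, 1, 1, 0, 1]
def wZ : List ℕ := [1, 0, 1, 1, 0, 0, 1, 0, 1, 0, 0, 1, 0, 0]

/-- the vertices of the set with words of elements of the stabilizer of the set mapping the first
vertex to them -/
def trL : List (ℕ × List ℕ) := [(0, [1, 0, 1, 1, 1, 1, 0, 1, 0, 0]), (2, [1, 1, 1, 1, 0, 1, 0, 0, 0, 0, 1, 0]), (3, [0]), (23, [0, 0, 1, 0, 1, 1, 1, 1, 0, 1, 0]), (26, [1, 1, 0, 1, 1, 1, 1, 0, 1, 0, 1, 1]), (28, [0, 0, 0, 1, 0, 1, 1, 1, 1, 0, 1, 0, 0]), (36, [0, 0, 1, 0, 1, 1, 1, 1, 0, 1, 0, 0, 0]), (37, [1, 0, 1, 1, 1, 1, 0, 1, 0]), (42, [0, 0, 0]), (46, [0, 1, 0, 1, 1, 1, 1, 0, 1, 0, 0]), (48, [1, 0, 1, 1, 1, 1, 0, 1, 0, 0, 0]), (49, [0, 1, 0, 1, 1, 1, 1, 0, 1, 0, 0, 0, 0]), (52, [0, 1, 0, 1, 1, 1, 1, 0, 1, 0]), (56, [1, 0, 1, 0, 1, 1, 0, 0, 1, 1]), (57, [0, 0]),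 (58, [0, 1, 0, 1, 1, 1, 1, 0, 1, 0, 0, 0]), (62, [0, 1, 0, 1, 0, 1, 1, 0, 0, 1, 1, 0]), (64, []), (70, [0, 1, 0, 1, 0, 1, 1, 0, 0, 1, 1]), (76, [0, 0, 1, 0, 1, 1, 1, 1, 0, 1, 0, 0]), (78, [0, 0, 0, 0]), (85, [1, 1, 0, 1, 0, 1, 1, 0, 1, 1, 1, 0]), (86, [1, 0, 1, 0, 1, 1, 0, 0, 1, 1, 0]), (91, [1, 0, 1, 1, 1, 1, 0, 1, 0, 0, 0, 0]), (92, [1, 1, 0, 1, 0, 1, 1, 0, 1, 1, 1, 0, 0])]

/-- a vertex moved by the square of the element of order 4 -/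
def vC : ℕ := 0

/-- a vertex moved by the element of order 5 -/
def vZ : ℕ := 0

end Cfsg.Agent.Lib.Helper1.HSM
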