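import Mathlib

/-!
# Permutations of `Fin N` acting on sets and on sets of sets coded by bit masks
-/

set_option autoImplicit false

namespace Cfsg.Agent.Lib.Helper1.MaskAct

open Equiv

open scoped Pointwise

variable (N : ℕ)

/-- the set of points with a given bit mask -/
def mset (M : ℕ) : Finset (Fin N) := Finset.univ.filter fun i => M.testBit i.val = true

theorem mem_mset (M : ℕ) (i : Fin N) : i ∈ mset N M ↔ M.testBit i.val = true := by
  unfold mset
  rw [Finset.mem_filter]
  exact ⟨fun h => h.2, fun h => ⟨Finset.mem_univ _, h⟩⟩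

theorem mset_inj {M M' : ℕ} (hM : M < 2 ^ N) (hM' : M' < 2 ^ N) (h : mset N M = mset N M') :
    M = M' := by
  apply Nat.eq_of_testBit_eq
  intro i
  by_cases hi : i < N
  · have h1 := mem_mset N M ⟨i, hi⟩
    have h2 := mem_mset N M' ⟨i, hi⟩
    rw [h] at h1
    have h3 : M.testBit i = true ↔ M'.testBit i = true := h1.symm.trans h2
    cases hb : M.testBit i <;> cases hb' : M'.testBit i <;> simp_all
  · have e1 : M.testBit i = false :=
      Nat.testBit_lt_two_pow (lt_of_lt_of_le hM (Nat.pow_le_pow_right (by norm_num) (by omega)))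
    have e2 : M'.testBit i = false :=
      Nat.testBit_lt_two_pow (lt_of_lt_of_le hM' (Nat.pow_le_pow_right (by norm_num) (by omega)))
    rw [e1, e2]

/-- the image of a bit mask under a function on the points -/
def imgMask (f : ℕ → ℕ) (M : ℕ) : ℕ :=
  (List.range N).foldl (fun r i => if M.testBit i = true then r ||| 2 ^ f i else r) 0

theorem testBit_foldl (f : ℕ → ℕ) (M : ℕ) (l : List ℕ) (r j : ℕ) :
    (l.foldl (fun r i => if M.testBit i = true then r ||| 2 ^ f i else r) r).testBit j = true ↔
      (r.testBit j = true ∨ ∃ i ∈ l, M.testBit i = true ∧ f i = j) := by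
  induction l generalizing r with
  | nil => simp
  | cons b l ih =>
    rw [List.foldl_cons, ih]
    by_cases ha : M.testBit b = true
    · rw [if_pos ha, Nat.testBit_or, Nat.testBit_two_pow]
      simp only [Bool.or_eq_true, decide_eq_true_eq, List.mem_cons, exists_eq_or_imp]
      constructor
      · rintro ((h | h) | h)
        · exact Or.inl h
        · exact Or.inr (Or.inl ⟨ha, h⟩)
        · exact Or.inr (Or.inr h)
      · rintro (h | ⟨_, h⟩ | h)
        · exact Or.inl (Or.inl h)
        · exact Or.inl (Or.inr h)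
        · exact Or.inr h
    · rw [if_neg ha]
      simp only [List.mem_cons, exists_eq_or_imp]
      constructor
      · rintro (h | h)
        · exact Or.inl h
        · exact Or.inr (Or.inr h)
      · rintro (h | ⟨h, _⟩ | h)
        · exact Or.inl h
        · exact absurd h ha
        · exact Or.inr h

theorem testBit_imgMask (f : ℕ → ℕ) (M j : ℕ) :
    (imgMask N f M).testBit j = true ↔ ∃ i < N, M.testBit i = true ∧ f i = j := by
  unfold imgMask
  rw [testBit_foldl]
  simp only [Nat.zero_testBit, Bool.false_eq_true, false_or, List.mem_range]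

/-- the action of a permutation, given by a function on the codes of the points, on the sets -/
theorem smul_mset (g : Perm (Fin N)) (f : ℕ → ℕ) (hf : ∀ x : Fin N, (g x).val = f x.val)
    (M : ℕ) : g • mset N M = mset N (imgMask N f M) := by
  ext j
  rw [Finset.mem_smul_finset, mem_mset, testBit_imgMask]
  constructor
  · rintro ⟨y, hy, rfl⟩
    rw [mem_mset] at hy
    exact ⟨y.val, y.isLt, hy, by rw [Perm.smul_def, hf]⟩
  · rintro ⟨i, hi, hM, hfi⟩
    refine ⟨⟨i, hi⟩, (mem_mset _ _ _).mpr hM, ?_⟩
    apply Fin.ext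
    rw [Perm.smul_def, hf]
    exact hfi

/-- the set of the sets with given bit masks -/
def msets (L : List ℕ) : Finset (Finset (Fin N)) := (L.map (mset N)).toFinset

theorem mem_msets (L : List ℕ) (S : Finset (Fin N)) : S ∈ msets N L ↔ ∃ M ∈ L, mset N M = S := by
  unfold msets
  rw [List.mem_toFinset, List.mem_map]

/-- the action on the sets of sets -/
theorem smul_msets (g : Perm (Fin N)) (f : ℕ → ℕ) (hf : ∀ x : Fin N, (g x).val = f x.val)
    (L : List ℕ) : g • msets N L = msets N (L.map (imgMask N f)) := by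
  ext S
  rw [Finset.mem_smul_finset, mem_msets]
  constructor
  · rintro ⟨S', hS', rfl⟩
    rw [mem_msets] at hS'
    obtain ⟨M, hM, rfl⟩ := hS'
    exact ⟨imgMask N f M, List.mem_map.mpr ⟨M, hM, rfl⟩, (smul_mset N g f hf M).symm⟩
  · rintro ⟨M', hM', rfl⟩
    obtain ⟨M, hM, rfl⟩ := List.mem_map.mp hM'
    exact ⟨mset N M, (mem_msets N L _).mpr ⟨M, hM, rfl⟩, smul_mset N g f hf M⟩

/-- sets of sets given by lists with the same elements -/
theorem msets_eq_of_subset (L L' : List ℕ) (h : ∀ M ∈ L, M ∈ L') (h' : ∀ M ∈ L', M ∈ L) :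
    msets N L = msets N L' := by
  ext S
  rw [mem_msets, mem_msets]
  constructor
  · rintro ⟨M, hM, rfl⟩; exact ⟨M, h M hM, rfl⟩
  · rintro ⟨M, hM, rfl⟩; exact ⟨M, h' M hM, rfl⟩

/-- sets of sets given by lists of small masks, one of which has a mask not in the other -/
theorem msets_ne_of_not_mem (L L' : List ℕ) (hL : ∀ M ∈ L, M < 2 ^ N) (hL' : ∀ M ∈ L', M < 2 ^ N)
    (M : ℕ) (hM : M ∈ L) (hM' : M ∉ L') : msets N L ≠ msets N L' := by
  intro h
  have h1 : mset N M ∈ msets N L := (mem_msets N L _).mpr ⟨M, hM, rfl⟩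
  rw [h, mem_msets] at h1
  obtain ⟨M₁, hM₁, he⟩ := h1
  have := mset_inj N (hL' M₁ hM₁) (hL M hM) he
  rw [this] at hM₁
  exact hM' hM₁

end Cfsg.Agent.Lib.Helper1.MaskAct
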