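import Mathlib
import Cfsg.Agent.Lib.Helper1.HSM1
import Cfsg.Agent.Lib.Helper1.HSMD2
import Cfsg.Agent.Lib.Helper1.HSMD3
import Cfsg.Agent.Lib.Helper1.HSMD5
import Cfsg.Agent.Lib.Helper1.MaskAct
import Cfsg.Agent.Lib.Helper1.StemZB4
import Cfsg.Agent.Lib.Helper1.StemOrb

/-!
# The Higman–Sims group: the actions on the halves of the graph and on sets of 25 vertices, and
a lower bound for the order of the subgroup generated by the words of the stabilizer of a half
-/

set_option autoImplicit false
set_option maxRecDepth 100000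

namespace Cfsg.Agent.Lib.Helper1.HSM

open Cfsg Equiv Cfsg.Agent.Lib.Helper1.MatCode Cfsg.Agent.Lib.Helper1.StemSA
  Cfsg.Agent.Lib.Helper1.MaskAct

open scoped Pointwise

/-- a subgroup, a point with enough images under it, and a subgroup fixing the point -/
theorem card_mul_le_of_orbit {G X : Type*} [Group G] [Finite G] [MulAction G X]
    (H L : Subgroup G) (x : X) (hLH : L ≤ H) (hLx : L ≤ MulAction.stabilizer G x)
    (S : Finset X) (hS : ∀ y ∈ S, ∃ h ∈ H, h • x = y) : S.card * Nat.card L ≤ Nat.card H := by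
  classical
  haveI : Finite ↑(MulAction.orbit ↥H x) := Finite.of_surjective
    (fun h : ↥H => (⟨h • x, MulAction.mem_orbit x h⟩ : MulAction.orbit ↥H x)) (by
      rintro ⟨y, h, rfl⟩
      exact ⟨h, rfl⟩)
  have h1 := Subgroup.card_mul_index (MulAction.stabilizer ↥H x)
  rw [MulAction.index_stabilizer] at h1
  have h2 : S.card ≤ (MulAction.orbit ↥H x).ncard := by
    rw [← Set.ncard_coe_finset S]
    apply Set.ncard_le_ncard _ (Set.toFinite _)
    intro y hy
    obtain ⟨h, hh, rfl⟩ := hS y (Finset.mem_coe.mp hy)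
    exact ⟨⟨h, hh⟩, rfl⟩
  have h3 : Nat.card L ≤ Nat.card (MulAction.stabilizer ↥H x) := by
    let f : L → MulAction.stabilizer ↥H x := fun g => ⟨⟨g.1, hLH g.2⟩, by
      rw [MulAction.mem_stabilizer_iff]
      exact MulAction.mem_stabilizer_iff.mp (hLx g.2)⟩
    apply Nat.card_le_card_of_injective f
    intro g g' hgg
    apply Subtype.ext
    exact congrArg (fun t : MulAction.stabilizer ↥H x => (t.1.1 : G)) hgg
  calc S.card * Nat.card L ≤ (MulAction.orbit ↥H x).ncard * Nat.card (MulAction.stabilizer ↥H x) :=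
        Nat.mul_le_mul h2 h3
    _ = Nat.card ↥H := by rw [mul_comm]; exact h1

/-- a subgroup with elements of orders 4 and 5 -/
theorem twenty_le_card {G : Type*} [Group G] [Finite G] (L : Subgroup G) (c z : G) (hc : c ∈ L)
    (hz : z ∈ L) (hco : orderOf c = 4) (hzo : orderOf z = 5) : 20 ≤ Nat.card L := by
  have h4 : 4 ∣ Nat.card L := by
    rw [← hco, ← Subgroup.orderOf_mk c hc]
    exact orderOf_dvd_natCard _
  have h5 : 5 ∣ Nat.card L := by
    rw [← hzo, ← Subgroup.orderOf_mk z hz]
    exact orderOf_dvd_natCard _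
  have h20 : 4 * 5 ∣ Nat.card L := Nat.Coprime.mul_dvd_of_dvd_of_dvd (by norm_num) h4 h5
  exact Nat.le_of_dvd Nat.card_pos h20

/-- the action on the vertices -/
noncomputable instance actPt : MulAction Gh (Fin 100) := MulAction.compHom (Fin 100) φ

theorem smul_pt_eq (g : Gh) (x : Fin 100) : g • x = φ g x := rfl

/-- the action on the sets of vertices -/
noncomputable instance actSet : MulAction Gh (Finset (Fin 100)) :=
  MulAction.compHom (Finset (Fin 100)) φ

theorem smul_set_eq (g : Gh) (S : Finset (Fin 100)) : g • S = φ g • S := rfl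

theorem smul_mset' (g : Gh) (f : ℕ → ℕ) (hf : ∀ x : Fin 100, (φ g x).val = f x.val) (M : ℕ) :
    g • mset 100 M = mset 100 (imgMask 100 f M) := by
  rw [smul_set_eq]
  exact smul_mset 100 (φ g) f hf M

/-- the halves -/
def pt352 (j : ℕ) : Finset (Fin 100) := mset 100 (PL352 j)

/-- the sets of 25 vertices -/
def pt252 (j : ℕ) : Finset (Fin 100) := mset 100 (PL252 j)

theorem PL352_lt (j : ℕ) : PL352 j < 2 ^ 100 := Nat.mod_lt _ (by norm_num)

theorem PL252_lt (j : ℕ) : PL252 j < 2 ^ 100 := Nat.mod_lt _ (by norm_num)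

theorem chk_struct352 : D352.chkStruct = true := by decide +kernel

theorem chk_struct252 : D252.chkStruct = true := by decide +kernel

theorem act_ok352 : (List.range 2).all (fun i => (List.range 352).all (fun j =>
    imgMask 100 (fT i) (PL352 j) == PL352 (D352.pi i j))) = true := by
  decide +kernel

theorem act_ok252 : (List.range 2).all (fun i => (List.range 252).all (fun j =>
    imgMask 100 (fT1 i) (PL252 j) == PL252 (D252.pi i j))) = true := by
  decide +kernel

theorem pi_act352 (i : ℕ) (hi : i < D352.k) (j : ℕ) (hj : j < D352.m) :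
    GG.getD i 1 • pt352 j = pt352 (D352.pi i j) := by
  have hi' : i < 2 := hi
  have hj' : j < 352 := hj
  have h := act_ok352
  rw [List.all_eq_true] at h
  have h1 := h i (List.mem_range.mpr hi')
  rw [List.all_eq_true] at h1
  have h2 := h1 j (List.mem_range.mpr hj')
  rw [beq_iff_eq] at h2
  unfold pt352
  rw [smul_mset' (GG.getD i 1) (fT i) (φ_GG i hi') (PL352 j), h2]

theorem pi_act252 (i : ℕ) (hi : i < D252.k) (j : ℕ) (hj : j < D252.m) :
    GG1.getD i 1 • pt252 j = pt252 (D252.pi i j) := by
  have hi' : i < 2 := hi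
  have hj' : j < 252 := hj
  have h := act_ok252
  rw [List.all_eq_true] at h
  have h1 := h i (List.mem_range.mpr hi')
  rw [List.all_eq_true] at h1
  have h2 := h1 j (List.mem_range.mpr hj')
  rw [beq_iff_eq] at h2
  unfold pt252
  rw [smul_mset' (GG1.getD i 1) (fT1 i) (φ_GG1 i hi') (PL252 j), h2]

theorem distinct_ok352 : (List.range 352).all (fun j => (List.range j).all (fun j' =>
    PL352 j' != PL352 j)) = true := by
  decide +kernel

theorem distinct_ok252 : (List.range 252).all (fun j => (List.range j).all (fun j' =>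
    PL252 j' != PL252 j)) = true := by
  decide +kernel

theorem inj_of_distinct (PL : ℕ → ℕ) (m : ℕ)
    (hd : (List.range m).all (fun j => (List.range j).all (fun j' => PL j' != PL j)) = true)
    (j : ℕ) (hj : j < m) (j' : ℕ) (hj' : j' < m) (h0 : PL j = PL j') : j = j' := by
  rw [List.all_eq_true] at hd
  by_contra hne
  rcases Nat.lt_or_gt_of_ne hne with hlt | hlt
  · have h1 := hd j' (List.mem_range.mpr hj')
    rw [List.all_eq_true] at h1
    have h2 := h1 j (List.mem_range.mpr hlt)
    rw [bne_iff_ne] at h2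
    exact h2 h0
  · have h1 := hd j (List.mem_range.mpr hj)
    rw [List.all_eq_true] at h1
    have h2 := h1 j' (List.mem_range.mpr hlt)
    rw [bne_iff_ne] at h2
    exact h2 h0.symm

theorem pt352_inj (j : ℕ) (hj : j < 352) (j' : ℕ) (hj' : j' < 352) (h : pt352 j = pt352 j') :
    j = j' :=
  inj_of_distinct PL352 352 distinct_ok352 j hj j' hj' (mset_inj 100 (PL352_lt j) (PL352_lt j') h)

theorem pt252_inj (j : ℕ) (hj : j < 252) (j' : ℕ) (hj' : j' < 252) (h : pt252 j = pt252 j') :
    j = j' :=
  inj_of_distinct PL252 252 distinct_ok252 j hj j' hj' (mset_inj 100 (PL252_lt j) (PL252_lt j') h)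

/-- the subgroup generated by the generators -/
noncomputable def G1 : Subgroup Gh := Subgroup.closure {g | ∃ i < D352.k, g = GG.getD i 1}

/-- the subgroup generated by the words of the stabilizer of a half -/
noncomputable def U : Subgroup Gh := Subgroup.closure {g | ∃ i < D252.k, g = GG1.getD i 1}

theorem GG_mem_G1 : ∀ g ∈ GG, g ∈ G1 := by
  intro g hg
  simp only [List.mem_cons, List.not_mem_nil, or_false] at hg
  rcases hg with rfl | rfl
  · exact Subgroup.subset_closure ⟨0, by decide, rfl⟩
  · exact Subgroup.subset_closure ⟨1, by decide, rfl⟩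

theorem GG1_mem_U : ∀ g ∈ GG1, g ∈ U := by
  intro g hg
  simp only [List.mem_cons, List.not_mem_nil, or_false] at hg
  rcases hg with rfl | rfl
  · exact Subgroup.subset_closure ⟨0, by decide, rfl⟩
  · exact Subgroup.subset_closure ⟨1, by decide, rfl⟩

theorem U_le_G1 : U ≤ G1 := by
  unfold U
  rw [Subgroup.closure_le]
  rintro g ⟨i, hi, rfl⟩
  have hi' : i < 2 := hi
  interval_cases i
  · exact wordProd_mem GG G1 GG_mem_G1 w1
  · exact wordProd_mem GG G1 GG_mem_G1 w2

theorem fix_ok : (List.range 2).all (fun i => imgMask 100 (fT1 i) (PL352 0) == PL352 0) = true := by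
  decide +kernel

theorem U_le_stab : U ≤ MulAction.stabilizer Gh (pt352 0) := by
  unfold U
  rw [Subgroup.closure_le]
  rintro g ⟨i, hi, rfl⟩
  have hi' : i < 2 := hi
  have h := fix_ok
  rw [List.all_eq_true] at h
  have h2 := h i (List.mem_range.mpr hi')
  rw [beq_iff_eq] at h2
  show GG1.getD i 1 • pt352 0 = pt352 0
  unfold pt352
  rw [smul_mset' (GG1.getD i 1) (fT1 i) (φ_GG1 i hi') (PL352 0), h2]

/-- the stabilizer of the first set of 25 vertices in the subgroup -/
noncomputable def Bs : Subgroup Gh := U ⊓ MulAction.stabilizer Gh (pt252 0)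

/-- the stabilizer of a vertex in it -/
noncomputable def Cs : Subgroup Gh := Bs ⊓ MulAction.stabilizer Gh (⟨v0, by decide⟩ : Fin 100)

theorem card_image_range {X : Type*} [DecidableEq X] (pt : ℕ → X) (m : ℕ)
    (hinj : ∀ j < m, ∀ j' < m, pt j = pt j' → j = j') :
    ((Finset.range m).image pt).card = m := by
  rw [Finset.card_image_of_injOn, Finset.card_range]
  intro j hj j' hj' h
  exact hinj j (Finset.mem_range.mp hj) j' (Finset.mem_range.mp hj') h

theorem levelA : 252 * Nat.card ↥Bs ≤ Nat.card ↥U := by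
  have h := card_mul_le_of_orbit U Bs (pt252 0) inf_le_left inf_le_right
    ((Finset.range 252).image pt252) (by
      intro y hy
      rw [Finset.mem_image] at hy
      obtain ⟨j, hj, rfl⟩ := hy
      exact StemZB.exists_mem_closure_smul D252 chk_struct252 pt252 GG1 pi_act252 j
        (Finset.mem_range.mp hj))
  rwa [card_image_range pt252 252 pt252_inj] at h

theorem wordProd1_smul_pt (w : List ℕ) (hw : ∀ i ∈ w, i < 2) (x : Fin 100) :
    ((wordProd GG1 w • x : Fin 100) : ℕ) = wordTab1 w x.val := by
  rw [smul_pt_eq]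
  exact φ_wordProd1 w hw x

theorem wordProd1_smul_set (w : List ℕ) (hw : ∀ i ∈ w, i < 2) (M : ℕ) :
    wordProd GG1 w • mset 100 M = mset 100 (imgMask 100 (wordTab1 w) M) :=
  smul_mset' _ _ (φ_wordProd1 w hw) M

/-- the check of a word of the stabilizer of the first set of 25 vertices -/
def chkB (w : List ℕ) : Bool :=
  (w.all fun i => decide (i < 2)) && (imgMask 100 (wordTab1 w) (PL252 0) == PL252 0)

theorem mem_Bs_of_chkB (w : List ℕ) (h : chkB w = true) : wordProd GG1 w ∈ Bs := by
  unfold chkB at h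
  simp only [Bool.and_eq_true, List.all_eq_true, decide_eq_true_eq, beq_iff_eq] at h
  refine ⟨wordProd_mem GG1 U GG1_mem_U w, ?_⟩
  show wordProd GG1 w ∈ MulAction.stabilizer Gh (pt252 0)
  rw [MulAction.mem_stabilizer_iff]
  unfold pt252
  rw [wordProd1_smul_set w h.1, h.2]

theorem tr_ok : trL.all (fun q => chkB q.2 && (wordTab1 q.2 v0 == q.1) && decide (q.1 < 100)) = true := by
  decide +kernel

theorem tr_nodup : (trL.map fun q => q.1).Nodup := by decide +kernel

theorem tr_length : trL.length = 25 := by decide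

theorem levelB : 25 * Nat.card ↥Cs ≤ Nat.card ↥Bs := by
  classical
  have htr := tr_ok
  rw [List.all_eq_true] at htr
  let S : Finset (Fin 100) := (trL.map fun q => ((Fin.ofNat 100 q.1 : Fin 100))).toFinset
  have hScard : S.card = 25 := by
    rw [List.toFinset_card_of_nodup, List.length_map, tr_length]
    have h1 := tr_nodup
    rw [List.nodup_map_iff_inj_on] at h1 ⊢
    · intro q hq q' hq' hqq
      apply h1 q hq q' hq'
      have e1 := htr q hq
      have e2 := htr q' hq'
      simp only [Bool.and_eq_true, decide_eq_true_eq] at e1 e2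
      have := congrArg Fin.val hqq
      simp only [Fin.ofNat_eq_cast, Fin.val_natCast] at this
      rwa [Nat.mod_eq_of_lt e1.2, Nat.mod_eq_of_lt e2.2] at this
    · have h2 : trL.Nodup := List.Nodup.of_map _ tr_nodup
      exact h2
    · have h2 : trL.Nodup := List.Nodup.of_map _ tr_nodup
      exact h2
  have h := card_mul_le_of_orbit Bs Cs (⟨v0, by decide⟩ : Fin 100) inf_le_left inf_le_right S (by
    intro y hy
    rw [List.mem_toFinset, List.mem_map] at hy
    obtain ⟨q, hq, rfl⟩ := hy
    have e1 := htr q hq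
    simp only [Bool.and_eq_true, decide_eq_true_eq, beq_iff_eq] at e1
    refine ⟨wordProd GG1 q.2, mem_Bs_of_chkB q.2 e1.1.1, ?_⟩
    apply Fin.ext
    have hw : ∀ i ∈ q.2, i < 2 := by
      have := e1.1.1
      unfold chkB at this
      simp only [Bool.and_eq_true, List.all_eq_true, decide_eq_true_eq] at this
      exact this.1
    rw [wordProd1_smul_pt q.2 hw]
    show wordTab1 q.2 v0 = _
    rw [e1.1.2]
    simp only [Fin.ofNat_eq_cast, Fin.val_natCast]
    rw [Nat.mod_eq_of_lt e1.2])
  rwa [hScard] at h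

theorem chkB_C : chkB wC = true ∧ wordTab1 wC v0 = v0 := by decide +kernel

theorem chkB_Z : chkB wZ = true ∧ wordTab1 wZ v0 = v0 := by decide +kernel

theorem mem_Cs_of (w : List ℕ) (h : chkB w = true ∧ wordTab1 w v0 = v0) : wordProd GG1 w ∈ Cs := by
  refine ⟨mem_Bs_of_chkB w h.1, ?_⟩
  show wordProd GG1 w ∈ MulAction.stabilizer Gh (⟨v0, by decide⟩ : Fin 100)
  rw [MulAction.mem_stabilizer_iff]
  apply Fin.ext
  have hw : ∀ i ∈ w, i < 2 := by
    have := h.1
    unfold chkB at this
    simp only [Bool.and_eq_true, List.all_eq_true, decide_eq_true_eq] at this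
    exact this.1
  rw [wordProd1_smul_pt w hw]
  exact h.2

theorem wC_pow4 : wordProd GG1 wC ^ 4 = 1 := by
  have h := eq_of_wordBeq1 (wC ++ (wC ++ (wC ++ wC))) [] (by decide +kernel)
  rw [wordProd_append, wordProd_append, wordProd_append, wordProd_nil] at h
  have e : ∀ w : Gh, w ^ 4 = w * (w * (w * w)) := by
    intro w
    rw [pow_succ', pow_succ', pow_succ', pow_one]
  rw [e]
  exact h

theorem wC_sq_ne : wordTab1 (wC ++ wC) vC ≠ vC := by decide +kernel

theorem wC_pow2 : ¬ wordProd GG1 wC ^ 2 = 1 := by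
  intro h
  have h1 : wordProd GG1 (wC ++ wC) = 1 := by rw [wordProd_append, ← sq]; exact h
  have h2 := φ_wordProd1 (wC ++ wC) (by decide) ⟨vC, by decide⟩
  rw [h1, map_one] at h2
  exact wC_sq_ne h2.symm

theorem orderOf_wC : orderOf (wordProd GG1 wC) = 4 := by
  have := orderOf_eq_prime_pow (p := 2) (n := 1) (x := wordProd GG1 wC) (by simpa using wC_pow2)
    (by simpa using wC_pow4)
  rw [this]
  norm_num

theorem wZ_pow5 : wordProd GG1 wZ ^ 5 = 1 := by
  have h := eq_of_wordBeq1 (wZ ++ (wZ ++ (wZ ++ (wZ ++ wZ)))) [] (by decide +kernel)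
  rw [wordProd_append, wordProd_append, wordProd_append, wordProd_append, wordProd_nil] at h
  have e : ∀ w : Gh, w ^ 5 = w * (w * (w * (w * w))) := by
    intro w
    rw [pow_succ', pow_succ', pow_succ', pow_succ', pow_one]
  rw [e]
  exact h

theorem wZ_ne : wordTab1 wZ vZ ≠ vZ := by decide +kernel

theorem orderOf_wZ : orderOf (wordProd GG1 wZ) = 5 := by
  haveI : Fact (Nat.Prime 5) := ⟨by norm_num⟩
  apply orderOf_eq_prime wZ_pow5
  intro h
  have h2 := φ_wordProd1 wZ (by decide) ⟨vZ, by decide⟩
  rw [h, map_one] at h2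
  exact wZ_ne h2.symm

theorem levelC : 20 ≤ Nat.card ↥Cs :=
  twenty_le_card Cs _ _ (mem_Cs_of wC chkB_C) (mem_Cs_of wZ chkB_Z) orderOf_wC orderOf_wZ

theorem card_U_ge : 126000 ≤ Nat.card ↥U := by
  have hA := levelA
  have hB := levelB
  have hC := levelC
  omega

theorem level0 : 352 * Nat.card ↥U ≤ Nat.card ↥G1 := by
  have h := card_mul_le_of_orbit G1 U (pt352 0) U_le_G1 U_le_stab
    ((Finset.range 352).image pt352) (by
      intro y hy
      rw [Finset.mem_image] at hy
      obtain ⟨j, hj, rfl⟩ := hy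
      exact StemZB.exists_mem_closure_smul D352 chk_struct352 pt352 GG pi_act352 j
        (Finset.mem_range.mp hj))
  rwa [card_image_range pt352 352 pt352_inj] at h

/-- the two generators generate the group -/
theorem hgen352 : Subgroup.closure {g | ∃ i < D352.k, g = GG.getD i 1} = ⊤ := by
  have h0 := level0
  have hU := card_U_ge
  have h1 : Nat.card ↥G1 ≤ Nat.card Gh := Subgroup.card_le_card_group G1
  rw [card_Gh] at h1
  have h2 : Nat.card ↥G1 = Nat.card Gh := by rw [card_Gh]; omega
  exact (Subgroup.card_eq_iff_eq_top G1).mp h2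

/-- the stabilizer of the first half -/
noncomputable abbrev K : Subgroup Gh := MulAction.stabilizer Gh (pt352 0)

theorem card_K : Nat.card ↥K = 126000 := by
  have h := StemOrb.card_stabilizer_mul D352 chk_struct352 pt352 GG hgen352 pi_act352 (by decide)
    (fun j hj j' hj' => pt352_inj j hj j' hj')
  rw [card_Gh] at h
  have h' : Nat.card ↥K * 352 = 44352000 := h
  omega

/-- the stabilizer of the first half is generated by the two words -/
theorem U_eq_K : U = K := by
  have hle : U ≤ K := U_le_stab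
  have hU := card_U_ge
  have hK := card_K
  have h1 : Nat.card ↥U ≤ Nat.card ↥K := Subgroup.card_le_of_le hle
  have hfin : Finite ↥K := inferInstance
  apply SetLike.coe_injective
  apply Set.eq_of_subset_of_ncard_le hle _ (Set.toFinite _)
  have e1 : (↑K : Set Gh).ncard = Nat.card ↥K := rfl
  have e2 : (↑U : Set Gh).ncard = Nat.card ↥U := rfl
  rw [e1, e2]
  omega

end Cfsg.Agent.Lib.Helper1.HSM
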