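import Mathlib
import Cfsg.Agent.Lib.Helper1.HSM2
import Cfsg.Agent.Lib.Helper1.StemZD6
import Cfsg.Agent.Lib.Helper1.SylowChain

/-!
# The stabilizer of a half in the Higman–Sims group: it is perfect, and its stem extensions with
kernel a 2-group are trivial
-/

set_option autoImplicit false
set_option maxRecDepth 100000

namespace Cfsg.Agent.Lib.Helper1.HSM

open Cfsg Equiv Cfsg.Agent.Lib.Helper1.MatCode Cfsg.Agent.Lib.Helper1.StemSA
  Cfsg.Agent.Lib.Helper1.MaskAct

open scoped Pointwise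

universe u

/-- a group generated by elements of orders 5 and 7 whose product has order 6 is perfect -/
theorem commutator_eq_top_of_576 {G : Type*} [Group G] (a b : G)
    (hgen : Subgroup.closure ({a, b} : Set G) = ⊤) (ha : a ^ 5 = 1) (hb : b ^ 7 = 1)
    (hab : (a * b) ^ 6 = 1) : commutator G = ⊤ := by
  let π : G →* Abelianization G := Abelianization.of
  have hx5 : π a ^ 5 = 1 := by rw [← map_pow, ha, map_one]
  have hy7 : π b ^ 7 = 1 := by rw [← map_pow, hb, map_one]
  have hxy : (π a * π b) ^ 6 = 1 := by rw [← map_mul, ← map_pow, hab, map_one]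
  rw [mul_pow] at hxy
  have hxy' : π a * π b ^ 6 = 1 := by
    have e : π a ^ 6 = π a := by rw [pow_succ, hx5, one_mul]
    rwa [e] at hxy
  have hxeq : π a = π b := by
    have e : π b ^ 6 * π b = 1 := by rw [← pow_succ, hy7]
    calc π a = π a * (π b ^ 6 * π b) := by rw [e, mul_one]
      _ = (π a * π b ^ 6) * π b := by rw [mul_assoc]
      _ = π b := by rw [hxy', one_mul]
  have hx7 : π a ^ 7 = 1 := by rw [hxeq]; exact hy7
  have hx1 : π a = 1 := by
    have e1 : π a ^ 15 = 1 := by rw [show 15 = 5 * 3 by norm_num, pow_mul, hx5, one_pow]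
    have e2 : π a ^ 14 = 1 := by rw [show 14 = 7 * 2 by norm_num, pow_mul, hx7, one_pow]
    have e3 : π a ^ 15 = π a ^ 14 * π a := pow_succ _ 14
    rw [e1, e2, one_mul] at e3
    exact e3.symm
  have hy1 : π b = 1 := by rw [← hxeq]; exact hx1
  have hker : ∀ g : G, π g = 1 → g ∈ commutator G := by
    intro g hg
    have := (QuotientGroup.eq_one_iff (N := commutator G) g).mp hg
    exact this
  rw [eq_top_iff, ← hgen, Subgroup.closure_le]
  intro g hg
  simp only [Set.mem_insert_iff, Set.mem_singleton_iff] at hg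
  rcases hg with rfl | rfl
  · exact hker _ hx1
  · exact hker _ hy1

theorem gA1_mem_K : gA1 ∈ K := U_le_stab (GG1_mem_U gA1 (by simp))

theorem gB1_mem_K : gB1 ∈ K := U_le_stab (GG1_mem_U gB1 (by simp))

/-- the generators of the stabilizer of the first half -/
noncomputable abbrev GK : List ↥K := [⟨gA1, gA1_mem_K⟩, ⟨gB1, gB1_mem_K⟩]

theorem GK_val (i : ℕ) (hi : i < 2) : ((GK.getD i 1 : ↥K) : Gh) = GG1.getD i 1 := by
  interval_cases i <;> rfl

theorem wordProd_GK (w : List ℕ) (hw : ∀ i ∈ w, i < 2) :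
    ((wordProd GK w : ↥K) : Gh) = wordProd GG1 w :=
  StemSA.sigma_wordProd K.subtype GK GG1 2 GK_val w hw

theorem hgenK : Subgroup.closure {g : ↥K | ∃ i < D252.k, g = GK.getD i 1} = ⊤ := by
  apply Subgroup.map_injective K.subtype_injective
  rw [MonoidHom.map_closure, ← MonoidHom.range_eq_map, Subgroup.range_subtype]
  have e : (K.subtype '' {g : ↥K | ∃ i < D252.k, g = GK.getD i 1}) =
      {g : Gh | ∃ i < D252.k, g = GG1.getD i 1} := by
    ext g
    constructor
    · rintro ⟨g', ⟨i, hi, rfl⟩, rfl⟩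
      exact ⟨i, hi, GK_val i hi⟩
    · rintro ⟨i, hi, rfl⟩
      exact ⟨GK.getD i 1, ⟨i, hi, rfl⟩, GK_val i hi⟩
  rw [e]
  exact U_eq_K

theorem pi_actK (i : ℕ) (hi : i < D252.k) (j : ℕ) (hj : j < D252.m) :
    GK.getD i 1 • pt252 j = pt252 (D252.pi i j) := by
  have h := pi_act252 i hi j hj
  rw [← GK_val i hi] at h
  exact h

theorem GK_pow (i : ℕ) (hi : i < D252.k) :
    (GK.getD i 1) ^ (D252.ords.getD i 0) = 1 := by
  have hi' : i < 2 := hi
  interval_cases i
  · exact Subtype.ext gA1_pow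
  · exact Subtype.ext gB1_pow

theorem hoddK (i : ℕ) (hi : i < D252.k) :
    Odd (D252.ords.getD i 0) ∧ (GK.getD i 1) ^ (D252.ords.getD i 0) = 1 := by
  refine ⟨?_, GK_pow i hi⟩
  have hi' : i < 2 := hi
  interval_cases i <;> decide

theorem hrelK : ∀ w ∈ D252.rels, wordProd GK w.1 = wordProd GK w.2 := by
  intro w hw
  have hs := chk_struct252
  unfold SAData.chkStruct at hs
  simp only [Bool.and_eq_true, List.all_eq_true, decide_eq_true_eq] at hs
  obtain ⟨h1, h2⟩ := hs.2 w hw
  apply Subtype.ext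
  rw [wordProd_GK w.1 h1, wordProd_GK w.2 h2]
  exact hrel1 w hw

theorem ab_pow6 : (gA1 * gB1) ^ 6 = 1 := by
  have h := eq_of_wordBeq1 [0, 1, 0, 1, 0, 1, 0, 1, 0, 1, 0, 1] [] (by decide +kernel)
  rw [wordProd_nil] at h
  rw [← h]
  simp only [wordProd_cons, wordProd_nil, mul_one, pow_succ, pow_zero, one_mul, mul_assoc]
  rfl

/-- the stabilizer of the first half is perfect -/
theorem K_perfect : commutator ↥K = ⊤ := by
  apply commutator_eq_top_of_576 (⟨gA1, gA1_mem_K⟩ : ↥K) ⟨gB1, gB1_mem_K⟩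
  · rw [← hgenK]
    congr 1
    ext g
    simp only [Set.mem_insert_iff, Set.mem_singleton_iff, Set.mem_setOf_eq]
    constructor
    · rintro (rfl | rfl)
      · exact ⟨0, by decide, rfl⟩
      · exact ⟨1, by decide, rfl⟩
    · rintro ⟨i, hi, rfl⟩
      have hi' : i < 2 := hi
      interval_cases i
      · exact Or.inl rfl
      · exact Or.inr rfl
  · exact Subtype.ext gA1_pow
  · exact Subtype.ext gB1_pow
  · exact Subtype.ext ab_pow6

theorem chk_cert252 : StemZD.chkCertD D252 C252 = true := by decide +kernel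

/-- the stabilizer of the first set of 25 vertices -/
noncomputable abbrev KB : Subgroup ↥K := MulAction.stabilizer ↥K (pt252 0)

theorem card_KB : Nat.card ↥KB = 500 := by
  have h := StemOrb.card_stabilizer_mul D252 chk_struct252 pt252 GK hgenK pi_actK (by decide)
    (fun j hj j' hj' => pt252_inj j hj j' hj')
  rw [card_K] at h
  have h' : Nat.card ↥KB * 252 = 126000 := h
  omega

theorem wC_memK : wordProd GG1 wC ∈ K := U_le_stab (wordProd_mem GG1 U GG1_mem_U wC)

theorem wC_memKB : (⟨wordProd GG1 wC, wC_memK⟩ : ↥K) ∈ KB := by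
  rw [MulAction.mem_stabilizer_iff]
  have h := (mem_Cs_of wC chkB_C).1.2
  exact MulAction.mem_stabilizer_iff.mp h

/-- an element of order 4 of the stabilizer -/
noncomputable def cKB : ↥KB := ⟨⟨wordProd GG1 wC, wC_memK⟩, wC_memKB⟩

theorem orderOf_cKB : orderOf cKB = 2 ^ 2 := by
  unfold cKB
  rw [Subgroup.orderOf_mk, Subgroup.orderOf_mk, orderOf_wC]
  norm_num

/-- a group of order 500 has a normal subgroup of order 125 with a commutative quotient -/
theorem exists_normal_125 {H : Type*} [Group H] (h : Nat.card H = 500) :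
    ∃ (N : Subgroup H) (_ : N.Normal), Nat.card N = 125 ∧ ∀ x y : H ⧸ N, x * y = y * x := by
  haveI : Finite H := Nat.finite_of_card_ne_zero (by rw [h]; norm_num)
  haveI : Fact (Nat.Prime 5) := ⟨by norm_num⟩
  haveI : Fact (Nat.Prime 2) := ⟨Nat.prime_two⟩
  let P : Sylow 5 H := default
  have hP : Nat.card P = 125 := by
    rw [Sylow.card_eq_multiplicity, h, show (500 : ℕ) = 5 ^ 3 * 4 by norm_num,
      SylowChain.factorization_pow_mul (by norm_num) 3 4 (by norm_num)]
    norm_num
  have hidx : (P : Subgroup H).index = 4 := by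
    have h1 := Subgroup.card_mul_index (P : Subgroup H)
    rw [hP, h] at h1
    omega
  have hn : Nat.card (Sylow 5 H) ∣ 4 := by
    rw [Sylow.card_eq_index_normalizer P, ← hidx]
    exact Subgroup.index_dvd_of_le Subgroup.le_normalizer
  have hmod : Nat.card (Sylow 5 H) ≡ 1 [MOD 5] := card_sylow_modEq_one 5 H
  have hle : Nat.card (Sylow 5 H) ≤ 4 := Nat.le_of_dvd (by norm_num) hn
  have hpos : 0 < Nat.card (Sylow 5 H) := Nat.card_pos
  have h1 : Nat.card (Sylow 5 H) = 1 := by
    unfold Nat.ModEq at hmod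
    interval_cases hc : Nat.card (Sylow 5 H) <;> simp_all
  have hsub : Subsingleton (Sylow 5 H) := (Nat.card_eq_one_iff_unique.mp h1).1
  have hPn : (P : Subgroup H).Normal := P.normal_of_subsingleton
  refine ⟨P, hPn, hP, ?_⟩
  have hq : Nat.card (H ⧸ (P : Subgroup H)) = 2 ^ 2 := by
    rw [← Subgroup.index_eq_card, hidx]; norm_num
  exact (IsPGroup.isMulCommutative_of_card_eq_prime_sq hq).is_comm.comm

/-- a stem extension of the stabilizer of a half whose kernel is a 2-group is trivial -/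
theorem K_bound2 (Γ : Type u) [Group Γ] [Finite Γ] (σ : Γ →* ↥K)
    (hσ : Cfsg.IsStemExtension σ) (hp : IsPGroup 2 σ.ker) : Nat.card σ.ker ≤ 1 := by
  obtain ⟨a, ha⟩ := IsPGroup.iff_card.mp hp
  obtain ⟨N, hNn, hN, hQ⟩ := exists_normal_125 card_KB
  have h := StemZD.card_ker_mul_le_pow D252 C252 chk_struct252 chk_cert252 (by decide) pt252 GK
    hgenK (fun j hj h => pt252_inj j hj 0 (by decide) h)
    pi_actK hoddK hrelK 2 125 (by decide) KB rfl (by rw [card_KB]; norm_num) cKB orderOf_cKB N hN hQ Γ σ hσ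
    a ha
  have e : (2 : ℕ) ^ C252.es.sum = 4 := by decide
  rw [e] at h
  omega

end Cfsg.Agent.Lib.Helper1.HSM
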