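import Mathlib
import Cfsg.Agent.Lib.Helper1.StemZE2
import Cfsg.Agent.Lib.Helper1.HSMD1

set_option autoImplicit false
set_option maxRecDepth 100000
set_option maxHeartbeats 8000000

/-! The Higman–Sims group acting on the 100 vertices: the tables and the certificate for the kernels that are 5-groups. -/

namespace Cfsg.Agent.Lib.Helper1.HSM

open Cfsg.Agent.Lib.Helper1

def PLN100 : ℕ := 0x4ad4fa322ec62a9128294683e31ab904d95894eebf2c404d14e11f18988523a84b51360d862da3c5c5c9624d45faeb8cb7c55a8026429c586621c833b2e92938bead4c6c2f0d0f1c94e40f5359583a6c3b605e4f8181580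

/-- the points, in the order of the tree -/
def PL100 (j : ℕ) : ℕ := (PLN100 >>> (7 * j)) % 2 ^ 7

def piN100 : List ℕ := [0xc66205aa67565bc4f85434586b1b9d790555e4b05f51764a44caae45a12ecd8775dc948336a52a23a7c8981a537631e33589092997ec9ebc66e9c3668304302cb96ab08a5390048d09f3c70d002e549911e345890e14181, 0x9972cdf4e5f1d470c1ead26ba88543604e23586ee0037a34f7f1c3dbb444f2394aeb83ad56153a4d284e9b2e2492b205c56d0e0c052f1f3a7671cb76acd9313ebc6ac54014264a911201e74d993058a12203860a1018202]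
def parL100 : List (ℕ × ℕ) := [(0, 0), (0, 0), (1, 0), (0, 1), (1, 1), (0, 2), (1, 2), (0, 3), (1, 3), (0, 4), (1, 4), (0, 5), (1, 5), (0, 6), (1, 6), (0, 7), (1, 7), (0, 8), (1, 8), (0, 9), (1, 9), (0, 10), (1, 10), (0, 11), (1, 11), (1, 12), (0, 13), (1, 13), (0, 14), (1, 14), (0, 15), (0, 16), (1, 16), (0, 17), (1, 17), (0, 18), (1, 18), (1, 19), (1, 20), (0, 21), (1, 21), (0, 22), (1, 23), (0, 24), (1, 24), (0, 25), (0, 26), (1, 26), (0, 28), (1, 28), (1, 29), (1, 30), (0, 31), (1, 31), (0, 32), (1, 32), (0, 33), (1, 33), (0, 34), (1, 35), (0, 36), (0, 37), (1, 37), (0, 39), (1, 40), (1, 41), (0, 42), (1, 42), (0, 43), (1, 44), (0, 45), (0, 46), (1, 46), (1, 48), (0, 49), (1, 50), (0, 51), (1, 51), (1, 52), (0, 53), (1, 53), (0, 55), (1, 55), (1, 56), (0, 57), (1, 58), (1, 59), (1, 61), (0, 64), (0, 65), (1,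 67), (1, 68), (0, 69), (0, 74), (1, 74), (0, 76), (1, 76), (1, 78), (1, 80), (1, 93)]

/-- the data of the labelled action -/
def D100 : StemSA.SAData where
  k := 2
  m := 100
  pi := fun i j => (piN100.getD i 0 >>> (7 * j)) % 2 ^ 7
  par := fun j => parL100.getD j (0, 0)
  ords := [7, 11]
  rels := relsL
  specs := []
  Bm := fun _ => 0

/-- the certificate for the prime 5 -/
def C5 : List (List ((ℕ × ℕ) × ℕ)) := [[((0, 1), 1)],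
  [((0, 3), 1)],
  [((0, 5), 1)],
  [((0, 7), 1)],
  [((0, 9), 1)],
  [((0, 11), 1)],
  [((0, 13), 1)],
  [((0, 15), 1)],
  [((0, 17), 1)],
  [((0, 19), 1)],
  [((0, 21), 1)],
  [((0, 23), 1)],
  [((0, 2), 4), ((0, 5), 4), ((0, 12), 4), ((1, 73), 2), ((1, 99), 4), ((2, 15), 4), ((4, 32), 3), ((4, 98), 3), ((6, 56), 3), ((3, 6), 4), ((1, 0), 1), ((1, 2), 1), ((1, 6), 2), ((1, 8), 3), ((1, 10), 2), ((1, 14), 3), ((1, 16), 4), ((1, 18), 4), ((1, 22), 1), ((1, 24), 2), ((1, 34), 1), ((1, 64), 1), ((6, 16), 1), ((6, 55), 3), ((5, 6), 2), ((5, 63), 2), ((7, 16), 1), ((7, 40), 2), ((7, 41), 4), ((7, 45), 1), ((7, 59), 2), ((7, 60), 3), ((7, 78), 4), ((2, 0), 3), ((2, 3), 1), ((2, 5), 1), ((2, 7), 1), ((2, 17), 1), ((2, 19), 3), ((2, 21), 1), ((2, 23), 3), ((2, 30), 4), ((6, 11), 4), ((5, 51), 3), ((5, 62), 3), ((6, 32),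 3), ((7, 10), 4), ((3, 0), 2), ((3, 1), 3), ((3, 17), 1), ((3, 45), 2), ((3, 12), 2), ((3, 42), 1), ((3, 2), 4), ((3, 14), 3), ((3, 18), 3), ((3, 19), 1), ((3, 21), 3), ((3, 32), 2), ((3, 34), 4), ((4, 3), 2), ((4, 4), 4), ((4, 6), 2), ((4, 10), 3), ((4, 28), 4), ((4, 30), 1), ((7, 0), 3), ((7, 34), 4), ((4, 0), 4), ((4, 1), 1), ((4, 2), 3), ((4, 9), 3), ((4, 12), 4), ((4, 14), 3), ((7, 6), 3), ((7, 14), 3), ((6, 2), 1), ((6, 3), 2), ((6, 15), 1), ((6, 4), 4), ((6, 5), 2), ((6, 6), 2), ((6, 37), 4), ((7, 3), 2), ((7, 11), 3), ((7, 17), 3), ((7, 21), 2), ((7, 23), 2), ((7, 28), 4)],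
  [((0, 26), 1)],
  [((0, 28), 1)],
  [((0, 30), 1)],
  [((0, 31), 1)],
  [((0, 33), 1)],
  [((0, 35), 1)],
  [((0, 1), 4), ((0, 2), 1), ((0, 4), 4), ((0, 9), 4), ((0, 19), 4), ((1, 73), 2), ((1, 99), 3), ((2, 15), 4), ((4, 32), 4), ((4, 98), 2), ((6, 20), 2), ((6, 56), 3), ((5, 0), 3), ((1, 0), 4), ((1, 2), 1), ((1, 6), 1), ((1, 8), 2), ((1, 10), 3), ((1, 14), 4), ((1, 16), 4), ((1, 18), 3), ((1, 24), 2), ((1, 25), 4), ((1, 34), 3), ((1, 44), 1), ((6, 16), 3), ((6, 36), 4), ((6, 55), 1), ((7, 68), 3), ((5, 6), 2), ((5, 63), 1), ((7, 16), 4), ((7, 40), 1), ((7, 45), 1), ((7, 51), 3), ((7, 52), 4), ((7, 59), 3), ((7, 60), 1), ((7, 78), 4), ((2, 0), 3), ((2, 3), 4), ((2, 5), 2), ((2, 7), 1), ((2, 17), 3), ((2, 19), 2), ((2, 21), 3), ((2, 23), 2), ((2, 30), 1), ((6, 11), 3), ((5, 20), 3), ((5, 51), 2), ((5, 62), 2),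 ((6, 27), 3), ((6, 32), 4), ((3, 7), 4), ((3, 15), 3), ((7, 10), 4), ((3, 0), 4), ((3, 1), 4), ((3, 3), 4), ((3, 17), 4), ((3, 45), 4), ((3, 5), 3), ((3, 12), 1), ((3, 42), 4), ((3, 2), 1), ((3, 14), 1), ((3, 19), 3), ((3, 21), 1), ((3, 32), 1), ((3, 34), 3), ((4, 3), 3), ((4, 4), 1), ((7, 0), 1), ((7, 34), 1), ((4, 0), 1), ((4, 9), 3), ((4, 12), 2), ((4, 14), 4), ((7, 5), 2), ((7, 6), 4), ((7, 38), 3), ((6, 2), 1), ((6, 3), 4), ((6, 4), 2), ((6, 5), 1), ((6, 6), 3), ((6, 37), 1), ((7, 3), 4), ((7, 11), 3), ((7, 17), 2), ((7, 21), 1), ((7, 23), 3), ((7, 28), 3), ((5, 1), 2)],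
  [((0, 3), 1), ((0, 4), 4), ((0, 7), 1), ((0, 9), 4), ((0, 16), 1), ((0, 20), 4), ((1, 73), 2), ((4, 98), 2), ((6, 20), 4), ((3, 6), 2), ((5, 0), 1), ((1, 0), 1), ((1, 2), 4), ((1, 6), 1), ((1, 8), 2), ((1, 10), 4), ((1, 14), 3), ((1, 16), 3), ((1, 18), 1), ((1, 22), 3), ((1, 24), 3), ((1, 25), 3), ((1, 34), 3), ((1, 44), 3), ((1, 64), 4), ((6, 16), 1), ((6, 55), 4), ((7, 68), 4), ((5, 6), 2), ((5, 63), 3), ((7, 40), 4), ((7, 41), 1), ((7, 45), 2), ((7, 51), 4), ((7, 52), 4), ((7, 59), 3), ((7, 78), 4), ((2, 0), 1), ((2, 3), 3), ((2, 5), 2), ((2, 7), 4), ((2, 17), 1), ((2, 23), 3), ((2, 30), 2), ((6, 11), 4), ((5, 20), 1), ((5, 51), 3), ((5, 62), 3), ((6, 27), 1), ((6, 32), 1), ((3, 7), 1), ((7, 10), 2), ((3, 0), 4), ((3, 1), 1), ((3, 3), 4), ((3, 17), 3), ((3, 45), 4), ((3, 12), 1), ((3, 42), 1), ((3, 2), 2),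 ((3, 16), 3), ((3, 32), 4), ((4, 3), 2), ((4, 4), 3), ((4, 6), 1), ((4, 10), 1), ((4, 28), 3), ((4, 30), 4), ((7, 0), 4), ((7, 34), 4), ((4, 0), 2), ((4, 1), 3), ((4, 2), 3), ((4, 7), 3), ((4, 12), 1), ((4, 14), 2), ((7, 5), 4), ((7, 6), 1), ((7, 14), 2), ((7, 38), 1), ((6, 2), 1), ((6, 3), 3), ((6, 15), 4), ((6, 4), 4), ((6, 5), 3), ((6, 6), 4), ((6, 37), 1), ((7, 3), 2), ((7, 17), 3), ((7, 21), 4), ((7, 28), 2), ((5, 1), 2)],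
  [((0, 39), 1)],
  [((0, 41), 1)],
  [((0, 1), 1), ((0, 2), 4), ((0, 4), 1), ((0, 5), 4), ((0, 11), 4), ((0, 23), 4), ((1, 73), 3), ((1, 99), 2), ((2, 15), 1), ((4, 32), 1), ((4, 98), 3), ((6, 20), 3), ((6, 56), 2), ((5, 0), 2), ((1, 0), 1), ((1, 6), 4), ((1, 8), 3), ((1, 10), 2), ((1, 14), 1), ((1, 16), 1), ((1, 18), 2), ((1, 24), 3), ((1, 25), 1), ((1, 34), 2), ((1, 44), 4), ((6, 16), 2), ((6, 36), 1), ((6, 55), 4), ((7, 68), 2), ((5, 6), 3), ((5, 63), 4), ((7, 16), 1), ((7, 40), 4), ((7, 45), 4), ((7, 51), 2), ((7, 52), 1), ((7, 59), 2), ((7, 60), 4), ((7, 78), 1), ((2, 0), 2), ((2, 3), 1), ((2, 5), 3), ((2, 7), 4), ((2, 17), 2), ((2, 19), 3), ((2, 21), 2), ((2, 23), 3), ((2, 30), 4), ((6, 11), 2), ((5, 20), 2), ((5, 51), 3), ((5, 62), 3), ((6, 27), 2), ((6, 32), 1), ((3, 7), 1), ((3, 15), 2), ((7, 10), 1),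 ((3, 0), 1), ((3, 1), 1), ((3, 3), 1), ((3, 17), 1), ((3, 45), 1), ((3, 5), 2), ((3, 12), 4), ((3, 42), 1), ((3, 2), 4), ((3, 14), 4), ((3, 19), 2), ((3, 21), 4), ((3, 32), 4), ((3, 34), 2), ((4, 3), 2), ((4, 4), 4), ((7, 0), 4), ((7, 34), 4), ((4, 0), 4), ((4, 9), 2), ((4, 12), 3), ((4, 14), 1), ((7, 5), 3), ((7, 6), 1), ((7, 38), 2), ((6, 2), 4), ((6, 3), 1), ((6, 4), 3), ((6, 5), 4), ((6, 6), 2), ((6, 37), 4), ((7, 3), 1), ((7, 11), 2), ((7, 17), 3), ((7, 21), 4), ((7, 23), 2), ((7, 28), 2), ((5, 1), 3)],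
  [((0, 43), 1)],
  [((0, 45), 1)],
  [((0, 46), 1)],
  [((0, 1), 1), ((0, 2), 4), ((0, 4), 1), ((0, 6), 4), ((0, 10), 1), ((0, 13), 4), ((0, 22), 1), ((0, 27), 4), ((1, 73), 4), ((1, 99), 4), ((2, 15), 3), ((4, 32), 1), ((4, 98), 3), ((6, 20), 1), ((6, 56), 3), ((3, 6), 1), ((5, 0), 2), ((1, 2), 1), ((1, 8), 1), ((1, 10), 1), ((1, 14), 1), ((1, 16), 1), ((1, 18), 4), ((1, 24), 2), ((1, 25), 1), ((1, 34), 2), ((1, 64), 1), ((6, 16), 1), ((6, 55), 1), ((5, 6), 2), ((5, 63), 2), ((7, 41), 4), ((7, 45), 3), ((7, 51), 2), ((7, 52), 4), ((7, 60), 3), ((7, 78), 4), ((2, 0), 2), ((2, 5), 3), ((2, 7), 3), ((2, 17), 1), ((2, 19), 2), ((2, 21), 3), ((2, 23), 1), ((2, 30), 2), ((6, 11), 4), ((5, 51), 2), ((6, 27), 1), ((6, 32), 4), ((3, 15), 2), ((7, 10), 1), ((3, 0), 3), ((3, 1), 4), ((3, 3), 1), ((3, 17), 2), ((3, 45), 1),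 ((3, 5), 4), ((3, 42), 2), ((3, 2), 2), ((3, 14), 4), ((3, 16), 4), ((3, 18), 4), ((3, 19), 2), ((3, 21), 2), ((3, 23), 3), ((3, 32), 3), ((3, 34), 1), ((4, 3), 2), ((4, 4), 2), ((4, 6), 2), ((4, 10), 4), ((4, 28), 2), ((7, 34), 1), ((4, 1), 2), ((4, 2), 3), ((4, 7), 2), ((4, 9), 4), ((4, 12), 4), ((4, 14), 4), ((7, 5), 2), ((7, 6), 2), ((7, 38), 1), ((6, 2), 3), ((6, 3), 4), ((6, 15), 3), ((6, 5), 3), ((6, 6), 4), ((6, 37), 3), ((7, 3), 1), ((7, 11), 3), ((7, 17), 1), ((7, 21), 2), ((7, 23), 1), ((5, 1), 2)],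
  [((0, 48), 1)],
  [((0, 1), 1), ((0, 2), 4), ((0, 3), 1), ((0, 6), 4), ((0, 8), 1), ((0, 14), 4), ((0, 29), 4), ((1, 73), 1), ((1, 99), 2), ((4, 32), 2), ((6, 20), 2), ((6, 56), 1), ((3, 6), 2), ((1, 0), 1), ((1, 2), 2), ((1, 6), 2), ((1, 8), 4), ((1, 14), 3), ((1, 16), 1), ((1, 18), 1), ((1, 22), 3), ((1, 24), 4), ((1, 25), 4), ((1, 34), 2), ((1, 64), 2), ((6, 36), 3), ((7, 68), 1), ((5, 63), 1), ((7, 16), 4), ((7, 40), 1), ((7, 41), 1), ((7, 45), 4), ((7, 51), 1), ((7, 52), 2), ((7, 59), 1), ((7, 60), 1), ((7, 78), 1), ((2, 0), 4), ((2, 3), 4), ((2, 5), 3), ((2, 7), 1), ((2, 17), 1), ((2, 21), 3), ((2, 23), 3), ((2, 30), 4), ((6, 11), 4), ((5, 20), 2), ((5, 62), 3), ((6, 27), 3), ((6, 32), 1), ((3, 7), 4), ((3, 15), 1), ((7, 10), 4), ((3, 0), 2), ((3, 3), 4), ((3, 17), 2), ((3, 45), 1), ((3, 5), 3), ((3, 12),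 4), ((3, 42), 4), ((3, 2), 3), ((3, 16), 1), ((3, 18), 2), ((3, 19), 3), ((3, 21), 1), ((3, 23), 1), ((3, 32), 2), ((4, 3), 3), ((4, 4), 2), ((4, 6), 3), ((4, 10), 1), ((4, 28), 1), ((4, 30), 4), ((7, 0), 4), ((7, 34), 2), ((4, 0), 4), ((4, 1), 2), ((4, 7), 4), ((4, 14), 4), ((7, 5), 4), ((7, 6), 3), ((7, 14), 2), ((7, 38), 2), ((6, 2), 2), ((6, 3), 4), ((6, 15), 2), ((6, 4), 3), ((6, 5), 1), ((6, 6), 4), ((7, 3), 4), ((7, 11), 1), ((7, 17), 3), ((7, 21), 3), ((7, 28), 1), ((5, 1), 4)],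
  [((0, 1), 4), ((0, 2), 1), ((0, 3), 4), ((0, 5), 1), ((0, 7), 4), ((0, 12), 1), ((0, 15), 4), ((0, 30), 4), ((1, 73), 3), ((1, 99), 1), ((2, 15), 1), ((4, 32), 2), ((4, 98), 2), ((6, 56), 2), ((3, 6), 1), ((1, 2), 4), ((1, 6), 3), ((1, 8), 2), ((1, 10), 3), ((1, 14), 2), ((1, 16), 1), ((1, 18), 1), ((1, 22), 4), ((1, 24), 3), ((1, 34), 4), ((1, 64), 4), ((6, 16), 4), ((6, 55), 2), ((5, 6), 3), ((5, 63), 3), ((7, 16), 4), ((7, 40), 3), ((7, 41), 1), ((7, 45), 4), ((7, 59), 3), ((7, 60), 2), ((7, 78), 1), ((2, 0), 2), ((2, 3), 4), ((2, 5), 4), ((2, 7), 4), ((2, 17), 4), ((2, 19), 2), ((2, 21), 4), ((2, 23), 2), ((2, 30), 1), ((6, 11), 1), ((5, 51), 2), ((5, 62), 2), ((6, 32), 2), ((7, 10), 1), ((3, 0), 3), ((3, 1), 2), ((3, 17), 4), ((3, 45), 3), ((3, 12), 3), ((3, 42), 4), ((3, 2), 1), ((3, 14), 2), ((3, 18), 2),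 ((3, 19), 4), ((3, 21), 2), ((3, 32), 3), ((3, 34), 1), ((4, 3), 3), ((4, 4), 1), ((4, 6), 3), ((4, 10), 2), ((4, 28), 1), ((4, 30), 4), ((7, 0), 2), ((7, 34), 1), ((4, 0), 1), ((4, 1), 4), ((4, 2), 2), ((4, 9), 2), ((4, 12), 1), ((4, 14), 2), ((7, 6), 2), ((7, 14), 2), ((6, 2), 4), ((6, 3), 3), ((6, 15), 4), ((6, 4), 1), ((6, 5), 3), ((6, 6), 3), ((6, 37), 1), ((7, 3), 3), ((7, 11), 2), ((7, 17), 2), ((7, 21), 3), ((7, 23), 3), ((7, 28), 1)],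
  [((0, 52), 1)],
  [((0, 54), 1)],
  [((0, 56), 1)],
  [((0, 58), 1)],
  [((0, 7), 1), ((0, 8), 4), ((0, 15), 1), ((0, 18), 4), ((0, 30), 1), ((0, 35), 4), ((0, 51), 1), ((1, 73), 1), ((1, 99), 1), ((4, 32), 3), ((4, 98), 4), ((6, 20), 4), ((6, 56), 3), ((3, 6), 3), ((5, 0), 3), ((1, 0), 2), ((1, 6), 3), ((1, 8), 4), ((1, 10), 1), ((1, 14), 1), ((1, 16), 1), ((1, 18), 1), ((1, 24), 1), ((1, 34), 2), ((1, 64), 4), ((6, 16), 4), ((6, 36), 1), ((7, 68), 3), ((5, 63), 3), ((7, 16), 2), ((7, 40), 1), ((7, 41), 2), ((7, 45), 3), ((7, 52), 1), ((7, 60), 4), ((7, 78), 4), ((2, 0), 2), ((2, 7), 1), ((2, 17), 4), ((2, 21), 2), ((2, 30), 2), ((6, 11), 1), ((5, 20), 4), ((6, 32), 4), ((3, 7), 1), ((7, 10), 1), ((3, 0), 3), ((3, 1), 2), ((3, 45), 4), ((3, 5), 4), ((3, 12), 4), ((3, 42), 4), ((3, 2), 4), ((3, 14), 2), ((3, 18),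 1), ((3, 19), 2), ((3, 21), 1), ((3, 23), 3), ((3, 32), 3), ((3, 34), 4), ((4, 3), 2), ((4, 4), 1), ((4, 10), 2), ((4, 28), 4), ((4, 30), 2), ((7, 0), 3), ((7, 34), 4), ((4, 0), 3), ((4, 7), 3), ((4, 9), 1), ((7, 5), 2), ((7, 6), 1), ((7, 14), 4), ((7, 38), 3), ((6, 2), 4), ((6, 3), 4), ((6, 15), 3), ((6, 4), 2), ((6, 5), 1), ((6, 6), 4), ((7, 3), 1), ((7, 17), 1), ((7, 23), 2), ((7, 28), 3)],
  [((0, 60), 1)],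
  [((0, 61), 1)],
  [((0, 1), 4), ((0, 2), 1), ((0, 4), 4), ((0, 6), 1), ((0, 9), 4), ((0, 14), 1), ((0, 20), 4), ((0, 29), 1), ((0, 38), 4), ((0, 50), 1), ((1, 73), 4), ((1, 99), 1), ((2, 15), 4), ((6, 20), 1), ((6, 56), 1), ((3, 6), 2), ((5, 0), 2), ((1, 0), 1), ((1, 2), 3), ((1, 6), 2), ((1, 8), 3), ((1, 10), 4), ((1, 14), 1), ((1, 24), 3), ((1, 34), 1), ((1, 44), 3), ((1, 64), 3), ((6, 36), 2), ((6, 55), 1), ((7, 68), 3), ((5, 6), 1), ((7, 41), 1), ((7, 45), 1), ((7, 52), 2), ((7, 59), 1), ((7, 60), 2), ((7, 78), 3), ((2, 0), 4), ((2, 3), 1), ((2, 5), 3), ((2, 7), 1), ((2, 23), 3), ((2, 30), 2), ((6, 11), 3), ((5, 20), 4), ((5, 62), 4), ((3, 7), 3), ((3, 15), 4), ((7, 10), 3), ((3, 0), 1), ((3, 1), 2), ((3, 3), 1), ((3, 45), 1), ((3, 5), 1), ((3, 12), 2), ((3, 42), 1), ((3, 2), 1), ((3, 14), 4), ((3, 18), 2),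 ((3, 19), 2), ((3, 21), 1), ((3, 23), 2), ((3, 32), 2), ((3, 34), 3), ((4, 3), 4), ((4, 4), 2), ((4, 10), 4), ((4, 28), 1), ((4, 30), 1), ((7, 0), 1), ((7, 34), 1), ((4, 0), 1), ((4, 1), 4), ((4, 2), 1), ((4, 7), 3), ((4, 9), 3), ((4, 14), 1), ((7, 5), 3), ((7, 6), 3), ((7, 14), 3), ((7, 38), 1), ((6, 3), 4), ((6, 15), 1), ((6, 4), 4), ((6, 5), 4), ((6, 6), 3), ((6, 37), 1), ((7, 3), 1), ((7, 11), 4), ((7, 17), 3), ((7, 23), 4), ((5, 1), 4)],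
  [((0, 63), 1)],
  [((0, 1), 4), ((0, 2), 1), ((0, 4), 4), ((0, 5), 1), ((0, 10), 4), ((0, 12), 1), ((0, 21), 4), ((0, 25), 1), ((0, 40), 4), ((1, 73), 1), ((2, 15), 1), ((4, 98), 4), ((3, 6), 4), ((5, 0), 2), ((1, 0), 1), ((1, 2), 2), ((1, 6), 4), ((1, 8), 4), ((1, 10), 1), ((1, 14), 1), ((1, 16), 4), ((1, 18), 3), ((1, 22), 2), ((1, 24), 1), ((1, 25), 4), ((1, 34), 4), ((1, 44), 2), ((1, 64), 2), ((6, 36), 2), ((6, 55), 4), ((7, 68), 3), ((5, 6), 2), ((5, 63), 2), ((7, 16), 1), ((7, 40), 2), ((7, 41), 4), ((7, 45), 2), ((7, 51), 1), ((7, 52), 3), ((7, 59), 2), ((7, 60), 4), ((7, 78), 4), ((2, 0), 4), ((2, 3), 2), ((2, 5), 1), ((2, 7), 3), ((2, 17), 3), ((2, 19), 1), ((2, 21), 1), ((2, 23), 4), ((6, 11), 4), ((5, 51), 3), ((5, 62), 4), ((6, 27), 4), ((6, 32), 3), ((3, 7), 3), ((3, 15), 2), ((3, 1), 4), ((3, 17),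 4), ((3, 45), 3), ((3, 5), 4), ((3, 12), 4), ((3, 42), 4), ((3, 18), 1), ((3, 19), 2), ((3, 21), 2), ((3, 23), 4), ((3, 32), 2), ((3, 34), 2), ((4, 3), 3), ((4, 4), 1), ((4, 6), 3), ((4, 10), 3), ((4, 28), 1), ((4, 30), 3), ((7, 0), 1), ((7, 34), 4), ((4, 0), 1), ((4, 2), 3), ((4, 7), 3), ((4, 12), 4), ((4, 14), 1), ((7, 5), 1), ((7, 14), 2), ((7, 38), 2), ((6, 3), 4), ((6, 4), 1), ((6, 5), 2), ((6, 6), 4), ((6, 37), 2), ((7, 3), 3), ((7, 11), 2), ((7, 17), 3), ((7, 23), 3), ((7, 28), 3), ((5, 1), 2)],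
  [((0, 9), 1), ((0, 10), 4), ((0, 19), 1), ((0, 22), 4), ((0, 37), 1), ((0, 41), 4), ((1, 73), 3), ((1, 99), 3), ((2, 15), 4), ((4, 32), 3), ((4, 98), 4), ((6, 20), 3), ((3, 6), 1), ((1, 0), 4), ((1, 2), 2), ((1, 6), 3), ((1, 10), 2), ((1, 14), 4), ((1, 18), 1), ((1, 22), 2), ((1, 24), 1), ((1, 25), 4), ((1, 34), 4), ((1, 44), 4), ((1, 64), 3), ((6, 36), 2), ((6, 55), 1), ((7, 68), 2), ((5, 6), 4), ((5, 63), 2), ((7, 16), 1), ((7, 40), 1), ((7, 41), 2), ((7, 45), 2), ((7, 51), 2), ((7, 52), 2), ((7, 59), 4), ((7, 60), 3), ((2, 0), 4), ((2, 3), 1), ((2, 5), 1), ((2, 7), 1), ((2, 17), 1), ((2, 19), 3), ((2, 21), 2), ((2, 23), 2), ((2, 30), 2), ((6, 11), 3), ((5, 20), 2), ((6, 27), 1), ((6, 32), 3), ((3, 7), 2), ((3, 15), 1), ((3, 0), 1), ((3, 3), 2), ((3, 45), 4), ((3, 5), 4), ((3, 12), 4), ((3, 2), 2), ((3, 21),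 2), ((3, 23), 2), ((4, 3), 4), ((4, 4), 2), ((4, 6), 2), ((4, 28), 3), ((7, 0), 2), ((7, 34), 1), ((4, 0), 1), ((4, 1), 4), ((4, 2), 3), ((4, 7), 2), ((4, 12), 4), ((4, 14), 3), ((7, 5), 4), ((7, 6), 2), ((7, 14), 1), ((7, 38), 4), ((6, 3), 4), ((6, 4), 3), ((7, 3), 2), ((7, 11), 2), ((7, 17), 3), ((7, 23), 2), ((7, 28), 3), ((5, 1), 2)],
  [((0, 66), 1)],
  [((0, 68), 1)],
  [((0, 1), 1), ((0, 2), 4), ((0, 3), 1), ((0, 5), 4), ((0, 7), 1), ((0, 11), 4), ((0, 16), 1), ((0, 24), 4), ((0, 31), 1), ((0, 44), 4), ((0, 53), 1), ((1, 73), 1), ((1, 99), 3), ((2, 15), 3), ((4, 32), 3), ((4, 98), 3), ((6, 20), 3), ((6, 56), 3), ((3, 6), 3), ((5, 0), 1), ((1, 0), 3), ((1, 2), 4), ((1, 10), 4), ((1, 14), 4), ((1, 16), 1), ((1, 24), 2), ((1, 25), 4), ((1, 44), 4), ((1, 64), 2), ((6, 16), 2), ((6, 36), 2), ((6, 55), 3), ((5,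 6), 3), ((5, 63), 2), ((7, 16), 1), ((7, 40), 4), ((7, 41), 1), ((7, 45), 4), ((7, 51), 1), ((7, 60), 2), ((7, 78), 4), ((2, 5), 4), ((2, 7), 2), ((2, 17), 3), ((2, 21), 2), ((2, 23), 4), ((2, 30), 3), ((6, 11), 1), ((5, 62), 2), ((6, 27), 2), ((3, 7), 1), ((3, 15), 4), ((7, 10), 4), ((3, 0), 1), ((3, 1), 3), ((3, 3), 2), ((3, 17), 2), ((3, 45), 1), ((3, 12), 4), ((3, 42), 4), ((3, 2), 3), ((3, 14), 1), ((3, 16), 1), ((3, 18), 2), ((3, 19), 4), ((3, 21), 2), ((3, 34), 2), ((4, 3), 2), ((4, 4), 2), ((4, 6), 4), ((4, 28), 3), ((4, 30), 2), ((7, 0), 4), ((7, 34), 1), ((4, 0), 4), ((4, 1), 2), ((4, 7), 1), ((4, 9), 4), ((7, 5), 1), ((7, 14), 1), ((7, 38), 2), ((6, 2), 3), ((6, 3), 2), ((6, 15), 3), ((6, 5), 1), ((7, 11), 3), ((7, 17), 4), ((7, 21), 1), ((7, 28), 2), ((5, 1), 2)],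
  [((0, 70), 1)],
  [((0, 71), 1)],
  [((0, 13), 4), ((0, 14), 1), ((0, 26), 4), ((0, 28), 1), ((0, 47), 4), ((0, 49), 1), ((1, 73), 3), ((1, 99), 1), ((2, 15), 1), ((4, 32), 1), ((4, 98), 3), ((6, 20), 2), ((6, 56), 2), ((5, 0), 4), ((1, 0), 4), ((1, 2), 4), ((1, 6), 1), ((1, 8), 1), ((1, 10), 3), ((1, 14), 1), ((1, 16), 1), ((1, 22), 1), ((1, 24), 1), ((1, 34), 3), ((1, 44), 1), ((1, 64), 1), ((6, 16), 3), ((6, 36), 4), ((6, 55), 2), ((7, 68), 3), ((5, 6), 3), ((5, 63), 4), ((7, 16), 4), ((7, 41), 4), ((7, 45), 4), ((7, 51), 2), ((7, 52), 2), ((7, 59), 1), ((7, 60), 1), ((7, 78), 3), ((2, 0), 4), ((2, 3), 2), ((2, 5), 1), ((2, 7), 3), ((2, 17), 1), ((2, 19), 3), ((2, 21), 1), ((2, 30), 3), ((6, 11), 1), ((5, 20), 3), ((5, 51), 2), ((5, 62), 3), ((6, 32), 1), ((3, 7), 3), ((3, 15), 2), ((7, 10), 4), ((3, 0), 2),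 ((3, 1), 2), ((3, 3), 4), ((3, 17), 2), ((3, 45), 1), ((3, 5), 3), ((3, 12), 3), ((3, 42), 1), ((3, 2), 2), ((3, 16), 3), ((3, 18), 2), ((3, 19), 4), ((3, 21), 4), ((3, 32), 3), ((3, 34), 4), ((4, 4), 4), ((4, 6), 3), ((4, 10), 1), ((4, 28), 1), ((4, 30), 3), ((7, 0), 4), ((7, 34), 4), ((4, 0), 3), ((4, 1), 3), ((4, 7), 2), ((4, 9), 3), ((4, 14), 3), ((7, 5), 4), ((7, 14), 2), ((6, 2), 3), ((6, 3), 4), ((6, 15), 1), ((6, 4), 4), ((6, 5), 3), ((6, 6), 2), ((6, 37), 3), ((7, 3), 2), ((7, 11), 4), ((7, 17), 2), ((7, 21), 3), ((7, 23), 4), ((7, 28), 3), ((5, 1), 1)],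
  [((0, 1), 1), ((0, 2), 4), ((0, 3), 1), ((0, 6), 4), ((0, 7), 1), ((0, 14), 4), ((0, 16), 1), ((0, 28), 4), ((0, 32), 1), ((0, 48), 4), ((0, 55), 1), ((1, 73), 2), ((1, 99), 2), ((2, 15), 2), ((4, 32), 4), ((4, 98), 2), ((6, 20), 2), ((6, 56), 4), ((3, 6), 2), ((5, 0), 2), ((1, 0), 4), ((1, 2), 3), ((1, 6), 4), ((1, 8), 4), ((1, 10), 4), ((1, 14), 1), ((1, 16), 1), ((1, 18), 3), ((1, 22), 3), ((1, 24), 1), ((1, 25), 1), ((1, 34), 4), ((1, 44), 2), ((1, 64), 1), ((6, 36), 3), ((6, 55), 4), ((7, 68), 4), ((5, 63), 1), ((7, 16), 2), ((7, 40), 2), ((7, 41), 3), ((7, 45), 3), ((7, 51), 3), ((7, 59), 4), ((7, 78), 1), ((2, 0), 4), ((2, 5), 2), ((2, 7), 1), ((2, 17), 2), ((2, 19), 1), ((2, 21), 3), ((6, 11), 2), ((5, 20), 2), ((5, 51), 4), ((5, 62), 1), ((6, 27), 4), ((6, 32), 4), ((3, 7), 2), ((3, 15), 3), ((7, 10),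 3), ((3, 0), 2), ((3, 1), 3), ((3, 3), 3), ((3, 17), 3), ((3, 45), 4), ((3, 5), 3), ((3, 42), 2), ((3, 14), 4), ((3, 16), 2), ((3, 18), 2), ((3, 19), 4), ((3, 21), 3), ((3, 23), 1), ((3, 32), 4), ((3, 34), 3), ((4, 4), 1), ((4, 6), 1), ((4, 10), 3), ((7, 0), 2), ((7, 34), 3), ((4, 0), 2), ((4, 1), 4), ((4, 2), 4), ((4, 7), 1), ((4, 9), 4), ((4, 12), 3), ((4, 14), 1), ((7, 5), 4), ((7, 6), 2), ((7, 14), 2), ((7, 38), 2), ((6, 2), 4), ((6, 3), 1), ((6, 15), 3), ((6, 4), 1), ((6, 5), 2), ((6, 6), 2), ((6, 37), 4), ((7, 3), 3), ((7, 11), 3), ((7, 17), 4), ((7, 21), 1), ((7, 23), 1), ((7, 28), 3)],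
  [((0, 74), 1)],
  [((0, 14), 4), ((0, 29), 4), ((0, 50), 4), ((1, 73), 1), ((1, 99), 2), ((2, 15), 3), ((4, 98), 1), ((6, 56), 2), ((3, 6), 4), ((1, 2), 2), ((1, 6), 4), ((1, 10), 4), ((1, 14), 1), ((1, 16), 4), ((1, 18), 3), ((1, 22), 4), ((1, 25), 1), ((1, 44), 1), ((1, 64), 1), ((6, 36), 1), ((6, 55), 2), ((7, 68), 1), ((5, 6), 1), ((5, 63), 4), ((7, 16), 1), ((7, 40), 2), ((7, 41), 2), ((7, 45), 4), ((7, 51), 2), ((7, 52), 2), ((7, 59), 1), ((7, 78), 1), ((2, 0), 2), ((2, 3), 3), ((2, 7), 3), ((2, 17), 4), ((2, 19), 2), ((2, 21), 2), ((2, 23), 1), ((2, 30), 3), ((6, 11), 3), ((5, 51), 1), ((5, 62), 1), ((6, 27), 4), ((6, 32), 2), ((3, 7), 4), ((3, 15), 3), ((7, 10), 1), ((3, 0), 1), ((3, 1), 1), ((3, 17), 2), ((3, 45), 2), ((3, 5), 1), ((3, 12), 2), ((3, 42), 2), ((3, 2), 3), ((3, 18), 2), ((3, 19), 1), ((3,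 21), 1), ((3, 23), 3), ((3, 32), 4), ((3, 34), 4), ((4, 3), 4), ((4, 6), 2), ((4, 10), 4), ((4, 28), 4), ((4, 30), 4), ((7, 0), 2), ((7, 34), 2), ((4, 0), 4), ((4, 1), 1), ((4, 2), 4), ((4, 9), 2), ((4, 12), 2), ((4, 14), 3), ((7, 6), 4), ((7, 14), 4), ((7, 38), 4), ((6, 2), 1), ((6, 3), 4), ((6, 15), 2), ((6, 5), 3), ((6, 6), 2), ((6, 37), 4), ((7, 11), 4), ((7, 17), 2), ((7, 21), 1), ((7, 23), 3), ((7, 28), 2), ((5, 1), 3)],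
  [((0, 76), 1)],
  [((0, 1), 4), ((0, 2), 1), ((0, 3), 4), ((0, 6), 1), ((0, 7), 4), ((0, 13), 1), ((0, 16), 4), ((0, 26), 1), ((0, 31), 4), ((0, 46), 1), ((0, 52), 4), ((0, 72), 1), ((1, 73), 1), ((1, 99), 2), ((2, 15), 4), ((4, 98), 1), ((6, 20), 4), ((6, 56), 2), ((5, 0), 2), ((1, 2), 2), ((1, 6), 2), ((1, 8), 3), ((1, 10), 1), ((1, 14), 3), ((1, 16), 4), ((1, 18), 1), ((1, 22), 3), ((1, 24), 3), ((1, 25), 2), ((1, 34), 3), ((1, 44), 1), ((1, 64), 3), ((6, 16), 1), ((6, 55), 4), ((5, 6), 2), ((7, 16), 4), ((7, 40), 3), ((7, 41), 2), ((7, 45), 1), ((7, 51), 3), ((7, 52), 3), ((7, 59), 1), ((7, 60), 3), ((7, 78), 4), ((2, 0), 2), ((2, 3), 1), ((2, 5), 3), ((2, 7), 1), ((2, 17), 3), ((2, 21), 4), ((2, 23), 2), ((2, 30), 3), ((6, 11), 2), ((5, 20), 2), ((5, 51), 2), ((5, 62), 3), ((6, 27), 1), ((3, 7), 3), ((3,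 15), 2), ((7, 10), 1), ((3, 0), 2), ((3, 17), 4), ((3, 45), 3), ((3, 5), 2), ((3, 12), 1), ((3, 42), 3), ((3, 2), 4), ((3, 14), 2), ((3, 16), 1), ((3, 18), 1), ((3, 19), 1), ((3, 21), 2), ((3, 23), 2), ((3, 34), 2), ((4, 3), 1), ((4, 4), 1), ((4, 6), 4), ((4, 28), 2), ((7, 0), 3), ((7, 34), 4), ((4, 0), 4), ((4, 1), 2), ((4, 2), 4), ((4, 7), 1), ((4, 9), 4), ((4, 12), 2), ((4, 14), 4), ((7, 5), 4), ((7, 6), 4), ((7, 14), 2), ((7, 38), 4), ((6, 2), 3), ((6, 3), 1), ((6, 5), 4), ((6, 6), 3), ((7, 11), 1), ((7, 17), 1), ((7, 21), 1), ((7, 23), 2), ((7, 28), 4), ((5, 1), 4)],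
  [((0, 79), 1)],
  [((0, 1), 4), ((0, 2), 1), ((0, 3), 4), ((0, 6), 1), ((0, 7), 4), ((0, 14), 1), ((0, 16), 4), ((0, 32), 4), ((0, 54), 4), ((1, 99), 1), ((2, 15), 3), ((4, 32), 2), ((4, 98), 3), ((6, 20), 1), ((6, 56), 3), ((3, 6), 4), ((5, 0), 3), ((1, 0), 2), ((1, 2), 4), ((1, 6), 4), ((1, 8), 1), ((1, 10), 3), ((1, 14), 3), ((1, 18), 1), ((1, 24), 3), ((1, 25), 3), ((1, 34), 1), ((1, 44), 3), ((1, 64), 1), ((6, 16), 2), ((6, 36), 3), ((6, 55), 4), ((5, 63), 3), ((7, 40), 2), ((7, 45), 2), ((7, 51), 1), ((7, 52), 1), ((7, 60), 2), ((7, 78), 1), ((2, 0), 4), ((2, 3), 1), ((2, 5), 2), ((2, 7), 3), ((2, 17), 1), ((2, 19), 4), ((2, 21), 3), ((2, 23), 1), ((2, 30), 2), ((6, 11), 4), ((5, 20), 1), ((5, 51), 2), ((6, 27), 4), ((3, 7), 1), ((7, 10), 2), ((3, 1), 3), ((3, 17), 4), ((3, 45), 1), ((3, 5), 2), ((3, 12),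 1), ((3, 42), 1), ((3, 2), 4), ((3, 14), 2), ((3, 16), 2), ((3, 18), 4), ((3, 23), 4), ((3, 32), 4), ((3, 34), 3), ((4, 4), 3), ((4, 6), 3), ((4, 10), 4), ((4, 28), 2), ((4, 30), 2), ((7, 34), 2), ((4, 1), 3), ((4, 7), 4), ((4, 9), 3), ((4, 12), 3), ((4, 14), 3), ((7, 14), 2), ((6, 2), 4), ((6, 3), 3), ((6, 15), 1), ((6, 4), 2), ((6, 5), 4), ((7, 3), 2), ((7, 17), 1), ((7, 21), 4), ((7, 23), 4), ((7, 28), 4), ((5, 1), 1)],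
  [((0, 81), 1)],
  [((0, 7), 1), ((0, 8), 4), ((0, 16), 1), ((0, 17), 4), ((0, 32), 1), ((0, 33), 4), ((0, 55), 1), ((0, 56), 4), ((0, 82), 1), ((1, 73), 4), ((1, 99), 3), ((2, 15), 4), ((4, 98), 1), ((6, 20), 4), ((6, 56), 2), ((3, 6), 3), ((5, 0), 4), ((1, 0), 3), ((1, 2), 3), ((1, 6), 3), ((1, 8), 4), ((1, 10), 3), ((1, 18), 1), ((1, 22), 2), ((1, 24), 4), ((1, 34), 3), ((1, 44), 2), ((1, 64), 4), ((6, 16), 3), ((6, 55), 1), ((7, 68), 3), ((5, 6), 3), ((5, 63), 3), ((7, 40), 2), ((7, 41), 1), ((7, 45), 3), ((7, 51), 2), ((7, 59), 1), ((7, 60), 4), ((7, 78), 2), ((2, 0), 4), ((2, 3), 1), ((2, 7), 2), ((2, 17), 1), ((2, 21), 1), ((2, 30), 4), ((6, 11), 1), ((5, 20), 1), ((6, 27), 1), ((6, 32), 3), ((3, 7), 2), ((3, 15), 3), ((7, 10), 2), ((3, 0), 3), ((3, 1), 3), ((3, 3), 4), ((3, 17), 3), ((3, 5), 2), ((3, 12),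 1), ((3, 42), 3), ((3, 2), 4), ((3, 14), 2), ((3, 16), 1), ((3, 18), 3), ((3, 19), 3), ((3, 21), 2), ((3, 23), 2), ((3, 32), 3), ((3, 34), 3), ((4, 3), 4), ((4, 4), 1), ((4, 6), 2), ((4, 10), 4), ((4, 28), 4), ((4, 30), 1), ((7, 0), 4), ((7, 34), 2), ((4, 0), 3), ((4, 1), 3), ((4, 7), 2), ((4, 9), 4), ((4, 12), 2), ((4, 14), 4), ((7, 5), 1), ((7, 6), 4), ((7, 14), 2), ((7, 38), 4), ((6, 3), 3), ((6, 15), 3), ((6, 4), 2), ((6, 5), 3), ((6, 6), 2), ((6, 37), 2), ((7, 11), 4), ((7, 17), 3), ((7, 21), 3), ((7, 23), 2), ((7, 28), 1), ((5, 1), 4)],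
  [((0, 84), 1)],
  [((0, 7), 1), ((0, 8), 4), ((0, 15), 1), ((0, 17), 4), ((0, 30), 1), ((0, 34), 4), ((0, 51), 1), ((0, 58), 4), ((0, 77), 1), ((1, 73), 1), ((1, 99), 3), ((2, 15), 1), ((4, 32), 1), ((4, 98), 3), ((6, 20), 1), ((6, 56), 3), ((3, 6), 1), ((5, 0), 4), ((1, 2), 3), ((1, 6), 2), ((1, 8), 3), ((1, 10), 4), ((1, 14), 4), ((1, 18), 1), ((1, 22), 4), ((1, 34), 1), ((1, 64), 4), ((6, 16), 2), ((6, 36), 2), ((7, 68), 2), ((5, 6), 4), ((5, 63), 1), ((7, 40), 4), ((7, 45), 3), ((7, 52), 4), ((7, 59), 2), ((7, 60), 4), ((7, 78), 4), ((2, 0), 2), ((2, 3), 3), ((2, 5), 3), ((2, 7), 2), ((2, 19), 1), ((2, 21), 3), ((6, 11), 2), ((5, 20), 3), ((5, 51), 1), ((6, 27), 1), ((6, 32), 1), ((3, 7), 4), ((3, 15), 2), ((7, 10), 1), ((3, 0), 4), ((3, 1), 4), ((3, 3), 4), ((3, 17), 4), ((3, 45), 2), ((3, 5), 4), ((3, 12),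 3), ((3, 42), 1), ((3, 2), 3), ((3, 14), 2), ((3, 16), 4), ((3, 19), 1), ((3, 21), 1), ((3, 23), 3), ((3, 32), 3), ((4, 3), 4), ((4, 10), 1), ((7, 34), 4), ((4, 0), 2), ((4, 1), 2), ((4, 2), 1), ((4, 7), 3), ((4, 14), 3), ((7, 5), 2), ((7, 6), 4), ((7, 14), 4), ((7, 38), 3), ((6, 2), 2), ((6, 3), 3), ((6, 15), 1), ((6, 4), 4), ((6, 5), 4), ((6, 6), 3), ((6, 37), 1), ((7, 3), 1), ((7, 11), 2), ((7, 17), 3), ((7, 21), 3), ((5, 1), 2)],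
  [((0, 3), 4), ((0, 4), 1), ((0, 8), 4), ((0, 10), 1), ((0, 18), 4), ((0, 22), 1), ((0, 35), 4), ((0, 41), 1), ((0, 59), 4), ((0, 65), 1), ((1, 73), 4), ((4, 98), 2), ((6, 20), 3), ((6, 56), 2), ((3, 6), 1), ((5, 0), 1), ((1, 2), 2), ((1, 6), 1), ((1, 8), 4), ((1, 10), 1), ((1, 14), 3), ((1, 16), 3), ((1, 22), 2), ((1, 25), 2), ((1, 34), 1), ((1, 44), 4), ((1, 64), 4), ((6, 16), 2), ((6, 36), 1), ((6, 55), 4), ((5, 6), 1), ((5, 63), 2), ((7, 16), 2), ((7, 41), 4), ((7, 45), 3), ((7, 51), 4), ((7, 52), 3), ((7, 59), 4), ((7, 60), 2), ((7, 78), 2), ((2, 0), 2), ((2, 3), 1), ((2, 5), 4), ((2, 7), 4), ((2, 17), 3), ((2, 19), 3), ((2, 21), 4), ((2, 23), 1), ((2, 30), 2), ((6, 11), 3), ((5, 51), 3), ((5, 62), 2), ((6, 32), 2), ((3, 7), 4), ((3, 15), 3), ((3, 0), 2), ((3, 1), 2), ((3, 3), 1), ((3, 17), 4), ((3, 45), 4),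 ((3, 5), 3), ((3, 12), 2), ((3, 42), 1), ((3, 2), 4), ((3, 14), 2), ((3, 16), 4), ((3, 18), 1), ((3, 21), 1), ((3, 23), 2), ((3, 32), 2), ((3, 34), 2), ((4, 3), 2), ((4, 10), 3), ((4, 28), 4), ((4, 30), 2), ((7, 0), 4), ((7, 34), 2), ((4, 1), 1), ((4, 2), 2), ((4, 7), 2), ((4, 9), 2), ((7, 5), 1), ((7, 6), 1), ((7, 14), 2), ((7, 38), 3), ((6, 2), 4), ((6, 4), 2), ((6, 37), 2), ((7, 3), 2), ((7, 11), 3), ((7, 17), 3), ((7, 21), 1), ((7, 23), 4), ((5, 1), 1)],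
  [((0, 3), 4), ((0, 4), 1), ((0, 8), 4), ((0, 9), 1), ((0, 18), 4), ((0, 20), 1), ((0, 36), 4), ((0, 60), 4), ((1, 73), 4), ((1, 99), 2), ((4, 32), 2), ((4, 98), 3), ((6, 56), 3), ((3, 6), 3), ((5, 0), 2), ((1, 0), 3), ((1, 2), 3), ((1, 6), 3), ((1, 8), 4), ((1, 10), 3), ((1, 16), 3), ((1, 18), 2), ((1, 22), 1), ((1, 24), 2), ((1, 25), 4), ((1, 34), 3), ((1, 44), 4), ((6, 16), 4), ((6, 55), 2), ((7, 68), 4), ((5, 6), 4), ((5, 63), 1), ((7, 16), 4), ((7, 40), 3), ((7, 41), 1), ((7, 45), 4), ((7, 51), 3), ((7, 59), 2), ((7, 60), 1), ((7, 78), 3), ((2, 0), 1), ((2, 3), 2), ((2, 17), 3), ((2, 19), 3), ((2, 21), 3), ((2, 23), 1), ((2, 30), 3), ((6, 11), 2), ((5, 20), 4), ((5, 51), 2), ((5, 62), 4), ((6, 27), 3), ((6, 32), 1), ((3, 7), 4), ((3, 15), 3), ((7, 10), 2), ((3, 0), 3), ((3, 1), 2), ((3, 3), 1), ((3, 45), 2),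 ((3, 5), 2), ((3, 12), 3), ((3, 42), 1), ((3, 2), 1), ((3, 14), 3), ((3, 18), 2), ((3, 21), 1), ((3, 23), 2), ((3, 32), 2), ((4, 3), 4), ((4, 4), 4), ((4, 10), 1), ((4, 28), 1), ((7, 0), 1), ((7, 34), 2), ((4, 0), 4), ((4, 1), 1), ((4, 2), 4), ((4, 7), 3), ((4, 9), 4), ((4, 14), 4), ((7, 5), 1), ((7, 6), 2), ((7, 14), 3), ((7, 38), 3), ((6, 2), 2), ((6, 15), 3), ((6, 5), 3), ((6, 6), 4), ((6, 37), 3), ((7, 3), 4), ((7, 11), 2), ((7, 17), 3), ((7, 28), 2), ((5, 1), 3)],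
  [((0, 3), 1), ((0, 4), 4), ((0, 8), 1), ((0, 9), 4), ((0, 17), 1), ((0, 19), 4), ((0, 33), 1), ((0, 37), 4), ((0, 57), 1), ((0, 61), 4), ((1, 73), 1), ((1, 99), 1), ((2, 15), 3), ((4, 32), 1), ((4, 98), 1), ((6, 56), 1), ((3, 6), 3), ((1, 0), 2), ((1, 2), 3), ((1, 6), 2), ((1, 8), 3), ((1, 10), 1), ((1, 14), 1), ((1, 18), 4), ((1, 22), 3), ((1, 24), 3), ((1, 25), 1), ((1, 34), 4), ((1, 44), 2), ((1, 64), 2), ((6, 16), 1), ((6, 36), 1), ((6, 55), 1), ((7, 68), 4), ((5, 6), 4), ((5, 63), 3), ((7, 16), 3), ((7, 40), 2), ((7, 41), 3), ((7, 51), 3), ((7, 52), 3), ((7, 59), 4), ((7, 78), 2), ((2, 0), 1), ((2, 3), 2), ((2, 5), 2), ((2, 7), 3), ((2, 17), 3), ((2, 19), 1), ((2, 21), 2), ((2, 23), 4), ((2, 30), 4), ((6, 11), 2), ((5, 20), 4), ((5, 51), 3), ((5, 62), 1), ((6, 27), 1), ((6, 32), 2), ((3, 7), 3), ((3, 15),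 3), ((3, 0), 3), ((3, 45), 2), ((3, 42), 1), ((3, 2), 3), ((3, 16), 1), ((3, 18), 3), ((3, 19), 4), ((3, 21), 3), ((3, 23), 2), ((3, 32), 3), ((3, 34), 1), ((4, 4), 1), ((4, 10), 4), ((4, 28), 3), ((4, 30), 4), ((7, 0), 1), ((4, 0), 1), ((4, 1), 3), ((4, 2), 4), ((4, 7), 1), ((4, 9), 1), ((4, 12), 2), ((4, 14), 4), ((7, 6), 2), ((7, 14), 3), ((6, 2), 4), ((6, 3), 1), ((6, 15), 3), ((6, 5), 4), ((6, 6), 2), ((6, 37), 2), ((7, 3), 4), ((7, 17), 4), ((7, 21), 2), ((7, 23), 3), ((7, 28), 2)],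
  [((0, 61), 1), ((0, 62), 4), ((0, 87), 1), ((1, 73), 3), ((1, 99), 3), ((2, 15), 3), ((4, 32), 2), ((4, 98), 3), ((6, 20), 2), ((6, 56), 4), ((1, 0), 1), ((1, 2), 4), ((1, 8), 2), ((1, 10), 3), ((1, 14), 3), ((1, 16), 1), ((1, 18), 4), ((1, 22), 1), ((1, 24), 1), ((1, 25), 4), ((1, 34), 4), ((1, 64), 1), ((6, 16), 3), ((6, 36), 3), ((6, 55), 3), ((7, 68), 1), ((5, 6), 2), ((5, 63), 4), ((7, 16), 4), ((7, 40), 2), ((7, 41), 4), ((7, 45), 1), ((7, 51), 2), ((7, 52), 2), ((7, 59), 1), ((7, 60), 4), ((7, 78), 4), ((2, 0), 3), ((2, 3), 3), ((2, 5), 2), ((2, 7), 3), ((2, 17), 1), ((2, 19), 2), ((2, 21), 1), ((2, 30), 2), ((6, 11), 3), ((5, 51), 2), ((5, 62), 1), ((6, 32), 3), ((3, 15), 1), ((7, 10), 3), ((3, 0), 2), ((3, 1), 2), ((3, 3), 2), ((3, 17), 1), ((3, 45), 2), ((3, 5), 4), ((3, 12), 1), ((3, 42), 2), ((3, 2),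 4), ((3, 16), 2), ((3, 18), 4), ((3, 21), 3), ((3, 23), 3), ((3, 32), 4), ((3, 34), 3), ((4, 3), 1), ((4, 10), 1), ((4, 28), 2), ((4, 30), 2), ((7, 34), 2), ((4, 2), 1), ((4, 7), 1), ((4, 9), 4), ((4, 12), 1), ((4, 14), 2), ((7, 14), 4), ((7, 38), 3), ((6, 3), 3), ((6, 15), 3), ((6, 6), 1), ((6, 37), 2), ((7, 3), 2), ((7, 11), 3), ((7, 17), 1), ((7, 21), 3), ((7, 23), 4), ((5, 1), 1)],
  [((0, 3), 1), ((0, 4), 4), ((0, 8), 1), ((0, 10), 4), ((0, 18), 1), ((0, 21), 4), ((0, 35), 1), ((0, 39), 4), ((0, 59), 1), ((0, 63), 4), ((1, 73), 2), ((2, 15), 3), ((4, 32), 3), ((4, 98), 3), ((6, 20), 2), ((6, 56), 2), ((3, 6), 3), ((5, 0), 2), ((1, 0), 1), ((1, 2), 3), ((1, 6), 1), ((1, 8), 2), ((1, 10), 3), ((1, 14), 3), ((1, 16), 3), ((1, 34), 1), ((1, 44), 3), ((1, 64), 4), ((6, 16), 2), ((6, 36), 3), ((6, 55), 1), ((5, 6),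 1), ((5, 63), 2), ((7, 16), 3), ((7, 40), 2), ((7, 41), 3), ((7, 45), 3), ((7, 51), 3), ((7, 59), 2), ((7, 60), 1), ((7, 78), 3), ((2, 0), 2), ((2, 3), 2), ((2, 5), 1), ((2, 7), 2), ((2, 19), 4), ((2, 23), 2), ((2, 30), 3), ((6, 11), 4), ((5, 20), 1), ((5, 51), 1), ((5, 62), 4), ((6, 27), 4), ((7, 10), 4), ((3, 0), 3), ((3, 1), 3), ((3, 3), 4), ((3, 17), 2), ((3, 45), 4), ((3, 12), 4), ((3, 2), 2), ((3, 14), 3), ((3, 16), 4), ((3, 18), 4), ((3, 19), 1), ((3, 21), 3), ((3, 23), 2), ((3, 32), 2), ((3, 34), 1), ((4, 3), 3), ((4, 4), 3), ((4, 6), 2), ((4, 10), 1), ((4, 28), 3), ((4, 30), 3), ((7, 0), 1), ((7, 34), 2), ((4, 1), 1), ((4, 2), 4), ((4, 7), 1), ((4, 12), 3), ((7, 5), 2), ((7, 14), 3), ((7, 38), 3), ((6, 2), 3), ((6, 15), 2), ((6, 4), 2), ((6, 5), 1), ((6, 37), 4), ((7, 3), 4), ((7, 11), 3), ((7, 17), 1),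 ((7, 21), 4), ((7, 28), 3), ((5, 1), 4)],
  [((0, 88), 1)],
  [((0, 89), 1)],
  [((0, 5), 4), ((0, 6), 1), ((0, 11), 4), ((0, 14), 1), ((0, 23), 4), ((0, 29), 1), ((0, 42), 4), ((0, 50), 1), ((0, 66), 4), ((0, 75), 1), ((1, 73), 2), ((1, 99), 3), ((6, 20), 1), ((6, 56), 4), ((3, 6), 2), ((5, 0), 2), ((1, 0), 4), ((1, 6), 3), ((1, 8), 4), ((1, 10), 3), ((1, 16), 1), ((1, 18), 4), ((1, 24), 1), ((1, 25), 3), ((1, 34), 1), ((1, 64), 1), ((6, 16), 4), ((6, 36), 3), ((6, 55), 3), ((7, 68), 1), ((5, 6), 3), ((5, 63), 2), ((7, 40), 3), ((7, 41), 3), ((7, 45), 1), ((7, 51), 1), ((7, 59), 1), ((7, 60), 3), ((7, 78), 4), ((2, 0), 3), ((2, 3), 3), ((2, 5), 3), ((2, 7), 4), ((2, 21), 3), ((6, 11), 3), ((5, 62), 1), ((6, 27), 1), ((6, 32), 3), ((3, 7), 2), ((3, 15), 2), ((3, 0), 3), ((3, 1), 1), ((3, 3), 1), ((3, 17), 2), ((3,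 12), 2), ((3, 42), 3), ((3, 2), 3), ((3, 14), 3), ((3, 16), 3), ((3, 18), 1), ((3, 21), 1), ((3, 23), 2), ((3, 34), 4), ((4, 4), 4), ((4, 6), 3), ((4, 28), 1), ((4, 30), 4), ((7, 0), 3), ((7, 34), 1), ((4, 0), 4), ((4, 1), 1), ((4, 2), 1), ((4, 9), 1), ((4, 12), 4), ((4, 14), 2), ((7, 5), 2), ((7, 6), 3), ((7, 14), 1), ((7, 38), 1), ((6, 2), 4), ((6, 3), 4), ((6, 15), 2), ((6, 5), 1), ((6, 6), 1), ((6, 37), 1), ((7, 3), 3), ((7, 11), 1), ((7, 17), 4), ((7, 28), 4), ((5, 1), 2)],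
  [((0, 1), 1), ((0, 2), 4), ((0, 3), 1), ((0, 5), 4), ((0, 7), 1), ((0, 11), 4), ((0, 16), 1), ((0, 23), 4), ((0, 31), 1), ((0, 42), 4), ((0, 53), 1), ((0, 67), 4), ((0, 80), 1), ((1, 73), 3), ((2, 15), 3), ((4, 32), 2), ((4, 98), 4), ((6, 20), 4), ((6, 56), 4), ((3, 6), 4), ((5, 0), 2), ((1, 0), 3), ((1, 2), 4), ((1, 6), 3), ((1, 8), 2), ((1, 10), 3), ((1, 14), 2), ((1, 16), 1), ((1, 18), 1), ((1, 22), 4), ((1, 24), 4), ((1, 25), 2), ((1, 44), 3), ((6, 16), 2), ((6, 55), 3), ((7, 68), 4), ((5, 63), 2), ((7, 16), 3), ((7, 45), 4), ((7, 51), 3), ((7, 52), 1), ((7, 60), 1), ((7, 78), 2), ((2, 0), 1), ((2, 3), 4), ((2, 5), 2), ((2, 17), 1), ((2, 21), 1), ((2, 30), 3), ((6, 11), 1), ((5, 20), 1), ((6, 27), 2), ((6, 32), 4), ((3, 15), 2), ((7, 10), 1), ((3, 0), 2), ((3, 1), 4), ((3, 3), 1), ((3, 17), 4), ((3, 45), 4),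 ((3, 5), 3), ((3, 12), 3), ((3, 2), 4), ((3, 14), 4), ((3, 16), 1), ((3, 18), 2), ((3, 19), 4), ((3, 21), 1), ((3, 32), 3), ((3, 34), 4), ((4, 3), 2), ((4, 4), 2), ((4, 6), 3), ((4, 10), 4), ((4, 28), 4), ((4, 30), 3), ((7, 34), 2), ((4, 0), 3), ((4, 2), 1), ((4, 7), 3), ((4, 9), 3), ((4, 14), 1), ((7, 5), 2), ((7, 6), 2), ((7, 14), 4), ((7, 38), 2), ((6, 2), 2), ((6, 3), 2), ((6, 15), 4), ((6, 4), 3), ((6, 6), 3), ((6, 37), 1), ((7, 3), 3), ((7, 11), 2), ((7, 17), 2), ((7, 21), 1), ((7, 23), 3), ((7, 28), 3)],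
  [((0, 43), 4), ((0, 44), 1), ((0, 68), 4), ((0, 69), 1), ((1, 73), 3), ((1, 99), 2), ((4, 32), 2), ((4, 98), 4), ((6, 20), 3), ((6, 56), 4), ((1, 0), 4), ((1, 2), 3), ((1, 6), 3), ((1, 8), 4), ((1, 10), 2), ((1, 14), 2), ((1, 16), 4), ((1, 22), 1), ((1, 24), 2), ((1, 34), 4), ((1, 44), 3), ((1, 64), 2), ((6, 16), 3), ((6, 36), 3), ((6, 55), 1), ((7, 68), 4), ((5, 6), 1), ((5, 63), 4), ((7, 16), 3), ((7, 41), 4), ((7, 45), 2), ((7, 51), 3), ((7, 52), 4), ((7, 60), 1), ((7, 78), 4), ((2, 0), 1), ((2, 3), 4), ((2, 5), 1), ((2, 7), 4), ((2, 19), 4), ((2, 21), 3), ((2, 30), 1), ((6, 11), 2), ((5, 20), 4), ((3, 15), 3), ((7, 10), 3), ((3, 0), 1), ((3, 1), 3), ((3, 3), 2), ((3, 17), 2), ((3, 45), 4), ((3, 5), 3), ((3, 12), 3), ((3, 42), 2), ((3, 2), 3), ((3, 14), 1), ((3, 16), 4), ((3, 18), 3), ((3, 19), 4), ((3, 21),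 1), ((3, 23), 4), ((3, 32), 3), ((3, 34), 4), ((4, 3), 4), ((4, 4), 4), ((4, 6), 3), ((4, 10), 4), ((4, 28), 4), ((4, 30), 3), ((7, 0), 4), ((7, 34), 1), ((4, 0), 4), ((4, 1), 3), ((4, 2), 4), ((4, 7), 4), ((4, 9), 4), ((4, 12), 1), ((4, 14), 2), ((7, 5), 4), ((7, 6), 3), ((6, 2), 2), ((6, 3), 1), ((6, 4), 3), ((6, 6), 4), ((6, 37), 4), ((7, 3), 1), ((7, 21), 1), ((7, 28), 3), ((5, 1), 1)],
  [((0, 92), 1)],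
  [((0, 11), 1), ((0, 12), 4), ((0, 23), 1), ((0, 25), 4), ((0, 42), 1), ((0, 45), 4), ((0, 70), 4), ((1, 73), 4), ((1, 99), 4), ((2, 15), 4), ((4, 32), 2), ((4, 98), 2), ((3, 6), 1), ((5, 0), 2), ((1, 0), 2), ((1, 2), 2), ((1, 6), 2), ((1, 8), 1), ((1, 10), 1), ((1, 14), 2), ((1, 16), 1), ((1, 18), 3), ((1, 22), 1), ((1, 25), 4), ((1, 34), 3), ((1, 44), 4), ((1, 64), 4), ((6, 16), 1), ((6, 36), 4), ((6, 55), 1), ((7, 68), 1), ((5, 63), 3), ((7, 16), 3), ((7, 40), 1), ((7, 41), 3), ((7, 45), 3), ((7, 52), 1), ((7, 59), 3), ((7, 78), 3), ((2, 5), 4), ((2, 7), 4), ((2, 17), 1), ((2, 21), 3), ((2, 23), 3), ((2, 30), 2), ((6, 11), 3), ((5, 20), 4), ((5, 51), 1), ((5, 62), 2), ((6, 27), 4), ((6, 32), 2), ((3, 7), 1), ((3, 15), 4), ((7, 10), 2), ((3, 0), 4), ((3, 1), 1), ((3, 3), 3), ((3, 17), 4), ((3, 5), 4), ((3, 42),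 4), ((3, 2), 2), ((3, 14), 4), ((3, 16), 4), ((3, 18), 3), ((3, 19), 2), ((3, 21), 4), ((3, 23), 3), ((3, 32), 4), ((3, 34), 3), ((4, 4), 2), ((4, 6), 4), ((4, 28), 2), ((4, 30), 3), ((7, 0), 4), ((4, 0), 1), ((4, 1), 3), ((4, 7), 2), ((4, 9), 1), ((4, 12), 2), ((4, 14), 1), ((7, 5), 1), ((7, 6), 3), ((7, 14), 1), ((6, 2), 1), ((6, 15), 2), ((6, 4), 2), ((6, 5), 4), ((6, 6), 1), ((7, 3), 4), ((7, 11), 3), ((7, 17), 4), ((5, 1), 3)],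
  [((0, 1), 1), ((0, 2), 4), ((0, 4), 1), ((0, 6), 4), ((0, 9), 1), ((0, 13), 4), ((0, 20), 1), ((0, 26), 4), ((0, 38), 1), ((0, 46), 4), ((0, 71), 4), ((1, 99), 2), ((2, 15), 3), ((4, 98), 4), ((6, 20), 4), ((6, 56), 2), ((3, 6), 4), ((5, 0), 3), ((1, 0), 4), ((1, 8), 2), ((1, 10), 2), ((1, 14), 3), ((1, 16), 1), ((1, 18), 2), ((1, 22), 1), ((1, 24), 2), ((1, 25), 4), ((1, 34), 4), ((1, 44), 1), ((1, 64), 1), ((6, 36), 2), ((6, 55), 2), ((7, 68), 1), ((5, 6), 3), ((5, 63), 1), ((7, 16), 4), ((7, 40), 3), ((7, 41), 2), ((7, 51), 3), ((7, 52), 1), ((7, 59), 3), ((7, 60), 3), ((7, 78), 1), ((2, 0), 4), ((2, 3), 1), ((2, 5), 2), ((2, 7), 1), ((2, 17), 1), ((2, 19), 3), ((2, 21), 3), ((2, 23), 1), ((6, 11), 4), ((5, 20), 1), ((5, 51), 4), ((6, 27), 1), ((6, 32), 3), ((3, 7), 3), ((3, 15), 3), ((7, 10), 1), ((3, 0),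 3), ((3, 1), 2), ((3, 3), 4), ((3, 17), 3), ((3, 45), 2), ((3, 5), 3), ((3, 12), 1), ((3, 42), 2), ((3, 2), 1), ((3, 14), 1), ((3, 18), 1), ((3, 19), 2), ((3, 21), 3), ((3, 32), 4), ((3, 34), 3), ((4, 3), 2), ((4, 4), 3), ((4, 6), 3), ((4, 10), 2), ((7, 0), 2), ((7, 34), 2), ((4, 7), 2), ((4, 12), 3), ((4, 14), 1), ((7, 5), 2), ((7, 6), 3), ((7, 14), 3), ((6, 2), 4), ((6, 3), 2), ((6, 15), 2), ((6, 4), 1), ((6, 5), 3), ((7, 3), 4), ((7, 11), 2), ((7, 21), 4), ((7, 23), 3), ((7, 28), 3), ((5, 1), 3)],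
  [((0, 1), 1), ((0, 2), 4), ((0, 3), 1), ((0, 6), 4), ((0, 8), 1), ((0, 13), 4), ((0, 18), 1), ((0, 26), 4), ((0, 36), 1), ((0, 46), 4), ((0, 72), 4), ((1, 73), 3), ((1, 99), 1), ((2, 15), 1), ((4, 32), 3), ((4, 98), 4), ((6, 20), 2), ((1, 0), 1), ((1, 2), 1), ((1, 6), 4), ((1, 8), 1), ((1, 10), 2), ((1, 14), 4), ((1, 16), 1), ((1, 18), 1), ((1, 22), 3), ((1, 24), 2), ((1, 25), 1), ((1, 34), 1), ((1, 44), 2), ((1, 64), 3), ((6, 16), 4), ((7, 68), 2), ((5, 6), 2), ((5, 63), 1), ((7, 16), 2), ((7, 41), 1), ((7, 45), 3), ((7, 52), 3), ((7, 59), 4), ((7, 60), 1), ((7, 78), 4), ((2, 0), 1), ((2, 3), 4), ((2, 17), 3), ((2, 19), 2), ((2, 21), 3), ((2, 23), 4), ((2, 30), 2), ((6, 11), 2), ((5, 20), 3), ((5, 51), 3), ((6, 32), 3), ((3, 7), 2), ((3, 0), 1), ((3, 1), 2), ((3, 17), 3), ((3, 45), 1), ((3, 5), 1), ((3, 2), 3),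 ((3, 16), 1), ((3, 18), 2), ((3, 19), 4), ((3, 21), 2), ((3, 23), 1), ((3, 32), 4), ((3, 34), 3), ((4, 3), 3), ((4, 4), 2), ((4, 10), 3), ((4, 28), 4), ((4, 30), 1), ((7, 0), 2), ((4, 1), 4), ((4, 2), 4), ((4, 7), 3), ((4, 9), 2), ((4, 12), 2), ((7, 5), 1), ((7, 6), 3), ((7, 14), 3), ((7, 38), 2), ((6, 2), 4), ((6, 3), 1), ((6, 15), 3), ((6, 4), 1), ((6, 6), 4), ((6, 37), 1), ((7, 3), 4), ((7, 11), 2), ((7, 17), 3), ((7, 23), 3), ((7, 28), 2), ((5, 1), 1)],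
  [((1, 73), 3)],
  [((0, 93), 1)],
  [((0, 1), 1), ((0, 2), 4), ((0, 4), 1), ((0, 6), 4), ((0, 10), 1), ((0, 14), 4), ((0, 21), 1), ((0, 29), 4), ((0, 40), 1), ((0, 50), 4), ((0, 75), 4), ((1, 73), 3), ((1, 99), 3), ((4, 32), 3), ((4, 98), 4), ((6, 20), 4), ((6, 56), 1), ((3, 6), 3), ((5, 0), 4), ((1, 0), 3), ((1, 2), 1), ((1, 6), 1), ((1, 8), 1), ((1, 14), 2), ((1, 16), 4), ((1, 22), 2), ((1, 24), 3), ((1, 34), 2), ((1, 44), 4), ((1, 64), 3), ((6, 36), 1), ((6, 55), 2), ((5, 63), 3), ((7, 16), 1), ((7, 40), 4), ((7, 45), 4), ((7, 51), 3), ((7, 52), 1), ((7, 59), 4), ((7, 60), 3), ((7, 78), 4), ((2, 0), 3), ((2, 5), 2), ((2, 7), 4), ((2, 17), 1), ((2, 19), 4), ((2, 21), 3), ((2, 23), 3), ((2, 30), 3), ((5, 20), 1), ((5, 51), 1), ((5, 62), 3), ((6, 27), 1), ((6, 32), 2), ((3, 7), 4), ((3, 15), 2), ((7, 10), 3),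 ((3, 0), 3), ((3, 1), 4), ((3, 3), 1), ((3, 45), 2), ((3, 5), 2), ((3, 12), 4), ((3, 42), 4), ((3, 14), 3), ((3, 16), 3), ((3, 19), 1), ((3, 21), 3), ((3, 23), 1), ((3, 32), 4), ((3, 34), 1), ((4, 3), 2), ((4, 4), 3), ((4, 10), 2), ((4, 28), 1), ((7, 0), 2), ((4, 0), 4), ((4, 1), 1), ((4, 2), 1), ((4, 9), 3), ((4, 14), 1), ((7, 5), 1), ((7, 6), 4), ((7, 14), 1), ((7, 38), 2), ((6, 3), 2), ((6, 15), 1), ((6, 4), 2), ((6, 5), 3), ((6, 6), 4), ((6, 37), 2), ((7, 11), 4), ((7, 17), 4), ((7, 23), 2), ((7, 28), 3), ((5, 1), 3)],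
  [((0, 95), 1)],
  [((0, 76), 1), ((0, 77), 4), ((0, 96), 1), ((1, 73), 1), ((2, 15), 1), ((4, 32), 2), ((4, 98), 4), ((6, 20), 2), ((6, 56), 4), ((3, 6), 4), ((5, 0), 2), ((1, 6), 4), ((1, 14), 3), ((1, 18), 4), ((1, 22), 2), ((1, 24), 3), ((1, 34), 3), ((1, 44), 4), ((1, 64), 1), ((6, 16), 1), ((6, 36), 1), ((6, 55), 1), ((7, 68), 2), ((5, 6), 2), ((5, 63), 4), ((7, 16), 3), ((7, 40), 1), ((7, 41), 3), ((7, 45), 1), ((7, 51), 1), ((7, 52), 4), ((7, 59), 2), ((7, 60), 3), ((7, 78), 4), ((2, 0), 2), ((2, 7), 2), ((2, 19), 3), ((2, 21), 2), ((2, 23), 4), ((2, 30), 1), ((6, 11), 2), ((5, 20), 4), ((5, 51), 2), ((5, 62), 1), ((6, 32), 3), ((3, 7), 3), ((7, 10), 1), ((3, 1), 4), ((3, 3), 2), ((3, 5), 3), ((3, 12), 1), ((3, 42), 3), ((3, 14), 1), ((3, 16), 1), ((3, 18), 4), ((3, 21), 3), ((3, 32), 4), ((3, 34), 2),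 ((4, 4), 4), ((4, 6), 2), ((4, 10), 3), ((4, 30), 2), ((7, 0), 3), ((4, 1), 3), ((4, 2), 1), ((4, 7), 1), ((4, 12), 1), ((4, 14), 2), ((7, 5), 2), ((7, 14), 1), ((7, 38), 3), ((6, 2), 3), ((6, 3), 2), ((6, 15), 4), ((6, 4), 3), ((6, 5), 2), ((6, 6), 2), ((7, 3), 2), ((7, 11), 3), ((7, 17), 3), ((7, 21), 2), ((7, 28), 1)],
  [((0, 7), 4), ((0, 8), 1), ((0, 16), 4), ((0, 18), 1), ((0, 31), 4), ((0, 52), 4), ((0, 78), 4), ((1, 99), 3), ((4, 32), 4), ((4, 98), 2), ((6, 20), 1), ((6, 56), 1), ((3, 6), 3), ((5, 0), 2), ((1, 0), 3), ((1, 2), 2), ((1, 8), 4), ((1, 10), 2), ((1, 14), 2), ((1, 16), 3), ((1, 18), 3), ((1, 22), 1), ((1, 24), 3), ((1, 25), 4), ((1, 34), 4), ((1, 44), 4), ((1, 64), 4), ((6, 16), 1), ((6, 36), 2), ((6, 55), 1), ((7, 68), 2), ((5, 6), 3), ((7, 40), 2), ((7, 45), 1), ((7, 51), 4), ((7, 52), 2),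 ((7, 59), 1), ((7, 78), 4), ((2, 0), 2), ((2, 3), 3), ((2, 5), 2), ((2, 7), 3), ((2, 17), 4), ((2, 21), 3), ((2, 23), 2), ((2, 30), 1), ((6, 11), 1), ((5, 20), 3), ((5, 51), 4), ((5, 62), 3), ((6, 27), 3), ((6, 32), 1), ((3, 7), 2), ((3, 15), 1), ((7, 10), 2), ((3, 0), 1), ((3, 1), 4), ((3, 17), 4), ((3, 45), 1), ((3, 5), 2), ((3, 12), 2), ((3, 2), 1), ((3, 14), 4), ((3, 16), 1), ((3, 19), 2), ((3, 21), 3), ((3, 32), 4), ((4, 3), 2), ((4, 4), 3), ((4, 6), 3), ((4, 10), 2), ((4, 28), 3), ((7, 0), 2), ((7, 34), 2), ((4, 1), 1), ((4, 2), 3), ((4, 7), 3), ((4, 9), 4), ((4, 12), 4), ((4, 14), 1), ((7, 5), 4), ((7, 6), 2), ((7, 14), 2), ((7, 38), 4), ((6, 2), 2), ((6, 15), 3), ((6, 4), 4), ((7, 11), 3), ((7, 17), 3), ((7, 21), 4), ((7, 28), 1)],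
  [((0, 1), 4), ((0, 2), 1), ((0, 3), 4), ((0, 6), 1), ((0, 7), 4), ((0, 13), 1), ((0, 16), 4), ((0, 26), 1), ((0, 31), 4), ((0, 47), 1), ((0, 53), 4), ((0, 79), 4), ((1, 73), 1), ((1, 99), 1), ((2, 15), 4), ((4, 32), 2), ((6, 20), 4), ((3, 6), 1), ((5, 0), 4), ((1, 0), 1), ((1, 6), 2), ((1, 8), 2), ((1, 10), 4), ((1, 14), 3), ((1, 16), 4), ((1, 18), 3), ((1, 22), 1), ((1, 25), 1), ((1, 34), 1), ((1, 44), 2), ((1, 64), 1), ((6, 16), 3), ((6, 36), 3), ((5, 6), 4), ((5, 63), 2), ((7, 40), 4), ((7, 41), 3), ((7, 45), 4), ((7, 51), 3), ((7, 59), 3), ((7, 60), 4), ((7, 78), 3), ((2, 0), 4), ((2, 3), 4), ((2, 5), 3), ((2, 7), 4), ((2, 19), 3), ((2, 21), 1), ((2, 23), 4), ((2, 30), 2), ((5, 20), 3), ((5, 51), 1), ((5, 62), 4), ((6, 27), 2), ((6, 32), 2), ((3, 15), 2), ((7, 10), 2), ((3, 0), 2), ((3, 1), 2), ((3, 3), 3),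 ((3, 17), 3), ((3, 45), 3), ((3, 5), 4), ((3, 42), 2), ((3, 2), 3), ((3, 14), 1), ((3, 16), 4), ((3, 18), 4), ((3, 19), 4), ((3, 21), 1), ((3, 23), 1), ((3, 32), 1), ((3, 34), 4), ((4, 6), 1), ((4, 28), 3), ((7, 34), 4), ((4, 0), 4), ((4, 1), 3), ((4, 2), 3), ((4, 9), 2), ((4, 12), 3), ((4, 14), 4), ((7, 6), 2), ((7, 14), 3), ((7, 38), 1), ((6, 2), 4), ((6, 3), 1), ((6, 15), 3), ((6, 4), 1), ((6, 5), 1), ((6, 37), 1), ((7, 3), 1), ((7, 11), 2), ((7, 17), 1), ((7, 21), 4), ((7, 23), 2), ((7, 28), 4), ((5, 1), 2)],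
  [((0, 7), 4), ((0, 8), 1), ((0, 16), 4), ((0, 17), 1), ((0, 31), 4), ((0, 34), 1), ((0, 53), 4), ((0, 58), 1), ((0, 80), 4), ((0, 85), 1), ((1, 73), 2), ((2, 15), 4), ((4, 32), 4), ((4, 98), 3), ((6, 20), 3), ((6, 56), 3), ((5, 0), 2), ((1, 0), 2), ((1, 6), 3), ((1, 8), 4), ((1, 10), 1), ((1, 14), 3), ((1, 16), 4), ((1, 18), 1), ((1, 22), 2), ((1, 24), 3), ((1, 34), 2), ((1, 44), 1), ((6, 16), 2), ((7, 68), 2), ((5, 6), 1), ((5, 63), 2), ((7, 16), 3), ((7, 40), 3), ((7, 41), 2), ((7, 45), 1), ((7, 51), 4), ((7, 59), 3), ((7, 78), 1), ((2, 0), 2), ((2, 3), 3), ((2, 5), 2), ((2, 17), 3), ((2, 19), 3), ((2, 23), 3), ((6, 11), 1), ((5, 20), 2), ((5, 51), 3), ((5, 62), 1), ((6, 32), 1), ((3, 7), 3), ((3, 15), 1), ((3, 0), 4), ((3, 1), 4), ((3, 3), 3), ((3, 17), 2), ((3, 45), 2), ((3, 5), 1), ((3, 12), 4), ((3, 42),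 4), ((3, 2), 2), ((3, 14), 3), ((3, 16), 4), ((3, 18), 2), ((3, 21), 1), ((3, 23), 3), ((3, 32), 4), ((3, 34), 3), ((4, 3), 4), ((4, 4), 4), ((4, 6), 1), ((4, 10), 4), ((4, 28), 4), ((4, 30), 3), ((7, 34), 2), ((4, 0), 4), ((4, 1), 1), ((4, 2), 2), ((4, 7), 1), ((4, 9), 3), ((4, 14), 2), ((7, 5), 2), ((7, 6), 4), ((7, 14), 3), ((7, 38), 4), ((6, 2), 3), ((6, 15), 4), ((6, 5), 1), ((6, 6), 4), ((6, 37), 3), ((7, 17), 4), ((7, 21), 1), ((7, 23), 2), ((7, 28), 4), ((5, 1), 4)],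
  [((0, 55), 4), ((0, 81), 4), ((1, 73), 3), ((1, 99), 2), ((4, 32), 4), ((6, 20), 2), ((6, 56), 3), ((3, 6), 4), ((1, 0), 4), ((1, 2), 3), ((1, 6), 2), ((1, 10), 3), ((1, 14), 2), ((1, 16), 4), ((1, 18), 1), ((1, 22), 2), ((1, 24), 1), ((1, 25), 1), ((1, 64), 3), ((6, 16), 3), ((6, 36), 4), ((6, 55), 2), ((7, 68), 1), ((5, 63), 1), ((7, 16), 3), ((7, 40), 1), ((7, 41), 2), ((7, 51), 1), ((7, 52), 4), ((7, 59), 1), ((7, 60), 3), ((7, 78), 3), ((2, 0), 2), ((2, 3), 4), ((2, 5), 1), ((2, 7), 1), ((2, 17), 2), ((2, 21), 4), ((2, 23), 4), ((2, 30), 3), ((6, 11), 4), ((5, 20), 2), ((5, 51), 4), ((5, 62), 4), ((6, 27), 2), ((6, 32), 1), ((3, 7), 2), ((3, 15), 2), ((3, 0), 3), ((3, 1), 4), ((3, 3), 2), ((3, 17), 3), ((3, 12), 4), ((3, 42), 2), ((3, 2), 1), ((3, 14), 4), ((3, 16), 1), ((3, 18), 4), ((3, 19), 1), ((3, 21),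 2), ((3, 32), 2), ((3, 34), 4), ((4, 4), 1), ((4, 6), 1), ((4, 10), 3), ((4, 28), 3), ((4, 30), 3), ((7, 0), 3), ((4, 0), 3), ((4, 1), 3), ((4, 2), 1), ((4, 9), 3), ((4, 12), 4), ((4, 14), 1), ((7, 5), 1), ((7, 6), 3), ((7, 14), 1), ((7, 38), 3), ((6, 2), 2), ((6, 3), 1), ((6, 15), 1), ((6, 4), 2), ((6, 5), 4), ((6, 6), 3), ((6, 37), 1), ((7, 11), 2), ((7, 28), 3), ((5, 1), 4)],
  [((0, 1), 4), ((0, 2), 1), ((0, 3), 4), ((0, 6), 1), ((0, 7), 4), ((0, 14), 1), ((0, 16), 4), ((0, 28), 1), ((0, 32), 4), ((0, 49), 1), ((0, 55), 4), ((0, 74), 1), ((0, 82), 4), ((0, 94), 1), ((1, 73), 2), ((1, 99), 4), ((2, 15), 1), ((4, 32), 2), ((4, 98), 4), ((6, 20), 4), ((6, 56), 3), ((3, 6), 1), ((5, 0), 3), ((1, 0), 4), ((1, 8), 2), ((1, 10), 2), ((1, 14), 2), ((1, 18), 3), ((1, 22), 2), ((1, 24), 3), ((1, 25), 2), ((1, 34), 3),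 ((1, 44), 4), ((1, 64), 3), ((6, 36), 3), ((7, 68), 2), ((5, 6), 2), ((5, 63), 1), ((7, 41), 2), ((7, 51), 4), ((7, 60), 4), ((2, 0), 3), ((2, 3), 1), ((2, 7), 3), ((2, 19), 1), ((2, 21), 1), ((2, 23), 2), ((2, 30), 2), ((5, 20), 2), ((5, 62), 2), ((6, 32), 2), ((3, 7), 3), ((3, 15), 4), ((7, 10), 2), ((3, 0), 2), ((3, 1), 2), ((3, 3), 2), ((3, 45), 2), ((3, 5), 1), ((3, 12), 3), ((3, 42), 3), ((3, 2), 3), ((3, 14), 2), ((3, 16), 3), ((3, 18), 1), ((3, 19), 3), ((3, 21), 2), ((3, 34), 3), ((4, 3), 3), ((4, 4), 4), ((4, 6), 3), ((4, 10), 3), ((4, 28), 1), ((4, 30), 2), ((7, 0), 3), ((4, 0), 4), ((4, 1), 4), ((4, 2), 3), ((4, 7), 4), ((4, 9), 2), ((4, 12), 2), ((4, 14), 4), ((7, 6), 1), ((7, 14), 4), ((7, 38), 3), ((6, 2), 2), ((6, 3), 3), ((6, 4), 2), ((6, 6), 2), ((6, 37), 4), ((7, 3), 2), ((7, 11), 3), ((7, 21),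 1), ((7, 23), 2), ((7, 28), 2)],
  [((0, 7), 1), ((0, 8), 4), ((0, 16), 1), ((0, 17), 4), ((0, 31), 1), ((0, 33), 4), ((0, 52), 1), ((0, 56), 4), ((0, 78), 1), ((0, 83), 4), ((1, 73), 4), ((1, 99), 3), ((2, 15), 3), ((4, 32), 3), ((4, 98), 3), ((6, 20), 1), ((6, 56), 2), ((3, 6), 4), ((5, 0), 2), ((1, 2), 2), ((1, 6), 2), ((1, 10), 2), ((1, 16), 3), ((1, 18), 1), ((1, 22), 3), ((1, 24), 3), ((1, 25), 4), ((1, 34), 1), ((1, 44), 1), ((1, 64), 4), ((6, 36), 4), ((6, 55), 4), ((7, 68), 2), ((5, 6), 3), ((5, 63), 1), ((7, 16), 3), ((7, 41), 2), ((7, 45), 4), ((7, 51), 3), ((7, 52), 3), ((7, 59), 2), ((7, 60), 4), ((7, 78), 4), ((2, 17), 2), ((2, 21), 1), ((2, 30), 4), ((6, 11), 4), ((5, 20), 1), ((5, 62), 2), ((6, 27), 2), ((6, 32), 4), ((3, 7), 4), ((3, 15), 4), ((7, 10), 2), ((3, 0), 2), ((3, 1), 4), ((3, 17), 1),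 ((3, 45), 1), ((3, 5), 4), ((3, 12), 3), ((3, 2), 3), ((3, 18), 3), ((3, 21), 2), ((3, 23), 1), ((3, 32), 3), ((3, 34), 1), ((4, 3), 4), ((4, 4), 3), ((4, 6), 2), ((4, 10), 4), ((4, 28), 2), ((4, 30), 4), ((7, 0), 3), ((7, 34), 4), ((4, 0), 2), ((4, 1), 4), ((4, 7), 2), ((4, 9), 1), ((4, 14), 1), ((7, 5), 4), ((7, 6), 2), ((7, 14), 1), ((6, 2), 1), ((6, 3), 1), ((6, 15), 1), ((6, 4), 2), ((6, 37), 4), ((7, 11), 4), ((7, 17), 2), ((7, 21), 2), ((7, 23), 1), ((7, 28), 3), ((5, 1), 1)],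
  [((0, 1), 4), ((0, 2), 1), ((0, 3), 4), ((0, 6), 1), ((0, 8), 4), ((0, 13), 1), ((0, 17), 4), ((0, 27), 1), ((0, 33), 4), ((0, 57), 4), ((0, 84), 4), ((1, 73), 2), ((1, 99), 2), ((4, 98), 2), ((6, 20), 1), ((6, 56), 1), ((5, 0), 3), ((1, 0), 4), ((1, 2), 4), ((1, 8), 1), ((1, 10), 1), ((1, 14), 4), ((1, 16), 4), ((1, 18), 1), ((1, 22), 1), ((1, 24), 4), ((1, 25), 4), ((1, 44), 4), ((1, 64), 4), ((6, 16), 3), ((6, 36), 2), ((6, 55), 2), ((7, 68), 4), ((5, 63), 3), ((7, 16), 1), ((7, 40), 2), ((7, 41), 1), ((7, 51), 3), ((7, 52), 1), ((7, 59), 2), ((7, 60), 4), ((7, 78), 4), ((2, 0), 3), ((2, 3), 2), ((2, 5), 4), ((2, 7), 3), ((2, 19), 4), ((2, 21), 3), ((2, 23), 3), ((2, 30), 2), ((6, 11), 1), ((5, 20), 4), ((5, 62), 4), ((6, 27), 2), ((6, 32), 1), ((3, 15), 4), ((7, 10), 4), ((3, 0), 3), ((3, 1), 1), ((3, 3),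 2), ((3, 17), 3), ((3, 45), 3), ((3, 5), 2), ((3, 12), 1), ((3, 42), 2), ((3, 2), 3), ((3, 14), 1), ((3, 18), 3), ((3, 19), 4), ((3, 21), 3), ((3, 23), 3), ((3, 32), 4), ((3, 34), 3), ((4, 3), 4), ((4, 6), 1), ((4, 10), 2), ((4, 28), 2), ((4, 30), 1), ((7, 0), 2), ((7, 34), 3), ((4, 0), 3), ((4, 1), 1), ((4, 14), 4), ((7, 5), 4), ((7, 6), 4), ((7, 14), 1), ((6, 2), 3), ((6, 3), 1), ((6, 15), 4), ((6, 4), 2), ((6, 5), 3), ((6, 6), 4), ((7, 3), 3), ((7, 17), 2), ((7, 21), 1), ((7, 23), 4), ((5, 1), 1)],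
  [((0, 17), 4), ((0, 18), 1), ((0, 34), 4), ((0, 35), 1), ((0, 58), 4), ((0, 59), 1), ((0, 85), 4), ((0, 86), 1), ((1, 73), 3), ((1, 99), 2), ((2, 15), 2), ((4, 32), 4), ((6, 20), 4), ((6, 56), 4), ((3, 6), 4), ((5, 0), 1), ((1, 0), 2), ((1, 2), 2), ((1, 6), 4), ((1, 8), 4), ((1, 10), 2), ((1, 14), 3), ((1, 16), 1), ((1, 18), 3), ((1, 22), 3), ((1, 24), 1), ((1, 25), 3), ((1, 44), 1), ((1, 64), 2), ((6, 16), 4), ((6, 36), 1), ((6, 55), 3), ((5, 6), 3), ((5, 63), 2), ((7, 16), 1), ((7, 40), 1), ((7, 41), 2), ((7, 45), 3), ((7, 51), 1), ((7, 52), 3), ((7, 59), 1), ((7, 60), 1), ((7, 78), 3), ((2, 0), 1), ((2, 3), 2), ((2, 5), 2), ((2, 7), 3), ((2, 17), 4), ((2, 19), 2), ((2, 21), 2), ((2, 30), 1), ((6, 11), 2), ((5, 20), 2), ((5, 62), 3), ((6, 27), 4), ((6, 32), 1), ((3, 7), 2), ((3, 15), 4), ((3, 1), 2), ((3, 3),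 3), ((3, 45), 2), ((3, 5), 1), ((3, 12), 3), ((3, 42), 1), ((3, 14), 2), ((3, 16), 2), ((3, 18), 3), ((3, 19), 1), ((3, 21), 3), ((3, 23), 3), ((3, 32), 1), ((3, 34), 3), ((4, 3), 4), ((4, 4), 3), ((4, 6), 4), ((4, 28), 1), ((4, 30), 2), ((4, 0), 3), ((4, 1), 3), ((4, 2), 4), ((4, 7), 2), ((4, 9), 1), ((4, 12), 1), ((4, 14), 3), ((7, 5), 4), ((7, 6), 2), ((7, 14), 1), ((6, 2), 3), ((6, 3), 2), ((6, 15), 4), ((6, 4), 4), ((6, 5), 2), ((6, 6), 4), ((6, 37), 3), ((7, 3), 2), ((7, 11), 3), ((7, 21), 1), ((7, 23), 2), ((7, 28), 4), ((5, 1), 4)],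
  [((0, 7), 1), ((0, 8), 4), ((0, 16), 1), ((0, 18), 4), ((0, 31), 1), ((0, 35), 4), ((0, 52), 1), ((0, 59), 4), ((0, 78), 1), ((0, 86), 4), ((0, 97), 1), ((1, 73), 2), ((4, 32), 1), ((4, 98), 4), ((6, 20), 2), ((3, 6), 1), ((5, 0), 1), ((1, 0), 2), ((1, 2), 4), ((1, 6), 1), ((1, 10), 3), ((1, 14), 2), ((1, 16), 2), ((1, 18), 2), ((1, 22), 1), ((1, 24), 1), ((1, 34), 2), ((1, 44), 4), ((1, 64), 1), ((6, 36), 1), ((6, 55), 2), ((7, 68), 2), ((5, 63), 2), ((7, 16), 4), ((7, 40), 2), ((7, 41), 2), ((7, 51), 4), ((7, 52), 1), ((7, 59), 2), ((7, 78), 2), ((2, 0), 3), ((2, 3), 1), ((2, 7), 1), ((2, 17), 1), ((2, 19), 3), ((2, 21), 4), ((2, 23), 2), ((2, 30), 1), ((6, 11), 4), ((5, 20), 1), ((5, 51), 2), ((5, 62), 2), ((6, 27), 1), ((6, 32), 1), ((3, 15), 1), ((3, 0), 1), ((3, 1), 3), ((3, 3), 2), ((3, 45), 4), ((3, 5),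 4), ((3, 12), 1), ((3, 42), 3), ((3, 2), 3), ((3, 14), 4), ((3, 16), 4), ((3, 18), 1), ((3, 19), 3), ((3, 21), 3), ((3, 23), 1), ((3, 32), 4), ((3, 34), 2), ((4, 3), 4), ((4, 4), 4), ((4, 6), 1), ((4, 10), 3), ((4, 28), 3), ((4, 30), 4), ((7, 0), 4), ((4, 0), 2), ((4, 1), 2), ((4, 2), 4), ((4, 7), 1), ((4, 12), 3), ((4, 14), 4), ((7, 6), 3), ((7, 14), 1), ((7, 38), 2), ((6, 2), 4), ((6, 3), 3), ((6, 15), 3), ((6, 4), 4), ((6, 5), 4), ((6, 37), 1), ((7, 3), 4), ((7, 11), 4), ((7, 17), 1), ((7, 28), 2), ((5, 1), 2)],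
  [((0, 3), 1), ((0, 4), 4), ((0, 8), 1), ((0, 9), 4), ((0, 17), 1), ((0, 19), 4), ((0, 34), 1), ((0, 37), 4), ((0, 61), 4), ((0, 87), 4), ((1, 73), 4), ((1, 99), 2), ((2, 15), 3), ((4, 32), 1), ((4, 98), 1), ((6, 56), 3), ((3, 6), 3), ((1, 0), 2), ((1, 6), 4), ((1, 8), 4), ((1, 10), 3), ((1, 14), 2), ((1, 16), 2), ((1, 18), 1), ((1, 22), 2), ((1, 24), 1), ((1, 25), 1), ((1, 34), 2), ((1, 44), 4), ((1, 64), 2), ((6, 16), 2), ((6, 36), 4), ((6, 55), 2), ((7, 68), 3), ((5, 6), 4), ((5, 63), 2), ((7, 16), 4), ((7, 40), 2), ((7, 51), 3), ((7, 52), 4), ((7, 59), 3), ((7, 60), 2), ((7, 78), 4), ((2, 0), 3), ((2, 3), 1), ((2, 5), 4), ((2, 17), 1), ((2, 21), 4), ((2, 23), 3), ((2, 30), 2), ((6, 11), 3), ((5, 20), 3), ((5, 51), 3), ((5, 62), 2), ((6, 27), 4), ((6, 32), 2), ((3, 7), 1), ((3, 15), 1), ((7, 10), 2), ((3, 0),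 1), ((3, 1), 2), ((3, 3), 2), ((3, 17), 4), ((3, 45), 3), ((3, 5), 1), ((3, 12), 2), ((3, 42), 3), ((3, 2), 1), ((3, 16), 1), ((3, 19), 4), ((3, 23), 4), ((3, 34), 2), ((4, 3), 4), ((4, 4), 2), ((4, 6), 1), ((4, 10), 4), ((7, 0), 4), ((4, 0), 3), ((4, 1), 1), ((4, 12), 3), ((7, 6), 4), ((7, 14), 3), ((7, 38), 2), ((6, 3), 2), ((6, 15), 1), ((6, 4), 1), ((6, 5), 1), ((6, 6), 4), ((6, 37), 1), ((7, 11), 1), ((7, 17), 3), ((7, 21), 2), ((7, 23), 4), ((5, 1), 1)],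
  [((0, 1), 4), ((0, 2), 1), ((0, 4), 4), ((0, 5), 1), ((0, 10), 4), ((0, 11), 1), ((0, 21), 4), ((0, 23), 1), ((0, 40), 4), ((0, 42), 1), ((0, 64), 4), ((0, 67), 1), ((0, 88), 4), ((2, 15), 2), ((4, 98), 1), ((6, 20), 2), ((3, 6), 4), ((5, 0), 2), ((1, 0), 1), ((1, 6), 1), ((1, 8), 1), ((1, 16), 3), ((1, 18), 1), ((1, 24), 3), ((1, 25), 3), ((1, 34), 3), ((1, 44), 1), ((1, 64), 1), ((6, 16), 1), ((5, 6), 3), ((5, 63), 3), ((7, 40), 4), ((7, 41), 2), ((7, 45), 2), ((7, 59), 2), ((7, 60), 3), ((7, 78), 1), ((2, 0), 3), ((2, 5), 3), ((2, 7), 2), ((2, 17), 4), ((2, 21), 2), ((6, 11), 1), ((5, 20), 4), ((5, 51), 1), ((6, 27), 1), ((6, 32), 3), ((3, 7), 2), ((3, 15), 4), ((7, 10), 3), ((3, 0), 4), ((3, 17), 4), ((3, 45), 1), ((3, 5), 1), ((3, 12), 4), ((3, 42), 4), ((3, 2), 4), ((3, 14), 1), ((3, 16), 4), ((3, 18), 2),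 ((3, 19), 3), ((3, 21), 4), ((3, 23), 2), ((3, 32), 1), ((3, 34), 1), ((4, 3), 1), ((4, 4), 4), ((4, 6), 2), ((4, 10), 3), ((4, 28), 1), ((7, 0), 2), ((7, 34), 4), ((4, 1), 4), ((4, 2), 4), ((4, 7), 1), ((4, 9), 1), ((4, 12), 3), ((7, 6), 1), ((7, 14), 2), ((7, 38), 3), ((6, 2), 1), ((6, 15), 3), ((6, 5), 3), ((7, 11), 1), ((7, 17), 4), ((7, 23), 1), ((5, 1), 2)],
  [((0, 22), 4), ((0, 41), 4), ((0, 65), 4), ((0, 89), 4), ((1, 73), 4), ((2, 15), 2), ((4, 32), 2), ((6, 56), 1), ((3, 6), 1), ((5, 0), 2), ((1, 0), 4), ((1, 6), 3), ((1, 8), 4), ((1, 10), 2), ((1, 14), 4), ((1, 16), 4), ((1, 22), 3), ((1, 25), 3), ((1, 34), 3), ((1, 44), 3), ((1, 64), 2), ((6, 16), 1), ((6, 36), 1), ((5, 6), 3), ((5, 63), 1), ((7, 40), 3), ((7, 41), 3), ((7, 45), 4), ((7, 51), 3), ((7, 52), 2), ((7, 59), 4), ((7, 60), 2), ((2, 0), 1),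 ((2, 3), 2), ((2, 7), 4), ((2, 17), 2), ((2, 19), 3), ((2, 21), 1), ((2, 23), 2), ((6, 11), 3), ((5, 20), 4), ((5, 51), 1), ((5, 62), 4), ((6, 27), 1), ((6, 32), 3), ((3, 7), 1), ((3, 15), 2), ((7, 10), 1), ((3, 17), 4), ((3, 45), 2), ((3, 5), 2), ((3, 12), 4), ((3, 42), 4), ((3, 2), 4), ((3, 16), 2), ((3, 19), 4), ((3, 21), 1), ((3, 23), 1), ((3, 32), 1), ((3, 34), 2), ((4, 4), 2), ((4, 6), 3), ((4, 10), 1), ((4, 28), 3), ((7, 34), 1), ((4, 1), 3), ((4, 2), 4), ((4, 7), 2), ((4, 9), 3), ((4, 12), 2), ((7, 5), 2), ((7, 6), 4), ((7, 38), 4), ((6, 2), 3), ((6, 15), 3), ((6, 4), 1), ((6, 5), 4), ((6, 37), 4), ((7, 3), 4), ((7, 11), 4), ((7, 17), 1), ((7, 23), 1), ((7, 28), 2)],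
  [((0, 1), 1), ((0, 2), 4), ((0, 4), 1), ((0, 5), 4), ((0, 9), 1), ((0, 11), 4), ((0, 19), 1), ((0, 23), 4), ((0, 37), 1), ((0, 42), 4), ((0, 62), 1), ((0, 67), 4), ((0, 90), 4), ((1, 73), 4), ((1, 99), 3), ((4, 32), 3), ((4, 98), 4), ((6, 20), 3), ((6, 56), 1), ((3, 6), 2), ((5, 0), 2), ((1, 0), 1), ((1, 2), 2), ((1, 8), 2), ((1, 10), 3), ((1, 14), 3), ((1, 16), 3), ((1, 18), 4), ((1, 22), 3), ((1, 25), 4), ((1, 34), 2), ((1, 44), 1), ((1, 64), 3), ((6, 16), 1), ((6, 36), 2), ((6, 55), 4), ((7, 68), 2), ((5, 6), 4), ((7, 16), 2), ((7, 40), 2), ((7, 41), 3), ((7, 45), 3), ((7, 51), 4), ((7, 52), 1), ((7, 59), 4), ((7, 60), 2), ((7, 78), 3), ((2, 3), 2), ((2, 5), 1), ((2, 7), 1), ((2, 19), 4), ((2, 21), 1), ((2, 23), 3), ((2, 30), 4), ((6, 11), 1), ((5, 20), 1), ((5, 51), 4), ((6, 32), 2), ((3, 7), 3), ((3, 15),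 3), ((7, 10), 2), ((3, 0), 4), ((3, 1), 2), ((3, 3), 2), ((3, 17), 2), ((3, 45), 2), ((3, 5), 3), ((3, 12), 2), ((3, 42), 3), ((3, 2), 2), ((3, 14), 3), ((3, 16), 1), ((3, 18), 4), ((3, 19), 3), ((3, 21), 2), ((3, 23), 3), ((3, 34), 4), ((4, 3), 3), ((4, 4), 1), ((4, 6), 1), ((4, 10), 3), ((4, 28), 1), ((4, 30), 2), ((7, 0), 2), ((7, 34), 2), ((4, 0), 1), ((4, 1), 4), ((4, 2), 3), ((4, 7), 2), ((4, 9), 3), ((4, 12), 4), ((7, 5), 2), ((7, 6), 4), ((7, 14), 2), ((7, 38), 4), ((6, 2), 1), ((6, 3), 3), ((6, 15), 4), ((6, 4), 3), ((6, 6), 4), ((6, 37), 1), ((7, 3), 2), ((7, 11), 1), ((7, 17), 3), ((7, 21), 4), ((7, 23), 2), ((7, 28), 4), ((5, 1), 4)],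
  [((0, 1), 1), ((0, 2), 4), ((0, 3), 1), ((0, 5), 4), ((0, 7), 1), ((0, 11), 4), ((0, 16), 1), ((0, 24), 4), ((0, 31), 1), ((0, 43), 4), ((0, 53), 1), ((0, 68), 4), ((0, 80), 1), ((0, 91), 4), ((0, 98), 1), ((1, 99), 4), ((2, 15), 4), ((4, 98), 4), ((6, 20), 1), ((6, 56), 4), ((3, 6), 3), ((5, 0), 3), ((1, 0), 2), ((1, 2), 3), ((1, 6), 4), ((1, 10), 1), ((1, 14), 1), ((1, 16), 3), ((1, 22), 3), ((1, 24), 3), ((1, 25), 2), ((1, 44), 3), ((1, 64), 4), ((6, 16), 2), ((6, 36), 4), ((6, 55), 3), ((7, 68), 4), ((5, 6), 3), ((5, 63), 4), ((7, 16), 3), ((7, 40), 4), ((7, 41), 2), ((7, 51), 1), ((7, 52), 1), ((7, 59), 3), ((7, 60), 1), ((7, 78), 1), ((2, 0), 1), ((2, 3), 2), ((2, 17), 2), ((2, 21), 3), ((2, 23), 3), ((2, 30), 4), ((6, 11), 1), ((5, 20), 3), ((5, 51), 1), ((5, 62), 2), ((6, 27), 3), ((6, 32), 3), ((3, 7),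 2), ((3, 15), 2), ((7, 10), 1), ((3, 0), 1), ((3, 1), 2), ((3, 45), 3), ((3, 5), 1), ((3, 12), 3), ((3, 42), 4), ((3, 2), 3), ((3, 14), 3), ((3, 16), 3), ((3, 18), 3), ((3, 19), 4), ((3, 21), 2), ((3, 32), 1), ((4, 3), 2), ((4, 6), 2), ((4, 28), 4), ((4, 30), 1), ((7, 0), 4), ((7, 34), 2), ((4, 2), 4), ((4, 7), 3), ((4, 9), 4), ((4, 12), 1), ((7, 5), 4), ((7, 6), 2), ((7, 14), 2), ((6, 2), 4), ((6, 3), 1), ((6, 15), 4), ((6, 4), 3), ((6, 5), 4), ((6, 6), 3), ((7, 3), 2), ((7, 11), 3), ((7, 17), 3), ((7, 21), 2), ((5, 1), 4)],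
  [((0, 43), 1), ((0, 44), 4), ((0, 68), 1), ((0, 69), 4), ((0, 91), 1), ((0, 92), 4), ((1, 73), 4), ((4, 32), 3), ((4, 98), 2), ((6, 20), 4), ((3, 6), 1), ((1, 0), 3), ((1, 2), 1), ((1, 8), 1), ((1, 10), 2), ((1, 16), 1), ((1, 22), 1), ((1, 24), 2), ((1, 34), 1), ((1, 44), 1), ((1, 64), 3), ((6, 16), 4), ((6, 36), 4), ((6, 55), 4), ((5, 63), 3), ((7, 16), 1), ((7, 40), 2), ((7, 41), 1), ((7, 45), 1), ((7, 51), 2), ((7, 52), 1), ((7, 60), 1), ((7, 78), 3), ((2, 0), 2), ((2, 3), 2), ((2, 5), 1), ((2, 17), 4), ((2, 19), 3), ((2, 23), 3), ((2, 30), 1), ((5, 62), 4), ((6, 32), 3), ((7, 10), 1), ((3, 0), 4), ((3, 1), 4), ((3, 17), 4), ((3, 45), 4), ((3, 5), 3), ((3, 42), 3), ((3, 2), 4), ((3, 14), 1), ((3, 16), 3), ((3, 18), 4), ((3, 21), 2), ((3, 23), 4), ((3, 32), 4), ((4, 3), 3), ((4, 4), 2), ((4, 6), 4), ((4, 28),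 2), ((4, 30), 1), ((7, 0), 2), ((7, 34), 1), ((4, 0), 3), ((4, 2), 2), ((4, 7), 2), ((4, 9), 1), ((4, 12), 3), ((4, 14), 2), ((7, 5), 3), ((7, 14), 4), ((6, 3), 2), ((6, 15), 1), ((6, 4), 1), ((6, 5), 3), ((6, 6), 1), ((6, 37), 3), ((7, 3), 3), ((7, 11), 2), ((7, 17), 1), ((7, 21), 1), ((5, 1), 3)],
  [((0, 5), 1), ((0, 6), 4), ((0, 11), 1), ((0, 14), 4), ((0, 24), 1), ((0, 28), 4), ((0, 44), 1), ((0, 49), 4), ((0, 74), 4), ((0, 93), 4), ((2, 15), 2), ((4, 32), 4), ((4, 98), 4), ((6, 20), 1), ((3, 6), 1), ((5, 0), 1), ((1, 0), 2), ((1, 2), 2), ((1, 6), 2), ((1, 8), 2), ((1, 10), 4), ((1, 14), 2), ((1, 16), 4), ((1, 18), 2), ((1, 22), 3), ((1, 24), 2), ((1, 34), 1), ((1, 44), 4), ((1, 64), 1), ((6, 16), 2), ((6, 36), 1), ((7, 68), 2), ((5, 63), 2), ((7, 40), 2), ((7, 41), 2), ((7, 45), 3), ((7, 51), 4), ((7, 52),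 3), ((7, 59), 1), ((7, 60), 3), ((2, 0), 2), ((2, 3), 4), ((2, 5), 2), ((2, 7), 1), ((2, 17), 1), ((2, 19), 4), ((2, 21), 1), ((2, 23), 2), ((2, 30), 2), ((6, 11), 3), ((5, 20), 4), ((5, 51), 2), ((5, 62), 1), ((6, 27), 1), ((6, 32), 2), ((3, 7), 1), ((3, 15), 2), ((3, 1), 3), ((3, 3), 1), ((3, 17), 3), ((3, 5), 3), ((3, 12), 3), ((3, 42), 3), ((3, 2), 2), ((3, 14), 3), ((3, 16), 2), ((3, 18), 2), ((3, 19), 3), ((3, 21), 3), ((3, 23), 4), ((3, 32), 1), ((4, 3), 3), ((4, 4), 4), ((4, 6), 2), ((4, 10), 4), ((4, 28), 3), ((7, 0), 2), ((7, 34), 1), ((4, 0), 4), ((4, 1), 2), ((4, 2), 2), ((4, 7), 2), ((4, 9), 1), ((4, 12), 2), ((4, 14), 3), ((7, 6), 3), ((7, 14), 4), ((7, 38), 2), ((6, 3), 3), ((6, 15), 3), ((6, 6), 3), ((6, 37), 1), ((7, 3), 2), ((7, 11), 1), ((7, 17), 3), ((7, 21), 2), ((7, 23), 4), ((7, 28), 1)],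
  [((0, 28), 4), ((0, 29), 1), ((0, 49), 4), ((0, 74), 4), ((0, 94), 4), ((1, 73), 3), ((1, 99), 1), ((4, 32), 1), ((6, 56), 4), ((3, 6), 4), ((5, 0), 3), ((1, 0), 2), ((1, 8), 1), ((1, 16), 4), ((1, 22), 3), ((1, 24), 4), ((1, 25), 4), ((1, 34), 2), ((1, 44), 4), ((1, 64), 1), ((6, 16), 2), ((6, 36), 4), ((6, 55), 4), ((7, 68), 4), ((7, 16), 1), ((7, 40), 2), ((7, 41), 1), ((7, 45), 3), ((7, 51), 3), ((7, 52), 3), ((7, 59), 3), ((7, 60), 1), ((7, 78), 2), ((2, 0), 4), ((2, 3), 4), ((2, 5), 2), ((2, 7), 4), ((2, 17), 3), ((2, 19), 4), ((6, 27), 1), ((6, 32), 4), ((3, 7), 1), ((3, 15), 2), ((7, 10), 2), ((3, 0), 3), ((3, 45), 2), ((3, 5), 4), ((3, 12), 2), ((3, 14), 1), ((3, 18), 4), ((3, 19), 1), ((3, 23), 2), ((3, 34), 4), ((4, 4), 3), ((4, 6), 2), ((4, 10), 2), ((4, 28), 4), ((4, 30), 3), ((7, 0), 4), ((7, 34),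 1), ((4, 0), 4), ((4, 1), 1), ((4, 2), 2), ((4, 9), 4), ((4, 12), 1), ((4, 14), 3), ((7, 6), 2), ((7, 14), 2), ((7, 38), 1), ((6, 2), 1), ((6, 4), 3), ((6, 5), 1), ((6, 6), 2), ((6, 37), 4), ((7, 3), 4), ((7, 11), 2), ((7, 17), 4), ((7, 21), 3), ((7, 23), 1), ((7, 28), 1), ((5, 1), 2)],
  [((0, 7), 4), ((0, 8), 1), ((0, 15), 4), ((0, 17), 1), ((0, 30), 4), ((0, 33), 1), ((0, 51), 4), ((0, 56), 1), ((0, 76), 4), ((0, 83), 1), ((0, 95), 4), ((1, 99), 3), ((2, 15), 2), ((4, 98), 1), ((6, 20), 4), ((6, 56), 4), ((5, 0), 3), ((1, 2), 1), ((1, 8), 2), ((1, 14), 2), ((1, 16), 3), ((1, 18), 1), ((1, 22), 1), ((1, 24), 3), ((1, 25), 2), ((1, 34), 3), ((1, 64), 3), ((6, 36), 3), ((7, 68), 3), ((5, 6), 4), ((5, 63), 1), ((7, 40), 2), ((7, 41), 1), ((7, 45), 2), ((7, 51), 3), ((7, 52), 4), ((7, 59), 2), ((7, 60), 2), ((7, 78),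 3), ((2, 0), 1), ((2, 3), 2), ((2, 5), 3), ((2, 7), 1), ((2, 21), 4), ((2, 23), 3), ((2, 30), 3), ((6, 11), 4), ((5, 20), 2), ((5, 51), 1), ((6, 32), 1), ((3, 7), 3), ((3, 0), 4), ((3, 45), 4), ((3, 12), 1), ((3, 42), 1), ((3, 2), 2), ((3, 14), 4), ((3, 16), 4), ((3, 18), 1), ((3, 19), 1), ((3, 21), 4), ((3, 23), 1), ((4, 3), 2), ((4, 4), 3), ((4, 10), 2), ((4, 28), 1), ((4, 30), 4), ((7, 0), 2), ((4, 2), 2), ((4, 7), 2), ((4, 9), 4), ((4, 12), 1), ((4, 14), 3), ((7, 14), 3), ((7, 38), 3), ((6, 2), 3), ((6, 15), 3), ((6, 4), 2), ((6, 5), 4), ((6, 6), 1), ((6, 37), 1), ((7, 3), 4), ((7, 11), 3), ((7, 17), 4), ((7, 21), 4), ((7, 23), 2), ((7, 28), 3), ((5, 1), 4)],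
  [((0, 1), 4), ((0, 2), 1), ((0, 3), 4), ((0, 5), 1), ((0, 7), 4), ((0, 11), 1), ((0, 15), 4), ((0, 23), 1), ((0, 30), 4), ((0, 42), 1), ((0, 51), 4), ((0, 67), 1), ((0, 76), 4), ((0, 90), 1), ((0, 96), 4), ((1, 73), 2), ((1, 99), 4), ((2, 15), 2), ((4, 32), 1), ((6, 20), 2), ((5, 0), 2), ((1, 0), 1), ((1, 2), 1), ((1, 8), 4), ((1, 10), 2), ((1, 16), 4), ((1, 18), 1), ((1, 22), 3), ((1, 25), 1), ((1, 34), 4), ((1, 44), 1), ((1, 64), 4), ((6, 16), 1), ((6, 36), 3), ((5, 6), 4), ((5, 63), 4), ((7, 16), 2), ((7, 40), 4), ((7, 45), 2), ((7, 59), 3), ((7, 78), 1), ((2, 3), 1), ((2, 7), 2), ((2, 17), 3), ((2, 21), 4), ((2, 30), 1), ((6, 11), 4), ((5, 20), 4), ((5, 51), 3), ((5, 62), 1), ((6, 32), 4), ((3, 7), 4), ((3, 15), 3), ((7, 10), 1), ((3, 0), 4), ((3, 1), 1), ((3, 3), 3), ((3, 17), 4), ((3, 45), 1), ((3, 12),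 1), ((3, 42), 3), ((3, 14), 4), ((3, 16), 1), ((3, 18), 3), ((3, 19), 2), ((3, 21), 1), ((3, 23), 2), ((3, 32), 4), ((3, 34), 4), ((4, 3), 3), ((4, 4), 3), ((4, 6), 1), ((4, 10), 3), ((4, 28), 2), ((4, 30), 4), ((7, 0), 1), ((7, 34), 2), ((4, 0), 4), ((4, 2), 4), ((4, 7), 3), ((4, 9), 3), ((4, 12), 1), ((4, 14), 3), ((7, 5), 4), ((7, 6), 3), ((7, 14), 1), ((6, 2), 4), ((6, 3), 2), ((6, 15), 2), ((6, 4), 4), ((6, 5), 3), ((6, 6), 1), ((7, 3), 3), ((7, 17), 2), ((7, 21), 1), ((5, 1), 2)],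
  [((0, 3), 4), ((0, 4), 1), ((0, 7), 4), ((0, 10), 1), ((0, 16), 4), ((0, 21), 1), ((0, 31), 4), ((0, 40), 1), ((0, 52), 4), ((0, 64), 1), ((0, 78), 4), ((0, 97), 4), ((1, 99), 3), ((2, 15), 4), ((4, 32), 4), ((4, 98), 3), ((6, 56), 4), ((3, 6), 2), ((5, 0), 2), ((1, 6), 3), ((1, 8), 4), ((1, 10), 1), ((1, 16), 4), ((1, 18), 2), ((1, 24), 3), ((1, 25), 2), ((1, 34), 3), ((1, 64), 2), ((6, 16), 1), ((6, 36), 3), ((6, 55), 2), ((7, 68), 2), ((5, 6), 3), ((5, 63), 4), ((7, 16), 4), ((7, 41), 2), ((7, 51), 3), ((7, 59), 2), ((7, 78), 1), ((2, 5), 1), ((2, 7), 4), ((2, 17), 2), ((2, 19), 2), ((2, 21), 1), ((6, 11), 1), ((5, 51), 4), ((5, 62), 4), ((6, 27), 2), ((3, 7), 3), ((3, 15), 3), ((7, 10), 1), ((3, 0), 4), ((3, 1), 2), ((3, 3), 1), ((3, 45), 2), ((3, 42), 3), ((3, 2), 2), ((3, 14), 1), ((3, 19), 4), ((3, 21),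 3), ((3, 23), 1), ((3, 32), 2), ((3, 34), 2), ((4, 4), 3), ((4, 6), 4), ((4, 10), 1), ((4, 28), 2), ((4, 30), 3), ((7, 0), 4), ((7, 34), 2), ((4, 0), 3), ((4, 7), 2), ((4, 9), 2), ((4, 12), 3), ((7, 5), 2), ((7, 6), 3), ((7, 14), 4), ((7, 38), 4), ((6, 2), 2), ((6, 3), 3), ((6, 15), 2), ((6, 4), 4), ((6, 6), 4), ((6, 37), 2), ((7, 3), 1), ((7, 17), 4), ((7, 21), 2), ((7, 23), 2), ((7, 28), 2), ((5, 1), 3)],
  [((0, 1), 4), ((0, 2), 1), ((0, 3), 4), ((0, 5), 1), ((0, 7), 4), ((0, 11), 1), ((0, 16), 4), ((0, 24), 1), ((0, 31), 4), ((0, 53), 4), ((0, 80), 4), ((0, 98), 4), ((1, 73), 3), ((1, 99), 4), ((2, 15), 1), ((6, 20), 2), ((6, 56), 2), ((3, 6), 1), ((5, 0), 2), ((1, 0), 1), ((1, 2), 3), ((1, 6), 3), ((1, 14), 2), ((1, 16), 2), ((1, 24), 4), ((1, 25), 3), ((1, 44), 3), ((1, 64), 1), ((6, 16), 1), ((6, 36), 4),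 ((6, 55), 2), ((7, 68), 2), ((5, 6), 1), ((5, 63), 4), ((7, 16), 3), ((7, 40), 4), ((7, 41), 3), ((7, 45), 2), ((7, 51), 4), ((7, 52), 4), ((7, 59), 2), ((7, 60), 2), ((7, 78), 2), ((2, 0), 1), ((2, 3), 2), ((2, 5), 3), ((2, 7), 1), ((2, 17), 4), ((2, 19), 3), ((2, 21), 4), ((2, 23), 4), ((2, 30), 4), ((6, 11), 2), ((5, 20), 3), ((5, 51), 4), ((5, 62), 4), ((6, 27), 2), ((6, 32), 4), ((3, 7), 3), ((3, 0), 4), ((3, 1), 1), ((3, 3), 3), ((3, 17), 4), ((3, 45), 4), ((3, 5), 3), ((3, 12), 4), ((3, 42), 1), ((3, 19), 2), ((3, 23), 2), ((3, 32), 2), ((3, 34), 1), ((4, 3), 1), ((4, 4), 4), ((4, 6), 1), ((4, 10), 1), ((7, 34), 1), ((4, 0), 3), ((4, 1), 2), ((4, 7), 1), ((4, 9), 1), ((4, 14), 1), ((7, 5), 4), ((7, 14), 4), ((6, 2), 4), ((6, 3), 1), ((6, 4), 3), ((6, 5), 3), ((6, 6), 2), ((6, 37), 3), ((7, 3), 4), ((7, 17),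 1), ((7, 21), 1), ((7, 28), 2), ((5, 1), 2)],
  [((1, 99), 3)],
  [((0, 2), 1)],
  [((0, 4), 1)],
  [((0, 6), 1)],
  [((0, 8), 1)],
  [((0, 10), 1)],
  [((0, 12), 1)],
  [((0, 14), 1)],
  [((0, 16), 1)],
  [((0, 18), 1)],
  [((0, 20), 1)],
  [((0, 22), 1)],
  [((0, 24), 1)],
  [((0, 25), 1)],
  [((0, 27), 1)],
  [((0, 29), 1)],
  [((2, 15), 1)],
  [((0, 32), 1)],
  [((0, 34), 1)],
  [((0, 36), 1)],
  [((0, 37), 1)],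
  [((0, 38), 1)],
  [((0, 40), 1)],
  [((0, 1), 4), ((0, 4), 4), ((0, 10), 4), ((0, 22), 4), ((1, 73), 1), ((1, 99), 4), ((2, 15), 2), ((4, 32), 4), ((4, 98), 2), ((6, 56), 1), ((1, 0), 4), ((1, 2), 2), ((1, 6), 3), ((1, 8), 4), ((1, 14), 2), ((1, 16), 4), ((1, 22), 2), ((1, 24), 1), ((1, 25), 3), ((1, 34), 3), ((1, 44), 1), ((1, 64), 4), ((6, 16), 4), ((6, 36), 3), ((6, 55), 3), ((7, 68), 3), ((5, 6), 2), ((5, 63), 1), ((7, 16), 4), ((7, 40), 1), ((7, 45), 4), ((7, 52), 4), ((7, 59), 3), ((7, 60), 3), ((7, 78), 1), ((2, 0), 3), ((2, 3), 2), ((2, 5), 2), ((2, 7), 4), ((2, 17), 1), ((2, 23), 2), ((2, 30), 3), ((6, 11), 2), ((5, 20), 3), ((6, 27), 1), ((3, 7), 3), ((3, 15), 1), ((7, 10), 4), ((3, 0), 4), ((3, 1), 4), ((3, 3), 1), ((3, 17), 3), ((3, 45), 1), ((3, 5), 3), ((3, 12), 4), ((3, 42), 4), ((3, 2), 1), ((3,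 14), 1), ((3, 16), 2), ((3, 18), 4), ((3, 21), 4), ((3, 23), 3), ((3, 32), 1), ((3, 34), 1), ((4, 3), 2), ((4, 6), 1), ((4, 10), 2), ((7, 0), 3), ((7, 34), 3), ((4, 0), 2), ((4, 1), 1), ((4, 2), 2), ((4, 9), 3), ((4, 12), 3), ((4, 14), 3), ((7, 6), 4), ((6, 2), 2), ((6, 3), 2), ((6, 15), 3), ((6, 4), 1), ((6, 5), 1), ((6, 6), 1), ((6, 37), 1), ((7, 3), 3), ((7, 17), 1), ((7, 21), 3), ((7, 23), 3), ((7, 28), 3), ((5, 1), 4)],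
  [((0, 42), 1)],
  [((0, 44), 1)],
  [((0, 5), 4), ((0, 6), 1), ((0, 12), 4), ((0, 13), 1), ((0, 25), 4), ((1, 73), 2), ((2, 15), 2), ((4, 32), 3), ((6, 56), 1), ((3, 6), 1), ((5, 0), 2), ((1, 0), 4), ((1, 2), 1), ((1, 8), 1), ((1, 10), 1), ((1, 16), 3), ((1, 18), 1), ((1, 22), 3), ((1, 24), 1), ((1, 25), 1), ((1, 34), 4), ((1, 44), 4), ((1, 64), 4), ((6, 16), 1), ((6, 36), 4), ((6, 55), 2), ((7, 68), 2), ((5, 6), 1), ((5, 63), 1), ((7, 16), 3), ((7, 40), 1), ((7, 41), 1), ((7, 45), 3), ((7, 51), 1), ((7, 52), 3), ((7, 59), 3), ((7, 60), 3), ((2, 0), 1), ((2, 3), 4), ((2, 5), 3), ((2, 17), 2), ((2, 19), 2), ((2, 21), 1), ((2, 23), 1), ((2, 30), 1), ((5, 20), 2), ((5, 51), 3), ((5, 62), 4), ((6, 27), 1), ((6, 32), 4), ((3, 7), 3), ((3, 15), 3), ((7, 10), 3), ((3, 0), 4), ((3, 1), 2), ((3, 3), 4), ((3, 17), 2), ((3,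 45), 1), ((3, 5), 4), ((3, 12), 4), ((3, 42), 4), ((3, 2), 2), ((3, 14), 4), ((3, 18), 3), ((3, 21), 1), ((3, 23), 3), ((3, 32), 1), ((3, 34), 4), ((4, 3), 2), ((4, 4), 2), ((4, 10), 1), ((4, 28), 3), ((4, 30), 4), ((7, 0), 3), ((7, 34), 2), ((4, 0), 2), ((4, 1), 4), ((4, 2), 4), ((4, 7), 3), ((4, 9), 2), ((7, 5), 3), ((7, 6), 3), ((7, 14), 3), ((7, 38), 4), ((6, 2), 3), ((6, 3), 4), ((6, 15), 3), ((6, 4), 2), ((6, 5), 2), ((6, 37), 3), ((7, 11), 3), ((7, 17), 1), ((7, 21), 2), ((7, 23), 4), ((7, 28), 4), ((5, 1), 2)],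
  [((0, 47), 1)],
  [((0, 1), 1), ((0, 2), 4), ((0, 3), 1), ((0, 6), 4), ((0, 7), 1), ((0, 13), 4), ((0, 16), 1), ((0, 27), 4), ((0, 31), 1), ((1, 73), 2), ((1, 99), 1), ((2, 15), 3), ((4, 32), 4), ((4, 98), 1), ((6, 20), 3), ((6, 56), 4), ((3, 6), 4), ((5, 0), 1), ((1, 2), 2), ((1, 6), 3), ((1, 8), 4), ((1, 10), 1), ((1, 14), 4), ((1, 16), 4), ((1, 18), 4), ((1, 22), 2), ((1, 24), 4), ((6, 16), 1), ((6, 36), 2), ((6, 55), 3), ((7, 68), 3), ((5, 6), 4), ((5, 63), 4), ((7, 16), 2), ((7, 41), 2), ((7, 45), 3), ((7, 51), 2), ((7, 52), 1), ((7, 60), 2), ((2, 0), 2), ((2, 7), 1), ((2, 17), 1), ((2, 19), 2), ((2, 23), 1), ((2, 30), 3), ((5, 20), 1), ((5, 51), 2), ((5, 62), 3), ((6, 32), 3), ((3, 7), 2), ((3, 15), 3), ((7, 10), 3), ((3, 0), 3), ((3, 1), 4), ((3, 3), 4), ((3, 17), 4), ((3, 45), 3), ((3, 12), 2), ((3, 2),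 1), ((3, 14), 2), ((3, 16), 3), ((3, 18), 2), ((3, 19), 3), ((3, 21), 4), ((3, 23), 4), ((3, 34), 2), ((4, 3), 1), ((4, 4), 2), ((4, 6), 3), ((4, 10), 3), ((4, 28), 1), ((4, 30), 2), ((7, 0), 4), ((7, 34), 4), ((4, 7), 1), ((4, 9), 3), ((4, 12), 2), ((4, 14), 2), ((7, 14), 2), ((7, 38), 4), ((6, 2), 4), ((6, 3), 1), ((6, 15), 2), ((6, 4), 4), ((6, 5), 4), ((6, 6), 3), ((6, 37), 1), ((7, 3), 3), ((7, 11), 2), ((7, 17), 4), ((7, 21), 3), ((7, 23), 2), ((7, 28), 4)],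
  [((0, 49), 1)],
  [((0, 50), 1)],
  [((0, 51), 1)],
  [((0, 53), 1)],
  [((0, 55), 1)],
  [((0, 57), 1)],
  [((0, 1), 4), ((0, 2), 1), ((0, 3), 4), ((0, 6), 1), ((0, 8), 4), ((0, 14), 1), ((0, 17), 4), ((0, 28), 1), ((0, 34), 4), ((1, 99), 3), ((2, 15), 4), ((4, 32), 1), ((4, 98), 2), ((6, 20), 2), ((6, 56), 2), ((3, 6), 1), ((5, 0), 3), ((1, 0), 2), ((1, 2), 4), ((1, 6), 1), ((1, 8), 2), ((1, 14), 1), ((1, 16), 1), ((1, 18), 3), ((1, 22), 4), ((1, 24), 4), ((1, 25), 1), ((1, 34), 1), ((1, 44), 3), ((1, 64), 1), ((6, 16), 2), ((6, 36), 2), ((6, 55), 2), ((5, 6), 2), ((7, 16), 3), ((7, 40), 3), ((7, 41), 3), ((7, 51), 3), ((7, 52), 4), ((7, 59), 2), ((7, 60), 2), ((2, 0), 3), ((2, 3), 3), ((2, 5), 3), ((2, 17), 4), ((2, 19), 2), ((2, 21), 1), ((2, 23), 2), ((2, 30), 3), ((6, 11), 2), ((5, 20), 1), ((5, 62), 2),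 ((6, 27), 3), ((3, 0), 1), ((3, 1), 4), ((3, 3), 2), ((3, 45), 3), ((3, 5), 1), ((3, 42), 1), ((3, 2), 3), ((3, 14), 2), ((3, 16), 3), ((3, 18), 1), ((3, 19), 3), ((3, 23), 1), ((3, 32), 3), ((3, 34), 1), ((4, 3), 2), ((4, 4), 1), ((4, 6), 1), ((4, 28), 2), ((7, 0), 4), ((7, 34), 4), ((4, 0), 3), ((4, 1), 1), ((4, 2), 3), ((4, 7), 3), ((4, 9), 3), ((4, 12), 1), ((4, 14), 2), ((7, 14), 2), ((7, 38), 2), ((6, 3), 1), ((6, 15), 2), ((6, 4), 3), ((6, 5), 4), ((6, 6), 4), ((6, 37), 1), ((7, 3), 2), ((7, 11), 4), ((7, 17), 1), ((7, 21), 2), ((7, 23), 1), ((7, 28), 3), ((5, 1), 2)],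
  [((0, 59), 1)],
  [((0, 17), 1), ((0, 18), 4), ((0, 34), 1), ((0, 36), 4), ((0, 58), 1), ((1, 73), 3), ((1, 99), 3), ((2, 15), 3), ((4, 32), 1), ((4, 98), 4), ((6, 56), 4), ((3, 6), 2), ((1, 0), 4), ((1, 2), 2), ((1, 6), 2), ((1, 10), 1), ((1, 14), 3), ((1, 16), 1), ((1, 18), 3), ((1, 24), 2), ((1, 25), 1), ((1, 64), 4), ((6, 36), 4), ((6, 55), 3), ((7, 68), 2), ((5, 63), 3), ((7, 16), 3), ((7, 40), 4), ((7, 41), 2), ((7, 51), 3), ((7, 52), 1), ((7, 59), 4), ((7, 60), 1), ((7, 78), 1), ((2, 0), 3), ((2, 3), 2), ((2, 5), 1), ((2, 7), 1), ((2, 17), 3), ((2, 19), 2), ((2, 21), 2), ((6, 11), 2), ((5, 20), 1), ((5, 62), 1), ((6, 27), 3), ((6, 32), 3), ((3, 7), 1), ((3, 15), 4), ((7, 10), 1), ((3, 1), 2), ((3, 3), 3), ((3, 17), 3), ((3, 5), 1), ((3, 12), 3), ((3, 2), 1), ((3, 14), 2), ((3, 16), 2), ((3, 18), 4), ((3,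 19), 2), ((3, 21), 2), ((3, 23), 3), ((4, 3), 2), ((4, 6), 2), ((4, 28), 4), ((4, 30), 2), ((7, 34), 4), ((4, 0), 2), ((4, 1), 2), ((4, 2), 4), ((4, 9), 2), ((4, 12), 2), ((4, 14), 3), ((7, 5), 4), ((7, 6), 1), ((7, 14), 4), ((7, 38), 3), ((6, 2), 1), ((6, 3), 3), ((6, 4), 1), ((6, 5), 2), ((6, 6), 1), ((6, 37), 3), ((7, 3), 3), ((7, 11), 2), ((7, 21), 4), ((7, 23), 1), ((7, 28), 2)],
  [((0, 62), 1)],
  [((0, 3), 1), ((0, 4), 4), ((0, 8), 1), ((0, 9), 4), ((0, 18), 1), ((0, 20), 4), ((0, 36), 1), ((0, 38), 4), ((0, 60), 1), ((2, 15), 2), ((4, 98), 2), ((6, 20), 2), ((6, 56), 1), ((3, 6), 3), ((1, 0), 1), ((1, 2), 2), ((1, 14), 4), ((1, 16), 1), ((1, 18), 4), ((1, 22), 2), ((1, 24), 3), ((1, 25), 4), ((1, 44), 4), ((1, 64), 2), ((6, 16), 2), ((6, 36), 1), ((6, 55), 3), ((7, 68), 1), ((5, 6), 4), ((5, 63), 2), ((7,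 16), 1), ((7, 41), 2), ((7, 51), 3), ((7, 52), 2), ((7, 59), 2), ((7, 60), 1), ((2, 7), 4), ((2, 17), 4), ((2, 21), 3), ((2, 23), 1), ((2, 30), 2), ((6, 11), 1), ((5, 51), 2), ((6, 27), 3), ((6, 32), 2), ((3, 7), 2), ((3, 15), 4), ((7, 10), 3), ((3, 0), 2), ((3, 1), 3), ((3, 3), 4), ((3, 17), 4), ((3, 12), 1), ((3, 42), 3), ((3, 2), 3), ((3, 14), 2), ((3, 16), 2), ((3, 18), 3), ((3, 19), 4), ((3, 23), 4), ((3, 32), 4), ((3, 34), 2), ((4, 3), 1), ((4, 4), 3), ((4, 6), 3), ((4, 28), 2), ((7, 0), 4), ((7, 34), 4), ((4, 0), 1), ((4, 1), 2), ((4, 7), 4), ((4, 9), 4), ((4, 12), 2), ((4, 14), 1), ((7, 5), 1), ((7, 6), 2), ((7, 14), 2), ((7, 38), 1), ((6, 2), 1), ((6, 4), 1), ((6, 5), 1), ((6, 6), 1), ((6, 37), 1), ((7, 11), 2), ((7, 17), 3), ((7, 23), 1), ((5, 1), 2)],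
  [((0, 21), 4), ((0, 22), 1), ((0, 39), 4), ((0, 41), 1), ((1, 73), 3), ((1, 99), 1), ((2, 15), 3), ((4, 32), 2), ((6, 20), 1), ((6, 56), 1), ((3, 6), 2), ((1, 0), 3), ((1, 2), 3), ((1, 6), 1), ((1, 8), 1), ((1, 14), 4), ((1, 16), 4), ((1, 18), 2), ((1, 22), 4), ((1, 24), 4), ((1, 25), 4), ((1, 34), 1), ((1, 44), 2), ((1, 64), 1), ((6, 16), 2), ((6, 36), 3), ((6, 55), 1), ((7, 68), 1), ((5, 6), 2), ((5, 63), 1), ((7, 41), 2), ((7, 45), 3), ((7, 51), 4), ((7, 52), 1), ((7, 60), 1), ((7, 78), 2), ((2, 0), 4), ((2, 3), 2), ((2, 17), 1), ((2, 19), 4), ((2, 21), 2), ((2, 23), 3), ((2, 30), 1), ((6, 11), 1), ((5, 20), 1), ((5, 51), 1), ((5, 62), 3), ((6, 32), 4), ((3, 15), 2), ((7, 10), 2), ((3, 0), 1), ((3, 1), 2), ((3, 3), 2), ((3, 17), 1), ((3, 45), 2), ((3, 5), 1), ((3, 12), 3), ((3, 42), 2), ((3, 2), 2), ((3, 14),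 2), ((3, 16), 1), ((3, 18), 1), ((3, 19), 3), ((3, 21), 4), ((3, 23), 2), ((3, 34), 2), ((4, 4), 2), ((4, 6), 2), ((4, 10), 2), ((4, 28), 3), ((4, 30), 3), ((7, 0), 3), ((7, 34), 2), ((4, 0), 1), ((4, 1), 1), ((4, 2), 1), ((4, 7), 4), ((4, 9), 1), ((4, 12), 4), ((4, 14), 4), ((7, 5), 3), ((7, 6), 4), ((7, 14), 3), ((7, 38), 3), ((6, 2), 4), ((6, 3), 3), ((6, 15), 2), ((6, 4), 1), ((6, 5), 4), ((6, 37), 3), ((7, 11), 4), ((7, 17), 2), ((7, 21), 1), ((7, 23), 2), ((7, 28), 2), ((5, 1), 2)],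
  [((0, 64), 1)],
  [((0, 65), 1)],
  [((0, 67), 1)],
  [((0, 1), 1), ((0, 2), 4), ((0, 3), 1), ((0, 5), 4), ((0, 7), 1), ((0, 11), 4), ((0, 16), 1), ((0, 24), 4), ((0, 32), 1), ((0, 43), 4), ((0, 54), 1), ((1, 99), 4), ((2, 15), 4), ((4, 32), 3), ((4, 98), 3), ((6, 20), 2), ((6, 56), 3), ((3, 6), 4), ((5, 0), 4), ((1, 0), 4), ((1, 2), 3), ((1, 6), 3), ((1, 8), 3), ((1, 10), 2), ((1, 14), 4), ((1, 16), 3), ((1, 18), 1), ((1, 22), 3), ((1, 24), 1), ((1, 25), 3), ((1, 44), 2), ((1, 64), 1), ((6, 16), 4), ((6, 36), 3), ((6, 55), 4), ((7, 68), 1), ((5, 6), 3), ((7, 16), 3), ((7, 45), 2), ((7, 59), 2), ((7, 60), 1), ((7, 78), 4), ((2, 0), 1), ((2, 3), 2), ((2, 5), 2), ((2, 7), 4), ((2, 19), 4), ((2, 21), 4), ((2, 23), 4), ((2, 30), 1), ((6, 11), 1), ((5, 51), 4), ((5, 62), 2), ((6, 27), 4), ((6, 32), 4), ((3, 7), 2),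 ((3, 15), 2), ((7, 10), 2), ((3, 0), 4), ((3, 1), 3), ((3, 3), 3), ((3, 17), 2), ((3, 5), 1), ((3, 12), 4), ((3, 42), 3), ((3, 2), 2), ((3, 14), 3), ((3, 18), 1), ((3, 19), 1), ((3, 21), 4), ((3, 23), 3), ((3, 32), 2), ((3, 34), 1), ((4, 4), 1), ((4, 6), 4), ((4, 10), 2), ((4, 28), 4), ((4, 30), 4), ((7, 0), 1), ((7, 34), 3), ((4, 0), 1), ((4, 1), 3), ((4, 2), 2), ((4, 7), 3), ((7, 38), 1), ((6, 2), 4), ((6, 3), 1), ((6, 15), 1), ((6, 4), 3), ((6, 6), 2), ((6, 37), 4), ((7, 3), 2), ((7, 11), 4), ((7, 17), 3), ((7, 21), 4), ((7, 23), 4), ((7, 28), 3), ((5, 1), 2)],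
  [((0, 69), 1)],
  [((0, 11), 1), ((0, 12), 4), ((0, 25), 4), ((0, 45), 4), ((1, 99), 4), ((2, 15), 4), ((4, 32), 3), ((4, 98), 4), ((6, 56), 4), ((3, 6), 4), ((5, 0), 2), ((1, 0), 4), ((1, 2), 1), ((1, 6), 1), ((1, 8), 1), ((1, 14), 2), ((1, 18), 4), ((1, 22), 1), ((1, 24), 3), ((1, 25), 4), ((1, 34), 3), ((1, 64), 2), ((6, 16), 2), ((6, 36), 1), ((6, 55), 3), ((7, 68), 1), ((5, 6), 4), ((5, 63), 2), ((7, 16), 2), ((7, 45), 2), ((7, 51), 1), ((7, 59), 4), ((7, 60), 1), ((7, 78), 4), ((2, 0), 4), ((2, 3), 3), ((2, 5), 3), ((2, 7), 1), ((2, 17), 4), ((2, 19), 3), ((2, 21), 4), ((2, 23), 4), ((2, 30), 3), ((5, 20), 2), ((5, 62), 2), ((6, 27), 1), ((3, 7), 3), ((3, 15), 3), ((7, 10), 3), ((3, 0), 2), ((3, 1), 3), ((3, 3), 3), ((3, 17), 1), ((3, 45), 2), ((3, 5), 3), ((3, 12), 1), ((3, 42), 1), ((3, 2), 1), ((3, 14),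 1), ((3, 16), 3), ((3, 19), 4), ((3, 21), 3), ((3, 32), 4), ((3, 34), 3), ((4, 3), 3), ((4, 4), 2), ((4, 6), 3), ((4, 10), 4), ((4, 28), 4), ((4, 30), 2), ((7, 0), 1), ((7, 34), 3), ((4, 0), 2), ((4, 1), 3), ((4, 7), 1), ((4, 9), 4), ((4, 12), 2), ((4, 14), 3), ((7, 6), 3), ((7, 14), 3), ((7, 38), 3), ((6, 2), 1), ((6, 3), 3), ((6, 15), 2), ((6, 6), 4), ((6, 37), 4), ((7, 11), 3), ((7, 17), 3), ((7, 21), 3), ((5, 1), 3)],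
  [((0, 72), 1)],
  [((0, 1), 1), ((0, 2), 4), ((0, 4), 1), ((0, 6), 4), ((0, 10), 1), ((0, 13), 4), ((0, 21), 1), ((0, 26), 4), ((0, 47), 4), ((2, 15), 3), ((4, 32), 4), ((4, 98), 3), ((6, 20), 1), ((6, 56), 1), ((5, 0), 1), ((1, 0), 3), ((1, 6), 3), ((1, 8), 3), ((1, 10), 3), ((1, 14), 3), ((1, 16), 3), ((1, 18), 2), ((1, 22), 4), ((1, 34), 3), ((1, 64), 3), ((6, 16), 4), ((6, 36), 2), ((6, 55), 2), ((7, 68), 4), ((5, 6), 2), ((5, 63), 1), ((7, 45), 1), ((7, 51), 1), ((7, 52), 3), ((7, 78), 4), ((2, 3), 3), ((2, 5), 3), ((2, 7), 3), ((2, 17), 4), ((2, 19), 2), ((2, 23), 4), ((5, 20), 1), ((5, 51), 3), ((5, 62), 1), ((6, 27), 1), ((6, 32), 4), ((3, 7), 4), ((3, 0), 1), ((3, 1), 3), ((3, 3), 3), ((3, 45), 2), ((3, 5), 1), ((3, 12), 1), ((3, 14), 4), ((3, 16), 4), ((3, 19), 2), ((3, 23), 4), ((3, 32), 1), ((4, 3),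 4), ((4, 6), 2), ((4, 28), 1), ((7, 0), 4), ((7, 34), 4), ((4, 0), 4), ((4, 1), 4), ((4, 7), 3), ((4, 9), 2), ((4, 12), 2), ((4, 14), 1), ((7, 5), 1), ((7, 6), 3), ((7, 14), 2), ((7, 38), 3), ((6, 15), 4), ((6, 4), 3), ((6, 5), 3), ((6, 6), 4), ((6, 37), 1), ((7, 3), 3), ((7, 11), 2), ((7, 17), 3), ((7, 21), 1), ((7, 23), 4), ((7, 28), 2), ((5, 1), 1)],
  [((0, 73), 1)],
  [((0, 5), 1), ((0, 6), 4), ((0, 11), 1), ((0, 14), 4), ((0, 24), 1), ((0, 28), 4), ((0, 43), 1), ((0, 49), 4), ((0, 68), 1), ((1, 99), 2), ((2, 15), 3), ((4, 32), 4), ((4, 98), 2), ((6, 20), 2), ((6, 56), 2), ((3, 6), 2), ((1, 0), 4), ((1, 2), 1), ((1, 6), 3), ((1, 8), 1), ((1, 10), 1), ((1, 16), 2), ((1, 18), 2), ((1, 22), 4), ((1, 24), 1), ((1, 25), 4), ((1, 34), 1), ((1, 44), 1), ((1, 64), 4), ((6, 16), 3), ((6, 36), 4), ((6, 55), 4), ((7,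 68), 3), ((5, 6), 2), ((5, 63), 3), ((7, 40), 1), ((7, 41), 4), ((7, 51), 3), ((7, 52), 4), ((7, 59), 4), ((7, 60), 2), ((7, 78), 4), ((2, 0), 1), ((2, 5), 3), ((2, 7), 2), ((2, 17), 4), ((2, 19), 2), ((2, 21), 4), ((2, 23), 1), ((2, 30), 3), ((6, 11), 3), ((5, 20), 2), ((5, 51), 4), ((5, 62), 2), ((6, 27), 3), ((6, 32), 3), ((3, 7), 3), ((3, 3), 3), ((3, 45), 1), ((3, 5), 3), ((3, 12), 3), ((3, 42), 3), ((3, 2), 3), ((3, 14), 1), ((3, 16), 3), ((3, 18), 1), ((3, 19), 3), ((3, 21), 3), ((3, 32), 1), ((3, 34), 2), ((4, 3), 2), ((4, 4), 3), ((4, 6), 2), ((4, 10), 3), ((4, 28), 2), ((4, 30), 1), ((7, 0), 4), ((7, 34), 3), ((4, 2), 1), ((4, 9), 1), ((4, 12), 4), ((7, 5), 1), ((7, 6), 2), ((7, 38), 4), ((6, 2), 2), ((6, 15), 1), ((6, 4), 3), ((6, 5), 3), ((6, 37), 2), ((7, 3), 2), ((7, 11), 1), ((7, 21), 3), ((5, 1),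 2)],
  [((0, 75), 1)],
  [((0, 77), 1)],
  [((0, 78), 1)],
  [((0, 80), 1)],
  [((0, 31), 1), ((0, 32), 4), ((0, 52), 1), ((0, 54), 4), ((1, 73), 1), ((4, 32), 1), ((4, 98), 2), ((6, 56), 4), ((3, 6), 3), ((1, 0), 2), ((1, 2), 4), ((1, 6), 4), ((1, 10), 4), ((1, 16), 3), ((1, 18), 1), ((1, 24), 3), ((1, 25), 1), ((1, 44), 1), ((1, 64), 3), ((6, 16), 1), ((6, 36), 2), ((6, 55), 2), ((5, 6), 4), ((5, 63), 4), ((7, 16), 1), ((7, 40), 4), ((7, 41), 2), ((7, 45), 2), ((7, 51), 1), ((7, 52), 4), ((7, 59), 1), ((7, 60), 1), ((7, 78), 1), ((2, 0), 4), ((2, 3), 3), ((2, 5), 4), ((2, 7), 2), ((2, 17), 3), ((2, 19), 3), ((2, 21), 1), ((2, 23), 1), ((2, 30), 1), ((6, 11), 2), ((5, 20), 3), ((5, 51), 4), ((6, 27), 2), ((6, 32), 3), ((3, 7), 2), ((3, 15), 4), ((7, 10), 1), ((3, 0), 3), ((3, 1), 2), ((3, 17), 2), ((3, 45), 2),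 ((3, 5), 4), ((3, 12), 1), ((3, 42), 2), ((3, 2), 4), ((3, 14), 2), ((3, 16), 4), ((3, 18), 2), ((3, 19), 2), ((3, 21), 4), ((3, 23), 2), ((4, 3), 3), ((4, 6), 4), ((4, 10), 4), ((4, 28), 2), ((4, 30), 4), ((7, 0), 2), ((7, 34), 3), ((4, 0), 1), ((4, 7), 4), ((4, 9), 3), ((4, 14), 2), ((7, 5), 4), ((7, 14), 2), ((7, 38), 3), ((6, 3), 3), ((6, 4), 3), ((6, 5), 1), ((6, 6), 3), ((6, 37), 4), ((7, 3), 1), ((7, 17), 4), ((7, 21), 3)],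
  [((0, 82), 1)],
  [((0, 83), 1)],
  [((0, 1), 4), ((0, 2), 1), ((0, 3), 4), ((0, 5), 1), ((0, 8), 4), ((0, 11), 1), ((0, 17), 4), ((0, 23), 1), ((0, 33), 4), ((0, 42), 1), ((0, 57), 4), ((0, 66), 1), ((1, 73), 4), ((1, 99), 1), ((2, 15), 1), ((4, 32), 2), ((6, 20), 1), ((3, 6), 1), ((5, 0), 2), ((1, 0), 1), ((1, 2), 1), ((1, 6), 4), ((1, 14), 1), ((1, 16), 4), ((1, 18), 2), ((1, 22), 3), ((1, 24), 3), ((1, 25), 3), ((1, 34), 1), ((1, 64), 2), ((6, 36), 3), ((6, 55), 3), ((5, 6), 1), ((5, 63), 3), ((7, 16), 4), ((7, 40), 1), ((7, 45), 4), ((7, 51), 2), ((7, 52), 1), ((7, 60), 2), ((2, 0), 3), ((2, 5), 3), ((2, 7), 3), ((2, 17), 2), ((2, 19), 4), ((2, 21), 4), ((2, 30), 1), ((6, 11), 2), ((5, 51), 1), ((5, 62), 2), ((6, 27), 4), ((6, 32), 2), ((3, 7), 2), ((3, 15), 2), ((7, 10), 1), ((3, 0), 1), ((3, 1), 2), ((3,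 3), 4), ((3, 17), 1), ((3, 45), 3), ((3, 5), 1), ((3, 42), 1), ((3, 2), 2), ((3, 14), 1), ((3, 18), 1), ((3, 21), 3), ((3, 23), 2), ((3, 34), 3), ((4, 3), 3), ((4, 4), 2), ((4, 6), 1), ((4, 10), 3), ((4, 28), 3), ((4, 30), 4), ((7, 34), 3), ((4, 0), 3), ((4, 1), 1), ((4, 2), 2), ((4, 7), 3), ((4, 9), 3), ((4, 12), 3), ((4, 14), 2), ((7, 5), 2), ((7, 6), 3), ((7, 14), 4), ((6, 2), 1), ((6, 4), 3), ((6, 5), 2), ((6, 6), 4), ((7, 11), 3), ((7, 17), 1), ((7, 21), 2), ((7, 23), 2), ((5, 1), 1)],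
  [((0, 85), 1)],
  [((0, 86), 1)],
  [((0, 8), 4), ((0, 18), 4), ((0, 36), 4), ((0, 60), 4), ((1, 73), 2), ((1, 99), 2), ((4, 32), 3), ((4, 98), 2), ((6, 20), 4), ((6, 56), 2), ((3, 6), 3), ((5, 0), 3), ((1, 0), 1), ((1, 2), 1), ((1, 6), 3), ((1, 8), 1), ((1, 10), 1), ((1, 14), 3), ((1, 16), 4), ((1, 18), 4), ((1, 22), 4), ((1, 24), 3), ((1, 25), 3), ((1, 34), 1), ((1, 44), 3), ((1, 64), 2), ((6, 16), 1), ((6, 36), 2), ((6, 55), 3), ((7, 68), 3), ((5, 63), 3), ((7, 16), 3), ((7, 40), 1), ((7, 41), 4), ((7, 45), 3), ((7, 51), 3), ((7, 52), 3), ((7, 59), 1), ((7, 60), 4), ((7, 78), 3), ((2, 0), 1), ((2, 3), 3), ((2, 5), 1), ((2, 7), 1), ((2, 17), 2), ((2, 19), 1), ((2, 21), 4), ((2, 30), 1), ((6, 11), 3), ((5, 20), 3), ((5, 51), 4), ((5, 62), 2), ((6, 27), 1), ((3, 7), 2), ((3, 15), 2), ((3, 45), 3), ((3, 5), 1),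 ((3, 42), 4), ((3, 2), 2), ((3, 16), 2), ((3, 18), 4), ((3, 19), 2), ((3, 23), 4), ((3, 32), 1), ((4, 3), 4), ((4, 4), 2), ((4, 10), 1), ((4, 28), 1), ((4, 30), 3), ((7, 0), 2), ((7, 34), 4), ((4, 0), 2), ((4, 1), 4), ((4, 2), 2), ((4, 9), 2), ((4, 12), 1), ((4, 14), 3), ((7, 5), 4), ((7, 6), 3), ((7, 14), 2), ((7, 38), 2), ((6, 2), 3), ((6, 3), 1), ((6, 15), 2), ((6, 4), 2), ((6, 5), 2), ((6, 6), 1), ((6, 37), 3), ((7, 3), 2), ((7, 11), 2), ((7, 21), 2), ((7, 28), 4)],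
  [((0, 87), 1)],
  [((0, 1), 4), ((0, 2), 1), ((0, 4), 4), ((0, 5), 1), ((0, 9), 4), ((0, 11), 1), ((0, 19), 4), ((0, 24), 1), ((0, 37), 4), ((0, 43), 1), ((0, 62), 4), ((1, 73), 2), ((2, 15), 4), ((4, 32), 3), ((4, 98), 2), ((6, 56), 4), ((3, 6), 2), ((5, 0), 1), ((1, 0), 3), ((1, 2), 2), ((1, 6), 2), ((1, 8), 1), ((1, 10), 1), ((1, 14), 4), ((1, 16), 1), ((1, 18), 1), ((1, 22), 4), ((1, 24), 1), ((1, 25), 3), ((1, 34), 3), ((1, 64), 2), ((6, 16), 4), ((6, 36), 3), ((6, 55), 3), ((7, 68), 3), ((5, 6), 1), ((7, 16), 2), ((7, 40), 3), ((7, 41), 3), ((7, 45), 4), ((7, 51), 1), ((7, 52), 3), ((7, 59), 1), ((7, 60), 1), ((7, 78), 3), ((2, 0), 2), ((2, 5), 3), ((2, 7), 1), ((2, 17), 4), ((2, 21), 3), ((2, 23), 4), ((2, 30), 1), ((6, 11), 2), ((5, 20), 4), ((5, 51), 2), ((5, 62), 3), ((6, 27), 2), ((3, 7), 2), ((3, 15),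 4), ((3, 1), 2), ((3, 3), 1), ((3, 17), 2), ((3, 45), 3), ((3, 5), 3), ((3, 12), 1), ((3, 42), 2), ((3, 2), 4), ((3, 18), 3), ((3, 19), 4), ((3, 21), 3), ((3, 23), 3), ((3, 32), 1), ((4, 3), 4), ((4, 4), 4), ((4, 10), 4), ((4, 28), 1), ((4, 30), 2), ((7, 0), 4), ((7, 34), 2), ((4, 0), 4), ((4, 1), 2), ((4, 2), 4), ((4, 12), 4), ((4, 14), 1), ((7, 6), 3), ((6, 3), 1), ((6, 15), 2), ((6, 4), 2), ((6, 5), 4), ((6, 6), 4), ((6, 37), 4), ((7, 3), 2), ((7, 17), 1), ((7, 23), 4), ((5, 1), 4)],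
  [((0, 1), 4), ((0, 2), 1), ((0, 4), 4), ((0, 6), 1), ((0, 10), 4), ((0, 14), 1), ((0, 21), 4), ((0, 28), 1), ((0, 39), 4), ((0, 49), 1), ((0, 63), 4), ((0, 74), 1), ((1, 73), 1), ((1, 99), 4), ((2, 15), 3), ((4, 32), 3), ((4, 98), 4), ((6, 20), 3), ((6, 56), 4), ((3, 6), 4), ((5, 0), 4), ((1, 0), 1), ((1, 2), 2), ((1, 6), 1), ((1, 8), 4), ((1, 10), 2), ((1, 14), 4), ((1, 22), 2), ((1, 24), 1), ((1, 44), 1), ((1, 64), 3), ((6, 16), 3), ((6, 36), 3), ((6, 55), 2), ((7, 68), 1), ((5, 6), 4), ((5, 63), 2), ((7, 16), 4), ((7, 40), 4), ((7, 41), 3), ((7, 45), 2), ((7, 51), 2), ((7, 78), 2), ((2, 0), 3), ((2, 3), 3), ((2, 5), 2), ((2, 7), 2), ((2, 17), 1), ((2, 19), 1), ((2, 21), 1), ((2, 23), 4), ((2, 30), 4), ((6, 11), 4), ((5, 20), 3), ((5, 51), 4), ((5, 62), 2), ((6, 27), 2), ((6, 32), 3), ((3, 7), 2), ((7, 10),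 3), ((3, 0), 3), ((3, 1), 2), ((3, 3), 4), ((3, 17), 1), ((3, 45), 3), ((3, 5), 1), ((3, 12), 3), ((3, 42), 3), ((3, 2), 1), ((3, 14), 1), ((3, 16), 2), ((3, 18), 1), ((3, 19), 1), ((3, 21), 1), ((3, 23), 4), ((3, 32), 2), ((3, 34), 1), ((4, 3), 3), ((4, 4), 4), ((4, 6), 3), ((4, 30), 3), ((7, 0), 2), ((7, 34), 1), ((4, 0), 1), ((4, 1), 3), ((4, 2), 3), ((4, 7), 1), ((4, 9), 4), ((4, 12), 2), ((4, 14), 1), ((7, 5), 2), ((7, 6), 1), ((7, 14), 2), ((7, 38), 1), ((6, 2), 4), ((6, 3), 2), ((6, 15), 3), ((6, 4), 4), ((6, 6), 1), ((6, 37), 2), ((7, 3), 2), ((7, 11), 2), ((7, 17), 1), ((7, 21), 2), ((7, 23), 1), ((7, 28), 2), ((5, 1), 1)],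
  [((0, 3), 1), ((0, 4), 4), ((0, 8), 1), ((0, 10), 4), ((0, 18), 1), ((0, 21), 4), ((0, 35), 1), ((0, 40), 4), ((0, 64), 4), ((1, 73), 1), ((2, 15), 1), ((4, 32), 1), ((4, 98), 1), ((6, 20), 1), ((6, 56), 1), ((3, 6), 4), ((1, 2), 1), ((1, 6), 1), ((1, 14), 2), ((1, 16), 3), ((1, 18), 1), ((1, 22), 1), ((1, 24), 3), ((1, 25), 3), ((1, 34), 1), ((6, 16), 1), ((6, 36), 1), ((6, 55), 1), ((5, 6), 4), ((7, 40), 1), ((7, 45), 3), ((7, 51), 2), ((7, 52), 1), ((7, 60), 1), ((7, 78), 1), ((2, 0), 1), ((2, 3), 1), ((2, 7), 1), ((2, 19), 1), ((2, 21), 3), ((2, 23), 3), ((2, 30), 2), ((6, 11), 2), ((5, 20), 1), ((5, 51), 4), ((5, 62), 4), ((6, 27), 3), ((6, 32), 4), ((3, 7), 1), ((3, 15), 2), ((7, 10), 2), ((3, 1), 4), ((3, 3), 4), ((3, 17), 1), ((3, 45), 1), ((3, 5), 1), ((3, 12), 3), ((3, 42), 4), ((3, 2), 3), ((3, 18),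 2), ((3, 21), 4), ((3, 23), 1), ((3, 32), 2), ((3, 34), 3), ((4, 6), 3), ((4, 28), 3), ((4, 30), 1), ((7, 34), 3), ((4, 0), 3), ((4, 1), 1), ((4, 2), 3), ((4, 12), 1), ((4, 14), 3), ((7, 5), 1), ((7, 6), 4), ((7, 38), 3), ((6, 15), 1), ((6, 4), 3), ((6, 5), 1), ((6, 6), 4), ((6, 37), 2), ((7, 11), 3), ((7, 17), 3), ((7, 23), 3), ((7, 28), 4), ((5, 1), 2)],
  [((0, 3), 1), ((0, 4), 4), ((0, 7), 1), ((0, 10), 4), ((0, 15), 1), ((0, 22), 4), ((0, 30), 1), ((0, 41), 4), ((0, 65), 4), ((1, 73), 1), ((1, 99), 2), ((2, 15), 1), ((4, 32), 2), ((4, 98), 4), ((6, 20), 4), ((6, 56), 4), ((5, 0), 4), ((1, 0), 3), ((1, 2), 3), ((1, 6), 4), ((1, 8), 1), ((1, 10), 1), ((1, 14), 3), ((1, 22), 1), ((1, 24), 1), ((1, 25), 3), ((1, 34), 2), ((1, 64), 1), ((6, 16), 3), ((6, 36), 2), ((7, 68), 3), ((5, 6), 1), ((5, 63), 3), ((7, 16),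 2), ((7, 40), 3), ((7, 45), 4), ((7, 51), 2), ((7, 52), 3), ((7, 59), 2), ((7, 60), 3), ((7, 78), 4), ((2, 3), 2), ((2, 5), 3), ((2, 7), 3), ((2, 17), 2), ((2, 19), 1), ((2, 21), 3), ((2, 23), 4), ((2, 30), 1), ((5, 20), 1), ((5, 51), 1), ((5, 62), 2), ((6, 27), 4), ((6, 32), 3), ((3, 7), 2), ((7, 10), 1), ((3, 0), 1), ((3, 1), 4), ((3, 3), 4), ((3, 17), 4), ((3, 45), 3), ((3, 5), 4), ((3, 12), 3), ((3, 42), 3), ((3, 2), 3), ((3, 14), 4), ((3, 16), 1), ((3, 19), 1), ((3, 21), 1), ((3, 23), 4), ((3, 32), 4), ((3, 34), 4), ((4, 3), 1), ((4, 4), 1), ((4, 6), 2), ((4, 10), 2), ((4, 28), 3), ((4, 30), 2), ((7, 0), 2), ((4, 0), 3), ((4, 2), 2), ((4, 7), 2), ((4, 9), 4), ((4, 12), 4), ((4, 14), 3), ((7, 5), 1), ((7, 6), 1), ((7, 14), 4), ((7, 38), 3), ((6, 3), 3), ((6, 15), 2), ((6, 4), 1), ((6, 5), 2), ((6, 6), 3), ((6,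 37), 4), ((7, 3), 4), ((7, 11), 3), ((7, 17), 3), ((7, 21), 4), ((7, 23), 2), ((7, 28), 1), ((5, 1), 3)],
  [((0, 1), 1), ((0, 2), 4), ((0, 3), 1), ((0, 5), 4), ((0, 8), 1), ((0, 11), 4), ((0, 17), 1), ((0, 23), 4), ((0, 42), 4), ((0, 66), 4), ((1, 99), 4), ((2, 15), 2), ((4, 32), 4), ((4, 98), 3), ((6, 56), 3), ((3, 6), 1), ((5, 0), 2), ((1, 0), 3), ((1, 2), 4), ((1, 6), 3), ((1, 8), 1), ((1, 10), 1), ((1, 18), 3), ((1, 22), 1), ((1, 24), 2), ((1, 25), 2), ((1, 34), 2), ((1, 44), 1), ((1, 64), 1), ((6, 16), 2), ((6, 55), 1), ((7, 68), 1), ((5, 63), 3), ((7, 16), 1), ((7, 45), 1), ((7, 51), 2), ((7, 52), 4), ((7, 60), 1), ((7, 78), 3), ((2, 0), 4), ((2, 3), 1), ((2, 5), 2), ((2, 7), 2), ((2, 17), 1), ((2, 19), 3), ((2, 21), 2), ((2, 23), 3), ((2, 30), 2), ((6, 11), 1), ((5, 20), 2), ((5, 51), 1), ((6, 32), 4), ((3,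 7), 2), ((3, 15), 3), ((7, 10), 1), ((3, 3), 4), ((3, 17), 1), ((3, 45), 2), ((3, 5), 4), ((3, 12), 3), ((3, 42), 3), ((3, 2), 4), ((3, 14), 2), ((3, 16), 4), ((3, 19), 2), ((3, 21), 4), ((3, 23), 1), ((3, 32), 3), ((3, 34), 2), ((4, 3), 2), ((4, 4), 3), ((4, 6), 1), ((4, 10), 2), ((4, 28), 2), ((4, 30), 3), ((7, 0), 1), ((7, 34), 2), ((4, 0), 4), ((4, 1), 1), ((4, 2), 1), ((4, 7), 4), ((4, 9), 1), ((4, 12), 1), ((4, 14), 3), ((7, 5), 4), ((7, 6), 3), ((7, 14), 3), ((7, 38), 2), ((6, 2), 4), ((6, 3), 1), ((6, 15), 4), ((6, 4), 4), ((6, 5), 4), ((6, 6), 2), ((7, 3), 4), ((7, 11), 1), ((7, 17), 3), ((7, 21), 3), ((7, 23), 2), ((7, 28), 3), ((5, 1), 2)],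
  [((0, 90), 1)],
  [((0, 91), 1)],
  [((0, 1), 1), ((0, 2), 4), ((0, 3), 1), ((0, 5), 4), ((0, 7), 1), ((0, 11), 4), ((0, 24), 4), ((0, 44), 4), ((0, 69), 4), ((1, 73), 2), ((2, 15), 1), ((4, 32), 1), ((6, 20), 1), ((3, 6), 1), ((5, 0), 4), ((1, 0), 3), ((1, 6), 4), ((1, 8), 1), ((1, 10), 4), ((1, 14), 1), ((1, 18), 2), ((1, 24), 1), ((1, 34), 3), ((1, 44), 3), ((1, 64), 3), ((6, 16), 3), ((6, 36), 4), ((6, 55), 2), ((7, 68), 1), ((5, 6), 2), ((5, 63), 1), ((7, 16), 4), ((7, 41), 3), ((7, 45), 4), ((7, 51), 4), ((7, 52), 1), ((7, 59), 1), ((7, 60), 4), ((7, 78), 1), ((2, 0), 3), ((2, 5), 1), ((2, 7), 3), ((2, 17), 1), ((2, 19), 4), ((2, 30), 2), ((5, 20), 3), ((5, 62), 4), ((6, 27), 3), ((6, 32), 2), ((7, 10), 4), ((3, 0), 1), ((3, 1), 2), ((3, 3), 3), ((3, 17), 3), ((3, 45), 2), ((3, 5), 2), ((3, 42), 2), ((3,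 2), 2), ((3, 14), 2), ((3, 16), 3), ((3, 18), 1), ((3, 19), 1), ((3, 21), 4), ((3, 23), 4), ((3, 32), 2), ((4, 3), 3), ((4, 6), 2), ((4, 10), 3), ((4, 28), 4), ((4, 30), 3), ((7, 0), 3), ((4, 1), 4), ((4, 2), 4), ((4, 9), 4), ((4, 12), 3), ((4, 14), 4), ((7, 6), 1), ((7, 14), 2), ((7, 38), 4), ((6, 15), 3), ((6, 4), 4), ((6, 5), 3), ((6, 6), 1), ((6, 37), 4), ((7, 3), 2), ((7, 11), 1), ((7, 17), 1), ((7, 23), 4), ((5, 1), 1)],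
  [((0, 5), 4), ((0, 6), 1), ((0, 12), 4), ((0, 13), 1), ((0, 25), 4), ((0, 26), 1), ((0, 45), 4), ((0, 46), 1), ((0, 70), 4), ((0, 71), 1), ((1, 73), 3), ((1, 99), 4), ((2, 15), 2), ((4, 32), 3), ((6, 20), 4), ((6, 56), 2), ((5, 0), 4), ((1, 0), 3), ((1, 2), 3), ((1, 6), 2), ((1, 10), 2), ((1, 14), 3), ((1, 24), 4), ((1, 25), 4), ((1, 34), 4), ((1, 44), 1), ((1, 64), 4), ((6, 16), 1), ((6, 55), 3), ((7, 68), 3), ((5, 6), 3), ((5, 63), 3), ((7, 16), 3), ((7, 40), 3), ((7, 51), 1), ((7, 52), 2), ((7, 59), 1), ((7, 60), 4), ((7, 78), 1), ((2, 0), 4), ((2, 3), 4), ((2, 5), 1), ((2, 7), 3), ((2, 17), 3), ((2, 21), 4), ((2, 30), 1), ((6, 11), 1), ((5, 51), 3), ((5, 62), 4), ((6, 27), 1), ((3, 7), 4), ((3, 15), 3), ((7, 10), 4), ((3, 0), 1), ((3, 3), 4), ((3, 45), 4), ((3, 5), 4), ((3, 42), 1), ((3, 2), 2), ((3, 14),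 4), ((3, 16), 1), ((3, 18), 3), ((3, 32), 3), ((3, 34), 1), ((4, 3), 2), ((4, 4), 1), ((4, 6), 3), ((4, 10), 3), ((4, 28), 4), ((7, 0), 1), ((7, 34), 1), ((4, 7), 1), ((4, 9), 2), ((4, 12), 3), ((4, 14), 3), ((7, 5), 2), ((7, 14), 3), ((7, 38), 3), ((6, 2), 1), ((6, 3), 1), ((6, 15), 1), ((6, 5), 4), ((6, 6), 2), ((6, 37), 4), ((7, 3), 3), ((7, 11), 3), ((7, 17), 4), ((7, 21), 4), ((7, 23), 3), ((7, 28), 1), ((5, 1), 3)],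
  [((0, 1), 1), ((0, 2), 4), ((0, 4), 1), ((0, 6), 4), ((0, 10), 1), ((0, 13), 4), ((0, 21), 1), ((0, 26), 4), ((0, 39), 1), ((0, 46), 4), ((0, 63), 1), ((0, 71), 4), ((1, 73), 1), ((1, 99), 4), ((2, 15), 1), ((4, 32), 1), ((4, 98), 4), ((6, 20), 4), ((6, 56), 1), ((3, 6), 2), ((5, 0), 2), ((1, 0), 4), ((1, 2), 4), ((1, 6), 3), ((1, 10), 1), ((1, 14), 2), ((1, 16), 1), ((1, 18), 1), ((1, 22), 3), ((1, 24), 3), ((1, 64), 3), ((6, 16), 4), ((6, 36), 3), ((7, 68), 4), ((5, 6), 2), ((5, 63), 1), ((7, 16), 2), ((7, 40), 3), ((7, 41), 1), ((7, 45), 4), ((7, 51), 4), ((7, 52), 1), ((7, 60), 2), ((7, 78), 1), ((2, 0), 2), ((2, 3), 1), ((2, 7), 3), ((2, 17), 1), ((2, 19), 4), ((2, 23), 3), ((2, 30), 1), ((5, 51), 2), ((5, 62), 2), ((6, 27), 2), ((6, 32), 4), ((3, 7), 1), ((3, 15), 1), ((3, 0), 4), ((3, 1), 3), ((3, 3), 4),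 ((3, 45), 2), ((3, 5), 1), ((3, 12), 2), ((3, 2), 4), ((3, 14), 3), ((3, 16), 4), ((3, 18), 4), ((3, 21), 3), ((3, 23), 3), ((3, 32), 1), ((3, 34), 3), ((4, 3), 4), ((4, 4), 2), ((4, 6), 1), ((4, 28), 3), ((4, 30), 1), ((7, 0), 2), ((7, 34), 4), ((4, 1), 1), ((4, 2), 4), ((4, 9), 2), ((4, 14), 2), ((7, 5), 4), ((7, 6), 1), ((7, 14), 2), ((7, 38), 3), ((6, 2), 1), ((6, 15), 4), ((6, 4), 1), ((6, 5), 4), ((6, 6), 1), ((6, 37), 1), ((7, 3), 1), ((7, 11), 3), ((7, 17), 2), ((7, 21), 1), ((5, 1), 1)],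
  [((0, 1), 1), ((0, 2), 4), ((0, 3), 1), ((0, 6), 4), ((0, 7), 1), ((0, 13), 4), ((0, 16), 1), ((0, 26), 4), ((0, 31), 1), ((0, 46), 4), ((0, 53), 1), ((0, 72), 4), ((0, 79), 1), ((1, 73), 1), ((2, 15), 1), ((4, 32), 1), ((4, 98), 4), ((6, 20), 4), ((5, 0), 1), ((1, 0), 3), ((1, 6), 2), ((1, 8), 1), ((1, 10), 1), ((1, 14), 1), ((1, 16), 4), ((1, 18), 1), ((1, 24), 3), ((1, 25), 3), ((1, 44), 4), ((6, 16), 1), ((6, 36), 2), ((6, 55), 2), ((7, 68), 1), ((7, 16), 1), ((7, 40), 1), ((7, 41), 4), ((7, 45), 4), ((7, 51), 1), ((7, 52), 3), ((7, 59), 2), ((7, 78), 3), ((2, 0), 1), ((2, 3), 2), ((2, 5), 3), ((2, 17), 3), ((2, 19), 2), ((2, 21), 1), ((2, 23), 1), ((2, 30), 3), ((6, 11), 1), ((5, 51), 2), ((5, 62), 1), ((6, 27), 4), ((6, 32), 2), ((3, 7), 2), ((3, 15), 3), ((7, 10), 4), ((3, 1), 4), ((3, 3), 3), ((3, 17),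 2), ((3, 45), 2), ((3, 5), 4), ((3, 12), 3), ((3, 42), 3), ((3, 14), 3), ((3, 16), 2), ((3, 18), 3), ((3, 19), 2), ((3, 21), 4), ((3, 23), 3), ((3, 32), 3), ((3, 34), 4), ((4, 4), 1), ((4, 10), 2), ((4, 28), 3), ((4, 30), 4), ((7, 0), 4), ((7, 34), 2), ((4, 0), 1), ((4, 1), 4), ((4, 7), 3), ((4, 9), 3), ((4, 12), 3), ((4, 14), 1), ((7, 5), 3), ((7, 14), 2), ((7, 38), 4), ((6, 2), 2), ((6, 3), 1), ((6, 15), 4), ((6, 4), 1), ((6, 5), 4), ((6, 6), 4), ((6, 37), 3), ((7, 11), 3), ((7, 17), 2), ((7, 21), 3), ((7, 23), 3), ((5, 1), 1)],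
  [((0, 5), 1), ((0, 6), 4), ((0, 12), 1), ((0, 14), 4), ((0, 25), 1), ((0, 28), 4), ((0, 45), 1), ((0, 48), 4), ((0, 70), 1), ((0, 73), 4), ((1, 73), 3), ((2, 15), 4), ((4, 32), 2), ((4, 98), 1), ((6, 20), 1), ((6, 56), 4), ((5, 0), 3), ((1, 0), 1), ((1, 2), 3), ((1, 6), 3), ((1, 8), 2), ((1, 10), 4), ((1, 14), 3), ((1, 16), 4), ((1, 18), 2), ((1, 22), 3), ((1, 24), 4), ((1, 25), 3), ((1, 34), 1), ((1, 44), 2), ((1, 64), 4), ((6, 16), 3), ((6, 55), 2), ((7, 68), 3), ((5, 6), 3), ((7, 16), 4), ((7, 40), 4), ((7, 45), 2), ((7, 51), 3), ((7, 52), 4), ((7, 59), 2), ((7, 60), 3), ((2, 0), 1), ((2, 3), 3), ((2, 5), 1), ((2, 7), 4), ((2, 17), 4), ((2, 19), 2), ((2, 21), 4), ((2, 30), 4), ((6, 11), 1), ((5, 20), 1), ((5, 51), 4), ((5, 62), 2), ((6, 27), 3), ((6, 32), 3), ((3, 7), 4), ((3, 15), 2), ((7, 10), 2), ((3, 0),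 4), ((3, 1), 4), ((3, 17), 4), ((3, 45), 1), ((3, 5), 2), ((3, 12), 3), ((3, 42), 3), ((3, 2), 2), ((3, 14), 1), ((3, 16), 3), ((3, 18), 1), ((3, 19), 3), ((3, 21), 3), ((3, 23), 3), ((3, 32), 2), ((4, 6), 1), ((4, 10), 4), ((4, 28), 1), ((4, 30), 1), ((7, 0), 2), ((7, 34), 2), ((4, 1), 1), ((4, 2), 4), ((4, 7), 3), ((4, 12), 4), ((4, 14), 3), ((7, 6), 2), ((7, 38), 2), ((6, 2), 3), ((6, 3), 2), ((6, 15), 1), ((6, 4), 3), ((6, 6), 4), ((7, 3), 2), ((7, 11), 3), ((5, 1), 2)],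
  [((0, 94), 1)],
  [((0, 1), 1), ((0, 2), 4), ((0, 6), 4), ((0, 14), 4), ((0, 29), 4), ((0, 50), 4), ((0, 75), 4), ((1, 73), 4), ((1, 99), 1), ((2, 15), 3), ((4, 32), 1), ((4, 98), 3), ((6, 56), 4), ((1, 0), 1), ((1, 2), 3), ((1, 6), 2), ((1, 8), 1), ((1, 14), 3), ((1, 16), 1), ((1, 22), 3), ((1, 24), 4), ((1, 25), 2), ((1, 34), 2), ((1, 44), 4), ((1, 64), 1), ((6, 16), 1), ((6, 36), 2), ((6, 55), 2), ((7, 68), 2), ((5, 6), 3), ((5, 63), 4), ((7, 16), 1), ((7, 40), 4), ((7, 45), 1), ((7, 52), 1), ((7, 59), 2), ((7, 60), 2), ((7, 78), 4), ((2, 0), 3), ((2, 3), 3), ((2, 5), 3), ((2, 7), 1), ((2, 17), 4), ((2, 23), 3), ((2, 30), 2), ((6, 11), 3), ((5, 20), 2), ((6, 27), 4), ((3, 7), 2), ((3, 15), 4), ((7, 10), 1), ((3, 0), 1), ((3, 1), 1), ((3, 3), 4), ((3, 17), 2), ((3, 45), 4), ((3, 5), 2), ((3, 12), 1), ((3, 42),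 1), ((3, 2), 4), ((3, 14), 4), ((3, 16), 3), ((3, 18), 1), ((3, 21), 1), ((3, 23), 2), ((3, 32), 4), ((3, 34), 4), ((4, 3), 3), ((4, 6), 4), ((4, 10), 3), ((7, 0), 2), ((7, 34), 2), ((4, 0), 3), ((4, 1), 4), ((4, 2), 3), ((4, 9), 2), ((4, 12), 2), ((4, 14), 2), ((7, 6), 1), ((6, 2), 3), ((6, 3), 3), ((6, 15), 2), ((6, 4), 4), ((6, 5), 4), ((6, 6), 4), ((6, 37), 4), ((7, 3), 2), ((7, 17), 4), ((7, 21), 2), ((7, 23), 2), ((7, 28), 2), ((5, 1), 1)],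
  [((0, 96), 1)],
  [((0, 1), 4), ((0, 2), 1), ((0, 3), 4), ((0, 6), 1), ((0, 7), 4), ((0, 14), 1), ((0, 15), 4), ((0, 28), 1), ((0, 30), 4), ((0, 49), 1), ((0, 51), 4), ((0, 74), 1), ((0, 77), 4), ((0, 93), 1), ((1, 73), 3), ((1, 99), 1), ((2, 15), 2), ((4, 32), 4), ((4, 98), 1), ((6, 56), 3), ((5, 0), 4), ((1, 0), 1), ((1, 6), 2), ((1, 8), 1), ((1, 10), 3), ((1, 14), 4), ((1, 16), 4), ((1, 18), 4), ((1, 22), 2), ((1, 24), 2), ((1, 25), 2), ((1, 34), 3), ((1, 44), 2), ((1, 64), 2), ((6, 16), 1), ((6, 36), 2), ((6, 55), 4), ((7, 68), 4), ((5, 63), 2), ((7, 16), 4), ((7, 40), 4), ((7, 41), 4), ((7, 45), 2), ((7, 51), 4), ((7, 52), 1), ((7, 60), 2), ((7, 78), 1), ((2, 0), 1), ((2, 3), 4), ((2, 5), 3), ((2, 7), 2), ((2, 17), 3), ((2, 23), 4), ((5, 20), 2), ((5, 51), 4), ((5, 62), 2), ((6, 27), 1), ((3, 7), 1), ((3,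 15), 4), ((7, 10), 2), ((3, 0), 4), ((3, 1), 2), ((3, 17), 2), ((3, 45), 2), ((3, 12), 3), ((3, 42), 2), ((3, 2), 4), ((3, 14), 3), ((3, 16), 2), ((3, 18), 1), ((3, 19), 3), ((3, 21), 4), ((3, 23), 1), ((3, 32), 3), ((3, 34), 4), ((4, 4), 2), ((4, 6), 3), ((4, 10), 4), ((4, 28), 4), ((4, 30), 4), ((7, 0), 2), ((7, 34), 3), ((4, 0), 3), ((4, 1), 3), ((4, 7), 2), ((4, 12), 2), ((4, 14), 3), ((7, 5), 1), ((7, 14), 3), ((6, 2), 1), ((6, 3), 1), ((6, 15), 1), ((6, 4), 4), ((6, 5), 1), ((6, 6), 3), ((6, 37), 3), ((7, 11), 2), ((7, 17), 4), ((7, 21), 2), ((7, 23), 3), ((7, 28), 2), ((5, 1), 1)],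
  [((0, 97), 1)],
  [((0, 1), 4), ((0, 2), 1), ((0, 3), 4), ((0, 6), 1), ((0, 7), 4), ((0, 13), 1), ((0, 16), 4), ((0, 26), 1), ((0, 31), 4), ((0, 53), 4), ((0, 79), 4), ((1, 73), 4), ((1, 99), 2), ((2, 15), 2), ((4, 32), 3), ((6, 56), 3), ((1, 0), 3), ((1, 2), 4), ((1, 6), 3), ((1, 8), 3), ((1, 14), 1), ((1, 18), 1), ((1, 24), 4), ((1, 25), 3), ((1, 34), 1), ((1, 44), 3), ((1, 64), 2), ((6, 36), 4), ((6, 55), 1), ((7, 68), 4), ((5, 6), 3), ((5, 63), 4), ((7, 40), 2), ((7, 51), 3), ((7, 52), 1), ((7, 59), 4), ((7, 60), 3), ((7, 78), 4), ((2, 0), 1), ((2, 3), 3), ((2, 5), 2), ((2, 7), 2), ((2, 17), 4), ((2, 21), 2), ((2, 23), 2), ((2, 30), 3), ((6, 11), 2), ((5, 20), 1), ((5, 51), 1), ((6, 27), 2), ((6, 32), 1), ((3, 7), 1), ((3, 15), 4), ((3, 3), 1), ((3, 45), 4), ((3, 5), 3), ((3, 12), 1), ((3, 42), 1), ((3, 2),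 3), ((3, 14), 2), ((3, 18), 4), ((3, 21), 2), ((3, 23), 2), ((3, 32), 2), ((4, 10), 4), ((4, 28), 1), ((7, 0), 4), ((7, 34), 3), ((4, 0), 2), ((4, 1), 4), ((4, 2), 1), ((4, 9), 4), ((4, 14), 1), ((7, 6), 1), ((7, 14), 4), ((7, 38), 2), ((6, 15), 2), ((6, 4), 2), ((6, 5), 3), ((6, 6), 2), ((6, 37), 3), ((7, 3), 3), ((7, 11), 1), ((7, 17), 3), ((7, 21), 1), ((7, 23), 4), ((7, 28), 3), ((5, 1), 1)],
  [((0, 98), 1)],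
  [((0, 3), 4), ((0, 4), 1), ((0, 7), 4), ((0, 9), 1), ((0, 16), 4), ((0, 32), 4), ((0, 55), 4), ((0, 81), 4), ((1, 73), 1), ((1, 99), 4), ((2, 15), 4), ((4, 32), 4), ((4, 98), 3), ((6, 20), 1), ((6, 56), 3), ((5, 0), 3), ((1, 0), 2), ((1, 2), 1), ((1, 8), 1), ((1, 10), 2), ((1, 18), 1), ((1, 22), 3), ((1, 24), 2), ((1, 25), 3), ((1, 34), 3), ((1, 44), 3), ((6, 36), 2), ((6, 55), 1), ((7, 68), 1), ((5, 6), 4), ((5, 63), 3), ((7, 40), 2), ((7, 45), 1), ((7, 51), 3), ((7, 60), 4), ((7, 78), 2), ((2, 0), 1), ((2, 3), 1), ((2, 5), 3), ((2, 7), 4), ((2, 17), 3), ((2, 19), 1), ((2, 21), 2), ((2, 23), 1), ((2, 30), 3), ((6, 11), 2), ((5, 20), 2), ((6, 27), 1), ((3, 7), 1), ((3, 15), 4), ((7, 10), 3), ((3, 0), 1), ((3, 1), 4), ((3, 3), 1), ((3, 5), 4), ((3, 12), 2), ((3, 42), 2), ((3, 2), 1), ((3, 16), 1), ((3, 19), 3),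 ((3, 21), 2), ((3, 23), 2), ((3, 32), 3), ((3, 34), 4), ((4, 3), 3), ((4, 4), 1), ((4, 10), 1), ((4, 28), 3), ((4, 30), 1), ((7, 0), 1), ((7, 34), 3), ((4, 0), 3), ((4, 1), 3), ((4, 7), 1), ((4, 9), 1), ((4, 12), 3), ((4, 14), 3), ((7, 6), 2), ((7, 14), 3), ((7, 38), 2), ((6, 3), 2), ((6, 15), 2), ((6, 4), 3), ((6, 6), 1), ((6, 37), 2), ((7, 3), 1), ((7, 11), 3), ((7, 17), 4), ((7, 21), 1), ((7, 23), 2), ((7, 28), 2), ((5, 1), 3)],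
  [((0, 3), 4), ((0, 4), 1), ((0, 7), 4), ((0, 10), 1), ((0, 16), 4), ((0, 21), 1), ((0, 32), 4), ((0, 40), 1), ((0, 55), 4), ((0, 64), 1), ((0, 82), 4), ((0, 88), 1), ((1, 73), 1), ((1, 99), 1), ((2, 15), 4), ((6, 20), 4), ((6, 56), 2), ((3, 6), 3), ((5, 0), 2), ((1, 2), 3), ((1, 6), 2), ((1, 8), 4), ((1, 10), 1), ((1, 14), 1), ((1, 16), 2), ((1, 22), 2), ((1, 24), 2), ((1, 25), 2), ((1, 44), 4), ((6, 16), 4), ((6, 36), 1), ((6, 55), 4), ((5, 6), 3), ((5, 63), 1), ((7, 16), 4), ((7, 40), 2), ((7, 41), 1), ((7, 51), 3), ((7, 52), 2), ((7, 59), 2), ((2, 3), 2), ((2, 5), 1), ((2, 7), 2), ((2, 17), 4), ((2, 19), 4), ((2, 21), 4), ((2, 23), 1), ((2, 30), 4), ((6, 11), 4), ((5, 20), 2), ((5, 51), 3), ((6, 32), 2), ((3, 7), 2), ((3, 15), 1), ((7, 10), 2), ((3, 0), 4), ((3, 1), 4), ((3, 3), 4), ((3, 45), 1), ((3, 5), 2),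 ((3, 12), 4), ((3, 42), 1), ((3, 2), 3), ((3, 18), 1), ((3, 19), 1), ((3, 21), 2), ((3, 32), 2), ((4, 3), 3), ((4, 4), 2), ((4, 6), 3), ((4, 10), 1), ((4, 28), 4), ((4, 30), 3), ((7, 0), 3), ((4, 0), 1), ((4, 1), 3), ((4, 2), 3), ((4, 7), 2), ((4, 9), 4), ((4, 12), 1), ((7, 6), 1), ((7, 14), 1), ((7, 38), 3), ((6, 2), 4), ((6, 4), 2), ((6, 5), 4), ((6, 6), 3), ((6, 37), 1), ((7, 3), 4), ((7, 11), 4), ((7, 17), 4), ((7, 21), 4), ((7, 23), 3), ((7, 28), 2), ((5, 1), 4)],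
  [((0, 56), 4), ((0, 83), 4), ((1, 73), 4), ((1, 99), 2), ((2, 15), 2), ((4, 32), 2), ((6, 56), 1), ((3, 6), 1), ((5, 0), 2), ((1, 0), 4), ((1, 6), 3), ((1, 8), 4), ((1, 10), 3), ((1, 14), 4), ((1, 16), 4), ((1, 18), 1), ((1, 22), 3), ((1, 25), 3), ((1, 34), 3), ((1, 44), 3), ((1, 64), 2), ((6, 16), 1), ((6, 36), 1), ((5, 6), 3), ((5, 63), 3), ((7, 40), 3), ((7, 41), 3), ((7, 45), 4), ((7, 51), 1), ((7, 52), 2), ((7, 59), 4), ((7, 60), 2), ((7, 78), 3), ((2, 0), 1), ((2, 3), 2), ((2, 7), 4), ((2, 17), 2), ((2, 19), 3), ((2, 21), 1), ((2, 23), 2), ((6, 11), 3), ((5, 20), 4), ((5, 51), 4), ((5, 62), 4), ((6, 27), 1), ((6, 32), 3), ((3, 7), 1), ((3, 15), 2), ((3, 17), 4), ((3, 45), 2), ((3, 5), 2), ((3, 12), 4), ((3, 42), 4), ((3, 2), 4), ((3, 16), 2), ((3, 19), 4), ((3, 21), 1), ((3, 23), 1), ((3, 32), 1), ((3, 34),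 2), ((4, 4), 2), ((4, 6), 3), ((4, 10), 1), ((4, 28), 3), ((7, 34), 1), ((4, 1), 3), ((4, 2), 4), ((4, 7), 2), ((4, 9), 3), ((4, 12), 2), ((7, 5), 2), ((7, 6), 4), ((7, 38), 4), ((6, 2), 3), ((6, 15), 3), ((6, 4), 1), ((6, 5), 4), ((6, 37), 4), ((7, 3), 4), ((7, 11), 4), ((7, 17), 1), ((7, 23), 1), ((7, 28), 2)],
  [((0, 1), 4), ((0, 2), 1), ((0, 3), 4), ((0, 5), 1), ((0, 8), 4), ((0, 17), 4), ((0, 33), 4), ((0, 57), 4), ((0, 84), 4), ((1, 73), 1), ((1, 99), 3), ((4, 32), 2), ((4, 98), 1), ((6, 20), 1), ((1, 0), 2), ((1, 6), 4), ((1, 8), 4), ((1, 10), 3), ((1, 14), 1), ((1, 16), 1), ((1, 18), 4), ((1, 22), 4), ((1, 24), 2), ((1, 34), 4), ((1, 44), 1), ((1, 64), 3), ((6, 16), 1), ((7, 68), 1), ((5, 6), 3), ((7, 40), 1), ((7, 41), 3), ((7, 51), 2), ((7, 52), 3), ((7, 78), 4), ((2, 3), 2), ((2, 5), 3), ((2, 7), 4),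 ((2, 17), 1), ((2, 21), 3), ((2, 30), 4), ((6, 11), 1), ((5, 51), 4), ((5, 62), 1), ((6, 27), 2), ((6, 32), 3), ((3, 7), 2), ((3, 15), 1), ((7, 10), 1), ((3, 0), 2), ((3, 1), 3), ((3, 3), 1), ((3, 17), 2), ((3, 45), 3), ((3, 12), 1), ((3, 42), 1), ((3, 2), 1), ((3, 14), 3), ((3, 16), 1), ((3, 19), 4), ((3, 21), 4), ((3, 23), 3), ((3, 32), 1), ((3, 34), 2), ((4, 3), 1), ((4, 4), 2), ((4, 6), 1), ((4, 30), 2), ((7, 34), 4), ((4, 0), 1), ((4, 1), 2), ((4, 2), 1), ((4, 7), 4), ((4, 9), 3), ((4, 12), 2), ((4, 14), 3), ((7, 5), 2), ((7, 14), 1), ((7, 38), 1), ((6, 2), 2), ((6, 3), 2), ((6, 15), 2), ((6, 4), 3), ((6, 5), 3), ((6, 6), 1), ((6, 37), 4), ((7, 3), 1), ((7, 21), 3), ((7, 23), 4), ((7, 28), 4), ((5, 1), 2)],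
  [((0, 7), 1), ((0, 8), 4), ((0, 16), 1), ((0, 17), 4), ((0, 32), 1), ((0, 34), 4), ((0, 55), 1), ((0, 58), 4), ((0, 81), 1), ((0, 85), 4), ((1, 73), 4), ((1, 99), 1), ((2, 15), 1), ((4, 32), 2), ((4, 98), 4), ((6, 20), 3), ((3, 6), 2), ((5, 0), 4), ((1, 0), 2), ((1, 2), 4), ((1, 8), 3), ((1, 10), 1), ((1, 16), 4), ((1, 18), 3), ((1, 22), 1), ((1, 25), 4), ((1, 34), 1), ((1, 64), 2), ((6, 16), 2), ((6, 36), 1), ((7, 68), 3), ((5, 6), 2), ((5, 63), 4), ((7, 16), 3), ((7, 40), 3), ((7, 41), 2), ((7, 45), 1), ((7, 51), 3), ((7, 52), 4), ((7, 59), 3), ((7, 78), 4), ((2, 17), 3), ((2, 19), 1), ((2, 21), 4), ((2, 23), 3), ((2, 30), 4), ((6, 11), 2), ((5, 20), 4), ((5, 51), 4), ((5, 62), 2), ((6, 27), 2), ((3, 7), 4), ((3, 15), 1), ((7, 10), 3), ((3, 0), 2), ((3, 1), 1), ((3, 3), 2), ((3, 17), 3), ((3, 45), 2), ((3, 5),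 4), ((3, 12), 4), ((3, 42), 1), ((3, 2), 3), ((3, 14), 1), ((3, 16), 3), ((3, 18), 4), ((3, 19), 4), ((3, 21), 1), ((3, 23), 2), ((3, 32), 2), ((3, 34), 4), ((4, 4), 4), ((4, 10), 3), ((4, 30), 4), ((7, 0), 3), ((4, 0), 2), ((4, 1), 4), ((4, 2), 4), ((4, 9), 1), ((4, 12), 2), ((7, 5), 1), ((7, 6), 2), ((7, 14), 4), ((7, 38), 2), ((6, 3), 4), ((6, 15), 1), ((6, 4), 3), ((6, 6), 1), ((6, 37), 1), ((7, 3), 4), ((7, 11), 1), ((7, 17), 3), ((7, 21), 3), ((7, 23), 1), ((7, 28), 2)],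
  [((0, 1), 4), ((0, 2), 1), ((0, 3), 4), ((0, 6), 1), ((0, 8), 4), ((0, 13), 1), ((0, 18), 4), ((0, 26), 1), ((0, 35), 4), ((0, 46), 1), ((0, 59), 4), ((0, 86), 4), ((1, 73), 4), ((1, 99), 3), ((2, 15), 3), ((4, 32), 1), ((4, 98), 2), ((6, 20), 4), ((3, 6), 1), ((5, 0), 3), ((1, 0), 1), ((1, 6), 1), ((1, 8), 3), ((1, 10), 1), ((1, 14), 3), ((1, 25), 1), ((1, 44), 3), ((6, 16), 4), ((6, 36), 1), ((6, 55), 4), ((7, 68), 1), ((5, 6), 1), ((7, 16), 4), ((7, 40), 1), ((7, 41), 1), ((7, 45), 2), ((7, 51), 3), ((7, 52), 2), ((7, 59), 4), ((7, 60), 1), ((7, 78), 3), ((2, 0), 2), ((2, 3), 1), ((2, 5), 2), ((2, 7), 4), ((2, 17), 4), ((2, 30), 2), ((5, 20), 2), ((5, 62), 4), ((6, 32), 4), ((3, 7), 2), ((3, 15), 1), ((7, 10), 4), ((3, 0), 4), ((3, 1), 4), ((3, 3), 4), ((3, 17), 2), ((3, 45), 1), ((3, 5), 1), ((3, 12), 2),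 ((3, 42), 2), ((3, 2), 4), ((3, 14), 1), ((3, 16), 4), ((3, 18), 1), ((3, 19), 1), ((3, 32), 2), ((3, 34), 3), ((4, 3), 1), ((4, 4), 4), ((4, 10), 4), ((4, 28), 2), ((7, 0), 3), ((7, 34), 3), ((4, 1), 2), ((4, 2), 1), ((4, 7), 4), ((4, 9), 1), ((4, 12), 4), ((4, 14), 4), ((7, 6), 2), ((7, 14), 2), ((7, 38), 3), ((6, 2), 3), ((6, 3), 4), ((6, 15), 4), ((6, 4), 1), ((6, 5), 4), ((6, 6), 1), ((6, 37), 1), ((7, 3), 4), ((7, 11), 1), ((7, 17), 4), ((7, 23), 1), ((7, 28), 1)],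
  [((0, 37), 4), ((0, 61), 4), ((0, 87), 4), ((1, 99), 3), ((2, 15), 3), ((4, 32), 4), ((4, 98), 2), ((6, 20), 4), ((6, 56), 4), ((3, 6), 4), ((1, 2), 3), ((1, 8), 2), ((1, 10), 1), ((1, 14), 2), ((1, 16), 4), ((1, 18), 1), ((1, 22), 1), ((1, 24), 4), ((1, 34), 4), ((1, 44), 1), ((1, 64), 2), ((6, 16), 2), ((6, 36), 1), ((6, 55), 4), ((7, 68), 1), ((5, 6), 4), ((5, 63), 1), ((7, 16), 2), ((7, 40), 1), ((7, 45), 3), ((7, 51), 4), ((7, 52), 1), ((7, 59), 1), ((2, 0), 2), ((2, 3), 3), ((2, 5), 3), ((2, 17), 4), ((2, 21), 3), ((2, 23), 3), ((2, 30), 2), ((6, 11), 4), ((5, 20), 1), ((5, 51), 1), ((6, 27), 3), ((6, 32), 3), ((3, 7), 4), ((3, 15), 4), ((3, 17), 1), ((3, 45), 2), ((3, 5), 1), ((3, 12), 2), ((3, 42), 1), ((3, 2), 4), ((3, 14), 3), ((3, 16), 3), ((3, 19), 2), ((3, 21), 1), ((3, 32), 4), ((3, 34), 4), ((4,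 4), 2), ((4, 6), 3), ((4, 10), 2), ((4, 30), 4), ((7, 0), 2), ((7, 34), 3), ((4, 0), 3), ((4, 1), 2), ((4, 2), 3), ((4, 7), 2), ((4, 9), 4), ((4, 14), 4), ((7, 5), 3), ((7, 6), 2), ((7, 14), 2), ((6, 2), 1), ((6, 3), 3), ((6, 5), 2), ((6, 37), 4), ((7, 3), 3), ((7, 17), 4), ((7, 21), 1), ((7, 23), 1), ((7, 28), 1), ((5, 1), 3)],
  [((0, 1), 4), ((0, 2), 1), ((0, 4), 4), ((0, 5), 1), ((0, 10), 4), ((0, 12), 1), ((0, 21), 4), ((0, 25), 1), ((0, 40), 4), ((0, 45), 1), ((0, 64), 4), ((0, 88), 4), ((1, 73), 2), ((2, 15), 1), ((4, 32), 1), ((4, 98), 1), ((6, 56), 4), ((3, 6), 2), ((5, 0), 2), ((1, 0), 3), ((1, 2), 1), ((1, 6), 3), ((1, 8), 4), ((1, 14), 1), ((1, 16), 3), ((1, 18), 4), ((1, 22), 2), ((1, 24), 4), ((1, 25), 4), ((1, 34), 4), ((1, 44), 3), ((6, 16), 1), ((6, 36), 4), ((6, 55), 1), ((7, 68), 3), ((5, 6),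 1), ((5, 63), 1), ((7, 40), 3), ((7, 41), 1), ((7, 45), 4), ((7, 51), 2), ((7, 52), 2), ((7, 59), 3), ((2, 0), 3), ((2, 17), 1), ((2, 19), 4), ((2, 21), 2), ((2, 30), 1), ((6, 11), 1), ((5, 20), 3), ((5, 51), 2), ((5, 62), 4), ((6, 27), 1), ((6, 32), 1), ((3, 15), 1), ((7, 10), 1), ((3, 0), 3), ((3, 1), 1), ((3, 17), 1), ((3, 5), 3), ((3, 42), 1), ((3, 2), 4), ((3, 14), 2), ((3, 16), 4), ((3, 18), 3), ((3, 19), 4), ((3, 21), 1), ((3, 23), 1), ((3, 32), 2), ((3, 34), 2), ((4, 3), 1), ((4, 4), 1), ((4, 6), 2), ((4, 10), 2), ((4, 28), 3), ((4, 30), 2), ((7, 0), 3), ((7, 34), 2), ((4, 0), 2), ((4, 2), 3), ((4, 7), 2), ((4, 9), 3), ((4, 12), 4), ((4, 14), 3), ((7, 14), 4), ((6, 3), 2), ((6, 4), 4), ((6, 5), 3), ((6, 6), 2), ((6, 37), 1), ((7, 3), 4), ((7, 11), 2), ((7, 17), 2), ((7, 21), 3), ((7, 23), 3), ((7, 28), 3),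 ((5, 1), 2)],
  [((0, 9), 1), ((0, 10), 4), ((0, 19), 1), ((0, 22), 4), ((0, 37), 1), ((0, 41), 4), ((0, 61), 1), ((0, 65), 4), ((0, 89), 4), ((1, 73), 4), ((1, 99), 3), ((2, 15), 4), ((4, 32), 4), ((4, 98), 1), ((6, 20), 3), ((6, 56), 4), ((3, 6), 4), ((1, 0), 1), ((1, 2), 1), ((1, 6), 2), ((1, 10), 1), ((1, 14), 4), ((1, 16), 4), ((1, 18), 2), ((1, 22), 1), ((1, 24), 4), ((1, 34), 4), ((1, 64), 1), ((6, 16), 1), ((6, 36), 4), ((6, 55), 3), ((7, 68), 2), ((5, 6), 3), ((5, 63), 1), ((7, 41), 1), ((7, 45), 4), ((7, 51), 3), ((7, 52), 1), ((7, 60), 4), ((7, 78), 1), ((2, 0), 3), ((2, 3), 4), ((2, 7), 3), ((2, 17), 4), ((2, 19), 1), ((2, 21), 3), ((2, 23), 3), ((2, 30), 3), ((5, 51), 4), ((6, 27), 3), ((6, 32), 1), ((3, 7), 4), ((7, 10), 1), ((3, 0), 4), ((3, 1), 2), ((3, 3), 2), ((3, 17), 2), ((3, 45), 1), ((3, 5),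 3), ((3, 42), 2), ((3, 2), 1), ((3, 14), 2), ((3, 16), 4), ((3, 18), 2), ((3, 19), 2), ((3, 21), 1), ((3, 23), 4), ((4, 3), 2), ((4, 4), 2), ((4, 6), 1), ((4, 10), 4), ((4, 30), 4), ((7, 0), 4), ((7, 34), 4), ((4, 0), 2), ((4, 1), 4), ((4, 2), 3), ((4, 7), 1), ((4, 9), 3), ((4, 12), 4), ((7, 5), 3), ((7, 6), 2), ((7, 14), 3), ((7, 38), 2), ((6, 3), 2), ((6, 4), 1), ((6, 5), 1), ((6, 6), 3), ((6, 37), 4), ((7, 3), 3), ((7, 11), 2), ((7, 17), 2), ((7, 21), 3), ((7, 23), 2), ((7, 28), 3), ((5, 1), 2)],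
  [((0, 5), 4), ((0, 6), 1), ((0, 11), 4), ((0, 14), 1), ((0, 23), 4), ((0, 28), 1), ((0, 42), 4), ((0, 48), 1), ((0, 67), 4), ((0, 90), 4), ((1, 99), 1), ((2, 15), 1), ((4, 98), 2), ((6, 20), 2), ((6, 56), 2), ((3, 6), 3), ((5, 0), 3), ((1, 0), 3), ((1, 2), 4), ((1, 6), 4), ((1, 8), 4), ((1, 10), 1), ((1, 14), 1), ((1, 16), 2), ((1, 18), 3), ((1, 22), 1), ((1, 24), 4), ((1, 34), 4), ((1, 44), 4), ((1, 64), 2), ((6, 16), 2), ((6, 36), 3), ((6, 55), 1), ((7, 68), 1), ((5, 63), 1), ((7, 16), 4), ((7, 40), 3), ((7, 45), 3), ((7, 51), 1), ((7, 52), 2), ((7, 60), 1), ((7, 78), 4), ((2, 3), 2), ((2, 5), 4), ((2, 7), 3), ((2, 17), 4), ((2, 19), 1), ((2, 21), 3), ((2, 23), 3), ((2, 30), 1), ((6, 11), 4), ((5, 62), 2), ((6, 27), 2), ((6, 32), 2), ((3, 7), 1), ((3, 15), 1), ((7, 10), 2), ((3, 1), 3), ((3, 3), 3), ((3, 17),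 1), ((3, 45), 3), ((3, 5), 3), ((3, 42), 1), ((3, 2), 1), ((3, 16), 3), ((3, 21), 3), ((3, 23), 4), ((4, 3), 1), ((4, 4), 2), ((4, 28), 1), ((4, 30), 2), ((7, 0), 3), ((4, 0), 2), ((4, 2), 2), ((4, 9), 2), ((4, 12), 2), ((4, 14), 4), ((7, 6), 4), ((6, 2), 2), ((6, 3), 4), ((6, 4), 4), ((6, 5), 4), ((6, 37), 3), ((7, 3), 1), ((7, 23), 2), ((7, 28), 4), ((5, 1), 4)],
  [((0, 1), 1), ((0, 2), 4), ((0, 3), 1), ((0, 5), 4), ((0, 8), 1), ((0, 11), 4), ((0, 17), 1), ((0, 24), 4), ((0, 33), 1), ((0, 43), 4), ((0, 56), 1), ((0, 68), 4), ((0, 91), 4), ((1, 73), 2), ((1, 99), 3), ((2, 15), 3), ((4, 32), 2), ((4, 98), 3), ((6, 56), 2), ((3, 6), 4), ((5, 0), 1), ((1, 0), 1), ((1, 6), 1), ((1, 8), 2), ((1, 14), 4), ((1, 16), 4), ((1, 18), 4), ((1, 25), 2), ((1, 34), 2), ((1, 44), 2), ((6, 16), 2), ((7, 68), 1), ((5, 6), 2), ((5,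 63), 3), ((7, 16), 2), ((7, 40), 2), ((7, 45), 1), ((7, 51), 4), ((7, 60), 1), ((2, 0), 3), ((2, 3), 4), ((2, 5), 4), ((2, 7), 4), ((2, 17), 3), ((2, 19), 1), ((2, 21), 3), ((2, 23), 2), ((2, 30), 1), ((6, 11), 4), ((5, 20), 1), ((6, 27), 4), ((6, 32), 3), ((3, 7), 2), ((3, 15), 3), ((7, 10), 3), ((3, 0), 3), ((3, 1), 4), ((3, 3), 2), ((3, 17), 4), ((3, 45), 4), ((3, 5), 4), ((3, 42), 3), ((3, 2), 4), ((3, 14), 4), ((3, 16), 3), ((3, 18), 2), ((3, 19), 3), ((3, 21), 4), ((3, 32), 2), ((4, 3), 1), ((4, 4), 4), ((4, 6), 2), ((4, 10), 1), ((4, 28), 3), ((4, 30), 2), ((7, 0), 1), ((7, 34), 2), ((4, 1), 4), ((4, 2), 4), ((4, 7), 3), ((4, 9), 4), ((4, 12), 4), ((4, 14), 3), ((7, 5), 1), ((7, 6), 3), ((7, 14), 1), ((7, 38), 3), ((6, 3), 3), ((6, 4), 1), ((6, 5), 3), ((6, 37), 3), ((7, 3), 3), ((7, 11), 2), ((7, 17), 4),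 ((7, 23), 4), ((7, 28), 2), ((5, 1), 3)],
  [((0, 1), 1), ((0, 2), 4), ((0, 3), 1), ((0, 5), 4), ((0, 8), 1), ((0, 11), 4), ((0, 17), 1), ((0, 24), 4), ((0, 33), 1), ((0, 44), 4), ((0, 57), 1), ((0, 69), 4), ((0, 84), 1), ((0, 92), 4), ((1, 73), 1), ((1, 99), 3), ((2, 15), 4), ((4, 32), 3), ((4, 98), 1), ((6, 20), 4), ((6, 56), 1), ((1, 2), 3), ((1, 8), 2), ((1, 14), 4), ((1, 16), 2), ((1, 22), 3), ((1, 24), 2), ((1, 34), 3), ((1, 44), 4), ((1, 64), 2), ((6, 36), 3), ((7, 68), 2), ((5, 63), 1), ((7, 16), 1), ((7, 40), 3), ((7, 51), 2), ((7, 52), 1), ((7, 59), 4), ((7, 60), 4), ((7, 78), 2), ((2, 0), 3), ((2, 3), 4), ((2, 7), 4), ((2, 19), 4), ((2, 30), 4), ((6, 11), 1), ((5, 20), 3), ((5, 51), 3), ((5, 62), 4), ((6, 27), 3), ((3, 7), 3), ((3, 15), 3), ((3, 0), 3), ((3, 1), 3), ((3, 3), 4), ((3, 17), 3), ((3, 12),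 2), ((3, 2), 2), ((3, 14), 1), ((3, 16), 1), ((3, 18), 3), ((3, 19), 1), ((3, 21), 3), ((3, 23), 4), ((3, 32), 1), ((3, 34), 3), ((4, 3), 1), ((4, 6), 1), ((4, 10), 3), ((4, 28), 4), ((4, 30), 1), ((7, 0), 1), ((7, 34), 3), ((4, 0), 2), ((4, 1), 1), ((4, 7), 2), ((4, 9), 4), ((4, 12), 1), ((4, 14), 1), ((7, 5), 1), ((7, 6), 1), ((7, 14), 4), ((7, 38), 3), ((6, 2), 3), ((6, 15), 2), ((6, 4), 3), ((6, 5), 4), ((6, 6), 2), ((6, 37), 4), ((7, 3), 1), ((7, 11), 3), ((7, 17), 4), ((5, 1), 4)],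
  [((0, 99), 1)],
  [((0, 5), 1), ((0, 6), 4), ((0, 11), 1), ((0, 14), 4), ((0, 23), 1), ((0, 28), 4), ((0, 49), 4), ((0, 74), 4), ((0, 94), 4), ((1, 73), 2), ((1, 99), 2), ((2, 15), 4), ((4, 32), 1), ((4, 98), 4), ((6, 20), 1), ((6, 56), 2), ((3, 6), 1), ((5, 0), 4), ((1, 0), 3), ((1, 2), 4), ((1, 6), 2), ((1, 14), 2), ((1, 16), 3), ((1, 18), 4), ((1, 22), 1), ((1, 24), 4), ((1, 25), 3), ((1, 34), 1), ((1, 44), 2), ((1, 64), 4), ((6, 16), 2), ((6, 36), 1), ((6, 55), 2), ((7, 68), 3), ((5, 6), 3), ((5, 63), 3), ((7, 16), 3), ((7, 40), 3), ((7, 41), 1), ((7, 45), 4), ((7, 51), 4), ((7, 52), 1), ((7, 59), 2), ((7, 78), 2), ((2, 3), 2), ((2, 5), 2), ((2, 17), 2), ((2, 19), 2), ((2, 21), 3), ((2, 23), 1), ((2, 30), 4), ((5, 20), 1), ((5, 51), 2), ((5, 62), 3), ((6, 32), 3), ((3, 7), 3), ((3, 15), 3), ((7, 10), 4), ((3,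 0), 3), ((3, 1), 3), ((3, 17), 4), ((3, 45), 2), ((3, 5), 4), ((3, 12), 2), ((3, 42), 2), ((3, 14), 1), ((3, 16), 2), ((3, 18), 1), ((3, 19), 1), ((3, 23), 1), ((3, 32), 2), ((4, 4), 1), ((4, 6), 2), ((4, 10), 3), ((4, 28), 1), ((4, 30), 3), ((7, 34), 2), ((4, 0), 2), ((4, 2), 2), ((4, 12), 4), ((4, 14), 2), ((7, 5), 2), ((7, 6), 2), ((7, 14), 3), ((7, 38), 1), ((6, 2), 4), ((6, 3), 1), ((6, 15), 1), ((6, 4), 3), ((6, 5), 3), ((6, 6), 2), ((7, 3), 1), ((7, 11), 4), ((7, 17), 3), ((7, 21), 3), ((7, 23), 4), ((7, 28), 3), ((5, 1), 4)],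
  [((0, 3), 4), ((0, 4), 1), ((0, 7), 4), ((0, 10), 1), ((0, 15), 4), ((0, 21), 1), ((0, 30), 4), ((0, 39), 1), ((0, 51), 4), ((0, 76), 4), ((0, 95), 4), ((1, 73), 2), ((1, 99), 1), ((6, 20), 1), ((6, 56), 2), ((5, 0), 3), ((1, 0), 1), ((1, 6), 1), ((1, 8), 3), ((1, 10), 1), ((1, 14), 1), ((1, 16), 3), ((1, 18), 3), ((1, 22), 1), ((1, 25), 4), ((1, 64), 1), ((6, 16), 1), ((6, 36), 4), ((6, 55), 3), ((5, 63), 2), ((7, 40), 2), ((7, 41), 2), ((7, 45), 1), ((7, 51), 3), ((7, 52), 1), ((7, 59), 2), ((7, 60), 2), ((7, 78), 3), ((2, 3), 2), ((2, 5), 4), ((2, 7), 2), ((2, 17), 4), ((2, 19), 3), ((2, 21), 2), ((2, 23), 4), ((2, 30), 4), ((6, 11), 2), ((5, 20), 1), ((5, 51), 3), ((5, 62), 1), ((6, 27), 4), ((7, 10), 2), ((3, 1), 4), ((3, 3), 2), ((3, 45), 3), ((3, 12), 4), ((3, 42), 3), ((3, 2), 2), ((3, 14), 3), ((3, 18),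 1), ((3, 19), 3), ((3, 21), 4), ((3, 23), 1), ((3, 32), 1), ((3, 34), 4), ((4, 3), 4), ((4, 4), 4), ((4, 10), 2), ((4, 28), 4), ((7, 34), 2), ((4, 0), 2), ((4, 1), 4), ((4, 2), 2), ((4, 7), 4), ((4, 9), 4), ((7, 6), 1), ((7, 38), 3), ((6, 2), 4), ((6, 4), 3), ((6, 5), 1), ((7, 11), 2), ((7, 17), 3), ((7, 21), 3), ((7, 23), 3)],
  [((0, 95), 1), ((0, 96), 4), ((2, 15), 4), ((4, 32), 4), ((4, 98), 3), ((6, 20), 3), ((3, 6), 4), ((5, 0), 3), ((1, 0), 2), ((1, 2), 4), ((1, 10), 4), ((1, 14), 2), ((1, 16), 4), ((1, 18), 1), ((1, 22), 3), ((1, 25), 1), ((1, 34), 2), ((1, 44), 2), ((1, 64), 2), ((6, 36), 1), ((6, 55), 1), ((7, 68), 3), ((5, 6), 2), ((7, 16), 1), ((7, 40), 3), ((7, 41), 4), ((7, 45), 1), ((7, 51), 2), ((7, 59), 4), ((7, 60), 3), ((7, 78), 2), ((2, 0), 2), ((2, 3), 3), ((2, 5), 4), ((2, 17), 3), ((2, 21),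 4), ((2, 23), 2), ((5, 20), 4), ((5, 51), 2), ((5, 62), 4), ((6, 27), 2), ((3, 7), 4), ((3, 15), 4), ((3, 0), 3), ((3, 1), 3), ((3, 3), 3), ((3, 17), 2), ((3, 45), 2), ((3, 5), 1), ((3, 42), 4), ((3, 2), 4), ((3, 14), 1), ((3, 16), 3), ((3, 18), 3), ((3, 19), 2), ((3, 21), 1), ((3, 23), 2), ((3, 32), 1), ((3, 34), 3), ((4, 3), 3), ((4, 4), 1), ((4, 6), 2), ((4, 10), 1), ((4, 28), 2), ((4, 30), 2), ((7, 0), 4), ((7, 34), 3), ((4, 0), 1), ((4, 1), 2), ((4, 2), 4), ((4, 7), 3), ((4, 9), 3), ((4, 12), 4), ((7, 5), 2), ((7, 14), 1), ((6, 2), 2), ((6, 3), 1), ((6, 15), 1), ((6, 5), 4), ((6, 6), 1), ((6, 37), 4), ((7, 3), 4), ((7, 11), 2), ((7, 17), 1), ((7, 21), 1), ((7, 28), 4)],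
  [((0, 3), 4), ((0, 4), 1), ((0, 7), 4), ((0, 10), 1), ((0, 16), 4), ((0, 22), 1), ((0, 31), 4), ((0, 41), 1), ((0, 52), 4), ((0, 65), 1), ((0, 78), 4), ((0, 89), 1), ((0, 97), 4), ((1, 73), 3), ((6, 20), 1), ((6, 56), 1), ((3, 6), 3), ((1, 2), 2), ((1, 6), 4), ((1, 8), 4), ((1, 10), 1), ((1, 14), 1), ((1, 18), 4), ((1, 22), 1), ((1, 24), 2), ((1, 25), 3), ((1, 34), 4), ((1, 44), 1), ((1, 64), 1), ((6, 16), 3), ((6, 36), 2), ((6, 55), 4), ((7, 68), 3), ((5, 63), 4), ((7, 16), 2), ((7, 40), 2), ((7, 41), 4), ((7, 51), 1), ((7, 52), 1), ((7, 60), 3), ((7, 78), 1), ((2, 0), 3), ((2, 3), 3), ((2, 5), 3), ((2, 19), 3), ((2, 21), 1), ((2, 30), 2), ((6, 11), 1), ((5, 20), 2), ((6, 27), 1), ((6, 32), 4), ((3, 7), 1), ((3, 15), 1), ((7, 10), 1), ((3, 0), 4), ((3, 1), 1), ((3, 3), 4), ((3, 17), 1), ((3, 45), 2), ((3, 5),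 3), ((3, 12), 2), ((3, 16), 4), ((3, 18), 2), ((3, 19), 4), ((3, 21), 2), ((3, 23), 3), ((3, 32), 3), ((4, 3), 1), ((4, 4), 1), ((4, 6), 3), ((4, 10), 4), ((4, 28), 3), ((4, 30), 2), ((7, 0), 2), ((4, 0), 4), ((4, 1), 4), ((4, 2), 3), ((4, 12), 2), ((4, 14), 3), ((7, 6), 3), ((7, 14), 3), ((7, 38), 4), ((6, 15), 2), ((6, 4), 1), ((6, 5), 2), ((6, 6), 3), ((7, 3), 4), ((7, 11), 4), ((7, 17), 1), ((7, 21), 4), ((7, 23), 4), ((7, 28), 3), ((5, 1), 4)],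
  [((0, 1), 4), ((0, 2), 1), ((0, 3), 4), ((0, 5), 1), ((0, 7), 4), ((0, 11), 1), ((0, 16), 4), ((0, 24), 1), ((0, 31), 4), ((0, 44), 1), ((0, 53), 4), ((0, 69), 1), ((0, 80), 4), ((0, 92), 1), ((0, 98), 4), ((1, 73), 4), ((1, 99), 3), ((2, 15), 1), ((4, 32), 3), ((4, 98), 2), ((6, 20), 2), ((6, 56), 4), ((5, 0), 2), ((1, 0), 4), ((1, 2), 4), ((1, 6), 3), ((1, 8), 4), ((1, 14), 1), ((1, 18), 1), ((1, 22), 3), ((1, 24), 1), ((1, 25), 4), ((1, 34), 4), ((1, 44), 1), ((1, 64), 1), ((6, 16), 2), ((6, 36), 1), ((7, 68), 2), ((5, 6), 2), ((5, 63), 4), ((7, 16), 4), ((7, 41), 4), ((7, 45), 4), ((7, 51), 3), ((7, 52), 2), ((7, 59), 3), ((7, 60), 1), ((7, 78), 4), ((2, 0), 4), ((2, 7), 1), ((2, 17), 1), ((2, 19), 2), ((2, 21), 1), ((2, 23), 3), ((2, 30), 3), ((6, 11), 3), ((5, 20), 4), ((5, 51), 3), ((5, 62), 3), ((6, 27),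 4), ((7, 10), 3), ((3, 0), 3), ((3, 1), 3), ((3, 3), 2), ((3, 17), 4), ((3, 45), 3), ((3, 5), 1), ((3, 12), 1), ((3, 2), 4), ((3, 18), 2), ((3, 19), 2), ((3, 21), 3), ((3, 23), 1), ((3, 32), 2), ((3, 34), 4), ((4, 4), 4), ((4, 10), 3), ((4, 28), 2), ((4, 30), 1), ((7, 0), 2), ((7, 34), 2), ((4, 1), 3), ((4, 9), 3), ((4, 14), 4), ((7, 5), 4), ((7, 6), 1), ((7, 38), 3), ((6, 2), 3), ((6, 3), 3), ((6, 15), 1), ((6, 4), 3), ((6, 5), 2), ((6, 6), 4), ((6, 37), 3), ((7, 11), 2), ((7, 17), 1), ((7, 21), 2), ((7, 28), 3), ((5, 1), 2)],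
  [((0, 1), 1), ((0, 2), 4), ((0, 3), 1), ((0, 6), 4), ((0, 7), 1), ((0, 14), 4), ((0, 15), 1), ((0, 28), 4), ((0, 30), 1), ((0, 49), 4), ((0, 51), 1), ((0, 74), 4), ((0, 76), 1), ((0, 93), 4), ((0, 99), 4), ((1, 73), 1), ((4, 32), 3), ((4, 98), 2), ((6, 20), 1), ((3, 6), 4), ((5, 0), 1), ((1, 6), 2), ((1, 8), 4), ((1, 10), 1), ((1, 14), 1), ((1, 22), 4), ((1, 24), 3), ((1, 25), 1), ((1, 34), 2), ((1, 44), 4), ((1, 64), 3), ((6, 16), 3), ((6, 36), 3), ((6, 55), 1), ((7, 68), 4), ((5, 63), 2), ((7, 16), 3), ((7, 40), 3), ((7, 41), 3), ((7, 45), 4), ((7, 52), 4), ((7, 59), 2), ((7, 60), 4), ((7, 78), 3), ((2, 0), 3), ((2, 3), 2), ((2, 5), 1), ((2, 7), 3), ((2, 17), 2), ((2, 19), 2), ((2, 21), 4), ((2, 23), 3), ((6, 11), 2), ((5, 20), 1), ((5, 51), 4), ((5, 62), 3), ((6, 27), 4), ((6, 32), 3), ((3, 7), 3), ((7, 10),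 3), ((3, 0), 1), ((3, 3), 4), ((3, 17), 1), ((3, 45), 3), ((3, 5), 4), ((3, 12), 2), ((3, 42), 1), ((3, 14), 2), ((3, 16), 3), ((3, 18), 4), ((3, 19), 3), ((3, 21), 1), ((3, 32), 1), ((3, 34), 3), ((4, 3), 2), ((4, 6), 1), ((4, 10), 4), ((4, 28), 4), ((4, 30), 4), ((7, 0), 4), ((4, 2), 1), ((4, 9), 3), ((4, 12), 1), ((7, 5), 3), ((7, 6), 4), ((7, 14), 4), ((7, 38), 1), ((6, 2), 4), ((6, 3), 2), ((6, 15), 4), ((6, 4), 1), ((6, 5), 3), ((6, 6), 3), ((6, 37), 1), ((7, 3), 2), ((7, 11), 2), ((7, 17), 2), ((7, 21), 4), ((7, 28), 1), ((5, 1), 4)],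
  [((3, 6), 4)],
  [((1, 73), 1), ((1, 99), 4), ((4, 32), 2), ((6, 20), 4), ((6, 56), 1), ((3, 6), 3), ((1, 0), 3), ((1, 2), 1), ((1, 6), 4), ((1, 10), 1), ((1, 14), 4), ((1, 16), 3), ((1, 18), 2), ((1, 22), 4), ((1, 24), 2), ((1, 25), 2), ((1, 64), 1), ((6, 16), 1), ((6, 36), 3), ((6, 55), 4), ((7, 68), 2), ((5, 63), 2), ((7, 16), 1), ((7, 40), 2), ((7, 41), 4), ((7, 51), 2), ((7, 52), 3), ((7, 59), 2), ((7, 60), 1), ((7, 78), 1), ((2, 0), 4), ((2, 3), 3), ((2, 5), 2), ((2, 7), 2), ((2, 17), 4), ((2, 21), 3), ((2, 23), 3), ((2, 30), 1), ((6, 11), 3), ((5, 20), 4), ((5, 51), 3), ((5, 62), 3), ((6, 27), 4), ((6, 32), 2), ((3, 7), 4), ((3, 15), 4), ((3, 0), 1), ((3, 1), 3), ((3, 3), 4), ((3, 17), 1), ((3, 12), 3), ((3, 42), 4), ((3, 2), 2), ((3, 14), 3), ((3, 16), 2), ((3, 18), 3), ((3, 19), 2), ((3, 21), 4), ((3,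 32), 4), ((3, 34), 3), ((4, 4), 2), ((4, 6), 2), ((4, 10), 1), ((4, 28), 1), ((4, 30), 1), ((7, 0), 1), ((4, 0), 1), ((4, 1), 1), ((4, 2), 2), ((4, 9), 1), ((4, 12), 3), ((4, 14), 2), ((7, 5), 2), ((7, 6), 1), ((7, 14), 2), ((7, 38), 1), ((6, 2), 4), ((6, 3), 2), ((6, 15), 2), ((6, 4), 4), ((6, 5), 3), ((6, 6), 1), ((6, 37), 2), ((7, 11), 4), ((7, 28), 1), ((5, 1), 3)],
  [((1, 73), 2), ((1, 99), 4), ((2, 15), 4), ((4, 32), 3), ((4, 98), 3), ((6, 56), 3), ((3, 6), 4), ((5, 0), 4), ((1, 0), 1), ((1, 2), 1), ((1, 6), 2), ((1, 8), 3), ((1, 10), 2), ((1, 14), 3), ((1, 16), 4), ((1, 18), 4), ((1, 22), 1), ((1, 24), 2), ((1, 34), 1), ((1, 64), 1), ((6, 16), 1), ((6, 55), 3), ((5, 6), 2), ((5, 63), 2), ((7, 16), 1), ((7, 40), 2), ((7, 41), 4), ((7, 45), 1), ((7, 59), 2), ((7, 60), 3), ((7, 78), 4), ((2, 0), 3), ((2, 3),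 1), ((2, 5), 1), ((2, 7), 1), ((2, 17), 1), ((2, 19), 3), ((2, 21), 1), ((2, 23), 3), ((2, 30), 4), ((6, 11), 4), ((5, 51), 3), ((5, 62), 3), ((6, 32), 3), ((7, 10), 4), ((3, 0), 2), ((3, 1), 3), ((3, 17), 1), ((3, 45), 2), ((3, 12), 2), ((3, 42), 1), ((3, 2), 4), ((3, 14), 3), ((3, 18), 3), ((3, 19), 1), ((3, 21), 3), ((3, 32), 2), ((3, 34), 4), ((4, 3), 2), ((4, 4), 4), ((4, 6), 2), ((4, 10), 3), ((4, 28), 4), ((4, 30), 1), ((7, 0), 3), ((7, 34), 4), ((4, 0), 4), ((4, 1), 1), ((4, 2), 3), ((4, 9), 3), ((4, 12), 4), ((4, 14), 3), ((7, 6), 3), ((7, 14), 3), ((6, 2), 1), ((6, 3), 2), ((6, 15), 1), ((6, 4), 4), ((6, 5), 2), ((6, 6), 2), ((6, 37), 4), ((7, 3), 2), ((7, 11), 3), ((7, 17), 3), ((7, 21), 2), ((7, 23), 2), ((7, 28), 4)],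
  [((1, 73), 2), ((1, 99), 1), ((2, 15), 1), ((4, 32), 1), ((6, 56), 2), ((3, 6), 3), ((5, 0), 1), ((1, 0), 2), ((1, 6), 4), ((1, 8), 2), ((1, 10), 4), ((1, 14), 2), ((1, 16), 2), ((1, 18), 3), ((1, 22), 4), ((1, 25), 4), ((1, 34), 4), ((1, 44), 4), ((1, 64), 1), ((6, 16), 3), ((6, 36), 3), ((5, 6), 4), ((5, 63), 4), ((7, 40), 4), ((7, 41), 4), ((7, 45), 2), ((7, 51), 3), ((7, 52), 1), ((7, 59), 2), ((7, 60), 1), ((7, 78), 4), ((2, 0), 3), ((2, 3), 1), ((2, 7), 2), ((2, 17), 1), ((2, 19), 4), ((2, 21), 3), ((2, 23), 1), ((6, 11), 4), ((5, 20), 2), ((5, 51), 2), ((5, 62), 2), ((6, 27), 3), ((6, 32), 4), ((3, 7), 3), ((3, 15), 1), ((3, 17), 2), ((3, 45), 1), ((3, 5), 1), ((3, 12), 2), ((3, 42), 2), ((3, 2), 2), ((3, 16), 1), ((3, 19), 2), ((3, 21), 3), ((3, 23), 3), ((3, 32), 3), ((3, 34), 1), ((4, 4), 1), ((4, 6),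 4), ((4, 10), 3), ((4, 28), 4), ((7, 34), 3), ((4, 1), 4), ((4, 2), 2), ((4, 7), 1), ((4, 9), 4), ((4, 12), 1), ((7, 5), 1), ((7, 6), 2), ((7, 38), 2), ((6, 2), 4), ((6, 15), 4), ((6, 4), 3), ((6, 5), 2), ((6, 37), 2), ((7, 3), 2), ((7, 11), 2), ((7, 17), 3), ((7, 23), 3), ((7, 28), 1)],
  [((1, 73), 3), ((4, 32), 3), ((4, 98), 1), ((6, 56), 2), ((3, 6), 4), ((1, 0), 1), ((1, 2), 2), ((1, 6), 2), ((1, 10), 2), ((1, 16), 2), ((1, 18), 3), ((1, 24), 4), ((1, 25), 3), ((1, 44), 3), ((1, 64), 4), ((6, 16), 3), ((6, 36), 1), ((6, 55), 1), ((5, 6), 2), ((5, 63), 2), ((7, 16), 2), ((7, 40), 2), ((7, 41), 1), ((7, 45), 1), ((7, 51), 3), ((7, 52), 2), ((7, 59), 3), ((7, 60), 3), ((7, 78), 3), ((2, 0), 2), ((2, 3), 4), ((2, 5), 2), ((2, 7), 1), ((2, 17), 4), ((2, 19), 4), ((2, 21), 3), ((2, 23), 3), ((2, 30), 3), ((6, 11),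 1), ((5, 20), 4), ((5, 51), 2), ((6, 27), 1), ((6, 32), 4), ((3, 7), 1), ((3, 15), 2), ((7, 10), 3), ((3, 0), 4), ((3, 1), 1), ((3, 17), 1), ((3, 45), 1), ((3, 5), 2), ((3, 12), 3), ((3, 42), 1), ((3, 2), 2), ((3, 14), 1), ((3, 16), 2), ((3, 18), 1), ((3, 19), 1), ((3, 21), 2), ((3, 23), 1), ((4, 3), 4), ((4, 6), 2), ((4, 10), 2), ((4, 28), 1), ((4, 30), 2), ((7, 0), 1), ((7, 34), 4), ((4, 0), 3), ((4, 7), 2), ((4, 9), 4), ((4, 14), 1), ((7, 5), 2), ((7, 14), 1), ((7, 38), 4), ((6, 3), 4), ((6, 4), 4), ((6, 5), 3), ((6, 6), 4), ((6, 37), 2), ((7, 3), 3), ((7, 17), 2), ((7, 21), 4)]]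

end Cfsg.Agent.Lib.Helper1.HSM
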