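import Mathlib
import Cfsg.Agent.Lib.Helper1.HSM3
import Cfsg.Agent.Lib.Helper1.HSMD4
import Cfsg.Agent.Lib.Helper1.StemZD7
import Cfsg.Agent.Lib.Helper1.StemZE3
import Cfsg.Agent.Lib.Helper1.Stem5
import Cfsg.Agent.Lib.Helper1.Stem13
import Cfsg.Agent.Lib.Helper1.Stem17
import Cfsg.Agent.Lib.Helper1.Stem21

/-!
# The stem extensions of the Higman–Sims group: the kernel has order dividing 2
-/

set_option autoImplicit false
set_option maxRecDepth 100000

namespace Cfsg.Agent.Lib.Helper1.HSM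

open Cfsg Equiv Cfsg.Agent.Lib.Helper1.MatCode Cfsg.Agent.Lib.Helper1.StemSA
  Cfsg.Agent.Lib.Helper1.MaskAct Cfsg.Agent.Lib.Helper1.Stem

open scoped Pointwise

universe u

theorem chk_cert352 : StemZD.chkCertD D352 C352 = true := by decide +kernel

theorem hodd352 (i : ℕ) (hi : i < D352.k) :
    Odd (D352.ords.getD i 0) ∧ (GG.getD i 1) ^ (D352.ords.getD i 0) = 1 := by
  have hi' : i < 2 := hi
  interval_cases i
  · exact ⟨by decide, gA_pow⟩
  · exact ⟨by decide, gB_pow⟩

theorem hrel352 : ∀ w ∈ D352.rels, wordProd GG w.1 = wordProd GG w.2 := hrel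

/-- a stem extension of the group whose kernel is a 2-group has a kernel of order at most 2 -/
theorem card_ker_le_two (Γ : Type u) [Group Γ] [Finite Γ] (σ : Γ →* Gh)
    (hσ : Cfsg.IsStemExtension σ) (hp : IsPGroup 2 σ.ker) : Nat.card σ.ker ≤ 2 := by
  obtain ⟨a, ha⟩ := IsPGroup.iff_card.mp hp
  haveI : IsCyclic PUnit.{1} := isCyclic_of_subsingleton
  have h := StemZD.card_ker_mul_le_pow_mul D352 C352 chk_struct352 chk_cert352 (by decide) pt352
    GG hgen352 (fun j hj h => pt352_inj j hj 0 (by decide) h) pi_act352 hodd352 hrel352 K rfl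
    (1 : ↥K →* PUnit.{1}) (fun _ => ⟨1, rfl⟩) 0
    (by rw [Nat.card_unique]; rfl) K le_rfl (fun k => ⟨fun _ => k.2, fun _ => rfl⟩) K_perfect 1
    K_bound2 Γ σ hσ a ha
  have e : C352.es.sum = 1 := rfl
  rw [e] at h
  omega

theorem PL100_lt (j : ℕ) : PL100 j < 100 := by
  have h : ∀ j < 100, PL100 j < 100 := by decide +kernel
  by_cases hj : j < 100
  · exact h j hj
  · have e : PL100 j = 0 := by
      unfold PL100
      have h1 : PLN100 < 2 ^ (7 * j) := by
        have h2 : PLN100 < 2 ^ 700 := by decide +kernel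
        exact lt_of_lt_of_le h2 (Nat.pow_le_pow_right (by norm_num) (by omega))
      rw [Nat.shiftRight_eq_div_pow, Nat.div_eq_of_lt h1, Nat.zero_mod]
    rw [e]
    norm_num

/-- the vertices, in the order of the tree -/
def pt100 (j : ℕ) : Fin 100 := ⟨PL100 j, PL100_lt j⟩

theorem chk_struct100 : D100.chkStruct = true := by decide +kernel

theorem chk_cert5 : StemZE.chkCertE D100 5 C5 = true := by decide +kernel

theorem act_ok100 : (List.range 2).all (fun i => (List.range 100).all (fun j =>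
    fT i (PL100 j) == PL100 (D100.pi i j))) = true := by
  decide +kernel

theorem pi_act100 (i : ℕ) (hi : i < D100.k) (j : ℕ) (hj : j < D100.m) :
    GG.getD i 1 • pt100 j = pt100 (D100.pi i j) := by
  have hi' : i < 2 := hi
  have hj' : j < 100 := hj
  have h := act_ok100
  rw [List.all_eq_true] at h
  have h1 := h i (List.mem_range.mpr hi')
  rw [List.all_eq_true] at h1
  have h2 := h1 j (List.mem_range.mpr hj')
  rw [beq_iff_eq] at h2
  rw [smul_pt_eq]
  apply Fin.ext
  rw [φ_GG i hi']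
  exact h2

theorem distinct_ok100 : (List.range 100).all (fun j => (List.range j).all (fun j' =>
    PL100 j' != PL100 j)) = true := by
  decide +kernel

theorem pt100_inj (j : ℕ) (hj : j < 100) (j' : ℕ) (hj' : j' < 100) (h : pt100 j = pt100 j') :
    j = j' :=
  inj_of_distinct PL100 100 distinct_ok100 j hj j' hj' (congrArg Fin.val h)

theorem hord100 (p : ℕ) (hp7 : Nat.Coprime 7 p) (hp11 : Nat.Coprime 11 p) (i : ℕ)
    (hi : i < D100.k) :
    Nat.Coprime (D100.ords.getD i 0) p ∧ (GG.getD i 1) ^ (D100.ords.getD i 0) = 1 := by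
  have hi' : i < 2 := hi
  interval_cases i
  · exact ⟨hp7, gA_pow⟩
  · exact ⟨hp11, gB_pow⟩

theorem card_stab100 : Nat.card ↥(MulAction.stabilizer Gh (pt100 0)) = 443520 := by
  have h := StemOrb.card_stabilizer_mul D100 chk_struct100 pt100 GG hgen352 pi_act100 (by decide)
    (fun j hj j' hj' => pt100_inj j hj j' hj')
  rw [card_Gh] at h
  have h' : Nat.card ↥(MulAction.stabilizer Gh (pt100 0)) * 100 = 44352000 := h
  omega

/-- a stem extension of the group whose kernel is a 5-group is trivial -/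
theorem card_ker_five (Γ : Type u) [Group Γ] [Finite Γ] (σ : Γ →* Gh)
    (hσ : Cfsg.IsStemExtension σ) (hp : IsPGroup 5 σ.ker) : Nat.card σ.ker = 1 := by
  haveI : Fact (Nat.Prime 5) := ⟨by norm_num⟩
  refine StemZE.card_ker_eq_one_of_cert 5 D100 C5 chk_struct100 chk_cert5 (by decide) pt100 GG
    hgen352 (fun j hj h => pt100_inj j hj 0 (by decide) h) pi_act100
    (hord100 5 (by decide) (by decide)) hrel ?_ Γ σ hσ hp
  rw [card_stab100]
  decide

/-- two commuting elements of order 3, the second not a power of the first, generate a subgroup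
of order divisible by 9 -/
theorem nine_dvd_card_closure {G : Type*} [Group G] [Finite G] (x y : G) (hxy : x * y = y * x)
    (hx3 : orderOf x = 3) (hy3 : y ^ 3 = 1) (hy : y ∉ Subgroup.zpowers x) :
    9 ∣ Nat.card (Subgroup.closure ({x, y} : Set G)) := by
  haveI : Fact (Nat.Prime 3) := ⟨by norm_num⟩
  have e : Subgroup.closure ({x, y} : Set G) = Subgroup.zpowers x ⊔ Subgroup.zpowers y := by
    rw [Subgroup.zpowers_eq_closure, Subgroup.zpowers_eq_closure, ← Subgroup.closure_union]
    rfl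
  have hpx : IsPGroup 3 (Subgroup.zpowers x) :=
    IsPGroup.of_card (n := 1) (by rw [Nat.card_zpowers, hx3]; norm_num)
  have hpy : IsPGroup 3 (Subgroup.zpowers y) := by
    intro g
    obtain ⟨n, hn⟩ := Subgroup.mem_zpowers_iff.mp g.2
    refine ⟨1, Subtype.ext ?_⟩
    show (g : G) ^ 3 ^ 1 = 1
    rw [pow_one, ← hn, ← zpow_natCast, ← zpow_mul, mul_comm, zpow_mul, zpow_natCast, hy3, one_zpow]
  have hcomm : ∀ m n : ℤ, x ^ m * y ^ n = y ^ n * x ^ m := by
    intro m n
    exact ((Commute.zpow_zpow (show Commute x y from hxy)) m n)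
  have hnorm : Subgroup.zpowers x ≤ Subgroup.normalizer (Subgroup.zpowers y : Set G) := by
    intro h hh
    obtain ⟨m, rfl⟩ := Subgroup.mem_zpowers_iff.mp hh
    rw [Subgroup.mem_normalizer_iff]
    intro g
    constructor
    · intro hg
      obtain ⟨n, rfl⟩ := Subgroup.mem_zpowers_iff.mp hg
      rw [hcomm, mul_assoc, mul_inv_cancel, mul_one]
      exact hg
    · intro hg
      obtain ⟨n, hn⟩ := Subgroup.mem_zpowers_iff.mp hg
      have : g = y ^ n := by
        have h1 : g = (x ^ m)⁻¹ * (x ^ m * g * (x ^ m)⁻¹) * x ^ m := by group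
        rw [h1, ← hn, mul_assoc, ← hcomm, ← mul_assoc, inv_mul_cancel, one_mul]
      rw [this]
      exact Subgroup.zpow_mem_zpowers y n
  have hp := IsPGroup.to_sup_of_normal_right' hpx hpy hnorm
  rw [← e] at hp
  obtain ⟨k, hk⟩ := IsPGroup.iff_card.mp hp
  have hle : Subgroup.zpowers x ≤ Subgroup.closure ({x, y} : Set G) := by
    rw [Subgroup.zpowers_le]
    exact Subgroup.subset_closure (by simp)
  have hd := Subgroup.card_dvd_of_le hle
  rw [Nat.card_zpowers, hx3, hk] at hd
  have hk2 : 2 ≤ k := by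
    by_contra hlt
    have hk1 : k ≤ 1 := by omega
    have hc : Nat.card (Subgroup.closure ({x, y} : Set G)) ≤ 3 := by
      rw [hk]
      calc 3 ^ k ≤ 3 ^ 1 := Nat.pow_le_pow_right (by norm_num) hk1
        _ = 3 := by norm_num
    have heq : Subgroup.zpowers x = Subgroup.closure ({x, y} : Set G) := by
      apply Subgroup.eq_of_le_of_card_ge hle
      rw [Nat.card_zpowers, hx3]
      exact hc
    apply hy
    rw [heq]
    exact Subgroup.subset_closure (by simp)
  rw [hk]
  exact (show (9 : ℕ) = 3 ^ 2 by norm_num) ▸ pow_dvd_pow 3 hk2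

/-- the elements for the prime 3 -/
noncomputable def gX : Gh := wordProd GG wX

noncomputable def gY : Gh := wordProd GG wY

noncomputable def gN : Gh := wordProd GG wN

theorem gX_gY : gX * gY = gY * gX := by
  have h := eq_of_wordBeq (wX ++ wY) (wY ++ wX) (by decide +kernel)
  rwa [wordProd_append, wordProd_append] at h

theorem gX_pow3 : gX ^ 3 = 1 := by
  have h := eq_of_wordBeq (wX ++ (wX ++ wX)) [] (by decide +kernel)
  rw [wordProd_append, wordProd_append, wordProd_nil] at h
  rw [pow_succ', pow_succ', pow_one]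
  exact h

theorem gY_pow3 : gY ^ 3 = 1 := by
  have h := eq_of_wordBeq (wY ++ (wY ++ wY)) [] (by decide +kernel)
  rw [wordProd_append, wordProd_append, wordProd_nil] at h
  rw [pow_succ', pow_succ', pow_one]
  exact h

theorem gN_sq : gN * gN = 1 := by
  have h := eq_of_wordBeq (wN ++ wN) [] (by decide +kernel)
  rwa [wordProd_append, wordProd_nil] at h

theorem gN_inv : gN⁻¹ = gN := inv_eq_of_mul_eq_one_right gN_sq

theorem gN_gX : gN * gX * gN⁻¹ = gX⁻¹ := by
  rw [gN_inv]
  apply eq_inv_of_mul_eq_one_left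
  have h := eq_of_wordBeq (wN ++ (wX ++ (wN ++ wX))) [] (by decide +kernel)
  rw [wordProd_append, wordProd_append, wordProd_append, wordProd_nil] at h
  rw [mul_assoc, mul_assoc]
  exact h

theorem gN_gY : gN * gY * gN⁻¹ = gY := by
  rw [gN_inv]
  have h := eq_of_wordBeq (wN ++ (wY ++ wN)) wY (by decide +kernel)
  rw [wordProd_append, wordProd_append] at h
  rw [mul_assoc]
  exact h

theorem xy_chk : wordTab wX 2 ≠ 2 ∧ wordTab wY vXY ≠ vXY ∧ wordTab wY vXY ≠ wordTab wX vXY ∧
    wordTab wY vXY ≠ wordTab (wX ++ wX) vXY := by decide +kernel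

theorem gX_ne : gX ≠ 1 := by
  intro h
  have h2 := φ_wordProd wX (by decide) ⟨2, by decide⟩
  have h3 : wordProd GG wX = 1 := h
  rw [h3, map_one] at h2
  exact xy_chk.1 h2.symm

theorem orderOf_gX : orderOf gX = 3 := by
  haveI : Fact (Nat.Prime 3) := ⟨by norm_num⟩
  exact orderOf_eq_prime gX_pow3 gX_ne

theorem gY_not_mem : gY ∉ Subgroup.zpowers gX := by
  intro h
  rw [← mem_powers_iff_mem_zpowers, Submonoid.mem_powers_iff] at h
  obtain ⟨n, hn⟩ := h
  have hmod : gX ^ (n % 3) = gY := by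
    rw [← hn, ← orderOf_gX, pow_mod_orderOf]
  have h2 := φ_wordProd wY (by decide) ⟨vXY, by decide⟩
  have hlt : n % 3 < 3 := Nat.mod_lt _ (by norm_num)
  have hY : wordProd GG wY = gY := rfl
  interval_cases hr : n % 3
  · rw [pow_zero] at hmod
    rw [hY, ← hmod, map_one] at h2
    exact xy_chk.2.1 h2.symm
  · rw [pow_one] at hmod
    have h3 := φ_wordProd wX (by decide) ⟨vXY, by decide⟩
    have hX : wordProd GG wX = gX := rfl
    rw [hY, ← hmod, ← hX, h3] at h2
    exact xy_chk.2.2.1 h2.symm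
  · have h3 := φ_wordProd (wX ++ wX) (by decide) ⟨vXY, by decide⟩
    rw [wordProd_append] at h3
    have hX : wordProd GG wX = gX := rfl
    rw [hX, ← sq, hmod, ← hY, h2] at h3
    exact xy_chk.2.2.2 h3

theorem index_three : ¬ 3 ∣ (Subgroup.closure ({gX, gY} : Set Gh)).index := by
  intro h
  have h9 := nine_dvd_card_closure gX gY gX_gY orderOf_gX gY_pow3 gY_not_mem
  have h1 := Subgroup.card_mul_index (Subgroup.closure ({gX, gY} : Set Gh))
  rw [card_Gh] at h1
  obtain ⟨c, hc⟩ := h9
  obtain ⟨d, hd⟩ := h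
  rw [hc, hd] at h1
  have : 27 * (c * d) = 44352000 := by rw [← h1]; ring
  omega

/-- a stem extension of the group whose kernel is a 3-group is trivial -/
theorem card_ker_three (Γ : Type u) [Group Γ] [Finite Γ] (σ : Γ →* Gh)
    (hσ : Cfsg.IsStemExtension σ) (hp : IsPGroup 3 σ.ker) : Nat.card σ.ker = 1 := by
  obtain ⟨k, hk⟩ := IsPGroup.iff_card.mp hp
  by_contra hne
  have hk0 : k ≠ 0 := by
    rintro rfl
    rw [pow_zero] at hk
    exact hne hk
  have hd : 3 ∣ Nat.card σ.ker := by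
    rw [hk]; exact dvd_pow_self 3 hk0
  have hkill : Kills σ 3 (Subgroup.closure ({gX, gY} : Set Gh)) :=
    kills_a2 σ hσ.1 hσ.2.1 3 (by norm_num) gX gY gN gX_gY gN_gX gN_gY
  exact not_dvd_card_ker_of_kills σ hσ 3 Nat.prime_three _ index_three hkill hd

theorem sq_chk : (List.range 6660).all
    (fun ℓ => !(44352000 % (ℓ * ℓ) == 0) || (240 % ℓ == 0)) = true := by decide +kernel

theorem sq_dvd (ℓ : ℕ) (h : ℓ * ℓ ∣ 44352000) : ℓ ∣ 240 := by
  have hlt : ℓ < 6660 := by
    by_contra hge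
    have h1 : 6660 * 6660 ≤ ℓ * ℓ := Nat.mul_le_mul (by omega) (by omega)
    have h2 := Nat.le_of_dvd (by norm_num) h
    omega
  have h1 := sq_chk
  rw [List.all_eq_true] at h1
  have h2 := h1 ℓ (List.mem_range.mpr hlt)
  rw [Bool.or_eq_true, Bool.not_eq_true', beq_eq_false_iff_ne, beq_iff_eq] at h2
  rcases h2 with h2 | h2
  · exact absurd (Nat.mod_eq_zero_of_dvd h) h2
  · exact Nat.dvd_of_mod_eq_zero h2

theorem not_sq_dvd (p : ℕ) (hp : p.Prime) (h2 : p ≠ 2) (h3 : p ≠ 3) (h5 : p ≠ 5) :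
    ¬ p * p ∣ 44352000 := by
  intro h
  have h' := sq_dvd p h
  have e : (240 : ℕ) = 2 ^ 4 * 3 * 5 := by norm_num
  rw [e] at h'
  rcases (Nat.Prime.dvd_mul hp).mp h' with h' | h'
  · rcases (Nat.Prime.dvd_mul hp).mp h' with h' | h'
    · exact h2 ((Nat.prime_dvd_prime_iff_eq hp Nat.prime_two).mp (hp.dvd_of_dvd_pow h'))
    · exact h3 ((Nat.prime_dvd_prime_iff_eq hp Nat.prime_three).mp h')
  · exact h5 ((Nat.prime_dvd_prime_iff_eq hp Nat.prime_five).mp h')

/-- the kernel of a stem extension has order dividing 2 -/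
theorem hub (Γ : Type u) [Group Γ] [Finite Γ] (σ : Γ →* Gh)
    (hσ : Cfsg.IsStemExtension σ) : Nat.card σ.ker ∣ 2 := by
  apply card_dvd_of_primary σ 2 (by norm_num) ?_ hσ
  intro p hp Γ' _ _ σ' hσ' hk
  by_cases h2 : p = 2
  · subst h2
    have hle := card_ker_le_two Γ' σ' hσ' hk
    obtain ⟨a, ha⟩ := IsPGroup.iff_card.mp hk
    rw [ha] at hle ⊢
    have ha2 : a ≤ 1 := by
      by_contra hlt
      have : 2 ^ 2 ≤ 2 ^ a := Nat.pow_le_pow_right (by norm_num) (by omega)
      omega
    exact (pow_dvd_pow 2 ha2).trans (by norm_num)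
  · by_cases h3 : p = 3
    · subst h3
      rw [card_ker_three Γ' σ' hσ' hk]
      exact one_dvd _
    · by_cases h5 : p = 5
      · subst h5
        rw [card_ker_five Γ' σ' hσ' hk]
        exact one_dvd _
      · have h1 : Nat.card σ'.ker = 1 := by
          apply card_ker_eq_one_of_not_sq_dvd σ' hσ' p hk
          rw [card_Gh]
          exact not_sq_dvd p hp.out h2 h3 h5
        rw [h1]; exact one_dvd _

end Cfsg.Agent.Lib.Helper1.HSM
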