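import Cfsg.Agent.Lib.Helper1.HSE
import Cfsg.Agent.Lib.Helper1.HSM4
import Cfsg.Agent.Lib.Helper1.Stem14

/-!
# The multiplier of the Higman–Sims group
-/

set_option autoImplicit false
set_option maxRecDepth 100000

namespace Cfsg.Agent.Lib.Helper1.HSM

open Cfsg Cfsg.Agent.Lib.Helper1
open Cfsg.Agent.Lib.Helper1.Stem Cfsg.Agent.Lib.Helper1.StemLL

universe u

/-- the multiplier of a group isomorphic to the group of the even automorphisms of the standard
graph on 100 vertices -/
theorem main {G : Type u} [Group G] (f : Gh ≃* G) : Cfsg.HasCyclicSchurMultiplier G 2 := by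
  apply hasCyclicSchurMultiplier_of_equiv f 2
  · exact ⟨_, inferInstance, inferInstance, _, HSE.cover⟩
  · intro Γ _ _ σ hσ
    have hd := hub Γ σ hσ
    refine ⟨?_, hd⟩
    have hle : Nat.card σ.ker ≤ 2 := Nat.le_of_dvd (by norm_num) hd
    have hpos : 0 < Nat.card σ.ker := Nat.card_pos
    by_cases h1 : Nat.card σ.ker = 1
    · haveI : Subsingleton σ.ker := (Nat.card_eq_one_iff_unique.mp h1).1
      exact isCyclic_of_subsingleton
    · have h2 : Nat.card σ.ker = 2 := by omega
      haveI : Fact (Nat.Prime 2) := ⟨Nat.prime_two⟩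
      exact isCyclic_of_prime_card h2

/-- the multiplier of the Higman–Sims group -/
theorem main_HS : Cfsg.HasCyclicSchurMultiplier ↥Cfsg.Spor.HS 2 :=
  main (Cfsg.Agent.Lib.Helper1.HSI.nonempty_HS_equiv.1.some).symm

end Cfsg.Agent.Lib.Helper1.HSM
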