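import Cfsg.Agent.Lib.Helper1.PermSys
import Cfsg.Agent.Lib.Helper1.M24S
import Cfsg.Agent.Lib.Helper1.M24N
import Cfsg.Agent.Lib.Helper9.M12Conj
import Cfsg.Prelude.Def_Spor_Mathieu

/-!
# The five permutation groups on 24 points: membership by tables, and orders
-/

set_option autoImplicit false

namespace Cfsg.Agent.Lib.Helper1.PermCode

open Cfsg Cfsg.Agent.Lib.Helper1 Cfsg.Agent.Lib.Helper1.M24 MulAction
open Cfsg.Agent.Lib.Helper9.M24 (tperm tabOK tabM24 tget tperm_mem tperm_ptOfNat ptOfNat pmaskF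
  smul_mset_eq_iff squareDodecad_eq)
open scoped Pointwise

theorem ptOfNat_23 : ptOfNat 23 = (none : GolayPt) := rfl

theorem ptOfNat_0 : ptOfNat 0 = (some 0 : GolayPt) := rfl

theorem tperm_none {t : List ℕ} (hOK : tabOK t = true) (h : tget t 23 = 23) : tperm t none = none := by
  have := tperm_ptOfNat hOK (i := 23) (by norm_num)
  rw [h] at this
  exact this

theorem tperm_zero {t : List ℕ} (hOK : tabOK t = true) (h : tget t 0 = 0) :
    tperm t (some 0) = some 0 := by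
  have := tperm_ptOfNat hOK (i := 0) (by norm_num)
  rw [h] at this
  exact this

theorem mem_M23_tperm {t : List ℕ} (hOK : tabOK t = true) (hM : tabM24 t = true)
    (h : tget t 23 = 23) : tperm t ∈ Cfsg.Spor.M23 :=
  ⟨tperm_mem hOK hM, mem_stabilizer_iff.mpr (tperm_none hOK h)⟩

theorem mem_M22_tperm {t : List ℕ} (hOK : tabOK t = true) (hM : tabM24 t = true)
    (h : tget t 23 = 23) (h0 : tget t 0 = 0) : tperm t ∈ Cfsg.Spor.M22 :=
  ⟨mem_M23_tperm hOK hM h, mem_stabilizer_iff.mpr (tperm_zero hOK h0)⟩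

theorem mem_M12_tperm {t : List ℕ} (hOK : tabOK t = true) (hM : tabM24 t = true)
    (h : pmaskF t 340831 = 340831) : tperm t ∈ Cfsg.Spor.M12 := by
  refine ⟨tperm_mem hOK hM, mem_stabilizer_iff.mpr ?_⟩
  rw [squareDodecad_eq]
  exact (smul_mset_eq_iff hOK (by norm_num)).mpr (beq_iff_eq.mpr h)

theorem mem_M11_tperm {t : List ℕ} (hOK : tabOK t = true) (hM : tabM24 t = true)
    (h : pmaskF t 340831 = 340831) (h0 : tget t 0 = 0) : tperm t ∈ Cfsg.Spor.M11 :=
  ⟨mem_M12_tperm hOK hM h, mem_stabilizer_iff.mpr (tperm_zero hOK h0)⟩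

/-! ### boolean checks of a table with its code -/

/-- the common part -/
def chkTab (t : List ℕ) (c : ℕ) : Bool := tabOK t && tabM24 t && tabCode t c && pcanonB c

theorem chkTab_sound {t : List ℕ} {c : ℕ} (h : chkTab t c = true) :
    tabOK t = true ∧ tabM24 t = true ∧ phi (tperm t) = PD c ∧ PCanon c := by
  unfold chkTab at h
  rw [Bool.and_eq_true, Bool.and_eq_true, Bool.and_eq_true] at h
  obtain ⟨⟨⟨h1, h2⟩, h3⟩, h4⟩ := h
  exact ⟨h1, h2, phi_tperm h1 h3, canon_of_pcanonB h4⟩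

def chkM24 (t : List ℕ) (c : ℕ) : Bool := chkTab t c
def chkM23 (t : List ℕ) (c : ℕ) : Bool := chkTab t c && (tget t 23 == 23)
def chkM22 (t : List ℕ) (c : ℕ) : Bool := chkTab t c && (tget t 23 == 23) && (tget t 0 == 0)
def chkM12 (t : List ℕ) (c : ℕ) : Bool := chkTab t c && (pmaskF t 340831 == 340831)
def chkM11 (t : List ℕ) (c : ℕ) : Bool := chkTab t c && (pmaskF t 340831 == 340831) && (tget t 0 == 0)

theorem chkM24_mem {t : List ℕ} {c : ℕ} (h : chkM24 t c = true) : tperm t ∈ M24 := by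
  obtain ⟨h1, h2, -, -⟩ := chkTab_sound h
  exact tperm_mem h1 h2

theorem chkM23_mem {t : List ℕ} {c : ℕ} (h : chkM23 t c = true) : tperm t ∈ Cfsg.Spor.M23 := by
  unfold chkM23 at h
  rw [Bool.and_eq_true, beq_iff_eq] at h
  obtain ⟨h1, h2, -, -⟩ := chkTab_sound h.1
  exact mem_M23_tperm h1 h2 h.2

theorem chkM22_mem {t : List ℕ} {c : ℕ} (h : chkM22 t c = true) : tperm t ∈ Cfsg.Spor.M22 := by
  unfold chkM22 at h
  rw [Bool.and_eq_true, Bool.and_eq_true, beq_iff_eq, beq_iff_eq] at h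
  obtain ⟨h1, h2, -, -⟩ := chkTab_sound h.1.1
  exact mem_M22_tperm h1 h2 h.1.2 h.2

theorem chkM12_mem {t : List ℕ} {c : ℕ} (h : chkM12 t c = true) : tperm t ∈ Cfsg.Spor.M12 := by
  unfold chkM12 at h
  rw [Bool.and_eq_true, beq_iff_eq] at h
  obtain ⟨h1, h2, -, -⟩ := chkTab_sound h.1
  exact mem_M12_tperm h1 h2 h.2

theorem chkM11_mem {t : List ℕ} {c : ℕ} (h : chkM11 t c = true) : tperm t ∈ Cfsg.Spor.M11 := by
  unfold chkM11 at h
  rw [Bool.and_eq_true, Bool.and_eq_true, beq_iff_eq, beq_iff_eq] at h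
  obtain ⟨h1, h2, -, -⟩ := chkTab_sound h.1.1
  exact mem_M11_tperm h1 h2 h.1.2 h.2

theorem chkM23_tab {t : List ℕ} {c : ℕ} (h : chkM23 t c = true) : chkTab t c = true := by
  unfold chkM23 at h
  rw [Bool.and_eq_true] at h
  exact h.1

theorem chkM22_tab {t : List ℕ} {c : ℕ} (h : chkM22 t c = true) : chkTab t c = true := by
  unfold chkM22 at h
  rw [Bool.and_eq_true, Bool.and_eq_true] at h
  exact h.1.1

theorem chkM12_tab {t : List ℕ} {c : ℕ} (h : chkM12 t c = true) : chkTab t c = true := by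
  unfold chkM12 at h
  rw [Bool.and_eq_true] at h
  exact h.1

theorem chkM11_tab {t : List ℕ} {c : ℕ} (h : chkM11 t c = true) : chkTab t c = true := by
  unfold chkM11 at h
  rw [Bool.and_eq_true, Bool.and_eq_true] at h
  exact h.1.1

theorem phiP_of_chkTab {t : List ℕ} {c : ℕ} (h : chkTab t c = true) (G : Subgroup P24)
    (hm : tperm t ∈ G) : phiP G ⟨tperm t, hm⟩ = permSys.D c := (chkTab_sound h).2.2.1

theorem canon_of_chkTab {t : List ℕ} {c : ℕ} (h : chkTab t c = true) : permSys.C c :=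
  (chkTab_sound h).2.2.2

/-! ### orders -/

theorem M23_eq : Cfsg.Spor.M23 = H23 := by
  ext g
  simp only [Cfsg.Spor.M23, Subgroup.mem_inf, mem_stabilizer_iff, H23, mem_FixL, List.mem_singleton,
    forall_eq, Equiv.Perm.smul_def]
  rfl

theorem M22_eq : Cfsg.Spor.M22 = H22 := by
  ext g
  simp only [Cfsg.Spor.M22, Cfsg.Spor.M23, Subgroup.mem_inf, mem_stabilizer_iff, H22, mem_FixL,
    List.mem_cons, List.not_mem_nil, or_false, forall_eq_or_imp, forall_eq, Equiv.Perm.smul_def]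
  constructor
  · rintro ⟨⟨h1, h2⟩, h3⟩
    exact ⟨h1, h2, h3⟩
  · rintro ⟨h1, h2, h3⟩
    exact ⟨⟨h1, h2⟩, h3⟩

theorem card_M23 : Nat.card ↥Cfsg.Spor.M23 = 10200960 := by
  rw [M23_eq]; exact card_H23

theorem card_M22 : Nat.card ↥Cfsg.Spor.M22 = 443520 := by
  rw [M22_eq]; exact card_H22

theorem sqD_mem : Cfsg.Spor.squareDodecad ∈ dodecads :=
  ⟨⟨qrWord 0, Submodule.subset_span (Or.inl ⟨0, rfl⟩), rfl⟩, by decide⟩

theorem zero_mem_sqD : (some 0 : GolayPt) ∈ Cfsg.Spor.squareDodecad := by decide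

/-- the two descriptions of the stabilizer of the dodecad -/
def psi12 : ↥Cfsg.Spor.M12 ≃* ↥(stabilizer M24 Cfsg.Spor.squareDodecad) where
  toFun g := ⟨⟨g.1, g.2.1⟩, mem_stabilizer_iff.mpr (mem_stabilizer_iff.mp g.2.2)⟩
  invFun g := ⟨g.1.1, ⟨g.1.2, mem_stabilizer_iff.mpr (mem_stabilizer_iff.mp g.2)⟩⟩
  left_inv _ := rfl
  right_inv _ := rfl
  map_mul' _ _ := rfl

theorem card_M12 : Nat.card ↥Cfsg.Spor.M12 = 95040 := by
  rw [Nat.card_congr psi12.toEquiv]
  exact card_stabilizer_dodecad _ sqD_mem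

/-- the two descriptions of the stabilizer of the dodecad and a point -/
def psi11 : ↥Cfsg.Spor.M11 ≃*
    ↥(stabilizer M24 Cfsg.Spor.squareDodecad ⊓ stabilizer M24 (some 0 : GolayPt)) where
  toFun g := ⟨⟨g.1, g.2.1.1⟩, Subgroup.mem_inf.mpr
    ⟨mem_stabilizer_iff.mpr (mem_stabilizer_iff.mp g.2.1.2),
      mem_stabilizer_iff.mpr (mem_stabilizer_iff.mp g.2.2)⟩⟩
  invFun g := ⟨g.1.1, ⟨⟨g.1.2, mem_stabilizer_iff.mpr (mem_stabilizer_iff.mp
    (Subgroup.mem_inf.mp g.2).1)⟩, mem_stabilizer_iff.mpr (mem_stabilizer_iff.mp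
    (Subgroup.mem_inf.mp g.2).2)⟩⟩
  left_inv _ := rfl
  right_inv _ := rfl
  map_mul' _ _ := rfl

theorem card_M11 : Nat.card ↥Cfsg.Spor.M11 = 7920 := by
  rw [Nat.card_congr psi11.toEquiv]
  exact card_stab_dodecad_point _ sqD_mem _ zero_mem_sqD

/-- divisibility by a product of pairwise coprime numbers -/
theorem prod_dvd_of_coprime : ∀ (fs : List ℕ) (n : ℕ), fs.Pairwise Nat.Coprime →
    (∀ f ∈ fs, f ∣ n) → fs.prod ∣ n
  | [], n, _, _ => by simp
  | a :: l, n, hco, hd => by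
    rw [List.prod_cons]
    rw [List.pairwise_cons] at hco
    apply Nat.Coprime.mul_dvd_of_dvd_of_dvd
    · exact Nat.coprime_list_prod_right_iff.mpr hco.1
    · exact hd a (by simp)
    · exact prod_dvd_of_coprime l n hco.2 (fun f hf => hd f (by simp [hf]))

/-- a subgroup whose order is divisible by pairwise coprime numbers with product the order of the
group is the whole group -/
theorem eq_top_of_factors {Γ : Type*} [Group Γ] [Finite Γ] (H : Subgroup Γ) (fs : List ℕ)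
    (hco : fs.Pairwise Nat.Coprime) (hcard : Nat.card Γ = fs.prod)
    (hd : ∀ f ∈ fs, f ∣ Nat.card H) : H = ⊤ := by
  apply eq_top_of_card_dvd
  rw [hcard]
  exact prod_dvd_of_coprime fs _ hco hd

end Cfsg.Agent.Lib.Helper1.PermCode
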