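import Mathlib

set_option autoImplicit false

namespace Cfsg.Agent.Lib.Helper1.Hexa

/-- the field with four elements, concretely -/
inductive F4 : Type
  | z | o | w | w2
  deriving DecidableEq

instance : Fintype F4 := ⟨{F4.z, F4.o, F4.w, F4.w2}, by intro x; cases x <;> decide⟩

namespace F4

def add : F4 → F4 → F4
  | z, b => b
  | a, z => a
  | o, o => z
  | o, w => w2
  | o, w2 => w
  | w, o => w2
  | w, w => z
  | w, w2 => o
  | w2, o => w
  | w2, w => o
  | w2, w2 => z

def mul : F4 → F4 → F4
  | z, _ => z
  | _, z => z
  | o, b => b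
  | a, o => a
  | w, w => w2
  | w, w2 => o
  | w2, w => o
  | w2, w2 => w

def inv : F4 → F4
  | z => z
  | o => o
  | w => w2
  | w2 => w

instance : Zero F4 := ⟨z⟩
instance : One F4 := ⟨o⟩
instance : Add F4 := ⟨add⟩
instance : Mul F4 := ⟨mul⟩
instance : Neg F4 := ⟨id⟩
instance : Inv F4 := ⟨inv⟩

instance : Field F4 where
  add_assoc := by decide
  zero_add := by decide
  add_zero := by decide
  add_comm := by decide
  neg_add_cancel := by decide
  mul_assoc := by decide
  one_mul := by decide
  mul_one := by decide
  left_distrib := by decide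
  right_distrib := by decide
  zero_mul := by decide
  mul_zero := by decide
  mul_comm := by decide
  exists_pair_ne := ⟨z, o, by decide⟩
  mul_inv_cancel := by decide
  inv_zero := rfl
  nsmul := nsmulRec
  zsmul := zsmulRec
  qsmul := _
  nnqsmul := _

theorem card : Fintype.card F4 = 4 := rfl

theorem w_root : (w : F4) ^ 2 + w + 1 = 0 := by decide

end F4

end Cfsg.Agent.Lib.Helper1.Hexa
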