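import Mathlib
import Cfsg.Prelude.Def_SporadicCombinatorics

set_option autoImplicit false

namespace Cfsg.Agent.Lib.Helper1.Hexa

open Cfsg

variable {F : Type*} [Field F]

def v1 (ω : F) : Fin 6 → F := ![ω, ω ^ 2, ω ^ 2, ω, ω ^ 2, ω]
def v2 (ω : F) : Fin 6 → F := ![ω ^ 2, ω, ω, ω ^ 2, ω ^ 2, ω]
def v3 (ω : F) : Fin 6 → F := ![ω ^ 2, ω, ω ^ 2, ω, ω, ω ^ 2]

theorem hexacode_eq (ω : F) : hexacode F ω = Submodule.span F {v1 ω, v2 ω, v3 ω} := rfl

theorem mem_hexacode (ω : F) (x : Fin 6 → F) :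
    x ∈ hexacode F ω ↔ ∃ a b c : F, x = a • v1 ω + b • v2 ω + c • v3 ω := by
  rw [hexacode_eq, Submodule.mem_span_insert]
  constructor
  · rintro ⟨a, z, hz, rfl⟩
    rw [Submodule.mem_span_insert] at hz
    obtain ⟨b, z', hz', rfl⟩ := hz
    rw [Submodule.mem_span_singleton] at hz'
    obtain ⟨c, rfl⟩ := hz'
    exact ⟨a, b, c, by rw [add_assoc]⟩
  · rintro ⟨a, b, c, rfl⟩
    refine ⟨a, b • v2 ω + c • v3 ω, ?_, by rw [add_assoc]⟩
    rw [Submodule.mem_span_insert]
    exact ⟨b, c • v3 ω, Submodule.mem_span_singleton.mpr ⟨c, rfl⟩, rfl⟩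

theorem v1_mem (ω : F) : v1 ω ∈ hexacode F ω :=
  Submodule.subset_span (Or.inl rfl)

theorem v2_mem (ω : F) : v2 ω ∈ hexacode F ω :=
  Submodule.subset_span (Or.inr (Or.inl rfl))

theorem v3_mem (ω : F) : v3 ω ∈ hexacode F ω :=
  Submodule.subset_span (Or.inr (Or.inr rfl))

/-- the monomial map as a linear map -/
def monoLin (σ : Equiv.Perm (Fin 6)) (c : Fin 6 → Fˣ) : (Fin 6 → F) →ₗ[F] (Fin 6 → F) where
  toFun := monomialMap σ c
  map_add' x y := by
    ext i
    simp only [monomialMap, Pi.add_apply, mul_add]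
  map_smul' a x := by
    ext i
    simp only [monomialMap, Pi.smul_apply, smul_eq_mul, RingHom.id_apply]
    ring

theorem monoLin_apply (σ : Equiv.Perm (Fin 6)) (c : Fin 6 → Fˣ) (x : Fin 6 → F) :
    monoLin σ c x = monomialMap σ c x := rfl

/-- the monomial map preserves the hexacode -/
def Pres (ω : F) (σ : Equiv.Perm (Fin 6)) (c : Fin 6 → Fˣ) : Prop :=
  ∀ x ∈ hexacode F ω, monomialMap σ c x ∈ hexacode F ω

theorem pres_iff (ω : F) (σ : Equiv.Perm (Fin 6)) (c : Fin 6 → Fˣ) :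
    Pres ω σ c ↔ (monomialMap σ c (v1 ω) ∈ hexacode F ω ∧
      monomialMap σ c (v2 ω) ∈ hexacode F ω ∧ monomialMap σ c (v3 ω) ∈ hexacode F ω) := by
  constructor
  · intro h
    exact ⟨h _ (v1_mem ω), h _ (v2_mem ω), h _ (v3_mem ω)⟩
  · rintro ⟨h1, h2, h3⟩
    have : hexacode F ω ≤ (hexacode F ω).comap (monoLin σ c) := by
      rw [hexacode_eq, Submodule.span_le]
      intro y hy
      rcases hy with rfl | rfl | rfl
      · exact h1
      · exact h2
      · exact h3
    intro x hx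
    exact this hx

theorem mono_comp (σ₁ σ₂ : Equiv.Perm (Fin 6)) (c₁ c₂ : Fin 6 → Fˣ) (x : Fin 6 → F) :
    monomialMap σ₁ c₁ (monomialMap σ₂ c₂ x) =
      monomialMap (σ₁ * σ₂) (fun i => c₁ i * c₂ (σ₁.symm i)) x := by
  ext i
  simp only [monomialMap, Units.val_mul]
  rw [mul_assoc]
  rfl

theorem pres_mul {ω : F} {σ₁ σ₂ : Equiv.Perm (Fin 6)} {c₁ c₂ : Fin 6 → Fˣ}
    (h1 : Pres ω σ₁ c₁) (h2 : Pres ω σ₂ c₂) :
    Pres ω (σ₁ * σ₂) (fun i => c₁ i * c₂ (σ₁.symm i)) := by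
  intro x hx
  rw [← mono_comp]
  exact h1 _ (h2 x hx)

theorem pres_one (ω : F) : Pres ω 1 (fun _ => 1) := by
  intro x hx
  have : monomialMap (1 : Equiv.Perm (Fin 6)) (fun _ => (1 : Fˣ)) x = x := by
    ext i
    simp only [monomialMap, Units.val_one, one_mul]
    rfl
  rw [this]
  exact hx

theorem pres_smul {ω : F} {σ : Equiv.Perm (Fin 6)} {c : Fin 6 → Fˣ} (k : Fˣ)
    (h : Pres ω σ c) : Pres ω σ (fun i => k * c i) := by
  intro x hx
  have : monomialMap σ (fun i => k * c i) x = (k : F) • monomialMap σ c x := by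
    ext i
    simp only [monomialMap, Units.val_mul, Pi.smul_apply, smul_eq_mul]
    ring
  rw [this]
  exact (hexacode F ω).smul_mem _ (h x hx)

/-! ### Transport along a ring isomorphism -/

variable {K : Type*} [Field K]

/-- coordinatewise application -/
def mapVec (e : F ≃+* K) (x : Fin 6 → F) : Fin 6 → K := fun i => e (x i)

theorem mapVec_injective (e : F ≃+* K) : Function.Injective (mapVec e) := by
  intro x y h
  ext i
  exact e.injective (congrFun h i)

theorem mapVec_surjective (e : F ≃+* K) : Function.Surjective (mapVec e) := by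
  intro y
  exact ⟨fun i => e.symm (y i), by ext i; simp [mapVec]⟩

theorem mapVec_v1 (e : F ≃+* K) (ω : F) : mapVec e (v1 ω) = v1 (e ω) := by
  ext i
  fin_cases i <;> simp [mapVec, v1]

theorem mapVec_v2 (e : F ≃+* K) (ω : F) : mapVec e (v2 ω) = v2 (e ω) := by
  ext i
  fin_cases i <;> simp [mapVec, v2]

theorem mapVec_v3 (e : F ≃+* K) (ω : F) : mapVec e (v3 ω) = v3 (e ω) := by
  ext i
  fin_cases i <;> simp [mapVec, v3]

theorem mapVec_comb (e : F ≃+* K) (a b c : F) (x y z : Fin 6 → F) :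
    mapVec e (a • x + b • y + c • z) =
      e a • mapVec e x + e b • mapVec e y + e c • mapVec e z := by
  ext i
  simp [mapVec]

theorem mem_hexacode_map (e : F ≃+* K) (ω : F) (x : Fin 6 → F) :
    x ∈ hexacode F ω ↔ mapVec e x ∈ hexacode K (e ω) := by
  rw [mem_hexacode, mem_hexacode]
  constructor
  · rintro ⟨a, b, c, rfl⟩
    exact ⟨e a, e b, e c, by rw [mapVec_comb, mapVec_v1, mapVec_v2, mapVec_v3]⟩
  · rintro ⟨a, b, c, h⟩
    refine ⟨e.symm a, e.symm b, e.symm c, ?_⟩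
    apply mapVec_injective e
    rw [h, mapVec_comb, mapVec_v1, mapVec_v2, mapVec_v3]
    simp

/-- transport of the scalars -/
def mapU (e : F ≃+* K) (c : Fin 6 → Fˣ) : Fin 6 → Kˣ := fun i => Units.map e.toMonoidHom (c i)

theorem mapVec_mono (e : F ≃+* K) (σ : Equiv.Perm (Fin 6)) (c : Fin 6 → Fˣ) (x : Fin 6 → F) :
    mapVec e (monomialMap σ c x) = monomialMap σ (mapU e c) (mapVec e x) := by
  ext i
  simp [mapVec, monomialMap, mapU]

theorem pres_map (e : F ≃+* K) (ω : F) (σ : Equiv.Perm (Fin 6)) (c : Fin 6 → Fˣ) :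
    Pres ω σ c ↔ Pres (e ω) σ (mapU e c) := by
  rw [pres_iff, pres_iff, mem_hexacode_map e, mem_hexacode_map e ω (monomialMap σ c (v2 ω)),
    mem_hexacode_map e ω (monomialMap σ c (v3 ω)), mapVec_mono, mapVec_mono, mapVec_mono,
    mapVec_v1, mapVec_v2, mapVec_v3]

theorem mapU_surjective (e : F ≃+* K) : Function.Surjective (mapU e) := by
  intro c
  refine ⟨fun i => Units.map e.symm.toMonoidHom (c i), ?_⟩
  ext i
  simp [mapU]

theorem mapU_injective (e : F ≃+* K) : Function.Injective (mapU e) := by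
  intro c c' h
  ext i
  have := congrArg (fun d : Fin 6 → Kˣ => ((d i : Kˣ) : K)) h
  exact e.injective this

end Cfsg.Agent.Lib.Helper1.Hexa
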