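import Mathlib
import Cfsg.Agent.Lib.Helper1.Hexa1
import Cfsg.Agent.Lib.Helper1.Hexa2

set_option autoImplicit false

namespace Cfsg.Agent.Lib.Helper1.Hexa

open Cfsg

variable {F : Type*} [Field F] [Fintype F]

theorem two_eq_zero (hF : Fintype.card F = 4) : (2 : F) = 0 := by
  have h := FiniteField.cast_card_eq_zero F
  rw [hF] at h
  have h4 : (2 : F) ^ 2 = 0 := by
    have : ((4 : ℕ) : F) = 4 := by norm_cast
    rw [this] at h
    rw [← h]
    norm_num
  exact pow_eq_zero_iff (two_ne_zero) |>.mp h4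

/-- the map from the concrete field -/
def phi (ω : F) : F4 → F
  | F4.z => 0
  | F4.o => 1
  | F4.w => ω
  | F4.w2 => ω ^ 2

theorem F4.add_tbl (a b : F4) : a + b = F4.add a b := rfl
theorem F4.mul_tbl (a b : F4) : a * b = F4.mul a b := rfl

theorem phi_add (hF : Fintype.card F = 4) (ω : F) (hω : ω ^ 2 + ω + 1 = 0) (a b : F4) :
    phi ω (a + b) = phi ω a + phi ω b := by
  have h2 := two_eq_zero hF
  cases a <;> cases b <;> simp only [F4.add_tbl, F4.add, phi] <;> grind

omit [Fintype F] in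
theorem phi_mul (ω : F) (hω : ω ^ 2 + ω + 1 = 0) (a b : F4) :
    phi ω (a * b) = phi ω a * phi ω b := by
  cases a <;> cases b <;> simp only [F4.mul_tbl, F4.mul, phi] <;> grind

/-- the ring homomorphism from the concrete field -/
def phiHom (hF : Fintype.card F = 4) (ω : F) (hω : ω ^ 2 + ω + 1 = 0) : F4 →+* F where
  toFun := phi ω
  map_one' := rfl
  map_mul' := phi_mul ω hω
  map_zero' := rfl
  map_add' := phi_add hF ω hω

theorem phiHom_bijective (hF : Fintype.card F = 4) (ω : F) (hω : ω ^ 2 + ω + 1 = 0) :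
    Function.Bijective (phiHom hF ω hω) := by
  rw [Fintype.bijective_iff_injective_and_card]
  exact ⟨(phiHom hF ω hω).injective, by rw [hF]; rfl⟩

/-- the isomorphism with the concrete field, sending `ω` to `w` -/
noncomputable def toF4 (hF : Fintype.card F = 4) (ω : F) (hω : ω ^ 2 + ω + 1 = 0) : F ≃+* F4 :=
  (RingEquiv.ofBijective (phiHom hF ω hω) (phiHom_bijective hF ω hω)).symm

theorem toF4_omega (hF : Fintype.card F = 4) (ω : F) (hω : ω ^ 2 + ω + 1 = 0) :
    toF4 hF ω hω ω = F4.w := by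
  unfold toF4
  rw [RingEquiv.symm_apply_eq]
  rfl

end Cfsg.Agent.Lib.Helper1.Hexa
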