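import Mathlib
import Cfsg.Agent.Lib.Helper1.Hexa1
import Cfsg.Agent.Lib.Helper1.Hexa2

set_option autoImplicit false
set_option maxRecDepth 100000

namespace Cfsg.Agent.Lib.Helper1.Hexa

open Cfsg F4

/-- Hermitian product -/
def herm (x y : Fin 6 → F4) : F4 :=
  x 0 * (y 0 * y 0) + x 1 * (y 1 * y 1) + x 2 * (y 2 * y 2) + x 3 * (y 3 * y 3) +
    x 4 * (y 4 * y 4) + x 5 * (y 5 * y 5)

/-- the parity checks -/
def chk (x : Fin 6 → F4) : Bool :=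
  decide (herm x (v1 w) = 0) && decide (herm x (v2 w) = 0) && decide (herm x (v3 w) = 0)

theorem chk_comb : ∀ a b c : F4, chk (a • v1 w + b • v2 w + c • v3 w) = true := by
  decide +kernel

theorem chk_solve : ∀ x0 x1 x2 x3 x4 x5 : F4, chk ![x0, x1, x2, x3, x4, x5] = true →
    ![x0, x1, x2, x3, x4, x5] = (w * x0 + w2 * x1) • v1 w + (w2 * x0 + w2 * x1 + x2) • v2 w +
      (x1 + x2) • v3 w := by
  decide +kernel

theorem vec_eta (x : Fin 6 → F4) : x = ![x 0, x 1, x 2, x 3, x 4, x 5] := by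
  ext i
  fin_cases i <;> rfl

theorem chk_iff (x : Fin 6 → F4) : chk x = true ↔ x ∈ hexacode F4 w := by
  rw [mem_hexacode]
  constructor
  · intro h
    rw [vec_eta x] at h
    have := chk_solve _ _ _ _ _ _ h
    rw [← vec_eta x] at this
    exact ⟨_, _, _, this⟩
  · rintro ⟨a, b, c, rfl⟩
    exact chk_comb a b c

/-! ### The weight distribution -/

/-- the weight -/
def wt (x : Fin 6 → F4) : ℕ := (Finset.univ.filter fun i => x i ≠ 0).card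

/-- the list of codewords -/
def cw : Finset (Fin 6 → F4) :=
  Finset.image (fun abc : F4 × F4 × F4 => abc.1 • v1 w + abc.2.1 • v2 w + abc.2.2 • v3 w)
    Finset.univ

theorem mem_cw (x : Fin 6 → F4) : x ∈ cw ↔ x ∈ hexacode F4 w := by
  rw [mem_hexacode]
  unfold cw
  rw [Finset.mem_image]
  constructor
  · rintro ⟨⟨a, b, c⟩, _, h⟩
    exact ⟨a, b, c, h.symm⟩
  · rintro ⟨a, b, c, h⟩
    exact ⟨⟨a, b, c⟩, Finset.mem_univ _, h.symm⟩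

theorem cw_card : cw.card = 64 := by decide +kernel

theorem cw_wt : ∀ abc : F4 × F4 × F4,
    abc.1 • v1 w + abc.2.1 • v2 w + abc.2.2 • v3 w ≠ 0 →
      wt (abc.1 • v1 w + abc.2.1 • v2 w + abc.2.2 • v3 w) = 4 ∨
      wt (abc.1 • v1 w + abc.2.1 • v2 w + abc.2.2 • v3 w) = 6 := by
  decide +kernel

theorem cw_wt4 : (cw.filter (fun x => wt x = 4)).card = 45 := by decide +kernel

theorem cw_wt6 : (cw.filter (fun x => wt x = 6)).card = 18 := by decide +kernel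

/-! ### Monomial maps -/

/-- the units -/
def uu : Fin 3 → F4ˣ
  | 0 => 1
  | 1 => ⟨w, w2, rfl, rfl⟩
  | 2 => ⟨w2, w, rfl, rfl⟩

theorem uu_surj (k : F4ˣ) : ∃ t, uu t = k := by
  have hk : (k : F4) ≠ 0 := k.ne_zero
  rcases h : (k : F4) with _ | _ | _ | _
  · exact absurd h hk
  · exact ⟨0, Units.ext h.symm⟩
  · exact ⟨1, Units.ext h.symm⟩
  · exact ⟨2, Units.ext h.symm⟩

/-- the check that a monomial map preserves the code -/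
def presB (σ : Equiv.Perm (Fin 6)) (t : Fin 6 → Fin 3) : Bool :=
  chk (monomialMap σ (fun i => uu (t i)) (v1 w)) &&
  chk (monomialMap σ (fun i => uu (t i)) (v2 w)) &&
  chk (monomialMap σ (fun i => uu (t i)) (v3 w))

theorem presB_iff (σ : Equiv.Perm (Fin 6)) (t : Fin 6 → Fin 3) :
    presB σ t = true ↔ Pres w σ (fun i => uu (t i)) := by
  rw [pres_iff, ← chk_iff, ← chk_iff, ← chk_iff]
  unfold presB
  rw [Bool.and_eq_true, Bool.and_eq_true, and_assoc]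

theorem diag_const : ∀ t0 t1 t2 t3 t4 t5 : Fin 3,
    presB 1 ![t0, t1, t2, t3, t4, t5] = true →
      (t0 = t1 ∧ t0 = t2 ∧ t0 = t3 ∧ t0 = t4 ∧ t0 = t5) := by
  decide +kernel

theorem swap_not : ∀ t0 t1 t2 t3 t4 t5 : Fin 3,
    presB (Equiv.swap 0 1) ![t0, t1, t2, t3, t4, t5] = false := by
  decide +kernel

/-- witness table for products of two transpositions -/
def wTbl : List ℕ := [0, 0, 0, 0, 0, 0, 0, 0, 0, 0, 0, 0, 0, 0, 0, 0, 0, 0, 0, 0, 0, 0, 0, 0, 0, 0, 0, 0, 0, 0, 0, 0, 0, 0, 0, 0, 0, 0, 567, 405, 63, 45, 0, 0, 405, 567, 45, 63, 567, 405, 0, 0, 366, 723, 405, 567, 0, 0, 723, 366, 63, 45, 366, 723, 0, 0, 45, 63, 723, 366, 0, 0, 0, 405, 0, 567, 132, 552, 405, 0, 567, 0, 552, 132, 0, 567, 0, 405, 420, 426, 567, 0, 405, 0, 426, 420, 132, 552, 420, 426, 0, 405, 552, 132, 426, 420, 405, 0, 0, 567, 405, 0, 210, 312, 567, 0, 0, 405, 312, 210, 405, 0,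 0, 567, 600, 624, 0, 405, 567, 0, 624, 600, 210, 312, 600, 624, 0, 567, 312, 210, 624, 600, 567, 0, 0, 45, 420, 624, 0, 63, 45, 0, 624, 420, 63, 0, 420, 624, 0, 45, 132, 210, 624, 420, 45, 0, 210, 132, 0, 63, 132, 210, 0, 45, 63, 0, 210, 132, 45, 0, 0, 63, 426, 600, 45, 0, 63, 0, 600, 426, 0, 45, 426, 600, 0, 63, 312, 552, 600, 426, 63, 0, 552, 312, 45, 0, 312, 552, 0, 63, 0, 45, 552, 312, 63, 0, 0, 0, 567, 405, 63, 45, 0, 0, 405, 567, 45, 63, 567, 405, 0, 0, 366, 723, 405, 567, 0, 0, 723, 366, 63, 45, 366, 723, 0, 0, 45, 63, 723, 366, 0, 0, 0, 0, 0, 0, 0, 0, 0, 0, 0, 0, 0, 0, 0, 0, 0, 0, 0, 0, 0, 0, 0, 0, 0, 0, 0, 0, 0, 0, 0, 0, 0, 0, 0, 0, 0, 0, 0, 567, 405, 0, 624, 600, 567, 0, 0, 405, 600, 624, 405, 0, 0, 567, 312, 210, 0, 405, 567, 0, 210, 312, 624, 600, 312, 210, 0, 567, 600, 624, 210, 312, 567, 0, 0, 405, 0, 567, 420, 426, 405, 0, 567, 0, 426,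 420, 0, 567, 0, 405, 132, 552, 567, 0, 405, 0, 552, 132, 420, 426, 132, 552, 0, 405, 426, 420, 552, 132, 405, 0, 0, 63, 552, 312, 45, 0, 63, 0, 312, 552, 0, 45, 552, 312, 0, 63, 600, 426, 312, 552, 63, 0, 426, 600, 45, 0, 600, 426, 0, 63, 0, 45, 426, 600, 63, 0, 0, 45, 132, 210, 0, 63, 45, 0, 210, 132, 63, 0, 132, 210, 0, 45, 420, 624, 210, 132, 45, 0, 624, 420, 0, 63, 420, 624, 0, 45, 63, 0, 624, 420, 45, 0, 0, 405, 0, 567, 132, 552, 405, 0, 567, 0, 552, 132, 0, 567, 0, 405, 420, 426, 567, 0, 405, 0, 426, 420, 132, 552, 420, 426, 0, 405, 552, 132, 426, 420, 405, 0, 0, 567, 405, 0, 624, 600, 567, 0, 0, 405, 600, 624, 405, 0, 0, 567, 312, 210, 0, 405, 567, 0, 210, 312, 624, 600, 312, 210, 0, 567, 600, 624, 210, 312, 567, 0, 0, 0, 0, 0, 0, 0, 0, 0, 0, 0, 0, 0, 0, 0, 0, 0, 0, 0, 0, 0, 0, 0, 0, 0, 0, 0, 0, 0, 0, 0, 0, 0, 0, 0, 0, 0, 0, 0, 567, 405, 45, 63,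 0, 0, 405, 567, 63, 45, 567, 405, 0, 0, 723, 366, 405, 567, 0, 0, 366, 723, 45, 63, 723, 366, 0, 0, 63, 45, 366, 723, 0, 0, 0, 366, 132, 600, 420, 312, 366, 0, 600, 132, 312, 420, 132, 600, 0, 366, 0, 723, 600, 132, 366, 0, 723, 0, 420, 312, 0, 723, 0, 366, 312, 420, 723, 0, 366, 0, 0, 723, 552, 624, 210, 426, 723, 0, 624, 552, 426, 210, 552, 624, 0, 723, 366, 0, 624, 552, 723, 0, 0, 366, 210, 426, 366, 0, 0, 723, 426, 210, 0, 366, 723, 0, 0, 567, 405, 0, 210, 312, 567, 0, 0, 405, 312, 210, 405, 0, 0, 567, 600, 624, 0, 405, 567, 0, 624, 600, 210, 312, 600, 624, 0, 567, 312, 210, 624, 600, 567, 0, 0, 405, 0, 567, 420, 426, 405, 0, 567, 0, 426, 420, 0, 567, 0, 405, 132, 552, 567, 0, 405, 0, 552, 132, 420, 426, 132, 552, 0, 405, 426, 420, 552, 132, 405, 0, 0, 0, 567, 405, 45, 63, 0, 0, 405, 567, 63, 45, 567, 405, 0, 0, 723, 366, 405, 567, 0, 0, 366, 723,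 45, 63, 723, 366, 0, 0, 63, 45, 366, 723, 0, 0, 0, 0, 0, 0, 0, 0, 0, 0, 0, 0, 0, 0, 0, 0, 0, 0, 0, 0, 0, 0, 0, 0, 0, 0, 0, 0, 0, 0, 0, 0, 0, 0, 0, 0, 0, 0, 0, 723, 426, 210, 624, 552, 723, 0, 210, 426, 552, 624, 426, 210, 0, 723, 366, 0, 210, 426, 723, 0, 0, 366, 624, 552, 366, 0, 0, 723, 552, 624, 0, 366, 723, 0, 0, 366, 420, 312, 132, 600, 366, 0, 312, 420, 600, 132, 420, 312, 0, 366, 0, 723, 312, 420, 366, 0, 723, 0, 132, 600, 0, 723, 0, 366, 600, 132, 723, 0, 366, 0, 0, 45, 420, 624, 0, 63, 45, 0, 624, 420, 63, 0, 420, 624, 0, 45, 132, 210, 624, 420, 45, 0, 210, 132, 0, 63, 132, 210, 0, 45, 63, 0, 210, 132, 45, 0, 0, 63, 552, 312, 45, 0, 63, 0, 312, 552, 0, 45, 552, 312, 0, 63, 600, 426, 312, 552, 63, 0, 426, 600, 45, 0, 600, 426, 0, 63, 0, 45, 426, 600, 63, 0, 0, 366, 132, 600, 420, 312, 366, 0, 600, 132, 312, 420, 132, 600, 0, 366, 0, 723, 600,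 132, 366, 0, 723, 0, 420, 312, 0, 723, 0, 366, 312, 420, 723, 0, 366, 0, 0, 723, 426, 210, 624, 552, 723, 0, 210, 426, 552, 624, 426, 210, 0, 723, 366, 0, 210, 426, 723, 0, 0, 366, 624, 552, 366, 0, 0, 723, 552, 624, 0, 366, 723, 0, 0, 0, 0, 0, 0, 0, 0, 0, 0, 0, 0, 0, 0, 0, 0, 0, 0, 0, 0, 0, 0, 0, 0, 0, 0, 0, 0, 0, 0, 0, 0, 0, 0, 0, 0, 0, 0, 0, 405, 567, 63, 45, 0, 0, 567, 405, 45, 63, 405, 567, 0, 0, 723, 366, 567, 405, 0, 0, 366, 723, 63, 45, 723, 366, 0, 0, 45, 63, 366, 723, 0, 0, 0, 63, 426, 600, 45, 0, 63, 0, 600, 426, 0, 45, 426, 600, 0, 63, 312, 552, 600, 426, 63, 0, 552, 312, 45, 0, 312, 552, 0, 63, 0, 45, 552, 312, 63, 0, 0, 45, 132, 210, 0, 63, 45, 0, 210, 132, 63, 0, 132, 210, 0, 45, 420, 624, 210, 132, 45, 0, 624, 420, 0, 63, 420, 624, 0, 45, 63, 0, 624, 420, 45, 0, 0, 723, 552, 624, 210, 426, 723, 0, 624, 552, 426, 210, 552, 624, 0, 723,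 366, 0, 624, 552, 723, 0, 0, 366, 210, 426, 366, 0, 0, 723, 426, 210, 0, 366, 723, 0, 0, 366, 420, 312, 132, 600, 366, 0, 312, 420, 600, 132, 420, 312, 0, 366, 0, 723, 312, 420, 366, 0, 723, 0, 132, 600, 0, 723, 0, 366, 600, 132, 723, 0, 366, 0, 0, 0, 405, 567, 63, 45, 0, 0, 567, 405, 45, 63, 405, 567, 0, 0, 723, 366, 567, 405, 0, 0, 366, 723, 63, 45, 723, 366, 0, 0, 45, 63, 366, 723, 0, 0, 0, 0, 0, 0, 0, 0, 0, 0, 0, 0, 0, 0, 0, 0, 0, 0, 0, 0, 0, 0, 0, 0, 0, 0, 0, 0, 0, 0, 0, 0, 0, 0, 0, 0, 0, 0]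

/-- the witness -/
def wit (a b c d : Fin 6) : Fin 6 → Fin 3 := fun i =>
  ⟨(wTbl.getD (a.val * 216 + b.val * 36 + c.val * 6 + d.val) 0 / 3 ^ i.val) % 3,
    Nat.mod_lt _ (by norm_num)⟩

theorem swap_swap : ∀ a b c d : Fin 6, a ≠ b → c ≠ d →
    presB (Equiv.swap a b * Equiv.swap c d) (wit a b c d) = true := by
  decide +kernel

end Cfsg.Agent.Lib.Helper1.Hexa
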