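import Mathlib
import Cfsg.Agent.Lib.Helper1.Hexa3
import Cfsg.Agent.Lib.Helper1.Hexa4

set_option autoImplicit false

namespace Cfsg.Agent.Lib.Helper1.Hexa

open Cfsg

variable {F : Type*} [Field F] [Fintype F]

/-! ### The code itself -/

section code

variable (hF : Fintype.card F = 4) (ω : F) (hω : ω ^ 2 + ω + 1 = 0)

include hF hω in
theorem mem_iff_cw (x : Fin 6 → F) :
    x ∈ hexacode F ω ↔ mapVec (toF4 hF ω hω) x ∈ cw := by
  rw [mem_hexacode_map (toF4 hF ω hω), toF4_omega, mem_cw]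

include hF hω in
theorem card_hexacode : Nat.card ↥(hexacode F ω) = 64 := by
  classical
  have e : ↥(hexacode F ω) ≃ ↥cw :=
    Equiv.subtypeEquiv (Equiv.ofBijective (mapVec (toF4 hF ω hω))
      ⟨mapVec_injective _, mapVec_surjective _⟩) (fun x => mem_iff_cw hF ω hω x)
  rw [Nat.card_congr e, Nat.card_eq_fintype_card, Fintype.card_coe, cw_card]

omit [Fintype F] in
theorem wt_map [DecidableEq F] (e : F ≃+* F4) (x : Fin 6 → F) :
    (Finset.univ.filter fun i => x i ≠ 0).card = wt (mapVec e x) := by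
  unfold wt
  congr 1
  ext i
  simp [mapVec]

include hF hω in
theorem wt_cases [DecidableEq F] (x : Fin 6 → F) (hx : x ∈ hexacode F ω) (hx0 : x ≠ 0) :
    (Finset.univ.filter fun i => x i ≠ 0).card = 4 ∨
      (Finset.univ.filter fun i => x i ≠ 0).card = 6 := by
  rw [wt_map (toF4 hF ω hω)]
  have h1 := (mem_hexacode_map (toF4 hF ω hω) ω x).mp hx
  rw [toF4_omega, mem_hexacode] at h1
  obtain ⟨a, b, c, h⟩ := h1
  have h0 : mapVec (toF4 hF ω hω) x ≠ 0 := by
    intro h'
    apply hx0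
    apply mapVec_injective (toF4 hF ω hω)
    rw [h']
    ext i
    simp [mapVec]
  rw [h] at h0 ⊢
  exact cw_wt ⟨a, b, c⟩ h0

include hF hω in
theorem ncard_wt [DecidableEq F] (k n : ℕ) (hk : (cw.filter (fun x => wt x = k)).card = n) :
    {x : Fin 6 → F | x ∈ hexacode F ω ∧ (Finset.univ.filter fun i => x i ≠ 0).card = k}.ncard =
      n := by
  have himg : mapVec (toF4 hF ω hω) '' {x : Fin 6 → F | x ∈ hexacode F ω ∧
      (Finset.univ.filter fun i => x i ≠ 0).card = k} =
      ((cw.filter (fun x => wt x = k) : Finset (Fin 6 → F4)) : Set (Fin 6 → F4)) := by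
    ext y
    rw [Finset.mem_coe, Finset.mem_filter]
    constructor
    · rintro ⟨x, ⟨h1, h2⟩, rfl⟩
      exact ⟨(mem_iff_cw hF ω hω x).mp h1, by rw [← wt_map]; exact h2⟩
    · rintro ⟨h1, h2⟩
      obtain ⟨x, rfl⟩ := mapVec_surjective (toF4 hF ω hω) y
      exact ⟨x, ⟨(mem_iff_cw hF ω hω x).mpr h1, by rw [wt_map (toF4 hF ω hω)]; exact h2⟩, rfl⟩
  rw [← Set.ncard_image_of_injective _ (mapVec_injective (toF4 hF ω hω)), himg,
    Set.ncard_coe_finset, hk]

end code

/-! ### Monomial automorphisms -/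

section mono

variable (hF : Fintype.card F = 4) (ω : F) (hω : ω ^ 2 + ω + 1 = 0)

theorem tup_eta (t : Fin 6 → Fin 3) : t = ![t 0, t 1, t 2, t 3, t 4, t 5] := by
  ext i
  fin_cases i <;> rfl

omit [Fintype F] in
theorem exists_tup (e : F ≃+* F4) (c : Fin 6 → Fˣ) :
    ∃ t : Fin 6 → Fin 3, mapU e c = fun i => uu (t i) := by
  choose t ht using fun i => uu_surj (mapU e c i)
  exact ⟨t, funext fun i => (ht i).symm⟩

include hF hω in
theorem pres_iff_B (σ : Equiv.Perm (Fin 6)) (c : Fin 6 → Fˣ) (t : Fin 6 → Fin 3)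
    (ht : mapU (toF4 hF ω hω) c = fun i => uu (t i)) :
    Pres ω σ c ↔ presB σ t = true := by
  rw [pres_map (toF4 hF ω hω), toF4_omega, ht, presB_iff]

include hF hω in
theorem diag_scalar (c : Fin 6 → Fˣ) (h : Pres ω 1 c) : ∀ i j, c i = c j := by
  obtain ⟨t, ht⟩ := exists_tup (toF4 hF ω hω) c
  have hB := (pres_iff_B hF ω hω 1 c t ht).mp h
  rw [tup_eta t] at hB
  obtain ⟨h1, h2, h3, h4, h5⟩ := diag_const _ _ _ _ _ _ hB
  have hconst : ∀ i, t i = t 0 := by
    intro i
    fin_cases i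
    · rfl
    · exact h1.symm
    · exact h2.symm
    · exact h3.symm
    · exact h4.symm
    · exact h5.symm
  have hU : ∀ i j, mapU (toF4 hF ω hω) c i = mapU (toF4 hF ω hω) c j := by
    intro i j
    rw [ht]
    show uu (t i) = uu (t j)
    rw [hconst i, hconst j]
  intro i j
  have := hU i j
  unfold mapU at this
  exact Units.map_injective (f := (toF4 hF ω hω).toMonoidHom) (toF4 hF ω hω).injective this

include hF hω in
theorem swap_not_pres (c : Fin 6 → Fˣ) : ¬ Pres ω (Equiv.swap 0 1) c := by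
  intro h
  obtain ⟨t, ht⟩ := exists_tup (toF4 hF ω hω) c
  have hB := (pres_iff_B hF ω hω _ c t ht).mp h
  rw [tup_eta t, swap_not] at hB
  exact Bool.false_ne_true hB

include hF hω in
theorem swap_swap_pres (a b c d : Fin 6) (hab : a ≠ b) (hcd : c ≠ d) :
    ∃ c' : Fin 6 → Fˣ, Pres ω (Equiv.swap a b * Equiv.swap c d) c' := by
  obtain ⟨c', hc'⟩ := mapU_surjective (toF4 hF ω hω) (fun i => uu (wit a b c d i))
  refine ⟨c', ?_⟩
  rw [pres_iff_B hF ω hω _ c' (wit a b c d) hc']
  exact swap_swap a b c d hab hcd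

/-- the permutation parts -/
def Sig (ω : F) : Set (Equiv.Perm (Fin 6)) := {σ | ∃ c, Pres ω σ c}

omit [Fintype F] in
theorem Sig_mul {σ τ : Equiv.Perm (Fin 6)} (h1 : σ ∈ Sig ω) (h2 : τ ∈ Sig ω) : σ * τ ∈ Sig ω := by
  obtain ⟨c1, h1⟩ := h1
  obtain ⟨c2, h2⟩ := h2
  exact ⟨_, pres_mul h1 h2⟩

include hF hω in
theorem alt_le_Sig : ∀ σ : Equiv.Perm (Fin 6), σ ∈ alternatingGroup (Fin 6) → σ ∈ Sig ω := by
  intro σ hσ
  suffices hind : ∀ (n : ℕ) (l : List (Equiv.Perm (Fin 6))) (_ : ∀ g, g ∈ l → g.IsSwap)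
      (_ : l.length = 2 * n), l.prod ∈ Sig ω by
    obtain ⟨l, rfl, hl⟩ := Equiv.Perm.truncSwapFactors σ
    obtain ⟨n, hn⟩ := (Equiv.Perm.prod_list_swap_mem_alternatingGroup_iff_even_length hl).1 hσ
    rw [← two_mul] at hn
    exact hind n l hl hn
  intro n
  induction n with
  | zero =>
    intro l _ hn
    rw [List.length_eq_zero_iff.1 hn, List.prod_nil]
    exact ⟨_, pres_one ω⟩
  | succ n ih =>
    intro l hl hn
    rw [Nat.mul_succ] at hn
    obtain ⟨a, l, rfl⟩ := l.exists_of_length_succ hn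
    rw [List.length_cons, Nat.succ_inj] at hn
    obtain ⟨b, l, rfl⟩ := l.exists_of_length_succ hn
    rw [List.length_cons, Nat.succ_inj] at hn
    rw [List.prod_cons, List.prod_cons, ← mul_assoc]
    apply Sig_mul
    · obtain ⟨x, y, hxy, rfl⟩ := hl a (by simp)
      obtain ⟨x', y', hxy', rfl⟩ := hl b (by simp)
      exact swap_swap_pres hF ω hω x y x' y' hxy hxy'
    · exact ih l (fun g hg => hl g (by simp [hg])) hn

include hF hω in
theorem Sig_eq : Sig ω = (alternatingGroup (Fin 6) : Set (Equiv.Perm (Fin 6))) := by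
  apply Set.Subset.antisymm
  · intro σ hσ
    by_contra hodd
    have hs : Equiv.Perm.sign σ = -1 := by
      rcases Int.units_eq_one_or (Equiv.Perm.sign σ) with h | h
      · exact absurd (Equiv.Perm.mem_alternatingGroup.mpr h) hodd
      · exact h
    have hτ : σ⁻¹ * Equiv.swap 0 1 ∈ alternatingGroup (Fin 6) := by
      have h01 : (0 : Fin 6) ≠ 1 := by decide
      rw [Equiv.Perm.mem_alternatingGroup, map_mul, map_inv, hs, Equiv.Perm.sign_swap h01]
      rfl
    have := Sig_mul ω hσ (alt_le_Sig hF ω hω _ hτ)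
    rw [mul_inv_cancel_left] at this
    obtain ⟨c, hc⟩ := this
    exact swap_not_pres hF ω hω c hc
  · intro σ hσ
    exact alt_le_Sig hF ω hω σ hσ

omit [Fintype F] in
theorem mono_injective (σ : Equiv.Perm (Fin 6)) (c : Fin 6 → Fˣ) :
    Function.Injective (monomialMap σ c : (Fin 6 → F) → (Fin 6 → F)) := by
  intro x y h
  ext i
  have := congrFun h (σ i)
  simp only [monomialMap, Equiv.symm_apply_apply] at this
  exact (Units.mul_right_inj (c (σ i))).mp this

omit [Fintype F] in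
theorem pres_surj [Finite F] {σ : Equiv.Perm (Fin 6)} {c : Fin 6 → Fˣ} (h : Pres ω σ c)
    (y : Fin 6 → F) (hy : y ∈ hexacode F ω) : ∃ x ∈ hexacode F ω, monomialMap σ c x = y := by
  let f : ↥(hexacode F ω) → ↥(hexacode F ω) := fun x => ⟨monomialMap σ c x.1, h x.1 x.2⟩
  have hinj : Function.Injective f := by
    intro x x' hxx
    apply Subtype.ext
    apply mono_injective σ c
    exact congrArg Subtype.val hxx
  obtain ⟨x, hx⟩ := Finite.surjective_of_injective hinj ⟨y, hy⟩
  exact ⟨x.1, x.2, congrArg Subtype.val hx⟩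

include hF hω in
/-- two scalings with the same permutation part differ by a scalar -/
theorem ratio_const {σ : Equiv.Perm (Fin 6)} {c c₀ : Fin 6 → Fˣ} (h : Pres ω σ c)
    (h₀ : Pres ω σ c₀) : ∀ i, c i = (c 0 * (c₀ 0)⁻¹) * c₀ i := by
  have hD : Pres ω 1 (fun i => c i * (c₀ i)⁻¹) := by
    intro y hy
    obtain ⟨x, hx, rfl⟩ := pres_surj ω h₀ y hy
    rw [mono_comp]
    have e : (fun i => c i * (c₀ i)⁻¹ * c₀ ((1 : Equiv.Perm (Fin 6)).symm i)) = c := by
      funext i
      show c i * (c₀ i)⁻¹ * c₀ i = c i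
      rw [inv_mul_cancel_right]
    rw [e, one_mul]
    exact h x hx
  have hconst := diag_scalar hF ω hω _ hD
  intro i
  have := hconst i 0
  rw [← this, inv_mul_cancel_right]

include hF hω in
theorem card_mono : Nat.card {f : Equiv.Perm (Fin 6) × (Fin 6 → Fˣ) // Pres ω f.1 f.2} = 1080 := by
  classical
  have hSig := Sig_eq hF ω hω
  have hex : ∀ σ : alternatingGroup (Fin 6), ∃ c, Pres ω σ.1 c := by
    intro σ
    have : σ.1 ∈ Sig ω := by rw [hSig]; exact σ.2
    exact this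
  choose c₀ hc₀ using hex
  let e : {f : Equiv.Perm (Fin 6) × (Fin 6 → Fˣ) // Pres ω f.1 f.2} ≃
      (alternatingGroup (Fin 6)) × Fˣ :=
    { toFun := fun f =>
        (⟨f.1.1, by
          have : f.1.1 ∈ Sig ω := ⟨f.1.2, f.2⟩
          rw [hSig] at this
          exact this⟩, f.1.2 0 * (c₀ ⟨f.1.1, by
          have : f.1.1 ∈ Sig ω := ⟨f.1.2, f.2⟩
          rw [hSig] at this
          exact this⟩ 0)⁻¹)
      invFun := fun p => ⟨(p.1.1, fun i => p.2 * c₀ p.1 i), pres_smul p.2 (hc₀ p.1)⟩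
      left_inv := by
        rintro ⟨⟨σ, c⟩, h⟩
        apply Subtype.ext
        apply Prod.ext
        · rfl
        · funext i
          have hσ : σ ∈ alternatingGroup (Fin 6) := by
            have : σ ∈ Sig ω := ⟨c, h⟩
            rw [hSig] at this
            exact this
          exact (ratio_const hF ω hω h (hc₀ ⟨σ, hσ⟩) i).symm
      right_inv := by
        rintro ⟨σ, k⟩
        apply Prod.ext
        · rfl
        · show k * c₀ σ 0 * (c₀ σ 0)⁻¹ = k
          rw [mul_inv_cancel_right] }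
  rw [Nat.card_congr e, Nat.card_prod, nat_card_alternatingGroup, Nat.card_eq_fintype_card,
    Nat.card_eq_fintype_card, Fintype.card_units, hF, Fintype.card_fin]
  rfl

end mono

end Cfsg.Agent.Lib.Helper1.Hexa
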