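import Mathlib
import Cfsg.Prelude.Def_Characters
import Cfsg.Agent.Lib.Helper1.CharFound1

/-!
# Cutting a character with an idempotent of the group algebra

If `j` is an idempotent of `ℂ[G]` commuting with a subgroup `R` and `χ` is the character of the
representation `ρ` on `V`, then `u ↦ χ (u j)` is the character of `R` on `ρ(j) V`.
-/

set_option autoImplicit false

namespace Cfsg.Agent.Lib.Helper1.IdemCut

open Cfsg

variable {G : Type*} [Group G] [Fintype G]

/-- the trace of the action of an element of the group algebra -/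
theorem trace_asAlgebraHom {V : Type*} [AddCommGroup V] [Module ℂ V]
    (ρ : Representation ℂ G V) (x : MonoidAlgebra ℂ G) :
    LinearMap.trace ℂ V (ρ.asAlgebraHom x) = ∑ g : G, x.coeff g * ρ.character g := by
  rw [Representation.asAlgebraHom_def, MonoidAlgebra.lift_apply, Finsupp.sum_fintype]
  · rw [map_sum]
    apply Finset.sum_congr rfl
    intro g _
    rw [map_smul, smul_eq_mul]
    rfl
  · intro g
    rw [zero_smul]

theorem isCharacter_idem_cut (R : Subgroup G) (χ : G → ℂ)
    (hχ : Cfsg.IsCharacter G χ) (j : MonoidAlgebra ℂ G) (hj : j * j = j)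
    (hR : ∀ u ∈ R, MonoidAlgebra.of ℂ G u * j = j * MonoidAlgebra.of ℂ G u) :
    Cfsg.IsCharacter R (fun u : R => ∑ g : G, (MonoidAlgebra.of ℂ G (u : G) * j).coeff g * χ g) := by
  obtain ⟨n, ρ, rfl⟩ := hχ
  obtain ⟨A, hAdef⟩ : ∃ A : Module.End ℂ (Fin n → ℂ), A = ρ.asAlgebraHom j := ⟨_, rfl⟩
  have hA : A * A = A := by
    rw [hAdef, ← map_mul, hj]
  have hcomm : ∀ u ∈ R, ρ u * A = A * ρ u := by
    intro u hu
    rw [hAdef, ← Representation.asAlgebraHom_of, ← map_mul, ← map_mul, hR u hu]
  have hAA : ∀ v, A (A v) = A v := fun v => by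
    have := LinearMap.congr_fun hA v
    exact this
  have hfix : ∀ w ∈ LinearMap.range A, A w = w := by
    rintro w ⟨v, rfl⟩
    exact hAA v
  -- the representation of `R`
  let ρR : Representation ℂ R (Fin n → ℂ) := ρ.comp R.subtype
  have hinv : ∀ (u : R) ⦃v : Fin n → ℂ⦄, v ∈ LinearMap.range A → (ρR u) v ∈ LinearMap.range A := by
    rintro u v ⟨v', rfl⟩
    refine ⟨ρ u v', ?_⟩
    have := LinearMap.congr_fun (hcomm u u.2) v'
    exact this.symm
  let S : Subrepresentation ρR := ⟨LinearMap.range A, hinv⟩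
  have hfd : FiniteDimensional ℂ S.toSubmodule := by
    show FiniteDimensional ℂ (LinearMap.range A)
    infer_instance
  have hchar := Cfsg.Agent.Lib.Helper1.isCharacter_character S.toRepresentation
  convert hchar using 1
  funext u
  -- the trace on the range
  have hmem : ∀ x, ((ρ u) ∘ₗ A) x ∈ LinearMap.range A := by
    intro x
    refine ⟨ρ u x, ?_⟩
    have := LinearMap.congr_fun (hcomm u u.2) x
    exact this.symm
  have hmem' : ∀ x ∈ LinearMap.range A, ((ρ u) ∘ₗ A) x ∈ LinearMap.range A := fun x _ => hmem x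
  have h1 := LinearMap.trace_restrict_eq_of_forall_mem (LinearMap.range A) ((ρ u) ∘ₗ A) hmem hmem'
  have h2 : S.toRepresentation u = ((ρ u) ∘ₗ A).restrict hmem' := by
    apply LinearMap.ext
    intro w
    apply Subtype.ext
    show (ρ u) w.1 = (ρ u) (A w.1)
    rw [hfix w.1 w.2]
  have h3 : ρ u ∘ₗ A = ρ.asAlgebraHom (MonoidAlgebra.of ℂ G (u : G) * j) := by
    rw [map_mul, Representation.asAlgebraHom_of, hAdef]
    rfl
  show _ = LinearMap.trace ℂ _ (S.toRepresentation u)
  rw [h2, h1, h3, trace_asAlgebraHom]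

end Cfsg.Agent.Lib.Helper1.IdemCut
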