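import Cfsg.Agent.Lib.Helper1.J1Ord2

/-!
# A group generated by two elements with the coded matrices is simple of order 175560
-/

set_option autoImplicit false

namespace Cfsg.Agent.Lib.Helper1.J1D

open Cfsg.Agent.Lib.Helper1.MatCode Cfsg.Agent.Lib.Helper1.SylowChain

section abstract

variable {Γ : Type*} [Group Γ] (φ : Γ →* Mat) (x y : Γ)
variable (hx : φ x = D cX) (hy : φ y = D cY) (hφ : Function.Injective φ)
include hx hy hφ

theorem orderOf_wp (w : List ℕ) (q : ℕ) (hq : q.Prime) (h : ordChk w 1 q = true) :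
    orderOf (wp x y w) = q := by
  have := orderOf_of_ordChk φ x y hx hy hφ w 1 q hq h
  rwa [pow_one] at this

theorem dvd_card_of_ordChk (w : List ℕ) (q : ℕ) (hq : q.Prime) (h : ordChk w 1 q = true) :
    q ∣ Nat.card Γ := by
  have h1 := orderOf_wp φ x y hx hy hφ w q hq h
  have h2 := orderOf_dvd_natCard (wp x y w)
  rwa [h1] at h2

theorem card_eq (hgen : Subgroup.closure ({x, y} : Set Γ) = ⊤) : Nat.card Γ = 175560 := by
  haveI : Finite Γ := Finite.of_injective φ hφ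
  have hle := card_le φ x y hx hy hφ hgen
  have d19 : 19 ∣ Nat.card Γ := dvd_card_of_ordChk φ x y hx hy hφ _ 19 (by norm_num) ord_19
  have d11 : 11 ∣ Nat.card Γ := dvd_card_of_ordChk φ x y hx hy hφ _ 11 (by norm_num) ord_11
  have d7 : 7 ∣ Nat.card Γ := dvd_card_of_ordChk φ x y hx hy hφ _ 7 (by norm_num) ord_7
  have d5 : 5 ∣ Nat.card Γ := dvd_card_of_ordChk φ x y hx hy hφ _ 5 (by norm_num) ord_5
  have d3 : 3 ∣ Nat.card Γ := dvd_card_of_ordChk φ x y hx hy hφ _ 3 (by norm_num) ord_3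
  have d8 : 8 ∣ Nat.card Γ := by
    have h := card_E8 φ x y hx hy hφ
    have h' := Subgroup.card_subgroup_dvd_card (E8 x y)
    rwa [h] at h'
  have e1 : 8 * 3 ∣ Nat.card Γ := Nat.Coprime.mul_dvd_of_dvd_of_dvd (by norm_num) d8 d3
  have e2 : 8 * 3 * 5 ∣ Nat.card Γ := Nat.Coprime.mul_dvd_of_dvd_of_dvd (by norm_num) e1 d5
  have e3 : 8 * 3 * 5 * 7 ∣ Nat.card Γ := Nat.Coprime.mul_dvd_of_dvd_of_dvd (by norm_num) e2 d7
  have e4 : 8 * 3 * 5 * 7 * 11 ∣ Nat.card Γ := Nat.Coprime.mul_dvd_of_dvd_of_dvd (by norm_num) e3 d11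
  have e5 : 8 * 3 * 5 * 7 * 11 * 19 ∣ Nat.card Γ :=
    Nat.Coprime.mul_dvd_of_dvd_of_dvd (by norm_num) e4 d19
  have hpos : 0 < Nat.card Γ := Nat.card_pos
  have h6 : 175560 ∣ Nat.card Γ := by
    have e : (175560 : ℕ) = 8 * 3 * 5 * 7 * 11 * 19 := by norm_num
    rw [e]; exact e5
  exact le_antisymm hle (Nat.le_of_dvd hpos h6)

theorem simple (hgen : Subgroup.closure ({x, y} : Set Γ) = ⊤) : IsSimpleGroup Γ := by
  haveI : Finite Γ := Finite.of_injective φ hφ
  apply simple_175560 (card_eq φ x y hx hy hφ hgen) (wp x y wa) (wp x y w3) (wp x y [1])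
    (wp x y [0]) (wp x y w11) (wp x y w19) (E8 x y)
    (orderOf_wp φ x y hx hy hφ _ 3 (by norm_num) ord_3)
    (orderOf_wp φ x y hx hy hφ _ 5 (by norm_num) ord_5)
    (orderOf_wp φ x y hx hy hφ _ 7 (by norm_num) ord_7)
    (orderOf_wp φ x y hx hy hφ _ 11 (by norm_num) ord_11)
    (orderOf_wp φ x y hx hy hφ _ 19 (by norm_num) ord_19)
    (card_E8 φ x y hx hy hφ) (E8_conj φ x y hx hy hφ)
  · exact chain_step φ x y hx hy hφ wrP2 whP2 whiP2 1 19 (by norm_num) chainP2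
  · exact chain_step φ x y hx hy hφ wrP3 whP3 whiP3 1 19 (by norm_num) chainP3
  · exact chain_step φ x y hx hy hφ wrP5 whP5 whiP5 1 19 (by norm_num) chainP5
  · exact chain_step φ x y hx hy hφ wrP7 whP7 whiP7 1 19 (by norm_num) chainP7
  · exact chain_step φ x y hx hy hφ wrP11 whP11 whiP11 1 19 (by norm_num) chainP11
  · intro N hN hr
    exact ⟨chain_step φ x y hx hy hφ w19 whQ2 whiQ2 3 2 (by norm_num) chainQ2 N hN hr,
      chain_step φ x y hx hy hφ w19 whQ3 whiQ3 2 3 (by norm_num) chainQ3 N hN hr,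
      chain_step φ x y hx hy hφ w19 whQ5 whiQ5 1 5 (by norm_num) chainQ5 N hN hr,
      chain_step φ x y hx hy hφ w19 whQ7 whiQ7 1 7 (by norm_num) chainQ7 N hN hr,
      chain_step φ x y hx hy hφ w19 whQ11 whiQ11 1 11 (by norm_num) chainQ11 N hN hr⟩

end abstract

end Cfsg.Agent.Lib.Helper1.J1D
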