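import Cfsg.Agent.Lib.Helper1.SylowChain

/-!
# Simplicity of a group of order 60 from explicit Sylow subgroups and fusion data;
the centralizer of an involution as a direct product
-/

set_option autoImplicit false

namespace Cfsg.Agent.Lib.Helper1.SylowChain

open Subgroup

theorem prime_dvd_60 {p : ℕ} (hp : p.Prime) (h : p ∣ 60) : p = 2 ∨ p = 3 ∨ p = 5 := by
  have e : (60 : ℕ) = 2 ^ 2 * 3 * 5 := by norm_num
  rw [e] at h
  rcases (Nat.Prime.dvd_mul hp).mp h with h | h
  · rcases (Nat.Prime.dvd_mul hp).mp h with h | h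
    · left; exact (Nat.prime_dvd_prime_iff_eq hp Nat.prime_two).mp (hp.dvd_of_dvd_pow h)
    · right; left; exact (Nat.prime_dvd_prime_iff_eq hp (by norm_num)).mp h
  · right; right; exact (Nat.prime_dvd_prime_iff_eq hp (by norm_num)).mp h

/-- simplicity of a group of order `60` from explicit Sylow subgroups and fusion data -/
theorem simple_60 {G : Type*} [Group G] [Finite G] (hcard : Nat.card G = 60)
    (r2 r3 r5 : G) (E : Subgroup G)
    (h3 : orderOf r3 = 3) (h5 : orderOf r5 = 5) (hE : Nat.card E = 4)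
    (hE2 : ∀ u ∈ E, u ≠ 1 → ∃ g : G, u = g * r2 * g⁻¹)
    (c2 : ∀ N : Subgroup G, N.Normal → r2 ∈ N → 5 ∣ Nat.card N)
    (c3 : ∀ N : Subgroup G, N.Normal → r3 ∈ N → 5 ∣ Nat.card N)
    (d3 : ∀ N : Subgroup G, N.Normal → r5 ∈ N → 3 ∣ Nat.card N)
    (e2 : ∀ N : Subgroup G, N.Normal → r3 ∈ N → 2 ∣ Nat.card N) :
    IsSimpleGroup G := by
  have hnt : Nontrivial G := by
    rw [← Finite.one_lt_card_iff_nontrivial, hcard]; norm_num
  have f2 : (Nat.card G).factorization 2 = 2 := by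
    rw [hcard, show (60 : ℕ) = 2 ^ 2 * 15 by norm_num]
    exact factorization_pow_mul Nat.prime_two 2 15 (by decide)
  have fq : ∀ q m : ℕ, q.Prime → 60 = q ^ 1 * m → ¬ q ∣ m → (Nat.card G).factorization q = 1 := by
    intro q m hq e hm
    rw [hcard, e]
    exact factorization_pow_mul hq 1 m hm
  have f3 := fq 3 20 (by norm_num) (by norm_num) (by decide)
  have f5 := fq 5 12 (by norm_num) (by norm_num) (by decide)
  have cyc : ∀ (q : ℕ) (r : G) (N : Subgroup G), q.Prime → orderOf r = q →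
      (Nat.card G).factorization q = 1 → N.Normal → q ∣ Nat.card N → r ∈ N := by
    intro q r N hq hr hf hN hdvd
    have : Fact q.Prime := ⟨hq⟩
    have hQ : Nat.card (zpowers r) = q ^ (Nat.card G).factorization q := by
      rw [hf, pow_one, Nat.card_zpowers, hr]
    obtain ⟨u, huN, huQ, hne⟩ := exists_mem_sylow_of_dvd (zpowers r) hQ N hdvd
    exact mem_of_mem_zpowers_prime hr huQ hne N huN
  have two : ∀ N : Subgroup G, N.Normal → 2 ∣ Nat.card N → r2 ∈ N := by
    intro N hN hdvd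
    have : Fact (Nat.Prime 2) := ⟨Nat.prime_two⟩
    have hQ : Nat.card E = 2 ^ (Nat.card G).factorization 2 := by rw [f2, hE]; norm_num
    obtain ⟨u, huN, huE, hne⟩ := exists_mem_sylow_of_dvd E hQ N hdvd
    obtain ⟨g, hg⟩ := hE2 u huE hne
    have h1 : r2 = g⁻¹ * u * g⁻¹⁻¹ := by rw [hg]; group
    rw [h1]
    exact hN.conj_mem u huN g⁻¹
  refine ⟨fun N hN => ?_⟩
  by_cases hbot : N = ⊥
  · exact Or.inl hbot
  right
  have hne1 : Nat.card N ≠ 1 := fun h => hbot (Subgroup.eq_bot_of_card_eq N h)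
  obtain ⟨p, hp, hpN⟩ := Nat.exists_prime_and_dvd hne1
  have hNG : Nat.card N ∣ 60 := hcard ▸ Subgroup.card_subgroup_dvd_card N
  have h5N : 5 ∣ Nat.card N := by
    rcases prime_dvd_60 hp (dvd_trans hpN hNG) with rfl | rfl | rfl
    · exact c2 N hN (two N hN hpN)
    · exact c3 N hN (cyc 3 r3 N hp h3 f3 hN hpN)
    · exact hpN
  have hr5 : r5 ∈ N := cyc 5 r5 N (by norm_num) h5 f5 hN h5N
  have h3N : 3 ∣ Nat.card N := d3 N hN hr5
  have hr3 : r3 ∈ N := cyc 3 r3 N (by norm_num) h3 f3 hN h3N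
  have h2N : 2 ∣ Nat.card N := e2 N hN hr3
  have hr2 : r2 ∈ N := two N hN h2N
  have hEN : E ≤ N := by
    intro e he
    by_cases h1 : e = 1
    · rw [h1]; exact N.one_mem
    · obtain ⟨g, hg⟩ := hE2 e he h1
      rw [hg]
      exact hN.conj_mem r2 hr2 g
  have d4 : 4 ∣ Nat.card N := hE ▸ Subgroup.card_dvd_of_le hEN
  have e1 : 4 * 3 ∣ Nat.card N := Nat.Coprime.mul_dvd_of_dvd_of_dvd (by norm_num) d4 h3N
  have e2' : 4 * 3 * 5 ∣ Nat.card N := Nat.Coprime.mul_dvd_of_dvd_of_dvd (by norm_num) e1 h5N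
  have e6 : Nat.card N = 60 := Nat.dvd_antisymm hNG (by norm_num at e2' ⊢; exact e2')
  exact (Subgroup.card_eq_iff_eq_top N).mp (by rw [e6, hcard])

/-- the centralizer of an involution `τ` containing a subgroup `K` of half its order
with `τ ∉ K` is the direct product -/
theorem centralizer_iso {Γ : Type*} [Group Γ] [Finite Γ] (τ : Γ) (K : Subgroup Γ)
    (hτ : orderOf τ = 2) (hK : K ≤ centralizer ({τ} : Set Γ)) (hτK : τ ∉ K)
    (hcard : Nat.card (centralizer ({τ} : Set Γ)) ≤ 2 * Nat.card K) :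
    Nonempty (↥(centralizer ({τ} : Set Γ)) ≃* Multiplicative (ZMod 2) × ↥K) := by
  have hZ : zpowers τ ≤ centralizer ({τ} : Set Γ) := by
    rw [zpowers_le, mem_centralizer_iff]
    intro h hh
    rw [Set.mem_singleton_iff.mp hh]
  let f : ↥(zpowers τ) →* ↥(centralizer ({τ} : Set Γ)) := Subgroup.inclusion hZ
  let g : ↥K →* ↥(centralizer ({τ} : Set Γ)) := Subgroup.inclusion hK
  have comm : ∀ (m : ↥(zpowers τ)) (n : ↥K), Commute (f m) (g n) := by
    intro m n
    apply Subtype.ext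
    show (m : Γ) * (n : Γ) = (n : Γ) * (m : Γ)
    obtain ⟨k, hk⟩ := mem_zpowers_iff.mp m.2
    have h1 : Commute τ (n : Γ) := by
      have := mem_centralizer_iff.mp (hK n.2) τ (Set.mem_singleton τ)
      exact this
    rw [← hk]
    exact (h1.zpow_left k).eq
  let ψ := MonoidHom.noncommCoprod f g comm
  have hZ2 : ∀ z ∈ zpowers τ, z = 1 ∨ z = τ := by
    intro z hz
    obtain ⟨k, rfl⟩ := mem_zpowers_iff.mp hz
    rcases Int.emod_two_eq_zero_or_one k with h | h
    · left
      have : k = 2 * (k / 2) := by omega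
      rw [this, zpow_mul, zpow_ofNat, ← hτ, pow_orderOf_eq_one, one_zpow]
    · right
      have : k = 2 * (k / 2) + 1 := by omega
      rw [this, zpow_add, zpow_mul, zpow_ofNat, ← hτ, pow_orderOf_eq_one, one_zpow, one_mul, zpow_one]
  have hinj : Function.Injective ψ := by
    rw [MonoidHom.noncommCoprod_injective]
    refine ⟨Subgroup.inclusion_injective hZ, Subgroup.inclusion_injective hK, ?_⟩
    rw [disjoint_iff_inf_le]
    rintro c ⟨⟨m, hm⟩, ⟨n, hn⟩⟩
    rw [mem_bot]
    have h1 : (c : Γ) = m := by rw [← hm]; rfl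
    have h2 : (c : Γ) = n := by rw [← hn]; rfl
    rcases hZ2 m m.2 with h3 | h3
    · apply Subtype.ext; rw [h1, h3]; rfl
    · exfalso
      apply hτK
      rw [← h3, ← h1, h2]
      exact n.2
  have hcardZ : Nat.card ↥(zpowers τ) = 2 := by rw [Nat.card_zpowers, hτ]
  have hbij : Function.Bijective ψ := by
    apply Function.Injective.bijective_of_nat_card_le hinj
    rw [Nat.card_prod, hcardZ]
    exact hcard
  have e1 : (↥(zpowers τ) × ↥K) ≃* ↥(centralizer ({τ} : Set Γ)) := MulEquiv.ofBijective ψ hbij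
  have : Fact (Nat.Prime 2) := ⟨Nat.prime_two⟩
  have e2 : ↥(zpowers τ) ≃* Multiplicative (ZMod 2) :=
    mulEquivOfPrimeCardEq (p := 2) hcardZ (by simp)
  exact ⟨e1.symm.trans (MulEquiv.prodCongr e2 (MulEquiv.refl _))⟩

end Cfsg.Agent.Lib.Helper1.SylowChain
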