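import Cfsg.Agent.Lib.Helper1.J1Chk3
import Cfsg.Agent.Lib.Helper1.J1Ord3
import Cfsg.Agent.Lib.Helper1.Sylow60
import Cfsg.Agent.S0494

/-!
# The centralizer of an involution in a group generated by two elements with the coded matrices
-/

set_option autoImplicit false

namespace Cfsg.Agent.Lib.Helper1.J1D

open Cfsg.Agent.Lib.Helper1.MatCode Cfsg.Agent.Lib.Helper1.SylowChain

theorem canon_inv' : ∀ c ∈ [cXi, cYi, cT, cU, cV], Canon 7 11 c := canon_of_all 7 11 canon_inv

theorem canon_cU : Canon 7 11 cU := canon_inv' cU (by simp)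
theorem canon_cV : Canon 7 11 cV := canon_inv' cV (by simp)
theorem canon_cXi : Canon 7 11 cXi := canon_inv' cXi (by simp)
theorem canon_cYi : Canon 7 11 cYi := canon_inv' cYi (by simp)

theorem sCanon_Cf (k : ℕ) (hk : k < 1463) : Canon 7 11 (Cf k) ∧ Cf k < W ^ (7 * 7) := by
  have h := canon_Cf
  rw [List.all_eq_true] at h
  have h1 := h k (List.mem_range.mpr hk)
  unfold sCanonB at h1
  rw [Bool.and_eq_true, decide_eq_true_eq] at h1
  exact ⟨canon_of_canonB 7 11 h1.1, h1.2⟩

section abstract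

variable {Γ : Type*} [Group Γ] (φ : Γ →* Mat) (x y : Γ)

/-- the involution -/
def tau : Γ := wp x y wt

/-- the generator of order 5 -/
def uu : Γ := wp x y wu

/-- the generator of order 3 -/
def vv : Γ := wp x y wv

/-- the subgroup of order 60 of the centralizer -/
def KK : Subgroup Γ := Subgroup.closure {uu x y, vv x y}

/-- the first generator in the subgroup -/
def uK : ↥(KK x y) := ⟨uu x y, Subgroup.subset_closure (by simp)⟩

/-- the second generator in the subgroup -/
def vK : ↥(KK x y) := ⟨vv x y, Subgroup.subset_closure (by simp)⟩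

/-- the evaluation on the subgroup -/
def phiKK : ↥(KK x y) →* Mat := φ.comp (KK x y).subtype

theorem closure_uK_vK : Subgroup.closure {g | g ∈ [uK x y, vK x y]} = ⊤ := by
  have h := Subgroup.closure_closure_coe_preimage (k := ({uu x y, vv x y} : Set Γ))
  have e : ((↑) ⁻¹' ({uu x y, vv x y} : Set Γ) : Set ↥(KK x y)) = {g | g ∈ [uK x y, vK x y]} := by
    ext g
    simp only [Set.mem_preimage, Set.mem_insert_iff, Set.mem_singleton_iff, uK, vK, Set.mem_setOf_eq,
      List.mem_cons, List.not_mem_nil, or_false]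
    constructor
    · rintro (h | h)
      · left; exact Subtype.ext h
      · right; exact Subtype.ext h
    · rintro (h | h)
      · left; rw [h]
      · right; rw [h]
  rw [← e]
  exact h

variable (hx : φ x = D cX) (hy : φ y = D cY) (hφ : Function.Injective φ)
include hx hy

theorem phi_tau : φ (tau x y) = D cT := by
  rw [tau, phi_wp φ x y hx hy, ev_wt]

theorem phi_uu : φ (uu x y) = D cU := by
  rw [uu, phi_wp φ x y hx hy, ev_wu]

theorem phi_vv : φ (vv x y) = D cV := by
  rw [vv, phi_wp φ x y hx hy, ev_wv]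

theorem hGK : ∀ i, ∀ (h : i < [uK x y, vK x y].length) (h' : i < gensK.length),
    phiKK φ x y [uK x y, vK x y][i] = D gensK[i] := by
  intro i h h'
  have hi : i < 2 := h
  interval_cases i
  · exact phi_uu φ x y hx hy
  · exact phi_vv φ x y hx hy

omit hx hy in
theorem hcanK : ∀ c ∈ gensK, Canon 7 11 c := by
  intro c hc
  simp only [gensK, List.mem_cons, List.not_mem_nil, or_false] at hc
  rcases hc with rfl | rfl
  · exact canon_cU
  · exact canon_cV

include hφ

omit hx hy in
theorem phiKK_injective : Function.Injective (phiKK φ x y) := by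
  intro a b h
  exact Subtype.ext (hφ h)

theorem orderOf_tau : orderOf (tau x y) = 2 :=
  orderOf_wp φ x y hx hy hφ wt 2 Nat.prime_two ord_t

theorem KK_le : KK x y ≤ Subgroup.centralizer ({tau x y} : Set Γ) := by
  unfold KK
  rw [Subgroup.closure_le]
  intro g hg
  rw [SetLike.mem_coe, Subgroup.mem_centralizer_iff]
  intro h hh
  rw [Set.mem_singleton_iff.mp hh]
  rcases hg with rfl | hg
  · apply hφ
    have h1 : φ (wp x y (wu ++ wt)) = φ (wp x y (wt ++ wu)) := by
      rw [phi_wp φ x y hx hy, phi_wp φ x y hx hy, comm_ut]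
    unfold wp at h1
    rw [wordProd_append, wordProd_append] at h1
    exact h1.symm
  · rw [Set.mem_singleton_iff.mp hg]
    apply hφ
    have h1 : φ (wp x y (wv ++ wt)) = φ (wp x y (wt ++ wv)) := by
      rw [phi_wp φ x y hx hy, phi_wp φ x y hx hy, comm_vt]
    unfold wp at h1
    rw [wordProd_append, wordProd_append] at h1
    exact h1.symm

theorem card_centralizer_le (hgen : Subgroup.closure ({x, y} : Set Γ) = ⊤) :
    Nat.card (Subgroup.centralizer ({tau x y} : Set Γ)) ≤ 120 := by
  haveI : Finite Γ := Finite.of_injective φ hφ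
  have hinvX : φ x⁻¹ = D cXi := by
    have h1 : D cX * D cXi = 1 := by rw [← hmu _ _ canon_cXi, inv_X, D_c1]
    calc φ x⁻¹ = φ x⁻¹ * (D cX * D cXi) := by rw [h1, mul_one]
      _ = D cXi := by rw [← mul_assoc, ← hx, ← map_mul, inv_mul_cancel, map_one, one_mul]
  have hinvY : φ y⁻¹ = D cYi := by
    have h1 : D cY * D cYi = 1 := by rw [← hmu _ _ canon_cYi, inv_Y, D_c1]
    calc φ y⁻¹ = φ y⁻¹ * (D cY * D cYi) := by rw [h1, mul_one]
      _ = D cYi := by rw [← mul_assoc, ← hy, ← map_mul, inv_mul_cancel, map_one, one_mul]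
  have key := chkConjTree_sound D mul7 (Canon 7 11) hmu φ (tau x y) (Cf := Cf) (N := 1463)
    (S := [(cX, cXi), (cY, cYi)]) (cp := cpf)
    (by rw [Cf_zero, phi_tau φ x y hx hy]) (fun k hk => (sCanon_Cf k hk).1)
    (by
      intro p hp
      simp only [List.mem_cons, List.not_mem_nil, or_false] at hp
      rcases hp with rfl | rfl
      · exact ⟨canon_cX, x, hx, hinvX⟩
      · exact ⟨canon_cY, y, hy, hinvY⟩)
    conj_tree
  have hsg : ∀ j, j < 1463 → sgf j < 1463 := by
    intro j hj
    have h := sgf_lt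
    rw [List.all_eq_true] at h
    exact of_decide_eq_true (h j (List.mem_range.mpr hj))
  choose! g hg using key
  have hinj : Function.Injective (fun j : Fin 1463 => (g (sgf j))⁻¹ * tau x y * g (sgf j)) := by
    intro j k hjk
    have h1 := congrArg φ hjk
    rw [← hg _ (hsg j j.2), ← hg _ (hsg k k.2)] at h1
    have h2 := eq_of_dec_eq 7 11 (sCanon_Cf _ (hsg j j.2)).1 (sCanon_Cf _ (hsg k k.2)).1
      (sCanon_Cf _ (hsg j j.2)).2 (sCanon_Cf _ (hsg k k.2)).2 h1
    exact Fin.ext (chkSorted_inj sorted_Cf j k j.2 k.2 h2)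
  have h3 := card_centralizer_mul_le (tau x y) 1463 (fun j => g (sgf j)) hinj
  rw [card_eq φ x y hx hy hφ hgen] at h3
  omega

theorem card_KK : Nat.card (KK x y) = 60 := by
  haveI : Finite Γ := Finite.of_injective φ hφ
  have hle : Nat.card (KK x y) ≤ 60 := by
    have := card_le_list (phiKK φ x y) [uK x y, vK x y] gensK rfl (hGK φ x y hx hy) hcanK
      (phiKK_injective φ x y hφ) (closure_uK_vK x y) L60 head_L60 (by rw [len_L60]; decide) rc_L60
    rwa [len_L60] at this
  have d5 : 5 ∣ Nat.card (KK x y) := by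
    have h1 := orderOf_wordProd (phiKK φ x y) [uK x y, vK x y] gensK rfl (hGK φ x y hx hy) hcanK
      (phiKK_injective φ x y hφ) [0] 5 (by norm_num) ordK_5
    rw [← h1]
    exact orderOf_dvd_natCard _
  have d3 : 3 ∣ Nat.card (KK x y) := by
    have h1 := orderOf_wordProd (phiKK φ x y) [uK x y, vK x y] gensK rfl (hGK φ x y hx hy) hcanK
      (phiKK_injective φ x y hφ) [1] 3 (by norm_num) ordK_3
    rw [← h1]
    exact orderOf_dvd_natCard _
  have d4 : 4 ∣ Nat.card (KK x y) := by
    have h1 := card_subW (phiKK φ x y) [uK x y, vK x y] gensK rfl (hGK φ x y hx hy) hcanK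
      (phiKK_injective φ x y hφ) ws4 L4 sub_L4
    have h2 := Subgroup.card_subgroup_dvd_card (subW [uK x y, vK x y] ws4)
    rw [h1] at h2
    exact h2
  have e1 : 4 * 3 ∣ Nat.card (KK x y) := Nat.Coprime.mul_dvd_of_dvd_of_dvd (by norm_num) d4 d3
  have e2 : 4 * 3 * 5 ∣ Nat.card (KK x y) := Nat.Coprime.mul_dvd_of_dvd_of_dvd (by norm_num) e1 d5
  have hpos : 0 < Nat.card (KK x y) := Nat.card_pos
  exact le_antisymm hle (Nat.le_of_dvd hpos (by norm_num at e2 ⊢; exact e2))

theorem simple_KK : IsSimpleGroup (KK x y) := by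
  haveI : Finite Γ := Finite.of_injective φ hφ
  have hinjK := phiKK_injective φ x y hφ
  have hGK' := hGK φ x y hx hy
  apply simple_60 (card_KK φ x y hx hy hφ) (wordProd [uK x y, vK x y] waK)
    (wordProd [uK x y, vK x y] [1]) (wordProd [uK x y, vK x y] [0]) (subW [uK x y, vK x y] ws4)
    (orderOf_wordProd (phiKK φ x y) [uK x y, vK x y] gensK rfl hGK' hcanK hinjK [1] 3 (by norm_num) ordK_3)
    (orderOf_wordProd (phiKK φ x y) [uK x y, vK x y] gensK rfl hGK' hcanK hinjK [0] 5 (by norm_num) ordK_5)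
    (card_subW (phiKK φ x y) [uK x y, vK x y] gensK rfl hGK' hcanK hinjK ws4 L4 sub_L4)
  · intro u hu hne
    have hh : wordProd [uK x y, vK x y] whK * wordProd [uK x y, vK x y] whiK = 1 := by
      have := eq_one_of_evG (phiKK φ x y) [uK x y, vK x y] gensK rfl hGK' hcanK hinjK _ inv_hK
      rwa [wordProd_append] at this
    have hi : (wordProd [uK x y, vK x y] whK)⁻¹ = wordProd [uK x y, vK x y] whiK :=
      inv_eq_of_mul_eq_one_right hh
    rcases subW_mem (phiKK φ x y) [uK x y, vK x y] gensK rfl hGK' hcanK hinjK ws4 L4 sub_L4 u hu with h1 | ⟨w, hw, h1⟩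
    · exact absurd h1 hne
    · simp only [ws4, List.mem_cons, List.not_mem_nil, or_false] at hw
      rcases hw with rfl | rfl | rfl
      · exact ⟨1, by rw [h1]; group⟩
      · refine ⟨wordProd [uK x y, vK x y] whK, ?_⟩
        rw [h1, hi, wordProd_append, wordProd_append]
      · refine ⟨wordProd [uK x y, vK x y] whK * wordProd [uK x y, vK x y] whK, ?_⟩
        rw [h1, mul_inv_rev, hi, wordProd_append, wordProd_append, wordProd_append, wordProd_append]
        group
  · exact chain_stepG (phiKK φ x y) [uK x y, vK x y] gensK rfl hGK' hcanK hinjK wr_c2 wg_c2 wgi_c2 1 5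
      (by norm_num) chain_c2
  · exact chain_stepG (phiKK φ x y) [uK x y, vK x y] gensK rfl hGK' hcanK hinjK wr_c3 wg_c3 wgi_c3 1 5
      (by norm_num) chain_c3
  · exact chain_stepG (phiKK φ x y) [uK x y, vK x y] gensK rfl hGK' hcanK hinjK wr_d3 wg_d3 wgi_d3 1 3
      (by norm_num) chain_d3
  · exact chain_stepG (phiKK φ x y) [uK x y, vK x y] gensK rfl hGK' hcanK hinjK wr_e2 wg_e2 wgi_e2 1 2
      (by norm_num) chain_e2

theorem tau_not_mem : tau x y ∉ KK x y := by
  intro h
  obtain ⟨a, ha, h1⟩ := mem_list (phiKK φ x y) [uK x y, vK x y] gensK rfl (hGK φ x y hx hy) hcanK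
    (closure_uK_vK x y) L60 head_L60 (by rw [len_L60]; decide) rc_L60 ⟨tau x y, h⟩
  have h2 : phiKK φ x y ⟨tau x y, h⟩ = D cT := phi_tau φ x y hx hy
  rw [h2] at h1
  have h3 := ne_L60
  rw [List.all_eq_true] at h3
  exact dec_ne_of_neB 7 11 (h3 a ha) h1

theorem centralizer_tau (hgen : Subgroup.closure ({x, y} : Set Γ) = ⊤) :
    Nonempty (↥(Subgroup.centralizer ({tau x y} : Set Γ)) ≃*
      Multiplicative (ZMod 2) × ↥(alternatingGroup (Fin 5))) := by
  haveI : Finite Γ := Finite.of_injective φ hφ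
  obtain ⟨e1⟩ := centralizer_iso (tau x y) (KK x y) (orderOf_tau φ x y hx hy hφ)
    (KK_le φ x y hx hy hφ) (tau_not_mem φ x y hx hy hφ)
    (by rw [card_KK φ x y hx hy hφ]; exact card_centralizer_le φ x y hx hy hφ hgen)
  haveI := simple_KK φ x y hx hy hφ
  obtain ⟨e2⟩ := Cfsg.Agent.S0494.result (card_KK φ x y hx hy hφ)
  exact ⟨e1.trans (MulEquiv.prodCongr (MulEquiv.refl _) e2)⟩

end abstract

end Cfsg.Agent.Lib.Helper1.J1D
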