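import Cfsg.Agent.Lib.Helper1.MatCode4
import Cfsg.Agent.Lib.Helper1.J1Data1

/-!
# Kernel checks for the coset certificate of the subgroup `19:6` in the 7-dimensional matrix group
-/

set_option autoImplicit false

namespace Cfsg.Agent.Lib.Helper1.J1D

open Cfsg.Agent.Lib.Helper1.MatCode

set_option maxRecDepth 100000

theorem canon_T : (List.range 1540).all (fun k => canonB 7 11 (Tf k)) = true := by decide +kernel

theorem canon_gens : [cX, cY, c1, cG19, cG6].all (canonB 7 11) = true := by decide +kernel

theorem rc_A_19 : chkRC mul7 A cG19 = true := by decide +kernel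

theorem rc_A_6 : chkRC mul7 A cG6 = true := by decide +kernel

theorem tree_A : chkTree mul7 A [cG19, cG6] parA = true := by decide +kernel

theorem step_X : chkStepF mul7 A Tf 1540 cX cfX = true := by decide +kernel

theorem step_Y : chkStepF mul7 A Tf 1540 cY cfY = true := by decide +kernel

theorem len_A : A.length = 114 := by decide +kernel

theorem head_A : A.getD 0 0 = c1 := by decide +kernel

theorem head_T : Tf 0 = c1 := by decide +kernel

end Cfsg.Agent.Lib.Helper1.J1D
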