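import Cfsg.Agent.Lib.Helper1.J1Ord1

set_option autoImplicit false

namespace Cfsg.Agent.Lib.Helper1.J1D

open Cfsg.Agent.Lib.Helper1.MatCode

set_option maxRecDepth 100000

def L8 : List ℕ := [1552518092300708935148979488462502555261448457734318806357693209631751244011283522646056911356325244493385211710467269360504281643289121631706751492258654289023305257803255618840597233219186495885247194578646068107521576667956903937, 15525180923007089351489794884625025552614484577343188063576932096317512440112835226460569113563252444933852117104672338986987048882578305805706613630062297172579618389012544653765334120695921480894427915101720545664077040141742374913, 1552518092300708935148979488462502555302510423292918563325463754083053865935443249482663434105434143379462540830493034749498596035857886794068929447215911595264154657999148226314719683316308275995242962277936107198924073777057759233, 1552518092300708935148979488462502555261448457734318806357693209631751244011404192917426394730221410718369064325614938270945380734001544196061148661053562971596759451352528096469310809629979024668295698685323906596062810379091181578,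 15525180923007089351489794884625025552573422611784588306609161551866209818188675499623962590814143546047774787984647282834104269590635361666066238260153531301645637366856675115572488093590686656700520208771910777394951996108294848513, 1552518092300708935148979488462502555302510423292918563325463754083053865935322579211293950731537977154478688215345365839057496945145464229714532278421004996948306736141393372963736263287857106071918439701410978946894982502257000458, 15525180923007089351489794884625025552573422611784588306609161551866209818188796169895332074188039712272758640599794242508433833580721963207698832843899946464654616910674406899642195090627250876832839274555847977165446568079270084618, 15525180923007089351489794884625025552614484577343188063576932096317512440112714556189199630189356278708868264489525379312657484892491704264074019046315879925313032573503295245417896967277015901902384867787630635657070325734433619978]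

def wa : List ℕ := [0, 1, 0, 0, 1, 1, 1, 1, 0]
def w3 : List ℕ := [0, 0, 0, 1, 0, 1, 0, 1]
def w11 : List ℕ := [0, 1, 1]
def w19 : List ℕ := [0, 0, 0, 1]

def waI (i : ℕ) : List ℕ := List.replicate i 0 ++ wa ++ List.replicate (7 - i) 0

theorem L8_canon : L8.all (canonB 7 11) = true := by decide +kernel

theorem L8_rc : (L8.tail).all (fun s => chkRC mul7 L8 s) = true := by decide +kernel

theorem L8_ne : (List.range 8).all (fun i => (List.range 8).all (fun j => i == j || neB 7 11 (L8.getD i 0) (L8.getD j 0))) = true := by decide +kernel

theorem L8_ev : (List.range 7).all (fun i => ev (waI i) == L8.getD (i + 1) 0) = true := by decide +kernel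

theorem L8_head : L8.getD 0 0 = c1 := by decide +kernel

theorem ord_7 : ordChk [0] 1 7 = true := by decide +kernel

theorem ord_5 : ordChk [1] 1 5 = true := by decide +kernel

theorem ord_19 : ordChk w19 1 19 = true := by decide +kernel

theorem ord_11 : ordChk w11 1 11 = true := by decide +kernel

theorem ord_3 : ordChk w3 1 3 = true := by decide +kernel

theorem ord_2 : ordChk wa 1 2 = true := by decide +kernel

def whP2 : List ℕ := [1]
def whiP2 : List ℕ := [1, 1, 1, 1]
def wrP2 : List ℕ := [0, 1, 0, 0, 1, 1, 1, 1, 0]

theorem chainP2 : (ev (whP2 ++ whiP2) == c1 && ordChk (wrP2 ++ whP2 ++ wrP2 ++ whiP2) 1 19) = true := by decide +kernel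

def whP3 : List ℕ := [1, 0, 1, 0]
def whiP3 : List ℕ := [0, 0, 0, 0, 0, 0, 1, 1, 1, 1, 0, 0, 0, 0, 0, 0, 1, 1, 1, 1]
def wrP3 : List ℕ := [0, 0, 0, 1, 0, 1, 0, 1]

theorem chainP3 : (ev (whP3 ++ whiP3) == c1 && ordChk (wrP3 ++ whP3 ++ wrP3 ++ whiP3) 1 19) = true := by decide +kernel

def whP5 : List ℕ := [0]
def whiP5 : List ℕ := [0, 0, 0, 0, 0, 0]
def wrP5 : List ℕ := [1]

theorem chainP5 : (ev (whP5 ++ whiP5) == c1 && ordChk (wrP5 ++ whP5 ++ wrP5 ++ whiP5) 1 19) = true := by decide +kernel

def whP7 : List ℕ := [1, 1]
def whiP7 : List ℕ := [1, 1, 1, 1, 1, 1, 1, 1]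
def wrP7 : List ℕ := [0]

theorem chainP7 : (ev (whP7 ++ whiP7) == c1 && ordChk (wrP7 ++ whP7 ++ wrP7 ++ whiP7) 1 19) = true := by decide +kernel

def whP11 : List ℕ := [0]
def whiP11 : List ℕ := [0, 0, 0, 0, 0, 0]
def wrP11 : List ℕ := [0, 1, 1]

theorem chainP11 : (ev (whP11 ++ whiP11) == c1 && ordChk (wrP11 ++ whP11 ++ wrP11 ++ whiP11) 1 19) = true := by decide +kernel

def whQ2 : List ℕ := [1]
def whiQ2 : List ℕ := [1, 1, 1, 1]

theorem chainQ2 : (ev (whQ2 ++ whiQ2) == c1 && ordChk (w19 ++ whQ2 ++ w19 ++ whiQ2) 3 2) = true := by decide +kernel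

def whQ3 : List ℕ := [1]
def whiQ3 : List ℕ := [1, 1, 1, 1]

theorem chainQ3 : (ev (whQ3 ++ whiQ3) == c1 && ordChk (w19 ++ whQ3 ++ w19 ++ whiQ3) 2 3) = true := by decide +kernel

def whQ5 : List ℕ := [0]
def whiQ5 : List ℕ := [0, 0, 0, 0, 0, 0]

theorem chainQ5 : (ev (whQ5 ++ whiQ5) == c1 && ordChk (w19 ++ whQ5 ++ w19 ++ whiQ5) 1 5) = true := by decide +kernel

def whQ7 : List ℕ := [0, 1, 0]
def whiQ7 : List ℕ := [0, 0, 0, 0, 0, 0, 1, 1, 1, 1, 0, 0, 0, 0, 0, 0]

theorem chainQ7 : (ev (whQ7 ++ whiQ7) == c1 && ordChk (w19 ++ whQ7 ++ w19 ++ whiQ7) 1 7) = true := by decide +kernel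

def whQ11 : List ℕ := [0, 1, 0, 0]
def whiQ11 : List ℕ := [0, 0, 0, 0, 0, 0, 0, 0, 0, 0, 0, 0, 1, 1, 1, 1, 0, 0, 0, 0, 0, 0]

theorem chainQ11 : (ev (whQ11 ++ whiQ11) == c1 && ordChk (w19 ++ whQ11 ++ w19 ++ whiQ11) 1 11) = true := by decide +kernel

theorem ev_x7 : ev (List.replicate 7 0) = c1 := by decide +kernel

end Cfsg.Agent.Lib.Helper1.J1D
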