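import Cfsg.Agent.Lib.Helper1.J1Gen
import Cfsg.Agent.Lib.Helper1.J1Data2

/-!
# Kernel checks for the class of an involution and the subgroup of order 60 in its centralizer
-/

set_option autoImplicit false

namespace Cfsg.Agent.Lib.Helper1.J1D

open Cfsg.Agent.Lib.Helper1.MatCode

set_option maxRecDepth 100000

/-- the coded generators of the subgroup of order 60 -/
def gensK : List ℕ := [cU, cV]

theorem ev_wt : ev wt = cT := by decide +kernel
theorem ev_wu : ev wu = cU := by decide +kernel
theorem ev_wv : ev wv = cV := by decide +kernel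

theorem Cf_zero : Cf 0 = cT := by decide +kernel

theorem canon_Cf : (List.range 1463).all (fun k => sCanonB 7 11 (Cf k)) = true := by decide +kernel

theorem canon_inv : [cXi, cYi, cT, cU, cV].all (canonB 7 11) = true := by decide +kernel

theorem inv_X : mul7 cX cXi = c1 := by decide +kernel
theorem inv_Y : mul7 cY cYi = c1 := by decide +kernel

theorem conj_tree : chkConjTree mul7 Cf 1463 [(cX, cXi), (cY, cYi)] cpf = true := by decide +kernel

theorem sorted_Cf : chkSorted Cf sgf 1463 = true := by decide +kernel

theorem sgf_lt : (List.range 1463).all (fun j => decide (sgf j < 1463)) = true := by decide +kernel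

theorem ord_t : ordChk wt 1 2 = true := by decide +kernel

theorem comm_ut : ev (wu ++ wt) = ev (wt ++ wu) := by decide +kernel
theorem comm_vt : ev (wv ++ wt) = ev (wt ++ wv) := by decide +kernel

theorem rc_L60 : gensK.all (fun s => chkRC mul7 L60 s) = true := by decide +kernel
theorem head_L60 : L60.getD 0 0 = c1 := by decide +kernel
theorem len_L60 : L60.length = 60 := by decide +kernel

theorem ne_L60 : L60.all (fun a => neB 7 11 cT a) = true := by decide +kernel

theorem ordK_5 : ordChkG gensK [0] 1 5 = true := by decide +kernel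
theorem ordK_3 : ordChkG gensK [1] 1 3 = true := by decide +kernel
theorem ordK_2 : ordChkG gensK waK 1 2 = true := by decide +kernel

/-- the words of the involutions of the four-group -/
def ws4 : List (List ℕ) := [waK, whK ++ waK ++ whiK, whK ++ whK ++ waK ++ whiK ++ whiK]

theorem sub_L4 : subChk gensK ws4 L4 = true := by decide +kernel

theorem inv_hK : evG gensK (whK ++ whiK) = c1 := by decide +kernel

theorem chain_c2 : (evG gensK (wg_c2 ++ wgi_c2) == c1 &&
    ordChkG gensK (wr_c2 ++ wg_c2 ++ wr_c2 ++ wgi_c2) 1 5) = true := by decide +kernel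
theorem chain_c3 : (evG gensK (wg_c3 ++ wgi_c3) == c1 &&
    ordChkG gensK (wr_c3 ++ wg_c3 ++ wr_c3 ++ wgi_c3) 1 5) = true := by decide +kernel
theorem chain_d3 : (evG gensK (wg_d3 ++ wgi_d3) == c1 &&
    ordChkG gensK (wr_d3 ++ wg_d3 ++ wr_d3 ++ wgi_d3) 1 3) = true := by decide +kernel
theorem chain_e2 : (evG gensK (wg_e2 ++ wgi_e2) == c1 &&
    ordChkG gensK (wr_e2 ++ wg_e2 ++ wr_e2 ++ wgi_e2) 1 2) = true := by decide +kernel

end Cfsg.Agent.Lib.Helper1.J1D
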