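import Cfsg.Agent.Lib.Helper1.J1Ord1
import Cfsg.Agent.Lib.Helper1.MatCode5

/-!
# Words in arbitrary coded `7 × 7` matrices over `ZMod 11`: orders, normal closures, explicit subgroups
-/

set_option autoImplicit false

namespace Cfsg.Agent.Lib.Helper1.J1D

open Cfsg.Agent.Lib.Helper1.MatCode

/-- evaluation of a word in the coded generators `gens` -/
def evG (gens : List ℕ) (w : List ℕ) : ℕ := evalW mul7 gens c1 w

/-- the `m`-th power of the word `w` has prime order `q` -/
def ordChkG (gens : List ℕ) (w : List ℕ) (m q : ℕ) : Bool :=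
  (pw (pw (evG gens w) m) q == c1) && neB 7 11 (pw (evG gens w) m) c1

theorem canon_evG (gens : List ℕ) (w : List ℕ) : Canon 7 11 (evG gens w) :=
  canon_evalW mul7 (Canon 7 11) hC canon_c1 gens w

/-- explicit subgroup check: the literal list `L` is `c1` followed by the values of the words `ws`,
is closed under right multiplication by its members, and its members are pairwise different -/
def subChk (gens : List ℕ) (ws : List (List ℕ)) (L : List ℕ) : Bool :=
  (L == c1 :: ws.map (evG gens)) && L.all (canonB 7 11) && L.tail.all (fun s => chkRC mul7 L s) &&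
  (List.range L.length).all (fun i => (List.range L.length).all
    (fun j => i == j || neB 7 11 (L.getD i 0) (L.getD j 0)))

theorem one_mem_AT_of_head {L : List ℕ} (h0 : L.getD 0 0 = c1) (hpos : 0 < L.length) :
    (1 : Mat) ∈ AT D L [c1] := by
  refine ⟨c1, ?_, c1, List.mem_singleton.mpr rfl, by rw [D_c1, one_mul]⟩
  rw [← h0, List.getD_eq_getElem _ _ hpos]
  exact List.getElem_mem _

section abstract

variable {Γ : Type*} [Group Γ] (φ : Γ →* Mat) (G : List Γ) (gens : List ℕ)
variable (hlen : G.length = gens.length)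
  (hG : ∀ i, ∀ (h : i < G.length) (h' : i < gens.length), φ G[i] = D gens[i])
  (hcan : ∀ c ∈ gens, Canon 7 11 c)
include hlen hG hcan

theorem phi_wordProd (w : List ℕ) : φ (wordProd G w) = D (evG gens w) :=
  dec_evalW D mul7 (Canon 7 11) hmu φ D_c1 canon_c1 G gens hlen hG hcan w

theorem phi_wordProd_pow (w : List ℕ) (m : ℕ) : φ (wordProd G w ^ m) = D (pw (evG gens w) m) := by
  rw [map_pow, phi_wordProd φ G gens hlen hG hcan, D_pw _ _ (canon_evG gens w)]

theorem eq_one_of_evG (hφ : Function.Injective φ) (w : List ℕ) (h : evG gens w = c1) :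
    wordProd G w = 1 := by
  apply hφ
  rw [phi_wordProd φ G gens hlen hG hcan, h, D_c1, map_one]

theorem eq_of_evG (hφ : Function.Injective φ) (w w' : List ℕ) (h : evG gens w = evG gens w') :
    wordProd G w = wordProd G w' := by
  apply hφ
  rw [phi_wordProd φ G gens hlen hG hcan, phi_wordProd φ G gens hlen hG hcan, h]

theorem orderOf_of_ordChkG (hφ : Function.Injective φ) (w : List ℕ) (m q : ℕ) (hq : q.Prime)
    (h : ordChkG gens w m q = true) : orderOf (wordProd G w ^ m) = q := by
  unfold ordChkG at h
  rw [Bool.and_eq_true, beq_iff_eq] at h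
  have : Fact q.Prime := ⟨hq⟩
  apply orderOf_eq_prime
  · apply hφ
    rw [map_pow, phi_wordProd_pow φ G gens hlen hG hcan, ← D_pw _ _ (canon_pw _ _), h.1, D_c1, map_one]
  · intro h1
    have h2 := congrArg φ h1
    rw [phi_wordProd_pow φ G gens hlen hG hcan, map_one, ← D_c1] at h2
    exact dec_ne_of_neB 7 11 h.2 h2

theorem orderOf_wordProd (hφ : Function.Injective φ) (w : List ℕ) (q : ℕ) (hq : q.Prime)
    (h : ordChkG gens w 1 q = true) : orderOf (wordProd G w) = q := by
  have := orderOf_of_ordChkG φ G gens hlen hG hcan hφ w 1 q hq h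
  rwa [pow_one] at this

theorem chain_stepG (hφ : Function.Injective φ) (wr wh whi : List ℕ) (m q : ℕ) (hq : q.Prime)
    (h : (evG gens (wh ++ whi) == c1 && ordChkG gens (wr ++ wh ++ wr ++ whi) m q) = true)
    (N : Subgroup Γ) (hN : N.Normal) (hr : wordProd G wr ∈ N) : q ∣ Nat.card N := by
  rw [Bool.and_eq_true, beq_iff_eq] at h
  have h1 : wordProd G wh * wordProd G whi = 1 := by
    have := eq_one_of_evG φ G gens hlen hG hcan hφ _ h.1
    rwa [wordProd_append] at this
  have h2 : (wordProd G wh)⁻¹ = wordProd G whi := inv_eq_of_mul_eq_one_right h1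
  have h3 := orderOf_of_ordChkG φ G gens hlen hG hcan hφ _ m q hq h.2
  have h4 : wordProd G (wr ++ wh ++ wr ++ whi) =
      wordProd G wr * (wordProd G wh * wordProd G wr * (wordProd G wh)⁻¹) := by
    rw [h2, wordProd_append, wordProd_append, wordProd_append]
    group
  have h5 : wordProd G (wr ++ wh ++ wr ++ whi) ∈ N := by
    rw [h4]
    exact N.mul_mem hr (hN.conj_mem _ hr _)
  rw [← h3]
  exact Subgroup.orderOf_dvd_natCard N (N.pow_mem h5 m)

/-- a list closed under right multiplication by the generators bounds the group -/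
theorem card_le_list (hφ : Function.Injective φ) (hgen : Subgroup.closure {g | g ∈ G} = ⊤)
    (L : List ℕ) (h0 : L.getD 0 0 = c1) (hpos : 0 < L.length)
    (hrc : gens.all (fun s => chkRC mul7 L s) = true) : Nat.card Γ ≤ L.length := by
  have hstep : ∀ u ∈ {g | g ∈ G}, ∀ q ∈ AT D L [c1], q * φ u ∈ AT D L [c1] := by
    rintro u hu q ⟨a, ha, t, ht, rfl⟩
    rw [List.mem_singleton.mp ht, D_c1, mul_one]
    obtain ⟨i, hi, rfl⟩ := List.getElem_of_mem hu
    have hi' : i < gens.length := by omega
    rw [hG i hi hi']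
    rw [List.all_eq_true] at hrc
    obtain ⟨q', hq', h4⟩ := chkRC_sound D mul7 (Canon 7 11) hmu (hcan _ (List.getElem_mem hi'))
      (hrc _ (List.getElem_mem hi')) a ha
    exact ⟨q', hq', c1, List.mem_singleton.mpr rfl, by rw [h4, D_c1, mul_one]⟩
  have h1 := card_le_of_closure_eq_top φ hφ (AT_finite D L [c1]) (one_mem_AT_of_head h0 hpos) _ hstep hgen
  have h2 := AT_ncard_le D L [c1]
  simp only [List.length_singleton, mul_one] at h2
  exact le_trans h1 h2

/-- a list closed under right multiplication by the generators contains the codes of all elements -/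
theorem mem_list (hgen : Subgroup.closure {g | g ∈ G} = ⊤)
    (L : List ℕ) (h0 : L.getD 0 0 = c1) (hpos : 0 < L.length)
    (hrc : gens.all (fun s => chkRC mul7 L s) = true) (g : Γ) : ∃ a ∈ L, φ g = D a := by
  have hstep : ∀ u ∈ {g | g ∈ G}, ∀ q ∈ AT D L [c1], q * φ u ∈ AT D L [c1] := by
    rintro u hu q ⟨a, ha, t, ht, rfl⟩
    rw [List.mem_singleton.mp ht, D_c1, mul_one]
    obtain ⟨i, hi, rfl⟩ := List.getElem_of_mem hu
    have hi' : i < gens.length := by omega
    rw [hG i hi hi']
    rw [List.all_eq_true] at hrc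
    obtain ⟨q', hq', h4⟩ := chkRC_sound D mul7 (Canon 7 11) hmu (hcan _ (List.getElem_mem hi'))
      (hrc _ (List.getElem_mem hi')) a ha
    exact ⟨q', hq', c1, List.mem_singleton.mpr rfl, by rw [h4, D_c1, mul_one]⟩
  have h1 := subgroup_closure_subset φ (AT_finite D L [c1]) (one_mem_AT_of_head h0 hpos) _ hstep g
    (by rw [hgen]; exact Subgroup.mem_top g)
  obtain ⟨a, ha, t, ht, h2⟩ := h1
  rw [List.mem_singleton.mp ht, D_c1, mul_one] at h2
  exact ⟨a, ha, h2⟩

/-- the subgroup generated by the values of the words `ws` -/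
def subW (ws : List (List ℕ)) : Subgroup Γ := Subgroup.closure {g | ∃ w ∈ ws, g = wordProd G w}

theorem subW_mem (hφ : Function.Injective φ) (ws : List (List ℕ)) (L : List ℕ)
    (h : subChk gens ws L = true) (u : Γ) (hu : u ∈ subW G ws) :
    u = 1 ∨ ∃ w ∈ ws, u = wordProd G w := by
  unfold subChk at h
  simp only [Bool.and_eq_true, beq_iff_eq] at h
  obtain ⟨⟨⟨hL, hcanL⟩, hrc⟩, -⟩ := h
  have h0 : L.getD 0 0 = c1 := by rw [hL]; rfl
  have hpos : 0 < L.length := by rw [hL]; simp
  have htail : L.tail = ws.map (evG gens) := by rw [hL]; rfl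
  have hstep : ∀ u ∈ {g | ∃ w ∈ ws, g = wordProd G w}, ∀ q ∈ AT D L [c1], q * φ u ∈ AT D L [c1] := by
    rintro u ⟨w, hw, rfl⟩ q ⟨a, ha, t, ht, rfl⟩
    rw [List.mem_singleton.mp ht, D_c1, mul_one, phi_wordProd φ G gens hlen hG hcan]
    rw [List.all_eq_true] at hrc
    have hmem : evG gens w ∈ L.tail := by rw [htail]; exact List.mem_map_of_mem hw
    obtain ⟨q', hq', h4⟩ := chkRC_sound D mul7 (Canon 7 11) hmu (canon_evG gens w) (hrc _ hmem) a ha
    exact ⟨q', hq', c1, List.mem_singleton.mpr rfl, by rw [h4, D_c1, mul_one]⟩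
  have h1 := subgroup_closure_subset φ (AT_finite D L [c1]) (one_mem_AT_of_head h0 hpos) _ hstep u hu
  obtain ⟨a, ha, t, ht, h2⟩ := h1
  rw [List.mem_singleton.mp ht, D_c1, mul_one] at h2
  rw [hL, List.mem_cons] at ha
  rcases ha with rfl | ha
  · left
    apply hφ
    rw [h2, D_c1, map_one]
  · right
    rw [List.mem_map] at ha
    obtain ⟨w, hw, rfl⟩ := ha
    refine ⟨w, hw, ?_⟩
    apply hφ
    rw [h2, phi_wordProd φ G gens hlen hG hcan]

theorem card_subW (hφ : Function.Injective φ) (ws : List (List ℕ)) (L : List ℕ)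
    (h : subChk gens ws L = true) : Nat.card (subW G ws) = ws.length + 1 := by
  haveI : Finite Γ := Finite.of_injective φ hφ
  have hmem := subW_mem φ G gens hlen hG hcan hφ ws L h
  unfold subChk at h
  simp only [Bool.and_eq_true, beq_iff_eq] at h
  obtain ⟨⟨⟨hL, hcanL⟩, hrc⟩, hne⟩ := h
  have hlenL : L.length = ws.length + 1 := by rw [hL]; simp
  -- the elements
  let el : ℕ → Γ := fun i => match i with
    | 0 => 1
    | i + 1 => wordProd G (ws.getD i [])
  have hel : ∀ i, i < ws.length + 1 → φ (el i) = D (L.getD i 0) := by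
    intro i hi
    cases i with
    | zero => show φ 1 = _; rw [map_one, hL]; exact D_c1.symm
    | succ i =>
      show φ (wordProd G (ws.getD i [])) = _
      have hi' : i < ws.length := by omega
      have e1 : (List.map (evG gens) ws).getD i 0 = evG gens ws[i] := by
        rw [List.getD_eq_getElem _ _ (by simpa using hi'), List.getElem_map]
      have e2 : ws.getD i [] = ws[i] := List.getD_eq_getElem _ _ hi'
      rw [phi_wordProd φ G gens hlen hG hcan, hL, List.getD_cons_succ, e1, e2]
  have helmem : ∀ i, i < ws.length + 1 → el i ∈ subW G ws := by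
    intro i hi
    cases i with
    | zero => exact Subgroup.one_mem _
    | succ i =>
      have hi' : i < ws.length := by omega
      apply Subgroup.subset_closure
      exact ⟨ws.getD i [], by rw [List.getD_eq_getElem _ _ hi']; exact List.getElem_mem _, rfl⟩
  apply le_antisymm
  · -- every element is one of the `el i`
    have hsurj : ∀ u : subW G ws, ∃ i : Fin (ws.length + 1), el i = u.1 := by
      intro u
      rcases hmem u.1 u.2 with h1 | ⟨w, hw, h1⟩
      · exact ⟨0, h1.symm⟩
      · obtain ⟨i, hi, rfl⟩ := List.getElem_of_mem hw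
        refine ⟨⟨i + 1, by omega⟩, ?_⟩
        show wordProd G (ws.getD i []) = _
        rw [h1, List.getD_eq_getElem _ _ hi]
    choose f hf using hsurj
    have hinj : Function.Injective f := by
      intro a b hab
      apply Subtype.ext
      rw [← hf a, ← hf b, hab]
    have := Nat.card_le_card_of_injective f hinj
    simpa using this
  · let f : Fin (ws.length + 1) → subW G ws := fun i => ⟨el i, helmem i i.2⟩
    have hinj : Function.Injective f := by
      intro a b hab
      have h1 : el a = el b := congrArg Subtype.val hab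
      by_contra hne'
      have hab' : (a : ℕ) ≠ b := fun h => hne' (Fin.ext h)
      rw [List.all_eq_true] at hne
      have h2 := hne a (List.mem_range.mpr (by omega))
      rw [List.all_eq_true] at h2
      have h3 := h2 b (List.mem_range.mpr (by omega))
      rw [Bool.or_eq_true, beq_iff_eq] at h3
      rcases h3 with h3 | h3
      · exact hab' h3
      · apply dec_ne_of_neB 7 11 h3
        have := congrArg φ h1
        rwa [hel a a.2, hel b b.2] at this
    have := Nat.card_le_card_of_injective f hinj
    simpa using this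

end abstract

end Cfsg.Agent.Lib.Helper1.J1D
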