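import Cfsg.Prelude.Def_Spor_J1
import Cfsg.Agent.Lib.Helper1.J1Ord3

/-!
# The subgroup of `GL(7, 11)` generated by the two Janko matrices is simple of order 175560
-/

set_option autoImplicit false

namespace Cfsg.Agent.Lib.Helper1.J1D

open Cfsg.Agent.Lib.Helper1.MatCode

theorem X_eq : Cfsg.jankoMatrixX = D cX := by
  unfold D
  decide +kernel

theorem Y_eq : Cfsg.jankoMatrixY = D cY := by
  unfold D
  decide +kernel

section

variable (x y : GL (Fin 7) (ZMod 11))

/-- the evaluation of the generated subgroup in the matrices -/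
def phiK : ↥(Subgroup.closure ({x, y} : Set (GL (Fin 7) (ZMod 11)))) →* Mat :=
  (Units.coeHom Mat).comp (Subgroup.subtype _)

theorem phiK_injective : Function.Injective (phiK x y) := by
  intro a b h
  apply Subtype.ext
  apply Units.ext
  exact h

/-- the first generator in the generated subgroup -/
def xK : ↥(Subgroup.closure ({x, y} : Set (GL (Fin 7) (ZMod 11)))) :=
  ⟨x, Subgroup.subset_closure (by simp)⟩

/-- the second generator in the generated subgroup -/
def yK : ↥(Subgroup.closure ({x, y} : Set (GL (Fin 7) (ZMod 11)))) :=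
  ⟨y, Subgroup.subset_closure (by simp)⟩

theorem closure_xK_yK : Subgroup.closure ({xK x y, yK x y} : Set _) = ⊤ := by
  have h := Subgroup.closure_closure_coe_preimage (k := ({x, y} : Set (GL (Fin 7) (ZMod 11))))
  have e : ((↑) ⁻¹' ({x, y} : Set (GL (Fin 7) (ZMod 11))) :
      Set ↥(Subgroup.closure ({x, y} : Set (GL (Fin 7) (ZMod 11))))) = {xK x y, yK x y} := by
    ext g
    simp only [Set.mem_preimage, Set.mem_insert_iff, Set.mem_singleton_iff, xK, yK]
    constructor
    · rintro (h | h)
      · left; exact Subtype.ext h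
      · right; exact Subtype.ext h
    · rintro (h | h)
      · left; rw [h]
      · right; rw [h]
  rw [e] at h
  exact h

variable (hx : (x : Mat) = Cfsg.jankoMatrixX) (hy : (y : Mat) = Cfsg.jankoMatrixY)
include hx hy

theorem card_closure : Nat.card ↥(Subgroup.closure ({x, y} : Set (GL (Fin 7) (ZMod 11)))) = 175560 :=
  card_eq (phiK x y) (xK x y) (yK x y) (hx.trans X_eq) (hy.trans Y_eq) (phiK_injective x y)
    (closure_xK_yK x y)

theorem simple_closure : IsSimpleGroup ↥(Subgroup.closure ({x, y} : Set (GL (Fin 7) (ZMod 11)))) :=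
  simple (phiK x y) (xK x y) (yK x y) (hx.trans X_eq) (hy.trans Y_eq) (phiK_injective x y)
    (closure_xK_yK x y)

end

end Cfsg.Agent.Lib.Helper1.J1D
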