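import Cfsg.Agent.Lib.Helper1.J1Ord3
import Cfsg.Agent.Lib.Helper1.Stem4

/-!
# Stem extensions of the group generated by the two Janko matrices are trivial
-/

set_option autoImplicit false

namespace Cfsg.Agent.Lib.Helper1.J1D

open Cfsg.Agent.Lib.Helper1.MatCode Cfsg.Agent.Lib.Helper1.SylowChain Cfsg.Agent.Lib.Helper1.Stem

def wn : List ℕ := [0]
def wni : List ℕ := [0, 0, 0, 0, 0, 0]

theorem m_inv : ev (wn ++ wni) = c1 := by decide +kernel
theorem m_h1 : ev (wn ++ waI 0 ++ wni) = ev (waI 1) := by decide +kernel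
theorem m_h2 : ev (wn ++ waI 1 ++ wni) = ev (waI 2) := by decide +kernel
theorem m_h3 : ev (wn ++ waI 2 ++ wni) = ev (waI 0 ++ waI 1) := by decide +kernel
theorem m_c01 : ev (waI 0 ++ waI 1) = ev (waI 1 ++ waI 0) := by decide +kernel
theorem m_c02 : ev (waI 0 ++ waI 2) = ev (waI 2 ++ waI 0) := by decide +kernel
theorem m_c12 : ev (waI 1 ++ waI 2) = ev (waI 2 ++ waI 1) := by decide +kernel
theorem m_a3 : ev (waI 3) = ev (waI 0 ++ waI 1) := by decide +kernel
theorem m_a4 : ev (waI 4) = ev (waI 1 ++ waI 2) := by decide +kernel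
theorem m_a5 : ev (waI 5) = ev (waI 2 ++ waI 0 ++ waI 1) := by decide +kernel
theorem m_a6 : ev (waI 6) = ev (waI 0 ++ waI 1 ++ waI 1 ++ waI 2) := by decide +kernel

theorem sq_dvd : ∀ ℓ : ℕ, ℓ < 420 → ℓ * ℓ ∣ 175560 → ℓ = 1 ∨ ℓ = 2 := by decide +kernel

section abstract

variable {Γ : Type*} [Group Γ] (φ : Γ →* Mat) (x y : Γ)
variable (hx : φ x = D cX) (hy : φ y = D cY) (hφ : Function.Injective φ)
include hx hy hφ

theorem wp_eq_of_ev (w w' : List ℕ) (h : ev w = ev w') : wp x y w = wp x y w' := by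
  apply hφ
  rw [phi_wp φ x y hx hy, phi_wp φ x y hx hy, h]

omit hx hy hφ in
theorem wp_append (w w' : List ℕ) : wp x y (w ++ w') = wp x y w * wp x y w' :=
  wordProd_append _ _ _

theorem wp_wni : wp x y wni = (wp x y wn)⁻¹ := by
  have h := eq_one_of_ev φ x y hx hy hφ _ m_inv
  rw [wp_append] at h
  exact (eq_inv_of_mul_eq_one_right h)

theorem E8_eq : E8 x y = Subgroup.closure {wp x y (waI 0), wp x y (waI 1), wp x y (waI 2)} := by
  apply le_antisymm
  · unfold E8
    rw [Subgroup.closure_le]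
    rintro _ ⟨i, rfl⟩
    have m0 : wp x y (waI 0) ∈ Subgroup.closure {wp x y (waI 0), wp x y (waI 1), wp x y (waI 2)} :=
      Subgroup.subset_closure (by simp)
    have m1 : wp x y (waI 1) ∈ Subgroup.closure {wp x y (waI 0), wp x y (waI 1), wp x y (waI 2)} :=
      Subgroup.subset_closure (by simp)
    have m2 : wp x y (waI 2) ∈ Subgroup.closure {wp x y (waI 0), wp x y (waI 1), wp x y (waI 2)} :=
      Subgroup.subset_closure (by simp)
    fin_cases i
    · exact m0
    · exact m1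
    · exact m2
    · show wp x y (waI 3) ∈ _
      rw [wp_eq_of_ev φ x y hx hy hφ _ _ m_a3, wp_append]
      exact Subgroup.mul_mem _ m0 m1
    · show wp x y (waI 4) ∈ _
      rw [wp_eq_of_ev φ x y hx hy hφ _ _ m_a4, wp_append]
      exact Subgroup.mul_mem _ m1 m2
    · show wp x y (waI 5) ∈ _
      rw [wp_eq_of_ev φ x y hx hy hφ _ _ m_a5, wp_append, wp_append]
      exact Subgroup.mul_mem _ (Subgroup.mul_mem _ m2 m0) m1
    · show wp x y (waI 6) ∈ _
      rw [wp_eq_of_ev φ x y hx hy hφ _ _ m_a6, wp_append, wp_append, wp_append]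
      exact Subgroup.mul_mem _ (Subgroup.mul_mem _ (Subgroup.mul_mem _ m0 m1) m1) m2
  · rw [Subgroup.closure_le]
    intro g hg
    simp only [Set.mem_insert_iff, Set.mem_singleton_iff] at hg
    rcases hg with rfl | rfl | rfl
    · exact Subgroup.subset_closure ⟨0, rfl⟩
    · exact Subgroup.subset_closure ⟨1, rfl⟩
    · exact Subgroup.subset_closure ⟨2, rfl⟩

theorem ker_eq_bot (hgen : Subgroup.closure ({x, y} : Set Γ) = ⊤)
    {Λ : Type*} [Group Λ] [Finite Λ] (σ : Λ →* Γ) (hσ : Cfsg.IsStemExtension σ) : σ.ker = ⊥ := by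
  haveI : Finite Γ := Finite.of_injective φ hφ
  have hcard := card_eq φ x y hx hy hφ hgen
  apply ker_eq_bot_of_local σ hσ
  intro ℓ hℓ hd
  by_cases h2 : ℓ = 2
  · subst h2
    refine ⟨E8 x y, ?_, ?_⟩
    · intro h
      have h1 := Subgroup.card_mul_index (E8 x y)
      rw [card_E8 φ x y hx hy hφ, hcard] at h1
      omega
    · rw [E8_eq φ x y hx hy hφ]
      have hni := wp_wni φ x y hx hy hφ
      apply kills_e8 σ hσ.1 hσ.2.1 2 _ _ _ (wp x y wn)
      · rw [← hni, ← wp_append, ← wp_append]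
        exact wp_eq_of_ev φ x y hx hy hφ _ _ m_h1
      · rw [← hni, ← wp_append, ← wp_append]
        exact wp_eq_of_ev φ x y hx hy hφ _ _ m_h2
      · rw [← hni, ← wp_append, ← wp_append, ← wp_append]
        exact wp_eq_of_ev φ x y hx hy hφ _ _ m_h3
      · rw [← wp_append, ← wp_append]
        exact wp_eq_of_ev φ x y hx hy hφ _ _ m_c01
      · rw [← wp_append, ← wp_append]
        exact wp_eq_of_ev φ x y hx hy hφ _ _ m_c02
      · rw [← wp_append, ← wp_append]
        exact wp_eq_of_ev φ x y hx hy hφ _ _ m_c12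
  · apply exists_kills_of_exact σ hσ.1 hσ.2.1 ℓ hℓ hd
    rw [hcard]
    intro hsq
    have hlt : ℓ < 420 := by
      by_contra hge
      have h1 : 420 * 420 ≤ ℓ * ℓ := Nat.mul_le_mul (by omega) (by omega)
      have h2 := Nat.le_of_dvd (by norm_num) hsq
      omega
    rcases sq_dvd ℓ hlt hsq with h | h
    · exact hℓ.one_lt.ne' h
    · exact h2 h

end abstract

end Cfsg.Agent.Lib.Helper1.J1D
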