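import Cfsg.Agent.Lib.Helper1.J1Chk1

/-!
# A group generated by two elements with the coded `7 × 7` matrices over `ZMod 11` has order at most 175560
-/

set_option autoImplicit false

namespace Cfsg.Agent.Lib.Helper1.J1D

open Cfsg.Agent.Lib.Helper1.MatCode

/-- the matrices -/
abbrev Mat : Type := Matrix (Fin 7) (Fin 7) (ZMod 11)

/-- decoding -/
def D (c : ℕ) : Mat := dec 7 11 c

theorem hmu (a b : ℕ) (hb : Canon 7 11 b) : D (mul7 a b) = D a * D b := by
  rw [mul7_eq]
  exact dec_mulN 7 11 (by decide) (by decide) (by decide) a b hb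

theorem hC (a b : ℕ) : Canon 7 11 (mul7 a b) := by
  rw [mul7_eq]
  exact canon_mulN 7 11 (by decide) (by decide) a b

theorem D_c1 : D c1 = 1 := by
  unfold D
  decide +kernel

theorem canon_cX : Canon 7 11 cX := canon_of_all 7 11 canon_gens cX (by simp)
theorem canon_cY : Canon 7 11 cY := canon_of_all 7 11 canon_gens cY (by simp)
theorem canon_c1 : Canon 7 11 c1 := canon_of_all 7 11 canon_gens c1 (by simp)
theorem canon_cG19 : Canon 7 11 cG19 := canon_of_all 7 11 canon_gens cG19 (by simp)
theorem canon_cG6 : Canon 7 11 cG6 := canon_of_all 7 11 canon_gens cG6 (by simp)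

theorem canon_Tf (k : ℕ) (hk : k < 1540) : Canon 7 11 (Tf k) := by
  have h := canon_T
  rw [List.all_eq_true] at h
  exact canon_of_canonB 7 11 (h k (List.mem_range.mpr hk))

/-- the transversal as a list -/
def T : List ℕ := tab Tf 1540

theorem A_mul_closed : ∀ a ∈ A, ∀ a' ∈ A, ∃ a'' ∈ A, D a * D a' = D a'' := by
  apply mul_closed D A [cG19, cG6]
  · intro s hs
    simp only [List.mem_cons, List.not_mem_nil, or_false] at hs
    rcases hs with rfl | rfl
    · exact chkRC_sound D mul7 (Canon 7 11) hmu canon_cG19 rc_A_19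
    · exact chkRC_sound D mul7 (Canon 7 11) hmu canon_cG6 rc_A_6
  · apply chkTree_sound D mul7 (Canon 7 11) hmu _ _ tree_A
    · intro s hs
      simp only [List.mem_cons, List.not_mem_nil, or_false] at hs
      rcases hs with rfl | rfl
      · exact canon_cG19
      · exact canon_cG6
    · rw [head_A]; exact D_c1

theorem step_all : ∀ s ∈ [cX, cY], ∀ t ∈ T, ∃ a ∈ A, ∃ t' ∈ T, D t * D s = D a * D t' := by
  intro s hs
  simp only [List.mem_cons, List.not_mem_nil, or_false] at hs
  rcases hs with rfl | rfl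
  · exact chkStepF_sound D mul7 (Canon 7 11) hmu canon_cX canon_Tf step_X
  · exact chkStepF_sound D mul7 (Canon 7 11) hmu canon_cY canon_Tf step_Y

theorem c1_mem_A : c1 ∈ A := by
  have h : 0 < A.length := by rw [len_A]; decide
  rw [← head_A, List.getD_eq_getElem _ _ h]
  exact List.getElem_mem _

theorem c1_mem_T : c1 ∈ T := mem_tab.mpr ⟨0, by decide, head_T⟩

theorem one_mem_AT : (1 : Mat) ∈ AT D A T :=
  ⟨c1, c1_mem_A, c1, c1_mem_T, by rw [D_c1, one_mul]⟩

/-- the coded generators -/
def gens : List ℕ := [cX, cY]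

/-- evaluation of a word in the generators -/
def ev (w : List ℕ) : ℕ := evalW mul7 gens c1 w

/-- powers of a code -/
def pw (c k : ℕ) : ℕ := powN mul7 c1 c k

/-- the `m`-th power of the word `w` has prime order `q` -/
def ordChk (w : List ℕ) (m q : ℕ) : Bool := (pw (pw (ev w) m) q == c1) && neB 7 11 (pw (ev w) m) c1

theorem canon_ev (w : List ℕ) : Canon 7 11 (ev w) := canon_evalW mul7 (Canon 7 11) hC canon_c1 gens w

theorem canon_pw (c k : ℕ) : Canon 7 11 (pw c k) := canon_powN mul7 (Canon 7 11) hC canon_c1 k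

theorem D_pw (c k : ℕ) (hc : Canon 7 11 c) : D (pw c k) = D c ^ k :=
  dec_powN D mul7 (Canon 7 11) hmu D_c1 hc k

section abstract

variable {Γ : Type*} [Group Γ] (φ : Γ →* Mat) (x y : Γ)

/-- the product of a word in `x`, `y` -/
def wp (w : List ℕ) : Γ := wordProd [x, y] w

variable (hx : φ x = D cX) (hy : φ y = D cY)
include hx hy

theorem phi_wp (w : List ℕ) : φ (wp x y w) = D (ev w) := by
  unfold wp ev
  apply dec_evalW D mul7 (Canon 7 11) hmu φ D_c1 canon_c1 [x, y] gens rfl
  · intro i h h'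
    have hi : i < 2 := h
    interval_cases i
    · exact hx
    · exact hy
  · intro c hc
    simp only [gens, List.mem_cons, List.not_mem_nil, or_false] at hc
    rcases hc with rfl | rfl
    · exact canon_cX
    · exact canon_cY

theorem phi_wp_pow (w : List ℕ) (m : ℕ) : φ (wp x y w ^ m) = D (pw (ev w) m) := by
  rw [map_pow, phi_wp φ x y hx hy, D_pw _ _ (canon_ev w)]

theorem step_mem : ∀ u ∈ ({x, y} : Set Γ), ∀ q ∈ AT D A T, q * φ u ∈ AT D A T := by
  intro u hu q hq
  have key := closure_subset D A T [cX, cY] A_mul_closed step_all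
  rcases hu with rfl | hu
  · rw [hx]; exact key cX (by simp) q hq
  · rw [Set.mem_singleton_iff.mp hu, hy]; exact key cY (by simp) q hq

theorem card_le (hφ : Function.Injective φ) (hgen : Subgroup.closure ({x, y} : Set Γ) = ⊤) :
    Nat.card Γ ≤ 175560 := by
  have h1 : Nat.card Γ ≤ (AT D A T).ncard :=
    card_le_of_closure_eq_top φ hφ (AT_finite D A T) one_mem_AT _ (step_mem φ x y hx hy) hgen
  have h2 := AT_ncard_le D A T
  have h3 : T.length = 1540 := length_tab Tf 1540
  rw [len_A, h3] at h2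
  omega

theorem eq_one_of_ev (hφ : Function.Injective φ) (w : List ℕ) (h : ev w = c1) : wp x y w = 1 := by
  apply hφ
  rw [phi_wp φ x y hx hy, h, D_c1, map_one]

theorem orderOf_of_ordChk (hφ : Function.Injective φ) (w : List ℕ) (m q : ℕ) (hq : q.Prime)
    (h : ordChk w m q = true) : orderOf (wp x y w ^ m) = q := by
  unfold ordChk at h
  rw [Bool.and_eq_true, beq_iff_eq] at h
  have : Fact q.Prime := ⟨hq⟩
  apply orderOf_eq_prime
  · apply hφ
    rw [map_pow, phi_wp_pow φ x y hx hy, ← D_pw _ _ (canon_pw _ _), h.1, D_c1, map_one]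
  · intro h1
    have h2 := congrArg φ h1
    rw [phi_wp_pow φ x y hx hy, map_one, ← D_c1] at h2
    exact dec_ne_of_neB 7 11 h.2 h2

end abstract

end Cfsg.Agent.Lib.Helper1.J1D
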