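import Cfsg.Agent.Lib.Helper1.J1Chk2
import Cfsg.Agent.Lib.Helper1.SylowChain

/-!
# A group generated by two elements with the coded matrices is simple of order 175560
-/

set_option autoImplicit false

namespace Cfsg.Agent.Lib.Helper1.J1D

open Cfsg.Agent.Lib.Helper1.MatCode Cfsg.Agent.Lib.Helper1.SylowChain

theorem canon_L8 : ∀ c ∈ L8, Canon 7 11 c := canon_of_all 7 11 L8_canon

theorem one_mem_X8 : (1 : Mat) ∈ AT D L8 [c1] := by
  refine ⟨c1, ?_, c1, List.mem_singleton.mpr rfl, by rw [D_c1, one_mul]⟩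
  rw [← L8_head, List.getD_eq_getElem _ _ (by decide)]
  exact List.getElem_mem _

section abstract

variable {Γ : Type*} [Group Γ] (φ : Γ →* Mat) (x y : Γ)
variable (hx : φ x = D cX) (hy : φ y = D cY) (hφ : Function.Injective φ)
include hx hy hφ

theorem chain_step (wr wh whi : List ℕ) (m q : ℕ) (hq : q.Prime)
    (h : (ev (wh ++ whi) == c1 && ordChk (wr ++ wh ++ wr ++ whi) m q) = true)
    (N : Subgroup Γ) (hN : N.Normal) (hr : wp x y wr ∈ N) : q ∣ Nat.card N := by
  rw [Bool.and_eq_true, beq_iff_eq] at h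
  have h1 : wp x y wh * wp x y whi = 1 := by
    have := eq_one_of_ev φ x y hx hy hφ _ h.1
    unfold wp at this ⊢
    rwa [wordProd_append] at this
  have h2 : (wp x y wh)⁻¹ = wp x y whi := inv_eq_of_mul_eq_one_right h1
  have h3 := orderOf_of_ordChk φ x y hx hy hφ _ m q hq h.2
  have h4 : wp x y (wr ++ wh ++ wr ++ whi) = wp x y wr * (wp x y wh * wp x y wr * (wp x y wh)⁻¹) := by
    rw [h2]
    unfold wp
    rw [wordProd_append, wordProd_append, wordProd_append]
    group
  have h5 : wp x y (wr ++ wh ++ wr ++ whi) ∈ N := by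
    rw [h4]
    exact N.mul_mem hr (hN.conj_mem _ hr _)
  rw [← h3]
  exact Subgroup.orderOf_dvd_natCard N (N.pow_mem h5 m)

/-- the elements of the explicit elementary abelian subgroup of order `8` -/
def eE : ℕ → Γ
  | 0 => 1
  | i + 1 => wp x y (waI i)

omit hφ in
theorem phi_eE (k : ℕ) (hk : k < 8) : φ (eE x y k) = D (L8.getD k 0) := by
  cases k with
  | zero => rw [eE, map_one, L8_head, D_c1]
  | succ i =>
    rw [eE, phi_wp φ x y hx hy]
    have h := L8_ev
    rw [List.all_eq_true] at h
    have := h i (List.mem_range.mpr (by omega))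
    rw [beq_iff_eq] at this
    rw [this]

theorem eE_injective (k k' : ℕ) (hk : k < 8) (hk' : k' < 8) (h : eE x y k = eE x y k') : k = k' := by
  by_contra hne
  have h1 := L8_ne
  rw [List.all_eq_true] at h1
  have h2 := h1 k (List.mem_range.mpr hk)
  rw [List.all_eq_true] at h2
  have h3 := h2 k' (List.mem_range.mpr hk')
  rw [Bool.or_eq_true, beq_iff_eq] at h3
  rcases h3 with h3 | h3
  · exact hne h3
  · apply dec_ne_of_neB 7 11 h3
    have := congrArg φ h
    rwa [phi_eE φ x y hx hy k hk, phi_eE φ x y hx hy k' hk'] at this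

/-- the explicit elementary abelian subgroup of order `8` -/
def E8 : Subgroup Γ := Subgroup.closure (Set.range (fun i : Fin 7 => wp x y (waI i)))

omit hx hy hφ in
theorem eE_mem (k : ℕ) (hk : k < 8) : eE x y k ∈ E8 x y := by
  cases k with
  | zero => exact Subgroup.one_mem _
  | succ i => exact Subgroup.subset_closure ⟨⟨i, by omega⟩, rfl⟩

omit hφ in
theorem E8_step : ∀ u ∈ Set.range (fun i : Fin 7 => wp x y (waI i)),
    ∀ q ∈ AT D L8 [c1], q * φ u ∈ AT D L8 [c1] := by
  rintro u ⟨i, rfl⟩ q ⟨a, ha, t, ht, rfl⟩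
  rw [List.mem_singleton.mp ht, D_c1, mul_one]
  have h1 := phi_eE φ x y hx hy (i + 1) (by omega)
  rw [eE] at h1
  rw [h1]
  have h2 := L8_rc
  rw [List.all_eq_true] at h2
  have hmem : L8.getD ((i : ℕ) + 1) 0 ∈ L8.tail := by
    have : (i : ℕ) + 1 < L8.length := by
      have : L8.length = 8 := by decide
      omega
    rw [List.getD_eq_getElem _ _ this, ← List.getElem_tail (by rw [List.length_tail]; omega)]
    exact List.getElem_mem _
  have h3 := h2 _ hmem
  obtain ⟨q', hq', h4⟩ := chkRC_sound D mul7 (Canon 7 11) hmu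
    (canon_L8 _ (List.mem_of_mem_tail hmem)) h3 a ha
  exact ⟨q', hq', c1, List.mem_singleton.mpr rfl, by rw [h4, D_c1, mul_one]⟩

theorem card_E8 : Nat.card (E8 x y) = 8 := by
  haveI : Finite Γ := Finite.of_injective φ hφ
  apply le_antisymm
  · have h1 := card_closure_le φ hφ (AT_finite D L8 [c1]) one_mem_X8 _ (E8_step φ x y hx hy)
    have h2 := AT_ncard_le D L8 [c1]
    have h3 : L8.length = 8 := by decide
    rw [h3] at h2
    simp only [List.length_singleton, mul_one] at h2
    exact le_trans h1 h2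
  · let f : Fin 8 → E8 x y := fun k => ⟨eE x y k, eE_mem x y k k.2⟩
    have hinj : Function.Injective f := by
      intro a b hab
      have : eE x y a = eE x y b := congrArg Subtype.val hab
      exact Fin.ext (eE_injective φ x y hx hy hφ a b a.2 b.2 this)
    have := Nat.card_le_card_of_injective f hinj
    simpa using this

theorem E8_conj (u : Γ) (hu : u ∈ E8 x y) (hne : u ≠ 1) : ∃ g : Γ, u = g * wp x y wa * g⁻¹ := by
  have h1 := subgroup_closure_subset φ (AT_finite D L8 [c1]) one_mem_X8 _ (E8_step φ x y hx hy) u hu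
  obtain ⟨a, ha, t, ht, h2⟩ := h1
  rw [List.mem_singleton.mp ht, D_c1, mul_one] at h2
  obtain ⟨k, hk, rfl⟩ := List.getElem_of_mem ha
  have hk8 : k < 8 := by
    have : L8.length = 8 := by decide
    omega
  rw [← List.getD_eq_getElem _ 0 hk, ← phi_eE φ x y hx hy k hk8] at h2
  have h3 : u = eE x y k := hφ h2
  cases k with
  | zero => exact absurd h3 hne
  | succ i =>
    rw [eE] at h3
    have hi : i ≤ 7 := by omega
    have h4 : wp x y (List.replicate i 0) * wp x y (List.replicate (7 - i) 0) = 1 := by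
      have := eq_one_of_ev φ x y hx hy hφ _ ev_x7
      have e : List.replicate 7 0 = List.replicate i 0 ++ List.replicate (7 - i) 0 := by
        rw [← List.replicate_add]; congr 1; omega
      rw [e] at this
      unfold wp at this ⊢
      rwa [wordProd_append] at this
    refine ⟨wp x y (List.replicate i 0), ?_⟩
    rw [inv_eq_of_mul_eq_one_right h4, h3]
    unfold waI wp
    rw [wordProd_append, wordProd_append]

end abstract

end Cfsg.Agent.Lib.Helper1.J1D
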