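import Cfsg.Agent.Lib.Helper1.J1Chk3
import Cfsg.Agent.Lib.Helper1.J1Chk2
import Cfsg.Agent.Lib.Helper1.J1Data3

/-!
# Certificates for the automorphisms of the group generated by the coded matrices: definitions and checks
-/

set_option autoImplicit false

namespace Cfsg.Agent.Lib.Helper1.J1D

open Cfsg.Agent.Lib.Helper1.MatCode

/-- stepping certificate with no fixed coset other than the first -/
def chkStepFix (A : List ℕ) (Tf : ℕ → ℕ) (N s : ℕ) (cf : ℕ → ℕ) : Bool :=
  (List.range N).all (fun k =>
    decide (cf k % 65536 < N) && (k == 0 || cf k % 65536 != k) &&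
      match A[cf k / 65536]? with
      | some a => mul7 (Tf k) s == mul7 a (Tf (cf k % 65536))
      | none => false)

theorem chkStepFix_sound {A : List ℕ} {Tf : ℕ → ℕ} {N s : ℕ} {cf : ℕ → ℕ} (hs : Canon 7 11 s)
    (hT : ∀ k, k < N → Canon 7 11 (Tf k)) (h : chkStepFix A Tf N s cf = true) :
    ∀ k, k < N → ∃ a ∈ A, ∃ k', k' < N ∧ (k' = k → k = 0) ∧ D (Tf k) * D s = D a * D (Tf k') := by
  intro k hk
  unfold chkStepFix at h
  rw [List.all_eq_true] at h
  have h3 := h k (List.mem_range.mpr hk)
  rw [Bool.and_eq_true, Bool.and_eq_true, decide_eq_true_eq] at h3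
  obtain ⟨⟨h4, h4'⟩, h5⟩ := h3
  cases hA : A[cf k / 65536]? with
  | none => rw [hA] at h5; exact absurd h5 (by simp)
  | some a =>
    rw [hA] at h5
    have h6 : mul7 (Tf k) s = mul7 a (Tf (cf k % 65536)) := by simpa using h5
    refine ⟨a, List.mem_of_getElem? hA, cf k % 65536, h4, ?_, ?_⟩
    · intro he
      rw [Bool.or_eq_true, beq_iff_eq, bne_iff_ne] at h4'
      rcases h4' with h7 | h7
      · exact h7
      · exact absurd he h7
    · rw [← hmu _ _ hs, ← hmu _ _ (hT _ h4), h6]

/-- one row of the table for the automorphisms of the normalizer `19:6` -/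
def chkNTrow (k i : ℕ) : Bool :=
  if ntf ((k - 1) * 114 + i) = 0 then
    neB 7 11 (mul7 (P19L.getD k 0) (A.getD i 0)) (mul7 (A.getD i 0) (P19L.getD (12 * k % 19) 0))
  else
    (((ntf ((k - 1) * 114 + i) - 1) / 65536 == 1) || ((ntf ((k - 1) * 114 + i) - 1) / 65536 == 2) ||
      ((ntf ((k - 1) * 114 + i) - 1) / 65536 == 4)) &&
    decide ((ntf ((k - 1) * 114 + i) - 1) / 256 % 256 < 114) &&
    decide ((ntf ((k - 1) * 114 + i) - 1) % 256 < 114) &&
    (mul7 (A.getD ((ntf ((k - 1) * 114 + i) - 1) / 256 % 256) 0)
      (A.getD ((ntf ((k - 1) * 114 + i) - 1) % 256) 0) == c1) &&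
    (mul7 (mul7 (A.getD ((ntf ((k - 1) * 114 + i) - 1) / 256 % 256) 0) (P19L.getD k 0))
      (A.getD ((ntf ((k - 1) * 114 + i) - 1) % 256) 0) ==
        P19L.getD ((ntf ((k - 1) * 114 + i) - 1) / 65536) 0) &&
    (mul7 (mul7 (A.getD ((ntf ((k - 1) * 114 + i) - 1) / 256 % 256) 0) (A.getD i 0))
      (A.getD ((ntf ((k - 1) * 114 + i) - 1) % 256) 0) == cG6)

/-- the table for the automorphisms of the normalizer `19:6` -/
def chkNT : Bool := (List.range 18).all (fun k' => (List.range 114).all (fun i => chkNTrow (k' + 1) i))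

/-- the coded generators `g19`, `g6`, `v` -/
def gens3 : List ℕ := [cG19, cG6, cV]

/-- the distinguishing words have trivial powers on the original generators -/
def chkEOrig : Bool :=
  (List.range 5).all (fun e => pw (evG gens3 (wE.getD e [])) (mE.getD e 0) == c1)

/-- one row of the elimination table -/
def chkETrow (a j : ℕ) : Bool :=
  if etf (a * 120 + j) = 5 then (a == 0 && L120.getD j 0 == cV)
  else decide (etf (a * 120 + j) < 5) &&
    neB 7 11 (pw (evG [P19L.getD ([1, 2, 4].getD a 0) 0, cG6, L120.getD j 0] (wE.getD (etf (a * 120 + j)) []))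
      (mE.getD (etf (a * 120 + j)) 0)) c1

/-- the elimination table -/
def chkET : Bool := (List.range 3).all (fun a => (List.range 120).all (fun j => chkETrow a j))

set_option maxRecDepth 100000

theorem ev_w19 : ev w19 = cG19 := by decide +kernel
theorem ev_w6 : ev w6 = cG6 := by decide +kernel
theorem ev_w6_cube : ev (w6 ++ w6 ++ w6) = cT := by decide +kernel

theorem canon_A_all : A.all (canonB 7 11) = true := by decide +kernel
theorem canon_P19L_all : P19L.all (canonB 7 11) = true := by decide +kernel
theorem canon_L120_all : L120.all (canonB 7 11) = true := by decide +kernel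

theorem head_P19L : P19L.getD 0 0 = c1 := by decide +kernel
theorem chain_P19L : (List.range 18).all (fun j => P19L.getD (j + 1) 0 == mul7 (P19L.getD j 0) cG19) = true := by
  decide +kernel
theorem P19L_sub_A : P19L.all (fun c => A.contains c) = true := by decide +kernel

theorem step_G19 : chkStepFix A Tf 1540 cG19 cf19 = true := by decide +kernel

theorem rel_a : ev (w19 ++ w6) = ev (w6 ++ (List.replicate 12 w19).flatten) := by decide +kernel
theorem rel_b : ev (w6 ++ w19) = ev ((List.replicate 8 w19).flatten ++ w6) := by decide +kernel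

theorem nt_ok : chkNT = true := by decide +kernel

theorem rc_L120 : [cT, cU, cV].all (fun s => chkRC mul7 L120 s) = true := by decide +kernel
theorem head_L120 : L120.getD 0 0 = c1 := by decide +kernel
theorem len_L120 : L120.length = 120 := by decide +kernel

theorem eorig_ok : chkEOrig = true := by decide +kernel
theorem et_ok : chkET = true := by decide +kernel

theorem gen_X3 : evG gens3 wX3 = cX := by decide +kernel
theorem gen_Y3 : evG gens3 wY3 = cY := by decide +kernel

end Cfsg.Agent.Lib.Helper1.J1D
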