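import Cfsg.Agent.Lib.Helper1.J1Out1
import Cfsg.Agent.Lib.Helper1.J1Cent

/-!
# Soundness of the certificates for the automorphisms
-/

set_option autoImplicit false

namespace Cfsg.Agent.Lib.Helper1.J1D

open Cfsg.Agent.Lib.Helper1.MatCode

theorem canon_A : ∀ a ∈ A, Canon 7 11 a := canon_of_all 7 11 canon_A_all
theorem canon_P19L : ∀ a ∈ P19L, Canon 7 11 a := canon_of_all 7 11 canon_P19L_all
theorem canon_L120 : ∀ a ∈ L120, Canon 7 11 a := canon_of_all 7 11 canon_L120_all

theorem len_P19L : P19L.length = 19 := by decide +kernel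

theorem getD_mem_A (i : ℕ) (hi : i < 114) : A.getD i 0 ∈ A := by
  rw [List.getD_eq_getElem _ _ (by rw [len_A]; exact hi)]
  exact List.getElem_mem _

theorem getD_mem_P19L (j : ℕ) (hj : j < 19) : P19L.getD j 0 ∈ P19L := by
  rw [List.getD_eq_getElem _ _ (by rw [len_P19L]; exact hj)]
  exact List.getElem_mem _

theorem getD_mem_L120 (j : ℕ) (hj : j < 120) : L120.getD j 0 ∈ L120 := by
  rw [List.getD_eq_getElem _ _ (by rw [len_L120]; exact hj)]
  exact List.getElem_mem _

theorem D_P19L (j : ℕ) (hj : j < 19) : D (P19L.getD j 0) = D cG19 ^ j := by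
  induction j with
  | zero => rw [head_P19L, D_c1, pow_zero]
  | succ j ih =>
    have h := chain_P19L
    rw [List.all_eq_true] at h
    have h1 := h j (List.mem_range.mpr (by omega))
    rw [beq_iff_eq] at h1
    rw [h1, hmu _ _ canon_cG19, ih (by omega), pow_succ]

theorem P19L_mem_A (j : ℕ) (hj : j < 19) : P19L.getD j 0 ∈ A := by
  have h := P19L_sub_A
  rw [List.all_eq_true] at h
  have := h _ (getD_mem_P19L j hj)
  rwa [List.contains_iff_mem] at this

theorem nt_sound (k i : ℕ) (hk1 : 1 ≤ k) (hk : k ≤ 18) (hi : i < 114)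
    (hrel : D (P19L.getD k 0) * D (A.getD i 0) = D (A.getD i 0) * D (P19L.getD (12 * k % 19) 0)) :
    ∃ k0, (k0 = 1 ∨ k0 = 2 ∨ k0 = 4) ∧ ∃ ah ∈ A, ∃ ahv ∈ A,
      D ah * D ahv = 1 ∧ D ah * D (P19L.getD k 0) * D ahv = D (P19L.getD k0 0) ∧
      D ah * D (A.getD i 0) * D ahv = D cG6 := by
  have h := nt_ok
  unfold chkNT at h
  rw [List.all_eq_true] at h
  have h1 := h (k - 1) (List.mem_range.mpr (by omega))
  rw [List.all_eq_true] at h1
  have h2 := h1 i (List.mem_range.mpr hi)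
  rw [show k - 1 + 1 = k by omega] at h2
  unfold chkNTrow at h2
  have cAi := canon_A _ (getD_mem_A i hi)
  split_ifs at h2 with h0
  · exfalso
    apply dec_ne_of_neB 7 11 h2
    show D _ = D _
    rw [hmu _ _ cAi, hmu _ _ (canon_P19L _ (getD_mem_P19L _ (Nat.mod_lt _ (by norm_num)))), hrel]
  · simp only [Bool.and_eq_true, Bool.or_eq_true, beq_iff_eq, decide_eq_true_eq] at h2
    obtain ⟨⟨⟨⟨⟨hk0, hih⟩, hihv⟩, e1⟩, e2⟩, e3⟩ := h2
    have cv := canon_A _ (getD_mem_A _ hihv)
    refine ⟨(ntf ((k - 1) * 114 + i) - 1) / 65536, ?_, _, getD_mem_A _ hih, _, getD_mem_A _ hihv, ?_, ?_, ?_⟩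
    · rcases hk0 with (h | h) | h
      · left; exact h
      · right; left; exact h
      · right; right; exact h
    · rw [← hmu _ _ cv, e1, D_c1]
    · rw [← hmu _ _ (canon_P19L _ (getD_mem_P19L _ (by omega))), ← hmu _ _ cv, e2]
    · rw [← hmu _ _ cAi, ← hmu _ _ cv, e3]

theorem eorig_sound (e : ℕ) (he : e < 5) : pw (evG gens3 (wE.getD e [])) (mE.getD e 0) = c1 := by
  have h := eorig_ok
  unfold chkEOrig at h
  rw [List.all_eq_true] at h
  have := h e (List.mem_range.mpr he)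
  rwa [beq_iff_eq] at this

theorem et_sound (a j : ℕ) (ha : a < 3) (hj : j < 120) :
    (a = 0 ∧ L120.getD j 0 = cV) ∨
    ∃ e, e < 5 ∧ neB 7 11 (pw (evG [P19L.getD ([1, 2, 4].getD a 0) 0, cG6, L120.getD j 0] (wE.getD e []))
      (mE.getD e 0)) c1 = true := by
  have h := et_ok
  unfold chkET at h
  rw [List.all_eq_true] at h
  have h1 := h a (List.mem_range.mpr ha)
  rw [List.all_eq_true] at h1
  have h2 := h1 j (List.mem_range.mpr hj)
  unfold chkETrow at h2
  split_ifs at h2 with h0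
  · left
    rw [Bool.and_eq_true, beq_iff_eq, beq_iff_eq] at h2
    exact h2
  · right
    rw [Bool.and_eq_true, decide_eq_true_eq] at h2
    exact ⟨_, h2.1, h2.2⟩

end Cfsg.Agent.Lib.Helper1.J1D
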