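import Cfsg.Agent.Lib.Helper1.J1Out2

/-!
# Every automorphism of the group generated by the coded matrices is inner
-/

set_option autoImplicit false

namespace Cfsg.Agent.Lib.Helper1.J1D

open Cfsg.Agent.Lib.Helper1.MatCode Cfsg.Agent.Lib.Helper1.SylowChain

/-- image of a word under a homomorphism -/
theorem map_wordProd {Γ Δ : Type*} [Group Γ] [Group Δ] (f : Γ →* Δ) (G : List Γ) (w : List ℕ) :
    f (wordProd G w) = wordProd (G.map f) w := by
  induction w with
  | nil => rw [wordProd_nil, wordProd_nil, map_one]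
  | cons i w ih =>
    rw [wordProd_cons, wordProd_cons, map_mul, ih]
    congr 1
    by_cases hi : i < G.length
    · rw [List.getD_eq_getElem _ _ hi, List.getD_eq_getElem _ _ (by simpa using hi), List.getElem_map]
    · rw [List.getD_eq_default _ _ (by omega), List.getD_eq_default _ _ (by simp; omega), map_one]

theorem exists_pow_of_mem_zpowers {G : Type*} [Group G] {g p : G} {n : ℕ} (hn : orderOf g = n)
    (hpos : 0 < n) (hp : p ∈ Subgroup.zpowers g) : ∃ j, j < n ∧ p = g ^ j := by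
  obtain ⟨z, rfl⟩ := Subgroup.mem_zpowers_iff.mp hp
  have h1 : 0 ≤ z % (n : ℤ) := Int.emod_nonneg _ (by omega)
  have h2 : z % (n : ℤ) < n := Int.emod_lt_of_pos _ (by omega)
  refine ⟨(z % (n : ℤ)).toNat, by omega, ?_⟩
  rw [← zpow_natCast, Int.toNat_of_nonneg h1, ← hn, zpow_mod_orderOf]

theorem phi_inv_of_mul_eq_one {Γ : Type*} [Group Γ] (φ : Γ →* Mat) (g : Γ) (a b : ℕ)
    (hg : φ g = D a) (hab : D a * D b = 1) : φ g⁻¹ = D b := by
  calc φ g⁻¹ = φ g⁻¹ * (D a * D b) := by rw [hab, mul_one]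
    _ = D b := by rw [← mul_assoc, ← hg, ← map_mul, inv_mul_cancel, map_one, one_mul]

section abstract

set_option maxRecDepth 100000

variable {Γ : Type*} [Group Γ] (φ : Γ →* Mat) (x y : Γ)

/-- the element of order 19 -/
def g19 : Γ := wp x y w19

/-- the element of order 6 normalizing it -/
def g6 : Γ := wp x y w6

variable (hx : φ x = D cX) (hy : φ y = D cY) (hφ : Function.Injective φ)
include hx hy

theorem phi_g19 : φ (g19 x y) = D cG19 := by rw [g19, phi_wp φ x y hx hy, ev_w19]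

theorem phi_g6 : φ (g6 x y) = D cG6 := by rw [g6, phi_wp φ x y hx hy, ev_w6]

theorem phi_g19_pow (j : ℕ) (hj : j < 19) : φ (g19 x y ^ j) = D (P19L.getD j 0) := by
  rw [map_pow, phi_g19 φ x y hx hy, D_P19L j hj]

theorem decomp (hgen : Subgroup.closure ({x, y} : Set Γ) = ⊤) (g : Γ) :
    ∃ a ∈ A, ∃ k, k < 1540 ∧ φ g = D a * D (Tf k) := by
  have h := subgroup_closure_subset φ (AT_finite D A T) one_mem_AT _ (step_mem φ x y hx hy) g
    (by rw [hgen]; exact Subgroup.mem_top g)
  obtain ⟨a, ha, t, ht, h1⟩ := h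
  obtain ⟨k, hk, rfl⟩ := mem_tab.mp ht
  exact ⟨a, ha, k, hk, h1⟩

theorem lift_A (a : ℕ) (ha : a ∈ A) : ∃ g : Γ, φ g = D a := by
  have h := chkTree_sound D mul7 (Canon 7 11) hmu (L := A) (SA := [cG19, cG6]) (par := parA)
    (by
      intro s hs
      simp only [List.mem_cons, List.not_mem_nil, or_false] at hs
      rcases hs with rfl | rfl
      · exact canon_cG19
      · exact canon_cG6)
    (by rw [head_A]; exact D_c1) tree_A a ha
  have key : ∀ m ∈ Submonoid.closure {m | ∃ s ∈ [cG19, cG6], m = D s}, ∃ g : Γ, φ g = m := by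
    intro m hm
    induction hm using Submonoid.closure_induction with
    | mem m hm =>
      obtain ⟨s, hs, rfl⟩ := hm
      simp only [List.mem_cons, List.not_mem_nil, or_false] at hs
      rcases hs with rfl | rfl
      · exact ⟨g19 x y, phi_g19 φ x y hx hy⟩
      · exact ⟨g6 x y, phi_g6 φ x y hx hy⟩
    | one => exact ⟨1, map_one φ⟩
    | mul m m' _ _ ih ih' =>
      obtain ⟨g, hg⟩ := ih
      obtain ⟨g', hg'⟩ := ih'
      exact ⟨g * g', by rw [map_mul, hg, hg']⟩
  exact key _ h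

include hφ

theorem coset_unique (hgen : Subgroup.closure ({x, y} : Set Γ) = ⊤) (a a' : ℕ) (ha : a ∈ A)
    (ha' : a' ∈ A) (k k' : ℕ) (hk : k < 1540) (hk' : k' < 1540)
    (h : D a * D (Tf k) = D a' * D (Tf k')) : k = k' := by
  classical
  haveI : Finite Γ := Finite.of_injective φ hφ
  let F : ℕ × ℕ → Mat := fun p => D (A.getD p.1 0) * D (Tf p.2)
  let S : Finset (ℕ × ℕ) := Finset.range 114 ×ˢ Finset.range 1540
  have hsub : ∀ g : Γ, φ g ∈ S.image F := by
    intro g
    obtain ⟨a, ha, k, hk, h1⟩ := decomp φ x y hx hy hgen g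
    obtain ⟨i, hi, rfl⟩ := List.getElem_of_mem ha
    rw [Finset.mem_image]
    refine ⟨(i, k), ?_, ?_⟩
    · rw [Finset.mem_product, Finset.mem_range, Finset.mem_range]
      exact ⟨by rw [← len_A]; exact hi, hk⟩
    · show D (A.getD i 0) * D (Tf k) = _
      rw [h1, List.getD_eq_getElem _ _ hi]
  have hS : S.card = 175560 := by
    rw [Finset.card_product, Finset.card_range, Finset.card_range]
  have hcard : (S.image F).card = S.card := by
    apply le_antisymm Finset.card_image_le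
    have h1 : Nat.card Γ ≤ (S.image F).card := by
      have := Nat.card_le_card_of_injective
        (fun g : Γ => (⟨φ g, hsub g⟩ : {m // m ∈ S.image F}))
        (fun a b hab => hφ (congrArg Subtype.val hab))
      rw [Nat.card_eq_fintype_card (α := {m // m ∈ S.image F}), Fintype.card_coe] at this
      exact this
    rw [card_eq φ x y hx hy hφ hgen] at h1
    rw [hS]
    exact h1
  have hinj : Set.InjOn F ↑S := Finset.card_image_iff.mp hcard
  obtain ⟨i, hi, rfl⟩ := List.getElem_of_mem ha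
  obtain ⟨i', hi', rfl⟩ := List.getElem_of_mem ha'
  have hi2 : i < 114 := by rw [← len_A]; exact hi
  have hi2' : i' < 114 := by rw [← len_A]; exact hi'
  have m1 : ((i, k) : ℕ × ℕ) ∈ (↑S : Set (ℕ × ℕ)) := by
    rw [Finset.mem_coe, Finset.mem_product, Finset.mem_range, Finset.mem_range]
    exact ⟨hi2, hk⟩
  have m2 : ((i', k') : ℕ × ℕ) ∈ (↑S : Set (ℕ × ℕ)) := by
    rw [Finset.mem_coe, Finset.mem_product, Finset.mem_range, Finset.mem_range]
    exact ⟨hi2', hk'⟩
  have h3 := hinj m1 m2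
    (by
      show D (A.getD i 0) * D (Tf k) = D (A.getD i' 0) * D (Tf k')
      rw [List.getD_eq_getElem _ _ hi, List.getD_eq_getElem _ _ hi']
      exact h)
  exact congrArg Prod.snd h3

theorem orderOf_g19 : orderOf (g19 x y) = 19 :=
  orderOf_wp φ x y hx hy hφ w19 19 (by norm_num) ord_19

theorem mem_A_of_normalizer (hgen : Subgroup.closure ({x, y} : Set Γ) = ⊤) (n : Γ)
    (hn : n ∈ Subgroup.normalizer (Subgroup.zpowers (g19 x y) : Set Γ)) : ∃ a ∈ A, φ n = D a := by
  obtain ⟨a, ha, k, hk, h1⟩ := decomp φ x y hx hy hgen n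
  have h2 : n * g19 x y * n⁻¹ ∈ Subgroup.zpowers (g19 x y) :=
    (Subgroup.mem_normalizer_iff.mp hn _).mp (Subgroup.mem_zpowers _)
  obtain ⟨j, hj, h3⟩ := exists_pow_of_mem_zpowers (orderOf_g19 φ x y hx hy hφ) (by norm_num) h2
  have h4 : n * g19 x y = g19 x y ^ j * n := by rw [← h3]; group
  obtain ⟨a1, ha1, k', hk', hne, h5⟩ := chkStepFix_sound canon_cG19 canon_Tf step_G19 k hk
  have e1 : φ (n * g19 x y) = D a * (D a1 * D (Tf k')) := by
    rw [map_mul, h1, phi_g19 φ x y hx hy, mul_assoc, h5]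
  obtain ⟨a2, ha2, h6⟩ := A_mul_closed a ha a1 ha1
  have e1' : φ (n * g19 x y) = D a2 * D (Tf k') := by rw [e1, ← mul_assoc, h6]
  have e2 : φ (n * g19 x y) = D (P19L.getD j 0) * (D a * D (Tf k)) := by
    rw [h4, map_mul, phi_g19_pow φ x y hx hy j hj, h1]
  obtain ⟨a3, ha3, h7⟩ := A_mul_closed _ (P19L_mem_A j hj) a ha
  have e2' : φ (n * g19 x y) = D a3 * D (Tf k) := by rw [e2, ← mul_assoc, h7]
  have hkk : k' = k := coset_unique φ x y hx hy hφ hgen a2 a3 ha2 ha3 k' k hk' hk (e1'.symm.trans e2')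
  have hk0 : k = 0 := hne hkk
  subst hk0
  refine ⟨a, ha, ?_⟩
  rw [h1, head_T, D_c1, mul_one]

theorem g6_mem_normalizer : g6 x y ∈ Subgroup.normalizer (Subgroup.zpowers (g19 x y) : Set Γ) := by
  have ra : g19 x y * g6 x y = g6 x y * g19 x y ^ 12 := by
    apply hφ
    have h1 : φ (wp x y (w19 ++ w6)) = φ (wp x y (w6 ++ (List.replicate 12 w19).flatten)) := by
      rw [phi_wp φ x y hx hy, phi_wp φ x y hx hy, rel_a]
    unfold wp at h1
    simp only [wordProd_append, List.replicate, List.flatten_cons, List.flatten_nil, List.append_nil] at h1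
    unfold g19 g6 wp
    rw [h1]
    simp only [pow_succ, pow_zero, one_mul, mul_assoc]
  have rb : g6 x y * g19 x y = g19 x y ^ 8 * g6 x y := by
    apply hφ
    have h1 : φ (wp x y (w6 ++ w19)) = φ (wp x y ((List.replicate 8 w19).flatten ++ w6)) := by
      rw [phi_wp φ x y hx hy, phi_wp φ x y hx hy, rel_b]
    unfold wp at h1
    simp only [wordProd_append, List.replicate, List.flatten_cons, List.flatten_nil, List.append_nil] at h1
    unfold g19 g6 wp
    rw [h1]
    simp only [pow_succ, pow_zero, one_mul, mul_assoc]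
  have ca : (g6 x y)⁻¹ * g19 x y * g6 x y = g19 x y ^ 12 := by rw [mul_assoc, ra]; group
  have cb : g6 x y * g19 x y * (g6 x y)⁻¹ = g19 x y ^ 8 := by rw [rb]; group
  rw [Subgroup.mem_normalizer_iff]
  intro h
  constructor
  · intro hh
    obtain ⟨z, rfl⟩ := Subgroup.mem_zpowers_iff.mp hh
    rw [← conj_zpow, cb]
    exact Subgroup.zpow_mem _ (Subgroup.pow_mem _ (Subgroup.mem_zpowers _) 8) z
  · intro hh
    obtain ⟨z, hz⟩ := Subgroup.mem_zpowers_iff.mp hh
    have h1 : h = (g6 x y)⁻¹ * (g19 x y ^ z) * (g6 x y)⁻¹⁻¹ := by rw [hz]; group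
    rw [h1, ← conj_zpow, inv_inv, ca]
    exact Subgroup.zpow_mem _ (Subgroup.pow_mem _ (Subgroup.mem_zpowers _) 12) z

theorem exists_conj_map_le (hgen : Subgroup.closure ({x, y} : Set Γ) = ⊤) (α : MulAut Γ) :
    ∃ g : Γ, ∀ p ∈ Subgroup.zpowers (g19 x y), (MulAut.conj g * α) p ∈ Subgroup.zpowers (g19 x y) := by
  haveI : Finite Γ := Finite.of_injective φ hφ
  haveI : Fact (Nat.Prime 19) := ⟨by norm_num⟩
  have hcardP : Nat.card (Subgroup.zpowers (g19 x y)) = 19 := by
    rw [Nat.card_zpowers, orderOf_g19 φ x y hx hy hφ]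
  have hf : (Nat.card Γ).factorization 19 = 1 := by
    rw [card_eq φ x y hx hy hφ hgen, show (175560 : ℕ) = 19 ^ 1 * 9240 by norm_num]
    exact factorization_pow_mul (by norm_num) 1 9240 (by decide)
  have hcardP' : Nat.card ((Subgroup.zpowers (g19 x y)).map α.toMonoidHom) = 19 := by
    rw [Subgroup.card_map_of_injective α.injective, hcardP]
  obtain ⟨g, hg⟩ := MulAction.exists_smul_eq Γ
    (Sylow.ofCard ((Subgroup.zpowers (g19 x y)).map α.toMonoidHom) (by rw [hcardP', hf, pow_one]))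
    (Sylow.ofCard (Subgroup.zpowers (g19 x y)) (by rw [hcardP, hf, pow_one]))
  refine ⟨g, fun p hp => ?_⟩
  have h1 : α p ∈ (Subgroup.zpowers (g19 x y)).map α.toMonoidHom := Subgroup.mem_map_of_mem _ hp
  have h2 : g * α p * g⁻¹ ∈ ((g • Sylow.ofCard ((Subgroup.zpowers (g19 x y)).map α.toMonoidHom)
      (by rw [hcardP', hf, pow_one]) : Sylow 19 Γ) : Subgroup Γ) := by
    rw [Sylow.coe_subgroup_smul, Subgroup.mem_pointwise_smul_iff_inv_smul_mem, MulAut.smul_def,
      MulAut.conj_inv_apply]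
    simpa [mul_assoc] using h1
  rw [hg] at h2
  exact h2

theorem step2 (hgen : Subgroup.closure ({x, y} : Set Γ) = ⊤) (α : MulAut Γ)
    (hα : ∀ p ∈ Subgroup.zpowers (g19 x y), α p ∈ Subgroup.zpowers (g19 x y)) :
    ∃ k, 1 ≤ k ∧ k ≤ 18 ∧ α (g19 x y) = g19 x y ^ k ∧ ∃ a ∈ A, φ (α (g6 x y)) = D a := by
  haveI : Finite Γ := Finite.of_injective φ hφ
  have ho := orderOf_g19 φ x y hx hy hφ
  obtain ⟨k, hk, h1⟩ := exists_pow_of_mem_zpowers ho (by norm_num) (hα _ (Subgroup.mem_zpowers _))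
  have hk0 : k ≠ 0 := by
    rintro rfl
    rw [pow_zero] at h1
    have h2 : g19 x y = 1 := α.injective (by rw [h1, map_one])
    rw [h2, orderOf_one] at ho
    omega
  have hmap : (Subgroup.zpowers (g19 x y)).map α.toMonoidHom = Subgroup.zpowers (g19 x y) := by
    apply Subgroup.eq_of_le_of_card_ge
    · rintro q ⟨p, hp, rfl⟩
      exact hα p hp
    · rw [Subgroup.card_map_of_injective α.injective]
  have hn : α (g6 x y) ∈ Subgroup.normalizer (Subgroup.zpowers (g19 x y) : Set Γ) := by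
    rw [← hmap, ← Subgroup.map_equiv_normalizer_eq]
    exact Subgroup.mem_map_of_mem _ (g6_mem_normalizer φ x y hx hy hφ)
  exact ⟨k, by omega, by omega, h1, mem_A_of_normalizer φ x y hx hy hφ hgen _ hn⟩

end abstract

end Cfsg.Agent.Lib.Helper1.J1D
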