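import Cfsg.Agent.Lib.Helper1.J1Out3
import Cfsg.Prelude.Def_KGroupFacts

/-!
# Every automorphism of the group generated by the coded matrices is inner (conclusion)
-/

set_option autoImplicit false

namespace Cfsg.Agent.Lib.Helper1.J1D

open Cfsg.Agent.Lib.Helper1.MatCode Cfsg.Agent.Lib.Helper1.SylowChain

section abstract

set_option maxRecDepth 100000

variable {Γ : Type*} [Group Γ] (φ : Γ →* Mat) (x y : Γ)
variable (hx : φ x = D cX) (hy : φ y = D cY) (hφ : Function.Injective φ)
include hx hy hφ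

theorem step3 (hgen : Subgroup.closure ({x, y} : Set Γ) = ⊤) (α : MulAut Γ)
    (hα : ∀ p ∈ Subgroup.zpowers (g19 x y), α p ∈ Subgroup.zpowers (g19 x y)) :
    ∃ h : Γ, ∃ k0, (k0 = 1 ∨ k0 = 2 ∨ k0 = 4) ∧ (MulAut.conj h * α) (g19 x y) = g19 x y ^ k0 ∧
      (MulAut.conj h * α) (g6 x y) = g6 x y := by
  obtain ⟨k, hk1, hk, h19, a, ha, h6⟩ := step2 φ x y hx hy hφ hgen α hα
  obtain ⟨i, hi, rfl⟩ := List.getElem_of_mem ha
  have hi2 : i < 114 := by rw [← len_A]; exact hi
  rw [← List.getD_eq_getElem _ 0 hi] at h6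
  have ho := orderOf_g19 φ x y hx hy hφ
  -- the relation
  have ra : g19 x y * g6 x y = g6 x y * g19 x y ^ 12 := by
    apply hφ
    have h1 : φ (wp x y (w19 ++ w6)) = φ (wp x y (w6 ++ (List.replicate 12 w19).flatten)) := by
      rw [phi_wp φ x y hx hy, phi_wp φ x y hx hy, rel_a]
    unfold wp at h1
    simp only [wordProd_append, List.replicate, List.flatten_cons, List.flatten_nil, List.append_nil] at h1
    unfold g19 g6 wp
    rw [h1]
    simp only [pow_succ, pow_zero, one_mul, mul_assoc]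
  have h1 := congrArg α ra
  rw [map_mul, map_mul, map_pow, h19, ← pow_mul, ← pow_mod_orderOf (g19 x y) (k * 12), ho,
    show k * 12 = 12 * k by ring] at h1
  have h2 := congrArg φ h1
  rw [map_mul, map_mul, phi_g19_pow φ x y hx hy k (by omega),
    phi_g19_pow φ x y hx hy _ (Nat.mod_lt _ (by norm_num)), h6] at h2
  obtain ⟨k0, hk0, ah, hah, ahv, hahv, e1, e2, e3⟩ := nt_sound k i hk1 hk hi2 h2
  obtain ⟨h, hh⟩ := lift_A φ x y hx hy ah hah
  have hhi : φ h⁻¹ = D ahv := phi_inv_of_mul_eq_one φ h ah ahv hh e1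
  have hk019 : k0 < 19 := by rcases hk0 with rfl | rfl | rfl <;> norm_num
  refine ⟨h, k0, hk0, ?_, ?_⟩
  · apply hφ
    rw [MulAut.mul_apply, MulAut.conj_apply, h19, map_mul, map_mul, hh, hhi,
      phi_g19_pow φ x y hx hy k (by omega), e2, phi_g19_pow φ x y hx hy k0 hk019]
  · apply hφ
    rw [MulAut.mul_apply, MulAut.conj_apply, map_mul, map_mul, hh, hhi, h6, e3, phi_g6 φ x y hx hy]

theorem mem_L120 (hgen : Subgroup.closure ({x, y} : Set Γ) = ⊤) (c : Γ)
    (hc : c ∈ Subgroup.centralizer ({tau x y} : Set Γ)) : ∃ a ∈ L120, φ c = D a := by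
  haveI : Finite Γ := Finite.of_injective φ hφ
  -- the subgroup generated by `tau`, `uu`, `vv`
  set H : Subgroup Γ := Subgroup.closure {tau x y, uu x y, vv x y} with hH
  have hKle := KK_le φ x y hx hy hφ
  have hτC : tau x y ∈ Subgroup.centralizer ({tau x y} : Set Γ) := by
    rw [Subgroup.mem_centralizer_iff]
    intro h hh
    rw [Set.mem_singleton_iff.mp hh]
  have hHC : H ≤ Subgroup.centralizer ({tau x y} : Set Γ) := by
    rw [hH, Subgroup.closure_le]
    rintro g (rfl | rfl | hg)
    · exact hτC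
    · exact hKle (Subgroup.subset_closure (by simp))
    · rw [Set.mem_singleton_iff.mp hg]
      exact hKle (Subgroup.subset_closure (by simp))
  have hKH : KK x y ≤ H := by
    unfold KK
    rw [hH]
    apply Subgroup.closure_mono
    intro g hg
    rcases hg with rfl | hg
    · simp
    · rw [Set.mem_singleton_iff.mp hg]; simp
  have hτH : tau x y ∈ H := Subgroup.subset_closure (by simp)
  have hcK := card_KK φ x y hx hy hφ
  have hdvd : 60 ∣ Nat.card H := hcK ▸ Subgroup.card_dvd_of_le hKH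
  have hne : Nat.card H ≠ 60 := by
    intro h60
    have : KK x y = H := Subgroup.eq_of_le_of_card_ge hKH (by rw [h60, hcK])
    exact tau_not_mem φ x y hx hy hφ (this ▸ hτH)
  have hCle := card_centralizer_le φ x y hx hy hφ hgen
  have hHle : Nat.card H ≤ Nat.card (Subgroup.centralizer ({tau x y} : Set Γ)) :=
    Subgroup.card_le_of_le hHC
  have hpos : 0 < Nat.card H := Nat.card_pos
  have hH120 : 120 ≤ Nat.card H := by
    obtain ⟨m, hm⟩ := hdvd
    have : m ≠ 0 := by rintro rfl; omega
    have : m ≠ 1 := by rintro rfl; omega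
    omega
  have hHeq : H = Subgroup.centralizer ({tau x y} : Set Γ) :=
    Subgroup.eq_of_le_of_card_ge hHC (by omega)
  have hcH : c ∈ H := by rw [hHeq]; exact hc
  have hrc := rc_L120
  rw [List.all_eq_true] at hrc
  have hstep : ∀ u ∈ ({tau x y, uu x y, vv x y} : Set Γ), ∀ q ∈ AT D L120 [c1], q * φ u ∈ AT D L120 [c1] := by
    rintro u hu q ⟨a, ha, t, ht, rfl⟩
    rw [List.mem_singleton.mp ht, D_c1, mul_one]
    have key : ∀ s ∈ [cT, cU, cV], Canon 7 11 s → φ u = D s → D a * φ u ∈ AT D L120 [c1] := by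
      intro s hs hcs hus
      obtain ⟨q', hq', h4⟩ := chkRC_sound D mul7 (Canon 7 11) hmu hcs (hrc s hs) a ha
      exact ⟨q', hq', c1, List.mem_singleton.mpr rfl, by rw [hus, h4, D_c1, mul_one]⟩
    rcases hu with rfl | rfl | hu
    · exact key cT (by simp) (canon_inv' cT (by simp)) (phi_tau φ x y hx hy)
    · exact key cU (by simp) canon_cU (phi_uu φ x y hx hy)
    · have hu' := Set.mem_singleton_iff.mp hu
      subst hu'
      exact key cV (by simp) canon_cV (phi_vv φ x y hx hy)
  have h1 := subgroup_closure_subset φ (AT_finite D L120 [c1])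
    (one_mem_AT_of_head head_L120 (by rw [len_L120]; decide)) _ hstep c hcH
  obtain ⟨a, ha, t, ht, h2⟩ := h1
  rw [List.mem_singleton.mp ht, D_c1, mul_one] at h2
  exact ⟨a, ha, h2⟩

theorem tau_eq : tau x y = g6 x y * g6 x y * g6 x y := by
  apply hφ
  have h1 : φ (wp x y (w6 ++ w6 ++ w6)) = D cT := by rw [phi_wp φ x y hx hy, ev_w6_cube]
  unfold wp at h1
  rw [wordProd_append, wordProd_append] at h1
  rw [phi_tau φ x y hx hy, ← h1]
  rfl

theorem step5 (hgen : Subgroup.closure ({x, y} : Set Γ) = ⊤) (β : MulAut Γ) (k0 : ℕ)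
    (hk0 : k0 = 1 ∨ k0 = 2 ∨ k0 = 4) (h19 : β (g19 x y) = g19 x y ^ k0)
    (h6 : β (g6 x y) = g6 x y) : β = 1 := by
  have hτ : β (tau x y) = tau x y := by
    rw [tau_eq φ x y hx hy hφ, map_mul, map_mul, h6]
  have hvC : vv x y ∈ Subgroup.centralizer ({tau x y} : Set Γ) :=
    KK_le φ x y hx hy hφ (Subgroup.subset_closure (by simp))
  have hβv : β (vv x y) ∈ Subgroup.centralizer ({tau x y} : Set Γ) := by
    rw [Subgroup.mem_centralizer_iff] at hvC ⊢
    intro h hh
    rw [Set.mem_singleton_iff.mp hh]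
    have := congrArg β (hvC (tau x y) (Set.mem_singleton _))
    rwa [map_mul, map_mul, hτ] at this
  obtain ⟨c, hc, hcv⟩ := mem_L120 φ x y hx hy hφ hgen _ hβv
  obtain ⟨j, hj, rfl⟩ := List.getElem_of_mem hc
  have hj2 : j < 120 := by rw [← len_L120]; exact hj
  rw [← List.getD_eq_getElem _ 0 hj] at hcv
  -- the index of `k0`
  obtain ⟨a, ha, hak⟩ : ∃ a, a < 3 ∧ [1, 2, 4].getD a 0 = k0 := by
    rcases hk0 with rfl | rfl | rfl
    · exact ⟨0, by norm_num, rfl⟩
    · exact ⟨1, by norm_num, rfl⟩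
    · exact ⟨2, by norm_num, rfl⟩
  have hk019 : k0 < 19 := by rcases hk0 with rfl | rfl | rfl <;> norm_num
  -- the original generators
  have hG3 : ∀ i, ∀ (h : i < [g19 x y, g6 x y, vv x y].length) (h' : i < gens3.length),
      φ [g19 x y, g6 x y, vv x y][i] = D gens3[i] := by
    intro i h h'
    have hi : i < 3 := h
    interval_cases i
    · exact phi_g19 φ x y hx hy
    · exact phi_g6 φ x y hx hy
    · exact phi_vv φ x y hx hy
  have hcan3 : ∀ c ∈ gens3, Canon 7 11 c := by
    intro c hc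
    simp only [gens3, List.mem_cons, List.not_mem_nil, or_false] at hc
    rcases hc with rfl | rfl | rfl
    · exact canon_cG19
    · exact canon_cG6
    · exact canon_cV
  rcases et_sound a j ha hj2 with ⟨ha0, hjv⟩ | ⟨e, he, hne⟩
  · -- the surviving case
    subst ha0
    have hk1 : k0 = 1 := hak.symm
    subst hk1
    rw [pow_one] at h19
    have hv : β (vv x y) = vv x y := by
      apply hφ
      rw [hcv, hjv, phi_vv φ x y hx hy]
    have hfix : ∀ w : List ℕ, β (wordProd [g19 x y, g6 x y, vv x y] w) =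
        wordProd [g19 x y, g6 x y, vv x y] w := by
      intro w
      have := map_wordProd β.toMonoidHom [g19 x y, g6 x y, vv x y] w
      simp only [List.map_cons, List.map_nil, MulEquiv.coe_toMonoidHom, h19, h6, hv] at this
      exact this
    have hxw : x = wordProd [g19 x y, g6 x y, vv x y] wX3 := by
      apply hφ
      rw [phi_wordProd φ _ gens3 rfl hG3 hcan3, gen_X3, hx]
    have hyw : y = wordProd [g19 x y, g6 x y, vv x y] wY3 := by
      apply hφ
      rw [phi_wordProd φ _ gens3 rfl hG3 hcan3, gen_Y3, hy]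
    have hβx : β x = x := by rw [hxw]; exact hfix _
    have hβy : β y = y := by rw [hyw]; exact hfix _
    have : β.toMonoidHom = MonoidHom.id Γ := by
      apply MonoidHom.eq_of_eqOn_dense hgen
      intro g hg
      rcases hg with rfl | hg
      · exact hβx
      · rw [Set.mem_singleton_iff.mp hg]; exact hβy
    ext g
    exact DFunLike.congr_fun this g
  · -- the eliminated cases
    exfalso
    rw [hak] at hne
    have h1 : wordProd [g19 x y, g6 x y, vv x y] (wE.getD e []) ^ (mE.getD e 0) = 1 := by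
      apply hφ
      rw [phi_wordProd_pow φ _ gens3 rfl hG3 hcan3, eorig_sound e he, D_c1, map_one]
    have h2 := congrArg β h1
    rw [map_pow, map_one] at h2
    have h3 := map_wordProd β.toMonoidHom [g19 x y, g6 x y, vv x y] (wE.getD e [])
    simp only [List.map_cons, List.map_nil, MulEquiv.coe_toMonoidHom, h19, h6] at h3
    rw [h3] at h2
    have hG' : ∀ i, ∀ (h : i < [g19 x y ^ k0, g6 x y, β (vv x y)].length)
        (h' : i < [P19L.getD k0 0, cG6, L120.getD j 0].length),
        φ [g19 x y ^ k0, g6 x y, β (vv x y)][i] = D [P19L.getD k0 0, cG6, L120.getD j 0][i] := by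
      intro i h h'
      have hi : i < 3 := h
      interval_cases i
      · exact phi_g19_pow φ x y hx hy k0 hk019
      · exact phi_g6 φ x y hx hy
      · exact hcv
    have hcan' : ∀ c ∈ [P19L.getD k0 0, cG6, L120.getD j 0], Canon 7 11 c := by
      intro c hc
      simp only [List.mem_cons, List.not_mem_nil, or_false] at hc
      rcases hc with rfl | rfl | rfl
      · exact canon_P19L _ (getD_mem_P19L k0 hk019)
      · exact canon_cG6
      · exact canon_L120 _ (getD_mem_L120 j hj2)
    have h4 := congrArg φ h2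
    rw [phi_wordProd_pow φ _ [P19L.getD k0 0, cG6, L120.getD j 0] rfl hG' hcan', map_one, ← D_c1] at h4
    exact dec_ne_of_neB 7 11 hne h4

theorem aut_inner (hgen : Subgroup.closure ({x, y} : Set Γ) = ⊤) (α : MulAut Γ) :
    α ∈ (MulAut.conj : Γ →* MulAut Γ).range := by
  obtain ⟨g, hg⟩ := exists_conj_map_le φ x y hx hy hφ hgen α
  obtain ⟨h, k0, hk0, h19, h6⟩ := step3 φ x y hx hy hφ hgen (MulAut.conj g * α) hg
  have h1 := step5 φ x y hx hy hφ hgen (MulAut.conj h * (MulAut.conj g * α)) k0 hk0 h19 h6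
  have h2 : α = MulAut.conj (g⁻¹ * h⁻¹) := by
    rw [← mul_assoc] at h1
    have h3 : α = (MulAut.conj h * MulAut.conj g)⁻¹ := eq_inv_of_mul_eq_one_right h1
    rw [h3, map_mul, map_inv, map_inv, mul_inv_rev]
  rw [h2]
  exact ⟨_, rfl⟩

theorem card_out (hgen : Subgroup.closure ({x, y} : Set Γ) = ⊤) : Nat.card (Cfsg.Out Γ) = 1 := by
  have htop : Cfsg.Inn Γ = ⊤ := by
    rw [eq_top_iff]
    intro α _
    exact aut_inner φ x y hx hy hφ hgen α
  show Nat.card (MulAut Γ ⧸ Cfsg.Inn Γ) = 1
  rw [← Subgroup.index, htop, Subgroup.index_top]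

end abstract

end Cfsg.Agent.Lib.Helper1.J1D
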