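import Mathlib

set_option autoImplicit false

namespace Cfsg.Agent.Lib.Helper1.SharpTrans

open MulAction

variable {G α : Type*} [Group G] [MulAction G α]

theorem finite_of_faithful [FaithfulSMul G α] [Finite α] : Finite G :=
  Finite.of_injective (MulAction.toPermHom G α) MulAction.toPerm_injective

/-- a sharply `k`-transitive group has the order of the set of `k`-tuples -/
theorem card_of_sharp [Fintype α] (k : ℕ) (hk : k ≤ Fintype.card α)
    [IsMultiplyPretransitive G α k] (hsharp : ∀ x : Fin k ↪ α, stabilizer G x = ⊥) :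
    Nat.card G = (Fintype.card α).descFactorial k := by
  classical
  have hne : Nonempty (Fin k ↪ α) := by
    rw [Function.Embedding.nonempty_iff_card_le, Fintype.card_fin]
    exact hk
  obtain ⟨x₀⟩ := hne
  have hbij : Function.Bijective (fun g : G => g • x₀) := by
    constructor
    · intro g h hgh
      replace hgh : g • x₀ = h • x₀ := hgh
      have h1 : (h⁻¹ * g) • x₀ = x₀ := by
        rw [mul_smul]
        change h⁻¹ • (g • x₀) = x₀
        rw [hgh, inv_smul_smul]
      have h2 : h⁻¹ * g ∈ stabilizer G x₀ := h1
      rw [hsharp x₀, Subgroup.mem_bot] at h2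
      calc g = h * (h⁻¹ * g) := by group
        _ = h := by rw [h2, mul_one]
    · intro y
      exact MulAction.exists_smul_eq G x₀ y
  rw [Nat.card_congr (Equiv.ofBijective _ hbij), Nat.card_eq_fintype_card,
    Fintype.card_embedding_eq, Fintype.card_fin]

/-- a subgroup acting trivially is trivial -/
theorem eq_bot_of_trivial [FaithfulSMul G α] (K : Subgroup G) (h : ∀ k ∈ K, ∀ a : α, k • a = a) :
    K = ⊥ := by
  rw [Subgroup.eq_bot_iff_forall]
  intro k hk
  apply FaithfulSMul.eq_of_smul_eq_smul (α := α)
  intro a
  rw [h k hk a, one_smul]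

/-- a subgroup of prime order `p` of a group acting faithfully on `p` points is transitive -/
theorem orbit_eq_univ_of_prime [FaithfulSMul G α] [Fintype α] (p : ℕ) [hp : Fact p.Prime]
    (hα : Fintype.card α = p) (P : Subgroup G) (hP : Nat.card P = p) (a : α) :
    orbit P a = Set.univ := by
  classical
  have hfin : Finite G := finite_of_faithful (α := α)
  -- some orbit is not a singleton
  have hex : ∃ b : α, (orbit P b).ncard = p := by
    by_contra hne
    push Not at hne
    have htriv : ∀ k ∈ P, ∀ b : α, k • b = b := by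
      intro k hk b
      have hd : (orbit P b).ncard ∣ p := by
        rw [← index_stabilizer, ← hP]
        exact Subgroup.index_dvd_card _
      have h1 : (orbit P b).ncard = 1 := by
        rcases (Nat.dvd_prime hp.out).mp hd with h | h
        · exact h
        · exact absurd h (hne b)
      rw [Set.ncard_eq_one] at h1
      obtain ⟨c, hc⟩ := h1
      have hb : b ∈ orbit P b := mem_orbit_self b
      have hkb : (⟨k, hk⟩ : P) • b ∈ orbit P b := mem_orbit b _
      rw [hc, Set.mem_singleton_iff] at hb hkb
      change k • b = c at hkb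
      rw [hkb, hb]
    have := eq_bot_of_trivial P htriv
    rw [this, Subgroup.card_bot] at hP
    exact hp.out.one_lt.ne hP
  obtain ⟨b, hb⟩ := hex
  have hb' : orbit P b = Set.univ := by
    rw [Set.eq_univ_iff_ncard, hb, Nat.card_eq_fintype_card, hα]
  have ha : a ∈ orbit P b := by rw [hb']; trivial
  rw [orbit_eq_iff.mpr ha, hb']

/-- a transitive abelian subgroup of a faithful action is self-centralising -/
theorem centralizer_le_of_transitive [FaithfulSMul G α] (P : Subgroup G)
    (hab : ∀ x ∈ P, ∀ y ∈ P, x * y = y * x)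
    (htr : ∀ a : α, orbit P a = Set.univ) [Nonempty α] :
    Subgroup.centralizer (P : Set G) ≤ P := by
  intro g hg
  obtain ⟨a⟩ := (inferInstance : Nonempty α)
  have hga : g • a ∈ orbit P a := by rw [htr a]; trivial
  obtain ⟨h, hh⟩ := hga
  have hh' : (h : G) • a = g • a := hh
  have hfix : ∀ b : α, ((h : G)⁻¹ * g) • b = b := by
    intro b
    have hb : b ∈ orbit P a := by rw [htr a]; trivial
    obtain ⟨k, rfl⟩ := hb
    change ((h : G)⁻¹ * g) • ((k : G) • a) = (k : G) • a
    have hcomm : (k : G) * g = g * (k : G) := hg (k : G) k.2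
    have hcomm2 : (h : G)⁻¹ * (k : G) = (k : G) * (h : G)⁻¹ :=
      hab _ (P.inv_mem h.2) _ k.2
    rw [← mul_smul, mul_assoc, ← hcomm, ← mul_assoc, hcomm2, mul_assoc, mul_smul, mul_smul,
      ← hh', inv_smul_smul]
  have h1 : (h : G)⁻¹ * g = 1 := by
    apply FaithfulSMul.eq_of_smul_eq_smul (α := α)
    intro b
    rw [hfix b, one_smul]
  have h2 : g = (h : G) := by
    calc g = (h : G) * ((h : G)⁻¹ * g) := by group
      _ = h := by rw [h1, mul_one]
  rw [h2]
  exact h.2

end Cfsg.Agent.Lib.Helper1.SharpTrans
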