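import Mathlib
import Cfsg.Agent.Lib.Helper1.SharpTrans1

set_option autoImplicit false

namespace Cfsg.Agent.Lib.Helper1.SharpTrans

open MulAction

section abstractPart

variable {G : Type*} [Group G] [Finite G]

theorem fact_prime_eleven : Fact (Nat.Prime 11) := ⟨by norm_num⟩

/-- the normaliser of a self-centralising Sylow subgroup of order 11 in a group of order 7920
has order 55 -/
theorem card_normalizer_eq (hG : Nat.card G = 7920) (P : Sylow 11 G)
    (hP : Nat.card (P : Subgroup G) = 11)
    (hC : Subgroup.centralizer ((P : Subgroup G) : Set G) ≤ P) :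
    Nat.card (Subgroup.normalizer ((P : Subgroup G) : Set G)) = 55 := by
  have := fact_prime_eleven
  have hcyc : IsCyclic (P : Subgroup G) := isCyclic_of_prime_card hP
  have key := Subgroup.card_dvd_of_injective _
    (QuotientGroup.kerLift_injective (P : Subgroup G).normalizerMonoidHom)
  rw [Subgroup.normalizerMonoidHom_ker, ← Subgroup.index, ← Subgroup.relIndex] at key
  rw [hcyc.card_mulAut, hP] at key
  have hle : (P : Subgroup G) ≤ Subgroup.centralizer ((P : Subgroup G) : Set G) := by
    have := hcyc.isMulCommutative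
    exact Subgroup.le_centralizer _
  have hCP : Subgroup.centralizer ((P : Subgroup G) : Set G) = P := le_antisymm hC hle
  rw [hCP] at key
  have h1 : Nat.card (P : Subgroup G) *
      (P : Subgroup G).relIndex (Subgroup.normalizer ((P : Subgroup G) : Set G)) =
      Nat.card (Subgroup.normalizer ((P : Subgroup G) : Set G)) := by
    have := Subgroup.relIndex_mul_relIndex (⊥ : Subgroup G) (P : Subgroup G)
      (Subgroup.normalizer ((P : Subgroup G) : Set G)) bot_le Subgroup.le_normalizer
    rwa [Subgroup.relIndex_bot_left, Subgroup.relIndex_bot_left] at this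
  have h2 : Nat.card (Subgroup.normalizer ((P : Subgroup G) : Set G)) *
      (Subgroup.normalizer ((P : Subgroup G) : Set G)).index = Nat.card G :=
    Subgroup.card_mul_index _
  have h3 : Nat.card (Sylow 11 G) ≡ 1 [MOD 11] := card_sylow_modEq_one 11 G
  rw [Sylow.card_eq_index_normalizer P] at h3
  rw [hP] at h1
  rw [hG] at h2
  have hφ : Nat.totient 11 = 10 := by
    rw [Nat.totient_prime (by norm_num)]
  rw [hφ] at key
  generalize (P : Subgroup G).relIndex (Subgroup.normalizer ((P : Subgroup G) : Set G)) = r at *
  generalize (Subgroup.normalizer ((P : Subgroup G) : Set G)).index = idx at *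
  generalize Nat.card (Subgroup.normalizer ((P : Subgroup G) : Set G)) = m at *
  have hr : r ≤ 10 := Nat.le_of_dvd (by norm_num) key
  unfold Nat.ModEq at h3
  subst h1
  interval_cases r <;> omega

theorem card_sylow_eleven (hG : Nat.card G = 7920) (N : Subgroup G) (h11 : 11 ∣ Nat.card N)
    (Q : Sylow 11 N) : Nat.card (Q : Subgroup N) = 11 := by
  have := fact_prime_eleven
  obtain ⟨n, hn⟩ := Q.2.exists_card_eq
  have h1 : 11 ∣ Nat.card (Q : Subgroup N) := Q.dvd_card_of_dvd_card h11
  have h2 : Nat.card (Q : Subgroup N) ∣ 7920 := by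
    rw [← hG]
    exact (Subgroup.card_subgroup_dvd_card _).trans (Subgroup.card_subgroup_dvd_card N)
  rw [hn] at h1 h2 ⊢
  have hn1 : n < 2 := by
    by_contra hcon
    push Not at hcon
    have : 11 ^ 2 ∣ 7920 := (pow_dvd_pow 11 hcon).trans h2
    norm_num at this
  have hn0 : n ≠ 0 := by
    rintro rfl
    norm_num at h1
  have : n = 1 := by omega
  rw [this, pow_one]

theorem exists_sylow_of_card (hG : Nat.card G = 7920) (P : Subgroup G) (hP : Nat.card P = 11) :
    ∃ S : Sylow 11 G, (S : Subgroup G) = P := by
  have := fact_prime_eleven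
  have hfac : (7920 : ℕ).factorization 11 = 1 := by
    have h : (7920 : ℕ) = 11 * 720 := by norm_num
    rw [h, Nat.factorization_mul (by norm_num) (by norm_num), Finsupp.add_apply,
      Nat.Prime.factorization_self (by norm_num),
      Nat.factorization_eq_zero_of_not_dvd (by norm_num)]
  exact ⟨Sylow.ofCard P (by rw [hP, hG, hfac, pow_one]), rfl⟩

/-- a normal subgroup of order divisible by 11 of a group of order 7920 with self-centralising
subgroups of order 11 is everything or has a proper nontrivial normal subgroup of order prime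
to 11 -/
theorem normal_cases (hG : Nat.card G = 7920)
    (hC : ∀ P : Subgroup G, Nat.card P = 11 → Subgroup.centralizer (P : Set G) ≤ P)
    (N : Subgroup G) [hN : N.Normal] (h11 : 11 ∣ Nat.card N) :
    N = ⊤ ∨ ∃ K : Subgroup N, K.Normal ∧ K ≠ ⊥ ∧ ¬ 11 ∣ Nat.card K := by
  have := fact_prime_eleven
  let Q : Sylow 11 N := default
  have hQ : Nat.card (Q : Subgroup N) = 11 := card_sylow_eleven hG N h11 Q
  obtain ⟨P, hPdef⟩ : ∃ P : Subgroup G, (Q : Subgroup N).map N.subtype = P := ⟨_, rfl⟩
  have hPc : Nat.card P = 11 := by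
    rw [← hPdef, Subgroup.card_map_of_injective N.subtype_injective, hQ]
  obtain ⟨S, hS⟩ := exists_sylow_of_card hG P hPc
  have h55 := card_normalizer_eq hG S (by rw [hS]; exact hPc) (by rw [hS]; exact hC _ hPc)
  rw [hS] at h55
  have hfr : Subgroup.normalizer (P : Set G) ⊔ N = ⊤ := by
    rw [← hPdef]
    exact Sylow.normalizer_sup_eq_top Q
  have hPN : P ≤ N := by
    rw [← hPdef]
    exact Subgroup.map_subtype_le _
  by_cases hle : Subgroup.normalizer (P : Set G) ≤ N
  · left
    rw [← hfr]
    exact (sup_eq_right.mpr hle).symm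
  · right
    have hPle : P ≤ N ⊓ Subgroup.normalizer (P : Set G) := le_inf hPN Subgroup.le_normalizer
    have h1 : 11 ∣ Nat.card (N ⊓ Subgroup.normalizer (P : Set G) : Subgroup G) := by
      rw [← hPc]
      exact Subgroup.card_dvd_of_le hPle
    have h2 : Nat.card (N ⊓ Subgroup.normalizer (P : Set G) : Subgroup G) ∣ 55 := by
      rw [← h55]
      exact Subgroup.card_dvd_of_le inf_le_right
    have h3 : Nat.card (N ⊓ Subgroup.normalizer (P : Set G) : Subgroup G) ≠ 55 := by
      intro h
      apply hle
      have : N ⊓ Subgroup.normalizer (P : Set G) = Subgroup.normalizer (P : Set G) :=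
        Subgroup.eq_of_le_of_card_ge inf_le_right (by rw [h, h55])
      rw [← this]
      exact inf_le_left
    have h4 : Nat.card (N ⊓ Subgroup.normalizer (P : Set G) : Subgroup G) = 11 := by
      generalize Nat.card (N ⊓ Subgroup.normalizer (P : Set G) : Subgroup G) = c at *
      have hc : c ≤ 55 := Nat.le_of_dvd (by norm_num) h2
      obtain ⟨d, rfl⟩ := h1
      have hd : d ≤ 5 := by omega
      interval_cases d <;> simp_all
    -- the normaliser of `Q` inside `N`
    have hQeq : (Q : Subgroup N) = P.subgroupOf N := by
      rw [← hPdef, Subgroup.subgroupOf, Subgroup.comap_map_eq_self_of_injective N.subtype_injective]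
    have hnQ : Nat.card (Subgroup.normalizer ((Q : Subgroup N) : Set N)) = 11 := by
      rw [hQeq, ← Subgroup.subgroupOf_normalizer_eq hPN, ← h4, inf_comm,
        ← Subgroup.inf_subgroupOf_right]
      exact Nat.card_congr (Subgroup.subgroupOfEquivOfLe inf_le_right).toEquiv
    have hnQ' : (Q : Subgroup N) = Subgroup.normalizer ((Q : Subgroup N) : Set N) :=
      Subgroup.eq_of_le_of_card_ge Subgroup.le_normalizer (by rw [hnQ, hQ])
    have hcyc : IsCyclic (Q : Subgroup N) := isCyclic_of_prime_card hQ
    have hQcomm : Subgroup.normalizer ((Q : Subgroup N) : Set N) ≤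
        Subgroup.centralizer ((Q : Subgroup N) : Set N) := by
      rw [← hnQ']
      have := hcyc.isMulCommutative
      exact Subgroup.le_centralizer _
    have hK := MonoidHom.ker_transferSylow_isComplement' Q hQcomm
    have hcard := hK.card_mul_card
    rw [hQ] at hcard
    refine ⟨(MonoidHom.transferSylow Q hQcomm).ker, inferInstance, ?_, ?_⟩
    · intro hbot
      rw [hbot, Subgroup.card_bot, one_mul] at hcard
      have hPN' : P = N := Subgroup.eq_of_le_of_card_ge hPN (by rw [hPc, ← hcard])
      have hnt : Subgroup.normalizer (N : Set G) = ⊤ := Subgroup.normalizer_eq_top N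
      rw [hPN', hnt, Subgroup.card_top, hG] at h55
      norm_num at h55
    · intro hdvd
      have hNd : Nat.card N ∣ 7920 := by
        rw [← hG]
        exact Subgroup.card_subgroup_dvd_card N
      rw [← hcard] at hNd
      obtain ⟨e, he⟩ := hdvd
      rw [he] at hNd
      have : 11 * 11 ∣ 7920 := by
        refine Dvd.dvd.trans ?_ hNd
        exact ⟨e, by ring⟩
      norm_num at this

end abstractPart

end Cfsg.Agent.Lib.Helper1.SharpTrans
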