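import Mathlib
import Cfsg.Agent.Lib.Helper1.SharpTrans2

set_option autoImplicit false

namespace Cfsg.Agent.Lib.Helper1.SharpTrans

open MulAction

/-- a nontrivial normal subgroup of a faithful preprimitive group has order divisible by the
degree -/
theorem card_dvd_of_normal {G α : Type*} [Group G] [MulAction G α] [FaithfulSMul G α] [Finite α]
    [IsPreprimitive G α] (N : Subgroup G) [N.Normal] (hN : N ≠ ⊥) :
    Nat.card α ∣ Nat.card N := by
  have hfin : Finite G := finite_of_faithful (α := α)
  have hfix : fixedPoints N α ≠ Set.univ := by
    intro h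
    apply hN
    apply eq_bot_of_trivial (α := α)
    intro k hk a
    have ha : a ∈ fixedPoints N α := by rw [h]; trivial
    exact ha ⟨k, hk⟩
  have htr : IsPretransitive N α := IsQuasiPreprimitive.isPretransitive_of_normal hfix
  rcases isEmpty_or_nonempty α with he | ⟨⟨a⟩⟩
  · rw [Nat.card_of_isEmpty]
    -- zero divides only zero; but then the group is trivial
    exfalso
    apply hN
    apply eq_bot_of_trivial (α := α)
    intro k _ a
    exact (he.false a).elim
  · have h1 : orbit N a = Set.univ := (isPretransitive_iff_orbit_eq_univ a).mp htr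
    have h2 : (orbit N a).ncard = Nat.card α := by
      rw [h1, Set.ncard_univ]
    rw [← h2, ← index_stabilizer]
    exact Subgroup.index_dvd_card _

/-- a sharply 4-transitive group of degree 11 is simple of order 7920 -/
theorem M11_core {G α : Type*} [Group G] [MulAction G α] [FaithfulSMul G α] [Fintype α]
    (hα : Fintype.card α = 11) [IsMultiplyPretransitive G α 4]
    (hsharp : ∀ x : Fin 4 ↪ α, stabilizer G x = ⊥) :
    IsSimpleGroup G ∧ Nat.card G = 7920 := by
  classical
  have := fact_prime_eleven
  have hfin : Finite G := finite_of_faithful (α := α)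
  have hcard : Nat.card G = 7920 := by
    rw [card_of_sharp 4 (by rw [hα]; norm_num) hsharp, hα]
    rfl
  have hnc : Nat.card α = 11 := by rw [Nat.card_eq_fintype_card, hα]
  have h2 : IsMultiplyPretransitive G α 2 :=
    isMultiplyPretransitive_of_le (n := 4) (by norm_num) (by rw [hnc]; norm_num)
  have hprim : IsPreprimitive G α := isPreprimitive_of_is_two_pretransitive h2
  have hne : Nonempty α := by
    rw [← Fintype.card_pos_iff, hα]; norm_num
  have hC : ∀ P : Subgroup G, Nat.card P = 11 → Subgroup.centralizer (P : Set G) ≤ P := by
    intro P hP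
    have hcyc : IsCyclic P := isCyclic_of_prime_card hP
    have hcomm := hcyc.isMulCommutative
    apply centralizer_le_of_transitive (α := α) P
    · intro x hx y hy
      have := mul_comm' (⟨x, hx⟩ : P) ⟨y, hy⟩
      exact congrArg Subtype.val this
    · intro a
      exact orbit_eq_univ_of_prime 11 hα P hP a
  have hnt : Nontrivial G := by
    rw [← Finite.one_lt_card_iff_nontrivial, hcard]; norm_num
  refine ⟨⟨fun N hN => ?_⟩, hcard⟩
  by_contra hcon
  push Not at hcon
  obtain ⟨hNbot, hNtop⟩ := hcon
  have h11 : 11 ∣ Nat.card N := by
    rw [← hnc]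
    exact card_dvd_of_normal N hNbot
  rcases normal_cases hcard hC N h11 with h | ⟨K, hKn, hKbot, hK11⟩
  · exact hNtop h
  · -- `N` acts faithfully and primitively on the 11 points
    have htrN : IsPretransitive N α := by
      have hfix : fixedPoints N α ≠ Set.univ := by
        intro h
        apply hNbot
        apply eq_bot_of_trivial (α := α)
        intro k hk a
        have ha : a ∈ fixedPoints N α := by rw [h]; trivial
        exact ha ⟨k, hk⟩
      exact IsQuasiPreprimitive.isPretransitive_of_normal hfix
    have hprimN : IsPreprimitive N α := IsPreprimitive.of_prime_card (by rw [hnc]; norm_num)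
    have hfaith : FaithfulSMul N α := by
      refine ⟨fun {m₁ m₂} h => ?_⟩
      apply Subtype.ext
      apply FaithfulSMul.eq_of_smul_eq_smul (α := α)
      intro a
      exact h a
    apply hK11
    rw [← hnc]
    exact card_dvd_of_normal K hKbot

end Cfsg.Agent.Lib.Helper1.SharpTrans
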