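import Mathlib
import Cfsg.Agent.Lib.Helper1.SharpTrans3

set_option autoImplicit false

namespace Cfsg.Agent.Lib.Helper1.SharpTrans

open MulAction

/-- the Sylow `p`-normaliser of a faithful group of prime degree `p` -/
theorem sylow_prime_degree {G α : Type*} [Group G] [MulAction G α] [FaithfulSMul G α] [Fintype α]
    (p : ℕ) [hp : Fact p.Prime] (hα : Fintype.card α = p) (m : ℕ) (hG : Nat.card G = p * m)
    (hm : ¬ p ∣ m) :
    ∃ (P : Sylow p G) (r idx : ℕ), Nat.card (P : Subgroup G) = p ∧ r ∣ p - 1 ∧
      Nat.card (Subgroup.normalizer ((P : Subgroup G) : Set G)) = p * r ∧ r * idx = m ∧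
      idx % p = 1 := by
  classical
  have hfin : Finite G := finite_of_faithful (α := α)
  have hne : Nonempty α := by
    rw [← Fintype.card_pos_iff, hα]; exact hp.out.pos
  have hm0 : m ≠ 0 := by
    rintro rfl
    rw [mul_zero] at hG
    exact Nat.card_pos.ne' hG
  let P : Sylow p G := default
  have hP : Nat.card (P : Subgroup G) = p := by
    rw [Sylow.card_eq_multiplicity, hG, Nat.factorization_mul hp.out.ne_zero hm0,
      Finsupp.add_apply, Nat.Prime.factorization_self hp.out,
      Nat.factorization_eq_zero_of_not_dvd hm, pow_one]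
  have hcyc : IsCyclic (P : Subgroup G) := isCyclic_of_prime_card hP
  have hcomm := hcyc.isMulCommutative
  have hC : Subgroup.centralizer ((P : Subgroup G) : Set G) ≤ P := by
    apply centralizer_le_of_transitive (α := α) (P : Subgroup G)
    · intro x hx y hy
      have := mul_comm' (⟨x, hx⟩ : (P : Subgroup G)) ⟨y, hy⟩
      exact congrArg Subtype.val this
    · intro a
      exact orbit_eq_univ_of_prime p hα (P : Subgroup G) hP a
  have key := Subgroup.card_dvd_of_injective _
    (QuotientGroup.kerLift_injective (P : Subgroup G).normalizerMonoidHom)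
  rw [Subgroup.normalizerMonoidHom_ker, ← Subgroup.index, ← Subgroup.relIndex] at key
  rw [hcyc.card_mulAut, hP, Nat.totient_prime hp.out] at key
  have hle : (P : Subgroup G) ≤ Subgroup.centralizer ((P : Subgroup G) : Set G) :=
    Subgroup.le_centralizer _
  have hCP : Subgroup.centralizer ((P : Subgroup G) : Set G) = P := le_antisymm hC hle
  rw [hCP] at key
  have h1 : Nat.card (P : Subgroup G) *
      (P : Subgroup G).relIndex (Subgroup.normalizer ((P : Subgroup G) : Set G)) =
      Nat.card (Subgroup.normalizer ((P : Subgroup G) : Set G)) := by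
    have := Subgroup.relIndex_mul_relIndex (⊥ : Subgroup G) (P : Subgroup G)
      (Subgroup.normalizer ((P : Subgroup G) : Set G)) bot_le Subgroup.le_normalizer
    rwa [Subgroup.relIndex_bot_left, Subgroup.relIndex_bot_left] at this
  have h2 : Nat.card (Subgroup.normalizer ((P : Subgroup G) : Set G)) *
      (Subgroup.normalizer ((P : Subgroup G) : Set G)).index = Nat.card G :=
    Subgroup.card_mul_index _
  have h3 : Nat.card (Sylow p G) ≡ 1 [MOD p] := card_sylow_modEq_one p G
  rw [Sylow.card_eq_index_normalizer P] at h3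
  rw [hP] at h1
  rw [hG, ← h1, mul_assoc] at h2
  refine ⟨P, _, _, hP, key, h1.symm, Nat.eq_of_mul_eq_mul_left hp.out.pos h2, ?_⟩
  have h4 : (Subgroup.normalizer ((P : Subgroup G) : Set G)).index % p = 1 % p := h3
  rw [h4, Nat.mod_eq_of_lt hp.out.one_lt]

/-- a faithful primitive group of prime degree `p` whose Sylow `p`-subgroup is self-normalising
is that Sylow subgroup -/
theorem card_eq_of_self_normalizing {G α : Type*} [Group G] [MulAction G α] [FaithfulSMul G α]
    [Fintype α] [IsPreprimitive G α]
    (p : ℕ) [hp : Fact p.Prime] (hα : Fintype.card α = p) (m : ℕ) (hG : Nat.card G = p * m)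
    (hm : ¬ p ∣ m) (P : Sylow p G) (hP : Nat.card (P : Subgroup G) = p)
    (hN : Nat.card (Subgroup.normalizer ((P : Subgroup G) : Set G)) = p) : m = 1 := by
  have hfin : Finite G := finite_of_faithful (α := α)
  have hcyc : IsCyclic (P : Subgroup G) := isCyclic_of_prime_card hP
  have hcomm := hcyc.isMulCommutative
  have hNP : (P : Subgroup G) = Subgroup.normalizer ((P : Subgroup G) : Set G) :=
    Subgroup.eq_of_le_of_card_ge Subgroup.le_normalizer (by rw [hN, hP])
  have hNC : Subgroup.normalizer ((P : Subgroup G) : Set G) ≤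
      Subgroup.centralizer ((P : Subgroup G) : Set G) := by
    rw [← hNP]
    exact Subgroup.le_centralizer _
  have hK := MonoidHom.ker_transferSylow_isComplement' P hNC
  have hcard := hK.card_mul_card
  rw [hP, hG, mul_comm] at hcard
  have hKm : Nat.card (MonoidHom.transferSylow P hNC).ker = m :=
    Nat.eq_of_mul_eq_mul_left hp.out.pos hcard
  by_contra hm1
  have hKbot : (MonoidHom.transferSylow P hNC).ker ≠ ⊥ := by
    intro h
    rw [h, Subgroup.card_bot] at hKm
    exact hm1 hKm.symm
  have := card_dvd_of_normal (α := α) (MonoidHom.transferSylow P hNC).ker hKbot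
  rw [Nat.card_eq_fintype_card, hα, hKm] at this
  exact hm this

end Cfsg.Agent.Lib.Helper1.SharpTrans
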