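import Mathlib
import Cfsg.Agent.Lib.Helper1.SharpTrans5

set_option autoImplicit false

namespace Cfsg.Agent.Lib.Helper1.SharpTrans

open MulAction

section four

variable {G α : Type*} [Group G] [MulAction G α]

/-- four distinct points -/
structure D4 (a b c d : α) : Prop where
  ab : a ≠ b
  ac : a ≠ c
  ad : a ≠ d
  bc : b ≠ c
  bd : b ≠ d
  cd : c ≠ d

/-- four distinct points as an embedding -/
def emb4 {a b c d : α} (h : D4 a b c d) : Fin 4 ↪ α :=
  ⟨![a, b, c, d], by
    intro i j hij
    have := h.ab; have := h.ac; have := h.ad; have := h.bc; have := h.bd; have := h.cd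
    fin_cases i <;> fin_cases j <;> simp_all⟩

theorem emb4_zero {a b c d : α} (h : D4 a b c d) : emb4 h 0 = a := rfl
theorem emb4_one {a b c d : α} (h : D4 a b c d) : emb4 h 1 = b := rfl
theorem emb4_two {a b c d : α} (h : D4 a b c d) : emb4 h 2 = c := rfl
theorem emb4_three {a b c d : α} (h : D4 a b c d) : emb4 h 3 = d := rfl

theorem D4_of_emb (e : Fin 4 ↪ α) : D4 (e 0) (e 1) (e 2) (e 3) := by
  refine ⟨?_, ?_, ?_, ?_, ?_, ?_⟩ <;>
  · intro h
    have := e.injective h
    revert this
    decide

variable (hsharp : ∀ x : Fin 4 ↪ α, stabilizer G x = ⊥)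
include hsharp

theorem eq_one_of_fix4 {a b c d : α} (h : D4 a b c d) (g : G) (ha : g • a = a) (hb : g • b = b)
    (hc : g • c = c) (hd : g • d = d) : g = 1 := by
  have hmem : g ∈ stabilizer G (emb4 h) := by
    rw [mem_stabilizer_iff]
    ext i
    rw [Function.Embedding.smul_apply]
    fin_cases i
    · exact ha
    · exact hb
    · exact hc
    · exact hd
  rwa [hsharp, Subgroup.mem_bot] at hmem

theorem eq_of_agree4 {a b c d : α} (h : D4 a b c d) (g k : G) (ha : g • a = k • a)
    (hb : g • b = k • b) (hc : g • c = k • c) (hd : g • d = k • d) : g = k := by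
  have : k⁻¹ * g = 1 := by
    apply eq_one_of_fix4 hsharp h
    · rw [mul_smul, ha, inv_smul_smul]
    · rw [mul_smul, hb, inv_smul_smul]
    · rw [mul_smul, hc, inv_smul_smul]
    · rw [mul_smul, hd, inv_smul_smul]
  calc g = k * (k⁻¹ * g) := by group
    _ = k := by rw [this, mul_one]

omit hsharp in
theorem exists_map4 [IsMultiplyPretransitive G α 4] {a b c d a' b' c' d' : α} (h : D4 a b c d)
    (h' : D4 a' b' c' d') : ∃ g : G, g • a = a' ∧ g • b = b' ∧ g • c = c' ∧ g • d = d' := by
  obtain ⟨g, hg⟩ := exists_smul_eq G (emb4 h) (emb4 h')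
  refine ⟨g, ?_, ?_, ?_, ?_⟩
  · have := congrArg (fun e : Fin 4 ↪ α => e 0) hg
    exact this
  · have := congrArg (fun e : Fin 4 ↪ α => e 1) hg
    exact this
  · have := congrArg (fun e : Fin 4 ↪ α => e 2) hg
    exact this
  · have := congrArg (fun e : Fin 4 ↪ α => e 3) hg
    exact this

theorem card_fixed_le_three [Fintype α] [DecidableEq α] (g : G) (hg : g ≠ 1) :
    (Finset.univ.filter (fun a : α => g • a = a)).card ≤ 3 := by
  by_contra hcon
  push Not at hcon
  have h4 : Fintype.card (Fin 4) ≤
      Fintype.card ↥(Finset.univ.filter (fun a : α => g • a = a)) := by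
    rw [Fintype.card_coe, Fintype.card_fin]
    exact hcon
  obtain ⟨e⟩ := Function.Embedding.nonempty_of_card_le h4
  let e' : Fin 4 ↪ α := e.trans (Function.Embedding.subtype _)
  have hmem : g ∈ stabilizer G e' := by
    rw [mem_stabilizer_iff]
    ext i
    rw [Function.Embedding.smul_apply]
    have := (e i).2
    rw [Finset.mem_filter] at this
    exact this.2
  rw [hsharp, Subgroup.mem_bot] at hmem
  exact hg hmem

end four

end Cfsg.Agent.Lib.Helper1.SharpTrans
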