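import Mathlib
import Cfsg.Agent.Lib.Helper1.Jordan1

set_option autoImplicit false

namespace Cfsg.Agent.Lib.Helper1.SharpTrans

open MulAction

section pre

variable {G α : Type*} [Group G] [MulAction G α]

theorem inv_smul_smul' (x : G) (hx2 : x * x = 1) (a : α) : x • x • a = a := by
  rw [← mul_smul, hx2, one_smul]

end pre

section cent

variable {G α : Type*} [Group G] [MulAction G α] [Fintype α] [DecidableEq α]

variable (α) in
/-- the points moved by `x` -/
def moved (x : G) : Finset α := Finset.univ.filter (fun a : α => x • a ≠ a)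

theorem mem_moved (x : G) (a : α) : a ∈ moved α x ↔ x • a ≠ a := by
  simp [moved]

variable (α) in
/-- pairs of moved points in different cycles of the involution -/
def pairsOf (x : G) : Finset (Σ _ : α, α) :=
  (moved α x).sigma (fun a => ((moved α x).erase a).erase (x • a))

theorem mem_pairsOf (x : G) (a c : α) :
    (⟨a, c⟩ : Σ _ : α, α) ∈ pairsOf α x ↔ x • a ≠ a ∧ x • c ≠ c ∧ c ≠ a ∧ c ≠ x • a := by
  simp only [pairsOf, Finset.mem_sigma, Finset.mem_erase, mem_moved]
  tauto

variable (x : G) (hx2 : x * x = 1)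
include hx2

theorem smul_mem_moved {a : α} (ha : a ∈ moved α x) : x • a ∈ moved α x := by
  rw [mem_moved] at ha ⊢
  rw [inv_smul_smul' x hx2]
  exact fun h => ha h.symm

theorem card_pairsOf : (pairsOf α x).card = (moved α x).card * ((moved α x).card - 2) := by
  unfold pairsOf
  rw [Finset.card_sigma]
  rw [Finset.sum_congr rfl (g := fun _ => (moved α x).card - 2)]
  · rw [Finset.sum_const, smul_eq_mul]
  · intro a ha
    have h1 : x • a ∈ (moved α x).erase a := by
      rw [Finset.mem_erase]
      exact ⟨(mem_moved x a).mp ha, smul_mem_moved x hx2 ha⟩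
    rw [Finset.card_erase_of_mem h1, Finset.card_erase_of_mem ha]
    rfl

theorem D4_of_pair {a c : α} (h : (⟨a, c⟩ : Σ _ : α, α) ∈ pairsOf α x) :
    D4 a (x • a) c (x • c) := by
  rw [mem_pairsOf] at h
  obtain ⟨h1, h2, h3, h4⟩ := h
  refine ⟨fun h => h1 h.symm, fun h => h3 h.symm, ?_, fun h => h4 h.symm, ?_, fun h => h2 h.symm⟩
  · intro h
    apply h4
    rw [h, inv_smul_smul' x hx2]
  · intro h
    apply h3
    have := congrArg (fun b => x • b) h
    simp only [inv_smul_smul' x hx2] at this
    exact this.symm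

variable (hsharp : ∀ e : Fin 4 ↪ α, stabilizer G e = ⊥) [IsMultiplyPretransitive G α 4]
include hsharp

/-- the centraliser of the involution `x` acts regularly on `pairsOf α x` -/
theorem card_centralizer {a₀ c₀ : α} (h₀ : (⟨a₀, c₀⟩ : Σ _ : α, α) ∈ pairsOf α x) :
    Nat.card (Subgroup.centralizer ({x} : Set G)) = (moved α x).card * ((moved α x).card - 2) := by
  rw [← card_pairsOf x hx2]
  have hD0 := D4_of_pair x hx2 h₀
  have hcomm : ∀ g : Subgroup.centralizer ({x} : Set G), ∀ b : α,
      (g : G) • x • b = x • (g : G) • b := by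
    intro g b
    have := Subgroup.mem_centralizer_singleton_iff.mp g.2
    rw [← mul_smul, ← mul_smul, this]
  have hmem : ∀ g : Subgroup.centralizer ({x} : Set G),
      (⟨(g : G) • a₀, (g : G) • c₀⟩ : Σ _ : α, α) ∈ pairsOf α x := by
    intro g
    rw [mem_pairsOf] at h₀ ⊢
    obtain ⟨h1, h2, h3, h4⟩ := h₀
    refine ⟨?_, ?_, ?_, ?_⟩
    · rw [← hcomm]
      exact fun h => h1 (smul_left_cancel _ h)
    · rw [← hcomm]
      exact fun h => h2 (smul_left_cancel _ h)
    · exact fun h => h3 (smul_left_cancel _ h)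
    · rw [← hcomm]
      exact fun h => h4 (smul_left_cancel _ h)
  let φ : Subgroup.centralizer ({x} : Set G) → ↥(pairsOf α x) :=
    fun g => ⟨⟨(g : G) • a₀, (g : G) • c₀⟩, hmem g⟩
  have hbij : Function.Bijective φ := by
    constructor
    · intro g k hgk
      have h1 : (g : G) • a₀ = (k : G) • a₀ := by
        have := congrArg (fun p : ↥(pairsOf α x) => p.1.1) hgk
        exact this
      have h2 : (g : G) • c₀ = (k : G) • c₀ := by
        have := congrArg (fun p : ↥(pairsOf α x) => p.1.2) hgk
        exact eq_of_heq (by simpa using this)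
      apply Subtype.ext
      apply eq_of_agree4 hsharp hD0
      · exact h1
      · rw [hcomm, hcomm, h1]
      · exact h2
      · rw [hcomm, hcomm, h2]
    · rintro ⟨⟨a, c⟩, hac⟩
      have hD := D4_of_pair x hx2 hac
      obtain ⟨g, hg1, hg2, hg3, hg4⟩ := exists_map4 (G := G) hD0 hD
      have hgC : g ∈ Subgroup.centralizer ({x} : Set G) := by
        rw [Subgroup.mem_centralizer_singleton_iff]
        apply eq_of_agree4 hsharp hD0
        · rw [mul_smul, mul_smul, hg1, hg2]
        · rw [mul_smul, mul_smul, hg2, inv_smul_smul' x hx2, hg1, inv_smul_smul' x hx2]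
        · rw [mul_smul, mul_smul, hg3, hg4]
        · rw [mul_smul, mul_smul, hg4, inv_smul_smul' x hx2, hg3, inv_smul_smul' x hx2]
      refine ⟨⟨g, hgC⟩, ?_⟩
      apply Subtype.ext
      change (⟨g • a₀, g • c₀⟩ : Σ _ : α, α) = ⟨a, c⟩
      rw [hg1, hg3]
  rw [Nat.card_congr (Equiv.ofBijective φ hbij), Nat.card_eq_fintype_card, Fintype.card_coe]

end cent

end Cfsg.Agent.Lib.Helper1.SharpTrans
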