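import Mathlib
import Cfsg.Agent.Lib.Helper1.Jordan2

set_option autoImplicit false

namespace Cfsg.Agent.Lib.Helper1.SharpTrans

open MulAction

section fixsub

variable {G α : Type*} [Group G] [MulAction G α]

variable (α) in
/-- the fixed points of `x`, acted on by its centraliser -/
def fixSub (x : G) : SubMulAction (Subgroup.centralizer ({x} : Set G)) α where
  carrier := {a | x • a = a}
  smul_mem' := by
    intro g a ha
    change x • ((g : G) • a) = (g : G) • a
    have := Subgroup.mem_centralizer_singleton_iff.mp g.2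
    have ha' : x • a = a := ha
    rw [← mul_smul, ← this, mul_smul, ha']

theorem mem_fixSub (x : G) (a : α) : a ∈ fixSub α x ↔ x • a = a := Iff.rfl

theorem card_fixSub [Fintype α] [DecidableEq α] (x : G) :
    Nat.card (fixSub α x) = (Finset.univ.filter (fun a : α => x • a = a)).card := by
  have e : (fixSub α x) ≃ ↥(Finset.univ.filter (fun a : α => x • a = a)) :=
    Equiv.subtypeEquivRight (fun a => by
      rw [Finset.mem_filter, mem_fixSub]
      simp)
  rw [Nat.card_congr e, Nat.card_eq_fintype_card, Fintype.card_coe]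

end fixsub

/-- arithmetic at the end of the centraliser count -/
theorem jordan_arith (n f d cK i : ℕ) (hn : n = f + d) (h7 : 7 ≤ n) (hf : f = 2 ∨ f = 3)
    (hC : cK * i = d * (d - 2)) (hi : i ∣ Nat.factorial f) (hK : cK ∣ d)
    (h2 : 2 ∣ d * (d - 2)) : n = 7 ∨ n = 11 := by
  obtain ⟨e, he⟩ := hK
  have hd4 : 4 ≤ d := by rcases hf with h | h <;> omega
  have hcK : 0 < cK := by
    rcases Nat.eq_zero_or_pos cK with h | h
    · rw [h, zero_mul] at he; omega
    · exact h
  have hie : i = e * (d - 2) := by
    have : cK * i = cK * (e * (d - 2)) := by rw [hC, he]; ring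
    exact Nat.eq_of_mul_eq_mul_left hcK this
  have hdvd : (d - 2) ∣ Nat.factorial f := Dvd.dvd.trans ⟨e, by rw [hie]; ring⟩ hi
  rcases hf with h | h
  · subst h
    have : d - 2 ≤ 2 := Nat.le_of_dvd (by norm_num) hdvd
    omega
  · subst h
    have h6 : Nat.factorial 3 = 6 := rfl
    rw [h6] at hdvd
    have hle : d - 2 ≤ 6 := Nat.le_of_dvd (by norm_num) hdvd
    have hd8 : d ≤ 8 := by omega
    interval_cases d
    · left; omega
    · norm_num at h2
    · norm_num at hdvd
    · norm_num at hdvd
    · right; omega

end Cfsg.Agent.Lib.Helper1.SharpTrans
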