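import Mathlib
import Cfsg.Agent.Lib.Helper1.Jordan3

set_option autoImplicit false

namespace Cfsg.Agent.Lib.Helper1.SharpTrans

open MulAction

/-- a sharply 4-transitive group of degree at least 7 has degree 7 or 11 -/
theorem jordan_core {G α : Type*} [Group G] [MulAction G α] [FaithfulSMul G α] [Fintype α]
    [DecidableEq α] (h7 : 7 ≤ Fintype.card α) [IsMultiplyPretransitive G α 4]
    (hsharp : ∀ x : Fin 4 ↪ α, stabilizer G x = ⊥) :
    Fintype.card α = 7 ∨ Fintype.card α = 11 := by
  classical
  have hfin : Finite G := finite_of_faithful (α := α)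
  obtain ⟨e0⟩ : Nonempty (Fin 4 ↪ α) :=
    Function.Embedding.nonempty_of_card_le (by rw [Fintype.card_fin]; omega)
  obtain ⟨p1, p2, p3, p4, hD⟩ : ∃ p1 p2 p3 p4 : α, D4 p1 p2 p3 p4 :=
    ⟨_, _, _, _, D4_of_emb e0⟩
  have hD' : D4 p2 p1 p3 p4 := ⟨hD.ab.symm, hD.bc, hD.bd, hD.ac, hD.ad, hD.cd⟩
  obtain ⟨x, hx1, hx2', hx3, hx4⟩ := exists_map4 (G := G) hD hD'
  have hx2 : x * x = 1 := by
    apply eq_one_of_fix4 hsharp hD
    · rw [mul_smul, hx1, hx2']
    · rw [mul_smul, hx2', hx1]
    · rw [mul_smul, hx3, hx3]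
    · rw [mul_smul, hx4, hx4]
  have hxne : x ≠ 1 := by
    rintro rfl
    rw [one_smul] at hx1
    exact hD.ab hx1
  obtain ⟨F, hFdef⟩ : ∃ F : Finset α, F = Finset.univ.filter (fun a : α => x • a = a) :=
    ⟨_, rfl⟩
  have hFd : F.card + (moved α x).card = Fintype.card α := by
    rw [hFdef, moved]
    exact Finset.card_filter_add_card_filter_not _
  have hF3 : F.card ≤ 3 := by
    rw [hFdef]
    exact card_fixed_le_three hsharp x hxne
  have hF2 : 2 ≤ F.card := by
    have hsub : ({p3, p4} : Finset α) ⊆ F := by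
      intro a ha
      rw [Finset.mem_insert, Finset.mem_singleton] at ha
      rw [hFdef, Finset.mem_filter]
      rcases ha with rfl | rfl
      · exact ⟨Finset.mem_univ _, hx3⟩
      · exact ⟨Finset.mem_univ _, hx4⟩
    have := Finset.card_le_card hsub
    rwa [Finset.card_pair hD.cd] at this
  have hd4 : 4 ≤ (moved α x).card := by omega
  obtain ⟨c0, hc0, hc0'⟩ : ∃ c0 ∈ moved α x, c0 ∉ ({p1, p2} : Finset α) := by
    apply Finset.exists_mem_notMem_of_card_lt_card
    have : ({p1, p2} : Finset α).card ≤ 2 := Finset.card_le_two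
    omega
  have hpair : (⟨p1, c0⟩ : Σ _ : α, α) ∈ pairsOf α x := by
    rw [mem_pairsOf]
    rw [Finset.mem_insert, Finset.mem_singleton, not_or] at hc0'
    refine ⟨?_, (mem_moved x c0).mp hc0, hc0'.1, ?_⟩
    · rw [hx1]; exact hD.ab.symm
    · rw [hx1]; exact hc0'.2
  have hC := card_centralizer x hx2 hsharp hpair
  -- the kernel of the action on the fixed points
  obtain ⟨ψ, hψ⟩ : ∃ ψ : Subgroup.centralizer ({x} : Set G) →* Equiv.Perm (fixSub α x),
      ψ = MulAction.toPermHom (Subgroup.centralizer ({x} : Set G)) (fixSub α x) := ⟨_, rfl⟩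
  have hidx : ψ.ker.index ∣ Nat.factorial F.card := by
    rw [Subgroup.index_ker, hFdef, ← card_fixSub, ← Nat.card_perm]
    exact Subgroup.card_subgroup_dvd_card _
  have hKC := Subgroup.card_mul_index ψ.ker
  rw [hC] at hKC
  have hKfix : ∀ k : ψ.ker, ∀ a : α, x • a = a →
      ((k : Subgroup.centralizer ({x} : Set G)) : G) • a = a := by
    intro k a ha
    have hk : MulAction.toPermHom (Subgroup.centralizer ({x} : Set G)) (fixSub α x) k.1 = 1 := by
      rw [← hψ]
      exact k.2
    have := congrArg (fun σ : Equiv.Perm (fixSub α x) => ((σ ⟨a, ha⟩ : fixSub α x) : α)) hk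
    exact this
  have hKfree : ∀ k : ψ.ker, ∀ a : α, x • a ≠ a →
      ((k : Subgroup.centralizer ({x} : Set G)) : G) • a = a → k = 1 := by
    intro k a ha hka
    have hD4 : D4 a (x • a) p3 p4 := by
      refine ⟨fun h => ha h.symm, ?_, ?_, ?_, ?_, hD.cd⟩
      · rintro rfl; exact ha hx3
      · rintro rfl; exact ha hx4
      · intro h
        apply ha
        have := congrArg (fun b => x • b) h
        simp only [inv_smul_smul' x hx2, hx3] at this
        rw [this, hx3]
      · intro h
        apply ha
        have := congrArg (fun b => x • b) h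
        simp only [inv_smul_smul' x hx2, hx4] at this
        rw [this, hx4]
    have hcomm := Subgroup.mem_centralizer_singleton_iff.mp (k : Subgroup.centralizer ({x} : Set G)).2
    have h1 : ((k : Subgroup.centralizer ({x} : Set G)) : G) = 1 := by
      apply eq_one_of_fix4 hsharp hD4 _ hka ?_ (hKfix k p3 hx3) (hKfix k p4 hx4)
      rw [← mul_smul, hcomm, mul_smul, hka]
    exact Subtype.ext (Subtype.ext h1)
  have hKd : Nat.card ψ.ker ∣ (moved α x).card := by
    let _ : Fintype ψ.ker := Fintype.ofFinite _
    let _ : ∀ k : ψ.ker, Fintype (fixedBy α k) := fun k => Fintype.ofFinite _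
    let _ : Fintype (orbitRel.Quotient ψ.ker α) := Fintype.ofFinite _
    have hB := MulAction.sum_card_fixedBy_eq_card_orbits_mul_card_group ψ.ker α
    have hterm : ∀ k : ψ.ker, Fintype.card (fixedBy α k) =
        F.card + if k = 1 then (moved α x).card else 0 := by
      intro k
      by_cases hk : k = 1
      · rw [if_pos hk, hk, hFd, Fintype.card_eq_nat_card, fixedBy_one_eq_univ,
          Nat.card_coe_set_eq, Set.ncard_univ, Nat.card_eq_fintype_card]
      · rw [if_neg hk, add_zero]
        have hset : fixedBy α k = {a | x • a = a} := by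
          ext a
          constructor
          · intro ha
            by_contra hxa
            exact hk (hKfree k a hxa ha)
          · intro ha
            exact hKfix k a ha
        rw [Fintype.card_eq_nat_card, hset]
        have e : ↥{a : α | x • a = a} ≃ ↥F :=
          Equiv.subtypeEquivRight (fun a => by
            rw [hFdef, Finset.mem_filter]
            simp)
        rw [Nat.card_congr e, Nat.card_eq_fintype_card, Fintype.card_coe]
    rw [Finset.sum_congr rfl (fun k _ => hterm k), Finset.sum_add_distrib, Finset.sum_const,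
      Finset.card_univ, smul_eq_mul, Finset.sum_ite_eq' Finset.univ (1 : ψ.ker),
      if_pos (Finset.mem_univ _), ← Nat.card_eq_fintype_card (α := ψ.ker)] at hB
    exact (Nat.dvd_add_right (dvd_mul_right _ _)).mp ⟨_, hB.trans (mul_comm _ _)⟩
  have h2 : 2 ∣ (moved α x).card * ((moved α x).card - 2) := by
    rw [← hC]
    have hxC : x ∈ Subgroup.centralizer ({x} : Set G) :=
      Subgroup.mem_centralizer_singleton_iff.mpr rfl
    have ho : orderOf (⟨x, hxC⟩ : Subgroup.centralizer ({x} : Set G)) = 2 := by
      rw [Subgroup.orderOf_mk]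
      exact orderOf_eq_prime (by rw [pow_two]; exact hx2) hxne
    rw [← ho]
    exact orderOf_dvd_natCard _
  exact jordan_arith (Fintype.card α) F.card (moved α x).card (Nat.card ψ.ker) ψ.ker.index
    hFd.symm h7 (by omega) hKC hidx hKd h2

end Cfsg.Agent.Lib.Helper1.SharpTrans
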