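import Mathlib
import Cfsg.Agent.Lib.Helper1.SharpTrans3
import Cfsg.Agent.Lib.Helper1.PrimSimple4

set_option autoImplicit false

namespace Cfsg.Agent.Lib.Helper1.SharpTrans

open MulAction SubMulAction Cfsg.Agent.Lib.Helper1.PrimSimple

section stab

variable {G α : Type*} [Group G] [MulAction G α]

/-- the point stabiliser acts faithfully on the remaining points -/
theorem faithful_ofStabilizer [FaithfulSMul G α] (a : α) :
    FaithfulSMul (stabilizer G a) (ofStabilizer G a) := by
  refine ⟨fun {m₁ m₂} h => ?_⟩
  apply Subtype.ext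
  apply FaithfulSMul.eq_of_smul_eq_smul (α := α)
  intro b
  by_cases hb : b = a
  · rw [hb]
    have h1 : (m₁ : G) • a = a := m₁.2
    have h2 : (m₂ : G) • a = a := m₂.2
    rw [h1, h2]
  · have := h ⟨b, (mem_ofStabilizer_iff G a).mpr hb⟩
    exact congrArg Subtype.val this

/-- sharpness passes to the point stabiliser -/
theorem sharp_ofStabilizer (a : α) (n : ℕ)
    (hsharp : ∀ x : Fin n.succ ↪ α, stabilizer G x = ⊥)
    (x : Fin n ↪ ofStabilizer G a) : stabilizer (stabilizer G a) x = ⊥ := by
  rw [Subgroup.eq_bot_iff_forall]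
  intro h hh
  apply Subtype.ext
  have h1 : (h : G) ∈ stabilizer G (ofStabilizer.snoc x) := by
    rw [mem_stabilizer_iff]
    ext i
    rcases Fin.eq_castSucc_or_eq_last i with ⟨j, rfl⟩ | rfl
    · rw [Function.Embedding.smul_apply, ofStabilizer.snoc_castSucc]
      have : h • x = x := hh
      have h2 := congrArg (fun e : Fin n ↪ ofStabilizer G a => ((e j : ofStabilizer G a) : α)) this
      exact h2
    · rw [Function.Embedding.smul_apply, ofStabilizer.snoc_last]
      exact h.2
  rw [hsharp, Subgroup.mem_bot] at h1
  exact h1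

end stab

/-- a sharply 5-transitive group of degree 12 is simple of order 95040 -/
theorem M12_core {G α : Type*} [Group G] [MulAction G α] [FaithfulSMul G α] [Fintype α]
    (hα : Fintype.card α = 12) [h5 : IsMultiplyPretransitive G α 5]
    (hsharp : ∀ x : Fin 5 ↪ α, stabilizer G x = ⊥) :
    IsSimpleGroup G ∧ Nat.card G = 95040 := by
  classical
  have hfin : Finite G := finite_of_faithful (α := α)
  have hcard : Nat.card G = 95040 := by
    rw [card_of_sharp 5 (by rw [hα]; norm_num) hsharp, hα]
    rfl
  have hnc : Nat.card α = 12 := by rw [Nat.card_eq_fintype_card, hα]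
  have h2 : IsMultiplyPretransitive G α 2 :=
    isMultiplyPretransitive_of_le (n := 5) (by norm_num) (by rw [hnc]; norm_num)
  have htr : IsPretransitive G α := isPretransitive_of_is_two_pretransitive
  have hne : Nonempty α := by
    rw [← Fintype.card_pos_iff, hα]; norm_num
  obtain ⟨a⟩ := hne
  -- the point stabiliser
  have h4 : IsMultiplyPretransitive (stabilizer G a) (ofStabilizer G a) 4 :=
    (ofStabilizer.isMultiplyPretransitive (n := 4) (a := a)).mp h5
  have hfaith := faithful_ofStabilizer (G := G) a
  have hc11 : Nat.card (ofStabilizer G a) = 11 := by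
    rw [nat_card_ofStabilizer_eq, hnc]
  let _ : Fintype (ofStabilizer G a) := Fintype.ofFinite _
  have hc11' : Fintype.card (ofStabilizer G a) = 11 := by
    rw [← Nat.card_eq_fintype_card, hc11]
  have hH : IsSimpleGroup (stabilizer G a) :=
    (M11_core hc11' (sharp_ofStabilizer a 4 hsharp)).1
  -- a second point
  have hex : ∃ b : α, b ≠ a := by
    by_contra hcon
    push Not at hcon
    have : Fintype.card α ≤ 1 := Fintype.card_le_one_iff.mpr (fun x y => by rw [hcon x, hcon y])
    omega
  obtain ⟨b, hb⟩ := hex
  have h1 : IsPretransitive (stabilizer G a) (ofStabilizer G a) := by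
    have h1' : IsMultiplyPretransitive (stabilizer G a) (ofStabilizer G a) 1 :=
      isMultiplyPretransitive_of_le (n := 4) (by norm_num) (by rw [hc11]; norm_num)
    exact is_one_pretransitive_iff.mp h1'
  have horb : orbit (stabilizer G a) b = {a}ᶜ := by
    ext z
    constructor
    · rintro ⟨h, rfl⟩
      intro hz
      apply hb
      have hz' : (h : G) • b = a := hz
      have : (h : G)⁻¹ • a = a := by
        have := h.2
        rw [mem_stabilizer_iff] at this
        rw [inv_smul_eq_iff, this]
      calc b = (h : G)⁻¹ • ((h : G) • b) := (inv_smul_smul _ _).symm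
        _ = (h : G)⁻¹ • a := by rw [hz']
        _ = a := this
    · intro hz
      have hz' : z ≠ a := hz
      obtain ⟨h, hh⟩ := h1.exists_smul_eq ⟨b, (mem_ofStabilizer_iff G a).mpr hb⟩
        ⟨z, (mem_ofStabilizer_iff G a).mpr hz'⟩
      refine ⟨h, ?_⟩
      exact congrArg Subtype.val hh
  have D : SubData G a 1 ![b] ![11] := by
    refine ⟨?_, ?_, ?_, ?_, ?_⟩
    · intro z _
      by_cases hz : z = a
      · left; exact hz
      · right
        refine ⟨0, ?_⟩
        change z ∈ orbit (stabilizer G a) b
        rw [horb]
        exact hz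
    · intro i
      rw [orbit_eq_univ]
      trivial
    · intro i
      fin_cases i
      exact hb
    · intro i j hij
      exact absurd (Subsingleton.elim i j) hij
    · intro i
      fin_cases i
      change (orbit (stabilizer G a) b).ncard = 11
      rw [horb, Set.ncard_compl, Set.ncard_singleton, hnc]
  refine ⟨D.simple hH ?_ ⟨0, by simp⟩ ?_, hcard⟩
  · decide
  · intro c h
    have h2 := h 2 (by norm_num) (by norm_num [Fin.sum_univ_succ])
    have h3 := h 3 (by norm_num) (by norm_num [Fin.sum_univ_succ])
    simp only [Finset.sum_filter, Fin.sum_univ_succ, Fin.sum_univ_zero, Matrix.cons_val_zero,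
      add_zero] at h2 h3
    by_cases hc2 : c 0 = 2
    · rw [if_neg (by rw [hc2]; norm_num)] at h3
      norm_num at h3
    · rw [if_neg hc2] at h2
      norm_num at h2

end Cfsg.Agent.Lib.Helper1.SharpTrans
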