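import Mathlib
import Cfsg.Agent.Lib.Helper1.Jordan4
import Cfsg.Agent.Lib.Helper1.SharpTrans4

set_option autoImplicit false

namespace Cfsg.Agent.Lib.Helper1.SharpTrans

open MulAction SubMulAction

/-- there is no sharply 4-transitive group of degree 7 -/
theorem not_sharp4_seven {G α : Type*} [Group G] [MulAction G α] [FaithfulSMul G α] [Fintype α]
    (h : Fintype.card α = 7) [IsMultiplyPretransitive G α 4]
    (hsharp : ∀ x : Fin 4 ↪ α, stabilizer G x = ⊥) : False := by
  classical
  have hcard : Nat.card G = 7 * 120 := by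
    rw [card_of_sharp 4 (by rw [h]; norm_num) hsharp, h]
    rfl
  have : Fact (Nat.Prime 7) := ⟨by norm_num⟩
  obtain ⟨P, r, idx, hP, hr, hN, hri, hidx⟩ :=
    sylow_prime_degree (α := α) 7 h 120 hcard (by norm_num)
  have hr1 : r = 1 := by
    have : r ≤ 6 := Nat.le_of_dvd (by norm_num) hr
    interval_cases r <;> omega
  subst hr1
  rw [mul_one] at hN
  have hnc : Nat.card α = 7 := by rw [Nat.card_eq_fintype_card, h]
  have h2 : IsMultiplyPretransitive G α 2 :=
    isMultiplyPretransitive_of_le (n := 4) (by norm_num) (by rw [hnc]; norm_num)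
  have hprim : IsPreprimitive G α := isPreprimitive_of_is_two_pretransitive h2
  have := card_eq_of_self_normalizing (α := α) 7 h 120 hcard (by norm_num) P hP hN
  norm_num at this

/-- Jordan: the degree of a sharply 4-transitive group is 4, 5, 6 or 11 -/
theorem jordan_four {G α : Type*} [Group G] [MulAction G α] [FaithfulSMul G α] [Fintype α]
    (h4 : 4 ≤ Fintype.card α) [IsMultiplyPretransitive G α 4]
    (hsharp : ∀ x : Fin 4 ↪ α, stabilizer G x = ⊥) :
    Fintype.card α = 4 ∨ Fintype.card α = 5 ∨ Fintype.card α = 6 ∨ Fintype.card α = 11 := by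
  classical
  by_cases h7 : 7 ≤ Fintype.card α
  · rcases jordan_core h7 hsharp with h | h
    · exact (not_sharp4_seven h hsharp).elim
    · right; right; right; exact h
  · omega

/-- passing to a point stabiliser -/
theorem sharp_step {G α : Type*} [Group G] [MulAction G α] [FaithfulSMul G α] [Fintype α]
    (k : ℕ) (hk : k + 1 ≤ Fintype.card α) [hk1 : IsMultiplyPretransitive G α (k + 1)]
    (hsharp : ∀ x : Fin (k + 1) ↪ α, stabilizer G x = ⊥) (a : α) :
    FaithfulSMul (stabilizer G a) (ofStabilizer G a) ∧
    IsMultiplyPretransitive (stabilizer G a) (ofStabilizer G a) k ∧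
    (∀ x : Fin k ↪ ofStabilizer G a, stabilizer (stabilizer G a) x = ⊥) ∧
    Nat.card (ofStabilizer G a) + 1 = Fintype.card α := by
  have hnc : Nat.card α = Fintype.card α := Nat.card_eq_fintype_card
  have h1 : IsMultiplyPretransitive G α 1 :=
    isMultiplyPretransitive_of_le (n := k + 1) (by omega) (by rw [hnc]; exact hk)
  have htr : IsPretransitive G α := is_one_pretransitive_iff.mp h1
  refine ⟨faithful_ofStabilizer a, ?_, sharp_ofStabilizer a k hsharp, ?_⟩
  · exact (ofStabilizer.isMultiplyPretransitive (n := k) (a := a)).mp hk1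
  · rw [nat_card_ofStabilizer_add_one_eq, hnc]

/-- Jordan: the degree of a sharply 5-transitive group is 5, 6, 7 or 12 -/
theorem jordan_five {G α : Type*} [Group G] [MulAction G α] [FaithfulSMul G α] [Fintype α]
    (h5 : 5 ≤ Fintype.card α) [IsMultiplyPretransitive G α 5]
    (hsharp : ∀ x : Fin 5 ↪ α, stabilizer G x = ⊥) :
    Fintype.card α = 5 ∨ Fintype.card α = 6 ∨ Fintype.card α = 7 ∨ Fintype.card α = 12 := by
  classical
  have hne : Nonempty α := by
    rw [← Fintype.card_pos_iff]; omega
  obtain ⟨a⟩ := hne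
  obtain ⟨hf, h4, hs, hc⟩ := sharp_step 4 h5 hsharp a
  let _ : Fintype (ofStabilizer G a) := Fintype.ofFinite _
  rw [Nat.card_eq_fintype_card] at hc
  have := jordan_four (G := stabilizer G a) (α := ofStabilizer G a) (by omega) hs
  omega

/-- there is no sharply 6-transitive group of degree 13 -/
theorem not_sharp6_thirteen {G α : Type*} [Group G] [MulAction G α] [FaithfulSMul G α]
    [Fintype α] (h : Fintype.card α = 13) [IsMultiplyPretransitive G α 6]
    (hsharp : ∀ x : Fin 6 ↪ α, stabilizer G x = ⊥) : False := by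
  classical
  have hcard : Nat.card G = 13 * 95040 := by
    rw [card_of_sharp 6 (by rw [h]; norm_num) hsharp, h]
    rfl
  have : Fact (Nat.Prime 13) := ⟨by norm_num⟩
  obtain ⟨P, r, idx, hP, hr, hN, hri, hidx⟩ :=
    sylow_prime_degree (α := α) 13 h 95040 hcard (by norm_num)
  have : r ≤ 12 := Nat.le_of_dvd (by norm_num) hr
  interval_cases r <;> omega

/-- Jordan: for `k ≥ 6` the degree of a sharply `k`-transitive group is `k`, `k+1` or `k+2` -/
theorem jordan_large.{u, v} (k : ℕ) (hk : 6 ≤ k) :
    ∀ (G : Type u) (α : Type v) [Group G] [MulAction G α] [FaithfulSMul G α] [Fintype α]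
    (_ : k ≤ Fintype.card α) [IsMultiplyPretransitive G α k]
    (_ : ∀ x : Fin k ↪ α, stabilizer G x = ⊥),
    Fintype.card α = k ∨ Fintype.card α = k + 1 ∨ Fintype.card α = k + 2 := by
  classical
  induction k, hk using Nat.le_induction with
  | base =>
    intro G α _ _ _ _ hn _ hsharp
    have hne : Nonempty α := by
      rw [← Fintype.card_pos_iff]; omega
    obtain ⟨a⟩ := hne
    obtain ⟨hf, h4, hs, hc⟩ := sharp_step 5 hn hsharp a
    let _ : Fintype (ofStabilizer G a) := Fintype.ofFinite _
    rw [Nat.card_eq_fintype_card] at hc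
    have := jordan_five (G := stabilizer G a) (α := ofStabilizer G a) (by omega) hs
    have h13 : Fintype.card α ≠ 13 := fun h => not_sharp6_thirteen h hsharp
    omega
  | succ k hk ih =>
    intro G α _ _ _ _ hn _ hsharp
    have hne : Nonempty α := by
      rw [← Fintype.card_pos_iff]; omega
    obtain ⟨a⟩ := hne
    obtain ⟨hf, h4, hs, hc⟩ := sharp_step k hn hsharp a
    let _ : Fintype (ofStabilizer G a) := Fintype.ofFinite _
    rw [Nat.card_eq_fintype_card] at hc
    have := ih (stabilizer G a) (ofStabilizer G a) (by omega) hs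
    omega

end Cfsg.Agent.Lib.Helper1.SharpTrans
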