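import Mathlib
import Cfsg.Agent.Lib.Helper1.Jordan5

set_option autoImplicit false

namespace Cfsg.Agent.Lib.Helper1.SharpTrans

open MulAction

section tits

variable {G Ω : Type*} [Group G] [MulAction G Ω]
variable (hsharp : ∀ x : Fin 4 ↪ Ω, stabilizer G x = ⊥)
include hsharp

/-- a nonidentity element of a sharply 4-transitive group fixes at most three points -/
theorem encard_fixedBy_le_three (g : G) (hg : g ≠ 1) : (fixedBy Ω g).encard ≤ 3 := by
  by_contra hcon
  push Not at hcon
  have h4 : (4 : ℕ∞) ≤ (fixedBy Ω g).encard := by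
    have : ((3 : ℕ) : ℕ∞) + 1 ≤ (fixedBy Ω g).encard := Order.add_one_le_of_lt hcon
    exact this
  obtain ⟨t, hts, ht⟩ := Set.exists_subset_encard_eq h4
  obtain ⟨a, b, c, d, hab, hac, had, hbc, hbd, hcd, rfl⟩ := Set.encard_eq_four.mp ht
  have hD : D4 a b c d := ⟨hab, hac, had, hbc, hbd, hcd⟩
  apply hg
  apply eq_one_of_fix4 hsharp hD
  · exact hts (by simp)
  · exact hts (by simp)
  · exact hts (by simp)
  · exact hts (by simp)

variable [h4 : IsMultiplyPretransitive G Ω 4]

/-- Tits: the degree of a sharply 4-transitive group is at most 21 (in particular finite) -/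
theorem encard_univ_le (hne : Nonempty (Fin 4 ↪ Ω)) : (Set.univ : Set Ω).encard ≤ 21 := by
  classical
  obtain ⟨e0⟩ := hne
  obtain ⟨p1, p2, p3, p4, hD⟩ : ∃ p1 p2 p3 p4 : Ω, D4 p1 p2 p3 p4 :=
    ⟨_, _, _, _, D4_of_emb e0⟩
  have hDx : D4 p2 p1 p3 p4 := ⟨hD.ab.symm, hD.bc, hD.bd, hD.ac, hD.ad, hD.cd⟩
  have hDy : D4 p1 p2 p4 p3 := ⟨hD.ab, hD.ad, hD.ac, hD.bd, hD.bc, hD.cd.symm⟩
  obtain ⟨x, hx1, hx2, hx3, hx4⟩ := exists_map4 (G := G) hD hDx
  obtain ⟨y, hy1, hy2, hy3, hy4⟩ := exists_map4 (G := G) hD hDy
  have hxx : x * x = 1 := by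
    apply eq_one_of_fix4 hsharp hD
    · rw [mul_smul, hx1, hx2]
    · rw [mul_smul, hx2, hx1]
    · rw [mul_smul, hx3, hx3]
    · rw [mul_smul, hx4, hx4]
  have hyy : y * y = 1 := by
    apply eq_one_of_fix4 hsharp hD
    · rw [mul_smul, hy1, hy1]
    · rw [mul_smul, hy2, hy2]
    · rw [mul_smul, hy3, hy4]
    · rw [mul_smul, hy4, hy3]
  have hxy : x * y = y * x := by
    apply eq_of_agree4 hsharp hD <;>
    simp only [mul_smul, hx1, hx2, hx3, hx4, hy1, hy2, hy3, hy4]
  have hxne : x ≠ 1 := by
    rintro rfl; rw [one_smul] at hx1; exact hD.ab hx1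
  have hyne : y ≠ 1 := by
    rintro rfl; rw [one_smul] at hy3; exact hD.cd hy3
  have hzne : x * y ≠ 1 := by
    intro h
    have := congrArg (fun g : G => g • p1) h
    simp only [mul_smul, hy1, hx1, one_smul] at this
    exact hD.ab this.symm
  have hxney : x ≠ y := by
    intro h
    rw [h, hy1] at hx1
    exact hD.ab hx1
  -- basic word identities
  have hxs : ∀ b : Ω, x • x • b = b := fun b => inv_smul_smul' x hxx b
  have hys : ∀ b : Ω, y • y • b = b := fun b => inv_smul_smul' y hyy b
  have hxys : ∀ b : Ω, x • y • b = y • x • b := by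
    intro b
    rw [← mul_smul, hxy, mul_smul]
  -- the exceptional set
  obtain ⟨F, hF⟩ : ∃ F : Set Ω, F = fixedBy Ω x ∪ fixedBy Ω y ∪ fixedBy Ω (x * y) := ⟨_, rfl⟩
  have hFc : F.encard ≤ 9 := by
    rw [hF]
    calc (fixedBy Ω x ∪ fixedBy Ω y ∪ fixedBy Ω (x * y)).encard
        ≤ (fixedBy Ω x ∪ fixedBy Ω y).encard + (fixedBy Ω (x * y)).encard :=
          Set.encard_union_le _ _
      _ ≤ (fixedBy Ω x).encard + (fixedBy Ω y).encard + (fixedBy Ω (x * y)).encard :=
          add_le_add_left (Set.encard_union_le _ _) _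
      _ ≤ 3 + 3 + 3 := add_le_add (add_le_add (encard_fixedBy_le_three hsharp x hxne)
          (encard_fixedBy_le_three hsharp y hyne)) (encard_fixedBy_le_three hsharp _ hzne)
      _ = 9 := by norm_num
  have hreg : ∀ a : Ω, a ∉ F → D4 a (x • a) (y • a) (x • y • a) := by
    intro a ha
    rw [hF, Set.mem_union, Set.mem_union, not_or, not_or] at ha
    obtain ⟨⟨h1, h2⟩, h3⟩ := ha
    have h1' : x • a ≠ a := h1
    have h2' : y • a ≠ a := h2
    have h3' : x • y • a ≠ a := by
      intro h
      apply h3
      change (x * y) • a = a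
      rw [mul_smul, h]
    refine ⟨fun h => h1' h.symm, fun h => h2' h.symm, fun h => h3' h.symm, ?_, ?_, ?_⟩
    · intro h
      apply h3'
      rw [← h, hxs]
    · intro h
      apply h2'
      exact (smul_left_cancel x h).symm
    · intro h
      apply h1'
      rw [hxys] at h
      exact (smul_left_cancel y h).symm
  -- the centraliser of the four-group
  have hcent : ∀ c : G, c * x = x * c → c * y = y * c → c = 1 ∨ c = x ∨ c = y ∨ c = x * y := by
    intro c hcx hcy
    have hcxs : ∀ b : Ω, c • x • b = x • c • b := by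
      intro b; rw [← mul_smul, hcx, mul_smul]
    have hcys : ∀ b : Ω, c • y • b = y • c • b := by
      intro b; rw [← mul_smul, hcy, mul_smul]
    -- fixed points of `x` not fixed by `y` are `p3`, `p4`
    have hfx : ∀ q : Ω, x • q = q → y • q ≠ q → q = p3 ∨ q = p4 := by
      intro q hq1 hq2
      by_contra hcon
      push Not at hcon
      apply hxne
      have hD' : D4 p3 p4 q (y • q) := by
        refine ⟨hD.cd, hcon.1.symm, ?_, hcon.2.symm, ?_, fun h => hq2 h.symm⟩
        · intro h
          apply hcon.2
          have := congrArg (fun b => y • b) h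
          simp only [hys, hy3] at this
          exact this.symm
        · intro h
          apply hcon.1
          have := congrArg (fun b => y • b) h
          simp only [hys, hy4] at this
          exact this.symm
      apply eq_one_of_fix4 hsharp hD' x hx3 hx4 hq1
      rw [hxys, hq1]
    have hfy : ∀ q : Ω, y • q = q → x • q ≠ q → q = p1 ∨ q = p2 := by
      intro q hq1 hq2
      by_contra hcon
      push Not at hcon
      apply hyne
      have hD' : D4 p1 p2 q (x • q) := by
        refine ⟨hD.ab, hcon.1.symm, ?_, hcon.2.symm, ?_, fun h => hq2 h.symm⟩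
        · intro h
          apply hcon.2
          have := congrArg (fun b => x • b) h
          simp only [hxs, hx1] at this
          exact this.symm
        · intro h
          apply hcon.1
          have := congrArg (fun b => x • b) h
          simp only [hxs, hx2] at this
          exact this.symm
      apply eq_one_of_fix4 hsharp hD' y hy1 hy2 hq1
      rw [← hxys, hq1]
    have hc3 : c • p3 = p3 ∨ c • p3 = p4 := by
      apply hfx
      · rw [← hcxs, hx3]
      · rw [← hcys, hy3]
        exact fun h => hD.cd (smul_left_cancel c h).symm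
    have hc4 : c • p4 = p3 ∨ c • p4 = p4 := by
      apply hfx
      · rw [← hcxs, hx4]
      · rw [← hcys, hy4]
        exact fun h => hD.cd (smul_left_cancel c h)
    have hc1 : c • p1 = p1 ∨ c • p1 = p2 := by
      apply hfy
      · rw [← hcys, hy1]
      · rw [← hcxs, hx1]
        exact fun h => hD.ab (smul_left_cancel c h).symm
    have hc2 : c • p2 = p1 ∨ c • p2 = p2 := by
      apply hfy
      · rw [← hcys, hy2]
      · rw [← hcxs, hx2]
        exact fun h => hD.ab (smul_left_cancel c h)
    have hinj12 : c • p1 ≠ c • p2 := fun h => hD.ab (smul_left_cancel c h)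
    have hinj34 : c • p3 ≠ c • p4 := fun h => hD.cd (smul_left_cancel c h)
    rcases hc1 with h1 | h1 <;> rcases hc3 with h3 | h3
    · left
      have h2 : c • p2 = p2 := by
        rcases hc2 with h | h
        · exact absurd (h1.trans h.symm) hinj12
        · exact h
      have h4' : c • p4 = p4 := by
        rcases hc4 with h | h
        · exact absurd (h3.trans h.symm) hinj34
        · exact h
      exact eq_one_of_fix4 hsharp hD c h1 h2 h3 h4'
    · right; right; left
      have h2 : c • p2 = p2 := by
        rcases hc2 with h | h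
        · exact absurd (h1.trans h.symm) hinj12
        · exact h
      have h4' : c • p4 = p3 := by
        rcases hc4 with h | h
        · exact h
        · exact absurd (h3.trans h.symm) hinj34
      apply eq_of_agree4 hsharp hD
      · rw [h1, hy1]
      · rw [h2, hy2]
      · rw [h3, hy3]
      · rw [h4', hy4]
    · right; left
      have h2 : c • p2 = p1 := by
        rcases hc2 with h | h
        · exact h
        · exact absurd (h1.trans h.symm) hinj12
      have h4' : c • p4 = p4 := by
        rcases hc4 with h | h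
        · exact absurd (h3.trans h.symm) hinj34
        · exact h
      apply eq_of_agree4 hsharp hD
      · rw [h1, hx1]
      · rw [h2, hx2]
      · rw [h3, hx3]
      · rw [h4', hx4]
    · right; right; right
      have h2 : c • p2 = p1 := by
        rcases hc2 with h | h
        · exact h
        · exact absurd (h1.trans h.symm) hinj12
      have h4' : c • p4 = p3 := by
        rcases hc4 with h | h
        · exact h
        · exact absurd (h3.trans h.symm) hinj34
      apply eq_of_agree4 hsharp hD
      · rw [h1, mul_smul, hy1, hx1]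
      · rw [h2, mul_smul, hy2, hx2]
      · rw [h3, mul_smul, hy3, hx4]
      · rw [h4', mul_smul, hy4, hx3]
  -- the elements of order three
  have hu : ∀ a : Ω, a ∉ F → ∃ u : G, u • a = a ∧ u ≠ 1 ∧ u * x = y * u ∧ u * y = (x * y) * u := by
    intro a ha
    have hDa := hreg a ha
    have hDa' : D4 a (y • a) (x • y • a) (x • a) :=
      ⟨hDa.ac, hDa.ad, hDa.ab, hDa.cd, hDa.bc.symm, hDa.bd.symm⟩
    obtain ⟨u, hu1, hu2, hu3, hu4⟩ := exists_map4 (G := G) hDa hDa'
    have hyx : ∀ b : Ω, y • x • b = x • y • b := fun b => (hxys b).symm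
    refine ⟨u, hu1, ?_, ?_, ?_⟩
    · rintro rfl
      rw [one_smul] at hu2
      exact hDa.bc hu2
    · apply eq_of_agree4 hsharp hDa <;>
      simp only [mul_smul, hxs, hys, hyx, hu1, hu2, hu3, hu4]
    · apply eq_of_agree4 hsharp hDa <;>
      simp only [mul_smul, hxs, hys, hyx, hu1, hu2, hu3, hu4]
  by_cases hR : ∀ a : Ω, a ∈ F
  · calc (Set.univ : Set Ω).encard ≤ F.encard := Set.encard_le_encard (fun a _ => hR a)
      _ ≤ 9 := hFc
      _ ≤ 21 := by norm_num
  · push Not at hR
    obtain ⟨a0, ha0⟩ := hR
    obtain ⟨u, hua, hune, hux, huy⟩ := hu a0 ha0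
    have hvu : ∀ v : G, v * x = x * v → v * u ≠ 1 := by
      intro v hv h
      have hu' : u = v⁻¹ := eq_inv_of_mul_eq_one_right h
      apply hxney
      have h1 : v⁻¹ * x = x * v⁻¹ := by
        rw [eq_mul_inv_iff_mul_eq, mul_assoc, ← hv, ← mul_assoc, inv_mul_cancel, one_mul]
      have h2 : u * x = x * u := by rw [hu', h1]
      rw [hux] at h2
      exact (mul_right_cancel h2).symm
    obtain ⟨S, hS⟩ : ∃ S : Set Ω, S = fixedBy Ω u ∪ fixedBy Ω (x * u) ∪ fixedBy Ω (y * u) ∪
        fixedBy Ω ((x * y) * u) := ⟨_, rfl⟩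
    have hSc : S.encard ≤ 12 := by
      rw [hS]
      calc (fixedBy Ω u ∪ fixedBy Ω (x * u) ∪ fixedBy Ω (y * u) ∪
            fixedBy Ω ((x * y) * u)).encard
          ≤ (fixedBy Ω u ∪ fixedBy Ω (x * u) ∪ fixedBy Ω (y * u)).encard +
              (fixedBy Ω ((x * y) * u)).encard := Set.encard_union_le _ _
        _ ≤ (fixedBy Ω u ∪ fixedBy Ω (x * u)).encard + (fixedBy Ω (y * u)).encard +
              (fixedBy Ω ((x * y) * u)).encard := add_le_add_left (Set.encard_union_le _ _) _
        _ ≤ (fixedBy Ω u).encard + (fixedBy Ω (x * u)).encard + (fixedBy Ω (y * u)).encard +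
              (fixedBy Ω ((x * y) * u)).encard :=
            add_le_add_left (add_le_add_left (Set.encard_union_le _ _) _) _
        _ ≤ 3 + 3 + 3 + 3 := by
            refine add_le_add (add_le_add (add_le_add ?_ ?_) ?_) ?_
            · exact encard_fixedBy_le_three hsharp u hune
            · exact encard_fixedBy_le_three hsharp _ (hvu x rfl)
            · exact encard_fixedBy_le_three hsharp _ (hvu y hxy.symm)
            · apply encard_fixedBy_le_three hsharp _ (hvu (x * y) ?_)
              rw [mul_assoc, ← hxy, ← mul_assoc]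
        _ = 12 := by norm_num
    have hRS : ∀ a : Ω, a ∉ F → a ∈ S := by
      intro a ha
      obtain ⟨u', hua', hune', hux', huy'⟩ := hu a ha
      -- `u' * u⁻¹` centralises the four-group
      have huz : ∀ w : G, w * x = y * w → w * y = (x * y) * w → w * (x * y) = x * w := by
        intro w h1 h2
        calc w * (x * y) = (w * x) * y := by group
          _ = (y * w) * y := by rw [h1]
          _ = y * (w * y) := by group
          _ = y * (x * y * w) := by rw [h2]
          _ = (y * x) * y * w := by group
          _ = (x * y) * y * w := by rw [← hxy]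
          _ = x * (y * y) * w := by group
          _ = x * w := by rw [hyy, mul_one]
      have e1 : u⁻¹ * x = (x * y) * u⁻¹ := by
        calc u⁻¹ * x = u⁻¹ * (x * u) * u⁻¹ := by group
          _ = u⁻¹ * (u * (x * y)) * u⁻¹ := by rw [huz u hux huy]
          _ = (x * y) * u⁻¹ := by group
      have e2 : u⁻¹ * y = x * u⁻¹ := by
        calc u⁻¹ * y = u⁻¹ * (y * u) * u⁻¹ := by group
          _ = u⁻¹ * (u * x) * u⁻¹ := by rw [hux]
          _ = x * u⁻¹ := by group
      have hc1 : (u' * u⁻¹) * x = x * (u' * u⁻¹) := by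
        calc (u' * u⁻¹) * x = u' * (u⁻¹ * x) := by group
          _ = u' * ((x * y) * u⁻¹) := by rw [e1]
          _ = (u' * (x * y)) * u⁻¹ := by group
          _ = (x * u') * u⁻¹ := by rw [huz u' hux' huy']
          _ = x * (u' * u⁻¹) := by group
      have hc2 : (u' * u⁻¹) * y = y * (u' * u⁻¹) := by
        calc (u' * u⁻¹) * y = u' * (u⁻¹ * y) := by group
          _ = u' * (x * u⁻¹) := by rw [e2]
          _ = (u' * x) * u⁻¹ := by group
          _ = (y * u') * u⁻¹ := by rw [hux']
          _ = y * (u' * u⁻¹) := by group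
      have hu'eq : u' = (u' * u⁻¹) * u := by group
      rcases hcent _ hc1 hc2 with h | h | h | h
      · rw [h, one_mul] at hu'eq
        rw [hS]
        left; left; left
        rw [← hu'eq]
        exact hua'
      · rw [h] at hu'eq
        rw [hS]
        left; left; right
        rw [← hu'eq]
        exact hua'
      · rw [h] at hu'eq
        rw [hS]
        left; right
        rw [← hu'eq]
        exact hua'
      · rw [h] at hu'eq
        rw [hS]
        right
        rw [← hu'eq]
        exact hua'
    calc (Set.univ : Set Ω).encard ≤ (F ∪ S).encard := by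
          apply Set.encard_le_encard
          intro a _
          by_cases ha : a ∈ F
          · exact Or.inl ha
          · exact Or.inr (hRS a ha)
      _ ≤ F.encard + S.encard := Set.encard_union_le _ _
      _ ≤ 9 + 12 := add_le_add hFc hSc
      _ = 21 := by norm_num

end tits

end Cfsg.Agent.Lib.Helper1.SharpTrans

namespace Cfsg.Agent.Lib.Helper1.SharpTrans

open MulAction

/-- Tits: a sharply 4-transitive group has degree 4, 5, 6 or 11 (no finiteness assumed) -/
theorem tits_four {G Ω : Type*} [Group G] [MulAction G Ω]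
    (h4 : IsMultiplyPretransitive G Ω 4)
    (hsharp : ∀ x : Fin 4 ↪ Ω, stabilizer G x = ⊥) (hne : Nonempty (Fin 4 ↪ Ω)) :
    Finite Ω ∧ (Nat.card Ω = 4 ∨ Nat.card Ω = 5 ∨ Nat.card Ω = 6 ∨ Nat.card Ω = 11) := by
  classical
  have hle := encard_univ_le hsharp hne
  have hfin : Finite Ω := by
    rw [← Set.finite_univ_iff]
    exact Set.finite_of_encard_le_coe (k := 21) (by exact_mod_cast hle)
  refine ⟨hfin, ?_⟩
  let _ : Fintype Ω := Fintype.ofFinite Ω
  obtain ⟨e0⟩ := hne
  have hfaith : FaithfulSMul G Ω := by
    refine ⟨fun {g h} hgh => ?_⟩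
    have hmem : h⁻¹ * g ∈ stabilizer G e0 := by
      rw [mem_stabilizer_iff]
      ext i
      rw [Function.Embedding.smul_apply, mul_smul, hgh, inv_smul_smul]
    rw [hsharp, Subgroup.mem_bot] at hmem
    calc g = h * (h⁻¹ * g) := by group
      _ = h := by rw [hmem, mul_one]
  have h4' : 4 ≤ Fintype.card Ω := by
    have := Fintype.card_le_of_embedding e0
    rwa [Fintype.card_fin] at this
  rw [Nat.card_eq_fintype_card]
  exact jordan_four h4' hsharp

end Cfsg.Agent.Lib.Helper1.SharpTrans
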