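import Mathlib
import Cfsg.Agent.Lib.Helper1.Conj
import Cfsg.Agent.Lib.Helper1.InvPair

set_option autoImplicit false

namespace Cfsg.Agent.Lib.Helper1

section KleinSylow
variable {G : Type*} [Group G]

theorem klein_mul_self {P : Subgroup G} (hP : IsKleinFour P) {x : G} (hx : x ∈ P) : x * x = 1 := by
  have h := Monoid.pow_exponent_eq_one (⟨x, hx⟩ : P)
  rw [hP.exponent_two] at h
  have := congrArg Subtype.val h
  simpa [pow_two] using this

theorem klein_comm {P : Subgroup G} (hP : IsKleinFour P) {x y : G} (hx : x ∈ P) (hy : y ∈ P) :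
    x * y = y * x := by
  have hxx := klein_mul_self hP hx
  have hyy := klein_mul_self hP hy
  have hxy := klein_mul_self hP (P.mul_mem hx hy)
  symm
  calc y * x = (x * x) * (y * x) * (y * y) := by rw [hxx, hyy]; group
    _ = x * ((x * y) * (x * y)) * y := by group
    _ = x * y := by rw [hxy]; group

theorem klein_orderOf {P : Subgroup G} (hP : IsKleinFour P) {x : G} (hx : x ∈ P) (hx1 : x ≠ 1) :
    orderOf x = 2 :=
  orderOf_two_of_mul_self (klein_mul_self hP hx) hx1

/-- the four elements of a Klein four-group -/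
theorem klein_cases [Finite G] {P : Subgroup G} (hP : IsKleinFour P) {x y : G} (hx : x ∈ P)
    (hy : y ∈ P) (hx1 : x ≠ 1) (hy1 : y ≠ 1) (hxy : x ≠ y) {w : G} (hw : w ∈ P) :
    w = 1 ∨ w = x ∨ w = y ∨ w = x * y := by
  classical
  have hxx := klein_mul_self hP hx
  have hyy := klein_mul_self hP hy
  by_contra hcon
  push Not at hcon
  obtain ⟨h1, h2, h3, h4⟩ := hcon
  have hxy1 : x * y ≠ 1 := by
    intro h
    apply hxy
    calc x = x * (y * y) := by rw [hyy, mul_one]
      _ = (x * y) * y := by group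
      _ = y := by rw [h, one_mul]
  have hxyx : x * y ≠ x := by
    intro h; apply hy1
    calc y = x⁻¹ * (x * y) := by group
      _ = 1 := by rw [h]; group
  have hxyy : x * y ≠ y := by
    intro h; apply hx1
    calc x = (x * y) * y⁻¹ := by group
      _ = 1 := by rw [h]; group
  let S : Finset P := {⟨1, P.one_mem⟩, ⟨x, hx⟩, ⟨y, hy⟩, ⟨x * y, P.mul_mem hx hy⟩, ⟨w, hw⟩}
  have hcard : S.card = 5 := by
    simp only [S]
    rw [Finset.card_insert_of_notMem, Finset.card_insert_of_notMem, Finset.card_insert_of_notMem,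
      Finset.card_insert_of_notMem, Finset.card_singleton]
    · simp only [Finset.mem_singleton, Subtype.mk.injEq]; exact fun h => h4 h.symm
    · simp only [Finset.mem_insert, Finset.mem_singleton, Subtype.mk.injEq, not_or]
      exact ⟨fun h => hxyy h.symm, fun h => h3 h.symm⟩
    · simp only [Finset.mem_insert, Finset.mem_singleton, Subtype.mk.injEq, not_or]
      exact ⟨hxy, fun h => hxyx h.symm, fun h => h2 h.symm⟩
    · simp only [Finset.mem_insert, Finset.mem_singleton, Subtype.mk.injEq, not_or]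
      exact ⟨fun h => hx1 h.symm, fun h => hy1 h.symm, fun h => hxy1 h.symm, fun h => h1 h.symm⟩
  have : Fintype P := Fintype.ofFinite P
  have hle := Finset.card_le_univ S
  rw [← Nat.card_eq_fintype_card, hP.card_four, hcard] at hle
  omega

variable [Finite G]

/-- Key fusion lemma: in a Klein four Sylow 2-subgroup, if two distinct involutions are
conjugate then all three are. -/
theorem klein_fusion (P : Sylow 2 G) (hP : IsKleinFour (P : Subgroup G)) {x y g : G}
    (hx : x ∈ P) (hy : y ∈ P) (hx1 : x ≠ 1) (hy1 : y ≠ 1) (hxy : x ≠ y)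
    (hg : g * x * g⁻¹ = y) : ∃ g' : G, g' * x * g'⁻¹ = x * y := by
  have : Fact (Nat.Prime 2) := ⟨Nat.prime_two⟩
  have hab : ∀ a ∈ P, ∀ b ∈ P, a * b = b * a := fun a ha b hb => klein_comm hP ha hb
  obtain ⟨n, hn, hnx⟩ := burnside_fusion P hab hx hy hg
  have hnP : ∀ a ∈ P, n * a * n⁻¹ ∈ P := by
    intro a ha
    rw [Subgroup.mem_normalizer_iff] at hn
    exact (hn a).mp ha
  set w := n * y * n⁻¹ with hw
  have hwP : w ∈ P := hnP y hy
  have hw1 : w ≠ 1 := by
    intro h
    apply hy1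
    calc y = n⁻¹ * (n * y * n⁻¹) * n := by group
      _ = 1 := by rw [← hw, h]; group
  have hwy : w ≠ y := by
    intro h
    apply hxy
    have : n * y * n⁻¹ = n * x * n⁻¹ := by rw [← hw, h, hnx]
    calc x = n⁻¹ * (n * x * n⁻¹) * n := by group
      _ = n⁻¹ * (n * y * n⁻¹) * n := by rw [this]
      _ = y := by group
  rcases klein_cases hP hx hy hx1 hy1 hxy hwP with h | h | h | h
  · exact absurd h hw1
  · -- n swaps x and y: contradiction
    exfalso
    have hswap : ∀ k : ℕ, n ^ (2 * k) * x * (n ^ (2 * k))⁻¹ = x ∧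
        n ^ (2 * k + 1) * x * (n ^ (2 * k + 1))⁻¹ = y := by
      intro k
      induction k with
      | zero => simp [hnx]
      | succ k ih =>
        have e1 : n ^ (2 * (k + 1)) = n * n ^ (2 * k + 1) := by
          rw [show 2 * (k + 1) = (2 * k + 1) + 1 by ring, pow_succ']
        have h1 : n ^ (2 * (k + 1)) * x * (n ^ (2 * (k + 1)))⁻¹ = x := by
          rw [e1]
          calc n * n ^ (2 * k + 1) * x * (n * n ^ (2 * k + 1))⁻¹
              = n * (n ^ (2 * k + 1) * x * (n ^ (2 * k + 1))⁻¹) * n⁻¹ := by group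
            _ = x := by rw [ih.2, ← hw, h]
        refine ⟨h1, ?_⟩
        have e2 : n ^ (2 * (k + 1) + 1) = n * n ^ (2 * (k + 1)) := by
          rw [pow_succ']
        rw [e2]
        calc n * n ^ (2 * (k + 1)) * x * (n * n ^ (2 * (k + 1)))⁻¹
            = n * (n ^ (2 * (k + 1)) * x * (n ^ (2 * (k + 1)))⁻¹) * n⁻¹ := by group
          _ = y := by rw [h1, hnx]
    obtain ⟨e, m, hm, hem⟩ := Nat.exists_eq_two_pow_mul_odd (orderOf_pos n).ne'
    obtain ⟨j, hj⟩ := hm
    set n₂ := n ^ m with hn₂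
    have hn₂x : n₂ * x * n₂⁻¹ = y := by
      rw [hn₂, hj]; exact (hswap j).2
    have hm0 : m ≠ 0 := by omega
    have hord : orderOf n₂ = 2 ^ e := by
      rw [hn₂, orderOf_pow_of_dvd hm0 ⟨2 ^ e, by rw [hem]; ring⟩, hem]
      exact Nat.mul_div_cancel _ (by omega)
    have hZ2 : IsPGroup 2 (Subgroup.zpowers n₂) := by
      rw [IsPGroup.iff_card]; exact ⟨e, by rw [Nat.card_zpowers, hord]⟩
    have hZN : Subgroup.zpowers n₂ ≤ Subgroup.normalizer ((P : Subgroup G) : Set G) := by
      rw [Subgroup.zpowers_le]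
      exact Subgroup.pow_mem _ hn m
    have hsup := IsPGroup.to_sup_of_normal_right' hZ2 P.2 hZN
    have heq := P.is_maximal' hsup le_sup_right
    have hn₂P : n₂ ∈ P := by
      have : n₂ ∈ Subgroup.zpowers n₂ ⊔ (P : Subgroup G) :=
        (le_sup_left : Subgroup.zpowers n₂ ≤ _) (Subgroup.mem_zpowers n₂)
      rw [heq] at this; exact this
    have hc := klein_comm hP hn₂P hx
    apply hxy
    calc x = x * n₂ * n₂⁻¹ := by group
      _ = n₂ * x * n₂⁻¹ := by rw [hc]
      _ = y := hn₂x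
  · exact absurd h hwy
  · refine ⟨n * n, ?_⟩
    calc n * n * x * (n * n)⁻¹ = n * (n * x * n⁻¹) * n⁻¹ := by group
      _ = x * y := by rw [hnx, ← hw, h]

/-- Every involution is conjugate to a nonidentity element of a Sylow 2-subgroup. -/
theorem exists_conj_mem_sylow (P : Sylow 2 G) {t : G} (ht : orderOf t = 2) :
    ∃ h : G, h⁻¹ * t * h ∈ P := by
  have : Fact (Nat.Prime 2) := ⟨Nat.prime_two⟩
  have hY : IsPGroup 2 (Subgroup.zpowers t) := by
    rw [IsPGroup.iff_card]; exact ⟨1, by rw [Nat.card_zpowers, ht, pow_one]⟩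
  obtain ⟨h, hh⟩ := exists_cj_le_sylow_top P _ hY
  refine ⟨h, ?_⟩
  have h1 : h⁻¹ * t * h⁻¹⁻¹ ∈ cj h⁻¹ (Subgroup.zpowers t) :=
    conj_mem_cj h⁻¹ _ (Subgroup.mem_zpowers t)
  rw [inv_inv] at h1
  exact hh h1

end KleinSylow

end Cfsg.Agent.Lib.Helper1
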