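import Mathlib
import Cfsg.Agent.Lib.Helper1.KleinSylow

set_option autoImplicit false

namespace Cfsg.Agent.Lib.Helper1

section KleinClasses
variable {G : Type*} [Group G] [Finite G]

/-- the set of classes of involutions -/
def involClasses (G : Type*) [Group G] : Set (ConjClasses G) :=
  {C | ∃ t : G, orderOf t = 2 ∧ ConjClasses.mk t = C}

theorem card_involClasses_eq :
    Nat.card {C : ConjClasses G // ∃ t : G, orderOf t = 2 ∧ ConjClasses.mk t = C} =
      (involClasses G).ncard :=
  Nat.card_coe_set_eq (involClasses G)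

theorem klein_exists_basis {P : Subgroup G} (hP : IsKleinFour P) :
    ∃ x y : G, x ∈ P ∧ y ∈ P ∧ x ≠ 1 ∧ y ≠ 1 ∧ x ≠ y := by
  classical
  have : Fintype P := Fintype.ofFinite P
  have hcard : Fintype.card P = 4 := by rw [← Nat.card_eq_fintype_card]; exact hP.card_four
  have h1 : 1 < Fintype.card P := by omega
  obtain ⟨x, hx⟩ := Fintype.exists_ne_of_one_lt_card h1 (1 : P)
  have h2 : ({1, x} : Finset P).card < (Finset.univ : Finset P).card := by
    rw [Finset.card_univ, hcard]
    calc ({1, x} : Finset P).card ≤ 2 := Finset.card_le_two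
      _ < 4 := by norm_num
  obtain ⟨y, -, hy⟩ := Finset.exists_mem_notMem_of_card_lt_card h2
  simp only [Finset.mem_insert, Finset.mem_singleton, not_or] at hy
  refine ⟨x.1, y.1, x.2, y.2, ?_, ?_, ?_⟩
  · intro h; exact hx (Subtype.ext h)
  · intro h; exact hy.1 (Subtype.ext h)
  · intro h; exact hy.2 (Subtype.ext h.symm)

theorem involClasses_eq_of_klein (P : Sylow 2 G) (hP : IsKleinFour (P : Subgroup G)) {x y : G}
    (hx : x ∈ P) (hy : y ∈ P) (hx1 : x ≠ 1) (hy1 : y ≠ 1) (hxy : x ≠ y) :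
    involClasses G = {ConjClasses.mk x, ConjClasses.mk y, ConjClasses.mk (x * y)} := by
  have hxy1 : x * y ≠ 1 := by
    intro h
    apply hxy
    have hyy := klein_mul_self hP hy
    calc x = x * (y * y) := by rw [hyy, mul_one]
      _ = (x * y) * y := by group
      _ = y := by rw [h, one_mul]
  ext C
  simp only [involClasses, Set.mem_ofPred_eq, Set.mem_insert_iff, Set.mem_singleton_iff]
  constructor
  · rintro ⟨t, ht, rfl⟩
    obtain ⟨h, hh⟩ := exists_conj_mem_sylow P ht
    have hc : IsConj t (h⁻¹ * t * h) := isConj_iff.mpr ⟨h⁻¹, by rw [inv_inv]⟩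
    have hne : h⁻¹ * t * h ≠ 1 := by
      intro h1
      have : t = 1 := by
        calc t = h * (h⁻¹ * t * h) * h⁻¹ := by group
          _ = 1 := by rw [h1]; group
      rw [this, orderOf_one] at ht; omega
    rcases klein_cases hP hx hy hx1 hy1 hxy hh with h1 | h1 | h1 | h1
    · exact absurd h1 hne
    · left; rw [ConjClasses.mk_eq_mk_iff_isConj, ← h1]; exact hc
    · right; left; rw [ConjClasses.mk_eq_mk_iff_isConj, ← h1]; exact hc
    · right; right; rw [ConjClasses.mk_eq_mk_iff_isConj, ← h1]; exact hc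
  · rintro (rfl | rfl | rfl)
    · exact ⟨x, klein_orderOf hP hx hx1, rfl⟩
    · exact ⟨y, klein_orderOf hP hy hy1, rfl⟩
    · exact ⟨x * y, klein_orderOf hP (Subgroup.mul_mem _ hx hy) hxy1, rfl⟩

/-- No fusion in `P`. -/
def NoFusion (P : Subgroup G) : Prop := ∀ u ∈ P, ∀ v ∈ P, IsConj u v → u = v

theorem klein_dichotomy (P : Sylow 2 G) (hP : IsKleinFour (P : Subgroup G)) :
    ((involClasses G).ncard = 1 ∧ ¬ NoFusion (P : Subgroup G)) ∨
      ((involClasses G).ncard = 3 ∧ NoFusion (P : Subgroup G)) := by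
  obtain ⟨x, y, hx, hy, hx1, hy1, hxy⟩ := klein_exists_basis hP
  have hxx := klein_mul_self hP hx
  have hyy := klein_mul_self hP hy
  have hcomm := klein_comm hP hx hy
  have hset := involClasses_eq_of_klein P hP hx hy hx1 hy1 hxy
  have hxyP : x * y ∈ P := Subgroup.mul_mem _ hx hy
  have hxy1 : x * y ≠ 1 := by
    intro h
    apply hxy
    calc x = x * (y * y) := by rw [hyy, mul_one]
      _ = (x * y) * y := by group
      _ = y := by rw [h, one_mul]
  have hxyx : x ≠ x * y := by
    intro h; apply hy1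
    calc y = x⁻¹ * (x * y) := by group
      _ = 1 := by rw [← h]; group
  have hxyy : y ≠ x * y := by
    intro h; apply hx1
    calc x = (x * y) * y⁻¹ := by group
      _ = 1 := by rw [← h]; group
  -- if any two are conjugate then all are
  have hall : (IsConj x y ∨ IsConj x (x * y) ∨ IsConj y (x * y)) →
      IsConj x y ∧ IsConj x (x * y) := by
    rintro (h | h | h)
    · obtain ⟨g, hg⟩ := isConj_iff.mp h
      obtain ⟨g', hg'⟩ := klein_fusion P hP hx hy hx1 hy1 hxy hg
      exact ⟨h, isConj_iff.mpr ⟨g', hg'⟩⟩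
    · obtain ⟨g, hg⟩ := isConj_iff.mp h
      obtain ⟨g', hg'⟩ := klein_fusion P hP hx hxyP hx1 hxy1 hxyx hg
      have e : x * (x * y) = y := by rw [← mul_assoc, hxx, one_mul]
      rw [e] at hg'
      exact ⟨isConj_iff.mpr ⟨g', hg'⟩, h⟩
    · obtain ⟨g, hg⟩ := isConj_iff.mp h
      obtain ⟨g', hg'⟩ := klein_fusion P hP hy hxyP hy1 hxy1 hxyy hg
      have e : y * (x * y) = x := by rw [hcomm, ← mul_assoc, hyy, one_mul]
      rw [e] at hg'
      have h1 : IsConj x y := (isConj_iff.mpr ⟨g', hg'⟩).symm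
      exact ⟨h1, h1.trans h⟩
  by_cases hc : IsConj x y ∨ IsConj x (x * y) ∨ IsConj y (x * y)
  · left
    obtain ⟨h1, h2⟩ := hall hc
    refine ⟨?_, ?_⟩
    · rw [hset, ← ConjClasses.mk_eq_mk_iff_isConj.mpr h1, ← ConjClasses.mk_eq_mk_iff_isConj.mpr h2]
      simp
    · intro hnf
      exact hxy (hnf x hx y hy h1)
  · right
    push Not at hc
    obtain ⟨h1, h2, h3⟩ := hc
    refine ⟨?_, ?_⟩
    · rw [hset, Set.ncard_eq_three]
      refine ⟨_, _, _, ?_, ?_, ?_, rfl⟩
      · rwa [Ne, ConjClasses.mk_eq_mk_iff_isConj]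
      · rwa [Ne, ConjClasses.mk_eq_mk_iff_isConj]
      · rwa [Ne, ConjClasses.mk_eq_mk_iff_isConj]
    · intro u hu v hv huv
      by_contra hne
      have hu1 : u ≠ 1 := by
        intro h
        rw [h] at huv hne
        obtain ⟨g, hg⟩ := isConj_iff.mp huv
        apply hne
        rw [← hg]; group
      have hv1 : v ≠ 1 := by
        intro h
        rw [h] at huv hne
        obtain ⟨g, hg⟩ := isConj_iff.mp huv.symm
        apply hne
        rw [← hg]; group
      obtain ⟨g, hg⟩ := isConj_iff.mp huv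
      obtain ⟨g', hg'⟩ := klein_fusion P hP hu hv hu1 hv1 hne hg
      have huv' : IsConj u (u * v) := isConj_iff.mpr ⟨g', hg'⟩
      -- x and y are among u, v, u*v, all conjugate to u
      have hconj : ∀ w ∈ P, w ≠ 1 → IsConj u w := by
        intro w hw hw1
        rcases klein_cases hP hu hv hu1 hv1 hne hw with h | h | h | h
        · exact absurd h hw1
        · rw [h]
        · rw [h]; exact huv
        · rw [h]; exact huv'
      exact h1 ((hconj x hx hx1).symm.trans (hconj y hy hy1))

open scoped Pointwise in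
/-- No fusion iff normal complement. -/
theorem noFusion_iff_complement (P : Sylow 2 G) (hP : IsKleinFour (P : Subgroup G)) :
    NoFusion (P : Subgroup G) ↔
      ∃ N : Subgroup G, N.Normal ∧ Subgroup.IsComplement' N (P : Subgroup G) := by
  have : Fact (Nat.Prime 2) := ⟨Nat.prime_two⟩
  constructor
  · intro hnf
    have hPC : Subgroup.normalizer ((P : Subgroup G) : Set G) ≤ Subgroup.centralizer (P : Set G) := by
      intro n hn
      rw [Subgroup.mem_centralizer_iff]
      intro a ha
      have ha' : a ∈ (P : Subgroup G) := ha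
      have h1 : n * a * n⁻¹ ∈ (P : Subgroup G) := by
        rw [Subgroup.mem_normalizer_iff] at hn
        exact (hn a).mp ha'
      have h2 := hnf a ha' _ h1 (isConj_iff.mpr ⟨n, rfl⟩)
      calc a * n = n * a * n⁻¹ * n := by rw [← h2]
        _ = n * a := by group
    exact ⟨_, MonoidHom.normal_ker _, MonoidHom.ker_transferSylow_isComplement' P hPC⟩
  · rintro ⟨N, hN, hc⟩ u hu v hv huv
    obtain ⟨g, hg⟩ := isConj_iff.mp huv
    -- g = n * p
    have hmul := (Subgroup.isComplement'_def.mp hc).mul_eq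
    have hgmem : g ∈ ((N : Set G) * ((P : Subgroup G) : Set G)) := by rw [hmul]; trivial
    obtain ⟨n, hn, p, hp, rfl⟩ := Set.mem_mul.mp hgmem
    have hpu : p * u = u * p := klein_comm hP hp hu
    have h1 : n * u * n⁻¹ = v := by
      rw [← hg]
      calc n * u * n⁻¹ = n * (u * p * p⁻¹) * n⁻¹ := by group
        _ = n * (p * u * p⁻¹) * n⁻¹ := by rw [hpu]
        _ = n * p * u * (n * p)⁻¹ := by group
    -- v * u⁻¹ ∈ N ⊓ P
    have h2 : v * u⁻¹ ∈ N := by
      rw [← h1]
      have : n * u * n⁻¹ * u⁻¹ = n * (u * n⁻¹ * u⁻¹) := by group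
      rw [this]
      exact N.mul_mem hn (hN.conj_mem _ (N.inv_mem hn) u)
    have h3 : v * u⁻¹ ∈ (P : Subgroup G) := Subgroup.mul_mem _ hv (Subgroup.inv_mem _ hu)
    have h4 : v * u⁻¹ ∈ N ⊓ (P : Subgroup G) := ⟨h2, h3⟩
    rw [hc.disjoint.eq_bot, Subgroup.mem_bot] at h4
    exact (mul_inv_eq_one.mp h4).symm

end KleinClasses

end Cfsg.Agent.Lib.Helper1
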