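import Mathlib
import Cfsg.Agent.Lib.Helper1.StemZA1

set_option autoImplicit false
set_option maxRecDepth 100000

namespace Cfsg.Agent.Lib.Helper1.L27M

open Cfsg.Agent.Lib.Helper1

def ordL : List ℕ := [0, 1, 2, 7, 3, 6, 4, 5]
def piN : List ℕ := [1460024353, 1919157553]
def parL : List (ℕ × ℕ) := [(0, 0), (0, 0), (0, 1), (1, 1), (0, 2), (1, 2), (0, 4), (0, 6)]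
def relsL : List (List ℕ × List ℕ) := [([0, 1, 0], [1, 1]), ([1, 0, 0, 1, 1, 0, 0, 1], [0, 1, 1, 0, 0, 1, 1, 0])]

/-- the data of the labelled action -/
def D : StemSA.SAData where
  k := 2
  m := 8
  pi := fun i j => (piN.getD i 0 >>> (4 * j)) % 2 ^ 4
  par := fun j => parL.getD j (0, 0)
  ords := [7, 3]
  rels := relsL
  specs := []
  Bm := fun _ => 0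

def eqsL : List (ℕ × ℕ) := [(0, 1), (0, 2), (0, 3), (0, 4), (0, 5), (0, 6), (0, 7), (1, 0), (1, 1), (1, 2), (1, 3), (1, 4), (1, 5), (1, 6), (1, 7), (2, 0), (2, 1), (2, 2), (2, 3), (2, 4), (2, 5), (2, 6), (2, 7), (3, 0), (3, 1), (3, 2), (3, 3), (3, 4), (3, 5), (3, 6), (3, 7), (4, 0), (4, 1), (4, 2), (4, 3), (4, 4), (4, 5), (4, 6), (4, 7)]
/-- decoding of integers -/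
def zz (x : ℕ) : ℤ := if x % 2 = 0 then ((x / 2 : ℕ) : ℤ) else -(((x + 1) / 2 : ℕ) : ℤ)

def RL : List (List ℕ) := [[2, 0, 0, 0, 0, 0, 0, 0, 0, 0, 0, 0, 0, 0, 0, 0, 0, 0],
  [0, 2, 0, 0, 0, 0, 0, 0, 0, 0, 0, 0, 0, 0, 0, 0, 0, 0],
  [0, 0, 0, 0, 0, 0, 0, 0, 0, 2, 0, 0, 0, 0, 0, 0, 0, 0],
  [0, 0, 2, 0, 0, 0, 0, 0, 0, 0, 0, 0, 0, 0, 0, 0, 0, 0],
  [0, 0, 0, 0, 0, 0, 0, 0, 0, 0, 2, 0, 0, 0, 0, 0, 0, 0],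
  [0, 0, 0, 0, 2, 0, 0, 0, 0, 0, 0, 0, 0, 0, 0, 0, 0, 0],
  [0, 0, 0, 0, 0, 0, 2, 0, 0, 0, 0, 0, 0, 0, 0, 0, 0, 0],
  [2, 2, 2, 0, 2, 2, 2, 2, 0, 0, 0, 0, 0, 0, 0, 0, 0, 0],
  [2, 2, 2, 0, 2, 2, 2, 2, 0, 0, 0, 0, 0, 0, 0, 0, 0, 0],
  [2, 2, 2, 0, 2, 2, 2, 2, 0, 0, 0, 0, 0, 0, 0, 0, 0, 0],
  [0, 0, 0, 14, 0, 0, 0, 0, 0, 0, 0, 0, 0, 0, 0, 0, 0, 0],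
  [2, 2, 2, 0, 2, 2, 2, 2, 0, 0, 0, 0, 0, 0, 0, 0, 0, 0],
  [2, 2, 2, 0, 2, 2, 2, 2, 0, 0, 0, 0, 0, 0, 0, 0, 0, 0],
  [2, 2, 2, 0, 2, 2, 2, 2, 0, 0, 0, 0, 0, 0, 0, 0, 0, 0],
  [2, 2, 2, 0, 2, 2, 2, 2, 0, 0, 0, 0, 0, 0, 0, 0, 0, 0],
  [0, 0, 0, 0, 0, 0, 0, 0, 2, 2, 0, 2, 0, 0, 0, 0, 0, 0],
  [0, 0, 0, 0, 0, 0, 0, 0, 2, 2, 0, 2, 0, 0, 0, 0, 0, 0],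
  [0, 0, 0, 0, 0, 0, 0, 0, 0, 0, 2, 0, 0, 2, 2, 0, 0, 0],
  [0, 0, 0, 0, 0, 0, 0, 0, 2, 2, 0, 2, 0, 0, 0, 0, 0, 0],
  [0, 0, 0, 0, 0, 0, 0, 0, 0, 0, 0, 0, 6, 0, 0, 0, 0, 0],
  [0, 0, 0, 0, 0, 0, 0, 0, 0, 0, 2, 0, 0, 2, 2, 0, 0, 0],
  [0, 0, 0, 0, 0, 0, 0, 0, 0, 0, 2, 0, 0, 2, 2, 0, 0, 0],
  [0, 0, 0, 0, 0, 0, 0, 0, 0, 0, 0, 0, 0, 0, 0, 6, 0, 0],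
  [2, 0, 0, 2, 0, 0, 0, 0, 1, 0, 0, 0, 0, 0, 0, 0, 1, 0],
  [0, 2, 0, 0, 0, 2, 0, 0, 0, 1, 2, 1, 0, 0, 0, 0, 1, 0],
  [0, 0, 2, 0, 2, 0, 0, 0, 0, 0, 1, 0, 2, 1, 0, 0, 1, 0],
  [2, 0, 0, 2, 0, 0, 0, 0, 1, 0, 0, 0, 0, 0, 0, 0, 1, 0],
  [0, 0, 2, 0, 2, 0, 0, 0, 0, 0, 0, 0, 3, 0, 2, 0, 1, 0],
  [0, 2, 0, 0, 0, 2, 0, 0, 2, 0, 0, 0, 0, 1, 1, 0, 1, 0],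
  [0, 0, 0, 0, 0, 0, 2, 2, 0, 0, 1, 0, 0, 0, 1, 2, 1, 0],
  [0, 0, 0, 0, 0, 0, 2, 2, 0, 0, 0, 0, 0, 2, 0, 3, 1, 0],
  [3, 0, 2, 0, 2, 0, 0, 0, 2, 1, 1, 1, 4, 1, 0, 2, 0, 1],
  [0, 0, 0, 4, 0, 0, 1, 1, 2, 2, 1, 2, 2, 3, 1, 0, 0, 1],
  [4, 2, 1, 0, 1, 2, 1, 1, 0, 2, 4, 2, 3, 0, 0, 3, 0, 1],
  [2, 0, 1, 1, 1, 0, 2, 2, 1, 0, 2, 0, 3, 4, 0, 0, 0, 1],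
  [3, 0, 0, 0, 0, 0, 2, 2, 2, 1, 1, 1, 2, 0, 1, 4, 0, 1],
  [0, 1, 2, 3, 2, 1, 2, 2, 3, 1, 0, 1, 0, 4, 4, 0, 0, 1],
  [2, 0, 2, 1, 2, 0, 1, 1, 1, 0, 2, 0, 0, 0, 4, 3, 0, 1],
  [0, 0, 1, 4, 1, 0, 0, 0, 2, 2, 1, 2, 0, 1, 3, 2, 0, 1]]
def YL : List (List ℕ) := [[126, 0, 0, 0, 0, 0, 0, 0, 0, 0, 0, 0, 0, 0, 0, 0, 0, 0, 0, 0, 0, 0, 0, 0, 0, 0, 0, 0, 0, 0, 0, 0, 0, 0, 0, 0, 0, 0, 0],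
  [0, 126, 0, 0, 0, 0, 0, 0, 0, 0, 0, 0, 0, 0, 0, 0, 0, 0, 0, 0, 0, 0, 0, 0, 0, 0, 0, 0, 0, 0, 0, 0, 0, 0, 0, 0, 0, 0, 0],
  [0, 0, 0, 126, 0, 0, 0, 0, 0, 0, 0, 0, 0, 0, 0, 0, 0, 0, 0, 0, 0, 0, 0, 0, 0, 0, 0, 0, 0, 0, 0, 0, 0, 0, 0, 0, 0, 0, 0],
  [0, 0, 0, 0, 0, 0, 0, 0, 0, 0, 18, 0, 0, 0, 0, 0, 0, 0, 0, 0, 0, 0, 0, 0, 0, 0, 0, 0, 0, 0, 0, 0, 0, 0, 0, 0, 0, 0, 0],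
  [0, 0, 0, 0, 0, 126, 0, 0, 0, 0, 0, 0, 0, 0, 0, 0, 0, 0, 0, 0, 0, 0, 0, 0, 0, 0, 0, 0, 0, 0, 0, 0, 0, 0, 0, 0, 0, 0, 0],
  [125, 125, 0, 0, 125, 0, 0, 84, 0, 0, 29, 0, 0, 0, 0, 168, 0, 125, 0, 0, 0, 0, 0, 210, 84, 167, 0, 0, 0, 125, 0, 42, 0, 41, 0, 0, 0, 0, 0],
  [0, 0, 0, 0, 0, 0, 126, 0, 0, 0, 0, 0, 0, 0, 0, 0, 0, 0, 0, 0, 0, 0, 0, 0, 0, 0, 0, 0, 0, 0, 0, 0, 0, 0, 0, 0, 0, 0, 0],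
  [0, 0, 0, 125, 126, 125, 125, 42, 0, 0, 30, 0, 0, 0, 0, 167, 0, 126, 0, 0, 0, 0, 0, 209, 83, 168, 0, 0, 0, 126, 0, 41, 0, 42, 0, 0, 0, 0, 0],
  [0, 0, 0, 0, 0, 0, 0, 0, 0, 0, 0, 0, 0, 0, 0, 0, 0, 0, 0, 0, 0, 0, 0, 0, 0, 0, 0, 0, 0, 0, 0, 0, 0, 0, 0, 0, 0, 0, 0],
  [0, 0, 126, 0, 0, 0, 0, 0, 0, 0, 0, 0, 0, 0, 0, 0, 0, 0, 0, 0, 0, 0, 0, 0, 0, 0, 0, 0, 0, 0, 0, 0, 0, 0, 0, 0, 0, 0, 0],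
  [0, 0, 0, 0, 126, 0, 0, 0, 0, 0, 0, 0, 0, 0, 0, 0, 0, 0, 0, 0, 0, 0, 0, 0, 0, 0, 0, 0, 0, 0, 0, 0, 0, 0, 0, 0, 0, 0, 0],
  [251, 0, 125, 0, 0, 0, 0, 84, 0, 0, 47, 0, 0, 0, 0, 168, 0, 125, 0, 0, 0, 0, 0, 336, 41, 167, 0, 0, 0, 125, 0, 42, 0, 41, 0, 0, 0, 0, 0],
  [0, 0, 0, 0, 0, 0, 0, 0, 0, 0, 0, 0, 0, 0, 0, 0, 0, 0, 0, 42, 0, 0, 0, 0, 0, 0, 0, 0, 0, 0, 0, 0, 0, 0, 0, 0, 0, 0, 0],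
  [125, 0, 0, 126, 125, 126, 0, 0, 0, 0, 17, 0, 0, 0, 0, 0, 0, 0, 0, 42, 0, 0, 0, 126, 0, 125, 0, 0, 0, 0, 0, 0, 0, 0, 0, 0, 0, 0, 0],
  [125, 0, 0, 125, 0, 125, 0, 84, 0, 0, 29, 0, 0, 0, 0, 42, 0, 0, 0, 41, 0, 0, 0, 210, 41, 41, 0, 0, 0, 125, 0, 42, 0, 41, 0, 0, 0, 0, 0],
  [0, 0, 0, 0, 0, 0, 0, 42, 0, 0, 41, 0, 0, 0, 0, 210, 0, 125, 0, 41, 0, 0, 0, 294, 42, 209, 0, 0, 0, 125, 0, 84, 0, 83, 0, 0, 0, 0, 0],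
  [125, 0, 0, 0, 0, 0, 0, 84, 0, 0, 29, 0, 0, 0, 0, 42, 0, 125, 0, 0, 0, 0, 0, 210, 41, 167, 0, 0, 0, 125, 0, 42, 0, 41, 0, 0, 0, 0, 0],
  [125, 0, 0, 0, 0, 0, 0, 42, 0, 0, 23, 0, 0, 0, 0, 84, 0, 125, 0, 0, 0, 0, 0, 168, 42, 83, 0, 0, 0, 125, 0, 41, 0, 83, 0, 0, 0, 0, 0],
  [252, 0, 0, 0, 0, 0, 0, 83, 0, 0, 48, 0, 0, 0, 0, 41, 0, 126, 0, 0, 0, 0, 0, 335, 42, 168, 0, 0, 0, 126, 0, 41, 0, 42, 0, 0, 0, 0, 0]]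
def ddL : List ℕ := [126, 126, 126, 126, 126, 126, 126, 126, 126, 126, 126, 126, 126, 126, 126, 126, 126, 126, 126]
def eeL : List ℕ := [0, 0, 0, 0, 0, 0, 0, 0, 126, 0, 0, 126, 0, 126, 126, 0, 126, 126]

/-- the certificate -/
def C : StemZA.ZACert where
  eqs := eqsL
  R := RL.map (fun r => r.map zz)
  Y := YL.map (fun r => r.map zz)
  b0 := 8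
  dd := ddL.map zz
  ee := eeL.map zz

end Cfsg.Agent.Lib.Helper1.L27M
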