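import Cfsg.Agent.Lib.Helper2.PSL27d
import Cfsg.Agent.Lib.Helper2.ExcIso4
import Cfsg.Agent.Lib.Helper1.L27MultD
import Cfsg.Agent.Lib.Helper1.StemZB4
import Cfsg.Agent.Lib.Helper1.Stem14
import Cfsg.Agent.Lib.Helper1.Stem3

/-!
# Stem extensions of the projective special linear group of degree 2 over the field of order 7
-/

set_option autoImplicit false
set_option maxRecDepth 100000

namespace Cfsg.Agent.Lib.Helper1.L27M

open Cfsg Cfsg.Agent.Lib.Helper1 Cfsg.Agent.Lib.Helper1.MatCode MulAction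
open Cfsg.Agent.Lib.Helper2 (PSL27.actHom PSL27.act PSL27.actHom_apply PSL27.act_scalar)
open Cfsg.Agent.Lib.Helper1.Stem Cfsg.Agent.Lib.Helper1.StemSA Cfsg.Agent.Lib.Helper1.StemZA
  Cfsg.Agent.Lib.Helper1.StemZB

universe u

abbrev S27 := Matrix.SpecialLinearGroup (Fin 2) (ZMod 7)
abbrev P27 := Matrix.ProjectiveSpecialLinearGroup (Fin 2) (ZMod 7)

theorem chk_struct : D.chkStruct = true := by decide +kernel

theorem chk_cert : chkCertP D C 2 1 = true := by decide +kernel

theorem chk_act : chkAct D = true := by decide +kernel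

theorem actHom_center (g : S27) (hg : g ∈ Subgroup.center S27) : PSL27.actHom g = 1 := by
  rw [Matrix.SpecialLinearGroup.mem_center_iff] at hg
  obtain ⟨r, hr, hs⟩ := hg
  have hr0 : r ≠ 0 := by
    intro h
    rw [h, Fintype.card_fin] at hr
    norm_num at hr
  apply Equiv.ext
  intro z
  rw [PSL27.actHom_apply, ← hs, PSL27.act_scalar r hr0]
  rfl

set_option maxHeartbeats 4000000 in
theorem faithful_aux : ∀ a b c d : ZMod 7, a * d - b * c = 1 →
    (∀ z : Fin 8, PSL27.act !![a, b; c, d] z = z) → b = 0 ∧ c = 0 ∧ a = d := by decide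

theorem center_of_actHom (g : S27) (h : PSL27.actHom g = 1) : g ∈ Subgroup.center S27 := by
  have hg : g.1 = !![g.1 0 0, g.1 0 1; g.1 1 0, g.1 1 1] := Matrix.eta_fin_two g.1
  have hdet : g.1 0 0 * g.1 1 1 - g.1 0 1 * g.1 1 0 = 1 := by
    rw [← Matrix.det_fin_two]
    exact g.2
  have hz : ∀ z : Fin 8, PSL27.act !![g.1 0 0, g.1 0 1; g.1 1 0, g.1 1 1] z = z := by
    intro z
    rw [← hg, ← PSL27.actHom_apply, h]
    rfl
  have h2 := faithful_aux _ _ _ _ hdet hz
  rw [Matrix.SpecialLinearGroup.mem_center_iff]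
  refine ⟨g.1 0 0, ?_, ?_⟩
  · rw [Fintype.card_fin, pow_two]
    rw [h2.1, zero_mul, sub_zero, ← h2.2.2] at hdet
    exact hdet
  · apply Matrix.ext
    intro i j
    fin_cases i <;> fin_cases j
    · simp
    · simp [h2.1]
    · simp [h2.2.1]
    · simp [h2.2.2]

/-- the action of the projective group on the projective line -/
def actP : P27 →* Equiv.Perm (Fin 8) :=
  QuotientGroup.lift (Subgroup.center S27) PSL27.actHom
    (fun g hg => MonoidHom.mem_ker.mpr (actHom_center g hg))

theorem actP_mk (g : S27) : actP (QuotientGroup.mk g) = PSL27.actHom g := rfl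

theorem actP_injective : Function.Injective actP := by
  rw [injective_iff_map_eq_one]
  intro x hx
  obtain ⟨g, rfl⟩ := QuotientGroup.mk_surjective x
  rw [actP_mk] at hx
  exact (QuotientGroup.eq_one_iff g).mpr (center_of_actHom g hx)

instance : MulAction P27 (Fin 8) := MulAction.compHom (Fin 8) actP

theorem smul_def' (x : P27) (z : Fin 8) : x • z = actP x z := rfl

instance : FaithfulSMul P27 (Fin 8) where
  eq_of_smul_eq_smul := by
    intro x y h
    apply actP_injective
    apply Equiv.ext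
    intro z
    exact h z

/-- the generator of order 7 -/
def mA : S27 := ⟨!![1, 1; 0, 1], by decide⟩

/-- the generator of order 3 -/
def mB : S27 := ⟨!![0, 6; 1, 6], by decide⟩

/-- the generators -/
abbrev GG : List P27 := [QuotientGroup.mk mA, QuotientGroup.mk mB]

/-- the points in the order of the tree -/
def pt (j : ℕ) : Fin 8 := Fin.ofNat 8 (ordL.getD j 0)

theorem pt_zero (j : ℕ) (hj : j < D.m) (h : pt j = pt 0) : j = 0 := by
  have hj' : j < 8 := hj
  interval_cases j
  · rfl
  all_goals exact absurd h (by decide)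

theorem pt_surj (y : Fin 8) : ∃ j < D.m, pt j = y := by
  revert y
  decide

theorem pi_act (i : ℕ) (hi : i < D.k) (j : ℕ) (hj : j < D.m) :
    GG.getD i 1 • pt j = pt (D.pi i j) := by
  have hi' : i < 2 := hi
  have hj' : j < 8 := hj
  interval_cases i
  · show PSL27.act mA.1 (pt j) = _
    interval_cases j <;> decide
  · show PSL27.act mB.1 (pt j) = _
    interval_cases j <;> decide

theorem hord (i : ℕ) (hi : i < D.k) :
    Nat.Coprime (D.ords.getD i 0) 2 ∧ (GG.getD i 1) ^ (D.ords.getD i 0) = 1 := by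
  refine ⟨?_, pow_of_chkAct D chk_struct chk_act pt GG pi_act pt_surj i hi⟩
  have hi' : i < 2 := hi
  interval_cases i <;> decide

theorem hrel (w : List ℕ × List ℕ) (hw : w ∈ D.rels) : wordProd GG w.1 = wordProd GG w.2 :=
  hrel_of_chkAct D chk_struct chk_act pt GG pi_act pt_surj w hw


theorem card_P27 : Nat.card P27 = 168 := Cfsg.Agent.Lib.Helper2.PSL27.card_PSL27

instance : Finite P27 := Nat.finite_of_card_ne_zero (by rw [card_P27]; norm_num)

theorem orbit_closure_eq (H : Subgroup P27)
    (hH : Subgroup.closure {g | ∃ i < D.k, g = GG.getD i 1} ≤ H) :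
    MulAction.orbit H (pt 0) = Set.univ := by
  rw [Set.eq_univ_iff_forall]
  intro y
  obtain ⟨j, hj, rfl⟩ := pt_surj y
  obtain ⟨h, hh, hact⟩ := exists_mem_closure_smul D chk_struct pt GG pi_act j hj
  exact ⟨⟨h, hH hh⟩, hact⟩

theorem eight_dvd (H : Subgroup P27)
    (hH : Subgroup.closure {g | ∃ i < D.k, g = GG.getD i 1} ≤ H) : 8 ∣ Nat.card H := by
  have h1 := MulAction.index_stabilizer (G := H) (x := pt 0)
  rw [orbit_closure_eq H hH, Set.ncard_univ, Nat.card_eq_fintype_card, Fintype.card_fin] at h1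
  rw [← h1]
  exact Subgroup.index_dvd_card _

theorem orderOf_gen (i : ℕ) (hi : i < D.k) : orderOf (GG.getD i 1) = D.ords.getD i 0 := by
  have hi' : i < 2 := hi
  have hp := (hord i hi).2
  interval_cases i
  · haveI : Fact (Nat.Prime 7) := ⟨by norm_num⟩
    show orderOf (GG.getD 0 1) = 7
    have hp' : (GG.getD 0 1) ^ 7 = 1 := hp
    apply orderOf_eq_prime hp'
    intro h1
    have h2 := pi_act 0 (by decide) 0 (by decide)
    rw [h1, one_smul] at h2
    exact absurd h2 (by decide)
  · haveI : Fact (Nat.Prime 3) := ⟨by norm_num⟩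
    show orderOf (GG.getD 1 1) = 3
    have hp' : (GG.getD 1 1) ^ 3 = 1 := hp
    apply orderOf_eq_prime hp'
    intro h1
    have h2 := pi_act 1 (by decide) 0 (by decide)
    rw [h1, one_smul] at h2
    exact absurd h2 (by decide)

theorem hgen : Subgroup.closure {g | ∃ i < D.k, g = GG.getD i 1} = ⊤ := by
  set H := Subgroup.closure {g | ∃ i < D.k, g = GG.getD i 1} with hH
  have h8 := eight_dvd H le_rfl
  have hmem : ∀ i < D.k, GG.getD i 1 ∈ H := fun i hi => Subgroup.subset_closure ⟨i, hi, rfl⟩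
  have hdvd : ∀ i < D.k, D.ords.getD i 0 ∣ Nat.card H := by
    intro i hi
    rw [← orderOf_gen i hi]
    have := orderOf_dvd_natCard (⟨GG.getD i 1, hmem i hi⟩ : H)
    rwa [Subgroup.orderOf_mk] at this
  have h7 : 7 ∣ Nat.card H := hdvd 0 (by decide)
  have h3 : 3 ∣ Nat.card H := hdvd 1 (by decide)
  have h168 : 168 ∣ Nat.card H := by
    have h56 : 56 ∣ Nat.card H :=
      Nat.Coprime.mul_dvd_of_dvd_of_dvd (by decide : Nat.Coprime 8 7) h8 h7
    exact Nat.Coprime.mul_dvd_of_dvd_of_dvd (by decide : Nat.Coprime 56 3) h56 h3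
  rw [← Subgroup.card_eq_iff_eq_top, card_P27]
  have hle : Nat.card H ≤ 168 := by
    rw [← card_P27]
    exact Subgroup.card_le_card_group H
  exact le_antisymm hle (Nat.le_of_dvd Nat.card_pos h168)

theorem card_stab : Nat.card (MulAction.stabilizer P27 (pt 0)) = 21 := by
  have h1 := MulAction.index_stabilizer (G := P27) (x := pt 0)
  have horb : MulAction.orbit P27 (pt 0) = Set.univ := by
    rw [Set.eq_univ_iff_forall]
    intro y
    obtain ⟨j, hj, rfl⟩ := pt_surj y
    obtain ⟨h, _, hact⟩ := exists_mem_closure_smul D chk_struct pt GG pi_act j hj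
    exact ⟨h, hact⟩
  rw [horb, Set.ncard_univ, Nat.card_eq_fintype_card, Fintype.card_fin] at h1
  have h2 := Subgroup.card_mul_index (MulAction.stabilizer P27 (pt 0))
  rw [h1, card_P27] at h2
  omega

/-- every stem extension of the projective group has a kernel of order at most two -/
theorem card_ker_le_two_all (Γ : Type u) [Group Γ] [Finite Γ] (σ : Γ →* P27)
    (hσ : Cfsg.IsStemExtension σ) : IsCyclic σ.ker ∧ Nat.card σ.ker ∣ 2 := by
  obtain ⟨a, ha⟩ := card_ker_eq_two_pow σ hσ (by
    intro ℓ hℓ h2 hd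
    apply exists_kills_of_exact σ hσ.1 hσ.2.1 ℓ hℓ hd
    rw [card_P27] at hd ⊢
    have h168 : (168 : ℕ) = 2 ^ 3 * 3 * 7 := by norm_num
    rw [h168] at hd
    rcases (Nat.Prime.dvd_mul hℓ).mp hd with h | h
    · rcases (Nat.Prime.dvd_mul hℓ).mp h with h | h
      · exact absurd ((Nat.prime_dvd_prime_iff_eq hℓ Nat.prime_two).mp (hℓ.dvd_of_dvd_pow h)) h2
      · have := (Nat.prime_dvd_prime_iff_eq hℓ Nat.prime_three).mp h
        subst this
        decide
    · have := (Nat.prime_dvd_prime_iff_eq hℓ (by norm_num : Nat.Prime 7)).mp h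
      subst this
      decide)
  have := card_ker_dvd_of_cert 2 1 Nat.prime_two D C chk_struct chk_cert (by decide) pt GG hgen
    pt_zero pi_act hord hrel (by rw [card_stab]; decide) Γ σ hσ a ha
  simpa using this

/-- the special linear group as a stem extension of the projective group -/
theorem exists_cover : ∃ (Γ₀ : Type) (_ : Group Γ₀) (_ : Finite Γ₀) (σ : Γ₀ →* P27),
    Cfsg.IsStemExtension σ ∧ IsCyclic σ.ker ∧ Nat.card σ.ker = 2 := by
  refine ⟨S27, inferInstance, inferInstance, QuotientGroup.mk' (Subgroup.center S27), ?_, ?_⟩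
  · refine ⟨QuotientGroup.mk'_surjective _, ?_, ?_⟩
    · rw [QuotientGroup.ker_mk']
    · rw [Cfsg.Agent.Lib.Helper2.ExcIso.SL2_perfect_of_four_le (K := ZMod 7) (by rw [ZMod.card]; norm_num)]
      exact le_top
  · have hc : Nat.card (QuotientGroup.mk' (Subgroup.center S27)).ker = 2 := by
      rw [QuotientGroup.ker_mk', card_center_SL_field (F := ZMod 7) 2 (by norm_num), ZMod.card]
      rfl
    haveI : Fact (Nat.Prime 2) := ⟨Nat.prime_two⟩
    exact ⟨isCyclic_of_prime_card hc, hc⟩

end Cfsg.Agent.Lib.Helper1.L27M
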