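import Cfsg.Agent.Lib.Helper1.M21D
import Cfsg.Agent.Lib.Helper1.MathieuMem
import Cfsg.Agent.Lib.Helper1.CodeSys6
import Cfsg.Agent.Lib.Helper1.L34D
import Cfsg.Agent.Lib.Helper1.StemZD4
import Cfsg.Agent.Lib.Helper1.StabAlt
import Cfsg.Agent.Lib.Helper1.A6UB
import Cfsg.Agent.Lib.Helper1.A6C6
import Cfsg.Agent.Lib.Helper1.Stem12
import Cfsg.Agent.Lib.Helper1.Stem14

/-!
# The group `L₃(4)` as a group of permutations of the 24 points: generators, the action on the
hyperovals of one class
-/

set_option autoImplicit false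
set_option maxRecDepth 100000

namespace Cfsg.Agent.Lib.Helper1.L34

open Cfsg Cfsg.Agent.Lib.Helper1 Cfsg.Agent.Lib.Helper1.PermCode Cfsg.Agent.Lib.Helper1.MatCode MulAction
open Cfsg.Agent.Lib.Helper9.M24 (tperm tabOK tabM24 tget pmaskF mset smul_mset mset_injOn mem_mset
  natOfPt ptOfNat natOfPt_tperm natOfPt_injective natOfPt_ptOfNat ptOfNat_natOfPt tperm_ptOfNat)
open Cfsg.Agent.Lib.Helper1.M21 (H21 card_H21 mem_H21_iff)
open Cfsg.Agent.Lib.Helper1.Stem Cfsg.Agent.Lib.Helper1.StemSA

universe u

open scoped commutatorElement Pointwise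

/-- the check of a table of an element of the group -/
def chkH21 (t : List ℕ) (c : ℕ) : Bool :=
  chkTab t c && (tget t 23 == 23) && (tget t 0 == 0) && (tget t 1 == 1)

theorem chkH21_tab {t : List ℕ} {c : ℕ} (h : chkH21 t c = true) : chkTab t c = true := by
  unfold chkH21 at h
  simp only [Bool.and_eq_true] at h
  exact h.1.1.1

theorem chkH21_mem {t : List ℕ} {c : ℕ} (h : chkH21 t c = true) : tperm t ∈ H21 := by
  unfold chkH21 at h
  simp only [Bool.and_eq_true, beq_iff_eq] at h
  obtain ⟨⟨⟨h1, h2⟩, h3⟩, h4⟩ := h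
  obtain ⟨hOK, hM, _, _⟩ := chkTab_sound h1
  rw [mem_H21_iff]
  refine ⟨Cfsg.Agent.Lib.Helper9.M24.tperm_mem hOK hM, ?_, ?_, ?_⟩
  · have := tperm_ptOfNat hOK (i := 23) (by norm_num)
    rw [h2] at this
    exact this
  · have := tperm_ptOfNat hOK (i := 0) (by norm_num)
    rw [h3] at this
    exact this
  · have := tperm_ptOfNat hOK (i := 1) (by norm_num)
    rw [h4] at this
    exact this

theorem chk_A : chkH21 tA cA = true := by decide +kernel
theorem chk_B : chkH21 tB cB = true := by decide +kernel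

/-- the generators -/
def ga : ↥H21 := ⟨tperm tA, chkH21_mem chk_A⟩
def gb : ↥H21 := ⟨tperm tB, chkH21_mem chk_B⟩

theorem phi_a : phiP H21 ga = permSysF.D cA := phiP_of_chkTab (chkH21_tab chk_A) _ _
theorem phi_b : phiP H21 gb = permSysF.D cB := phiP_of_chkTab (chkH21_tab chk_B) _ _
theorem can_a : permSysF.C cA := canon_of_chkTab (chkH21_tab chk_A)
theorem can_b : permSysF.C cB := canon_of_chkTab (chkH21_tab chk_B)

/-- the codes of the generators -/
abbrev gens : List ℕ := [cA, cB, cA]

/-- the generators -/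
abbrev GG : List ↥H21 := [ga, gb, ga]

theorem hGG : ∀ i, ∀ (h1 : i < GG.length) (h2 : i < gens.length),
    phiP H21 GG[i] = permSysF.D gens[i] :=
  hG3_of permSysF (phiP H21) phi_a phi_b phi_a

theorem hCC : ∀ c ∈ gens, permSysF.C c := hcan3_of permSysF can_a can_b can_a

theorem wv_eq (w w' : List ℕ) (h : permSysF.ev gens w = permSysF.ev gens w') :
    wordProd GG w = wordProd GG w' :=
  permSysF.eq_of_ev (phiP H21) GG gens rfl hGG hCC (phiP_injective _) w w' h

theorem wv_one (w : List ℕ) (h : permSysF.ev gens w = permSysF.c1) : wordProd GG w = 1 :=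
  permSysF.eq_one_of_ev (phiP H21) GG gens rfl hGG hCC (phiP_injective _) w h

theorem chk_struct : D.chkStruct = true := by decide +kernel

theorem chk_cert : StemZD.chkCertD D C = true := by decide +kernel

theorem pow_ok : (List.range 2).all (fun i =>
    permSysF.ev gens (List.replicate (D.ords.getD i 0) i) == permSysF.c1) = true := by decide +kernel

theorem rel_chk : relsL.all (fun w => permSysF.ev gens w.1 == permSysF.ev gens w.2) = true := by
  decide +kernel

theorem pi_ok : (List.range 2).all (fun i => (List.range 56).all (fun j =>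
    pmaskF ([tA, tB].getD i []) (DL j) == DL (D.pi i j))) = true := by
  decide +kernel

theorem dl_ok : (List.range 56).all (fun j => (List.range j).all fun j' => DL j != DL j') = true := by
  decide +kernel

theorem dl_zero : DL 0 = 8391797 := by decide +kernel

/-- the hyperovals of the first class, with the two fixed points added, in the order of the
tree -/
def pt (j : ℕ) : Finset GolayPt := mset (DL j)

theorem DL_lt (j : ℕ) : DL j < 2 ^ 24 := Nat.mod_lt _ (by norm_num)

theorem pt_zero_eq : pt 0 = mset 8391797 := by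
  unfold pt
  rw [dl_zero]

theorem pt_inj (j : ℕ) (hj : j < 56) (j' : ℕ) (hj' : j' < 56) (h : pt j = pt j') : j = j' := by
  have h0 := mset_injOn (DL_lt j) (DL_lt j') h
  have h1 := dl_ok
  rw [List.all_eq_true] at h1
  by_contra hne
  rcases Nat.lt_or_gt_of_ne hne with hlt | hlt
  · have h2 := h1 j' (List.mem_range.mpr hj')
    rw [List.all_eq_true] at h2
    have h3 := h2 j (List.mem_range.mpr hlt)
    rw [bne_iff_ne] at h3
    exact h3 h0.symm
  · have h2 := h1 j (List.mem_range.mpr hj)
    rw [List.all_eq_true] at h2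
    have h3 := h2 j' (List.mem_range.mpr hlt)
    rw [bne_iff_ne] at h3
    exact h3 h0

theorem pt_zero (j : ℕ) (hj : j < D.m) (h : pt j = pt 0) : j = 0 :=
  pt_inj j hj 0 (by norm_num) h

theorem smul_tperm {t : List ℕ} {c : ℕ} (h : chkH21 t c = true) (j : ℕ) :
    (⟨tperm t, chkH21_mem h⟩ : ↥H21) • pt j = mset (pmaskF t (DL j)) := by
  show tperm t • mset (DL j) = _
  exact smul_mset (chkTab_sound (chkH21_tab h)).1 (DL_lt j)

theorem pi_act (i : ℕ) (hi : i < D.k) (j : ℕ) (hj : j < D.m) :
    GG.getD i 1 • pt j = pt (D.pi i j) := by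
  have hi' : i < 2 := hi
  have hj' : j < 56 := hj
  have h := pi_ok
  rw [List.all_eq_true] at h
  have h1 := h i (List.mem_range.mpr hi')
  rw [List.all_eq_true] at h1
  have h2 := h1 j (List.mem_range.mpr hj')
  rw [beq_iff_eq] at h2
  interval_cases i
  · show ga • pt j = _
    rw [show ga = (⟨tperm tA, chkH21_mem chk_A⟩ : ↥H21) from rfl, smul_tperm chk_A j]
    unfold pt
    rw [← h2]; rfl
  · show gb • pt j = _
    rw [show gb = (⟨tperm tB, chkH21_mem chk_B⟩ : ↥H21) from rfl, smul_tperm chk_B j]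
    unfold pt
    rw [← h2]; rfl

theorem hodd (i : ℕ) (hi : i < D.k) :
    Odd (D.ords.getD i 0) ∧ (GG.getD i 1) ^ (D.ords.getD i 0) = 1 := by
  have hi' : i < 2 := hi
  have h := pow_ok
  rw [List.all_eq_true] at h
  have h1 := h i (List.mem_range.mpr hi')
  rw [beq_iff_eq] at h1
  have h2 := wv_one _ h1
  rw [wordProd_replicate] at h2
  refine ⟨?_, h2⟩
  interval_cases i <;> decide

theorem hrel (w : List ℕ × List ℕ) (hw : w ∈ D.rels) : wordProd GG w.1 = wordProd GG w.2 := by
  have h := rel_chk
  rw [List.all_eq_true] at h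
  have h1 := h w hw
  rw [beq_iff_eq] at h1
  exact wv_eq _ _ h1

/-- the stabilizer of the first hyperoval -/
abbrev K : Subgroup ↥H21 := MulAction.stabilizer ↥H21 (pt 0)

/-- the six points of the first hyperoval -/
def iota (a : Fin 6) : GolayPt := ptOfNat (hpL.getD a.val 0)

theorem iota_inj : Function.Injective iota := by decide

theorem iota_mem (a : Fin 6) : iota a ∈ pt 0 := by
  rw [pt_zero_eq, mem_mset]
  revert a
  decide

theorem iota_ne (a : Fin 6) : iota a ≠ none ∧ iota a ≠ some 0 := by
  revert a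
  decide

theorem exists_iota (y : GolayPt) (hy : y ∈ pt 0) (hn : y ≠ none) (h0 : y ≠ some 0) :
    ∃ a, y = iota a := by
  rw [pt_zero_eq, mem_mset] at hy
  revert y
  decide

theorem apply_none (g : ↥H21) : g.1 none = none := ((mem_H21_iff g.1).mp g.2).2.1

theorem apply_zero (g : ↥H21) : g.1 (some 0) = some 0 := ((mem_H21_iff g.1).mp g.2).2.2.1

theorem hinv (g : ↥K) (a : Fin 6) : ∃ a', g • iota a = iota a' := by
  have h1 : g.1 • pt 0 = pt 0 := mem_stabilizer_iff.mp g.2
  have h2 : g.1 • iota a ∈ g.1 • pt 0 := Finset.smul_mem_smul_finset (iota_mem a)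
  rw [h1] at h2
  have h3 : g.1 • iota a ≠ none := by
    intro h
    have h4 : g.1.1 (iota a) = g.1.1 none := by rw [apply_none]; exact h
    exact (iota_ne a).1 (g.1.1.injective h4)
  have h5 : g.1 • iota a ≠ some 0 := by
    intro h
    have h4 : g.1.1 (iota a) = g.1.1 (some 0) := by rw [apply_zero]; exact h
    exact (iota_ne a).2 (g.1.1.injective h4)
  exact exists_iota _ h2 h3 h5

/-- the action on the six points -/
noncomputable def phiK : ↥K →* Equiv.Perm (Fin 6) := StabAlt.permHom iota iota_inj hinv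

theorem chk_Ka : chkH21 tKa cKa = true := by decide +kernel

theorem chk_Kb : chkH21 tKb cKb = true := by decide +kernel

theorem mask_Ka : pmaskF tKa (DL 0) = DL 0 := by decide +kernel

theorem mask_Kb : pmaskF tKb (DL 0) = DL 0 := by decide +kernel

/-- two elements of the stabilizer -/
def ka : ↥K := ⟨⟨tperm tKa, chkH21_mem chk_Ka⟩, by
  rw [mem_stabilizer_iff, smul_tperm chk_Ka 0, mask_Ka]; rfl⟩

def kb : ↥K := ⟨⟨tperm tKb, chkH21_mem chk_Kb⟩, by
  rw [mem_stabilizer_iff, smul_tperm chk_Kb 0, mask_Kb]; rfl⟩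

theorem hp_lt (a : Fin 6) : hpL.getD a.val 0 < 24 := by
  revert a
  decide

theorem act_Ka : ∀ a : Fin 6, tget tKa (hpL.getD a.val 0) = hpL.getD (A6C6.pa a).val 0 := by decide

theorem act_Kb : ∀ a : Fin 6, tget tKb (hpL.getD a.val 0) = hpL.getD (A6C6.pb a).val 0 := by decide

theorem phi_ka : phiK ka = A6C6.pa := by
  apply StabAlt.permHom_eq iota iota_inj hinv ka A6C6.pa
  intro a
  show tperm tKa (ptOfNat (hpL.getD a.val 0)) = ptOfNat (hpL.getD (A6C6.pa a).val 0)
  rw [tperm_ptOfNat (chkTab_sound (chkH21_tab chk_Ka)).1 (hp_lt a), act_Ka a]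

theorem phi_kb : phiK kb = A6C6.pb := by
  apply StabAlt.permHom_eq iota iota_inj hinv kb A6C6.pb
  intro a
  show tperm tKb (ptOfNat (hpL.getD a.val 0)) = ptOfNat (hpL.getD (A6C6.pb a).val 0)
  rw [tperm_ptOfNat (chkTab_sound (chkH21_tab chk_Kb)).1 (hp_lt a), act_Kb a]

theorem alt_le_map : alternatingGroup (Fin 6) ≤
    (Subgroup.closure ({ka, kb} : Set ↥K)).map phiK := by
  have hgen : Subgroup.closure {g : alternatingGroup (Fin 6) | ∃ i < 2,
      g = (A6C6.gs : List (alternatingGroup (Fin 6))).getD i 1} = ⊤ := A6C6.hyp.gen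
  have h1 : Subgroup.closure {g : alternatingGroup (Fin 6) | ∃ i < 2,
      g = (A6C6.gs : List (alternatingGroup (Fin 6))).getD i 1} ≤
      ((Subgroup.closure ({ka, kb} : Set ↥K)).map phiK).comap (alternatingGroup (Fin 6)).subtype := by
    rw [Subgroup.closure_le]
    rintro g ⟨i, hi, rfl⟩
    interval_cases i
    · exact ⟨ka, Subgroup.subset_closure (by simp), phi_ka⟩
    · exact ⟨kb, Subgroup.subset_closure (by simp), phi_kb⟩
  rw [hgen] at h1
  intro x hx
  exact h1 (Subgroup.mem_top (⟨x, hx⟩ : alternatingGroup (Fin 6)))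

theorem alt_le_range : alternatingGroup (Fin 6) ≤ phiK.range := by
  refine alt_le_map.trans ?_
  rw [MonoidHom.range_eq_map]
  exact Subgroup.map_mono le_top

theorem pt_mem_orbit (j : ℕ) (hj : j < 56) : pt j ∈ MulAction.orbit ↥H21 (pt 0) := by
  induction j using Nat.strong_induction_on with
  | _ j ih =>
    by_cases h0 : j = 0
    · subst h0; exact MulAction.mem_orbit_self _
    · obtain ⟨h1, h2, h3⟩ := par_ok D chk_struct j (by omega) hj
      have h4 := pi_act _ h1 _ (show (D.par j).2 < D.m from lt_trans h2 hj)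
      rw [h3] at h4
      rw [← h4]
      exact MulAction.mem_orbit_of_mem_orbit _ (ih _ h2 (lt_trans h2 hj))

theorem card_K_le : Nat.card ↥K ≤ 360 := by
  have h1 := Subgroup.card_mul_index K
  rw [MulAction.index_stabilizer, card_H21] at h1
  have h2 : 56 ≤ (MulAction.orbit ↥H21 (pt 0)).ncard := by
    have h3 : ((Finset.range 56).image pt).card = 56 := by
      rw [Finset.card_image_of_injOn, Finset.card_range]
      intro j hj j' hj' h
      exact pt_inj j (Finset.mem_range.mp hj) j' (Finset.mem_range.mp hj') h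
    rw [← h3, ← Set.ncard_coe_finset]
    apply Set.ncard_le_ncard _ (Set.toFinite _)
    intro y hy
    rw [Finset.mem_coe, Finset.mem_image] at hy
    obtain ⟨j, hj, rfl⟩ := hy
    exact pt_mem_orbit j (Finset.mem_range.mp hj)
  by_contra hlt
  have h4 : 361 * 56 ≤ Nat.card ↥K * (MulAction.orbit ↥H21 (pt 0)).ncard :=
    Nat.mul_le_mul (by omega) h2
  omega

theorem card_alt6 : Nat.card (alternatingGroup (Fin 6)) = 360 := by
  have h := A6C6.card_alt
  exact h

theorem phiK_injective : Function.Injective phiK := by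
  have h1 : Nat.card (alternatingGroup (Fin 6)) ≤ Nat.card phiK.range :=
    Nat.le_of_dvd Nat.card_pos (Subgroup.card_dvd_of_le alt_le_range)
  have h2 : Nat.card phiK.ker * Nat.card phiK.range = Nat.card ↥K := by
    have := Subgroup.card_mul_index phiK.ker
    rw [Subgroup.index_ker] at this
    exact this
  have hk : Nat.card phiK.ker = 1 := by
    have h3 := card_K_le
    rw [card_alt6] at h1
    have hkpos : 0 < Nat.card phiK.ker := Nat.card_pos
    by_contra hne
    have h4 : 2 ≤ Nat.card phiK.ker := by omega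
    have h5 : 2 * 360 ≤ Nat.card phiK.ker * Nat.card phiK.range := Nat.mul_le_mul h4 h1
    omega
  rw [← MonoidHom.ker_eq_bot_iff]
  exact Subgroup.card_eq_one.mp hk

/-- the stabilizer of the first hyperoval is the alternating group of degree 6 -/
theorem nonempty_stabEquiv : Nonempty (↥K ≃* alternatingGroup (Fin 6)) := by
  apply StabAlt.equiv_alt_of_hom 6 phiK alt_le_range
  rw [card_alt6]
  exact card_K_le

/-- the isomorphism -/
noncomputable def stabEquiv : ↥K ≃* alternatingGroup (Fin 6) := Classical.choice nonempty_stabEquiv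

/-- the stabilizer is generated by the two elements -/
theorem closure_ka_kb : Subgroup.closure ({ka, kb} : Set ↥K) = ⊤ := by
  apply Subgroup.eq_top_of_le_card
  have h1 : Nat.card (alternatingGroup (Fin 6)) ≤
      Nat.card ((Subgroup.closure ({ka, kb} : Set ↥K)).map phiK) :=
    Nat.le_of_dvd Nat.card_pos (Subgroup.card_dvd_of_le alt_le_map)
  rw [Subgroup.card_map_of_injective phiK_injective, card_alt6] at h1
  exact card_K_le.trans h1

end Cfsg.Agent.Lib.Helper1.L34
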