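import Cfsg.Agent.Lib.Helper1.L34T
import Cfsg.Agent.Lib.Helper1.L34C3
import Cfsg.Agent.Lib.Helper1.L34C4a
import Cfsg.Agent.Lib.Helper1.L34C4b
import Cfsg.Agent.Lib.Helper1.StemLL9

/-!
# The multiplier of the group `L₃(4)`
-/

set_option autoImplicit false
set_option maxRecDepth 100000

namespace Cfsg.Agent.Lib.Helper1.L34

open Cfsg Cfsg.Agent.Lib.Helper1
open Cfsg.Agent.Lib.Helper1.M21 (H21 card_H21)
open Cfsg.Agent.Lib.Helper1.Stem Cfsg.Agent.Lib.Helper1.StemLL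

universe u

open scoped Pointwise

/-- the three cyclic covers -/
noncomputable abbrev σ3 := sig ↥H21 L34C3.L.c (EY L34C3.L (ptSub L34C3.rawHyp))
  (rhoY L34C3.L (ptSub L34C3.rawHyp))
noncomputable abbrev σa := sig ↥H21 L34C4a.L.c (EY L34C4a.L (ptSub L34C4a.rawHyp))
  (rhoY L34C4a.L (ptSub L34C4a.rawHyp))
noncomputable abbrev σb := sig ↥H21 L34C4b.L.c (EY L34C4b.L (ptSub L34C4b.rawHyp))
  (rhoY L34C4b.L (ptSub L34C4b.rawHyp))

theorem pair_1a : L34C4a.L.chkPair [1, 1, 0] [0, 1, 0, 1, 1, 1, 0, 0, 1] 1 = true := by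
  decide +kernel
theorem pair_1b : L34C4b.L.chkPair [1, 1, 0] [0, 1, 0, 1, 1, 1, 0, 0, 1] 0 = true := by
  decide +kernel
theorem pair_2a : L34C4a.L.chkPair [1, 0, 1, 1, 1, 1, 0, 0, 0] [1, 1, 1, 1, 0, 0, 0, 1, 0] 0 = true := by
  decide +kernel
theorem pair_2b : L34C4b.L.chkPair [1, 0, 1, 1, 1, 1, 0, 0, 0] [1, 1, 1, 1, 0, 0, 0, 1, 0] 1 = true := by
  decide +kernel

/-- the cover with kernel of order 16 -/
theorem stem_ab : Cfsg.IsStemExtension (fibreHom σa σb) :=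
  fibre_isStem L34C4a.L L34C4b.L (ptSub L34C4a.rawHyp) (ptSub L34C4b.rawHyp) GG L34C4a.hyp
    L34C4b.hyp L34C4a.L_chk L34C4b.L_chk _ _ _ _ pair_1a pair_1b pair_2a pair_2b

theorem card_ker_ab : Nat.card (fibreHom σa σb).ker = 16 := by
  rw [Nat.card_congr (kerFibreEquiv σa σb).toEquiv, Nat.card_prod, L34C4a.cover.2.2,
    L34C4b.cover.2.2]

/-- the cover with kernel of order 48 -/
theorem stem_all : Cfsg.IsStemExtension (fibreHom σ3 (fibreHom σa σb)) := by
  apply fibreHom_isStem σ3 (fibreHom σa σb) L34C3.cover.1 stem_ab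
  rw [L34C3.cover.2.2, card_ker_ab]
  norm_num

/-- the kernel of the cover -/
theorem nonempty_kerEquiv : Nonempty ((fibreHom σ3 (fibreHom σa σb)).ker ≃*
    Multiplicative (ZMod 3 × ZMod 4 × ZMod 4)) := by
  have e1 := kerFibreEquiv σ3 (fibreHom σa σb)
  have e2 := kerFibreEquiv σa σb
  have c3 : Multiplicative (ZMod 3) ≃* σ3.ker := by
    have := zmodCyclicMulEquiv L34C3.cover.2.1
    rwa [L34C3.cover.2.2] at this
  have ca : Multiplicative (ZMod 4) ≃* σa.ker := by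
    have := zmodCyclicMulEquiv L34C4a.cover.2.1
    rwa [L34C4a.cover.2.2] at this
  have cb : Multiplicative (ZMod 4) ≃* σb.ker := by
    have := zmodCyclicMulEquiv L34C4b.cover.2.1
    rwa [L34C4b.cover.2.2] at this
  have e3 : (fibreHom σ3 (fibreHom σa σb)).ker ≃*
      Multiplicative (ZMod 3) × (Multiplicative (ZMod 4) × Multiplicative (ZMod 4)) :=
    e1.trans (MulEquiv.prodCongr c3.symm (e2.trans (MulEquiv.prodCongr ca.symm cb.symm)))
  have e4 : Multiplicative (ZMod 3 × ZMod 4 × ZMod 4) ≃*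
      Multiplicative (ZMod 3) × (Multiplicative (ZMod 4) × Multiplicative (ZMod 4)) :=
    MulEquiv.trans (MulEquiv.prodMultiplicative _ _)
      (MulEquiv.prodCongr (MulEquiv.refl _) (MulEquiv.prodMultiplicative _ _))
  exact ⟨e3.trans e4.symm⟩

theorem card_target : Nat.card (Multiplicative (ZMod 3 × ZMod 4 × ZMod 4)) = 48 := by
  show Nat.card (ZMod 3 × ZMod 4 × ZMod 4) = 48
  rw [Nat.card_prod, Nat.card_prod, Nat.card_eq_fintype_card, Nat.card_eq_fintype_card, ZMod.card,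
    ZMod.card]

/-- the multiplier of a group isomorphic to `L₃(4)` -/
theorem main {G : Type u} [Group G] (f : ↥H21 ≃* G) :
    Cfsg.HasSchurMultiplier G (Multiplicative (ZMod 3 × ZMod 4 × ZMod 4)) := by
  obtain ⟨e⟩ := nonempty_kerEquiv
  apply hasSchurMultiplier_of_cover_of_bound f commutator_H21 _ _ stem_all e
  intro Γ' _ _ σ' hσ'
  rw [card_target]
  exact Nat.le_of_dvd (by norm_num) (hub Γ' σ' hσ')

end Cfsg.Agent.Lib.Helper1.L34
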