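import Cfsg.Agent.Lib.Helper1.L34U
import Cfsg.Agent.S0249

/-!
# The group `L₃(4)` as a group of permutations of the 24 points: simplicity
-/

set_option autoImplicit false

namespace Cfsg.Agent.Lib.Helper1.L34

open Cfsg Cfsg.Agent.Lib.Helper1
open Cfsg.Agent.Lib.Helper1.M21 (H21 card_H21 isoF4)

open scoped commutatorElement

instance simple_H21 : IsSimpleGroup ↥H21 := by
  haveI : IsSimpleGroup (Matrix.ProjectiveSpecialLinearGroup (Fin 3) Hexa.F4) :=
    Cfsg.Agent.S0249.result 3 le_rfl
  haveI : Nontrivial ↥H21 := by
    rw [← Finite.one_lt_card_iff_nontrivial, card_H21]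
    norm_num
  exact IsSimpleGroup.isSimpleGroup_of_surjective isoF4.toMonoidHom isoF4.surjective

theorem commutator_H21 : commutator ↥H21 = ⊤ := by
  rcases simple_H21.eq_bot_or_eq_top_of_normal (commutator ↥H21) inferInstance with h | h
  · exfalso
    -- the group would be commutative, hence of prime order
    have hcomm : ∀ a b : ↥H21, a * b = b * a := by
      intro a b
      have h1 : ⁅a, b⁆ ∈ commutator ↥H21 :=
        Subgroup.commutator_mem_commutator (Subgroup.mem_top a) (Subgroup.mem_top b)
      rw [h, Subgroup.mem_bot, commutatorElement_eq_one_iff_mul_comm] at h1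
      exact h1
    letI : CommGroup ↥H21 := { (inferInstance : Group ↥H21) with mul_comm := hcomm }
    have hp := IsSimpleGroup.prime_card (α := ↥H21)
    rw [card_H21] at hp
    norm_num at hp
  · exact h

end Cfsg.Agent.Lib.Helper1.L34
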