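import Mathlib

set_option autoImplicit false

namespace Cfsg.Agent.Lib.Helper1.L34

/-- two commuting elements of order three -/
def tX3 : List ℕ := [0, 1, 9, 20, 4, 15, 18, 7, 5, 14, 22, 11, 21, 6, 2, 8, 12, 10, 13, 3, 19, 16, 17, 23]
def tY3 : List ℕ := [0, 1, 9, 10, 11, 20, 6, 4, 3, 14, 8, 7, 16, 13, 2, 19, 21, 15, 18, 17, 22, 12, 5, 23]
def cX3 : ℕ := 978123141425034983733578011039638560
def cY3 : ℕ := 962388355515964052545358230073975840
def L9 : List ℕ := [984818244535754528103549039458486304, 978123141425034983733578011039638560, 968854745484970478004556677593544736, 962388355515964052545358230073975840, 975727559016456239855128454291470368, 966429808446933003731480209331357728, 982000098867727359813813468306618400, 980552157785649224654500934303516704, 960139053314400635172439479543112736]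

end Cfsg.Agent.Lib.Helper1.L34
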