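import Cfsg.Agent.Lib.Helper1.PermCode1

/-!
# A kernel-fast composition on the codes of transformations of `Fin 24`
-/

set_option autoImplicit false
set_option maxRecDepth 100000

namespace Cfsg.Agent.Lib.Helper1.PermCode

open Cfsg.Agent.Lib.Helper1.MatCode

/-- Horner form of the composition, by recursion -/
def pmuR (a b : ℕ) : ℕ → ℕ → ℕ
  | 0, acc => acc
  | i + 1, acc => pmuR a b i (Nat.add (Nat.shiftLeft acc 5)
      (Nat.mod (Nat.land (Nat.shiftRight a (Nat.mul 5 (Nat.mod (Nat.land (Nat.shiftRight b (Nat.mul 5 i)) 31) 24))) 31) 24))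

/-- the unrolled composition -/
def pmu2 (a b : ℕ) : ℕ := Nat.add (Nat.shiftLeft (Nat.add (Nat.shiftLeft (Nat.add (Nat.shiftLeft (Nat.add (Nat.shiftLeft (Nat.add (Nat.shiftLeft (Nat.add (Nat.shiftLeft (Nat.add (Nat.shiftLeft (Nat.add (Nat.shiftLeft (Nat.add (Nat.shiftLeft (Nat.add (Nat.shiftLeft (Nat.add (Nat.shiftLeft (Nat.add (Nat.shiftLeft (Nat.add (Nat.shiftLeft (Nat.add (Nat.shiftLeft (Nat.add (Nat.shiftLeft (Nat.add (Nat.shiftLeft (Nat.add (Nat.shiftLeft (Nat.add (Nat.shiftLeft (Nat.add (Nat.shiftLeft (Nat.add (Nat.shiftLeft (Nat.add (Nat.shiftLeft (Nat.add (Nat.shiftLeft (Nat.add (Nat.shiftLeft (Nat.add (Nat.shiftLeft (0) 5) (Nat.mod (Nat.land (Nat.shiftRight a (Nat.mul 5 (Nat.mod (Nat.land (Nat.shiftRight b (Nat.mul 5 23)) 31) 24))) 31) 24)) 5) (Nat.mod (Nat.land (Nat.shiftRight a (Nat.mul 5 (Nat.mod (Nat.land (Nat.shiftRight b (Nat.mul 5 22)) 31) 24)))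 31) 24)) 5) (Nat.mod (Nat.land (Nat.shiftRight a (Nat.mul 5 (Nat.mod (Nat.land (Nat.shiftRight b (Nat.mul 5 21)) 31) 24))) 31) 24)) 5) (Nat.mod (Nat.land (Nat.shiftRight a (Nat.mul 5 (Nat.mod (Nat.land (Nat.shiftRight b (Nat.mul 5 20)) 31) 24))) 31) 24)) 5) (Nat.mod (Nat.land (Nat.shiftRight a (Nat.mul 5 (Nat.mod (Nat.land (Nat.shiftRight b (Nat.mul 5 19)) 31) 24))) 31) 24)) 5) (Nat.mod (Nat.land (Nat.shiftRight a (Nat.mul 5 (Nat.mod (Nat.land (Nat.shiftRight b (Nat.mul 5 18)) 31) 24))) 31) 24)) 5) (Nat.mod (Nat.land (Nat.shiftRight a (Nat.mul 5 (Nat.mod (Nat.land (Nat.shiftRight b (Nat.mul 5 17)) 31) 24))) 31) 24)) 5) (Nat.mod (Nat.land (Nat.shiftRight a (Nat.mul 5 (Nat.mod (Nat.land (Nat.shiftRight b (Nat.mul 5 16)) 31) 24))) 31) 24)) 5) (Nat.mod (Nat.land (Nat.shiftRight a (Nat.mul 5 (Nat.mod (Nat.land (Nat.shiftRight b (Nat.mul 5 15)) 31) 24))) 31) 24)) 5)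 (Nat.mod (Nat.land (Nat.shiftRight a (Nat.mul 5 (Nat.mod (Nat.land (Nat.shiftRight b (Nat.mul 5 14)) 31) 24))) 31) 24)) 5) (Nat.mod (Nat.land (Nat.shiftRight a (Nat.mul 5 (Nat.mod (Nat.land (Nat.shiftRight b (Nat.mul 5 13)) 31) 24))) 31) 24)) 5) (Nat.mod (Nat.land (Nat.shiftRight a (Nat.mul 5 (Nat.mod (Nat.land (Nat.shiftRight b (Nat.mul 5 12)) 31) 24))) 31) 24)) 5) (Nat.mod (Nat.land (Nat.shiftRight a (Nat.mul 5 (Nat.mod (Nat.land (Nat.shiftRight b (Nat.mul 5 11)) 31) 24))) 31) 24)) 5) (Nat.mod (Nat.land (Nat.shiftRight a (Nat.mul 5 (Nat.mod (Nat.land (Nat.shiftRight b (Nat.mul 5 10)) 31) 24))) 31) 24)) 5) (Nat.mod (Nat.land (Nat.shiftRight a (Nat.mul 5 (Nat.mod (Nat.land (Nat.shiftRight b (Nat.mul 5 9)) 31) 24))) 31) 24)) 5) (Nat.mod (Nat.land (Nat.shiftRight a (Nat.mul 5 (Nat.mod (Nat.land (Nat.shiftRight b (Nat.mul 5 8)) 31) 24))) 31) 24)) 5) (Nat.mod (Nat.land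 (Nat.shiftRight a (Nat.mul 5 (Nat.mod (Nat.land (Nat.shiftRight b (Nat.mul 5 7)) 31) 24))) 31) 24)) 5) (Nat.mod (Nat.land (Nat.shiftRight a (Nat.mul 5 (Nat.mod (Nat.land (Nat.shiftRight b (Nat.mul 5 6)) 31) 24))) 31) 24)) 5) (Nat.mod (Nat.land (Nat.shiftRight a (Nat.mul 5 (Nat.mod (Nat.land (Nat.shiftRight b (Nat.mul 5 5)) 31) 24))) 31) 24)) 5) (Nat.mod (Nat.land (Nat.shiftRight a (Nat.mul 5 (Nat.mod (Nat.land (Nat.shiftRight b (Nat.mul 5 4)) 31) 24))) 31) 24)) 5) (Nat.mod (Nat.land (Nat.shiftRight a (Nat.mul 5 (Nat.mod (Nat.land (Nat.shiftRight b (Nat.mul 5 3)) 31) 24))) 31) 24)) 5) (Nat.mod (Nat.land (Nat.shiftRight a (Nat.mul 5 (Nat.mod (Nat.land (Nat.shiftRight b (Nat.mul 5 2)) 31) 24))) 31) 24)) 5) (Nat.mod (Nat.land (Nat.shiftRight a (Nat.mul 5 (Nat.mod (Nat.land (Nat.shiftRight b (Nat.mul 5 1)) 31) 24))) 31) 24)) 5) (Nat.mod (Nat.land (Nat.shiftRight a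 (Nat.mul 5 (Nat.mod (Nat.land (Nat.shiftRight b (Nat.mul 5 0)) 31) 24))) 31) 24)

theorem pmu2_eq_pmuR (a b : ℕ) : pmu2 a b = pmuR a b 24 0 := rfl

theorem land31 (x : ℕ) : Nat.land x 31 = x % 32 := by
  show x &&& 31 = x % 32
  exact Nat.and_two_pow_sub_one_eq_mod x 5

theorem shr5 (x i : ℕ) : Nat.shiftRight x (Nat.mul 5 i) = x / 32 ^ i := by
  show x >>> (5 * i) = x / 32 ^ i
  rw [Nat.shiftRight_eq_div_pow, pow_mul]
  norm_num

theorem prim_dig (x i : ℕ) : Nat.land (Nat.shiftRight x (Nat.mul 5 i)) 31 = pd x i := by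
  rw [land31, shr5]
  rfl

theorem pmuR_eq (a b : ℕ) (i acc : ℕ) :
    pmuR a b i acc = acc * 32 ^ i + ∑ k ∈ Finset.range i, (pd a (pd b k % 24) % 24) * 32 ^ k := by
  induction i generalizing acc with
  | zero => simp [pmuR]
  | succ i ih =>
    rw [pmuR, ih, prim_dig, prim_dig, Finset.sum_range_succ]
    show (acc <<< 5 + pd a (pd b i % 24) % 24) * 32 ^ i + _ = _
    rw [Nat.shiftLeft_eq, pow_succ]
    ring

theorem pmu2_eq (a b : ℕ) : pmu2 a b = pmu a b := by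
  rw [pmu2_eq_pmuR, pmuR_eq, zero_mul, zero_add]
  unfold pmu
  rw [sumTo_eq]

theorem PD_pmu2 (a b : ℕ) : PD (pmu2 a b) = PD a * PD b := by
  rw [pmu2_eq]; exact PD_pmu a b

theorem canon_pmu2 (a b : ℕ) : PCanon (pmu2 a b) := by
  rw [pmu2_eq]; exact canon_pmu a b

end Cfsg.Agent.Lib.Helper1.PermCode
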