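import Cfsg.Agent.Lib.Helper1.CodeSys5
import Cfsg.Agent.Lib.Helper1.PermCode2
import Cfsg.Agent.Lib.Helper1.M24A
import Cfsg.Agent.Lib.Helper9.TabPerm

/-!
# The coded monoid of the transformations of the 24 points, and subgroups of permutations
-/

set_option autoImplicit false

namespace Cfsg.Agent.Lib.Helper1.PermCode

open Cfsg Cfsg.Agent.Lib.Helper1 Cfsg.Agent.Lib.Helper1.M24 Cfsg.Agent.Lib.Helper1.MatCode
open Cfsg.Agent.Lib.Helper9.M24 (tperm tabOK tget natOfPt_tperm natOfPt_eq_gIdx)

/-- the coded monoid of the transformations of `Fin 24` -/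
def permSys : CodeSys (Function.End (Fin 24)) where
  D := PD
  mu := pmu2
  C := PCanon
  c1 := pc1
  hmu := fun a b _ => PD_pmu2 a b
  hC := canon_pmu2
  D_c1 := PD_pc1
  C_c1 := canon_pc1
  inj := fun _ _ ha hb h => PD_inj ha hb h
  CB := pcanonB
  hCB := fun _ h => canon_of_pcanonB h

/-- the action of a permutation of the points on the indices -/
def phi : P24 →* Function.End (Fin 24) where
  toFun g := fun i => ⟨gIdx (g (gUnidx i)), gIdx_lt _⟩
  map_one' := by
    funext i
    apply Fin.ext
    show gIdx (gUnidx i) = i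
    exact gIdx_gUnidx i i.2
  map_mul' := by
    intro g g'
    funext i
    apply Fin.ext
    show gIdx ((g * g') (gUnidx i)) = gIdx (g (gUnidx (gIdx (g' (gUnidx i)))))
    rw [gUnidx_gIdx, Equiv.Perm.mul_apply]

theorem phi_apply (g : P24) (i : Fin 24) : ((phi g) i : ℕ) = gIdx (g (gUnidx i)) := rfl

theorem gIdx_injective : Function.Injective gIdx := by
  intro x y h
  rw [← gUnidx_gIdx x, ← gUnidx_gIdx y, h]

theorem phi_injective : Function.Injective phi := by
  intro g g' h
  apply Equiv.Perm.ext
  intro x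
  have h1 := congrArg (fun f : Function.End (Fin 24) => ((f ⟨gIdx x, gIdx_lt x⟩ : Fin 24) : ℕ)) h
  have h2 : gIdx (g (gUnidx (gIdx x))) = gIdx (g' (gUnidx (gIdx x))) := h1
  rw [gUnidx_gIdx] at h2
  exact gIdx_injective h2

/-- the restriction to a subgroup -/
def phiP (G : Subgroup P24) : ↥G →* Function.End (Fin 24) := phi.comp G.subtype

theorem phiP_apply (G : Subgroup P24) (g : ↥G) : phiP G g = phi g.1 := rfl

theorem phiP_injective (G : Subgroup P24) : Function.Injective (phiP G) := by
  intro g g' h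
  exact Subtype.ext (phi_injective h)

/-- the code `c` describes the table `t` -/
def tabCode (t : List ℕ) (c : ℕ) : Bool := (List.range 24).all (fun i => tget t i == pd c i % 24)

theorem phi_tperm {t : List ℕ} (hOK : tabOK t = true) {c : ℕ} (hc : tabCode t c = true) :
    phi (tperm t) = PD c := by
  funext i
  apply Fin.ext
  show gIdx (tperm t (gUnidx i)) = pd c i % 24
  unfold tabCode at hc
  rw [List.all_eq_true] at hc
  have h1 := hc i (List.mem_range.mpr i.2)
  rw [beq_iff_eq] at h1
  rw [← h1, ← natOfPt_eq_gIdx, natOfPt_tperm hOK, natOfPt_eq_gIdx, gIdx_gUnidx i i.2]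

/-- a subgroup whose order is a multiple of the order of the group is the whole group -/
theorem eq_top_of_card_dvd {Γ : Type*} [Group Γ] [Finite Γ] (H : Subgroup Γ)
    (h : Nat.card Γ ∣ Nat.card H) : H = ⊤ := by
  apply Subgroup.eq_top_of_le_card
  exact Nat.le_of_dvd Nat.card_pos h

theorem wordProd_mem_closure {Γ : Type*} [Group Γ] (G : List Γ) (w : List ℕ) :
    wordProd G w ∈ Subgroup.closure {g | g ∈ G} := by
  induction w with
  | nil => rw [wordProd_nil]; exact Subgroup.one_mem _
  | cons i w ih =>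
    rw [wordProd_cons]
    refine Subgroup.mul_mem _ ?_ ih
    by_cases hi : i < G.length
    · rw [List.getD_eq_getElem _ _ hi]
      exact Subgroup.subset_closure (List.getElem_mem hi)
    · rw [List.getD_eq_default _ _ (by omega)]
      exact Subgroup.one_mem _

theorem subW_le_closure {Γ : Type*} [Group Γ] (G : List Γ) (ws : List (List ℕ)) :
    CodeSys.subW G ws ≤ Subgroup.closure {g | g ∈ G} := by
  unfold CodeSys.subW
  rw [Subgroup.closure_le]
  rintro g ⟨w, _, rfl⟩
  exact wordProd_mem_closure G w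

theorem hG3_of {M : Type*} [Monoid M] (S : CodeSys M) {Γ : Type*} [Group Γ] (φ : Γ →* M)
    {p h v : Γ} {cp ch cv : ℕ} (hp : φ p = S.D cp) (hh : φ h = S.D ch) (hv : φ v = S.D cv) :
    ∀ i, ∀ (h1 : i < [p, h, v].length) (h2 : i < [cp, ch, cv].length),
    φ [p, h, v][i] = S.D [cp, ch, cv][i] := by
  intro i h1 h2
  have hi : i < 3 := h1
  interval_cases i
  · exact hp
  · exact hh
  · exact hv

theorem hcan3_of {M : Type*} [Monoid M] (S : CodeSys M) {cp ch cv : ℕ} (hcp : S.C cp) (hch : S.C ch)
    (hcv : S.C cv) : ∀ c ∈ [cp, ch, cv], S.C c := by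
  intro c hc
  simp only [List.mem_cons, List.not_mem_nil, or_false] at hc
  rcases hc with rfl | rfl | rfl
  · exact hcp
  · exact hch
  · exact hcv

theorem set3_eq {Γ : Type*} (p h v : Γ) : ({p, h, v} : Set Γ) = {g | g ∈ [p, h, v]} := by
  ext g
  simp

end Cfsg.Agent.Lib.Helper1.PermCode
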