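import Mathlib
import Cfsg.Agent.Lib.Helper1.CodeSys1
import Cfsg.Agent.Lib.Helper1.PermSys
import Cfsg.Agent.Lib.Helper1.Stem5

set_option autoImplicit false

/-! Words for the subgroup generated by two elements. -/

namespace Cfsg.Agent.Lib.Helper1.Stem

open Cfsg.Agent.Lib.Helper1.MatCode Cfsg.Agent.Lib.Helper1

/-- the words `wa ^ (t % m) ++ wb ^ (t / m)` for `0 < t < N` -/
def pairWords (wa wb : List ℕ) (m N : ℕ) : List (List ℕ) :=
  (List.range N).tail.map
    (fun t => (List.replicate (t % m) wa).flatten ++ (List.replicate (t / m) wb).flatten)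

theorem wordProd_replicate_flatten {Γ : Type*} [Group Γ] (G : List Γ) (w : List ℕ) (i : ℕ) :
    wordProd G (List.replicate i w).flatten = wordProd G w ^ i := by
  induction i with
  | zero => simp [wordProd_nil]
  | succ i ih =>
    rw [List.replicate_succ, List.flatten_cons, wordProd_append, ih, pow_succ']

theorem subW_pairWords_le {Γ : Type*} [Group Γ] (G : List Γ) (wa wb : List ℕ) (m N : ℕ) :
    CodeSys.subW G (pairWords wa wb m N) ≤
      Subgroup.closure {wordProd G wa, wordProd G wb} := by
  unfold CodeSys.subW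
  rw [Subgroup.closure_le]
  rintro g ⟨w, hw, rfl⟩
  unfold pairWords at hw
  rw [List.mem_map] at hw
  obtain ⟨t, _, rfl⟩ := hw
  rw [wordProd_append, wordProd_replicate_flatten, wordProd_replicate_flatten]
  exact Subgroup.mul_mem _
    (Subgroup.pow_mem _ (Subgroup.subset_closure (by simp)) _)
    (Subgroup.pow_mem _ (Subgroup.subset_closure (by simp)) _)

/-- the index of a subgroup containing a subgroup of order `q` is prime to `ℓ` as soon as
`|G| / q` is -/
theorem not_dvd_index_of_le {Γ : Type*} [Group Γ] [Finite Γ] (H K : Subgroup Γ) (hle : H ≤ K)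
    (ℓ q r : ℕ) (hH : Nat.card H = q) (hG : Nat.card Γ = q * r) (hq : 0 < q) (hr : ¬ ℓ ∣ r) :
    ¬ ℓ ∣ K.index := by
  intro h
  apply hr
  have h1 := Subgroup.card_mul_index K
  have h2 := Subgroup.card_dvd_of_le hle
  rw [hH] at h2
  obtain ⟨c, hc⟩ := h2
  rw [hc, hG, mul_assoc] at h1
  have h3 : c * K.index = r := Nat.eq_of_mul_eq_mul_left hq h1
  rw [← h3]
  exact Dvd.dvd.mul_left h c

end Cfsg.Agent.Lib.Helper1.Stem
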