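import Cfsg.Agent.Lib.Helper1.L34S
import Cfsg.Agent.Lib.Helper1.L34TD
import Cfsg.Agent.Lib.Helper1.Stem6
import Cfsg.Agent.Lib.Helper1.Stem17
import Cfsg.Agent.Lib.Helper1.Stem21

/-!
# The stem extensions of the group `L₃(4)`: the bound for the orders of the kernels
-/

set_option autoImplicit false
set_option maxRecDepth 100000

namespace Cfsg.Agent.Lib.Helper1.L34

open Cfsg Cfsg.Agent.Lib.Helper1 Cfsg.Agent.Lib.Helper1.PermCode Cfsg.Agent.Lib.Helper1.MatCode MulAction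
open Cfsg.Agent.Lib.Helper9.M24 (tperm tabOK tabM24 tget pmaskF)
open Cfsg.Agent.Lib.Helper1.M21 (H21 card_H21)
open Cfsg.Agent.Lib.Helper1.Stem Cfsg.Agent.Lib.Helper1.StemSA

universe u

open scoped commutatorElement Pointwise

theorem chk_X3 : chkH21 tX3 cX3 = true := by decide +kernel
theorem chk_Y3 : chkH21 tY3 cY3 = true := by decide +kernel

/-- generators of a Sylow 3-subgroup -/
def g3x : ↥H21 := ⟨tperm tX3, chkH21_mem chk_X3⟩
def g3y : ↥H21 := ⟨tperm tY3, chkH21_mem chk_Y3⟩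

/-- the codes -/
abbrev gens3 : List ℕ := [cX3, cY3, cX3]

/-- the elements -/
abbrev GG3 : List ↥H21 := [g3x, g3y, g3x]

theorem hGG3 : ∀ i, ∀ (h1 : i < GG3.length) (h2 : i < gens3.length),
    phiP H21 GG3[i] = permSysF.D gens3[i] :=
  hG3_of permSysF (phiP H21) (phiP_of_chkTab (chkH21_tab chk_X3) _ _)
    (phiP_of_chkTab (chkH21_tab chk_Y3) _ _) (phiP_of_chkTab (chkH21_tab chk_X3) _ _)

theorem hCC3 : ∀ c ∈ gens3, permSysF.C c :=
  hcan3_of permSysF (canon_of_chkTab (chkH21_tab chk_X3)) (canon_of_chkTab (chkH21_tab chk_Y3))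
    (canon_of_chkTab (chkH21_tab chk_X3))

theorem w3_eq (w w' : List ℕ) (h : permSysF.ev gens3 w = permSysF.ev gens3 w') :
    wordProd GG3 w = wordProd GG3 w' :=
  permSysF.eq_of_ev (phiP H21) GG3 gens3 rfl hGG3 hCC3 (phiP_injective _) w w' h

theorem w3_one (w : List ℕ) (h : permSysF.ev gens3 w = permSysF.c1) : wordProd GG3 w = 1 :=
  permSysF.eq_one_of_ev (phiP H21) GG3 gens3 rfl hGG3 hCC3 (phiP_injective _) w h

theorem sub_9 : permSysF.subChk gens3 (pairWords [0] [1] 3 9) L9 = true := by decide +kernel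
theorem len_9 : (pairWords [0] [1] 3 9).length + 1 = 9 := by decide +kernel
theorem r_xy : permSysF.ev gens3 [0, 1] = permSysF.ev gens3 [1, 0] := by decide +kernel
theorem r_x3 : permSysF.ev gens3 [0, 0, 0] = permSysF.c1 := by decide +kernel

theorem wp0 : wordProd GG3 [0] = g3x := by simp [wordProd_cons, wordProd_nil]
theorem wp1 : wordProd GG3 [1] = g3y := by simp [wordProd_cons, wordProd_nil]

theorem g3_comm : g3x * g3y = g3y * g3x := by
  have := w3_eq _ _ r_xy
  simpa [wordProd_cons, wordProd_nil] using this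

theorem g3x_pow : g3x ^ 3 = 1 := by
  have := w3_one _ r_x3
  simpa [wordProd_cons, wordProd_nil, pow_succ, mul_assoc] using this

theorem index_three : ¬ 3 ∣ (Subgroup.closure ({g3x, g3y} : Set ↥H21)).index := by
  have hle := subW_pairWords_le GG3 [0] [1] 3 9
  rw [wp0, wp1] at hle
  apply not_dvd_index_of_le _ _ hle 3 9 2240
  · rw [permSysF.card_subW (phiP H21) GG3 gens3 rfl hGG3 hCC3 (phiP_injective _) _ L9 sub_9,
      len_9]
  · rw [card_H21]
  · norm_num
  · norm_num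

/-- the kernels that are 3-groups -/
theorem three_part {Γ : Type*} [Group Γ] [Finite Γ] (σ : Γ →* ↥H21)
    (hσ : Cfsg.IsStemExtension σ) (hk : IsPGroup 3 σ.ker) :
    IsCyclic σ.ker ∧ Nat.card σ.ker ∣ 3 := by
  haveI : Fact (Nat.Prime 3) := ⟨Nat.prime_three⟩
  obtain ⟨hc, hd⟩ := cyclic_of_commuting_pair σ hσ 3 hk _ index_three g3x g3y g3_comm le_rfl
  exact ⟨hc, hd.trans (orderOf_dvd_of_pow_eq_one g3x_pow)⟩

theorem sq_chk : (List.range 142).all
    (fun ℓ => !(20160 % (ℓ * ℓ) == 0) || (24 % ℓ == 0)) = true := by decide +kernel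

theorem sq_dvd (ℓ : ℕ) (h : ℓ * ℓ ∣ 20160) : ℓ ∣ 24 := by
  have hlt : ℓ < 142 := by
    by_contra hge
    have h1 : 142 * 142 ≤ ℓ * ℓ := Nat.mul_le_mul (by omega) (by omega)
    have h2 := Nat.le_of_dvd (by norm_num) h
    omega
  have h1 := sq_chk
  rw [List.all_eq_true] at h1
  have h2 := h1 ℓ (List.mem_range.mpr hlt)
  rw [Bool.or_eq_true, Bool.not_eq_true', beq_eq_false_iff_ne, beq_iff_eq] at h2
  rcases h2 with h2 | h2
  · exact absurd (Nat.mod_eq_zero_of_dvd h) h2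
  · exact Nat.dvd_of_mod_eq_zero h2

theorem not_sq_dvd (p : ℕ) (hp : p.Prime) (h2 : p ≠ 2) (h3 : p ≠ 3) : ¬ p * p ∣ 20160 := by
  intro h
  have h24 := sq_dvd p h
  have e : (24 : ℕ) = 2 ^ 3 * 3 := by norm_num
  rw [e] at h24
  rcases (Nat.Prime.dvd_mul hp).mp h24 with h | h
  · exact h2 ((Nat.prime_dvd_prime_iff_eq hp Nat.prime_two).mp (hp.dvd_of_dvd_pow h))
  · exact h3 ((Nat.prime_dvd_prime_iff_eq hp Nat.prime_three).mp h)

/-- the kernel of a stem extension has order dividing 48 -/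
theorem hub (Γ : Type u) [Group Γ] [Finite Γ] (σ : Γ →* ↥H21)
    (hσ : Cfsg.IsStemExtension σ) : Nat.card σ.ker ∣ 48 := by
  apply card_dvd_of_primary σ 48 (by norm_num) ?_ hσ
  intro p hp Γ' _ _ σ' hσ' hk
  by_cases h2 : p = 2
  · subst h2
    have hle := card_ker_le_sixteen Γ' σ' hσ' hk
    obtain ⟨a, ha⟩ := IsPGroup.iff_card.mp hk
    rw [ha] at hle ⊢
    have ha4 : a ≤ 4 := by
      by_contra hlt
      have : 2 ^ 5 ≤ 2 ^ a := Nat.pow_le_pow_right (by norm_num) (by omega)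
      omega
    exact (pow_dvd_pow 2 ha4).trans (by norm_num)
  by_cases h3 : p = 3
  · subst h3
    obtain ⟨_, hd⟩ := three_part σ' hσ' hk
    exact hd.trans (by norm_num)
  · have h1 : Nat.card σ'.ker = 1 := by
      apply card_ker_eq_one_of_not_sq_dvd σ' hσ' p hk
      rw [card_H21]
      exact not_sq_dvd p hp.out h2 h3
    rw [h1]; exact one_dvd _

end Cfsg.Agent.Lib.Helper1.L34
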