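import Cfsg.Agent.Lib.Helper1.L34G
import Cfsg.Agent.Lib.Helper1.StemZB4

/-!
# The group `L₃(4)`: generation, and the bound for the kernels that are 2-groups
-/

set_option autoImplicit false
set_option maxRecDepth 100000

namespace Cfsg.Agent.Lib.Helper1.L34

open Cfsg Cfsg.Agent.Lib.Helper1 Cfsg.Agent.Lib.Helper1.PermCode Cfsg.Agent.Lib.Helper1.MatCode MulAction
open Cfsg.Agent.Lib.Helper9.M24 (tperm tabOK tabM24 tget pmaskF mset smul_mset mset_injOn mem_mset)
open Cfsg.Agent.Lib.Helper1.M21 (H21 card_H21 mem_H21_iff)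
open Cfsg.Agent.Lib.Helper1.Stem Cfsg.Agent.Lib.Helper1.StemSA

universe u

open scoped commutatorElement Pointwise

theorem ev_Ka : permSysF.ev gens wKa = cKa := by decide +kernel

theorem ev_Kb : permSysF.ev gens wKb = cKb := by decide +kernel

theorem ka_eq : ka.1 = wordProd GG wKa := by
  apply phiP_injective
  rw [permSysF.phi_wordProd (phiP H21) GG gens rfl hGG hCC, ev_Ka]
  exact phiP_of_chkTab (chkH21_tab chk_Ka) _ _

theorem kb_eq : kb.1 = wordProd GG wKb := by
  apply phiP_injective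
  rw [permSysF.phi_wordProd (phiP H21) GG gens rfl hGG hCC, ev_Kb]
  exact phiP_of_chkTab (chkH21_tab chk_Kb) _ _

theorem card_K : Nat.card ↥K = 360 := by
  rw [Nat.card_congr stabEquiv.toEquiv]
  exact card_alt6

theorem orbit_eq : MulAction.orbit ↥H21 (pt 0) = ↑((Finset.range 56).image pt) := by
  have h3 : ((Finset.range 56).image pt).card = 56 := by
    rw [Finset.card_image_of_injOn, Finset.card_range]
    intro j hj j' hj' h
    exact pt_inj j (Finset.mem_range.mp hj) j' (Finset.mem_range.mp hj') h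
  have horb : (MulAction.orbit ↥H21 (pt 0)).ncard = 56 := by
    have h1 := Subgroup.card_mul_index K
    rw [MulAction.index_stabilizer, card_H21, card_K] at h1
    omega
  symm
  apply Set.eq_of_subset_of_ncard_le _ _ (Set.toFinite _)
  · intro y hy
    rw [Finset.mem_coe, Finset.mem_image] at hy
    obtain ⟨j, hj, rfl⟩ := hy
    exact pt_mem_orbit j (Finset.mem_range.mp hj)
  · rw [horb, Set.ncard_coe_finset, h3]

theorem wordProd_mem (w : List ℕ) (hw : ∀ i ∈ w, i < 2) :
    wordProd GG w ∈ Subgroup.closure {g | ∃ i < D.k, g = GG.getD i 1} := by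
  induction w with
  | nil => rw [wordProd_nil]; exact Subgroup.one_mem _
  | cons i w ih =>
    rw [wordProd_cons]
    exact Subgroup.mul_mem _ (Subgroup.subset_closure ⟨i, hw i (by simp), rfl⟩)
      (ih (fun i' hi' => hw i' (by simp [hi'])))

theorem hgen : Subgroup.closure {g | ∃ i < D.k, g = GG.getD i 1} = ⊤ := by
  set H := Subgroup.closure {g : ↥H21 | ∃ i < D.k, g = GG.getD i 1} with hH
  have hKH : ∀ g : ↥K, g.1 ∈ H := by
    intro g
    have h1 : Subgroup.closure ({ka, kb} : Set ↥K) ≤ H.comap K.subtype := by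
      rw [Subgroup.closure_le]
      intro x hx
      simp only [Set.mem_insert_iff, Set.mem_singleton_iff] at hx
      rcases hx with rfl | rfl
      · show ka.1 ∈ H
        rw [ka_eq]; exact wordProd_mem _ (by decide)
      · show kb.1 ∈ H
        rw [kb_eq]; exact wordProd_mem _ (by decide)
    rw [closure_ka_kb] at h1
    exact h1 (Subgroup.mem_top g)
  rw [eq_top_iff]
  intro g _
  have h1 : g • pt 0 ∈ MulAction.orbit ↥H21 (pt 0) := MulAction.mem_orbit _ _
  rw [orbit_eq, Finset.mem_coe, Finset.mem_image] at h1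
  obtain ⟨j, hj, hjg⟩ := h1
  obtain ⟨h, hh, hact⟩ := StemZB.exists_mem_closure_smul D chk_struct pt GG pi_act j
    (Finset.mem_range.mp hj)
  have h2 : h⁻¹ * g ∈ K := by
    rw [mem_stabilizer_iff, mul_smul, ← hjg, ← hact, inv_smul_smul]
  have h3 := hKH ⟨h⁻¹ * g, h2⟩
  have h4 : g = h * (h⁻¹ * g) := by group
  rw [h4]
  exact H.mul_mem hh h3

theorem stab_perfect : commutator ↥(MulAction.stabilizer ↥H21 (pt 0)) = ⊤ :=
  commutator_eq_top_of_equiv stabEquiv.symm
    (commutator_alternatingGroup_eq_top (by rw [Nat.card_eq_fintype_card, Fintype.card_fin]; norm_num))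

theorem stab_bound (Γ' : Type u) [Group Γ'] [Finite Γ'] (σ' : Γ' →* ↥K)
    (hσ' : Cfsg.IsStemExtension σ') (hp : IsPGroup 2 σ'.ker) : Nat.card σ'.ker ≤ 2 := by
  have h1 := isStem_comp_equiv (MulEquiv.refl Γ') stabEquiv σ' hσ'
  obtain ⟨_, hd⟩ := A6UB.hub Γ' _ h1
  have e2 := kerEquiv (MulEquiv.refl Γ') stabEquiv σ'
  rw [Nat.card_congr e2.toEquiv] at hd
  obtain ⟨a, ha⟩ := IsPGroup.iff_card.mp hp
  rw [ha] at hd ⊢
  have h3 : (2 : ℕ) ^ a ∣ 2 := by
    have hcop : Nat.Coprime (2 ^ a) 3 := Nat.Coprime.pow_left a (by norm_num)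
    exact hcop.dvd_of_dvd_mul_right (by simpa using hd)
  exact Nat.le_of_dvd (by norm_num) h3

/-- a stem extension of the group whose kernel is a 2-group has a kernel of order at most 16 -/
theorem card_ker_le_sixteen (Γ : Type u) [Group Γ] [Finite Γ] (σ : Γ →* ↥H21)
    (hσ : Cfsg.IsStemExtension σ) (hp : IsPGroup 2 σ.ker) : Nat.card σ.ker ≤ 16 := by
  obtain ⟨a, ha⟩ := IsPGroup.iff_card.mp hp
  exact StemZD.card_ker_le_pow_mul D C chk_struct chk_cert (by decide) pt GG hgen pt_zero pi_act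
    hodd hrel stab_perfect 2 stab_bound Γ σ hσ a ha

end Cfsg.Agent.Lib.Helper1.L34
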