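import Mathlib
import Cfsg.Prelude.Def_Local
import Cfsg.Agent.Lib.Helper4.FusionLift1
import Cfsg.Agent.Lib.Helper4.AlperinGold1
import Cfsg.Agent.Lib.Helper4.PStab3a
import Cfsg.Agent.Lib.Helper3.LocalP1
import Cfsg.Agent.Lib.Lead.CoprimeTools
import Cfsg.Agent.Lib.Lead.CoprimeAction2
import Cfsg.Agent.Lib.Lead.FrobNPC5
import Cfsg.Agent.Lib.Helper6.PPrimeCore

/-!
# S1301: auxiliary lemmas for Lemma R2b (`core_simple`)
Relative three subgroups lemma, `O(N)` is normalised by `N_Γ(N)`, `O(K ⊔ R) = 1` for `K` simple of even order with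
`C_Γ(K) = 1`, 2-centricity of `S1 ⊔ R`, transport of Frobenius' criterion.
-/

set_option autoImplicit false

namespace Cfsg.Agent.Lib.LB2

open Cfsg
open scoped commutatorElement

variable {Γ : Type*} [Group Γ]

theorem cs_commutator_self_le (X : Subgroup Γ) : ⁅X, X⁆ ≤ X :=
  Subgroup.commutator_le.mpr fun a ha b hb =>
    X.mul_mem (X.mul_mem (X.mul_mem ha hb) (X.inv_mem ha)) (X.inv_mem hb)

theorem cs_subgroupOf_commutator (X A B : Subgroup Γ) (hA : A ≤ X) (hB : B ≤ X) :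
    ⁅A.subgroupOf X, B.subgroupOf X⁆ = (⁅A, B⁆).subgroupOf X := by
  apply Subgroup.map_injective X.subtype_injective
  rw [Subgroup.map_commutator, Subgroup.map_subgroupOf_eq_of_le hA, Subgroup.map_subgroupOf_eq_of_le hB,
    Subgroup.map_subgroupOf_eq_of_le]
  exact (Subgroup.commutator_mono hA hB).trans (cs_commutator_self_le X)

theorem cs_le_of_subgroupOf_le {X A B : Subgroup Γ} (hA : A ≤ X) (h : A.subgroupOf X ≤ B.subgroupOf X) :
    A ≤ B := by
  intro a ha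
  have := h (show (⟨a, hA ha⟩ : X) ∈ A.subgroupOf X from Subgroup.mem_subgroupOf.mpr ha)
  exact Subgroup.mem_subgroupOf.mp this

theorem cs_subgroupOf_mono (X : Subgroup Γ) {A B : Subgroup Γ} (h : A ≤ B) :
    A.subgroupOf X ≤ B.subgroupOf X := by
  intro a ha
  exact Subgroup.mem_subgroupOf.mpr (h (Subgroup.mem_subgroupOf.mp ha))

/-- three subgroups lemma modulo a subgroup `N` normalised by the three subgroups -/
theorem cs_three_subgroups (H₁ H₂ H₃ N : Subgroup Γ)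
    (hn₁ : H₁ ≤ Subgroup.normalizer (N : Set Γ)) (hn₂ : H₂ ≤ Subgroup.normalizer (N : Set Γ))
    (hn₃ : H₃ ≤ Subgroup.normalizer (N : Set Γ))
    (h1 : ⁅⁅H₂, H₃⁆, H₁⁆ ≤ N) (h2 : ⁅⁅H₃, H₁⁆, H₂⁆ ≤ N) : ⁅⁅H₁, H₂⁆, H₃⁆ ≤ N := by
  set X : Subgroup Γ := Subgroup.normalizer (N : Set Γ) with hX
  haveI : (N.subgroupOf X).Normal := Subgroup.normal_in_normalizer
  have c12 : ⁅H₁, H₂⁆ ≤ X := (Subgroup.commutator_mono hn₁ hn₂).trans (cs_commutator_self_le X)
  have c23 : ⁅H₂, H₃⁆ ≤ X := (Subgroup.commutator_mono hn₂ hn₃).trans (cs_commutator_self_le X)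
  have c31 : ⁅H₃, H₁⁆ ≤ X := (Subgroup.commutator_mono hn₃ hn₁).trans (cs_commutator_self_le X)
  have c123 : ⁅⁅H₁, H₂⁆, H₃⁆ ≤ X := (Subgroup.commutator_mono c12 hn₃).trans (cs_commutator_self_le X)
  have key := Cfsg.Agent.Lib.Helper4.three_subgroups_le (H₁.subgroupOf X) (H₂.subgroupOf X)
    (H₃.subgroupOf X) (N.subgroupOf X)
    (by
      rw [cs_subgroupOf_commutator X _ _ hn₂ hn₃, cs_subgroupOf_commutator X _ _ c23 hn₁]
      exact cs_subgroupOf_mono X h1)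
    (by
      rw [cs_subgroupOf_commutator X _ _ hn₃ hn₁, cs_subgroupOf_commutator X _ _ c31 hn₂]
      exact cs_subgroupOf_mono X h2)
  rw [cs_subgroupOf_commutator X _ _ hn₁ hn₂, cs_subgroupOf_commutator X _ _ c12 hn₃] at key
  exact cs_le_of_subgroupOf_le c123 key

/-- a perfect subgroup acting trivially on both factors of a chain `N ≤ B ≤ C` acts trivially on `C / N` -/
theorem cs_stable_perfect (L C B N : Subgroup Γ) (hperf : ⁅L, L⁆ = L)
    (hLN : L ≤ Subgroup.normalizer (N : Set Γ)) (hCN : C ≤ Subgroup.normalizer (N : Set Γ))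
    (hLC : ⁅L, C⁆ ≤ B) (hLB : ⁅L, B⁆ ≤ N) : ⁅L, C⁆ ≤ N := by
  have h1 : ⁅⁅L, C⁆, L⁆ ≤ N := by
    rw [Subgroup.commutator_comm]
    exact (Subgroup.commutator_mono le_rfl hLC).trans hLB
  have h2 : ⁅⁅C, L⁆, L⁆ ≤ N := by
    rw [Subgroup.commutator_comm C L]
    exact h1
  have := cs_three_subgroups L L C N hLN hLN hCN h1 h2
  rwa [hperf] at this


/-! ## `O(N)` inside `Γ` is normalised by `N_Γ(N)` -/

theorem cs_conj_mem_KG [Finite Γ] (N : Subgroup Γ) {g : Γ} (hg : g ∈ Subgroup.normalizer (N : Set Γ))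
    {a : Γ} (ha : a ∈ Cfsg.Agent.Lib.Helper4.KG 2 N) : g * a * g⁻¹ ∈ Cfsg.Agent.Lib.Helper4.KG 2 N := by
  haveI : Fact (Nat.Prime 2) := ⟨Nat.prime_two⟩
  set O := Cfsg.Agent.Lib.Helper4.KG 2 N with hO
  set O' : Subgroup Γ := O.map (MulAut.conj g).toMonoidHom with hO'
  have hON : O ≤ N := Cfsg.Agent.Lib.Helper4.KG_le N
  have hNO : N ≤ Subgroup.normalizer (O : Set Γ) := Cfsg.Agent.Lib.Helper4.le_normalizer_KG N
  have h1 : O' ≤ N := by
    rintro _ ⟨x, hx, rfl⟩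
    exact ((Subgroup.mem_normalizer_iff.mp hg) x).mp (hON hx)
  have h2 : N ≤ Subgroup.normalizer (O' : Set Γ) := by
    have key : ∀ n ∈ N, ∀ y ∈ O', n * y * n⁻¹ ∈ O' := by
      rintro n hn _ ⟨x, hx, rfl⟩
      have hn' : g⁻¹ * n * g ∈ N := by
        have := (Subgroup.mem_normalizer_iff.mp (Subgroup.inv_mem _ hg) n).mp hn
        simpa using this
      have hx' : (g⁻¹ * n * g) * x * (g⁻¹ * n * g)⁻¹ ∈ O :=
        ((Subgroup.mem_normalizer_iff.mp (hNO hn')) x).mp hx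
      refine ⟨(g⁻¹ * n * g) * x * (g⁻¹ * n * g)⁻¹, hx', ?_⟩
      simp only [MulEquiv.coe_toMonoidHom, MulAut.conj_apply]
      group
    intro n hn
    rw [Subgroup.mem_normalizer_iff]
    intro y
    constructor
    · exact key n hn y
    · intro hy
      have := key n⁻¹ (N.inv_mem hn) _ hy
      have e : n⁻¹ * (n * y * n⁻¹) * n⁻¹⁻¹ = y := by group
      rwa [e] at this
  have h3 : (Nat.card O').Coprime 2 := by
    rw [hO', Subgroup.card_map_of_injective (MulAut.conj g).injective]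
    exact Cfsg.Agent.Lib.Helper4.KG_coprime N
  have h4 : O' ≤ O := Cfsg.Agent.Lib.Helper4.le_KG h1 h2 h3
  exact h4 ⟨a, ha, rfl⟩

theorem cs_normalizer_le_normalizer_KG [Finite Γ] (N : Subgroup Γ) :
    Subgroup.normalizer (N : Set Γ) ≤ Subgroup.normalizer ((Cfsg.Agent.Lib.Helper4.KG 2 N : Subgroup Γ) : Set Γ) := by
  intro g hg
  rw [Subgroup.mem_normalizer_iff]
  intro y
  constructor
  · exact fun hy => cs_conj_mem_KG N hg hy
  · intro hy
    have := cs_conj_mem_KG N (Subgroup.inv_mem _ hg) hy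
    have e : g⁻¹ * (g * y * g⁻¹) * g⁻¹⁻¹ = y := by group
    rwa [e] at this

theorem cs_odd_KG [Finite Γ] (N : Subgroup Γ) : Odd (Nat.card (Cfsg.Agent.Lib.Helper4.KG 2 N)) := by
  haveI : Fact (Nat.Prime 2) := ⟨Nat.prime_two⟩
  exact Nat.Coprime.odd_of_right (Cfsg.Agent.Lib.Helper4.KG_coprime (p := 2) N)


/-! ## B1: `O(K ⊔ R) = 1` -/

theorem cs_core_sup [Finite Γ] (K : Subgroup Γ) [K.Normal] (hKs : IsSimpleGroup ↥K)
    (hCK : Subgroup.centralizer (K : Set Γ) = ⊥) (hK2 : 2 ∣ Nat.card ↥K) (R : Subgroup Γ) :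
    pPrimeCore 2 ↥(K ⊔ R) = ⊥ := by
  haveI : Fact (Nat.Prime 2) := ⟨Nat.prime_two⟩
  set H : Subgroup Γ := K ⊔ R with hH
  set N' : Subgroup Γ := Cfsg.Agent.Lib.Helper4.KG 2 H with hN'
  have hKH : K ≤ H := le_sup_left
  have hHN : H ≤ Subgroup.normalizer (N' : Set Γ) := Cfsg.Agent.Lib.Helper4.le_normalizer_KG H
  have hKN : K ≤ Subgroup.normalizer (N' : Set Γ) := hKH.trans hHN
  have hodd : Odd (Nat.card N') := cs_odd_KG H
  have hdisj : Disjoint N' K := by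
    haveI hn : (N'.subgroupOf K).Normal := Subgroup.normal_subgroupOf_of_le_normalizer hKN
    rcases hn.eq_bot_or_eq_top with h | h
    · exact Subgroup.subgroupOf_eq_bot.mp h
    · exfalso
      have hKN' : K ≤ N' := Subgroup.subgroupOf_eq_top.mp h
      have hdvd : Nat.card K ∣ Nat.card N' := Subgroup.card_dvd_of_le hKN'
      have h2 : 2 ∣ Nat.card N' := hK2.trans hdvd
      exact (Nat.not_even_iff_odd.mpr hodd) (even_iff_two_dvd.mpr h2)
  have hcomm : ⁅N', K⁆ ≤ N' ⊓ K :=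
    le_inf (Cfsg.Agent.Lib.Lead.commutator_le_left_of_le_normalizer N' K hKN)
      (Subgroup.commutator_le_right N' K)
  have hcz : N' ≤ Subgroup.centralizer (K : Set Γ) := by
    rw [← Subgroup.commutator_eq_bot_iff_le_centralizer, eq_bot_iff]
    exact hcomm.trans hdisj.eq_bot.le
  rw [hCK] at hcz
  have hbot : N' = ⊥ := eq_bot_iff.mpr hcz
  rw [hN', Cfsg.Agent.Lib.Helper4.KG_def] at hbot
  exact (Subgroup.map_eq_bot_iff_of_injective _ H.subtype_injective).mp hbot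


/-! ## B3b: `S1 ⊔ R` is 2-centric in `H` when `S1` is a Sylow 2-subgroup of `C_H(R)` -/

theorem cs_centric [Finite Γ] (H R S1 : Subgroup Γ)
    (hS1 : Cfsg.Agent.Lib.Helper4.SylIn 2 (H ⊓ Subgroup.centralizer (R : Set Γ)) S1) :
    ∀ Q : Subgroup Γ, IsPGroup 2 Q →
      Q ≤ H ⊓ Subgroup.centralizer ((S1 ⊔ R : Subgroup Γ) : Set Γ) → Q ≤ S1 ⊔ R := by
  haveI : Fact (Nat.Prime 2) := ⟨Nat.prime_two⟩
  intro Q hQ hQle
  have hQH : Q ≤ H := hQle.trans inf_le_left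
  have hQc : Q ≤ Subgroup.centralizer ((S1 ⊔ R : Subgroup Γ) : Set Γ) := hQle.trans inf_le_right
  have hQR : Q ≤ Subgroup.centralizer (R : Set Γ) :=
    hQc.trans (Subgroup.centralizer_le (by exact_mod_cast (le_sup_right : R ≤ S1 ⊔ R)))
  have hQS : Q ≤ Subgroup.centralizer (S1 : Set Γ) :=
    hQc.trans (Subgroup.centralizer_le (by exact_mod_cast (le_sup_left : S1 ≤ S1 ⊔ R)))
  have hQn : Q ≤ Subgroup.normalizer (S1 : Set Γ) := hQS.trans (Subgroup.centralizer_le_normalizer _)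
  have h2 : IsPGroup 2 (S1 ⊔ Q : Subgroup Γ) := IsPGroup.to_sup_of_normal_left' hS1.2.1 hQ hQn
  have h3 : S1 ⊔ Q = S1 :=
    Cfsg.Agent.Lib.Helper4.eq_of_isPGroup_of_relIndex (le_sup_left : S1 ≤ S1 ⊔ Q)
      (sup_le hS1.1 (le_inf hQH hQR)) h2 hS1.2.2
  calc Q ≤ S1 ⊔ Q := le_sup_right
    _ = S1 := h3
    _ ≤ S1 ⊔ R := le_sup_left

/-! ## transport of Frobenius' criterion to the subgroup type -/

theorem cs_plocal_of_rel (L1 : Subgroup Γ)
    (h : ∀ D : Subgroup Γ, D ≤ L1 → IsPGroup 2 D → ∀ g ∈ L1, g ∈ Subgroup.normalizer (D : Set Γ) →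
      (orderOf g).Coprime 2 → g ∈ Subgroup.centralizer (D : Set Γ)) :
    Cfsg.Agent.Lib.Lead.PLocalCentral 2 ↥L1 := by
  intro D hD g hg hcop
  have hD' : IsPGroup 2 (D.map L1.subtype) := hD.map _
  have hg' : (g : Γ) ∈ Subgroup.normalizer ((D.map L1.subtype : Subgroup Γ) : Set Γ) := by
    rw [Subgroup.mem_normalizer_iff] at hg ⊢
    intro y
    constructor
    · rintro ⟨d, hd, rfl⟩
      exact ⟨g * d * g⁻¹, (hg d).mp hd, rfl⟩
    · rintro ⟨d, hd, hdy⟩
      have hyL : y ∈ L1 := by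
        have h1 : y = (g : Γ)⁻¹ * ((g : Γ) * y * (g : Γ)⁻¹) * (g : Γ) := by group
        rw [h1, ← hdy]
        exact L1.mul_mem (L1.mul_mem (L1.inv_mem g.2) d.2) g.2
      refine ⟨⟨y, hyL⟩, ?_, rfl⟩
      have h5 : g * ⟨y, hyL⟩ * g⁻¹ = d := Subtype.ext hdy.symm
      have h6 : (⟨y, hyL⟩ : L1) ∈ D := (hg ⟨y, hyL⟩).mpr (by rw [h5]; exact hd)
      exact h6
  have hord : orderOf (g : Γ) = orderOf g := Subgroup.orderOf_coe g
  have h1 := h (D.map L1.subtype) (Subgroup.map_subtype_le _) hD' (g : Γ) g.2 hg'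
    (by rw [hord]; exact hcop)
  rw [Subgroup.mem_centralizer_iff] at h1 ⊢
  intro d hd
  have h2 := h1 (d : Γ) ⟨d, hd, rfl⟩
  exact Subtype.ext h2


/-! ## small general facts -/

theorem cs_normalizer_sup (A B : Subgroup Γ) :
    Subgroup.normalizer (A : Set Γ) ⊓ Subgroup.normalizer (B : Set Γ) ≤
      Subgroup.normalizer ((A ⊔ B : Subgroup Γ) : Set Γ) := by
  intro g hg
  rw [Subgroup.mem_normalizer_iff_map_conj_eq] at *
  rw [Subgroup.map_sup]
  have hA := Subgroup.mem_normalizer_iff_map_conj_eq.mp (Subgroup.mem_inf.mp hg).1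
  have hB := Subgroup.mem_normalizer_iff_map_conj_eq.mp (Subgroup.mem_inf.mp hg).2
  rw [hA, hB]

theorem cs_normalizer_inf (A B : Subgroup Γ) :
    Subgroup.normalizer (A : Set Γ) ⊓ Subgroup.normalizer (B : Set Γ) ≤
      Subgroup.normalizer ((A ⊓ B : Subgroup Γ) : Set Γ) := by
  intro g hg
  rw [Subgroup.mem_normalizer_iff_map_conj_eq] at *
  rw [Subgroup.map_inf _ _ _ (MulAut.conj g).injective]
  have hA := Subgroup.mem_normalizer_iff_map_conj_eq.mp (Subgroup.mem_inf.mp hg).1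
  have hB := Subgroup.mem_normalizer_iff_map_conj_eq.mp (Subgroup.mem_inf.mp hg).2
  rw [hA, hB]

theorem cs_centralizer_sup (A B : Subgroup Γ) :
    Subgroup.centralizer (A : Set Γ) ⊓ Subgroup.centralizer (B : Set Γ) ≤
      Subgroup.centralizer ((A ⊔ B : Subgroup Γ) : Set Γ) := by
  intro x hx
  have hA : A ≤ Subgroup.centralizer ({x} : Set Γ) := by
    intro a ha
    rw [Subgroup.mem_centralizer_singleton_iff]
    exact (Subgroup.mem_centralizer_iff.mp (Subgroup.mem_inf.mp hx).1 a ha)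
  have hB : B ≤ Subgroup.centralizer ({x} : Set Γ) := by
    intro b hb
    rw [Subgroup.mem_centralizer_singleton_iff]
    exact (Subgroup.mem_centralizer_iff.mp (Subgroup.mem_inf.mp hx).2 b hb)
  rw [Subgroup.mem_centralizer_iff]
  intro y hy
  have := (sup_le hA hB) hy
  rw [Subgroup.mem_centralizer_singleton_iff] at this
  exact this

end Cfsg.Agent.Lib.LB2
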