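import Mathlib
import Cfsg.Prelude.Def_Local
import Cfsg.Agent.Lib.Helper8.GlAutDefs
import Cfsg.Agent.Lib.Helper8.GlAutBasic
import Cfsg.Agent.Lib.Helper5.GlAutT
import Cfsg.Agent.Lib.Helper8.GlAut

/-!
# S1301: Theorem G (Glauberman 1966, Z*-part), subgroup form
Bridge from `Helper8.GlAut.comm_mem_core` (normal `K`, one odd-order element) to subgroups `K` that are only
normalised, and an odd-order subgroup `A`.
-/

set_option autoImplicit false

namespace Cfsg.Agent.Lib.LB2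

open Cfsg
open scoped commutatorElement

universe u

variable {Γ : Type u} [Group Γ] [Finite Γ]

/-- **Theorem G** (Glauberman 1966, the Z*-part), subgroup form, core-free case. -/
theorem thmG (K : Subgroup Γ) (hO : pPrimeCore 2 ↥K = ⊥)
    (S : Subgroup Γ) (hSK : S ≤ K) (hS2 : IsPGroup 2 S)
    (hSyl : ∀ P : Subgroup Γ, IsPGroup 2 P → S ≤ P → P ≤ K → P = S)
    (E : Subgroup Γ) (hE2 : IsPGroup 2 E) (hEK : E ≤ Subgroup.normalizer (K : Set Γ))
    (hES : E ≤ Subgroup.centralizer (S : Set Γ))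
    (A : Subgroup Γ) (hA : Odd (Nat.card A)) (hAK : A ≤ Subgroup.normalizer (K : Set Γ))
    (hAS : A ≤ Subgroup.centralizer (S : Set Γ)) (hAE : A ≤ Subgroup.normalizer (E : Set Γ)) :
    ⁅E, A⁆ ≤ Subgroup.centralizer (K : Set Γ) := by
  rw [Subgroup.commutator_le]
  intro q hq a ha
  have hodd : Odd (orderOf a) := by
    have h1 : orderOf a ∣ Nat.card A := by
      have := orderOf_dvd_natCard (⟨a, ha⟩ : A)
      rwa [Subgroup.orderOf_mk] at this
    exact Odd.of_dvd_nat hA h1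
  have hyp : Cfsg.Agent.Lib.Helper8.GlAut.Hyp K S E a :=
    ⟨⟨hSK, hS2, hSyl⟩, hE2, hES, hodd, hAS ha, hAE ha⟩
  have ih : Cfsg.Agent.Lib.Helper8.GlAut.IH.{u} (Nat.card ↥K + 1) :=
    fun Γ' _ _ K' _ S' Q' x' _ hyp' =>
      Cfsg.Agent.Lib.Helper8.GlAut.comm_mem_core K' S' hyp'.syl.1 hyp'.syl.2.1 hyp'.syl.2.2 Q' hyp'.hQ2
        hyp'.hQS x' hyp'.hx hyp'.hxS hyp'.hxQ
  have hc := Cfsg.Agent.Lib.Helper8.GlAut.IH.sub ih hEK (hAK ha) (Nat.lt_succ_self _) hyp
  rw [Subgroup.mem_centralizer_iff]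
  intro k hk
  have h1 := hc q hq k hk
  unfold Cfsg.Agent.Lib.Helper8.GlAut.oc at h1
  rw [hO, Subgroup.map_bot, Subgroup.mem_bot] at h1
  exact (commutatorElement_eq_one_iff_mul_comm.mp h1).symm

end Cfsg.Agent.Lib.LB2
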