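import Mathlib
import Cfsg.Prelude.Def_Local
import Cfsg.Agent.Lib.Helper1.LB2CoreA
import Cfsg.Agent.Lib.Helper1.LB2ThmG
import Cfsg.Agent.Lib.Helper9.LB2Climb
import Cfsg.Agent.Lib.Helper6.LB2Cover
import Cfsg.Agent.Lib.Lead.LB2End

/-!
# S1301: Lemma R2b (`core_simple`) — the abstract core case of `L_{2'}`-balance
Paper proof: notes/S1301_Zstar_core_helper1.md (Lemma R2, simple case).
-/

set_option autoImplicit false

namespace Cfsg.Agent.Lib.LB2

open Cfsg
open scoped commutatorElement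

variable {Γ : Type*} [Group Γ] [Finite Γ]

/-- **Lemma R2b** (the abstract core case). -/
theorem core_simple (K : Subgroup Γ) [K.Normal] (hKs : IsSimpleGroup ↥K) (hKna : ¬ IsMulCommutative ↥K)
    (hCK : Subgroup.centralizer (K : Set Γ) = ⊥) (hK2 : 2 ∣ Nat.card ↥K)
    (R : Subgroup Γ) (hR : IsPGroup 2 ↥R) (L : Subgroup Γ) (hLR : L ≤ Subgroup.centralizer (R : Set Γ))
    (hLperf : ⁅L, L⁆ = L) (hLodd : ∀ M : Subgroup ↥L, M.Normal → M.index.Coprime 2 → M = ⊤)
    (D : Subgroup Γ) (hD : Odd (Nat.card ↥D)) (hLD : ⁅L, K ⊓ Subgroup.centralizer (R : Set Γ)⁆ ≤ D) :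
    L = ⊥ := by
  haveI : Fact (Nat.Prime 2) := ⟨Nat.prime_two⟩
  set CR : Subgroup Γ := Subgroup.centralizer (R : Set Γ) with hCR
  set H : Subgroup Γ := K ⊔ R with hH
  set DR : Subgroup Γ := K ⊓ CR with hDR
  set CH : Subgroup Γ := H ⊓ CR with hCH
  set OR : Subgroup Γ := Cfsg.Agent.Lib.Helper4.KG 2 DR with hOR
  -- normalisation facts
  have hKn : ∀ g : Γ, g ∈ Subgroup.normalizer (K : Set Γ) := fun g => by
    rw [Subgroup.normalizer_eq_top]; exact Subgroup.mem_top g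
  have hCRn : CR ≤ Subgroup.normalizer (DR : Set Γ) := by
    intro c hc
    exact cs_normalizer_inf K CR ⟨hKn c, Subgroup.le_normalizer hc⟩
  have hLn : L ≤ Subgroup.normalizer (DR : Set Γ) := hLR.trans hCRn
  have hORn : Subgroup.normalizer (DR : Set Γ) ≤ Subgroup.normalizer (OR : Set Γ) :=
    cs_normalizer_le_normalizer_KG DR
  have hLOR : L ≤ Subgroup.normalizer (OR : Set Γ) := hLn.trans hORn
  have hCHOR : CH ≤ Subgroup.normalizer (OR : Set Γ) := inf_le_right.trans (hCRn.trans hORn)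
  have hORodd : Odd (Nat.card OR) := cs_odd_KG DR
  have hORDR : OR ≤ DR := Cfsg.Agent.Lib.Helper4.KG_le DR
  -- `M = ⁅L, DR⁆ ≤ OR`
  have hM : ⁅L, DR⁆ ≤ OR := by
    apply Cfsg.Agent.Lib.Helper4.le_KG (p := 2)
    · rw [Subgroup.commutator_comm]
      exact Cfsg.Agent.Lib.Lead.commutator_le_left_of_le_normalizer DR L hLn
    · rw [Subgroup.commutator_comm]
      exact Cfsg.Agent.Lib.Lead.le_normalizer_commutator_left DR L
    · have h1 : Nat.card (⁅L, DR⁆ : Subgroup Γ) ∣ Nat.card D := Subgroup.card_dvd_of_le hLD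
      exact Nat.Coprime.coprime_dvd_left h1 (Nat.Coprime.symm (Nat.coprime_two_left.mpr hD))
  -- `⁅L, CH⁆ ≤ DR`
  have hLCH : ⁅L, CH⁆ ≤ DR := by
    rw [Subgroup.commutator_le]
    intro l hl c hc
    refine Subgroup.mem_inf.mpr ⟨?_, ?_⟩
    · obtain ⟨k, hk, r, hr, rfl⟩ := Subgroup.mem_sup_of_normal_left.mp (Subgroup.mem_inf.mp hc).1
      have hlr : r * l = l * r := (Subgroup.mem_centralizer_iff.mp (hLR hl)) r hr
      have e : ⁅l, k * r⁆ = (l * k * l⁻¹) * k⁻¹ := by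
        rw [commutatorElement_def]
        have h1 : l * (k * r) * l⁻¹ = l * k * l⁻¹ * r := by
          have : r * l⁻¹ = l⁻¹ * r := by
            have := congrArg (fun x => l⁻¹ * x * l⁻¹) hlr
            simpa [mul_assoc] using this.symm
          calc l * (k * r) * l⁻¹ = l * k * (r * l⁻¹) := by group
            _ = l * k * (l⁻¹ * r) := by rw [this]
            _ = l * k * l⁻¹ * r := by group
        rw [h1]
        group
      rw [e]
      exact K.mul_mem (‹K.Normal›.conj_mem k hk l) (K.inv_mem hk)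
    · exact CR.mul_mem (CR.mul_mem (CR.mul_mem (hLR hl) (Subgroup.mem_inf.mp hc).2) (CR.inv_mem (hLR hl)))
        (CR.inv_mem (Subgroup.mem_inf.mp hc).2)
  have hLCHOR : ⁅L, CH⁆ ≤ OR := cs_stable_perfect L CH DR OR hLperf hLOR hCHOR hLCH hM
  -- a Sylow 2-subgroup `S1` of `CH`
  obtain ⟨S1, -, hS1⟩ := Cfsg.Agent.Lib.Helper4.exists_sylIn_ge (p := 2) (bot_le : (⊥ : Subgroup Γ) ≤ CH)
    IsPGroup.of_bot
  have hS1CH : S1 ≤ CH := hS1.1
  have hcov := cover_of_comm_le OR S1 L hORodd hS1.2.1 (hS1CH.trans hCHOR) hLOR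
    ((Subgroup.commutator_mono le_rfl hS1CH).trans hLCHOR)
  set L1 : Subgroup Γ := (L ⊔ OR) ⊓ Subgroup.centralizer (S1 : Set Γ) with hL1
  have hHn : L ⊔ OR ≤ Subgroup.normalizer (H : Set Γ) := by
    apply sup_le
    · intro l hl
      exact cs_normalizer_sup K R ⟨hKn l, Subgroup.centralizer_le_normalizer _ (hLR hl)⟩
    · exact (hORDR.trans (inf_le_left.trans le_sup_left)).trans Subgroup.le_normalizer
  have hLORc : L ⊔ OR ≤ CR := sup_le hLR (hORDR.trans inf_le_right)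
  have hL1c : L1 ≤ Subgroup.centralizer ((S1 ⊔ R : Subgroup Γ) : Set Γ) := by
    intro x hx
    exact cs_centralizer_sup S1 R ⟨(Subgroup.mem_inf.mp hx).2, hLORc (Subgroup.mem_inf.mp hx).1⟩
  have hL1n : L1 ≤ Subgroup.normalizer (OR : Set Γ) :=
    inf_le_left.trans (sup_le hLOR Subgroup.le_normalizer)
  have hR1 : IsPGroup 2 (S1 ⊔ R : Subgroup Γ) :=
    IsPGroup.to_sup_of_normal_right' hS1.2.1 hR
      ((hS1CH.trans inf_le_right).trans (Subgroup.centralizer_le_normalizer _))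
  have hO : pPrimeCore 2 ↥H = ⊥ := cs_core_sup K hKs hCK hK2 R
  -- Frobenius' criterion for `L1`
  have hfrob : Cfsg.Agent.Lib.Lead.PLocalCentral 2 ↥L1 := by
    apply cs_plocal_of_rel
    intro E hEL1 hE2 g hgL1 hgE hgcop
    have hAL1 : Subgroup.zpowers g ≤ L1 := Subgroup.zpowers_le.mpr hgL1
    have hclimb := climb_of_thmG H
      (fun S hSH hS2 hSyl E' hE'2 hE'H hE'S A' hA' hA'H hA'S hA'E =>
        thmG H hO S hSH hS2 hSyl E' hE'2 hE'H hE'S A' hA' hA'H hA'S hA'E)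
      (S1 ⊔ R) (sup_le (hS1CH.trans inf_le_left) le_sup_right) hR1
      (cs_centric H R S1 hS1) E hE2 ((hEL1.trans inf_le_left).trans hHn) (hEL1.trans hL1c)
      (Subgroup.zpowers g) (by rw [Nat.card_zpowers]; exact Nat.Coprime.odd_of_right hgcop)
      ((hAL1.trans inf_le_left).trans hHn) (hAL1.trans hL1c) (Subgroup.zpowers_le.mpr hgE)
    have h1 : ⁅E, Subgroup.zpowers g⁆ ≤ Subgroup.centralizer (K : Set Γ) :=
      hclimb.trans (Subgroup.centralizer_le (by exact_mod_cast (le_sup_left : K ≤ K ⊔ R)))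
    rw [hCK, le_bot_iff, Subgroup.commutator_eq_bot_iff_le_centralizer, Subgroup.le_centralizer_iff] at h1
    exact h1 (Subgroup.mem_zpowers g)
  have hodd := perfect_odd_of_cover OR L1 L hORodd hL1n hcov hfrob hLperf
  -- conclusion
  have h1 : ((⊥ : Subgroup ↥L)).index.Coprime 2 := by
    rw [Subgroup.index_bot]
    exact Nat.Coprime.symm (Nat.coprime_two_left.mpr hodd)
  have h2 := hLodd ⊥ inferInstance h1
  have h3 : Nat.card ↥L = 1 := by
    have := Subgroup.card_top (G := ↥L)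
    rw [← h2, Subgroup.card_bot] at this
    exact this.symm
  exact Subgroup.card_eq_one.mp h3

end Cfsg.Agent.Lib.LB2
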