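import Mathlib

/-!
# Lattices in frame coordinates: parity, the sublattice of multiples of four, the code
-/

set_option autoImplicit false

namespace Cfsg.Agent.Lib.Helper1.LeechChar

open Matrix

/-- integer vectors -/
abbrev Z24 := Fin 24 → ℤ

/-- the properties of the lattice in the coordinates of a frame -/
structure Fr (L : AddSubgroup Z24) : Prop where
  e8 : ∀ i : Fin 24, (Pi.single i (8 : ℤ) : Z24) ∈ L
  e44 : ∀ i j : Fin 24, i ≠ j → (Pi.single i (4 : ℤ) + Pi.single j (4 : ℤ) : Z24) ∈ L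
  dot8 : ∀ c ∈ L, ∀ c' ∈ L, (8 : ℤ) ∣ c ⬝ᵥ c'
  sq16 : ∀ c ∈ L, (16 : ℤ) ∣ c ⬝ᵥ c
  min32 : ∀ c ∈ L, c ≠ 0 → 32 ≤ c ⬝ᵥ c

variable {L : AddSubgroup Z24}

theorem Fr.e4m4 (h : Fr L) (i j : Fin 24) (hij : i ≠ j) :
    (Pi.single i (4 : ℤ) - Pi.single j (4 : ℤ) : Z24) ∈ L := by
  have h1 := L.sub_mem (h.e44 i j hij) (h.e8 j)
  have e : (Pi.single i (4 : ℤ) + Pi.single j (4 : ℤ) - Pi.single j (8 : ℤ) : Z24) =
      Pi.single i (4 : ℤ) - Pi.single j (4 : ℤ) := by
    have : (Pi.single j (8 : ℤ) : Z24) = Pi.single j (4 : ℤ) + Pi.single j (4 : ℤ) := by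
      rw [← Pi.single_add]
      norm_num
    rw [this]
    abel
  rw [e] at h1
  exact h1

theorem Fr.e4m4' (h : Fr L) (i j : Fin 24) :
    (Pi.single i (4 : ℤ) - Pi.single j (4 : ℤ) : Z24) ∈ L := by
  by_cases hij : i = j
  · rw [hij, sub_self]
    exact L.zero_mem
  · exact h.e4m4 i j hij

/-- all coordinates have the same parity -/
theorem Fr.parity (h : Fr L) {c : Z24} (hc : c ∈ L) (i j : Fin 24) : (2 : ℤ) ∣ c i + c j := by
  by_cases hij : i = j
  · rw [hij]
    omega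
  · have h1 := h.dot8 c hc _ (h.e44 i j hij)
    rw [dotProduct_add, dotProduct_single, dotProduct_single] at h1
    omega

theorem Fr.even_or_odd (h : Fr L) {c : Z24} (hc : c ∈ L) :
    (∀ i, (2 : ℤ) ∣ c i) ∨ ∀ i, ¬ (2 : ℤ) ∣ c i := by
  by_cases h0 : (2 : ℤ) ∣ c 0
  · left
    intro i
    have := h.parity hc 0 i
    omega
  · right
    intro i
    have := h.parity hc 0 i
    omega

/-- multiples of four with even coordinate sum lie in the lattice -/
theorem Fr.four_smul_mem (h : Fr L) (d : Z24) (hd : (2 : ℤ) ∣ ∑ i, d i) : (4 : ℤ) • d ∈ L := by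
  obtain ⟨t, ht⟩ := hd
  have h1 : ∑ i, d i • (Pi.single i (4 : ℤ) - Pi.single 0 (4 : ℤ) : Z24) ∈ L :=
    L.sum_mem (fun i _ => L.zsmul_mem (h.e4m4' i 0) _)
  have h2 : t • (Pi.single 0 (8 : ℤ) : Z24) ∈ L := L.zsmul_mem (h.e8 0) _
  have e : (4 : ℤ) • d = ∑ i, d i • (Pi.single i (4 : ℤ) - Pi.single 0 (4 : ℤ) : Z24) +
      t • (Pi.single 0 (8 : ℤ) : Z24) := by
    funext k
    rw [Pi.add_apply, Finset.sum_apply]
    by_cases hk : k = 0
    · simp only [Pi.smul_apply, Pi.sub_apply, smul_eq_mul, Pi.single_apply, mul_sub, mul_ite,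
        mul_zero, Finset.sum_sub_distrib, Finset.sum_ite_eq, Finset.mem_univ, if_true, hk]
      rw [← Finset.sum_mul, ht]
      ring
    · simp only [Pi.smul_apply, Pi.sub_apply, smul_eq_mul, Pi.single_apply, mul_sub, mul_ite,
        mul_zero, Finset.sum_sub_distrib, Finset.sum_ite_eq, Finset.mem_univ, if_true, hk,
        if_false, Finset.sum_const_zero]
      ring
  rw [e]
  exact L.add_mem h1 h2

/-- a multiple of four in the lattice has even coordinate sum -/
theorem Fr.sum_even_of_four_smul (h : Fr L) {d : Z24} (hd : (4 : ℤ) • d ∈ L) :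
    (2 : ℤ) ∣ ∑ i, d i := by
  by_contra hodd
  have h1 : (2 : ℤ) ∣ ∑ i, (d - (Pi.single 0 1 : Z24)) i := by
    simp only [Pi.sub_apply, Finset.sum_sub_distrib, Finset.sum_pi_single', Finset.mem_univ,
      if_true]
    omega
  have h2 := h.four_smul_mem _ h1
  have h3 := L.sub_mem hd h2
  have e : (4 : ℤ) • d - (4 : ℤ) • (d - (Pi.single 0 1 : Z24)) = (Pi.single 0 (4 : ℤ) : Z24) := by
    rw [← smul_sub, sub_sub_cancel]
    funext k
    simp [Pi.single_apply]
  rw [e] at h3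
  have h4 := h.min32 _ h3 (by
    intro h0
    have := congrFun h0 0
    simp at this)
  rw [dotProduct_single, Pi.single_eq_same] at h4
  norm_num at h4

/-- the code of the lattice: the halves of the even vectors, modulo two -/
def code (L : AddSubgroup Z24) : Submodule (ZMod 2) (Fin 24 → ZMod 2) where
  carrier := {w | ∃ d : Z24, (2 : ℤ) • d ∈ L ∧ ∀ i, w i = ((d i : ℤ) : ZMod 2)}
  add_mem' := by
    rintro w w' ⟨d, hd, hw⟩ ⟨d', hd', hw'⟩
    refine ⟨d + d', ?_, fun i => ?_⟩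
    · rw [smul_add]
      exact L.add_mem hd hd'
    · rw [Pi.add_apply, Pi.add_apply, hw, hw', Int.cast_add]
  zero_mem' := ⟨0, by rw [smul_zero]; exact L.zero_mem, fun i => by simp⟩
  smul_mem' := by
    rintro a w ⟨d, hd, hw⟩
    have ha : a = 0 ∨ a = 1 := by
      revert a
      decide
    rcases ha with rfl | rfl
    · rw [zero_smul]
      exact ⟨0, by rw [smul_zero]; exact L.zero_mem, fun i => by simp⟩
    · rw [one_smul]
      exact ⟨d, hd, hw⟩

theorem mem_code {w : Fin 24 → ZMod 2} :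
    w ∈ code L ↔ ∃ d : Z24, (2 : ℤ) • d ∈ L ∧ ∀ i, w i = ((d i : ℤ) : ZMod 2) := Iff.rfl

theorem two_dvd_of_cast_eq_zero {a : ℤ} (h : ((a : ℤ) : ZMod 2) = 0) : (2 : ℤ) ∣ a := by
  rw [ZMod.intCast_zmod_eq_zero_iff_dvd] at h
  exact_mod_cast h

theorem cast_eq_zero_of_two_dvd {a : ℤ} (h : (2 : ℤ) ∣ a) : ((a : ℤ) : ZMod 2) = 0 := by
  rw [ZMod.intCast_zmod_eq_zero_iff_dvd]
  exact_mod_cast h

/-- the code is self-orthogonal -/
theorem Fr.code_orth (h : Fr L) {w w' : Fin 24 → ZMod 2} (hw : w ∈ code L) (hw' : w' ∈ code L) :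
    ∑ i, w i * w' i = 0 := by
  obtain ⟨d, hd, hwd⟩ := hw
  obtain ⟨d', hd', hwd'⟩ := hw'
  have h1 := h.dot8 _ hd _ hd'
  rw [smul_dotProduct, dotProduct_smul, smul_eq_mul, smul_eq_mul] at h1
  have h2 : (2 : ℤ) ∣ d ⬝ᵥ d' := by omega
  have h3 := cast_eq_zero_of_two_dvd h2
  rw [← h3]
  unfold dotProduct
  rw [Int.cast_sum]
  apply Finset.sum_congr rfl
  intro i _
  rw [hwd, hwd', Int.cast_mul]

theorem sq_sub_ite_dvd (a : ℤ) : (4 : ℤ) ∣ a * a - (if (2 : ℤ) ∣ a then 0 else 1) := by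
  split_ifs with ha
  · obtain ⟨b, rfl⟩ := ha
    exact ⟨b * b, by ring⟩
  · have : a % 2 = 1 := by omega
    have h2 : a = 2 * (a / 2) + 1 := by omega
    generalize a / 2 = b at h2
    subst h2
    exact ⟨b * b + b, by ring⟩

theorem hammingNorm_eq_sum (w : Fin 24 → ZMod 2) :
    ((hammingNorm w : ℕ) : ℤ) = ∑ i, (if w i = 0 then (0 : ℤ) else 1) := by
  unfold hammingNorm
  rw [Finset.card_filter, Nat.cast_sum]
  apply Finset.sum_congr rfl
  intro i _
  by_cases hi : w i = 0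
  · simp [hi]
  · simp [hi]

/-- the code is doubly even -/
theorem Fr.code_dvd (h : Fr L) {w : Fin 24 → ZMod 2} (hw : w ∈ code L) : 4 ∣ hammingNorm w := by
  obtain ⟨d, hd, hwd⟩ := hw
  have h1 := h.sq16 _ hd
  rw [smul_dotProduct, dotProduct_smul, smul_eq_mul, smul_eq_mul] at h1
  have h2 : (4 : ℤ) ∣ d ⬝ᵥ d := by omega
  have h3 : (4 : ℤ) ∣ ∑ i, (d i * d i - (if (2 : ℤ) ∣ d i then 0 else 1)) :=
    Finset.dvd_sum (fun i _ => sq_sub_ite_dvd (d i))
  rw [Finset.sum_sub_distrib] at h3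
  have h4 : ∑ i, d i * d i = d ⬝ᵥ d := rfl
  rw [h4] at h3
  have h5 : ∑ i, (if (2 : ℤ) ∣ d i then (0 : ℤ) else 1) = ((hammingNorm w : ℕ) : ℤ) := by
    rw [hammingNorm_eq_sum]
    apply Finset.sum_congr rfl
    intro i _
    rw [hwd]
    by_cases hi : (2 : ℤ) ∣ d i
    · rw [if_pos hi, if_pos (cast_eq_zero_of_two_dvd hi)]
    · rw [if_neg hi, if_neg (fun h' => hi (two_dvd_of_cast_eq_zero h'))]
  rw [h5] at h3
  have h6 : (4 : ℤ) ∣ ((hammingNorm w : ℕ) : ℤ) := by omega
  exact_mod_cast h6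

/-- a word of the code is carried by a vector with entries `0`, `2`, `-2` -/
theorem Fr.exists_pure (h : Fr L) {w : Fin 24 → ZMod 2} (hw : w ∈ code L) :
    ∃ c ∈ L, ∀ i, (w i = 0 → c i = 0) ∧ (w i ≠ 0 → c i = 2 ∨ c i = -2) := by
  obtain ⟨d, hd, hwd⟩ := hw
  have hdvd : ∀ i, (2 : ℤ) ∣ d i - (if w i = 0 then 0 else 1) := by
    intro i
    by_cases hi : w i = 0
    · rw [if_pos hi, sub_zero]
      rw [hwd] at hi
      exact two_dvd_of_cast_eq_zero hi
    · rw [if_neg hi]
      rw [hwd] at hi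
      have : ¬ (2 : ℤ) ∣ d i := fun h' => hi (cast_eq_zero_of_two_dvd h')
      omega
  choose t ht using hdvd
  by_cases hev : (2 : ℤ) ∣ ∑ i, t i
  · have h1 := h.four_smul_mem t hev
    refine ⟨(2 : ℤ) • d - (4 : ℤ) • t, L.sub_mem hd h1, fun i => ?_⟩
    have := ht i
    simp only [Pi.sub_apply, Pi.smul_apply, smul_eq_mul]
    constructor
    · intro hi
      rw [if_pos hi] at this
      omega
    · intro hi
      rw [if_neg hi] at this
      left
      omega
  · have hw0 : ∃ i0, w i0 ≠ 0 := by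
      by_contra hall
      push Not at hall
      apply hev
      apply h.sum_even_of_four_smul
      have e : (4 : ℤ) • t = (2 : ℤ) • d := by
        funext i
        have := ht i
        rw [if_pos (hall i)] at this
        simp only [Pi.smul_apply, smul_eq_mul]
        omega
      rw [e]
      exact hd
    obtain ⟨i0, hi0⟩ := hw0
    have hev' : (2 : ℤ) ∣ ∑ i, (t + (Pi.single i0 1 : Z24)) i := by
      simp only [Pi.add_apply, Finset.sum_add_distrib, Finset.sum_pi_single', Finset.mem_univ,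
        if_true]
      omega
    have h1 := h.four_smul_mem _ hev'
    refine ⟨(2 : ℤ) • d - (4 : ℤ) • (t + (Pi.single i0 1 : Z24)), L.sub_mem hd h1, fun i => ?_⟩
    have := ht i
    simp only [Pi.sub_apply, Pi.smul_apply, Pi.add_apply, smul_eq_mul, Pi.single_apply]
    constructor
    · intro hi
      rw [if_pos hi] at this
      have hne : i ≠ i0 := by
        rintro rfl
        exact hi0 hi
      rw [if_neg hne]
      omega
    · intro hi
      rw [if_neg hi] at this
      by_cases hii : i = i0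
      · rw [if_pos hii]
        right
        omega
      · rw [if_neg hii]
        left
        omega

/-- the nonzero words of the code have weight at least eight -/
theorem Fr.code_weight (h : Fr L) {w : Fin 24 → ZMod 2} (hw : w ∈ code L) (hw0 : w ≠ 0) :
    8 ≤ hammingNorm w := by
  obtain ⟨c, hc, hcw⟩ := h.exists_pure hw
  have hc0 : c ≠ 0 := by
    intro h0
    apply hw0
    funext i
    by_contra hi
    have := (hcw i).2 hi
    rw [h0] at this
    simp at this
  have h1 := h.min32 c hc hc0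
  have h2 : c ⬝ᵥ c = 4 * ((hammingNorm w : ℕ) : ℤ) := by
    rw [hammingNorm_eq_sum, Finset.mul_sum]
    apply Finset.sum_congr rfl
    intro i _
    by_cases hi : w i = 0
    · rw [if_pos hi, (hcw i).1 hi]
      ring
    · rw [if_neg hi]
      rcases (hcw i).2 hi with h' | h' <;> rw [h'] <;> ring
  rw [h2] at h1
  omega

end Cfsg.Agent.Lib.Helper1.LeechChar
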