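import Mathlib
import Cfsg.Agent.Lib.Helper1.LeechCharA

/-!
# Shapes of the minimal vectors in frame coordinates
-/

set_option autoImplicit false

namespace Cfsg.Agent.Lib.Helper1.LeechChar

open Matrix

variable {L : AddSubgroup Z24}

theorem exists_of_sum_eq_one {ι : Type*} [DecidableEq ι] (s : Finset ι) (g : ι → ℕ)
    (h : ∑ i ∈ s, g i = 1) : ∃ j ∈ s, g j = 1 ∧ ∀ i ∈ s, i ≠ j → g i = 0 := by
  have h0 : ∃ j ∈ s, g j ≠ 0 := by
    by_contra hall
    push Not at hall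
    rw [Finset.sum_eq_zero (fun i hi => hall i hi)] at h
    exact zero_ne_one h
  obtain ⟨j, hj, hgj⟩ := h0
  rw [← Finset.add_sum_erase s g hj] at h
  have h1 : g j = 1 := by omega
  have h2 : ∑ i ∈ s.erase j, g i = 0 := by omega
  refine ⟨j, hj, h1, fun i hi hij => ?_⟩
  exact Finset.sum_eq_zero_iff.mp h2 i (Finset.mem_erase.mpr ⟨hij, hi⟩)

theorem sq_eq_one {a : ℤ} (h : a * a = 1) : a = 1 ∨ a = -1 := by
  have h1 : a ≤ 1 := by nlinarith
  have h2 : -1 ≤ a := by nlinarith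
  interval_cases a <;> simp_all

theorem sq_eq_nine {a : ℤ} (h : a * a = 9) : a = 3 ∨ a = -3 := by
  have h1 : a ≤ 3 := by nlinarith
  have h2 : -3 ≤ a := by nlinarith
  interval_cases a <;> simp_all

theorem sq_eq_zero' {a : ℤ} (h : a * a = 0) : a = 0 := by
  rcases mul_eq_zero.mp h with h | h <;> exact h

theorem odd_sq (a : ℤ) (ha : ¬ (2 : ℤ) ∣ a) : ∃ k : ℕ, a * a = 8 * (k : ℤ) + 1 := by
  have h2 : a = 2 * (a / 2) + 1 := by omega
  generalize a / 2 = b at h2
  subst h2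
  obtain ⟨m, hm⟩ := Int.even_mul_succ_self b
  have hm0 : 0 ≤ m := by nlinarith [mul_self_nonneg (2 * b + 1)]
  refine ⟨m.toNat, ?_⟩
  rw [Int.toNat_of_nonneg hm0]
  linear_combination 4 * hm

/-- the shape of an odd vector of norm 32 -/
theorem odd_shape {c : Z24} (hodd : ∀ i, ¬ (2 : ℤ) ∣ c i) (h32 : c ⬝ᵥ c = 32) :
    ∃ j, c j * c j = 9 ∧ ∀ i, i ≠ j → c i * c i = 1 := by
  choose k hk using fun i => odd_sq (c i) (hodd i)
  have h1 : ∑ i, k i = 1 := by
    have h2 : c ⬝ᵥ c = ∑ i, (8 * (k i : ℤ) + 1) := Finset.sum_congr rfl (fun i _ => hk i)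
    rw [h32, Finset.sum_add_distrib, ← Finset.mul_sum] at h2
    simp only [Finset.sum_const, Finset.card_univ, Fintype.card_fin, nsmul_eq_mul, Nat.cast_ofNat,
      mul_one] at h2
    have h3 : (∑ i, (k i : ℤ)) = 1 := by omega
    exact_mod_cast h3
  obtain ⟨j, -, hj1, hj2⟩ := exists_of_sum_eq_one Finset.univ k h1
  refine ⟨j, ?_, fun i hij => ?_⟩
  · rw [hk j, hj1]
    norm_num
  · rw [hk i, hj2 i (Finset.mem_univ i) hij]
    norm_num

/-- the shape of a vector of norm 2 -/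
theorem four_shape {d : Z24} (h2 : d ⬝ᵥ d = 2) :
    ∃ j k, j < k ∧ (d j = 1 ∨ d j = -1) ∧ (d k = 1 ∨ d k = -1) ∧ ∀ i, i ≠ j → i ≠ k → d i = 0 := by
  have hg : ∀ i, (((d i * d i).toNat : ℕ) : ℤ) = d i * d i :=
    fun i => Int.toNat_of_nonneg (mul_self_nonneg _)
  have h1 : ∑ i, (d i * d i).toNat = 2 := by
    have : ((∑ i, (d i * d i).toNat : ℕ) : ℤ) = 2 := by
      rw [Nat.cast_sum, ← h2]
      exact Finset.sum_congr rfl (fun i _ => hg i)
    exact_mod_cast this
  have h0 : ∃ j, (d j * d j).toNat ≠ 0 := by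
    by_contra hall
    push Not at hall
    rw [Finset.sum_eq_zero (fun i _ => hall i)] at h1
    omega
  obtain ⟨j, hj⟩ := h0
  rw [← Finset.add_sum_erase Finset.univ _ (Finset.mem_univ j)] at h1
  have hj1 : d j * d j = 1 := by
    have h3 : (d j * d j).toNat ≤ 2 := by omega
    have h4 : d j * d j ≤ 2 := by
      rw [← hg j]
      exact_mod_cast h3
    have h5 : d j * d j ≠ 0 := by
      intro h'
      rw [h'] at hj
      exact hj rfl
    have h6 : d j ≤ 1 := by nlinarith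
    have h7 : -1 ≤ d j := by nlinarith
    interval_cases (d j) <;> simp_all
  have hj2 : (d j * d j).toNat = 1 := by
    rw [hj1]
    rfl
  rw [hj2] at h1
  have h8 : ∑ i ∈ Finset.univ.erase j, (d i * d i).toNat = 1 := by omega
  obtain ⟨k, hk, hk1, hk2⟩ := exists_of_sum_eq_one _ _ h8
  have hkj : k ≠ j := (Finset.mem_erase.mp hk).1
  have hk3 : d k * d k = 1 := by
    rw [← hg k, hk1]
    rfl
  have hrest : ∀ i, i ≠ j → i ≠ k → d i = 0 := by
    intro i hij hik
    have := hk2 i (Finset.mem_erase.mpr ⟨hij, Finset.mem_univ i⟩) hik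
    apply sq_eq_zero'
    rw [← hg i, this]
    rfl
  rcases lt_or_gt_of_ne hkj with h' | h'
  · exact ⟨k, j, h', sq_eq_one hk3, sq_eq_one hj1, fun i hik hij => hrest i hij hik⟩
  · exact ⟨j, k, h', sq_eq_one hj1, sq_eq_one hk3, hrest⟩

/-- the shape of an even vector of norm 8 with eight odd halves -/
theorem even_shape {d : Z24} (h8 : d ⬝ᵥ d = 8)
    (hw : ∑ i, (if (2 : ℤ) ∣ d i then (0 : ℤ) else 1) = 8) :
    ∀ i, d i = 0 ∨ d i = 1 ∨ d i = -1 := by
  have hnn : ∀ i ∈ Finset.univ, 0 ≤ d i * d i - (if (2 : ℤ) ∣ d i then (0 : ℤ) else 1) := by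
    intro i _
    split_ifs with hi
    · nlinarith [mul_self_nonneg (d i)]
    · have : d i ≠ 0 := by
        rintro h0
        rw [h0] at hi
        exact hi (dvd_zero _)
      have : 1 ≤ d i * d i := by
        rcases lt_or_gt_of_ne this with h' | h' <;> nlinarith
      omega
  have hsum : ∑ i, (d i * d i - (if (2 : ℤ) ∣ d i then (0 : ℤ) else 1)) = 0 := by
    rw [Finset.sum_sub_distrib, hw]
    have : ∑ i, d i * d i = d ⬝ᵥ d := rfl
    rw [this, h8]
    norm_num
  have hz := (Finset.sum_eq_zero_iff_of_nonneg hnn).mp hsum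
  intro i
  have := hz i (Finset.mem_univ i)
  split_ifs at this with hi
  · left
    apply sq_eq_zero'
    omega
  · right
    apply sq_eq_one
    omega

end Cfsg.Agent.Lib.Helper1.LeechChar
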