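import Mathlib
import Cfsg.Agent.Lib.Helper1.LeechCharB

/-!
# Counting the minimal vectors in frame coordinates
-/

set_option autoImplicit false

namespace Cfsg.Agent.Lib.Helper1.LeechChar

open Matrix

variable {L : AddSubgroup Z24}

/-- a sign -/
def sg (b : Bool) : ℤ := if b then 1 else -1

/-- the vectors with two entries of absolute value four -/
def G4 (p : Fin 24 × Fin 24 × Bool × Bool) : Z24 :=
  Pi.single p.1 (sg p.2.2.1 * 4) + Pi.single p.2.1 (sg p.2.2.2 * 4)

/-- the parameters -/
def P4 : Finset (Fin 24 × Fin 24 × Bool × Bool) := Finset.univ.filter (fun p => p.1 < p.2.1)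

theorem card_P4 : P4.card = 1104 := by decide +kernel

theorem card_four_le (T : Finset Z24) (hT : ∀ c ∈ T, c ⬝ᵥ c = 32 ∧ ∀ i, (4 : ℤ) ∣ c i) :
    T.card ≤ 1104 := by
  classical
  rw [← card_P4]
  have hsub : T ⊆ P4.image G4 := by
    intro c hc
    obtain ⟨h32, hdiv⟩ := hT c hc
    choose d hd using hdiv
    have hcd : c = (4 : ℤ) • d := funext (fun i => by
      rw [Pi.smul_apply, smul_eq_mul]
      exact hd i)
    have h2 : d ⬝ᵥ d = 2 := by
      rw [hcd, smul_dotProduct, dotProduct_smul, smul_eq_mul, smul_eq_mul] at h32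
      omega
    obtain ⟨j, k, hjk, hj, hk, hrest⟩ := four_shape h2
    rw [Finset.mem_image]
    refine ⟨(j, k, decide (d j = 1), decide (d k = 1)),
      Finset.mem_filter.mpr ⟨Finset.mem_univ _, hjk⟩, ?_⟩
    funext i
    unfold G4
    simp only [Pi.add_apply, Pi.single_apply]
    rw [hd i]
    by_cases hij : i = j
    · rw [if_pos hij, if_neg (by rw [hij]; exact ne_of_lt hjk), hij]
      rcases hj with h | h <;> simp [sg, h]
    · by_cases hik : i = k
      · rw [if_neg hij, if_pos hik, hik]
        rcases hk with h | h <;> simp [sg, h]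
      · rw [if_neg hij, if_neg hik, hrest i hij hik]
        simp
  exact (Finset.card_le_card hsub).trans Finset.card_image_le

/-- a packing bound -/
theorem packing (O : Finset (Finset (Fin 24))) (h8 : ∀ S ∈ O, S.card = 8)
    (hint : ∀ S ∈ O, ∀ S' ∈ O, S ≠ S' → (S ∩ S').card ≤ 4) : O.card ≤ 759 := by
  classical
  have hdisj : ∀ S ∈ O, ∀ S' ∈ O, S ≠ S' →
      Disjoint (S.powersetCard 5) (S'.powersetCard 5) := by
    intro S hS S' hS' hne
    rw [Finset.disjoint_left]
    intro t ht ht'
    rw [Finset.mem_powersetCard] at ht ht'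
    have h1 : t ⊆ S ∩ S' := Finset.subset_inter ht.1 ht'.1
    have h2 := Finset.card_le_card h1
    have h3 := hint S hS S' hS' hne
    omega
  have h1 : (O.biUnion (fun S => S.powersetCard 5)).card = ∑ S ∈ O, (S.powersetCard 5).card :=
    Finset.card_biUnion (fun S hS S' hS' hne => hdisj S hS S' hS' hne)
  have h2 : ∑ S ∈ O, (S.powersetCard 5).card = 56 * O.card := by
    have : ∀ S ∈ O, (S.powersetCard 5).card = 56 := by
      intro S hS
      rw [Finset.card_powersetCard, h8 S hS]
      rfl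
    rw [Finset.sum_congr rfl this, Finset.sum_const, smul_eq_mul, mul_comm]
  have h3 : O.biUnion (fun S => S.powersetCard 5) ⊆
      (Finset.univ : Finset (Fin 24)).powersetCard 5 := by
    intro t ht
    rw [Finset.mem_biUnion] at ht
    obtain ⟨S, _, hS⟩ := ht
    rw [Finset.mem_powersetCard] at hS ⊢
    exact ⟨Finset.subset_univ _, hS.2⟩
  have h4 := Finset.card_le_card h3
  rw [h1, h2, Finset.card_powersetCard, Finset.card_univ, Fintype.card_fin] at h4
  have h5 : Nat.choose 24 5 = 42504 := by decide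
  omega

open Classical in
/-- the words of the code, as a finset -/
noncomputable def codeF (L : AddSubgroup Z24) : Finset (Fin 24 → ZMod 2) :=
  Finset.univ.filter (fun w => w ∈ code L)

theorem mem_codeF {w : Fin 24 → ZMod 2} : w ∈ codeF L ↔ w ∈ code L := by
  classical
  unfold codeF
  rw [Finset.mem_filter]
  exact ⟨fun h => h.2, fun h => ⟨Finset.mem_univ _, h⟩⟩

theorem Fr.odd_of_zero (h : Fr L) {c : Z24} (hc : c ∈ L) (h0 : ¬ (2 : ℤ) ∣ c 0) :
    ∀ i, ¬ (2 : ℤ) ∣ c i := by
  rcases h.even_or_odd hc with h' | h'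
  · exact absurd (h' 0) h0
  · exact h'

theorem Fr.even_of_zero (h : Fr L) {c : Z24} (hc : c ∈ L) (h0 : (2 : ℤ) ∣ c 0) :
    ∀ i, (2 : ℤ) ∣ c i := by
  rcases h.even_or_odd hc with h' | h'
  · exact h'
  · exact absurd h0 (h' 0)

/-- the number of odd minimal vectors -/
theorem Fr.card_odd_le (h : Fr L) (T : Finset Z24)
    (hT : ∀ c ∈ T, c ∈ L ∧ c ⬝ᵥ c = 32 ∧ ¬ (2 : ℤ) ∣ c 0) : T.card ≤ 24 * (codeF L).card := by
  classical
  by_cases hTe : T = ∅
  · rw [hTe, Finset.card_empty]
    exact Nat.zero_le _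
  obtain ⟨o, ho⟩ := Finset.nonempty_iff_ne_empty.mpr hTe
  have hodd : ∀ c ∈ T, ∀ i, ¬ (2 : ℤ) ∣ c i := fun c hc => h.odd_of_zero (hT c hc).1 (hT c hc).2.2
  have hoo := hodd o ho
  have hoL := (hT o ho).1
  let W : Z24 → (Fin 24 → ZMod 2) := fun c i => (((c i - o i) / 2 : ℤ) : ZMod 2)
  have hW : ∀ c ∈ T, W c ∈ codeF L := by
    intro c hc
    rw [mem_codeF]
    refine ⟨fun i => (c i - o i) / 2, ?_, fun i => rfl⟩
    have e : (2 : ℤ) • (fun i => (c i - o i) / 2) = c - o := by
      funext i
      have h1 := hodd c hc i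
      have h2 := hoo i
      simp only [Pi.smul_apply, smul_eq_mul, Pi.sub_apply]
      omega
    rw [e]
    exact L.sub_mem (hT c hc).1 hoL
  have hcov : T ⊆ Finset.univ.biUnion (fun j : Fin 24 => T.filter (fun c => c j * c j = 9)) := by
    intro c hc
    obtain ⟨j, hj, -⟩ := odd_shape (hodd c hc) (hT c hc).2.1
    rw [Finset.mem_biUnion]
    exact ⟨j, Finset.mem_univ j, Finset.mem_filter.mpr ⟨hc, hj⟩⟩
  have hj : ∀ j : Fin 24, (T.filter (fun c => c j * c j = 9)).card ≤ (codeF L).card := by
    intro j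
    apply Finset.card_le_card_of_injOn W
    · intro c hc
      exact hW c (Finset.mem_of_mem_filter c hc)
    · intro c hc c' hc' hWW
      rw [Finset.mem_coe, Finset.mem_filter] at hc hc'
      obtain ⟨j1, hj1, hr1⟩ := odd_shape (hodd c hc.1) (hT c hc.1).2.1
      obtain ⟨j2, hj2, hr2⟩ := odd_shape (hodd c' hc'.1) (hT c' hc'.1).2.1
      have e1 : j1 = j := by
        by_contra hne
        have := hr1 j (Ne.symm hne)
        rw [hc.2] at this
        norm_num at this
      have e2 : j2 = j := by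
        by_contra hne
        have := hr2 j (Ne.symm hne)
        rw [hc'.2] at this
        norm_num at this
      rw [e1] at hj1 hr1
      rw [e2] at hj2 hr2
      funext i
      have hWi : (((c i - o i) / 2 : ℤ) : ZMod 2) = (((c' i - o i) / 2 : ℤ) : ZMod 2) :=
        congrFun hWW i
      rw [ZMod.intCast_eq_intCast_iff_dvd_sub] at hWi
      have h2 : ((2 : ℕ) : ℤ) = 2 := rfl
      rw [h2] at hWi
      have ho' := hoo i
      by_cases hij : i = j
      · rw [hij] at hWi ho' ⊢
        rcases sq_eq_nine hj1 with a | a <;> rcases sq_eq_nine hj2 with b | b <;> omega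
      · rcases sq_eq_one (hr1 i hij) with a | a <;> rcases sq_eq_one (hr2 i hij) with b | b <;>
          omega
  calc T.card ≤ (Finset.univ.biUnion (fun j : Fin 24 => T.filter (fun c => c j * c j = 9))).card :=
        Finset.card_le_card hcov
    _ ≤ ∑ j : Fin 24, (T.filter (fun c => c j * c j = 9)).card := Finset.card_biUnion_le
    _ ≤ ∑ _j : Fin 24, (codeF L).card := Finset.sum_le_sum (fun j _ => hj j)
    _ = 24 * (codeF L).card := by
        rw [Finset.sum_const, Finset.card_univ, Fintype.card_fin, smul_eq_mul]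

end Cfsg.Agent.Lib.Helper1.LeechChar
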