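import Mathlib
import Cfsg.Agent.Lib.Helper1.LeechCharC

/-!
# Counting the minimal vectors in frame coordinates: vectors of shape `2^8`
-/

set_option autoImplicit false

namespace Cfsg.Agent.Lib.Helper1.LeechChar

open Matrix

variable {L : AddSubgroup Z24}

/-- the support of a vector -/
def supp (c : Z24) : Finset (Fin 24) := Finset.univ.filter (fun i => c i ≠ 0)

/-- the word of the support -/
def ind (c : Z24) : Fin 24 → ZMod 2 := fun i => if c i = 0 then 0 else 1

theorem hammingNorm_ind (c : Z24) : hammingNorm (ind c) = (supp c).card := by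
  unfold hammingNorm supp ind
  congr 1
  ext i
  simp only [Finset.mem_filter, Finset.mem_univ, true_and]
  by_cases hi : c i = 0
  · simp [hi]
  · simp [hi]

/-- the structure of an even minimal vector that is not a multiple of four -/
theorem Fr.two_shape (h : Fr L) {c : Z24} (hc : c ∈ L) (h32 : c ⬝ᵥ c = 32) (h2 : (2 : ℤ) ∣ c 0)
    (h4 : ¬ ∀ i, (4 : ℤ) ∣ c i) :
    (∀ i, c i = 0 ∨ c i = 2 ∨ c i = -2) ∧ (supp c).card = 8 ∧ ind c ∈ code L := by
  have hev := h.even_of_zero hc h2
  choose d hd using hev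
  have hcd : c = (2 : ℤ) • d := funext (fun i => by
    rw [Pi.smul_apply, smul_eq_mul]
    exact hd i)
  have hdL : (2 : ℤ) • d ∈ L := by
    rw [← hcd]
    exact hc
  have hw : (fun i => ((d i : ℤ) : ZMod 2)) ∈ code L := ⟨d, hdL, fun i => rfl⟩
  have hw0 : (fun i => ((d i : ℤ) : ZMod 2)) ≠ 0 := by
    intro h0
    apply h4
    intro i
    have := congrFun h0 i
    have h1 := two_dvd_of_cast_eq_zero this
    rw [hd i]
    omega
  have hwt := h.code_weight hw hw0
  have h8 : d ⬝ᵥ d = 8 := by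
    rw [hcd, smul_dotProduct, dotProduct_smul, smul_eq_mul, smul_eq_mul] at h32
    omega
  have hsum : ((hammingNorm (fun i => ((d i : ℤ) : ZMod 2)) : ℕ) : ℤ) =
      ∑ i, (if (2 : ℤ) ∣ d i then (0 : ℤ) else 1) := by
    rw [hammingNorm_eq_sum]
    apply Finset.sum_congr rfl
    intro i _
    by_cases hi : (2 : ℤ) ∣ d i
    · rw [if_pos hi, if_pos (cast_eq_zero_of_two_dvd hi)]
    · rw [if_neg hi, if_neg (fun h' => hi (two_dvd_of_cast_eq_zero h'))]
  have hle : ∑ i, (if (2 : ℤ) ∣ d i then (0 : ℤ) else 1) ≤ d ⬝ᵥ d := by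
    apply Finset.sum_le_sum
    intro i _
    split_ifs with hi
    · exact mul_self_nonneg _
    · have : d i ≠ 0 := by
        rintro h0
        rw [h0] at hi
        exact hi (dvd_zero _)
      rcases lt_or_gt_of_ne this with h' | h' <;> nlinarith
  have hw8 : ∑ i, (if (2 : ℤ) ∣ d i then (0 : ℤ) else 1) = 8 := by
    have : (8 : ℤ) ≤ ((hammingNorm (fun i => ((d i : ℤ) : ZMod 2)) : ℕ) : ℤ) := by exact_mod_cast hwt
    rw [h8] at hle
    omega
  have hsh := even_shape h8 hw8
  have hind : ind c = fun i => ((d i : ℤ) : ZMod 2) := by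
    funext i
    unfold ind
    rw [hd i]
    rcases hsh i with h' | h' | h' <;> rw [h'] <;> simp
  refine ⟨fun i => ?_, ?_, ?_⟩
  · rw [hd i]
    rcases hsh i with h' | h' | h' <;> rw [h'] <;> simp
  · rw [← hammingNorm_ind, hind]
    have : ((hammingNorm (fun i => ((d i : ℤ) : ZMod 2)) : ℕ) : ℤ) = 8 := by rw [hsum, hw8]
    exact_mod_cast this
  · rw [hind]
    exact hw

theorem ind_add_ne (c c' : Z24) (i : Fin 24) :
    (ind c + ind c') i ≠ 0 ↔ (c i ≠ 0 ∧ c' i = 0) ∨ (c' i ≠ 0 ∧ c i = 0) := by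
  unfold ind
  rw [Pi.add_apply]
  by_cases h1 : c i = 0 <;> by_cases h2 : c' i = 0
  · simp [h1, h2]
  · simp [h1, h2]
  · simp [h1, h2]
  · rw [if_neg h1, if_neg h2]
    have : (1 + 1 : ZMod 2) = 0 := by decide
    simp [h1, h2, this]

/-- two distinct supports of minimal vectors meet in at most four points -/
theorem Fr.inter_le (h : Fr L) {c c' : Z24} (hc : ind c ∈ code L) (hc' : ind c' ∈ code L)
    (h8 : (supp c).card = 8) (h8' : (supp c').card = 8) (hne : supp c ≠ supp c') :
    (supp c ∩ supp c').card ≤ 4 := by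
  have hadd : ind c + ind c' ∈ code L := (code L).add_mem hc hc'
  have hfil : Finset.univ.filter (fun i => (ind c + ind c') i ≠ 0) =
      (supp c \ supp c') ∪ (supp c' \ supp c) := by
    ext i
    rw [Finset.mem_filter, ind_add_ne, Finset.mem_union, Finset.mem_sdiff, Finset.mem_sdiff]
    unfold supp
    simp only [Finset.mem_filter, Finset.mem_univ, true_and, not_not]
  have hne0 : ind c + ind c' ≠ 0 := by
    intro h0
    apply hne
    have h1 : Finset.univ.filter (fun i => (ind c + ind c') i ≠ 0) = ∅ := by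
      rw [h0]
      simp
    rw [hfil, Finset.union_eq_empty, Finset.sdiff_eq_empty_iff_subset,
      Finset.sdiff_eq_empty_iff_subset] at h1
    exact Finset.Subset.antisymm h1.1 h1.2
  have hwt := h.code_weight hadd hne0
  have hcard : hammingNorm (ind c + ind c') = (supp c \ supp c').card + (supp c' \ supp c).card := by
    unfold hammingNorm
    rw [hfil, Finset.card_union_of_disjoint]
    rw [Finset.disjoint_left]
    intro i hi hi'
    rw [Finset.mem_sdiff] at hi hi'
    exact hi.2 hi'.1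
  have e1 := Finset.card_sdiff_add_card_inter (supp c) (supp c')
  have e2 := Finset.card_sdiff_add_card_inter (supp c') (supp c)
  rw [Finset.inter_comm] at e2
  omega

/-- the number of minimal vectors with a given support -/
theorem Fr.fiber_le (h : Fr L) (T : Finset Z24) (S : Finset (Fin 24)) (hS : S.card = 8)
    (hT : ∀ c ∈ T, c ∈ L ∧ (∀ i, c i = 0 ∨ c i = 2 ∨ c i = -2) ∧ supp c = S) :
    T.card ≤ 128 := by
  classical
  have hne : S.Nonempty := by
    rw [← Finset.card_pos, hS]
    norm_num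
  obtain ⟨i0, hi0⟩ := hne
  have hpc : ((S.erase i0).powerset).card = 128 := by
    rw [Finset.card_powerset, Finset.card_erase_of_mem hi0, hS]
    rfl
  rw [← hpc]
  apply Finset.card_le_card_of_injOn (fun c => (S.erase i0).filter (fun i => c i = 2))
  · intro c _
    rw [Finset.mem_coe, Finset.mem_powerset]
    exact Finset.filter_subset _ _
  · intro c hc c' hc' hcc
    rw [Finset.mem_coe] at hc hc'
    obtain ⟨hcL, hcs, hcS⟩ := hT c hc
    obtain ⟨hcL', hcs', hcS'⟩ := hT c' hc'
    have hmemS : ∀ (x : Z24), supp x = S → ∀ i, i ∈ S ↔ x i ≠ 0 := by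
      intro x hx i
      rw [← hx]
      unfold supp
      simp
    have hrest : ∀ i, i ≠ i0 → c i = c' i := by
      intro i hi
      by_cases hiS : i ∈ S
      · have hm : i ∈ S.erase i0 := Finset.mem_erase.mpr ⟨hi, hiS⟩
        have h1 : c i ≠ 0 := (hmemS c hcS i).mp hiS
        have h1' : c' i ≠ 0 := (hmemS c' hcS' i).mp hiS
        have h2 : c i = 2 ↔ c' i = 2 := by
          have := Finset.ext_iff.mp hcc i
          simp only [Finset.mem_filter] at this
          constructor
          · intro h'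
            exact (this.mp ⟨hm, h'⟩).2
          · intro h'
            exact (this.mpr ⟨hm, h'⟩).2
        rcases hcs i with a | a | a <;> rcases hcs' i with b | b | b <;> omega
      · have h1 : c i = 0 := by
          by_contra hn
          exact hiS ((hmemS c hcS i).mpr hn)
        have h1' : c' i = 0 := by
          by_contra hn
          exact hiS ((hmemS c' hcS' i).mpr hn)
        rw [h1, h1']
    have hi0c : c i0 = c' i0 := by
      by_contra hne0
      have h1 : c i0 ≠ 0 := (hmemS c hcS i0).mp hi0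
      have h1' : c' i0 ≠ 0 := (hmemS c' hcS' i0).mp hi0
      have hdiff : c - c' = (4 : ℤ) • (Pi.single i0 ((c i0 - c' i0) / 4) : Z24) := by
        funext i
        simp only [Pi.sub_apply, Pi.smul_apply, smul_eq_mul, Pi.single_apply]
        by_cases hi : i = i0
        · rw [if_pos hi, hi]
          rcases hcs i0 with a | a | a <;> rcases hcs' i0 with b | b | b <;> omega
        · rw [if_neg hi, hrest i hi]
          simp
      have hmem : (4 : ℤ) • (Pi.single i0 ((c i0 - c' i0) / 4) : Z24) ∈ L := by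
        rw [← hdiff]
        exact L.sub_mem hcL hcL'
      have h3 := h.sum_even_of_four_smul hmem
      rw [Finset.sum_pi_single'] at h3
      simp only [Finset.mem_univ, if_true] at h3
      rcases hcs i0 with a | a | a <;> rcases hcs' i0 with b | b | b <;> omega
    funext i
    by_cases hi : i = i0
    · rw [hi]
      exact hi0c
    · exact hrest i hi

/-- the number of minimal vectors of shape `2^8` -/
theorem Fr.card_two_le (h : Fr L) (T : Finset Z24)
    (hT : ∀ c ∈ T, c ∈ L ∧ c ⬝ᵥ c = 32 ∧ (2 : ℤ) ∣ c 0 ∧ ¬ ∀ i, (4 : ℤ) ∣ c i) :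
    T.card ≤ 128 * 759 := by
  classical
  have hsh : ∀ c ∈ T, (∀ i, c i = 0 ∨ c i = 2 ∨ c i = -2) ∧ (supp c).card = 8 ∧
      ind c ∈ code L :=
    fun c hc => h.two_shape (hT c hc).1 (hT c hc).2.1 (hT c hc).2.2.1 (hT c hc).2.2.2
  have hO : (T.image supp).card ≤ 759 := by
    apply packing
    · intro S hS
      rw [Finset.mem_image] at hS
      obtain ⟨c, hc, rfl⟩ := hS
      exact (hsh c hc).2.1
    · intro S hS S' hS' hne
      rw [Finset.mem_image] at hS hS'
      obtain ⟨c, hc, rfl⟩ := hS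
      obtain ⟨c', hc', rfl⟩ := hS'
      exact h.inter_le (hsh c hc).2.2 (hsh c' hc').2.2 (hsh c hc).2.1 (hsh c' hc').2.1 hne
  rw [Finset.card_eq_sum_card_image supp T]
  calc ∑ S ∈ T.image supp, (T.filter (fun c => supp c = S)).card
      ≤ ∑ _S ∈ T.image supp, 128 := by
        apply Finset.sum_le_sum
        intro S hS
        rw [Finset.mem_image] at hS
        obtain ⟨c0, hc0, rfl⟩ := hS
        apply h.fiber_le _ (supp c0) (hsh c0 hc0).2.1
        intro c hc
        rw [Finset.mem_filter] at hc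
        exact ⟨(hT c hc.1).1, (hsh c hc.1).1, hc.2⟩
    _ = 128 * (T.image supp).card := by rw [Finset.sum_const, smul_eq_mul, mul_comm]
    _ ≤ 128 * 759 := Nat.mul_le_mul_left _ hO

/-- the minimal vectors -/
def MinSet (L : AddSubgroup Z24) : Set Z24 := {c | c ∈ L ∧ c ⬝ᵥ c = 32}

/-- the count of the minimal vectors forces a large code and an odd vector -/
theorem Fr.count (h : Fr L) (hcnt : (MinSet L).ncard = 196560) :
    4096 ≤ (codeF L).card ∧ ∃ o ∈ L, ∀ i, ¬ (2 : ℤ) ∣ o i := by
  classical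
  have hfin : (MinSet L).Finite := Set.finite_of_ncard_ne_zero (by rw [hcnt]; norm_num)
  have hM : hfin.toFinset.card = 196560 := by
    rw [← Set.ncard_eq_toFinset_card _ hfin, hcnt]
  have hmem : ∀ c, c ∈ hfin.toFinset ↔ c ∈ L ∧ c ⬝ᵥ c = 32 := fun c => hfin.mem_toFinset
  generalize hfin.toFinset = M at hM hmem
  have hcover : M ⊆ (M.filter (fun c => ¬ (2 : ℤ) ∣ c 0) ∪
      M.filter (fun c => ∀ i, (4 : ℤ) ∣ c i)) ∪
      M.filter (fun c => (2 : ℤ) ∣ c 0 ∧ ¬ ∀ i, (4 : ℤ) ∣ c i) := by
    intro c hc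
    simp only [Finset.mem_union, Finset.mem_filter]
    by_cases h0 : (2 : ℤ) ∣ c 0
    · by_cases h4 : ∀ i, (4 : ℤ) ∣ c i
      · left
        right
        exact ⟨hc, h4⟩
      · right
        exact ⟨hc, h0, h4⟩
    · left
      left
      exact ⟨hc, h0⟩
  have b1 := h.card_odd_le (M.filter (fun c => ¬ (2 : ℤ) ∣ c 0)) (by
    intro c hc
    rw [Finset.mem_filter, hmem] at hc
    exact ⟨hc.1.1, hc.1.2, hc.2⟩)
  have b2 := card_four_le (M.filter (fun c => ∀ i, (4 : ℤ) ∣ c i)) (by
    intro c hc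
    rw [Finset.mem_filter, hmem] at hc
    exact ⟨hc.1.2, hc.2⟩)
  have b3 := h.card_two_le (M.filter (fun c => (2 : ℤ) ∣ c 0 ∧ ¬ ∀ i, (4 : ℤ) ∣ c i)) (by
    intro c hc
    rw [Finset.mem_filter, hmem] at hc
    exact ⟨hc.1.1, hc.1.2, hc.2.1, hc.2.2⟩)
  have b4 := Finset.card_le_card hcover
  have b5 := Finset.card_union_le (M.filter (fun c => ¬ (2 : ℤ) ∣ c 0) ∪
      M.filter (fun c => ∀ i, (4 : ℤ) ∣ c i))
      (M.filter (fun c => (2 : ℤ) ∣ c 0 ∧ ¬ ∀ i, (4 : ℤ) ∣ c i))
  have b6 := Finset.card_union_le (M.filter (fun c => ¬ (2 : ℤ) ∣ c 0))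
      (M.filter (fun c => ∀ i, (4 : ℤ) ∣ c i))
  constructor
  · omega
  · by_contra hno
    have h0 : (M.filter (fun c => ¬ (2 : ℤ) ∣ c 0)).card = 0 := by
      rw [Finset.card_eq_zero, Finset.filter_eq_empty_iff]
      intro c hc h0
      apply hno
      rw [hmem] at hc
      exact ⟨c, hc.1, h.odd_of_zero hc.1 h0⟩
    omega

end Cfsg.Agent.Lib.Helper1.LeechChar
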