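import Cfsg.Agent.Lib.Helper1.SteinW23

set_option autoImplicit false
set_option maxRecDepth 1000000

namespace Cfsg.Agent.Lib.Helper1.Stein.W24

open Cfsg Cfsg.Agent.Lib.Helper1.Stein

/-- the blocks of the standard system -/
def K0 : List ℕ := [510, 7710, 8160, 27352, 27430, 29894, 30008, 44148, 44426, 45674, 45972, 50860, 51026, 55474, 55628, 75442, 75596, 80044, 80210, 85098, 85396, 86644, 86922, 101062, 101176, 103640, 103718, 122910, 123360, 130560, 139837, 140227, 146467, 149733, 149787, 153349, 167497, 168023, 168361, 189585, 197775, 198001, 203409, 225353, 239877, 246307, 274053, 274587, 274789, 279645, 279971, 285251, 295665, 295695, 302353, 321577, 329783, 330185, 333353, 353041, 369731, 381061, 396472, 396614, 397990, 398168, 419424, 424320, 434380, 434482, 444948, 447498, 469514, 472084, 475346, 475436, 493440, 497760, 533737, 533783, 539401, 544305, 544815, 545233, 559261, 559459, 562819, 582213, 590427, 590757, 597061,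 616579, 634929, 640265, 657108, 657194, 661706, 661812, 683020, 684562, 699040, 701760, 704632, 704902, 729190, 729496, 740160, 742560, 756754, 758284, 789100, 789394, 791666, 791948, 811188, 811338, 828952, 833542, 838848, 840480, 863520, 864960, 869894, 874520, 884906, 885076, 927825, 934537, 951333, 987395, 1058895, 1059249, 1062481, 1065623, 1065833, 1072265, 1082427, 1082821, 1088037, 1110275, 1117955, 1118435, 1118493, 1139749, 1155721, 1165393, 1182322, 1182604, 1184876, 1185170, 1204394, 1204564, 1222150, 1226776, 1232160, 1233600, 1256640, 1258272, 1263128, 1267718, 1278132, 1278282, 1312458, 1312564, 1317076, 1317162, 1338386, 1339916, 1354560, 1356960, 1359974, 1360280, 1384568, 1384838, 1395360, 1398080, 1412108, 1413650, 1451273, 1462321, 1476739, 1507909, 1576102, 1576280, 1577656, 1577798, 1599360, 1603680, 1614034, 1614124, 1624586, 1627156, 1649172, 1651722, 1654988, 1655090, 1672800, 1677696, 1716357, 1721411, 1737489,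 1771561, 1843747, 1853701, 1871945, 1901713, 1966110, 1966560, 1973760, 2088960, 2098791, 2099097, 2103417, 2103687, 2125121, 2126497, 2140691, 2143245, 2146507, 2146613, 2171093, 2171179, 2181645, 2184211, 2198689, 2200385, 2237530, 2237860, 2243140, 2248322, 2248860, 2249058, 2263086, 2263504, 2266672, 2286344, 2294504, 2294550, 2301192, 2320432, 2338946, 2344004, 2369762, 2369820, 2373378, 2376250, 2376644, 2382884, 2393238, 2393448, 2398856, 2420816, 2428496, 2429006, 2429360, 2450568, 2466340, 2476290, 2493217, 2495681, 2514951, 2588697, 2630286, 2630512, 2636944, 2639958, 2640296, 2643528, 2658052, 2658532, 2658586, 2679842, 2688060, 2688450, 2693666, 2715908, 2730056, 2736784, 2752691, 2752845, 2807809, 2827777, 2886667, 2888213, 2924929, 2965601, 3026984, 3032336, 3048002, 3082372, 3157544, 3158070, 3158472, 3163376, 3163406, 3169040, 3179100, 3179426, 3185730, 3205252, 3213466, 3213668, 3217028, 3236418, 3253520, 3264552, 3279893,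 3281419, 3317857, 3359105, 3408045, 3408211, 3458561, 3487745, 3547792, 3557448, 3576068, 3605538, 3672769, 3675425, 3694617, 3768327, 3811586, 3818020, 3835016, 3870800, 3941444, 3952770, 3967024, 3998472, 4197035, 4197205, 4199605, 4199755, 4218995, 4219277, 4237089, 4241601, 4246535, 4248089, 4271129, 4272647, 4277953, 4282657, 4292717, 4293011, 4335766, 4335976, 4339336, 4342350, 4342704, 4349008, 4359394, 4359452, 4365058, 4386852, 4394532, 4395066, 4395460, 4416770, 4432464, 4442248, 4465710, 4466128, 4471344, 4476680, 4477160, 4477206, 4491354, 4491684, 4494916, 4514434, 4522652, 4522850, 4529282, 4548676, 4567304, 4572208, 4589075, 4593677, 4636993, 4661409, 4730434, 4730972, 4731298, 4736154, 4736356, 4741764, 4751926, 4752328, 4758568, 4778256, 4786416, 4786446, 4790032, 4809256, 4826244, 4837442, 4853121, 4854369, 4890635, 4931605, 4980935, 4981049, 5010433, 5081601, 5120772, 5130274, 5148816, 5178440, 5251812, 5251866, 5258500,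 5261372, 5261762, 5264930, 5279376, 5279886, 5280112, 5301320, 5309526, 5309864, 5315144, 5337232, 5351458, 5358340, 5374169, 5374247, 5401089, 5477377, 5508193, 5510017, 5546005, 5586955, 5648450, 5653636, 5669416, 5703952, 5768717, 5773331, 5816481, 5841217, 5907504, 5918984, 5933124, 5964418, 6039688, 6046288, 6063362, 6098980, 6294732, 6294834, 6296274, 6296364, 6317588, 6322186, 6332600, 6332742, 6343264, 6346112, 6368128, 6370400, 6373542, 6373720, 6391306, 6395924, 6435089, 6439977, 6455941, 6490179, 6562377, 6572177, 6590499, 6620421, 6684788, 6685066, 6728704, 6771200, 6826021, 6832899, 6849617, 6885513, 6949400, 6951942, 6971584, 7045408, 7079584, 7084352, 7127052, 7151634, 7349379, 7360581, 7375113, 7406129, 7472960, 7477408, 7520274, 7544844, 7604742, 7607320, 7627040, 7700672, 7864426, 7864724, 7909888, 7949312, 8391891, 8391981, 8393421, 8393523, 8414731, 8419349, 8429735, 8429913, 8440705, 8442977, 8464993, 8467841, 8470713,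 8470855, 8488469, 8493067, 8531728, 8532208, 8532238, 8537142, 8537544, 8542760, 8553114, 8553316, 8559748, 8579138, 8587356, 8587682, 8590914, 8610436, 8627240, 8638736, 8659542, 8659880, 8666184, 8669326, 8669552, 8672912, 8687138, 8687676, 8688066, 8709380, 8717540, 8717594, 8723204, 8744994, 8759440, 8766024, 8781931, 8782229, 8827393, 8866817, 8923194, 8923588, 8926756, 8930018, 8930076, 8936706, 8946766, 8947120, 8952400, 8974472, 8982152, 8982678, 8982888, 9004112, 9020162, 9029668, 9046535, 9049113, 9068833, 9142465, 9176897, 9181345, 9224211, 9248781, 9315458, 9326660, 9341192, 9372208, 9446556, 9446754, 9452162, 9457220, 9457754, 9458084, 9472232, 9472278, 9475848, 9495088, 9503278, 9503696, 9509936, 9529608, 9547844, 9553026, 9569953, 9574721, 9617421, 9642003, 9701913, 9704455, 9724097, 9797921, 9840676, 9847554, 9864272, 9900168, 9961589, 9961867, 10005505, 10048001, 10101320, 10111120, 10129442, 10159364, 10236176, 10241064,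 10257028, 10291266, 10488500, 10488650, 10491050, 10491220, 10510444, 10510738, 10528448, 10533152, 10538008, 10539526, 10562566, 10564120, 10569504, 10574016, 10584178, 10584460, 10627209, 10633809, 10650883, 10686501, 10757169, 10768649, 10782789, 10814083, 10880524, 10885138, 10928288, 10953024, 11022403, 11027589, 11043369, 11077905, 11144288, 11146112, 11182100, 11223050, 11272408, 11272486, 11299328, 11375616, 11543301, 11552803, 11571345, 11600969, 11665606, 11665720, 11695104, 11766272, 11799936, 11801184, 11837450, 11878420, 12060178, 12064780, 12108096, 12132512, 12584568, 12584838, 12589158, 12589464, 12610720, 12612416, 12626444, 12629010, 12632276, 12632362, 12656842, 12656948, 12667410, 12669964, 12684608, 12685984, 12723269, 12734595, 12748849, 12780297, 12855555, 12861989, 12878985, 12914769, 12978880, 12981536, 13000728, 13074438, 13116049, 13125705, 13144325, 13173795, 13238444, 13238610, 13288960, 13318144, 13372436,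 13373962, 13410400, 13451648, 13643817, 13649169, 13664835, 13699205, 13765642, 13767188, 13803904, 13844576, 13893810, 13893964, 13948928, 13968896, 14158624, 14161088, 14180358, 14254104, 14680095, 14680545, 14687745, 14802945, 14819874, 14829828, 14848072, 14877840, 14954628, 14959682, 14975760, 15009832, 15213832, 15224880, 15239298, 15270468, 15738960, 15745672, 15762468, 15798530, 16646145]

/-- the blocks through the last point -/
def K1 : List ℕ := [8391891, 8391981, 8393421, 8393523, 8414731, 8419349, 8429735, 8429913, 8440705, 8442977, 8464993, 8467841, 8470713, 8470855, 8488469, 8493067, 8531728, 8532208, 8532238, 8537142, 8537544, 8542760, 8553114, 8553316, 8559748, 8579138, 8587356, 8587682, 8590914, 8610436, 8627240, 8638736, 8659542, 8659880, 8666184, 8669326, 8669552, 8672912, 8687138, 8687676, 8688066, 8709380, 8717540, 8717594, 8723204, 8744994, 8759440, 8766024, 8781931, 8782229, 8827393, 8866817, 8923194, 8923588,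 8926756, 8930018, 8930076, 8936706, 8946766, 8947120, 8952400, 8974472, 8982152, 8982678, 8982888, 9004112, 9020162, 9029668, 9046535, 9049113, 9068833, 9142465, 9176897, 9181345, 9224211, 9248781, 9315458, 9326660, 9341192, 9372208, 9446556, 9446754, 9452162, 9457220, 9457754, 9458084, 9472232, 9472278, 9475848, 9495088, 9503278, 9503696, 9509936, 9529608, 9547844, 9553026, 9569953, 9574721, 9617421, 9642003, 9701913, 9704455, 9724097, 9797921, 9840676, 9847554, 9864272, 9900168, 9961589, 9961867, 10005505, 10048001, 10101320, 10111120, 10129442, 10159364, 10236176, 10241064, 10257028, 10291266, 10488500, 10488650, 10491050, 10491220, 10510444, 10510738, 10528448, 10533152, 10538008, 10539526, 10562566, 10564120, 10569504, 10574016, 10584178, 10584460, 10627209, 10633809, 10650883, 10686501, 10757169, 10768649, 10782789, 10814083, 10880524, 10885138, 10928288, 10953024, 11022403, 11027589, 11043369, 11077905, 11144288, 11146112, 11182100,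 11223050, 11272408, 11272486, 11299328, 11375616, 11543301, 11552803, 11571345, 11600969, 11665606, 11665720, 11695104, 11766272, 11799936, 11801184, 11837450, 11878420, 12060178, 12064780, 12108096, 12132512, 12584568, 12584838, 12589158, 12589464, 12610720, 12612416, 12626444, 12629010, 12632276, 12632362, 12656842, 12656948, 12667410, 12669964, 12684608, 12685984, 12723269, 12734595, 12748849, 12780297, 12855555, 12861989, 12878985, 12914769, 12978880, 12981536, 13000728, 13074438, 13116049, 13125705, 13144325, 13173795, 13238444, 13238610, 13288960, 13318144, 13372436, 13373962, 13410400, 13451648, 13643817, 13649169, 13664835, 13699205, 13765642, 13767188, 13803904, 13844576, 13893810, 13893964, 13948928, 13968896, 14158624, 14161088, 14180358, 14254104, 14680095, 14680545, 14687745, 14802945, 14819874, 14829828, 14848072, 14877840, 14954628, 14959682, 14975760, 15009832, 15213832, 15224880, 15239298, 15270468, 15738960, 15745672,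 15762468, 15798530, 16646145]

theorem K1_eq : K1 = W23.K0.map (fun m => m ||| 1 <<< 23) := by decide +kernel

def c0 : Cert := (.excl 12 (.excl 12 (.excl 12 (.excl 12 (.excl 19 (.excl 19 (.excl 19 (.excl 35 (.excl 35 (.excl 90 (.excl 6 (.excl 6 (.excl 6 (.excl 6 (.excl 6 (.excl 6 (.excl 6 (.excl 6 (.excl 6 (.excl 6 (.excl 48 (.excl 48 (.excl 48 (.excl 48 (.excl 48 (.excl 75 (.excl 48 (.excl 48 (.excl 48 (.excl 48 Cert.done))))))))))))))))))))))))))))))

def c1 : Cert := (.excl 18 (.excl 39 (.excl 39 (.excl 90 (.excl 4 (.excl 4 (.excl 4 (.excl 4 (.excl 4 (.excl 4 (.excl 6 (.excl 6 (.excl 6 (.excl 6 (.excl 6 (.excl 6 (.excl 6 (.excl 6 (.excl 6 (.excl 6 (.excl 6 (.excl 6 (.excl 6 (.excl 6 (.excl 6 (.excl 6 (.excl 6 (.excl 6 (.excl 6 (.excl 6 c0))))))))))))))))))))))))))))))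

def c2 : Cert := (.excl 14 (.excl 16 (.excl 16 (.excl 16 (.excl 14 (.excl 14 (.excl 14 (.excl 27 (.excl 27 (.excl 36 (.excl 7 (.excl 7 (.excl 7 (.excl 7 (.excl 14 (.excl 14 (.excl 14 (.excl 19 (.excl 19 (.excl 33 (.excl 14 (.excl 14 (.excl 14 (.excl 49 (.excl 49 (.excl 49 (.excl 14 (.excl 14 (.excl 14 (.excl 49 Cert.done))))))))))))))))))))))))))))))

def c3 : Cert := (.excl 23 (.excl 2 (.excl 23 (.excl 23 (.excl 2 (.excl 124 (.excl 182 (.excl 2 (.excl 2 (.excl 124 (.excl 1 (.excl 1 (.excl 1 (.excl 1 (.excl 94 (.excl 138 (.excl 191 (.excl 94 (.excl 94 (.excl 138 (.excl 23 (.excl 23 (.excl 23 (.excl 23 (.excl 23 (.excl 23 (.excl 105 (.excl 105 (.excl 144 (.excl 112 Cert.done))))))))))))))))))))))))))))))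

def c4 : Cert := (.excl 11 (.excl 11 (.excl 11 (.excl 1 (.excl 11 (.excl 11 (.excl 11 (.excl 11 (.excl 9 (.excl 11 (.excl 11 (.excl 14 (.excl 22 (.excl 22 (.excl 11 (.excl 11 (.excl 2 (.excl 14 (.excl 9 (.excl 68 (.excl 0 (.excl 0 (.excl 11 (.excl 0 (.excl 9 (.excl 150 (.excl 0 (.excl 9 (.excl 11 (.excl 9 Cert.done))))))))))))))))))))))))))))))

def c5 : Cert := (.excl 39 (.excl 39 (.excl 35 (.excl 18 (.excl 39 (.excl 34 (.excl 34 (.excl 39 (.excl 39 (.excl 34 (.excl 51 (.excl 39 (.excl 35 (.excl 49 (.excl 30 (.excl 37 (.excl 30 (.excl 37 (.excl 30 (.excl 37 (.excl 39 (.excl 35 (.excl 26 (.excl 31 (.excl 39 (.excl 35 (.excl 32 (.excl 30 (.excl 34 (.excl 39 Cert.done))))))))))))))))))))))))))))))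

def c6 : Cert := (.excl 26 (.excl 31 (.excl 38 (.excl 38 (.excl 37 (.excl 18 (.excl 23 (.excl 39 (.excl 27 (.excl 18 (.excl 37 (.excl 23 (.excl 37 (.excl 37 (.excl 36 (.excl 23 (.excl 39 (.excl 35 (.excl 18 (.excl 7 (.excl 23 (.excl 23 (.excl 37 (.excl 36 (.excl 36 (.excl 6 (.excl 39 (.excl 39 (.excl 37 (.excl 20 c5))))))))))))))))))))))))))))))

def c7 : Cert := (.excl 97 (.excl 33 (.excl 97 (.excl 97 (.excl 104 (.excl 106 (.excl 104 (.excl 113 (.excl 104 (.excl 113 (.excl 119 (.excl 33 (.excl 100 (.excl 88 (.excl 119 (.excl 119 (.excl 119 (.excl 117 (.excl 88 (.excl 114 (.excl 62 (.excl 103 (.excl 118 (.excl 103 (.excl 88 (.excl 115 (.excl 103 (.excl 104 (.excl 111 (.excl 112 Cert.done))))))))))))))))))))))))))))))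

def c8 : Cert := (.excl 112 (.excl 112 (.excl 112 (.excl 112 (.excl 89 (.excl 97 (.excl 106 (.excl 109 (.excl 106 (.excl 89 (.excl 100 (.excl 119 (.excl 109 (.excl 100 (.excl 89 (.excl 62 (.excl 62 (.excl 100 (.excl 116 (.excl 62 (.excl 106 (.excl 111 (.excl 109 (.excl 109 (.excl 111 (.excl 33 (.excl 119 (.excl 33 (.excl 113 (.excl 89 c7))))))))))))))))))))))))))))))

def c9 : Cert := (.excl 117 (.excl 117 (.excl 107 (.excl 117 (.excl 112 (.excl 116 (.excl 144 (.excl 119 (.excl 115 (.excl 52 (.excl 109 (.excl 92 (.excl 112 (.excl 51 (.excl 97 (.excl 119 (.excl 112 (.excl 113 (.excl 93 (.excl 115 (.excl 119 (.excl 78 (.excl 115 (.excl 95 (.excl 55 (.excl 112 (.excl 115 (.excl 112 (.excl 112 (.excl 108 c8))))))))))))))))))))))))))))))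

def c10 : Cert := (.excl 92 (.excl 51 (.excl 51 (.excl 55 (.excl 55 (.excl 112 (.excl 92 (.excl 95 (.excl 97 (.excl 57 (.excl 97 (.excl 116 (.excl 109 (.excl 92 (.excl 116 (.excl 51 (.excl 97 (.excl 79 (.excl 97 (.excl 97 (.excl 97 (.excl 97 (.excl 119 (.excl 117 (.excl 94 (.excl 95 (.excl 55 (.excl 53 (.excl 97 (.excl 97 c9))))))))))))))))))))))))))))))

def c11 : Cert := (.excl 108 (.excl 93 (.excl 109 (.excl 57 (.excl 109 (.excl 52 (.excl 109 (.excl 109 (.excl 109 (.excl 113 (.excl 97 (.excl 79 (.excl 109 (.excl 113 (.excl 93 (.excl 118 (.excl 119 (.excl 78 (.excl 94 (.excl 118 (.excl 118 (.excl 53 (.excl 113 (.excl 118 (.excl 109 (.excl 108 (.excl 107 (.excl 109 (.excl 109 (.excl 113 c10))))))))))))))))))))))))))))))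

def c12 : Cert := (.forced 20520 15 [498, 476, 207, 142] 3264552 (.forced 20546 15 [562, 433, 234, 187] 4837442 (.forced 20610 18 [672, 235, 226, 192] 3952770 (.forced 20744 17 [621, 227, 210, 147] 5918984 (.forced 24768 17 [583, 237, 218, 99] 6971584 (.forced 24864 18 [552, 243, 212, 100] 7627040 (.forced 33320 17 [633, 234, 214, 153] 5669416 (.forced 33346 17 [702, 241, 235, 196] 3048002 (.forced 33928 17 [683, 231, 221, 155] 3835016 (.forced 34050 18 [624, 246, 232, 198] 6063362 (.forced 34864 18 [681, 229, 218, 200] 3967024 (.forced 34884 17 [630, 245, 230, 155] 5933124 (.forced 37008 17 [651, 228, 225, 202] 5148816 (.forced 37124 17 [696, 250, 229, 157] 3576068 (.forced 44032 17 [601, 237, 233, 35] 6728704 (.forced 45568 19 [542, 243, 231, 36] 7909888 (.forced 66178 17 [636, 250, 240, 207] 5964418 (.forced 66312 18 [689, 241, 225, 162] 3998472 (.forced 66594 17 [702, 255, 245, 209] 3605538 (.forced 66632 17 [659, 246, 232, 164]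 5178440 (.forced 67716 17 [716, 254, 235, 166] 3082372 (.forced 67856 17 [649, 236, 229, 209] 5703952 (.forced 69668 18 [638, 259, 242, 168] 6098980 (.forced 69712 17 [699, 243, 236, 211] 3870800 (.forced 84992 19 [552, 251, 239, 45] 7949312 (.forced 86528 17 [613, 249, 245, 46] 6771200 (.forced 98496 18 [574, 260, 239, 121] 7700672 (.forced 98592 17 [607, 264, 235, 122] 7045408 (.forced 122880 17 [740, 297, 123, 49] 2088960 (.leaf [0, 1, 2, 3, 4, 5, 6, 7, 8, 9, 10, 11, 12, 13, 14, 15, 16, 17, 18, 19, 20, 21, 22, 23] [329, 299, 235, 243, 267, 262, 236, 248, 252, 257, 245, 176, 218, 219, 173, 220, 174, 175, 217, 256, 244, 249, 253, 263, 237, 242, 266, 298, 124, 50, 449, 462, 458, 409, 474, 403, 377, 498, 385, 352, 503, 382, 375, 359, 349, 456, 404, 473, 408, 439, 463, 461, 383, 502, 366, 363, 501, 384, 379, 345, 455, 388, 238, 260, 265, 241, 106, 52, 130, 184, 113, 89, 120, 84, 181, 131, 91, 57, 387, 494, 372, 378, 505, 380, 427, 464,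 460, 391, 483, 407, 401, 453, 361, 346, 247, 255, 258, 250, 88, 116, 102, 68, 229, 127, 269, 126, 93, 75, 85, 117, 178, 212, 222, 169, 232, 228, 112, 66, 73, 95, 70, 100, 121, 63, 233, 225, 357, 353, 392, 450, 504, 381, 376, 495, 386, 369, 489, 406, 405, 451, 459, 465, 426, 393, 354, 356, 221, 170, 177, 211, 234, 226, 122, 64, 69, 99, 74, 96, 111, 65, 231, 227, 259, 251, 246, 254, 86, 118, 94, 76, 268, 125, 230, 128, 101, 67, 87, 115, 347, 360, 452, 390, 264, 240, 239, 261, 92, 58, 182, 132, 119, 83, 114, 90, 129, 183, 105, 51, 389, 454, 344, 362, 457, 348, 358, 351, 312, 123, 49, 0, 500, 422, 443, 493, 364, 374, 477, 430, 472, 445, 424, 487, 428, 475, 368, 370, 311, 160, 146, 196, 292, 215, 327, 201, 199, 97, 172, 297, 137, 61, 44, 35, 224, 284, 194, 323, 168, 140, 289, 162, 142, 45, 197, 313, 207, 77, 110, 29, 371, 367, 496, 433, 301, 214, 185, 309, 157, 153, 149, 179, 294, 82, 319, 204, 192, 42, 59, 38, 485, 438, 332, 341, 469, 421,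 342, 337, 47, 33, 21, 8, 155, 325, 165, 206, 291, 189, 306, 210, 188, 56, 286, 163, 152, 108, 71, 28, 436, 481, 355, 334, 447, 482, 333, 338, 103, 31, 15, 10, 373, 365, 417, 490, 54, 40, 20, 5, 80, 26, 18, 11, 488, 423, 446, 471, 486, 425, 398, 394, 491, 420, 419, 492, 399, 395, 448, 470, 288, 161, 151, 314, 208, 187, 223, 285, 190, 48, 156, 322, 167, 72, 107, 30, 328, 202, 191, 148, 171, 296, 310, 159, 154, 104, 293, 216, 186, 60, 41, 36, 476, 434, 335, 350, 198, 307, 209, 287, 164, 143, 326, 166, 139, 53, 205, 290, 193, 109, 78, 27, 400, 396, 468, 435, 497, 442, 339, 331, 98, 32, 16, 9, 180, 295, 138, 318, 203, 200, 195, 300, 213, 79, 308, 158, 145, 43, 62, 37, 437, 499, 340, 330, 397, 402, 418, 480, 46, 34, 22, 7, 429, 479, 336, 343, 81, 25, 17, 12, 55, 39, 19, 6, 304, 320, 303, 317, 279, 275, 315, 305, 144, 135, 141, 136, 324, 302, 280, 274, 410, 441, 414, 467, 432, 412, 484, 431, 316, 283, 14, 3, 444, 478, 415, 413, 278, 277, 24,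 1, 150, 133, 271, 272, 466, 416, 411, 440, 147, 134, 270, 273, 281, 276, 23, 2, 321, 282, 13, 4, 506, 507, 508, 509, 510, 511, 512, 513, 514, 515, 516, 517, 518, 519, 520, 521, 522, 523, 524, 525, 526, 527, 528, 529, 530, 531, 532, 533, 534, 535, 536, 537, 538, 539, 540, 541, 542, 543, 544, 545, 546, 547, 548, 549, 550, 551, 552, 553, 554, 555, 556, 557, 558, 559, 560, 561, 562, 563, 564, 565, 566, 567, 568, 569, 570, 571, 572, 573, 574, 575, 576, 577, 578, 579, 580, 581, 582, 583, 584, 585, 586, 587, 588, 589, 590, 591, 592, 593, 594, 595, 596, 597, 598, 599, 600, 601, 602, 603, 604, 605, 606, 607, 608, 609, 610, 611, 612, 613, 614, 615, 616, 617, 618, 619, 620, 621, 622, 623, 624, 625, 626, 627, 628, 629, 630, 631, 632, 633, 634, 635, 636, 637, 638, 639, 640, 641, 642, 643, 644, 645, 646, 647, 648, 649, 650, 651, 652, 653, 654, 655, 656, 657, 658, 659, 660, 661, 662, 663, 664, 665, 666, 667, 668, 669, 670, 671, 672, 673, 674, 675,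 676, 677, 678, 679, 680, 681, 682, 683, 684, 685, 686, 687, 688, 689, 690, 691, 692, 693, 694, 695, 696, 697, 698, 699, 700, 701, 702, 703, 704, 705, 706, 707, 708, 709, 710, 711, 712, 713, 714, 715, 716, 717, 718, 719, 720, 721, 722, 723, 724, 725, 726, 727, 728, 729, 730, 731, 732, 733, 734, 735, 736, 737, 738, 739, 740, 741, 742, 743, 744, 745, 746, 747, 748, 749, 750, 751, 752, 753, 754, 755, 756, 757, 758]))))))))))))))))))))))))))))))

def c13 : Cert := (.forced 10336 12 [457, 189, 165, 102] 1603680 (.forced 6240 15 [626, 385, 177, 0] 497760 (.forced 10372 14 [502, 347, 231, 118] 3205252 (.forced 10376 18 [586, 196, 187, 119] 6039688 (.forced 10498 17 [647, 212, 197, 162] 3811586 (.forced 10512 14 [468, 327, 230, 163] 4778256 (.forced 10624 12 [506, 328, 199, 88] 424320 (.forced 6528 15 [633, 441, 183, 0] 1677696 (.forced 11776 12 [471, 353, 147, 104] 130560 (.forced 7680 17 [690, 249, 185, 0] 1973760 (.forced 12324 14 [511, 359,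 276, 126] 4386852 (.forced 12328 17 [674, 209, 188, 127] 3026984 (.forced 12354 17 [607, 215, 210, 170] 5648450 (.forced 12368 14 [477, 330, 261, 171] 2420816 (.forced 12418 15 [543, 428, 217, 164] 2338946 (.forced 12432 14 [479, 429, 201, 141] 5337232 (.forced 12548 14 [481, 365, 202, 95] 2715908 (.forced 12552 15 [482, 330, 194, 123] 4567304 (.forced 16932 17 [662, 226, 208, 135] 3818020 (.forced 16976 18 [603, 209, 203, 178] 6046288 (.forced 17040 15 [504, 456, 204, 169] 2736784 (.forced 17156 15 [524, 365, 229, 130] 5358340 (.forced 17456 15 [488, 341, 199, 169] 4572208 (.forced 17476 15 [553, 403, 226, 128] 2344004 (.forced 17540 17 [620, 227, 209, 141] 5653636 (.forced 17680 17 [689, 210, 202, 184] 3032336 (.forced 18466 17 [634, 234, 223, 186] 5130274 (.forced 18504 17 [679, 224, 211, 141] 3557448 (.forced 18568 15 [510, 338, 212, 126] 4442248 (.forced 18690 15 [533, 444, 237, 173] 2476290 c12))))))))))))))))))))))))))))))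

def c14 : Cert := (.forced 9228 11 [497, 341, 239, 85] 683020 (.forced 3084 15 [419, 216, 211, 0] 1412108 (.forced 9234 11 [602, 407, 224, 133] 1338386 (.forced 3090 15 [420, 234, 213, 0] 756754 (.forced 9236 12 [501, 409, 194, 163] 472084 (.forced 5140 14 [545, 362, 215, 0] 1627156 (.forced 9250 14 [504, 375, 245, 137] 2679842 (.forced 9264 17 [564, 166, 154, 138] 5907504 (.forced 9284 18 [617, 181, 167, 93] 3941444 (.forced 9288 14 [460, 307, 231, 94] 5301320 (.forced 9348 15 [507, 325, 183, 81] 4826244 (.forced 9352 14 [508, 309, 174, 73] 2450568 (.forced 9376 12 [609, 310, 143, 83] 1356960 (.forced 5280 14 [552, 370, 159, 0] 742560 (.forced 9408 11 [557, 312, 187, 127] 1256640 (.forced 3264 14 [432, 230, 161, 0] 838848 (.forced 9474 14 [514, 421, 179, 121] 4416770 (.forced 9488 15 [450, 422, 164, 130] 3253520 (.forced 9504 11 [516, 327, 165, 89] 863520 (.forced 3360 14 [437, 250, 165, 0] 1232160 (.forced 9536 12 [518, 295, 133,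 105] 701760 (.forced 5440 14 [561, 403, 167, 0] 1398080 (.forced 10246 12 [569, 437, 221, 200] 833542 (.forced 6150 14 [618, 427, 233, 0] 1267718 (.forced 10264 12 [493, 354, 219, 178] 1226776 (.forced 6168 14 [621, 379, 235, 0] 874520 (.forced 10274 15 [495, 395, 204, 161] 5351458 (.forced 10288 14 [496, 319, 186, 129] 2320432 (.forced 10308 14 [498, 443, 187, 85] 4548676 (.forced 10312 15 [480, 444, 183, 101] 2730056 c13))))))))))))))))))))))))))))))

def c15 : Cert := (.forced 8716 12 [569, 330, 182, 55] 1339916 (.forced 4620 15 [390, 199, 181, 0] 758284 (.forced 8722 12 [421, 360, 178, 103] 684562 (.forced 4626 15 [393, 187, 183, 0] 1413650 (.forced 8724 11 [423, 334, 164, 130] 1649172 (.forced 2580 14 [512, 309, 185, 0] 444948 (.forced 8728 10 [524, 336, 182, 130] 828952 (.forced 1560 14 [570, 310, 187, 0] 1263128 (.forced 8740 15 [449, 338, 156, 69] 2466340 (.forced 8744 14 [429, 339, 147, 45] 4809256 (.forced 8770 14 [429, 353,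 148, 89] 3236418 (.forced 8784 15 [430, 268, 135, 106] 4432464 (.forced 8800 10 [409, 150, 107, 73] 419424 (.forced 1632 15 [576, 394, 129, 0] 1672800 (.forced 8834 14 [483, 357, 196, 115] 4514434 (.forced 8848 17 [606, 141, 139, 116] 3547792 (.forced 8864 11 [436, 271, 117, 77] 699040 (.forced 2720 14 [524, 386, 133, 0] 1395360 (.forced 8896 12 [531, 361, 142, 79] 864960 (.forced 4800 14 [408, 203, 135, 0] 1233600 (.forced 8964 17 [567, 168, 146, 75] 5120772 (.forced 8968 14 [441, 274, 197, 76] 2286344 (.forced 8992 12 [442, 301, 170, 117] 1258272 (.forced 4896 14 [413, 221, 139, 0] 840480 (.forced 9024 11 [592, 367, 119, 79] 1354560 (.forced 2880 14 [533, 329, 141, 0] 740160 (.forced 9088 10 [446, 369, 152, 48] 1599360 (.forced 1920 15 [591, 330, 143, 0] 493440 (.forced 9226 12 [419, 237, 220, 161] 1651722 (.forced 5130 14 [538, 381, 209, 0] 447498 c14))))))))))))))))))))))))))))))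

def c16 : Cert := (.forced 1800 11 [445, 273, 106, 25] 4476680 (.forced 1856 17 [430, 87, 70, 26] 7472960 (.forced 2628 12 [442, 276, 116, 31] 2243140 (.forced 2632 12 [481, 231, 97, 32] 5315144 (.forced 2656 14 [371, 90, 76, 33] 6343264 (.forced 2692 12 [482, 260, 119, 26] 4741764 (.forced 2696 12 [425, 345, 100, 27] 2398856 (.forced 2944 13 [372, 93, 70, 28] 6368128 (.forced 3108 12 [366, 123, 107, 15] 2382884 (.forced 3112 12 [367, 116, 98, 15] 4758568 (.forced 3332 12 [368, 121, 105, 10] 5258500 (.forced 3336 12 [369, 114, 102, 10] 2301192 (.forced 5216 13 [378, 98, 85, 40] 6370400 (.forced 5504 14 [381, 99, 75, 33] 6346112 (.forced 6304 17 [444, 100, 84, 40] 7477408 (.forced 6464 18 [469, 101, 83, 39] 7084352 (.forced 8236 8 [497, 316, 195, 42] 1614124 (.forced 300 14 [375, 197, 185, 0] 475436 (.forced 8268 7 [499, 373, 176, 43] 434380 (.forced 204 14 [378, 199, 174, 0] 1654988 (.forced 8326 8 [383, 172, 159, 133] 1384838 (.forced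 390 14 [555, 365, 201, 0] 704902 (.forced 8344 8 [459, 346, 188, 116] 729496 (.forced 408 14 [559, 296, 203, 0] 1360280 (.forced 8416 8 [398, 262, 99, 55] 123360 (.forced 480 17 [615, 205, 111, 0] 1966560 (.forced 8710 10 [415, 369, 178, 144] 1222150 (.forced 1542 14 [561, 378, 177, 0] 869894 (.forced 8714 11 [389, 180, 174, 136] 469514 (.forced 2570 14 [507, 368, 179, 0] 1624586 c15))))))))))))))))))))))))))))))

def c17 : Cert := (.forced 612 3 [350, 321, 70, 1] 789100 (.forced 108 10 [452, 270, 151, 0] 1184876 (.forced 556 7 [419, 272, 140, 1] 50860 (.forced 172 11 [538, 271, 153, 0] 80044 (.forced 588 8 [333, 139, 131, 3] 75596 (.forced 332 11 [557, 264, 155, 0] 55628 (.forced 616 7 [509, 213, 84, 5] 2294504 (.forced 232 12 [420, 215, 157, 0] 4477160 (.forced 652 8 [337, 130, 122, 5] 1182604 (.forced 396 10 [471, 255, 159, 0] 791948 (.forced 708 8 [339, 94, 78, 11] 2376644 (.forced 452 12 [391, 238, 161, 0] 4395460 (.forced 712 8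 [341, 92, 76, 5] 4752328 (.forced 456 12 [360, 218, 163, 0] 3158472 (.forced 1124 8 [383, 335, 83, 12] 4736356 (.forced 356 11 [365, 244, 165, 0] 3213668 (.forced 1128 8 [519, 224, 93, 14] 2393448 (.forced 360 11 [408, 224, 167, 0] 4335976 (.forced 1188 8 [387, 285, 103, 15] 2237860 (.forced 420 11 [431, 247, 169, 0] 4491684 (.forced 1192 8 [469, 228, 79, 17] 5309864 (.forced 424 11 [381, 227, 171, 0] 2640296 (.forced 1572 11 [403, 343, 94, 19] 4394532 (.forced 1576 11 [526, 223, 99, 20] 3157544 (.forced 1604 12 [434, 345, 92, 19] 4494916 (.forced 1608 12 [528, 223, 105, 20] 2643528 (.forced 1668 12 [530, 251, 94, 23] 3217028 (.forced 1672 12 [416, 270, 107, 24] 4339336 (.forced 1696 18 [451, 84, 69, 25] 7079584 (.forced 1796 11 [533, 253, 101, 24] 2658052 c16))))))))))))))))))))))))))))))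

def c18 : Cert := (.forced 688 8 [417, 174, 30, 11] 4342704 (.forced 432 12 [357, 173, 121, 0] 2429360 (.forced 1136 7 [475, 175, 41, 15] 3163376 (.forced 240 11 [317, 177, 123, 0] 4786416 (.forced 1218 8 [301, 57, 54, 18] 2688450 (.forced 450 11 [342, 258, 125, 0] 5261762 (.forced 1232 8 [303, 44, 39, 3] 4466128 (.forced 464 11 [395, 178, 127, 0] 2263504 (.forced 1570 12 [343, 299, 54, 19] 5264930 (.forced 1584 12 [482, 178, 51, 20] 2266672 (.forced 1602 11 [335, 301, 60, 19] 4730434 (.forced 1616 11 [484, 178, 49, 20] 2428496 (.forced 1666 11 [486, 263, 62, 23] 2248322 (.forced 1680 11 [347, 226, 51, 24] 5279376 (.forced 1794 12 [488, 264, 60, 23] 2373378 (.forced 1808 12 [328, 228, 57, 24] 4790032 (.forced 2594 12 [351, 295, 74, 28] 2693666 (.forced 2608 12 [434, 186, 45, 29] 4471344 (.forced 2818 12 [436, 268, 76, 21] 4365058 (.forced 2832 12 [332, 233, 47, 22] 3169040 (.forced 3138 12 [317, 71, 67, 9] 3185730 (.forced 3152 12 [318,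 60, 52, 9] 4349008 (.forced 3202 12 [319, 77, 65, 9] 4529282 (.forced 3216 12 [320, 58, 52, 9] 2636944 (.forced 8242 8 [373, 301, 140, 35] 434482 (.forced 306 14 [325, 145, 136, 0] 1655090 (.forced 8274 7 [355, 303, 128, 34] 1614034 (.forced 210 14 [324, 147, 121, 0] 475346 (.forced 8292 7 [449, 227, 88, 67] 5251812 (.forced 228 12 [368, 229, 149, 0] 2658532 c17))))))))))))))))))))))))))))))

def c19 : Cert := (.forced 184 10 [279, 90, 76, 0] 396472 (.forced 568 8 [444, 211, 85, 1] 101176 (.forced 312 10 [434, 205, 92, 0] 30008 (.forced 1728 5 [396, 163, 23, 11] 8160 (.forced 8234 7 [323, 252, 93, 22] 1204394 (.forced 170 15 [394, 254, 95, 0] 884906 (.forced 8244 7 [460, 216, 92, 15] 811188 (.forced 180 15 [394, 214, 97, 0] 1278132 (.forced 8248 6 [327, 218, 84, 5] 1384568 (.forced 120 14 [452, 213, 99, 0] 704632 (.forced 8266 8 [463, 275, 82, 28] 811338 (.forced 330 15 [399, 243, 101, 0] 1278282 (.forced 8276 8 [311, 197, 80, 21] 1204564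 (.forced 340 15 [403, 197, 103, 0] 885076 (.forced 8290 7 [362, 261, 44, 32] 2369762 (.forced 226 10 [337, 241, 105, 0] 4359394 (.forced 1122 4 [364, 277, 33, 0] 791666 (.forced 114 9 [418, 264, 107, 0] 1182322 (.forced 562 7 [288, 105, 102, 0] 75442 (.forced 178 11 [510, 265, 109, 0] 55474 (.forced 594 8 [319, 264, 84, 2] 51026 (.forced 338 11 [497, 264, 111, 0] 80210 (.forced 610 8 [344, 283, 40, 4] 4522850 (.forced 354 12 [371, 248, 113, 0] 2249058 (.forced 624 8 [467, 168, 34, 6] 2630512 (.forced 368 12 [328, 168, 115, 0] 5280112 (.forced 658 8 [315, 282, 90, 7] 789394 (.forced 402 10 [419, 258, 117, 0] 1185170 (.forced 674 8 [350, 277, 54, 9] 3179426 (.forced 418 12 [323, 253, 119, 0] 4731298 c18))))))))))))))))))))))))))))))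

def c20 : Cert := (.forced 102 14 [415, 231, 60, 0] 1359974 (.forced 8230 8 [244, 60, 57, 1] 27430 (.forced 294 10 [396, 232, 62, 0] 103718 (.forced 550 7 [330, 234, 60, 1] 397990 (.forced 166 10 [247, 64, 59, 0] 1576102 (.forced 646 6 [419, 231, 37, 1] 101062 (.forced 198 10 [407, 234, 66, 0] 29894 (.forced 582 8 [276, 238, 52, 1] 1577798 (.forced 326 10 [258, 68, 44, 0] 396614 (.forced 706 3 [301, 202, 43, 3] 1312458 (.forced 202 11 [433, 213, 70, 0] 661706 (.forced 586 5 [369, 225, 56, 1] 45674 (.forced 106 10 [297, 72, 64, 0] 85098 (.forced 554 8 [340, 232, 67, 1] 657194 (.forced 298 11 [436, 232, 74, 0] 1317162 (.forced 650 8 [274, 234, 47, 5] 86922 (.forced 394 10 [362, 76, 30, 0] 44426 (.forced 804 4 [277, 155, 65, 15] 1312564 (.forced 308 11 [442, 194, 78, 0] 661812 (.forced 564 6 [376, 199, 76, 1] 86644 (.forced 116 10 [365, 80, 67, 0] 44148 (.forced 596 7 [290, 175, 58, 1] 657108 (.forced 212 11 [443, 177, 82, 0] 1317076 (.forced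 660 8 [380, 249, 47, 1] 45972 (.forced 404 10 [310, 84, 37, 0] 85396 (.forced 720 3 [353, 139, 59, 3] 27352 (.forced 216 10 [419, 194, 86, 0] 103640 (.forced 600 8 [440, 241, 64, 1] 398168 (.forced 344 10 [272, 88, 61, 0] 1576280 (.forced 664 5 [288, 182, 53, 3] 1577656 c19))))))))))))))))))))))))))))))

def c21 : Cert := (.excl 28 (.excl 28 (.excl 28 (.excl 28 (.excl 44 (.excl 39 (.excl 44 (.excl 39 (.excl 55 (.excl 39 (.excl 28 (.excl 28 (.excl 28 (.excl 28 (.excl 35 (.excl 35 (.excl 35 (.excl 35 (.excl 35 (.excl 35 (.excl 43 (.kid 729190 c20 (.excl 3 (.excl 2 (.excl 38 (.excl 38 (.excl 42 (.excl 42 (.excl 42 (.excl 42 Cert.done))))))))))))))))))))))))))))))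

def c22 : Cert := (.forced 540 7 [268, 155, 12, 5] 4522652 (.forced 156 12 [293, 134, 36, 0] 2248860 (.forced 1038 8 [272, 211, 36, 7] 3163406 (.forced 270 11 [233, 211, 38, 0] 4786446 (.forced 1046 7 [235, 204, 18, 9] 2393238 (.forced 150 11 [280, 206, 40, 0] 4335766 (.forced 1050 7 [261, 201, 23, 11] 4736154 (.forced 154 11 [241, 186, 42, 0] 3213466 (.forced 1052 8 [300, 153, 33, 13] 4359452 (.forced 284 11 [277, 141, 44, 0] 2369820 (.forced 2097290 8 [344, 188, 17, 2] 6685066 (.forced 2097300 8 [343, 141, 9, 6] 7864724 (.forced 2097670 11 [353, 218, 19, 15] 7604742 (.forced 2097674 10 [346, 200, 42, 20] 6391306 (.forced 2097684 10 [346, 141, 26, 17] 6317588 (.forced 2097688 11 [358, 143, 44, 27] 6949400 (.forced 2098182 12 [358, 222, 13, 11] 6951942 (.forced 2098200 12 [357, 145, 42, 34] 7607320 (.forced 2099210 12 [351, 193, 51, 10] 6322186 (.forced 2099220 12 [351, 161, 34, 9] 6395924 (.forced 2105356 16 [356, 156, 27, 10] 7544844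 (.forced 2105362 16 [358, 204, 52, 38] 7151634 (.forced 2113548 15 [358, 156, 20, 19] 7127052 (.forced 2113554 15 [360, 204, 52, 38] 7520274 (.branch 102 13 [414, 230, 59] (.excl 28 (.excl 28 (.excl 28 (.excl 28 (.excl 28 c21))))))))))))))))))))))))))))))

def c23 : Cert := (.excl 2 (.excl 2 (.excl 2 (.excl 44 (.excl 8 (.excl 8 (.excl 9 (.excl 8 (.excl 8 (.kid 4342350 (.forced 78 12 [250, 190, 15, 0] 2429006 (.forced 131086 4 [211, 190, 14, 1] 1966110 (.forced 131098 6 [216, 162, 10, 0] 2237530 (.forced 90 11 [279, 172, 18, 0] 4491354 (.forced 524310 6 [259, 184, 16, 2] 2639958 (.forced 86 10 [229, 189, 20, 0] 5309526 (.forced 524316 6 [254, 119, 11, 4] 4730972 (.forced 92 9 [225, 132, 22, 0] 3179100 (.forced 2097222 8 [364, 194, 7, 3] 6332742 (.forced 2097228 7 [325, 133, 8, 1] 6294732 (.forced 2097234 7 [336, 178, 7, 5] 6296274 (.forced 2097240 8 [359, 140, 8, 3] 6373720 (.forced 2097676 1 [348, 126, 15, 4] 2630286 (.forced 142 12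 [240, 202, 28, 0] 5279886 (.forced 526 4 [296, 202, 14, 1] 7710 (.forced 30 13 [439, 30, 13, 0] 122910 (.forced 534 8 [240, 197, 28, 1] 2294550 (.forced 278 12 [296, 197, 32, 0] 4477206 (.forced 538 8 [232, 187, 27, 3] 5251866 (.forced 282 12 [254, 179, 34, 0] 2658586 c22)))))))))))))))))))) (.excl 8 (.excl 8 (.excl 2 (.excl 75 (.excl 12 (.excl 7 (.excl 8 (.excl 13 (.excl 2 (.excl 1 (.excl 1 (.excl 1 (.excl 1 Cert.done)))))))))))))))))))))))

def c24 : Cert := (.excl 0 (.excl 26 (.excl 73 (.excl 3 (.excl 2 (.excl 58 (.excl 3 (.excl 6 (.excl 3 (.excl 8 (.excl 0 (.excl 31 (.kid 2688060 (.forced 60 11 [226, 130, 10, 0] 5261372 (.forced 2097196 8 [312, 129, 9, 1] 6296364 (.forced 2097204 6 [309, 128, 8, 2] 6684788 (.forced 2097208 7 [355, 127, 7, 3] 6332600 (.branch 78 9 [249, 189, 14] (.excl 44 (.excl 44 (.excl 8 (.excl 2 (.excl 2 (.excl 7 (.excl 64 (.excl 2 (.excl 2 (.excl 75 (.excl 2 (.excl 2 c23))))))))))))))))) (.excl 2 (.excl 5 (.excl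 2 (.excl 0 (.excl 1 (.excl 1 (.excl 0 (.excl 0 Cert.done)))))))))))))))))))))

def c25 : Cert := (.excl 2 (.excl 1 (.excl 2 (.excl 1 (.excl 125 (.excl 21 (.excl 0 (.excl 0 (.excl 29 (.excl 3 (.excl 2 (.kid 2376250 (.forced 58 12 [235, 166, 6, 0] 4395066 (.forced 2097194 6 [306, 165, 5, 1] 7864426 (.forced 2097202 8 [319, 164, 4, 2] 6294834 (.branch 60 10 [225, 129, 9] (.excl 58 (.excl 58 (.excl 49 (.excl 0 (.excl 0 (.excl 42 (.excl 42 (.excl 0 (.excl 0 (.excl 42 (.excl 0 (.excl 0 (.excl 0 (.excl 0 c24)))))))))))))))))) (.excl 2 (.excl 0 (.excl 55 (.excl 3 (.excl 2 (.excl 55 (.excl 2 (.excl 0 (.excl 3 (.excl 2 (.excl 2 (.excl 2 Cert.done))))))))))))))))))))))))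

def c26 : Cert := (.excl 78 (.excl 78 (.excl 94 (.excl 34 (.excl 78 (.excl 0 (.excl 1 (.excl 122 (.excl 94 (.excl 1 (.excl 113 (.excl 1 (.excl 1 (.excl 17 (.excl 0 (.kid 4751926 (.forced 54 12 [199, 175, 3, 0] 3158070 (.forced 2097190 7 [338, 175, 2, 0] 6373542 (.branch 58 9 [234, 165, 5] (.excl 55 (.excl 36 (.excl 36 (.excl 1 (.excl 2 (.excl 51 (.excl 55 (.excl 1 (.excl 2 (.excl 36 (.excl 1 c25)))))))))))))) (.excl 0 (.excl 78 (.excl 0 (.excl 94 (.excl 102 (.excl 94 (.excl 113 Cert.done)))))))))))))))))))))))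

def c27 : Cert := (.excl 119 (.excl 63 (.excl 107 (.excl 105 (.excl 118 (.excl 68 (.excl 112 (.excl 63 (.excl 34 (.excl 101 (.excl 69 (.excl 18 (.excl 101 (.excl 112 (.excl 101 (.kid 4465710 (.forced 46 11 [268, 177, 1, 0] 2263086 (.branch 54 9 [198, 174, 2] (.excl 34 (.excl 34 (.excl 49 (.excl 47 (.excl 1 (.excl 34 (.excl 78 (.excl 0 (.excl 78 (.excl 78 (.excl 94 (.excl 69 c26)))))))))))))) (.excl 101 (.excl 63 (.excl 63 (.excl 63 (.excl 63 (.excl 63 (.excl 101 (.excl 63 (.excl 63 (.excl 112 (.excl 102 Cert.done)))))))))))))))))))))))))))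

def c28 : Cert := (.forced 8513 16 [169, 118, 64, 20] 5841217 (.forced 8577 15 [174, 119, 82, 38] 2924929 (.forced 9729 16 [168, 62, 56, 34] 2827777 (.forced 10753 14 [175, 136, 63, 31] 5401089 (.forced 13313 14 [177, 118, 90, 36] 5010433 (.forced 14337 16 [172, 119, 55, 33] 3487745 (.forced 16481 16 [177, 148, 71, 48] 2965601 (.forced 16545 15 [181, 126, 72, 37] 5816481 (.forced 16705 15 [183, 50, 44, 28] 4636993 (.forced 16769 16 [179, 128, 90, 45] 3359105 (.forced 17921 15 [176, 69, 65, 44] 3458561 (.forced 22529 15 [178, 128, 62, 36] 2807809 (.forced 35329 16 [182, 145, 73, 45] 5081601 (.forced 37889 16 [184, 129, 99, 35] 5477377 (.branch 46 4 [266, 175] (.kid 510 (.branch 46 10 [267, 176, 0] (.excl 34 (.excl 120 (.excl 34 (.excl 101 (.excl 90 (.excl 48 (.excl 34 (.excl 39 c27))))))))) (.excl 57 (.excl 79 (.excl 57 (.excl 53 (.excl 79 (.excl 53 (.excl 94 (.excl 107 (.excl 52 (.excl 93 (.excl 78 (.excl 115 (.excl 52 (.excl 78 c11))))))))))))))))))))))))))))))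

def c29 : Cert := (.forced 705 11 [134, 88, 25, 9] 3672769 (.forced 777 11 [328, 129, 49, 13] 539401 (.forced 801 11 [137, 35, 26, 14] 2493217 (.forced 833 12 [207, 91, 52, 15] 2200385 (.forced 1161 11 [334, 133, 52, 17] 1072265 (.forced 1185 11 [233, 94, 77, 18] 2198689 (.forced 1217 12 [138, 38, 31, 19] 2495681 (.forced 1297 11 [356, 127, 55, 15] 302353 (.forced 1313 12 [141, 97, 32, 16] 3675425 (.forced 1345 11 [213, 106, 41, 17] 2125121 (.forced 8233 11 [358, 123, 85, 23] 321577 (.forced 2089 16 [144, 125, 80, 0] 1771561 (.forced 8241 12 [284, 124, 87, 19] 634929 (.forced 4145 14 [148, 85, 82, 0] 1462321 (.forced 8265 12 [153, 144, 72, 27] 225353 (.forced 4169 15 [149, 112, 84, 0] 1871945 (.forced 8273 11 [155, 128, 66, 18] 927825 (.forced 2129 14 [149, 86, 66, 0] 1165393 (.forced 8289 15 [160, 130, 52, 31] 3317857 (.forced 8329 9 [287, 118, 70, 32] 1155721 (.forced 649 14 [154, 134, 68, 0] 934537 (.forced 8337 10 [357, 120, 71,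 28] 189585 (.forced 1169 16 [154, 94, 70, 0] 1901713 (.forced 8353 16 [161, 36, 30, 23] 4661409 (.forced 8453 11 [316, 144, 75, 58] 239877 (.forced 2309 14 [158, 144, 74, 0] 1853701 (.forced 8457 10 [165, 139, 77, 24] 1451273 (.forced 1289 14 [160, 124, 75, 0] 640265 (.forced 8465 9 [167, 148, 64, 35] 353041 (.forced 785 15 [164, 78, 77, 0] 1737489 c28))))))))))))))))))))))))))))))

def c30 : Cert := (.forced 773 10 [262, 98, 19, 3] 153349 (.forced 897 12 [111, 59, 19, 4] 5510017 (.forced 1093 11 [296, 98, 37, 4] 597061 (.forced 1409 11 [116, 62, 21, 5] 4853121 (.forced 1665 6 [202, 60, 22, 4] 4277953 (.forced 1793 5 [179, 60, 23, 4] 4237089 (.forced 2145 10 [118, 66, 45, 11] 5508193 (.forced 4193 9 [118, 68, 46, 11] 4854369 (.forced 6177 8 [183, 62, 47, 9] 4282657 (.forced 6209 7 [208, 66, 48, 6] 4241601 (.forced 8229 10 [118, 55, 50, 14] 1139749 (.forced 1061 15 [114, 107, 53, 0] 951333 (.forced 8261 9 [306, 112, 32, 16] 582213 (.forced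 581 16 [117, 109, 32, 0] 1507909 (.forced 8325 12 [122, 35, 34, 14] 1716357 (.forced 4229 14 [119, 104, 57, 0] 381061 (.forced 8385 3 [220, 74, 36, 6] 533737 (.forced 105 8 [167, 61, 56, 0] 1065833 (.forced 169 8 [132, 102, 61, 1] 168361 (.forced 201 8 [123, 87, 52, 2] 330185 (.forced 225 4 [355, 81, 25, 3] 295665 (.forced 113 8 [231, 103, 60, 0] 198001 (.forced 177 8 [136, 103, 64, 1] 1059249 (.forced 209 8 [125, 56, 43, 2] 545233 (.forced 553 10 [276, 108, 69, 6] 333353 (.forced 561 10 [130, 70, 61, 4] 544305 (.forced 585 10 [130, 105, 54, 8] 167497 (.forced 593 10 [266, 106, 46, 6] 1062481 (.forced 657 11 [334, 119, 46, 7] 203409 (.forced 673 12 [227, 113, 32, 8] 2126497 c29))))))))))))))))))))))))))))))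

def c31 : Cert := (.excl 14 (.excl 6 (.excl 28 (.excl 36 (.excl 14 (.excl 14 (.excl 14 (.excl 15 (.excl 15 (.excl 28 (.excl 14 (.excl 6 (.excl 24 (.excl 24 (.excl 14 (.excl 14 (.excl 14 (.kid 149733 (.forced 101 8 [205, 91, 39, 0] 274789 (.forced 165 8 [104, 39, 38, 1] 590757 (.forced 197 8 [101, 90, 17, 2] 1082821 (.forced 549 11 [297, 94, 43, 1] 1088037 (.forced 645 10 [103, 90, 9, 2] 274053 c30))))) (.excl 2 (.excl 24 (.excl 6 (.excl 14 (.excl 14 (.excl 6 (.excl 6 (.excl 24 (.excl 14 (.excl 14 (.excl 14 (.excl 29 Cert.done))))))))))))))))))))))))))))))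

def c32 : Cert := (.forced 131097 15 [141, 40, 15, 3] 2588697 (.forced 2097225 9 [236, 39, 10, 5] 6562377 (.forced 2097413 10 [234, 61, 13, 6] 6620421 (.forced 2098181 3 [224, 69, 5, 0] 2143245 (.forced 1037 9 [77, 73, 9, 0] 5768717 (.forced 525 11 [79, 73, 20, 0] 2181645 (.forced 2061 4 [79, 76, 6, 0] 559261 (.forced 29 8 [311, 22, 12, 0] 1118493 (.forced 141 8 [82, 77, 21, 1] 4219277 (.forced 149 6 [130, 70, 21, 2] 2171093 (.forced 85 8 [190, 74, 15, 0] 4197205 (.forced 153 8 [95, 50, 14, 4] 2099097 (.forced 533 12 [98, 73, 27, 1] 2888213 (.forced 537 12 [185, 62, 28, 1] 4248089 (.forced 1049 11 [155, 69, 19, 2] 4271129 (.forced 8213 15 [92, 75, 30, 5] 5546005 (.forced 8217 14 [95, 55, 31, 1] 3694617 (.forced 2097221 12 [231, 83, 21, 7] 7360581 (.forced 2097233 10 [227, 66, 27, 8] 6849617 (.forced 2097285 9 [240, 78, 32, 9] 6455941 (.forced 2097289 12 [228, 58, 33, 8] 6885513 (.forced 2097297 11 [255, 72, 11, 9] 6572177 (.forced 2097417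 11 [235, 75, 26, 10] 7375113 (.forced 2097425 12 [246, 71, 34, 11] 6435089 (.branch 101 7 [204, 90, 38] (.excl 13 (.excl 13 (.excl 13 (.excl 13 (.excl 13 c31))))))))))))))))))))))))))))))

def c33 : Cert := (.excl 5 (.excl 2 (.excl 2 (.excl 3 (.excl 2 (.excl 2 (.excl 3 (.excl 2 (.excl 2 (.excl 2 (.excl 1 (.kid 279645 (.forced 77 8 [69, 65, 9, 0] 2752845 (.forced 89 7 [75, 45, 5, 1] 5374169 (.forced 1045 11 [83, 57, 9, 2] 3279893 (.forced 16405 16 [75, 59, 9, 3] 4931605 (.forced 131085 11 [169, 68, 14, 3] 4593677 c32))))) (.excl 14 (.excl 1 (.excl 9 (.excl 9 (.excl 1 (.excl 2 (.excl 3 (.excl 3 (.excl 9 (.excl 9 (.excl 1 (.excl 2 (.excl 3 (.excl 3 (.excl 2 (.excl 3 (.excl 3 (.excl 2 Cert.done))))))))))))))))))))))))))))))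

def c34 : Cert := (.excl 27 (.excl 20 (.excl 1 (.excl 2 (.excl 20 (.excl 1 (.excl 4 (.excl 1 (.excl 4 (.excl 1 (.excl 17 (.excl 20 (.kid 2103417 (.forced 57 8 [75, 46, 6, 0] 4981049 (.forced 2097193 10 [214, 45, 5, 1] 6439977 (.forced 2097201 9 [205, 44, 4, 2] 7406129 (.branch 77 4 [68, 64, 8] (.excl 5 (.excl 9 (.excl 2 (.excl 2 (.excl 3 c33))))))))) (.excl 2 (.excl 20 (.excl 3 (.excl 4 (.excl 0 (.excl 0 (.excl 0 (.excl 29 (.excl 3 (.excl 2 (.excl 39 (.excl 2 (.excl 2 (.excl 3 (.excl 4 (.excl 3 (.excl 0 Cert.done))))))))))))))))))))))))))))))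

def c35 : Cert := (.excl 16 (.excl 23 (.excl 0 (.excl 23 (.excl 16 (.excl 0 (.excl 16 (.excl 0 (.excl 1 (.excl 0 (.excl 16 (.excl 13 (.excl 0 (.kid 4199605 (.forced 53 8 [168, 55, 3, 0] 2146613 (.forced 2097189 11 [200, 55, 2, 0] 6826021 (.branch 57 6 [74, 45, 5] (.excl 20 (.excl 20 (.excl 20 (.excl 1 (.excl 4 c34)))))))) (.excl 16 (.excl 0 (.excl 16 (.excl 0 (.excl 1 (.excl 0 (.excl 48 (.excl 0 (.excl 39 (.excl 0 (.excl 1 (.excl 0 (.excl 0 (.excl 1 (.excl 0 (.excl 0 Cert.done))))))))))))))))))))))))))))))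

def c36 : Cert := (.excl 16 (.excl 16 (.excl 16 (.excl 16 (.excl 16 (.excl 23 (.excl 39 (.excl 16 (.excl 16 (.excl 23 (.excl 6 (.excl 16 (.excl 23 (.kid 4292717 (.forced 45 7 [59, 57, 1, 0] 3408045 (.branch 53 7 [167, 54, 2] (.excl 16 (.excl 16 (.excl 16 (.excl 0 (.excl 16 c35))))))) (.excl 40 (.excl 23 (.excl 35 (.excl 23 (.excl 40 (.excl 23 (.excl 16 (.excl 38 (.excl 31 (.excl 16 (.excl 16 (.excl 18 (.excl 33 (.excl 31 (.excl 35 (.excl 50 Cert.done))))))))))))))))))))))))))))))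

def c37 : Cert := (.excl 23 (.excl 23 (.excl 23 (.excl 35 (.excl 38 (.excl 35 (.excl 27 (.excl 33 (.kid 139837 (.branch 45 6 [58, 56, 0] (.excl 16 (.excl 23 (.excl 16 (.excl 23 (.excl 23 c36)))))) (.excl 7 (.excl 7 (.excl 27 (.excl 36 (.excl 6 (.excl 6 (.excl 39 (.excl 39 (.excl 27 (.excl 38 (.excl 6 (.excl 33 (.excl 33 (.excl 33 (.excl 33 (.excl 26 (.excl 31 (.excl 31 (.excl 26 (.excl 7 (.excl 50 c6))))))))))))))))))))))))))))))

def c38 : Cert := (.excl 23 (.excl 38 (.excl 33 (.excl 35 (.excl 23 (.excl 38 (.excl 35 (.excl 38 (.excl 23 (.excl 23 (.excl 23 (.excl 23 (.excl 23 (.excl 23 (.excl 23 (.excl 20 (.excl 35 (.excl 23 (.excl 39 (.excl 22 (.excl 20 (.excl 35 (.excl 23 (.excl 15 (.excl 35 (.excl 20 (.excl 23 (.excl 35 (.excl 35 (.excl 35 c37))))))))))))))))))))))))))))))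

def c39 : Cert := (.excl 33 (.excl 33 (.excl 36 (.excl 33 (.excl 36 (.excl 23 (.excl 36 (.excl 36 (.excl 36 (.excl 33 (.excl 39 (.excl 39 (.excl 39 (.excl 22 (.excl 36 (.excl 33 (.excl 33 (.excl 15 (.excl 33 (.excl 33 (.excl 48 (.excl 39 (.excl 35 (.excl 36 (.excl 32 (.excl 32 (.excl 36 (.excl 32 (.excl 36 (.excl 36 c38))))))))))))))))))))))))))))))

def c40 : Cert := (.forced 163 8 [48, 24, 21, 1] 279971 (.forced 195 8 [43, 34, 9, 2] 140227 (.forced 579 11 [262, 38, 21, 0] 285251 (.forced 643 10 [188, 34, 27, 1] 562819 (.forced 771 10 [49, 42, 18, 2] 1117955 (.forced 1059 11 [254, 41, 30, 4] 146467 (.forced 8227 9 [54, 29, 28, 0] 1843747 (.forced 547 14 [52, 43, 31, 0] 246307 (.forced 8259 10 [198, 48, 30, 6] 369731 (.forced 1091 14 [51, 45, 16, 0] 1721411 (.forced 8323 11 [58, 19, 12, 8] 616579 (.forced 2179 15 [53, 40, 35, 0] 1476739 (.forced 8451 12 [250, 42, 35, 10] 1110275 (.forced 4355 16 [58, 42, 20, 0] 987395 (.branch 45 4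 [57, 55] (.excl 33 (.excl 23 (.excl 22 (.excl 15 (.excl 35 (.excl 23 (.excl 15 (.excl 22 (.excl 36 (.excl 33 (.excl 33 (.excl 33 (.excl 33 (.excl 33 (.excl 33 c39))))))))))))))))))))))))))))))

def c41 : Cert := (.excl 4 (.excl 4 (.excl 5 (.excl 5 (.excl 4 (.excl 4 (.excl 4 (.excl 4 (.excl 4 (.excl 16 (.excl 6 (.excl 1 (.excl 13 (.excl 13 (.excl 1 (.excl 6 (.excl 6 (.excl 1 (.excl 1 (.excl 13 (.excl 4 (.excl 6 (.excl 6 (.excl 17 (.kid 1118435 (.forced 99 8 [89, 35, 21, 0] 559459 c40) (.excl 13 (.excl 4 (.excl 4 (.excl 6 (.excl 17 Cert.done))))))))))))))))))))))))))))))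

def c42 : Cert := (.excl 5 (.excl 3 (.excl 5 (.excl 1 (.excl 3 (.excl 17 (.kid 590427 (.forced 83 8 [23, 15, 3, 0] 3408211 (.forced 523 12 [28, 20, 6, 1] 3281419 (.forced 65547 14 [40, 22, 6, 2] 5586955 (.forced 524307 11 [100, 14, 5, 3] 5773331 (.forced 2097411 9 [165, 14, 8, 3] 6832899 (.forced 2097667 4 [171, 22, 3, 0] 2140691 (.forced 531 10 [32, 18, 6, 0] 4589075 (.forced 1043 12 [30, 18, 13, 0] 2184211 (.forced 2067 3 [31, 26, 4, 2] 149787 (.forced 27 7 [264, 15, 9, 0] 274587 (.forced 139 6 [142, 30, 15, 0] 2146507 (.forced 75 8 [82, 32, 11, 0] 4199755 (.forced 147 8 [35, 24, 14, 2] 4293011 (.forced 1035 11 [40, 33, 19, 1] 2886667 (.forced 8203 15 [41, 35, 18, 4] 4890635 (.forced 2097219 11 [186, 32, 14, 4] 6490179 (.forced 2097283 10 [182, 26, 18, 5] 7349379 (.branch 99 7 [88, 34, 20] (.excl 5 (.excl 4 (.excl 1 (.excl 19 (.excl 16 c41))))))))))))))))))))))) (.excl 5 (.excl 3 (.excl 13 (.excl 5 (.excl 16 (.excl 5 (.excl 1 (.excl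 5 (.excl 13 (.excl 5 (.excl 3 (.excl 5 (.excl 1 (.excl 3 (.excl 5 (.excl 1 (.excl 5 (.excl 1 Cert.done)))))))))))))))))))))))))

def c43 : Cert := (.excl 8 (.excl 8 (.excl 8 (.excl 1 (.excl 10 (.excl 11 (.excl 1 (.excl 10 (.excl 1 (.excl 1 (.excl 9 (.excl 7 (.excl 0 (.kid 4218995 (.forced 51 7 [23, 15, 3, 0] 2752691 (.forced 2097187 12 [182, 15, 2, 0] 6590499 (.branch 83 3 [22, 14, 2] (.excl 3 (.excl 18 (.excl 10 (.excl 5 (.excl 3 (.excl 3 (.excl 3 (.excl 3 (.excl 3 (.excl 10 c42))))))))))))) (.excl 7 (.excl 0 (.excl 11 (.excl 0 (.excl 7 (.excl 0 (.excl 11 (.excl 9 (.excl 11 (.excl 13 (.excl 10 (.excl 13 (.excl 11 (.excl 10 (.excl 11 (.excl 10 Cert.done))))))))))))))))))))))))))))))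

def c44 : Cert := (.excl 4 (.excl 4 (.excl 4 (.excl 4 (.excl 14 (.excl 4 (.excl 10 (.excl 4 (.excl 10 (.excl 4 (.excl 15 (.excl 12 (.excl 4 (.kid 4197035 (.forced 43 8 [66, 17, 1, 0] 2171179 (.branch 51 6 [22, 14, 2] (.excl 8 (.excl 11 (.excl 7 (.excl 0 (.excl 1 c43))))))) (.excl 3 (.excl 11 (.excl 3 (.excl 11 (.excl 3 (.excl 11 (.excl 12 (.excl 4 (.excl 15 (.excl 4 (.excl 12 (.excl 4 (.excl 14 (.excl 3 (.excl 23 (.excl 14 Cert.done))))))))))))))))))))))))))))))

def c45 : Cert := (.excl 2 (.excl 5 (.excl 5 (.excl 10 (.excl 4 (.excl 1 (.excl 11 (.excl 11 (.excl 10 (.excl 1 (.excl 4 (.excl 4 (.excl 4 (.excl 4 (.excl 4 (.excl 11 (.kid 1082427 (.branch 43 7 [65, 16, 0] (.excl 4 (.excl 13 (.excl 13 (.excl 4 (.excl 10 c44)))))) (.excl 10 (.excl 1 (.excl 11 (.excl 10 (.excl 11 (.excl 10 (.excl 9 (.excl 10 (.excl 11 (.excl 11 (.excl 11 (.excl 11 (.excl 11 c4))))))))))))))))))))))))))))))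

def c46 : Cert := (.excl 9 (.excl 11 (.excl 9 (.excl 9 (.excl 9 (.excl 9 (.excl 10 (.excl 4 (.excl 10 (.excl 10 (.excl 5 (.excl 10 (.excl 10 (.excl 11 (.excl 11 (.excl 11 (.excl 5 (.excl 10 (.excl 11 (.excl 12 (.excl 2 (.excl 5 (.excl 10 (.excl 2 (.excl 11 (.excl 5 (.excl 10 (.excl 12 (.excl 5 (.excl 10 c45))))))))))))))))))))))))))))))

def c47 : Cert := (.excl 4 (.excl 11 (.excl 4 (.excl 12 (.excl 11 (.excl 5 (.excl 10 (.excl 9 (.excl 4 (.excl 4 (.excl 4 (.excl 4 (.excl 4 (.excl 4 (.excl 4 (.excl 4 (.excl 11 (.excl 11 (.excl 9 (.excl 3 (.excl 9 (.excl 4 (.excl 4 (.excl 4 (.excl 4 (.excl 4 (.excl 11 (.excl 9 (.excl 12 (.excl 9 c46))))))))))))))))))))))))))))))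

def c48 : Cert := (.excl 5 (.excl 5 (.excl 11 (.excl 4 (.excl 13 (.excl 11 (.excl 5 (.excl 10 (.excl 13 (.excl 11 (.excl 11 (.excl 11 (.excl 5 (.excl 3 (.excl 11 (.excl 22 (.excl 11 (.excl 5 (.excl 22 (.excl 22 (.excl 11 (.excl 5 (.excl 22 (.excl 22 (.excl 5 (.excl 11 (.excl 11 (.excl 5 (.excl 5 (.excl 28 c47))))))))))))))))))))))))))))))

def c49 : Cert := (.excl 4 (.excl 4 (.excl 1 (.excl 4 (.excl 0 (.excl 1 (.excl 8 (.excl 1 (.kid 1065623 (.forced 23 8 [243, 6, 3, 0] 533783 (.forced 135 8 [18, 9, 3, 1] 2103687 (.forced 519 12 [81, 9, 7, 2] 4272647 (.forced 1031 11 [115, 11, 8, 2] 4246535 (.forced 32775 16 [21, 11, 7, 0] 3768327 (.branch 43 4 [64, 15] (.excl 5 (.excl 4 (.excl 3 (.excl 4 (.excl 12 (.excl 11 (.excl 5 (.excl 3 (.excl 9 (.excl 5 (.excl 5 (.excl 5 (.excl 5 (.excl 5 (.excl 5 c48))))))))))))))))))))) (.excl 1 (.excl 0 (.excl 1 (.excl 7 (.excl 1 (.excl 7 (.excl 1 (.excl 0 (.excl 0 (.excl 1 (.excl 1 Cert.done))))))))))))))))))))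

def c50 : Cert := (.excl 4 (.excl 2 (.excl 7 (.excl 7 (.excl 2 (.excl 4 (.excl 0 (.excl 2 (.excl 2 (.excl 7 (.kid 168023 (.forced 71 7 [21, 6, 2, 0] 4980935 (.forced 131079 13 [77, 6, 2, 1] 2514951 (.branch 23 7 [242, 5, 2] (.excl 4 (.excl 6 (.excl 6 (.excl 1 (.excl 3 (.excl 7 (.excl 7 (.excl 1 (.excl 3 (.excl 0 (.excl 1 (.excl 3 (.excl 1 (.excl 3 (.excl 1 c49)))))))))))))))))) (.excl 2 (.excl 6 (.excl 185 (.excl 2 (.excl 6 (.excl 0 (.excl 2 (.excl 2 (.excl 6 (.excl 2 (.excl 65 (.excl 0 (.excl 2 (.excl 2 (.excl 65 (.excl 2 (.excl 0 (.excl 0 (.excl 2 Cert.done))))))))))))))))))))))))))))))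

def c51 : Cert := (.excl 2 (.excl 3 (.excl 6 (.excl 6 (.excl 3 (.excl 18 (.excl 18 (.excl 3 (.excl 3 (.excl 18 (.excl 2 (.excl 3 (.kid 2098791 (.forced 39 8 [12, 5, 1, 0] 5374247 (.branch 71 4 [20, 5, 1] (.excl 7 (.excl 4 (.excl 2 (.excl 6 (.excl 7 c50))))))) (.excl 181 (.excl 3 (.excl 28 (.excl 28 (.excl 3 (.excl 3 (.excl 183 (.excl 2 (.excl 2 (.excl 2 (.excl 3 (.excl 3 (.excl 183 (.excl 3 (.excl 3 (.excl 53 (.excl 3 Cert.done))))))))))))))))))))))))))))))

def c52 : Cert := (.excl 7 (.excl 1 (.excl 1 (.excl 4 (.excl 2 (.excl 4 (.excl 4 (.excl 1 (.excl 1 (.excl 1 (.excl 1 (.excl 1 (.excl 1 (.excl 1 (.excl 1 (.excl 1 (.excl 23 (.excl 23 (.excl 23 (.excl 23 (.excl 23 (.excl 23 (.excl 1 (.kid 329783 (.branch 39 6 [11, 4, 0] (.excl 1 (.excl 1 (.excl 1 (.excl 1 (.excl 1 c51)))))) (.excl 2 (.excl 124 (.excl 182 c3)))))))))))))))))))))))))))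

def c53 : Cert := (.excl 7 (.excl 7 (.excl 7 (.excl 4 (.excl 1 (.excl 1 (.excl 0 (.excl 7 (.excl 7 (.excl 7 (.excl 7 (.excl 7 (.excl 0 (.excl 2 (.excl 7 (.excl 7 (.excl 1 (.excl 0 (.excl 7 (.excl 7 (.excl 7 (.excl 0 (.excl 7 (.excl 7 (.excl 7 (.excl 0 (.excl 0 (.excl 0 (.excl 7 (.excl 7 c52))))))))))))))))))))))))))))))

def c54 : Cert := (.excl 0 (.excl 0 (.excl 0 (.excl 0 (.excl 0 (.excl 4 (.excl 1 (.excl 1 (.excl 0 (.excl 5 (.excl 5 (.excl 5 (.excl 5 (.excl 5 (.excl 0 (.excl 2 (.excl 5 (.excl 5 (.excl 1 (.excl 0 (.excl 7 (.excl 7 (.excl 7 (.excl 0 (.excl 7 (.excl 7 (.excl 7 (.excl 0 (.excl 0 (.excl 0 c53))))))))))))))))))))))))))))))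

def c55 : Cert := (.excl 1 (.excl 1 (.excl 4 (.excl 2 (.excl 4 (.excl 4 (.excl 2 (.excl 2 (.excl 2 (.excl 2 (.excl 2 (.excl 2 (.excl 1 (.excl 17 (.excl 2 (.excl 17 (.excl 17 (.excl 23 (.excl 2 (.excl 23 (.excl 23 (.excl 2 (.excl 36 (.excl 36 (.excl 2 (.excl 2 (.excl 112 (.excl 0 (.excl 0 (.excl 0 c54))))))))))))))))))))))))))))))

def c56 : Cert := (.excl 4 (.excl 4 (.excl 4 (.excl 4 (.excl 4 (.excl 4 (.excl 8 (.excl 8 (.excl 8 (.kid 197775 (.forced 15 8 [235, 2, 1, 0] 295695 (.branch 39 4 [10, 3] (.excl 0 (.excl 4 (.excl 2 (.excl 7 (.excl 7 (.excl 0 (.excl 2 (.excl 7 (.excl 7 (.excl 4 (.excl 2 (.excl 7 (.excl 7 (.excl 0 (.excl 2 (.excl 7 (.excl 7 (.excl 2 c55)))))))))))))))))))) (.excl 37 (.excl 37 (.excl 8 (.excl 8 (.excl 8 (.excl 37 Cert.done))))))))))))))))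

def c57 : Cert := (.excl 14 (.excl 14 (.excl 49 (.excl 49 (.excl 49 (.excl 7 (.excl 11 (.excl 19 (.excl 33 (.kid 1058895 (.branch 15 7 [234, 1, 0] (.excl 3 (.excl 4 (.excl 4 (.excl 4 (.excl 4 (.excl 3 (.excl 3 (.excl 3 (.excl 3 (.excl 8 (.excl 8 (.excl 8 (.excl 15 (.excl 15 (.excl 20 (.excl 4 (.excl 4 (.excl 4 (.excl 4 c56)))))))))))))))))))) c2))))))))))

def c58 : Cert := (.excl 3 (.excl 3 (.excl 3 (.excl 3 (.excl 3 (.excl 3 (.excl 3 (.excl 3 (.excl 3 (.excl 3 (.excl 3 (.excl 3 (.excl 3 (.excl 3 (.excl 1 (.excl 1 (.excl 1 (.excl 1 (.excl 1 (.excl 1 (.excl 5 (.excl 5 (.excl 5 (.excl 5 (.excl 5 (.excl 14 (.excl 49 (.excl 49 (.excl 59 (.excl 14 c57))))))))))))))))))))))))))))))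

def c59 : Cert := (.excl 2 (.excl 7 (.excl 8 (.excl 8 (.excl 8 (.excl 8 (.excl 8 (.excl 8 (.excl 8 (.excl 8 (.excl 14 (.excl 14 (.excl 14 (.excl 14 (.excl 14 (.excl 14 (.excl 1 (.excl 3 (.excl 3 (.excl 3 (.excl 3 (.excl 3 (.excl 3 (.excl 3 (.excl 3 (.excl 3 (.excl 3 (.excl 3 (.excl 3 (.excl 3 c58))))))))))))))))))))))))))))))

def c60 : Cert := (.excl 3 (.excl 3 (.excl 3 (.excl 3 (.excl 3 (.excl 3 (.excl 3 (.excl 3 (.excl 3 (.excl 3 (.excl 2 (.excl 2 (.excl 3 (.excl 3 (.excl 3 (.excl 3 (.excl 3 (.excl 3 (.excl 1 (.excl 2 (.excl 2 (.excl 2 (.excl 2 (.excl 2 (.excl 2 (.excl 2 (.excl 2 (.excl 2 (.excl 2 (.excl 2 c59))))))))))))))))))))))))))))))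

def c61 : Cert := (.excl 3 (.excl 3 (.excl 3 (.excl 3 (.excl 1 (.excl 1 (.excl 3 (.excl 3 (.excl 3 (.excl 3 (.excl 3 (.excl 3 (.excl 1 (.excl 1 (.excl 1 (.excl 1 (.excl 1 (.excl 1 (.excl 1 (.excl 1 (.excl 1 (.excl 1 (.excl 1 (.excl 1 (.excl 1 (.excl 3 (.excl 3 (.excl 3 (.excl 3 (.excl 3 c60))))))))))))))))))))))))))))))

def c62 : Cert := (.excl 1 (.excl 1 (.excl 1 (.excl 1 (.excl 1 (.excl 1 (.excl 4 (.excl 6 (.excl 6 (.excl 6 (.excl 6 (.excl 6 (.excl 6 (.excl 6 (.excl 12 (.excl 18 (.excl 35 (.kid 544815 (.branch 15 6 [233, 0] (.excl 3 (.excl 1 (.excl 1 (.excl 3 (.excl 3 c61)))))) (.excl 84 (.excl 6 (.excl 6 (.excl 6 (.excl 6 (.excl 6 (.excl 15 (.excl 15 (.excl 15 (.excl 15 (.excl 18 (.excl 18 c1))))))))))))))))))))))))))))))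

def c63 : Cert := (.excl 1 (.excl 1 (.excl 1 (.excl 1 (.excl 1 (.excl 1 (.excl 1 (.excl 1 (.excl 1 (.excl 1 (.excl 1 (.excl 1 (.excl 1 (.excl 1 (.excl 1 (.excl 1 (.excl 1 (.excl 1 (.excl 1 (.excl 1 (.excl 1 (.excl 1 (.excl 1 (.excl 1 (.excl 1 (.excl 1 (.excl 1 (.excl 1 (.excl 1 (.excl 1 c62))))))))))))))))))))))))))))))

def c64 : Cert := (.excl 1 (.excl 1 (.excl 1 (.excl 1 (.excl 1 (.excl 1 (.excl 1 (.excl 1 (.excl 1 (.excl 1 (.excl 1 (.excl 1 (.excl 1 (.excl 1 (.excl 1 (.excl 1 (.excl 1 (.excl 1 (.excl 1 (.excl 1 (.excl 1 (.excl 1 (.excl 1 (.excl 1 (.excl 1 (.excl 1 (.excl 1 (.excl 1 (.excl 1 (.excl 1 c63))))))))))))))))))))))))))))))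

def c65 : Cert := (.excl 6 (.excl 6 (.excl 6 (.excl 6 (.excl 6 (.excl 48 (.excl 48 (.excl 68 (.excl 90 (.excl 48 (.excl 48 (.excl 48 (.excl 48 (.excl 48 (.excl 68 (.excl 1 (.excl 1 (.excl 1 (.excl 1 (.excl 1 (.excl 1 (.excl 1 (.excl 1 (.excl 1 (.excl 1 (.excl 1 (.excl 1 (.excl 1 (.excl 1 (.excl 1 c64))))))))))))))))))))))))))))))

def c66 : Cert := (.excl 1 (.excl 1 (.excl 1 (.excl 1 (.excl 1 (.excl 1 (.excl 1 (.excl 1 (.excl 1 (.excl 2 (.excl 2 (.excl 2 (.excl 2 (.excl 2 (.excl 2 (.excl 2 (.excl 2 (.excl 4 (.excl 4 (.excl 4 (.excl 4 (.excl 4 (.excl 4 (.excl 4 (.excl 4 (.excl 4 (.excl 4 (.excl 4 (.excl 4 (.excl 4 c65))))))))))))))))))))))))))))))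

def c67 : Cert := (.excl 1 (.excl 1 (.excl 1 (.excl 1 (.excl 1 (.excl 1 (.excl 1 (.excl 1 (.excl 1 (.excl 1 (.excl 1 (.excl 1 (.excl 1 (.excl 1 (.excl 1 (.excl 1 (.excl 1 (.excl 1 (.excl 1 (.excl 1 (.excl 1 (.excl 1 (.excl 1 (.excl 1 (.excl 1 (.excl 1 (.excl 1 (.excl 1 (.excl 1 (.excl 1 c66))))))))))))))))))))))))))))))

def c68 : Cert := (.excl 1 (.excl 1 (.excl 1 (.excl 1 (.excl 1 (.excl 1 (.excl 1 (.excl 1 (.excl 1 (.excl 1 (.excl 1 (.excl 1 (.excl 1 (.excl 1 (.excl 1 (.excl 1 (.excl 1 (.excl 1 (.excl 1 (.excl 1 (.excl 1 (.excl 1 (.excl 1 (.excl 1 (.excl 1 (.excl 1 (.excl 1 (.excl 1 (.excl 1 (.excl 1 c67))))))))))))))))))))))))))))))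

def c69 : Cert := (.excl 6 (.excl 6 (.excl 6 (.excl 6 (.excl 6 (.excl 6 (.excl 6 (.excl 6 (.excl 6 (.excl 6 (.excl 6 (.excl 6 (.excl 6 (.excl 6 (.excl 1 (.excl 1 (.excl 1 (.excl 1 (.excl 1 (.excl 1 (.excl 1 (.excl 1 (.excl 1 (.excl 1 (.excl 1 (.excl 1 (.excl 1 (.excl 1 (.excl 1 (.excl 1 c68))))))))))))))))))))))))))))))

def c70 : Cert := (.excl 1 (.excl 1 (.excl 1 (.excl 1 (.excl 1 (.excl 1 (.excl 1 (.excl 1 (.excl 2 (.excl 2 (.excl 2 (.excl 2 (.excl 2 (.excl 2 (.excl 2 (.excl 2 (.excl 4 (.excl 6 (.excl 6 (.excl 6 (.excl 6 (.excl 6 (.excl 6 (.excl 6 (.excl 6 (.excl 6 (.excl 6 (.excl 6 (.excl 6 (.excl 6 c69))))))))))))))))))))))))))))))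

def c71 : Cert := (.excl 1 (.excl 1 (.excl 1 (.excl 1 (.excl 1 (.excl 1 (.excl 1 (.excl 1 (.excl 1 (.excl 1 (.excl 2 (.excl 2 (.excl 2 (.excl 2 (.excl 2 (.excl 2 (.excl 2 (.excl 2 (.excl 2 (.excl 0 (.excl 1 (.excl 1 (.excl 1 (.excl 1 (.excl 1 (.excl 1 (.excl 1 (.excl 1 (.excl 1 (.excl 1 c70))))))))))))))))))))))))))))))

def c72 : Cert := (.excl 6 (.excl 6 (.excl 6 (.excl 6 (.excl 6 (.excl 6 (.excl 12 (.excl 13 (.excl 13 (.excl 13 (.excl 13 (.excl 6 (.excl 6 (.excl 6 (.excl 6 (.excl 6 (.excl 13 (.excl 13 (.excl 13 (.excl 13 (.excl 48 (.excl 48 (.excl 48 (.excl 48 (.excl 48 (.excl 48 (.excl 1 (.excl 1 (.excl 1 (.excl 1 c71))))))))))))))))))))))))))))))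

def c73 : Cert := (.excl 2 (.excl 0 (.excl 1 (.excl 1 (.excl 1 (.excl 1 (.excl 1 (.excl 1 (.excl 1 (.excl 1 (.excl 1 (.excl 1 (.excl 1 (.excl 1 (.excl 1 (.excl 1 (.excl 1 (.excl 1 (.excl 1 (.excl 1 (.excl 2 (.excl 2 (.excl 2 (.excl 2 (.excl 2 (.excl 2 (.excl 2 (.excl 2 (.excl 4 (.excl 6 c72))))))))))))))))))))))))))))))

def c74 : Cert := (.excl 2 (.excl 2 (.excl 2 (.excl 2 (.excl 2 (.excl 2 (.excl 2 (.excl 2 (.excl 1 (.excl 1 (.excl 1 (.excl 1 (.excl 1 (.excl 1 (.excl 1 (.excl 1 (.excl 1 (.excl 1 (.excl 1 (.excl 1 (.excl 1 (.excl 1 (.excl 2 (.excl 2 (.excl 2 (.excl 2 (.excl 2 (.excl 2 (.excl 2 (.excl 2 c73))))))))))))))))))))))))))))))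

def cert : Cert := (.branch 15 5 [232] (.excl 1 (.excl 2 (.excl 0 (.excl 0 (.excl 2 c74))))))

theorem K0_ok : targetOk 24 5 8 K0 = true := by decide +kernel

theorem cert_node : cert.isNode = true := by decide +kernel

theorem cert_ok : check 24 5 8 K0 cert K1 [] 0 [] = true := by decide +kernel

universe u

theorem unique {α : Type u} [Fintype α] [DecidableEq α] (hα : Fintype.card α = 24)
    {B : Set (Finset α)} (hB : IsSteinerSystem 5 8 B) : SetSystemIso B (sysOf 24 K0) :=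
  unique_ext (n := 23) (t := 4) (k := 7) K0_ok cert_node K1_eq cert_ok hα hB
    (@fun γ _ _ hγ D hD => @W23.unique γ _ _ hγ D hD)

end Cfsg.Agent.Lib.Helper1.Stein.W24
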