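import Mathlib
import Cfsg.Agent.Lib.Helper1.LeechCharD
import Cfsg.Agent.S0375

/-!
# The code of the lattice is the code of length 24
-/

set_option autoImplicit false

namespace Cfsg.Agent.Lib.Helper1.LeechChar

open Matrix Cfsg

variable {L : AddSubgroup Z24}

theorem card_code (L : AddSubgroup Z24) : Nat.card ↥(code L) = (codeF L).card := by
  classical
  rw [Nat.card_congr (Equiv.subtypeEquivRight (fun w => (mem_codeF (L := L) (w := w)).symm)),
    Nat.card_eq_fintype_card, Fintype.card_coe]

theorem Fr.finrank_le (h : Fr L) : Module.finrank (ZMod 2) ↥(code L) ≤ 12 := by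
  have hnd : (Matrix.toBilin' (1 : Matrix (Fin 24) (Fin 24) (ZMod 2))).Nondegenerate :=
    LinearMap.BilinForm.nondegenerate_toBilin'_of_det_ne_zero' 1 (by simp)
  have h1 := LinearMap.BilinForm.finrank_orthogonal hnd (code L)
  have h2 : code L ≤ (Matrix.toBilin' (1 : Matrix (Fin 24) (Fin 24) (ZMod 2))).orthogonal
      (code L) := by
    intro x hx
    rw [LinearMap.BilinForm.mem_orthogonal_iff]
    intro w hw
    rw [Matrix.toBilin'_apply', Matrix.one_mulVec]
    exact h.code_orth hw hx
  have h3 := Submodule.finrank_mono h2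
  rw [h1, Module.finrank_fin_fun] at h3
  omega

theorem Fr.finrank_code (h : Fr L) (hcnt : (MinSet L).ncard = 196560) :
    Module.finrank (ZMod 2) ↥(code L) = 12 := by
  have h1 := h.finrank_le
  have h2 := (h.count hcnt).1
  rw [← card_code, Module.natCard_eq_pow_finrank (K := ZMod 2), Nat.card_zmod] at h2
  by_contra hne
  have h3 : Module.finrank (ZMod 2) ↥(code L) ≤ 11 := by omega
  have h4 := Nat.pow_le_pow_right (by norm_num : 1 ≤ 2) h3
  omega

/-- the code of the lattice is equivalent to the code of length 24 -/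
theorem Fr.exists_equiv (h : Fr L) (hcnt : (MinSet L).ncard = 196560) :
    ∃ e : Fin 24 ≃ GolayPt, ∀ w : GolayPt → ZMod 2,
      w ∈ golayCode ↔ (fun i => w (e i)) ∈ code L := by
  apply Cfsg.Agent.S0375.result (code L) (h.finrank_code hcnt)
  · intro v hv w hw
    exact h.code_orth hv hw
  · intro w hw
    exact h.code_dvd hw
  · intro w hw
    by_cases hw0 : w = 0
    · rw [hw0]
      simp
    · have := h.code_weight hw hw0
      omega

end Cfsg.Agent.Lib.Helper1.LeechChar
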