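import Mathlib
import Cfsg.Agent.Lib.Helper1.LeechCharE
import Cfsg.Agent.Lib.Helper1.Leech1

/-!
# The lattice in normalized frame coordinates is the standard lattice
-/

set_option autoImplicit false

namespace Cfsg.Agent.Lib.Helper1.LeechChar

open Matrix Cfsg Cfsg.Agent.Lib.Helper1

variable {L : AddSubgroup Z24}

/-- the level word -/
def lw (c : Z24) (k : ℤ) : Fin 24 → ZMod 2 := fun i => if c i % 4 = k % 4 then 1 else 0

/-- transport to the standard coordinates -/
def tr (e : Fin 24 ≃ GolayPt) (c : Z24) : GolayPt → ℤ := fun p => c (e.symm p)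

theorem tr_sub (e : Fin 24 ≃ GolayPt) (c c' : Z24) : tr e (c - c') = tr e c - tr e c' := rfl

theorem sum_tr (e : Fin 24 ≃ GolayPt) (c : Z24) : ∑ p, tr e c p = ∑ i, c i :=
  Equiv.sum_comp e.symm c

theorem gC_iff_word (S : Finset GolayPt) :
    S ∈ gC ↔ (fun p => if p ∈ S then (1 : ZMod 2) else 0) ∈ golayCode := by
  have h01 : ∀ a : ZMod 2, a ≠ 0 → a = 1 := by decide
  constructor
  · rintro ⟨w, hw, rfl⟩
    have : (fun p => if p ∈ support₂ w then (1 : ZMod 2) else 0) = w := by
      funext p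
      unfold support₂
      simp only [Finset.mem_filter, Finset.mem_univ, true_and]
      by_cases hp : w p = 0
      · rw [if_neg (not_not.mpr hp), hp]
      · rw [if_pos hp, h01 _ hp]
    rw [this]
    exact hw
  · intro h
    refine ⟨_, h, ?_⟩
    ext p
    unfold support₂
    simp only [Finset.mem_filter, Finset.mem_univ, true_and]
    by_cases hp : p ∈ S
    · simp [hp]
    · simp [hp]

theorem lvl_tr_mem {e : Fin 24 ≃ GolayPt}
    (hE : ∀ w : GolayPt → ZMod 2, w ∈ golayCode ↔ (fun i => w (e i)) ∈ code L) (c : Z24) (k : ℤ) :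
    lvl (tr e c) k ∈ gC ↔ lw c k ∈ code L := by
  rw [gC_iff_word, hE]
  have : (fun i => (fun p => if p ∈ lvl (tr e c) k then (1 : ZMod 2) else 0) (e i)) = lw c k := by
    funext i
    have hm : e i ∈ lvl (tr e c) k ↔ c i % 4 = k % 4 := by
      unfold lvl
      rw [Finset.mem_filter]
      unfold tr
      rw [Equiv.symm_apply_apply]
      exact ⟨fun h' => h'.2, fun h' => ⟨Finset.mem_univ _, h'⟩⟩
    unfold lw
    show (if e i ∈ lvl (tr e c) k then (1 : ZMod 2) else 0) = _
    by_cases h' : c i % 4 = k % 4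
    · rw [if_pos h', if_pos (hm.mpr h')]
    · rw [if_neg h', if_neg (fun h'' => h' (hm.mp h''))]
  rw [this]

theorem ones_mem {e : Fin 24 ≃ GolayPt}
    (hE : ∀ w : GolayPt → ZMod 2, w ∈ golayCode ↔ (fun i => w (e i)) ∈ code L) :
    (fun _ => 1 : Fin 24 → ZMod 2) ∈ code L := by
  have h1 : (1 : GolayPt → ZMod 2) ∈ golayCode :=
    Submodule.subset_span (Or.inr rfl)
  exact (hE 1).mp h1

theorem lw_two_mem {c : Z24} (hc : c ∈ L) (hev : ∀ i, (2 : ℤ) ∣ c i) : lw c 2 ∈ code L := by
  choose d hd using hev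
  refine ⟨d, ?_, fun i => ?_⟩
  · have : (2 : ℤ) • d = c := by
      funext i
      rw [Pi.smul_apply, smul_eq_mul, ← hd i]
    rw [this]
    exact hc
  · unfold lw
    by_cases hi : (2 : ℤ) ∣ d i
    · rw [cast_eq_zero_of_two_dvd hi, if_neg]
      rw [hd i]
      omega
    · have h1 : ((d i : ℤ) : ZMod 2) ≠ 0 := fun h' => hi (two_dvd_of_cast_eq_zero h')
      have h01 : ∀ a : ZMod 2, a ≠ 0 → a = 1 := by decide
      rw [h01 _ h1, if_pos]
      rw [hd i]
      omega

theorem lw_mod (c : Z24) (k : ℤ) : lw c k = lw c (k % 4) := by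
  unfold lw
  funext i
  rw [Int.emod_emod_of_dvd k (dvd_refl 4)]

/-- the hypotheses of the normalized situation -/
structure Nrm (L : AddSubgroup Z24) (o : Z24) (e : Fin 24 ≃ GolayPt) : Prop where
  fr : Fr L
  ho : o ∈ L
  ho1 : ∀ i, o i % 4 = 1
  hE : ∀ w : GolayPt → ZMod 2, w ∈ golayCode ↔ (fun i => w (e i)) ∈ code L

variable {o : Z24} {e : Fin 24 ≃ GolayPt}

theorem Nrm.sum_even (n : Nrm L o e) {c : Z24} (hc : c ∈ L) (hev : ∀ i, (2 : ℤ) ∣ c i) :
    (8 : ℤ) ∣ ∑ i, c i := by
  have h1 := n.fr.dot8 o n.ho c hc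
  have h2 : (8 : ℤ) ∣ ∑ i, (o i - 1) * c i := by
    apply Finset.dvd_sum
    intro i _
    have a := n.ho1 i
    obtain ⟨t, ht⟩ := hev i
    have : o i - 1 = 4 * (o i / 4) := by omega
    rw [this, ht]
    exact ⟨o i / 4 * t, by ring⟩
  have h3 : ∑ i, (o i - 1) * c i = o ⬝ᵥ c - ∑ i, c i := by
    unfold dotProduct
    rw [← Finset.sum_sub_distrib]
    apply Finset.sum_congr rfl
    intro i _
    ring
  rw [h3] at h2
  omega

theorem Nrm.sum_o (n : Nrm L o e) : (∑ i, o i) % 8 = 4 := by
  have h1 := n.fr.sq16 o n.ho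
  -- o i = 1 + 4 t i
  have ht : ∀ i, ∃ t : ℤ, o i = 1 + 4 * t := fun i => ⟨o i / 4, by have := n.ho1 i; omega⟩
  choose t ht using ht
  have h2 : o ⬝ᵥ o = 24 + 8 * ∑ i, t i + 16 * ∑ i, t i * t i := by
    unfold dotProduct
    rw [Finset.mul_sum, Finset.mul_sum]
    have : (24 : ℤ) = ∑ _i : Fin 24, (1 : ℤ) := by simp
    rw [this, ← Finset.sum_add_distrib, ← Finset.sum_add_distrib]
    apply Finset.sum_congr rfl
    intro i _
    rw [ht i]
    ring
  have h3 : ∑ i, o i = 24 + 4 * ∑ i, t i := by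
    rw [Finset.mul_sum]
    have : (24 : ℤ) = ∑ _i : Fin 24, (1 : ℤ) := by simp
    rw [this, ← Finset.sum_add_distrib]
    apply Finset.sum_congr rfl
    intro i _
    rw [ht i]
  rw [h2] at h1
  rw [h3]
  omega

theorem one_add_one_zmod : (1 + 1 : ZMod 2) = 0 := by decide

/-- even vectors of the lattice are in the standard lattice -/
theorem Nrm.tr_mem_even (n : Nrm L o e) {c : Z24} (hc : c ∈ L) (hev : ∀ i, (2 : ℤ) ∣ c i) :
    tr e c ∈ leechSet := by
  rw [mem_leechSet_iff]
  refine ⟨0, fun p => ?_, ?_, fun k => ?_⟩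
  · exact (Int.modEq_zero_iff_dvd).mpr (hev _)
  · rw [sum_tr, mul_zero]
    exact (Int.modEq_zero_iff_dvd).mpr (n.sum_even hc hev)
  · rw [lvl_tr_mem n.hE, lw_mod]
    have hk : k % 4 = 0 ∨ k % 4 = 1 ∨ k % 4 = 2 ∨ k % 4 = 3 := by omega
    rcases hk with hk | hk | hk | hk <;> rw [hk]
    · have : lw c 0 = lw c 2 + (fun _ => 1) := by
        funext i
        unfold lw
        simp only [Pi.add_apply]
        obtain ⟨t, ht⟩ := hev i
        by_cases h' : c i % 4 = 0
        · rw [if_pos (by omega), if_neg (by omega), zero_add]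
        · rw [if_neg (by omega), if_pos (by omega), one_add_one_zmod]
      rw [this]
      exact (code L).add_mem (lw_two_mem hc hev) (ones_mem n.hE)
    · have : lw c 1 = 0 := by
        funext i
        unfold lw
        obtain ⟨t, ht⟩ := hev i
        rw [if_neg (by omega)]
        rfl
      rw [this]
      exact (code L).zero_mem
    · exact lw_two_mem hc hev
    · have : lw c 3 = 0 := by
        funext i
        unfold lw
        obtain ⟨t, ht⟩ := hev i
        rw [if_neg (by omega)]
        rfl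
      rw [this]
      exact (code L).zero_mem

/-- odd vectors of the lattice are in the standard lattice -/
theorem Nrm.tr_mem_odd (n : Nrm L o e) {c : Z24} (hc : c ∈ L) (hodd : ∀ i, ¬ (2 : ℤ) ∣ c i) :
    tr e c ∈ leechSet := by
  have hco : c - o ∈ L := L.sub_mem hc n.ho
  have hev : ∀ i, (2 : ℤ) ∣ (c - o) i := by
    intro i
    have h1 := hodd i
    have h2 := n.ho1 i
    rw [Pi.sub_apply]
    omega
  rw [mem_leechSet_iff]
  refine ⟨1, fun p => ?_, ?_, fun k => ?_⟩
  · unfold Int.ModEq tr
    have := hodd (e.symm p)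
    omega
  · rw [sum_tr]
    have h1 := n.sum_even hco hev
    have h2 := n.sum_o
    simp only [Pi.sub_apply, Finset.sum_sub_distrib] at h1
    unfold Int.ModEq
    omega
  · rw [lvl_tr_mem n.hE, lw_mod]
    have hk : k % 4 = 0 ∨ k % 4 = 1 ∨ k % 4 = 2 ∨ k % 4 = 3 := by omega
    rcases hk with hk | hk | hk | hk <;> rw [hk]
    · have : lw c 0 = 0 := by
        funext i
        unfold lw
        have := hodd i
        rw [if_neg (by omega)]
        rfl
      rw [this]
      exact (code L).zero_mem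
    · have : lw c 1 = lw (c - o) 2 + (fun _ => 1) := by
        funext i
        unfold lw
        simp only [Pi.add_apply, Pi.sub_apply]
        have h1 := hodd i
        have h2 := n.ho1 i
        by_cases h' : c i % 4 = 1
        · rw [if_pos (by omega), if_neg (by omega), zero_add]
        · rw [if_neg (by omega), if_pos (by omega), one_add_one_zmod]
      rw [this]
      exact (code L).add_mem (lw_two_mem hco hev) (ones_mem n.hE)
    · have : lw c 2 = 0 := by
        funext i
        unfold lw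
        have := hodd i
        rw [if_neg (by omega)]
        rfl
      rw [this]
      exact (code L).zero_mem
    · have : lw c 3 = lw (c - o) 2 := by
        funext i
        unfold lw
        simp only [Pi.sub_apply]
        have h1 := hodd i
        have h2 := n.ho1 i
        by_cases h' : c i % 4 = 3
        · rw [if_pos (by omega), if_pos (by omega)]
        · rw [if_neg (by omega), if_neg (by omega)]
      rw [this]
      exact lw_two_mem hco hev

theorem Nrm.tr_mem (n : Nrm L o e) {c : Z24} (hc : c ∈ L) : tr e c ∈ leechSet := by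
  rcases n.fr.even_or_odd hc with h' | h'
  · exact n.tr_mem_even hc h'
  · exact n.tr_mem_odd hc h'

/-- even vectors of the standard lattice come from the lattice -/
theorem Nrm.mem_of_tr_even (n : Nrm L o e) {c : Z24} (hev : ∀ i, (2 : ℤ) ∣ c i)
    (ht : tr e c ∈ leechSet) : c ∈ L := by
  rw [mem_leechSet_iff] at ht
  obtain ⟨m, h1, h2, h3⟩ := ht
  have hm : (2 : ℤ) ∣ m := by
    have a := h1 (e 0)
    unfold tr Int.ModEq at a
    rw [Equiv.symm_apply_apply] at a
    have b := hev 0
    omega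
  have hsum : (8 : ℤ) ∣ ∑ i, c i := by
    rw [sum_tr] at h2
    unfold Int.ModEq at h2
    obtain ⟨t, rfl⟩ := hm
    omega
  have hw : lw c 2 ∈ code L := (lvl_tr_mem n.hE c 2).mp (h3 2)
  obtain ⟨c0, hc0, hc0w⟩ := n.fr.exists_pure hw
  have hdiv : ∀ i, (4 : ℤ) ∣ (c - c0) i := by
    intro i
    rw [Pi.sub_apply]
    obtain ⟨t, ht⟩ := hev i
    by_cases hi : lw c 2 i = 0
    · rw [(hc0w i).1 hi, sub_zero]
      unfold lw at hi
      split_ifs at hi with h'
      · exact absurd hi one_ne_zero
      · omega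
    · have a := (hc0w i).2 hi
      unfold lw at hi
      split_ifs at hi with h'
      · rcases a with a | a <;> rw [a] <;> omega
      · exact absurd rfl hi
  choose t ht using hdiv
  have hc0ev : ∀ i, (2 : ℤ) ∣ c0 i := by
    intro i
    by_cases hi : lw c 2 i = 0
    · rw [(hc0w i).1 hi]
      exact dvd_zero _
    · rcases (hc0w i).2 hi with a | a <;> rw [a] <;> norm_num
  have hsum0 := n.sum_even hc0 hc0ev
  have e1 : c - c0 = (4 : ℤ) • t := funext (fun i => by
    rw [Pi.smul_apply, smul_eq_mul]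
    exact ht i)
  have hst : (2 : ℤ) ∣ ∑ i, t i := by
    have : ∑ i, (c - c0) i = 4 * ∑ i, t i := by
      rw [Finset.mul_sum]
      exact Finset.sum_congr rfl (fun i _ => ht i)
    simp only [Pi.sub_apply, Finset.sum_sub_distrib] at this
    omega
  have h4 := n.fr.four_smul_mem t hst
  rw [← e1] at h4
  have h5 := L.add_mem h4 hc0
  rwa [sub_add_cancel] at h5

theorem Nrm.mem_of_tr (n : Nrm L o e) {c : Z24} (ht : tr e c ∈ leechSet) : c ∈ L := by
  have hpar : ∀ i, (2 : ℤ) ∣ c i - c 0 := by
    obtain ⟨m, h1, -, -⟩ := (mem_leechSet_iff _).mp ht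
    intro i
    have a := h1 (e i)
    have b := h1 (e 0)
    unfold tr Int.ModEq at a b
    rw [Equiv.symm_apply_apply] at a b
    omega
  by_cases h0 : (2 : ℤ) ∣ c 0
  · apply n.mem_of_tr_even _ ht
    intro i
    have := hpar i
    omega
  · have hto : tr e o ∈ leechSet := n.tr_mem_odd n.ho (fun i => by
      have := n.ho1 i
      omega)
    have h1 : tr e (c - o) ∈ leechSet := by
      rw [tr_sub, sub_eq_add_neg]
      exact add_mem_leechSet ht (neg_mem_leechSet hto)
    have hev : ∀ i, (2 : ℤ) ∣ (c - o) i := by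
      intro i
      have a := hpar i
      have b := n.ho1 i
      rw [Pi.sub_apply]
      omega
    have h2 := n.mem_of_tr_even hev h1
    have h3 := L.add_mem h2 n.ho
    rwa [sub_add_cancel] at h3

theorem Nrm.mem_iff (n : Nrm L o e) (c : Z24) : c ∈ L ↔ tr e c ∈ leechSet :=
  ⟨fun h => n.tr_mem h, fun h => n.mem_of_tr h⟩

end Cfsg.Agent.Lib.Helper1.LeechChar
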