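import Mathlib
import Cfsg.Agent.Lib.Helper1.AbsCross2
import Cfsg.Agent.Lib.Helper1.LeechCharD

/-!
# Coordinate frames of a lattice with the vector counts of the standard lattice
-/

set_option autoImplicit false

namespace Cfsg.Agent.Lib.Helper1.LeechChar

open Matrix Cfsg.Agent.Lib.Helper1.AbsCross

variable {B : Matrix (Fin 24) (Fin 24) ℤ}

theorem mul_comm_of_eq_smul_one {n : ℕ} (A A' : Matrix (Fin n) (Fin n) ℤ) (k : ℤ) (hk : k ≠ 0)
    (h : A * A' = k • (1 : Matrix (Fin n) (Fin n) ℤ)) : A' * A = k • 1 := by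
  have hinj : Function.Injective (fun M : Matrix (Fin n) (Fin n) ℤ => M.map (Int.cast : ℤ → ℚ)) :=
    Matrix.map_injective Int.cast_injective
  apply hinj
  let f := (Int.castRingHom ℚ).mapMatrix (m := Fin n)
  show f (A' * A) = f (k • 1)
  have h1 : f A * f A' = (k : ℚ) • (1 : Matrix (Fin n) (Fin n) ℚ) := by
    rw [← map_mul, h, map_zsmul, map_one, Int.cast_smul_eq_zsmul]
  have hk' : (k : ℚ) ≠ 0 := by exact_mod_cast hk
  have h2 : f A * ((k : ℚ)⁻¹ • f A') = 1 := by
    rw [Matrix.mul_smul, h1, smul_smul, inv_mul_cancel₀ hk', one_smul]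
  have h3 := mul_eq_one_comm.mp h2
  rw [Matrix.smul_mul] at h3
  rw [map_mul, map_zsmul, map_one, ← Int.cast_smul_eq_zsmul ℚ]
  calc f A' * f A = (k : ℚ) • ((k : ℚ)⁻¹ • (f A' * f A)) := by
        rw [smul_smul, mul_inv_cancel₀ hk', one_smul]
    _ = (k : ℚ) • 1 := by rw [h3]

/-- a coordinate frame: 24 pairwise orthogonal vectors of norm 8, congruent modulo 2 -/
structure Frame (B : Matrix (Fin 24) (Fin 24) ℤ) (v : Fin 24 → Z24) : Prop where
  gram : ∀ i j, bf B (v i) (v j) = if i = j then 8 else 0
  cong : ∀ i j, cl (v i) = cl (v j)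

/-- the coordinates of a vector in a frame -/
def coord (B : Matrix (Fin 24) (Fin 24) ℤ) (v : Fin 24 → Z24) (x : Z24) : Z24 :=
  fun i => bf B (v i) x

theorem coord_eq (v : Fin 24 → Z24) (x : Z24) :
    coord B v x = (Matrix.of v * B) *ᵥ x := by
  rw [← Matrix.mulVec_mulVec]
  rfl

theorem cl_neg (y : Z24) : cl (-y) = cl y := by
  funext i
  unfold cl
  rw [Pi.neg_apply, Int.cast_neg]
  exact ZMod.neg_eq_self_mod_two _

variable {v : Fin 24 → Z24}

theorem Frame.gramMatrix (hv : Frame B v) :
    (Matrix.of v * B) * (Matrix.of v)ᵀ = (8 : ℤ) • (1 : Matrix (Fin 24) (Fin 24) ℤ) := by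
  ext i j
  have h1 : ((Matrix.of v * B) * (Matrix.of v)ᵀ) i j = ((Matrix.of v * B) *ᵥ (v j)) i := by
    rw [Matrix.mul_apply]
    rfl
  rw [h1, ← coord_eq]
  show bf B (v i) (v j) = _
  rw [hv.gram i j, Matrix.smul_apply, Matrix.one_apply, smul_eq_mul]
  split_ifs <;> norm_num

/-- the coordinates preserve the form, up to the factor 8 -/
theorem Frame.dot (hv : Frame B v) (hsymm : B.IsSymm) (x y : Z24) :
    coord B v x ⬝ᵥ coord B v y = 8 * bf B x y := by
  have h1 := mul_comm_of_eq_smul_one _ _ 8 (by norm_num) hv.gramMatrix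
  have h2 : (Matrix.of v * B)ᵀ * (Matrix.of v * B) = (8 : ℤ) • B := by
    rw [Matrix.transpose_mul, hsymm.eq, Matrix.mul_assoc, h1, Matrix.mul_smul, Matrix.mul_one]
  rw [coord_eq, coord_eq, ← Matrix.vecMul_transpose, ← Matrix.dotProduct_mulVec,
    Matrix.mulVec_mulVec, h2, Matrix.smul_mulVec, dotProduct_smul, smul_eq_mul]
  rfl

/-- the coordinate map -/
def coordHom (B : Matrix (Fin 24) (Fin 24) ℤ) (v : Fin 24 → Z24) : Z24 →+ Z24 where
  toFun := coord B v
  map_zero' := by
    funext i
    unfold coord bf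
    rw [Matrix.mulVec_zero, dotProduct_zero]
    rfl
  map_add' := by
    intro x y
    funext i
    unfold coord
    rw [bf_add_right]
    rfl

theorem coordHom_apply (v : Fin 24 → Z24) (x : Z24) : coordHom B v x = coord B v x := rfl

/-- the lattice in the coordinates of the frame -/
def LL (B : Matrix (Fin 24) (Fin 24) ℤ) (v : Fin 24 → Z24) : AddSubgroup Z24 := (coordHom B v).range

theorem mem_LL (v : Fin 24 → Z24) (c : Z24) : c ∈ LL B v ↔ ∃ x, coord B v x = c := Iff.rfl

theorem Frame.coord_injective (hv : Frame B v) (h : Hyp B) : Function.Injective (coord B v) := by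
  intro x y hxy
  have h1 : coord B v (x - y) = 0 := by
    have := (coordHom B v).map_sub x y
    rw [coordHom_apply, coordHom_apply, coordHom_apply, hxy, sub_self] at this
    exact this
  have h2 := hv.dot h.symm (x - y) (x - y)
  rw [h1, zero_dotProduct] at h2
  have h3 : bf B (x - y) (x - y) = 0 := by omega
  exact sub_eq_zero.mp (h.eq_zero_of_q h3)

theorem Frame.coord_self (hv : Frame B v) (i : Fin 24) : coord B v (v i) = Pi.single i 8 := by
  funext k
  unfold coord
  rw [hv.gram k i, Pi.single_apply]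

/-- the lattice of a frame has the frame properties -/
theorem Frame.fr (hv : Frame B v) (h : Hyp B) : Fr (LL B v) where
  e8 := fun i => ⟨v i, hv.coord_self i⟩
  e44 := by
    intro i j _
    have hc := (cl_eq_iff (v i) (-(v j))).mp (by rw [cl_neg]; exact hv.cong i j)
    obtain ⟨z, hz⟩ := exists_half hc
    rw [sub_neg_eq_add] at hz
    refine ⟨z, ?_⟩
    have h1 : coord B v (v i + v j) = Pi.single i 8 + Pi.single j 8 := by
      have := (coordHom B v).map_add (v i) (v j)
      rw [coordHom_apply, coordHom_apply, coordHom_apply, hv.coord_self, hv.coord_self] at this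
      exact this
    have h2 : coord B v ((2 : ℤ) • z) = (2 : ℤ) • coord B v z := by
      have := map_zsmul (coordHom B v) 2 z
      exact this
    rw [hz, h2] at h1
    rw [coordHom_apply]
    funext k
    have := congrFun h1 k
    simp only [Pi.smul_apply, smul_eq_mul, Pi.add_apply, Pi.single_apply] at this ⊢
    split_ifs at this ⊢ <;> omega
  dot8 := by
    rintro _ ⟨x, rfl⟩ _ ⟨y, rfl⟩
    rw [coordHom_apply, coordHom_apply, hv.dot h.symm]
    exact ⟨bf B x y, rfl⟩
  sq16 := by
    rintro _ ⟨x, rfl⟩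
    rw [coordHom_apply, hv.dot h.symm]
    obtain ⟨t, ht⟩ := h.even x
    exact ⟨t, by rw [ht]; ring⟩
  min32 := by
    rintro _ ⟨x, rfl⟩ hne
    rw [coordHom_apply] at hne ⊢
    rw [hv.dot h.symm]
    have hx : x ≠ 0 := by
      rintro rfl
      apply hne
      exact (coordHom B v).map_zero
    have := h.four_le hx
    omega

theorem Frame.minSet (hv : Frame B v) (h : Hyp B) (c : Cnt B) :
    (MinSet (LL B v)).ncard = 196560 := by
  have e : MinSet (LL B v) = coord B v '' {x : Z24 | bf B x x = 4} := by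
    ext y
    constructor
    · rintro ⟨⟨x, rfl⟩, h32⟩
      rw [coordHom_apply, hv.dot h.symm] at h32
      refine ⟨x, ?_, rfl⟩
      show bf B x x = 4
      omega
    · rintro ⟨x, hx, rfl⟩
      refine ⟨⟨x, rfl⟩, ?_⟩
      rw [hv.dot h.symm]
      have : bf B x x = 4 := hx
      rw [this]
      norm_num
  rw [e, Set.ncard_image_of_injective _ (hv.coord_injective h), c.c4]

/-- changing the signs of the vectors of a frame -/
theorem Frame.flip (hv : Frame B v) (σ : Fin 24 → ℤ) (hσ : ∀ i, σ i = 1 ∨ σ i = -1) :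
    Frame B (fun i => σ i • v i) where
  gram := by
    intro i j
    have h1 : bf B (σ i • v i) (σ j • v j) = σ i * σ j * bf B (v i) (v j) := by
      unfold bf
      rw [Matrix.mulVec_smul, smul_dotProduct, dotProduct_smul, smul_eq_mul, smul_eq_mul]
      ring
    rw [h1, hv.gram i j]
    by_cases hij : i = j
    · rw [if_pos hij, hij]
      rcases hσ j with h' | h' <;> rw [h'] <;> norm_num
    · rw [if_neg hij, mul_zero]
  cong := by
    intro i j
    have key : ∀ i, cl (σ i • v i) = cl (v i) := by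
      intro i
      rcases hσ i with h' | h'
      · rw [h', one_smul]
      · rw [h', neg_one_smul, cl_neg]
    rw [key i, key j]
    exact hv.cong i j

theorem coord_flip (v : Fin 24 → Z24) (σ : Fin 24 → ℤ) (x : Z24) (i : Fin 24) :
    coord B (fun i => σ i • v i) x i = σ i * coord B v x i := by
  unfold coord bf
  rw [smul_dotProduct, smul_eq_mul]

/-- a frame exists -/
theorem exists_frame (h : Hyp B) (c : Cnt B) : ∃ v, Frame B v := by
  classical
  have hne : {x : Z24 | bf B x x = 8}.Nonempty := by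
    rw [← Set.ncard_pos c.f8, c.c8]
    norm_num
  obtain ⟨x0, hx0⟩ := hne
  have hx0' : bf B x0 x0 = 8 := hx0
  obtain ⟨hcard, hall⟩ := class_card h c hx0'
  generalize hF : (SS c).filter (fun y => cl y = cl x0) = F at hcard hall
  have hFmem : ∀ y, y ∈ F ↔ bf B y y ≤ 8 ∧ cl y = cl x0 := by
    intro y
    rw [← hF, Finset.mem_filter, mem_SS h]
  have hneg : ∀ y ∈ F, -y ∈ F := by
    intro y hy
    rw [hFmem] at hy ⊢
    exact ⟨by rw [q_neg]; exact hy.1, by rw [cl_neg]; exact hy.2⟩
  have hpair : ∀ y ∈ F, ∀ y' ∈ F, y' = y ∨ y' = -y ∨ bf B y y' = 0 := by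
    intro y hy y' hy'
    by_cases h1 : y' = y
    · exact Or.inl h1
    by_cases h2 : y' = -y
    · exact Or.inr (Or.inl h2)
    right
    right
    have a := (hFmem y).mp hy
    have b := (hFmem y').mp hy'
    exact (h.short_congruent a.1 b.1 ((cl_eq_iff y y').mp (a.2.trans b.2.symm)) h1 h2).2.2
  have hnz : ∀ y ∈ F, y ≠ 0 := by
    intro y hy h0
    have := hall y hy
    rw [h0, q_zero] at this
    norm_num at this
  generalize hR : F.filter (fun y => toLex (-y) < toLex y) = R
  have hRmem : ∀ y, y ∈ R ↔ y ∈ F ∧ toLex (-y) < toLex y := by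
    intro y
    rw [← hR, Finset.mem_filter]
  have hR1 : ∀ y ∈ F, y ∈ R ∨ -y ∈ R := by
    intro y hy
    have hne : toLex (-y) ≠ toLex y := by
      intro h'
      have h'' : -y = y := toLex.injective h'
      apply hnz y hy
      funext i
      have := congrFun h'' i
      rw [Pi.neg_apply] at this
      rw [Pi.zero_apply]
      omega
    rcases lt_or_gt_of_ne hne with h' | h'
    · left
      exact (hRmem y).mpr ⟨hy, h'⟩
    · right
      refine (hRmem _).mpr ⟨hneg y hy, ?_⟩
      rw [neg_neg]
      exact h'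
  have hR2 : ∀ r ∈ R, -r ∉ R := by
    intro r hr hr'
    have a := ((hRmem r).mp hr).2
    have b := ((hRmem _).mp hr').2
    rw [neg_neg] at b
    exact lt_asymm a b
  have hR3 : ∀ r ∈ R, ∀ s ∈ R, r ≠ s → bf B r s = 0 := by
    intro r hr s hs hrs
    rcases hpair r ((hRmem r).mp hr).1 s ((hRmem s).mp hs).1 with h' | h' | h'
    · exact absurd h'.symm hrs
    · rw [h'] at hs
      exact absurd hs (hR2 r hr)
    · exact h'
  have hRle : R.card ≤ 24 := card_le_of_linInd R (linInd_of_orth R (fun r hr => by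
    rw [hall r ((hRmem r).mp hr).1]
    norm_num) hR3)
  have hRge : 24 ≤ R.card := by
    have hsub : F ⊆ R ∪ R.image (fun y => -y) := by
      intro y hy
      rcases hR1 y hy with h' | h'
      · exact Finset.mem_union_left _ h'
      · apply Finset.mem_union_right
        rw [Finset.mem_image]
        exact ⟨-y, h', neg_neg y⟩
    have a1 := Finset.card_le_card hsub
    have a2 := Finset.card_union_le R (R.image (fun y => -y))
    have a3 := Finset.card_image_le (s := R) (f := fun y => -y)
    omega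
  have hR24 : Fintype.card ↥R = 24 := by
    rw [Fintype.card_coe]
    omega
  let eR := Fintype.equivFinOfCardEq hR24
  refine ⟨fun i => ((eR.symm i : ↥R) : Z24), ?_, ?_⟩
  · intro i j
    have hi := (eR.symm i).2
    have hj := (eR.symm j).2
    by_cases hij : i = j
    · rw [if_pos hij, hij]
      exact hall _ ((hRmem _).mp hj).1
    · rw [if_neg hij]
      apply hR3 _ hi _ hj
      intro h'
      apply hij
      exact eR.symm.injective (Subtype.ext h')
  · intro i j
    rw [((hFmem _).mp ((hRmem _).mp (eR.symm i).2).1).2,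
      ((hFmem _).mp ((hRmem _).mp (eR.symm j).2).1).2]

end Cfsg.Agent.Lib.Helper1.LeechChar
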