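import Mathlib
import Cfsg.Agent.Lib.Helper1.LeechCharF
import Cfsg.Agent.Lib.Helper1.LeechCharG

/-!
# A lattice with the vector counts of the standard lattice is isometric to it
-/

set_option autoImplicit false

namespace Cfsg.Agent.Lib.Helper1.LeechChar

open Matrix Cfsg Cfsg.Agent.Lib.Helper1 Cfsg.Agent.Lib.Helper1.AbsCross

theorem main (B : Matrix (Fin 24) (Fin 24) ℤ) (h : Hyp B) (c : Cnt B) :
    ∃ f : Z24 ≃+ leechLattice,
      ∀ x : Z24, sqNorm ((f x : leechLattice) : GolayPt → ℤ) = 8 * bf B x x := by
  obtain ⟨v0, hv0⟩ := exists_frame h c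
  obtain ⟨-, o0, ho0L, ho0⟩ := (hv0.fr h).count (hv0.minSet h c)
  obtain ⟨x0, rfl⟩ := ho0L
  rw [coordHom_apply] at ho0
  have hσ : ∀ i, (if coord B v0 x0 i % 4 = 1 then (1 : ℤ) else -1) = 1 ∨
      (if coord B v0 x0 i % 4 = 1 then (1 : ℤ) else -1) = -1 := by
    intro i
    split_ifs
    · left
      rfl
    · right
      rfl
  have hv := hv0.flip (fun i => if coord B v0 x0 i % 4 = 1 then (1 : ℤ) else -1) hσ
  generalize hvdef : (fun i => (if coord B v0 x0 i % 4 = 1 then (1 : ℤ) else -1) • v0 i) = v at hv
  have hfr := hv.fr h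
  have hcnt := hv.minSet h c
  obtain ⟨e, hE⟩ := hfr.exists_equiv hcnt
  have ho1 : ∀ i, coord B v x0 i % 4 = 1 := by
    intro i
    rw [← hvdef, coord_flip]
    have := ho0 i
    split_ifs with h'
    · rw [one_mul]
      exact h'
    · omega
  have n : Nrm (LL B v) (coord B v x0) e := ⟨hfr, ⟨x0, rfl⟩, ho1, hE⟩
  have hg : ∀ x, tr e (coord B v x) ∈ leechLattice :=
    fun x => (mem_leechLattice_iff _).mpr (n.tr_mem ⟨x, rfl⟩)
  let f0 : Z24 →+ leechLattice :=
    { toFun := fun x => ⟨tr e (coord B v x), hg x⟩
      map_zero' := by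
        apply Subtype.ext
        show tr e (coord B v 0) = 0
        have : coord B v 0 = 0 := (coordHom B v).map_zero
        rw [this]
        rfl
      map_add' := by
        intro x y
        apply Subtype.ext
        show tr e (coord B v (x + y)) = tr e (coord B v x) + tr e (coord B v y)
        have : coord B v (x + y) = coord B v x + coord B v y := (coordHom B v).map_add x y
        rw [this]
        rfl }
  have hinj : Function.Injective f0 := by
    intro x y hxy
    have h1 : tr e (coord B v x) = tr e (coord B v y) := congrArg Subtype.val hxy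
    have h2 : coord B v x = coord B v y := by
      funext i
      have := congrFun h1 (e i)
      unfold tr at this
      rwa [Equiv.symm_apply_apply] at this
    exact hv.coord_injective h h2
  have hsurj : Function.Surjective f0 := by
    rintro ⟨y, hy⟩
    rw [mem_leechLattice_iff] at hy
    have hy' : tr e (fun i => y (e i)) = y := by
      funext p
      show y (e (e.symm p)) = y p
      rw [Equiv.apply_symm_apply]
    rw [← hy'] at hy
    obtain ⟨x, hx⟩ := n.mem_of_tr hy
    refine ⟨x, Subtype.ext ?_⟩
    show tr e (coord B v x) = y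
    rw [← hy']
    congr 1
  refine ⟨AddEquiv.ofBijective f0 ⟨hinj, hsurj⟩, fun x => ?_⟩
  show sqNorm (tr e (coord B v x)) = 8 * bf B x x
  rw [← hv.dot h.symm x x]
  unfold sqNorm dotProduct tr
  exact (Equiv.sum_comp e.symm (fun i => coord B v x i ^ 2)).trans
    (Finset.sum_congr rfl (fun i _ => sq (coord B v x i)))

end Cfsg.Agent.Lib.Helper1.LeechChar
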