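import Mathlib
import Cfsg.Agent.Lib.Helper1.EnC12
import Cfsg.Agent.Lib.Helper1.LeechEnum12

set_option autoImplicit false

namespace Cfsg.Agent.Lib.Helper1.LeechEnum

open Cfsg Cfsg.Agent.Lib.Helper1.LeechCross Cfsg.Agent.Lib.Helper1.LeechAut
  Cfsg.Agent.Lib.Helper1.LeechConn Cfsg.Agent.Lib.Helper1.LeechChk
  Cfsg.Agent.Lib.Helper1.MaskOf

/-! ### A sign change on a dodecad, and a pair of norm 48 vectors that it fixes -/

theorem cw_six : cw 6 = 28637 := by decide +kernel

/-- the dodecad -/
def setD : Finset GolayPt := support₂ (ofMask (cw 6))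

theorem setD_mem : setD ∈ gC := support_cw_mem (by norm_num)

theorem mem_setD (p : GolayPt) : p ∈ setD ↔ Nat.testBit 28637 (gIdx p) = true := by
  unfold setD
  rw [mem_support_ofMask, cw_six]

/-- `2` off the dodecad -/
def vecV' : GolayPt → ℤ := fun p => if Nat.testBit 28637 (gIdx p) = true then 0 else 2

/-- `4` at two points off the dodecad -/
def vecM' : GolayPt → ℤ := fun p => if p = some 1 ∨ p = some 5 then 4 else 0

theorem vecM'_mem : vecM' ∈ leechLattice := by
  rw [mem_leechLattice_iff]
  exact Cfsg.Spor.mem_leechSet_of_const_mod_four vecM' 0 0 (by decide) (by decide) (by decide)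

theorem vecV'_mem : vecV' ∈ leechLattice := by
  have h : chk vecV' 0 6 0 4089 0 = true := by decide +kernel
  exact chk_sound h

theorem vecM'_norm : sqNorm vecM' = 32 := by decide +kernel

theorem vecV'_norm : sqNorm vecV' = 48 := by decide +kernel

theorem vecV'_dot : dotInt vecV' vecM' = 16 := by decide +kernel

theorem vecM'_van : ∀ p : GolayPt, Nat.testBit 28637 (gIdx p) = true → vecM' p = 0 := by decide

theorem eps_vecV' : epsF setD vecV' = vecV' := by
  funext p
  unfold epsF
  by_cases hp : p ∈ setD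
  · rw [if_pos hp]
    unfold vecV'
    rw [if_pos ((mem_setD p).1 hp)]
    rfl
  · rw [if_neg hp]

theorem eps_vecM' : epsF setD vecM' = vecM' := by
  funext p
  unfold epsF
  by_cases hp : p ∈ setD
  · rw [if_pos hp, vecM'_van p ((mem_setD p).1 hp)]
    rfl
  · rw [if_neg hp]

/-- the involution -/
noncomputable def invD : Co0 := epsC setD setD_mem

theorem invD_apply (v : leechLattice) :
    ((invD • v : leechLattice) : GolayPt → ℤ) = epsF setD v := rfl

theorem invD_sq : invD * invD = 1 := by
  apply Subtype.ext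
  apply Equiv.ext
  intro x
  apply Subtype.ext
  show ((invD • (invD • x) : leechLattice) : GolayPt → ℤ) = x
  rw [invD_apply, invD_apply, epsF_epsF]

theorem invD_ne_one : invD ≠ 1 := by
  intro h
  have h1 : invD • (⟨Cfsg.Spor.vecU, vecU_mem⟩ : leechLattice) = ⟨Cfsg.Spor.vecU, vecU_mem⟩ := by
    rw [h, one_smul]
  have h2 := congrArg Subtype.val h1
  rw [invD_apply] at h2
  have h3 := congrFun h2 (some 0)
  unfold epsF at h3
  have h4 : (some 0 : GolayPt) ∈ setD := (mem_setD _).2 (by decide)
  rw [if_pos h4] at h3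
  have h5 : Cfsg.Spor.vecU (some 0) = 4 := by decide
  simp only [h5] at h3
  omega

/-! ### No minimal vector with inner product 24 with `vecV'` is fixed -/

/-- the condition counted by the census -/
def CD (z : GolayPt → ℤ) : Prop :=
  dotInt (fun _ => (1 : ℤ)) z = 12 ∧
    ∀ k < 24, Nat.testBit 28637 k = true → z (gUnidx k) = 0

theorem dot_ones (v : ℕ) : dotInt (fun _ => (1 : ℤ)) (vec v) =
    ((List.range 24).map (fun k => (fld k v : ℤ))).sum - 6144 := by
  rw [dot_list]
  have : ∀ l : List ℕ, (l.map (fun i => (1 : ℤ) * ((fld i v : ℤ) - 256))).sum =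
      (l.map (fun k => (fld k v : ℤ))).sum - 256 * l.length := by
    intro l
    induction l with
    | nil => simp
    | cons a t ih =>
      simp only [List.map_cons, List.sum_cons, List.length_cons, ih]
      push_cast
      ring
  rw [this, List.length_range]
  norm_num

theorem cond_iff_D (v : ℕ) (hv : v < 65536 ^ 24) (hg : Good v) :
    EnC12.cnd v = true ↔ CD (vec v) := by
  have h1 := dot_ones v
  rw [sum_flds hv hg] at h1
  show (Nat.beq (v % 65535) 6156 &&
    allB (fun k => cond (Nat.testBit 28637 k) (Nat.beq (fld k v) 256) true) 24) = true ↔ _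
  rw [Bool.and_eq_true, nbeq_iff, allB_iff]
  unfold CD
  rw [h1]
  constructor
  · rintro ⟨a, b⟩
    refine ⟨by omega, fun k hk hb => ?_⟩
    have := b k hk
    rw [hb, cond_true, nbeq_iff] at this
    rw [vec_apply, gIdx_gUnidx k hk, this]
    norm_num
  · rintro ⟨a, b⟩
    refine ⟨by omega, fun k hk => ?_⟩
    by_cases hb : Nat.testBit 28637 k = true
    · rw [hb, cond_true, nbeq_iff]
      have := b k hk hb
      rw [vec_apply, gIdx_gUnidx k hk] at this
      omega
    · rw [Bool.not_eq_true] at hb
      rw [hb, cond_false]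

theorem min_finite : {z : GolayPt → ℤ | z ∈ leechLattice ∧ sqNorm z = 32}.Finite := by
  apply Set.finite_of_ncard_ne_zero
  have h : {z : GolayPt → ℤ | z ∈ leechLattice ∧ sqNorm z = 32}.ncard = 196560 :=
    Cfsg.Agent.S0394.result
  rw [h]
  norm_num

theorem no_fixed (y : leechLattice) (hn : sqNorm (y : GolayPt → ℤ) = 32)
    (hd : dotInt vecV' (y : GolayPt → ℤ) = 24) (hfix : invD • y = y) : False := by
  have hfix' : epsF setD (y : GolayPt → ℤ) = y := by
    rw [← invD_apply, hfix]
  have hvan : ∀ p, p ∈ setD → (y : GolayPt → ℤ) p = 0 := by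
    intro p hp
    have := congrFun hfix' p
    unfold epsF at this
    rw [if_pos hp] at this
    omega
  have hsum : dotInt (fun _ => (1 : ℤ)) (y : GolayPt → ℤ) = 12 := by
    have : dotInt vecV' (y : GolayPt → ℤ) = 2 * dotInt (fun _ => (1 : ℤ)) (y : GolayPt → ℤ) := by
      unfold dotInt
      rw [Finset.mul_sum]
      apply Finset.sum_congr rfl
      intro p _
      unfold vecV'
      by_cases hp : Nat.testBit 28637 (gIdx p) = true
      · rw [if_pos hp, hvan p ((mem_setD p).2 hp)]; ring
      · rw [if_neg hp]; ring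
    omega
  have hC : CD (y : GolayPt → ℤ) :=
    ⟨hsum, fun k hk hb => hvan _ ((mem_setD _).2 (by rwa [gIdx_gUnidx k hk]))⟩
  have hcen := EnC12.census CD cond_iff_D
  have hfin : {z : GolayPt → ℤ | z ∈ leechLattice ∧ sqNorm z = 32 ∧ CD z}.Finite :=
    min_finite.subset (fun z hz => ⟨hz.1, hz.2.1⟩)
  have hempty := (Set.ncard_eq_zero hfin).1 hcen
  have hy : (y : GolayPt → ℤ) ∈ {z : GolayPt → ℤ | z ∈ leechLattice ∧ sqNorm z = 32 ∧ CD z} :=
    ⟨y.2, hn, hC⟩
  rw [hempty] at hy
  exact hy

end Cfsg.Agent.Lib.Helper1.LeechEnum
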