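import Mathlib
import Cfsg.Agent.S0391
import Cfsg.Agent.S0392
import Cfsg.Agent.S0400
import Cfsg.Agent.S0401
import Cfsg.Agent.S1570
import Cfsg.Agent.Lib.Helper1.LeechTrans64e

set_option autoImplicit false
set_option maxRecDepth 100000

namespace Cfsg.Agent.Lib.Helper1.LeechQuad

open Cfsg Cfsg.Spor

/-- (3 at the residue 1, -1 elsewhere) -/
def vA : GolayPt → ℤ := fun i => if i = some 1 then 3 else -1
/-- (4, 4, 0, ...) at the extra point and the residue 0 -/
def vB : GolayPt → ℤ := fun i => if i = none ∨ i = some 0 then 4 else 0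
/-- (-4, -4) at the extra point and the residue 1 -/
def vC : GolayPt → ℤ := fun i => if i = none ∨ i = some 1 then -4 else 0
/-- (-4, 4) at the extra point and the residue 1 -/
def vD : GolayPt → ℤ := fun i => if i = none then -4 else if i = some 1 then 4 else 0
/-- (-3 at the residue 0, 1 elsewhere) -/
def vE : GolayPt → ℤ := fun i => if i = some 0 then -3 else 1

theorem vA_mem : vA ∈ leechLattice :=
  AddSubgroup.subset_closure
    (mem_leechSet_of_const_mod_four vA 1 (-1) (by decide) (by decide) (by decide))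
theorem vB_mem : vB ∈ leechLattice :=
  AddSubgroup.subset_closure
    (mem_leechSet_of_const_mod_four vB 0 0 (by decide) (by decide) (by decide))
theorem vC_mem : vC ∈ leechLattice :=
  AddSubgroup.subset_closure
    (mem_leechSet_of_const_mod_four vC 0 0 (by decide) (by decide) (by decide))
theorem vD_mem : vD ∈ leechLattice :=
  AddSubgroup.subset_closure
    (mem_leechSet_of_const_mod_four vD 0 0 (by decide) (by decide) (by decide))
theorem vE_mem : vE ∈ leechLattice :=
  AddSubgroup.subset_closure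
    (mem_leechSet_of_const_mod_four vE 1 1 (by decide) (by decide) (by decide))

/-- the lattice elements -/
def lA : leechLattice := ⟨vA, vA_mem⟩
def lB : leechLattice := ⟨vB, vB_mem⟩
def lC : leechLattice := ⟨vC, vC_mem⟩
def lD : leechLattice := ⟨vD, vD_mem⟩
def lE : leechLattice := ⟨vE, vE_mem⟩

theorem n_A : sqNorm ((lA : leechLattice) : GolayPt → ℤ) = 32 := by decide
theorem n_B : sqNorm ((lB : leechLattice) : GolayPt → ℤ) = 32 := by decide
theorem n_C : sqNorm ((lC : leechLattice) : GolayPt → ℤ) = 32 := by decide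
theorem n_D : sqNorm ((lD : leechLattice) : GolayPt → ℤ) = 32 := by decide
theorem n_E : sqNorm ((lE : leechLattice) : GolayPt → ℤ) = 32 := by decide
theorem n_AB : sqNorm ((lA + lB : leechLattice) : GolayPt → ℤ) = 48 := by decide
theorem n_AC : sqNorm ((lA + lC : leechLattice) : GolayPt → ℤ) = 48 := by decide
theorem n_BC : sqNorm ((lB + lC : leechLattice) : GolayPt → ℤ) = 32 := by decide
theorem n_ABC : sqNorm ((lA + lB + lC : leechLattice) : GolayPt → ℤ) = 32 := by decide
theorem n_BD : sqNorm ((lB + lD : leechLattice) : GolayPt → ℤ) = 32 := by decide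
theorem n_BE : sqNorm ((lB + lE : leechLattice) : GolayPt → ℤ) = 48 := by decide
theorem n_DE : sqNorm ((lD + lE : leechLattice) : GolayPt → ℤ) = 64 := by decide
theorem n_BDE : sqNorm ((lB + lD + lE : leechLattice) : GolayPt → ℤ) = 48 := by decide

theorem sqNorm_add (x y : GolayPt → ℤ) :
    sqNorm (x + y) = sqNorm x + 2 * dotInt x y + sqNorm y := by
  unfold sqNorm dotInt
  rw [Finset.mul_sum, ← Finset.sum_add_distrib, ← Finset.sum_add_distrib]
  apply Finset.sum_congr rfl
  intro i _
  simp only [Pi.add_apply]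
  ring

theorem dotInt_dvd (x y : GolayPt → ℤ) (hx : x ∈ leechLattice) (hy : y ∈ leechLattice) :
    (8 : ℤ) ∣ dotInt x y := by
  have h1 := Cfsg.Agent.S0392.result (x + y) (leechLattice.add_mem hx hy)
  have h2 := Cfsg.Agent.S0392.result x hx
  have h3 := Cfsg.Agent.S0392.result y hy
  rw [sqNorm_add] at h1
  omega

/-- the short norms -/
theorem short_norm (y : GolayPt → ℤ) (hy : y ∈ leechLattice) (hn : sqNorm y ≤ 64) :
    y = 0 ∨ sqNorm y = 32 ∨ sqNorm y = 48 ∨ sqNorm y = 64 := by
  by_cases h0 : y = 0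
  · left; exact h0
  · right
    have h1 := Cfsg.Agent.S0391.result y hy h0
    have h2 := Cfsg.Agent.S0392.result y hy
    omega

theorem quad_unique (Q : leechLattice → ZMod 2)
    (hcoset : ∀ v w : leechLattice, Q (v + (w + w)) = Q v)
    (hquad : ∀ u v w : leechLattice,
      Q (u + v + w) + Q u + Q v + Q w = Q (u + v) + Q (u + w) + Q (v + w))
    (hinv : ∀ (g : Co0) (v : leechLattice), Q (g • v) = Q v)
    (hne : ∃ v : leechLattice, Q v ≠ 0) (v : leechLattice) :
    Q v = ((sqNorm (v : GolayPt → ℤ) / 16 : ℤ) : ZMod 2) := by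
  -- invariance on the three short layers
  have hsame : ∀ x y : leechLattice, sqNorm (x : GolayPt → ℤ) = sqNorm (y : GolayPt → ℤ) →
      (sqNorm (x : GolayPt → ℤ) = 32 ∨ sqNorm (x : GolayPt → ℤ) = 48 ∨
        sqNorm (x : GolayPt → ℤ) = 64) → Q x = Q y := by
    intro x y hxy h
    have hex : ∃ g : Co0, g • x = y := by
      rcases h with h | h | h
      · exact Cfsg.Agent.S0400.result x y h (hxy ▸ h)
      · exact Cfsg.Agent.S0401.result x y h (hxy ▸ h)
      · exact Cfsg.Agent.Lib.Helper1.LeechConn.trans64 x y h (hxy ▸ h)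
    obtain ⟨g, rfl⟩ := hex
    exact (hinv g x).symm
  have hQ0 : Q 0 = 0 := by
    have := hquad 0 0 0
    simp only [add_zero] at this
    have key : ∀ a : ZMod 2, a + a + a + a = a + a + a → a = 0 := by decide
    exact key _ this
  -- the value on minimal vectors is zero
  have e2 : ∀ x : leechLattice, sqNorm (x : GolayPt → ℤ) = 32 → Q x = Q lB :=
    fun x hx => hsame x lB (by rw [hx, n_B]) (Or.inl hx)
  have e3 : ∀ x : leechLattice, sqNorm (x : GolayPt → ℤ) = 48 → Q x = Q (lA + lB) :=
    fun x hx => hsame x (lA + lB) (by rw [hx, n_AB]) (Or.inr (Or.inl hx))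
  have e4 : ∀ x : leechLattice, sqNorm (x : GolayPt → ℤ) = 64 → Q x = Q (lD + lE) :=
    fun x hx => hsame x (lD + lE) (by rw [hx, n_DE]) (Or.inr (Or.inr hx))
  have hq2 : Q lB = 0 := by
    have h := hquad lA lB lC
    rw [e2 _ n_ABC, e2 _ n_A, e2 _ n_C, e3 _ n_AC, e2 _ n_BC] at h
    have key : ∀ a b : ZMod 2, a + a + a + a = b + b + a → a = 0 := by decide
    exact key _ _ h
  have hq4 : Q (lD + lE) = 0 := by
    have h := hquad lB lD lE
    rw [e3 _ n_BDE, e2 _ n_D, e2 _ n_E, e2 _ n_BD, e3 _ n_BE, hq2] at h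
    have key : ∀ a b : ZMod 2, b + 0 + 0 + 0 = 0 + b + a → a = 0 := by decide
    exact key _ _ h
  -- reduction to short representatives
  have hred : ∀ v : leechLattice, ∃ y : leechLattice, sqNorm (y : GolayPt → ℤ) ≤ 64 ∧
      Q v = Q y ∧ ∃ k : ℤ, sqNorm (v : GolayPt → ℤ) = sqNorm (y : GolayPt → ℤ) + 32 * k := by
    intro v
    obtain ⟨y, hy, hn, z, hz, hvz⟩ := Cfsg.Agent.S1570.result v.1 v.2
    have hv : v = (⟨y, hy⟩ : leechLattice) + ((⟨z, hz⟩ : leechLattice) + ⟨z, hz⟩) := by
      apply Subtype.ext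
      change (v : GolayPt → ℤ) = y + (z + z)
      rw [two_nsmul] at hvz
      rw [← hvz]
      abel
    refine ⟨⟨y, hy⟩, hn, ?_, ?_⟩
    · rw [hv, hcoset]
    · have h1 : (v : GolayPt → ℤ) = y + (z + z) := congrArg Subtype.val hv
      obtain ⟨a, ha⟩ := dotInt_dvd y z hy hz
      obtain ⟨b, hb⟩ := Cfsg.Agent.S0392.result z hz
      have hc : dotInt z z = sqNorm z := by
        unfold dotInt sqNorm
        apply Finset.sum_congr rfl
        intro i _
        ring
      refine ⟨a + 2 * b, ?_⟩
      rw [h1, sqNorm_add, sqNorm_add z z]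
      have hd : dotInt y (z + z) = dotInt y z + dotInt y z := by
        unfold dotInt
        rw [← Finset.sum_add_distrib]
        apply Finset.sum_congr rfl
        intro i _
        simp only [Pi.add_apply]
        ring
      rw [hd, ha, hc, hb]
      ring
  -- the value on the middle layer is one
  have hq3 : Q (lA + lB) = 1 := by
    obtain ⟨v0, hv0⟩ := hne
    obtain ⟨y, hn, hQ, _⟩ := hred v0
    rw [hQ] at hv0
    rcases short_norm y.1 y.2 hn with h | h | h | h
    · exfalso
      apply hv0
      have : y = 0 := Subtype.ext h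
      rw [this, hQ0]
    · exfalso
      exact hv0 (by rw [e2 y h, hq2])
    · rw [e3 y h] at hv0
      have key : ∀ a : ZMod 2, a ≠ 0 → a = 1 := by decide
      exact key _ hv0
    · exfalso
      exact hv0 (by rw [e4 y h, hq4])
  obtain ⟨y, hn, hQ, k, hk⟩ := hred v
  rw [hQ, hk]
  rcases short_norm y.1 y.2 hn with h | h | h | h
  · have : y = 0 := Subtype.ext h
    have hs : sqNorm (y : GolayPt → ℤ) = 0 := by
      rw [h]; unfold sqNorm; simp
    rw [this, hQ0, ← this, hs]
    have : (0 + 32 * k) / 16 = 2 * k := by omega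
    rw [this]
    push_cast
    have h2 : (2 : ZMod 2) = 0 := by decide
    rw [h2, zero_mul]
  · rw [e2 y h, hq2, h]
    have : (32 + 32 * k) / 16 = 2 * (1 + k) := by omega
    rw [this]
    push_cast
    have h2 : (2 : ZMod 2) = 0 := by decide
    rw [h2, zero_mul]
  · rw [e3 y h, hq3, h]
    have : (48 + 32 * k) / 16 = 1 + 2 * (1 + k) := by omega
    rw [this]
    push_cast
    have h2 : (2 : ZMod 2) = 0 := by decide
    rw [h2, zero_mul, add_zero]
  · rw [e4 y h, hq4, h]
    have : (64 + 32 * k) / 16 = 2 * (2 + k) := by omega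
    rw [this]
    push_cast
    have h2 : (2 : ZMod 2) = 0 := by decide
    rw [h2, zero_mul]

end Cfsg.Agent.Lib.Helper1.LeechQuad
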