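import Mathlib
import Cfsg.Agent.Lib.Helper1.LeechQuad
import Cfsg.Agent.Lib.Helper1.LeechCenter
import Cfsg.Agent.Lib.Helper1.LeechGen
import Cfsg.Agent.S5592
import Cfsg.Agent.S1567

set_option autoImplicit false
set_option maxRecDepth 100000

namespace Cfsg.Agent.Lib.Helper1.LeechIrred

open Cfsg Cfsg.Spor Cfsg.Agent.Lib.Helper1.LeechAut Cfsg.Agent.Lib.Helper1.LeechGen
  Cfsg.Agent.Lib.Helper1.LeechCross

/-- the lattice element `4 e_i + 4 s e_j` -/
noncomputable def PM (s : ℤ) (hs : s = 1 ∨ s = -1) (i j : GolayPt) (hij : i ≠ j) : leechLattice :=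
  ⟨pm s i j, (pm_mem_Mn s hs i j hij).1⟩

theorem sqNorm_PM (s : ℤ) (hs : s = 1 ∨ s = -1) (i j : GolayPt) (hij : i ≠ j) :
    sqNorm ((PM s hs i j hij : leechLattice) : GolayPt → ℤ) = 32 :=
  (pm_mem_Mn s hs i j hij).2

theorem dotInt_symm (x y : GolayPt → ℤ) : dotInt x y = dotInt y x := by
  unfold dotInt
  apply Finset.sum_congr rfl
  intro i _
  ring

theorem dotInt_pm (w : GolayPt → ℤ) (s : ℤ) (i j : GolayPt) :
    dotInt w (pm s i j) = 4 * w i + 4 * s * w j := by
  unfold dotInt pm
  have : ∀ p, w p * ((if p = i then (4 : ℤ) else 0) + s * (if p = j then 4 else 0)) =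
      (if p = i then 4 * w p else 0) + (if p = j then 4 * s * w p else 0) := by
    intro p
    split_ifs <;> ring
  simp only [this]
  rw [Finset.sum_add_distrib, Finset.sum_ite_eq' Finset.univ i (fun p => 4 * w p),
    Finset.sum_ite_eq' Finset.univ j (fun p => 4 * s * w p)]
  simp

section faithful

variable (g : Co0)
  (hg : ∀ v : leechLattice, ∃ w : leechLattice,
    ((g • v : leechLattice) : GolayPt → ℤ) - (v : GolayPt → ℤ) = 2 • (w : GolayPt → ℤ))
include hg

theorem fix_or_neg (v : leechLattice) (hv : sqNorm (v : GolayPt → ℤ) = 32) :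
    g • v = v ∨ g • v = -v := by
  by_cases h : ((g • v : leechLattice) : GolayPt → ℤ) = v
  · left; exact Subtype.ext h
  · right
    obtain ⟨w, hw⟩ := hg v
    have hn : sqNorm ((g • v : leechLattice) : GolayPt → ℤ) = 32 := by
      rw [← hv]; exact g.2.2 v
    rcases Cfsg.Agent.S5592.result _ _ (g • v).2 v.2 h (by rw [hn]; norm_num)
      (by rw [hv]; norm_num) ⟨w, w.2, hw⟩ with h1 | h1
    · exact Subtype.ext h1
    · rw [hn] at h1
      norm_num at h1

theorem fix_of_dot (u w : leechLattice) (_hu : sqNorm (u : GolayPt → ℤ) = 32)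
    (hw : sqNorm (w : GolayPt → ℤ) = 32)
    (hd : dotInt (u : GolayPt → ℤ) (w : GolayPt → ℤ) ≠ 0) (hgu : g • u = u) : g • w = w := by
  rcases fix_or_neg g hg w hw with h | h
  · exact h
  · exfalso
    have := dot_preserved g.2 u w
    change dotInt ((g • u : leechLattice) : GolayPt → ℤ) (g • w : leechLattice) = _ at this
    rw [hgu, h, AddSubgroup.coe_neg, dotInt_neg_right] at this
    omega

/-- an automorphism acting trivially modulo two and fixing one minimal vector is trivial -/
theorem eq_one_of_fix (hfix : g • PM 1 (Or.inl rfl) none (some 0) (by decide) =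
    PM 1 (Or.inl rfl) none (some 0) (by decide)) : g = 1 := by
  -- the vectors `4 e_∞ + 4 e_c`
  have hx : ∀ (c : GolayPt) (hc : none ≠ c), g • PM 1 (Or.inl rfl) none c hc =
      PM 1 (Or.inl rfl) none c hc := by
    intro c hc
    by_cases hc0 : c = some 0
    · subst hc0; exact hfix
    · apply fix_of_dot g hg _ _ (sqNorm_PM _ _ _ _ _) (sqNorm_PM _ _ _ _ _) ?_ hfix
      change dotInt (pm 1 none (some 0)) (pm 1 none c) ≠ 0
      rw [dotInt_pm]
      unfold pm
      have h1 : (some 0 : GolayPt) ≠ none := by decide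
      have h2 : c ≠ some 0 := hc0
      simp [h2, hc.symm]
  have hy : ∀ (c : GolayPt) (hc : none ≠ c), g • PM (-1) (Or.inr rfl) none c hc =
      PM (-1) (Or.inr rfl) none c hc := by
    intro c hc
    obtain ⟨c', hc'1, hc'2⟩ : ∃ c' : GolayPt, none ≠ c' ∧ c' ≠ c := by
      by_cases h : c = some 0
      · exact ⟨some 1, by decide, by rw [h]; decide⟩
      · exact ⟨some 0, by decide, fun e => h e.symm⟩
    apply fix_of_dot g hg _ _ (sqNorm_PM _ _ _ _ _) (sqNorm_PM _ _ _ _ _) ?_ (hx c' hc'1)
    change dotInt (pm 1 none c') (pm (-1) none c) ≠ 0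
    rw [dotInt_pm]
    unfold pm
    simp [hc'1, hc.symm, hc'2.symm]
  have hmin : ∀ w : leechLattice, sqNorm (w : GolayPt → ℤ) = 32 → g • w = w := by
    intro w hw
    by_cases ha : (w : GolayPt → ℤ) none = 0
    · -- some other coordinate is nonzero
      have hex : ∃ i : GolayPt, (w : GolayPt → ℤ) i ≠ 0 := by
        by_contra hcon
        push Not at hcon
        have : sqNorm (w : GolayPt → ℤ) = 0 := by
          unfold sqNorm
          apply Finset.sum_eq_zero
          intro i _
          rw [hcon i]; rfl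
        rw [this] at hw
        norm_num at hw
      obtain ⟨i, hi⟩ := hex
      have hi0 : none ≠ i := by
        rintro rfl; exact hi ha
      apply fix_of_dot g hg _ _ (sqNorm_PM _ _ _ _ _) hw ?_ (hx i hi0)
      rw [dotInt_symm]
      change dotInt (w : GolayPt → ℤ) (pm 1 none i) ≠ 0
      rw [dotInt_pm, ha]
      omega
    · have h0 : (none : GolayPt) ≠ some 0 := by decide
      by_cases h1 : dotInt (w : GolayPt → ℤ) (pm 1 none (some 0)) = 0
      · apply fix_of_dot g hg _ _ (sqNorm_PM _ _ _ _ _) hw ?_ (hy (some 0) h0)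
        rw [dotInt_symm]
        change dotInt (w : GolayPt → ℤ) (pm (-1) none (some 0)) ≠ 0
        rw [dotInt_pm] at h1 ⊢
        omega
      · apply fix_of_dot g hg _ _ (sqNorm_PM _ _ _ _ _) hw ?_ (hx (some 0) h0)
        rw [dotInt_symm]
        exact h1
  -- extend to the whole lattice
  apply Subtype.ext
  apply Equiv.ext
  intro v
  change g • v = v
  have hv : (v : GolayPt → ℤ) ∈ AddSubgroup.closure
      {x : GolayPt → ℤ | x ∈ leechLattice ∧ sqNorm x = 32} := by
    rw [Cfsg.Agent.S1567.result]; exact v.2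
  have hle : AddSubgroup.closure {x : GolayPt → ℤ | x ∈ leechLattice ∧ sqNorm x = 32} ≤
      leechLattice := by rw [Cfsg.Agent.S1567.result]
  have key : ∀ (x : GolayPt → ℤ) (hx : x ∈ AddSubgroup.closure
      {x : GolayPt → ℤ | x ∈ leechLattice ∧ sqNorm x = 32}),
      g • (⟨x, hle hx⟩ : leechLattice) = ⟨x, hle hx⟩ := by
    intro x hx
    induction hx using AddSubgroup.closure_induction with
    | mem x hx => exact hmin ⟨x, hx.1⟩ hx.2
    | zero => exact map_zero' g.2
    | add x y hx hy ihx ihy =>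
      have := g.2.1 ⟨x, hle hx⟩ ⟨y, hle hy⟩
      change g • ((⟨x, hle hx⟩ : leechLattice) + ⟨y, hle hy⟩) = g • _ + g • _ at this
      rw [ihx, ihy] at this
      exact this
    | neg x hx ihx =>
      have := map_neg' g.2 ⟨x, hle hx⟩
      change g • (-(⟨x, hle hx⟩ : leechLattice)) = -(g • _) at this
      rw [ihx] at this
      exact this
  exact key v.1 hv

end faithful

open Cfsg.Agent.Lib.Helper1.LeechQuad

/-- an automorphism acting trivially modulo two is central -/
theorem mem_center_of_trivial (g : Co0)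
    (hg : ∀ v : leechLattice, ∃ w : leechLattice,
      ((g • v : leechLattice) : GolayPt → ℤ) - (v : GolayPt → ℤ) = 2 • (w : GolayPt → ℤ)) :
    g ∈ Subgroup.center Co0 := by
  rcases fix_or_neg g hg (PM 1 (Or.inl rfl) none (some 0) (by decide))
    (sqNorm_PM _ _ _ _ _) with h | h
  · rw [eq_one_of_fix g hg h]
    exact Subgroup.one_mem _
  · have hg' : ∀ v : leechLattice, ∃ w : leechLattice,
        (((negC * g) • v : leechLattice) : GolayPt → ℤ) - (v : GolayPt → ℤ) =
          2 • (w : GolayPt → ℤ) := by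
      intro v
      obtain ⟨w, hw⟩ := hg v
      refine ⟨-w - v, ?_⟩
      rw [mul_smul, negC_apply, AddSubgroup.coe_sub, AddSubgroup.coe_neg, two_nsmul]
      rw [two_nsmul] at hw
      have : ((g • v : leechLattice) : GolayPt → ℤ) = (w : GolayPt → ℤ) + w + v := by
        rw [← hw]; abel
      rw [this]
      abel
    have h' : (negC * g) • PM 1 (Or.inl rfl) none (some 0) (by decide) =
        PM 1 (Or.inl rfl) none (some 0) (by decide) := by
      rw [mul_smul, h]
      apply Subtype.ext
      rw [negC_apply, AddSubgroup.coe_neg, neg_neg]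
    have h1 := eq_one_of_fix (negC * g) hg' h'
    have h2 : g = negC⁻¹ := eq_inv_of_mul_eq_one_right h1
    rw [h2]
    exact Subgroup.inv_mem _ negC_central

/-- (4, 4, 4, 4, 0, ...) -/
def vF : GolayPt → ℤ := fun i =>
  if i = none ∨ i = some 0 ∨ i = some 1 ∨ i = some 2 then 4 else 0
/-- (4, 4, 4, 0, -4, 0, ...) -/
def vG : GolayPt → ℤ := fun i =>
  if i = none ∨ i = some 0 ∨ i = some 1 then 4 else if i = some 3 then -4 else 0

theorem vF_mem : vF ∈ leechLattice :=
  AddSubgroup.subset_closure
    (mem_leechSet_of_const_mod_four vF 0 0 (by decide) (by decide) (by decide))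
theorem vG_mem : vG ∈ leechLattice :=
  AddSubgroup.subset_closure
    (mem_leechSet_of_const_mod_four vG 0 0 (by decide) (by decide) (by decide))

def lF : leechLattice := ⟨vF, vF_mem⟩
def lG : leechLattice := ⟨vG, vG_mem⟩

theorem n_F : sqNorm ((lF : leechLattice) : GolayPt → ℤ) = 64 := by decide
theorem n_G : sqNorm ((lG : leechLattice) : GolayPt → ℤ) = 64 := by decide
theorem n_FG : sqNorm ((lF - lG : leechLattice) : GolayPt → ℤ) = 32 := by decide

/-- the lattice modulo two is an irreducible module -/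
theorem irreducible_part (M : AddSubgroup (GolayPt → ℤ))
    (h2 : ∀ v ∈ leechLattice, (2 : ℤ) • v ∈ M) (hle : M ≤ leechLattice)
    (hinv : ∀ g : Co0, ∀ v : leechLattice, (v : GolayPt → ℤ) ∈ M →
      ((g • v : leechLattice) : GolayPt → ℤ) ∈ M) :
    (∀ x ∈ M, ∃ w ∈ leechLattice, x = (2 : ℤ) • w) ∨ M = leechLattice := by
  by_cases hall : ∀ x ∈ M, ∃ w ∈ leechLattice, x = (2 : ℤ) • w
  · left; exact hall
  · right
    push Not at hall
    obtain ⟨x, hxM, hx⟩ := hall
    obtain ⟨y, hy, hn, z, hz, hxz⟩ := Cfsg.Agent.S1570.result x (hle hxM)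
    have hxz' : x - y = (2 : ℤ) • z := by
      rw [hxz, two_nsmul, two_zsmul]
    have hyM : y ∈ M := by
      have : y = x - (2 : ℤ) • z := by rw [← hxz']; abel
      rw [this]
      exact M.sub_mem hxM (h2 z hz)
    have hy0 : y ≠ 0 := by
      rintro rfl
      apply hx z hz
      rw [← hxz', sub_zero]
    -- transport along the automorphism group
    have htr : ∀ (a b : leechLattice), (∃ g : Co0, g • a = b) → (a : GolayPt → ℤ) ∈ M →
        (b : GolayPt → ℤ) ∈ M := by
      rintro a b ⟨g, rfl⟩ ha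
      exact hinv g a ha
    have hall32 : ∀ m : leechLattice, sqNorm (m : GolayPt → ℤ) = 32 →
        (m : GolayPt → ℤ) ∈ M := by
      have from32 : ∀ a : leechLattice, sqNorm (a : GolayPt → ℤ) = 32 → (a : GolayPt → ℤ) ∈ M →
          ∀ m : leechLattice, sqNorm (m : GolayPt → ℤ) = 32 → (m : GolayPt → ℤ) ∈ M :=
        fun a ha haM m hm => htr a m (Cfsg.Agent.S0400.result a m ha hm) haM
      rcases short_norm y hy hn with h | h | h | h
      · exact absurd h hy0
      · exact from32 ⟨y, hy⟩ h hyM
      · have h48 : ∀ m : leechLattice, sqNorm (m : GolayPt → ℤ) = 48 →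
            (m : GolayPt → ℤ) ∈ M :=
          fun m hm => htr ⟨y, hy⟩ m (Cfsg.Agent.S0401.result ⟨y, hy⟩ m h hm) hyM
        have hD : ((lD : leechLattice) : GolayPt → ℤ) ∈ M := by
          have e : ((lD : leechLattice) : GolayPt → ℤ) =
              ((lB + lD + lE : leechLattice) : GolayPt → ℤ) -
                ((lB + lE : leechLattice) : GolayPt → ℤ) := by
            simp only [AddSubgroup.coe_add]
            abel
          rw [e]
          exact M.sub_mem (h48 _ n_BDE) (h48 _ n_BE)
        exact from32 lD n_D hD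
      · have h64 : ∀ m : leechLattice, sqNorm (m : GolayPt → ℤ) = 64 →
            (m : GolayPt → ℤ) ∈ M :=
          fun m hm => htr ⟨y, hy⟩ m
            (Cfsg.Agent.Lib.Helper1.LeechConn.trans64 ⟨y, hy⟩ m h hm) hyM
        have hFG : ((lF - lG : leechLattice) : GolayPt → ℤ) ∈ M := by
          rw [AddSubgroup.coe_sub]
          exact M.sub_mem (h64 _ n_F) (h64 _ n_G)
        exact from32 (lF - lG) n_FG hFG
    apply le_antisymm hle
    rw [← Cfsg.Agent.S1567.result, AddSubgroup.closure_le]
    intro m hm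
    exact hall32 ⟨m, hm.1⟩ hm.2

end Cfsg.Agent.Lib.Helper1.LeechIrred
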