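import Mathlib
import Cfsg.Agent.Lib.Helper1.LeechCenter
import Cfsg.Agent.S1567

set_option autoImplicit false

namespace Cfsg.Agent.Lib.Helper1.LeechModP

open Cfsg Cfsg.Spor Cfsg.Agent.Lib.Helper1.LeechAut

/-- reduction modulo 13 -/
def red (x : GolayPt → ℤ) : GolayPt → ZMod 13 := fun i => (x i : ZMod 13)

theorem red_apply (x : GolayPt → ℤ) (i : GolayPt) : red x i = (x i : ZMod 13) := rfl

/-- an automorphism as an additive map -/
def toAddHom (g : Equiv.Perm leechLattice) (hg : g ∈ Co0) : leechLattice →+ leechLattice :=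
  AddMonoidHom.mk' g hg.1

theorem toAddHom_apply (g : Equiv.Perm leechLattice) (hg : g ∈ Co0) (x : leechLattice) :
    toAddHom g hg x = g x := rfl

/-- eight times a lattice vector in terms of the coordinate vectors -/
theorem eight_smul_eq (x : leechLattice) :
    (8 : ℤ) • x = ∑ i, ((x : GolayPt → ℤ) i) • UU i := by
  apply Subtype.ext
  rw [AddSubgroup.coe_zsmul, AddSubgroup.val_finsetSum]
  funext j
  rw [Finset.sum_apply]
  simp only [AddSubgroup.coe_zsmul, Pi.smul_apply, smul_eq_mul]
  have : ∀ i, (x : GolayPt → ℤ) i * ((UU i : leechLattice) : GolayPt → ℤ) j =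
      if i = j then 8 * (x : GolayPt → ℤ) i else 0 := by
    intro i
    change (x : GolayPt → ℤ) i * uu i j = _
    unfold uu
    by_cases h : i = j
    · rw [if_pos h.symm, if_pos h]; ring
    · rw [if_neg (fun e => h e.symm), if_neg h]; ring
  simp only [this]
  rw [Finset.sum_ite_eq' Finset.univ j (fun i => 8 * (x : GolayPt → ℤ) i)]
  simp

theorem eight_smul_map (g : Equiv.Perm leechLattice) (hg : g ∈ Co0) (x : leechLattice) :
    (8 : ℤ) • g x = ∑ i, ((x : GolayPt → ℤ) i) • g (UU i) := by
  have h := congrArg (toAddHom g hg) (eight_smul_eq x)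
  rw [map_zsmul, map_sum] at h
  simp only [map_zsmul, toAddHom_apply] at h
  exact h

/-- the matrix of an automorphism modulo 13 -/
noncomputable def mat (g : Equiv.Perm leechLattice) : Matrix GolayPt GolayPt (ZMod 13) :=
  fun j i => (((g (UU i) : leechLattice) : GolayPt → ℤ) j : ZMod 13) * (5 : ZMod 13)

theorem eight_ne : (8 : ZMod 13) ≠ 0 := by decide

theorem eight_inv : (8 : ZMod 13) * (5 : ZMod 13) = 1 := by decide

theorem red_map (g : Equiv.Perm leechLattice) (hg : g ∈ Co0) (x : leechLattice) :
    red ((g x : leechLattice) : GolayPt → ℤ) = (mat g).mulVec (red (x : GolayPt → ℤ)) := by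
  funext j
  have h := congrArg (fun v : leechLattice => ((v : GolayPt → ℤ) j : ZMod 13))
    (eight_smul_map g hg x)
  simp only [AddSubgroup.coe_zsmul, Pi.smul_apply, smul_eq_mul, AddSubgroup.val_finsetSum,
    Finset.sum_apply] at h
  push_cast at h
  rw [Matrix.mulVec, dotProduct]
  rw [red_apply]
  have h8 : (8 : ZMod 13) * (5 : ZMod 13) = 1 := eight_inv
  calc (((g x : leechLattice) : GolayPt → ℤ) j : ZMod 13)
      = (8 * (((g x : leechLattice) : GolayPt → ℤ) j : ZMod 13)) * (5 : ZMod 13) := by
        rw [mul_comm (8 : ZMod 13), mul_assoc, h8, mul_one]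
    _ = (∑ i, ((x : GolayPt → ℤ) i : ZMod 13) *
          (((g (UU i) : leechLattice) : GolayPt → ℤ) j : ZMod 13)) * (5 : ZMod 13) := by
        rw [h]
    _ = ∑ i, mat g j i * red (x : GolayPt → ℤ) i := by
        rw [Finset.sum_mul]
        apply Finset.sum_congr rfl
        intro i _
        unfold mat
        rw [red_apply]
        ring

theorem mat_one : mat 1 = 1 := by
  ext j i
  unfold mat
  change ((uu i j : ℤ) : ZMod 13) * (5 : ZMod 13) = _
  unfold uu
  by_cases h : j = i
  · rw [if_pos h, h, Matrix.one_apply_eq]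
    push_cast
    exact eight_inv
  · rw [if_neg h, Matrix.one_apply_ne h]
    simp

theorem mat_mul (g h : Equiv.Perm leechLattice) (hg : g ∈ Co0) :
    mat (g * h) = mat g * mat h := by
  ext j i
  rw [Matrix.mul_apply]
  have h1 := congrFun (red_map g hg (h (UU i))) j
  rw [Matrix.mulVec, dotProduct] at h1
  unfold mat
  rw [Equiv.Perm.mul_apply]
  rw [red_apply] at h1
  rw [h1, Finset.sum_mul]
  apply Finset.sum_congr rfl
  intro k _
  rw [red_apply]
  unfold mat
  ring

/-- reduction modulo 13 as a homomorphism on the automorphism group -/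
noncomputable def matHom : Co0 →* Matrix GolayPt GolayPt (ZMod 13) where
  toFun g := mat g.1
  map_one' := mat_one
  map_mul' g h := mat_mul g.1 h.1 g.2

end Cfsg.Agent.Lib.Helper1.LeechModP
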