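import Mathlib
import Cfsg.Agent.Lib.Helper1.LeechModP1

set_option autoImplicit false
set_option maxRecDepth 100000

namespace Cfsg.Agent.Lib.Helper1.LeechModP

open Cfsg Cfsg.Spor Cfsg.Agent.Lib.Helper1.LeechAut

instance fact13 : Fact (Nat.Prime 13) := ⟨by norm_num⟩

/-- the ambient space modulo 13 -/
abbrev VV : Type := GolayPt → ZMod 13

/-- the fixed vector modulo 13 -/
def ubar : VV := red vecU

theorem ubar_ne : ubar ≠ 0 := by
  intro h
  have := congrFun h none
  revert this
  decide

/-- the line spanned by the fixed vector -/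
def LL : Submodule (ZMod 13) VV := Submodule.span (ZMod 13) {ubar}

theorem mat_ubar (g : Co2) : (mat g.1).mulVec ubar = ubar := by
  have h1 := red_map g.1 g.2.1 leechU
  have h2 : g.1 leechU = leechU := g.2.2
  rw [h2] at h1
  exact h1.symm

theorem LL_le (g : Co2) : LL ≤ LL.comap (Matrix.toLin' (mat g.1)) := by
  intro x hx
  rw [LL, Submodule.mem_span_singleton] at hx
  obtain ⟨c, rfl⟩ := hx
  rw [Submodule.mem_comap, map_smul, Matrix.toLin'_apply, mat_ubar]
  exact Submodule.smul_mem _ _ (Submodule.mem_span_singleton_self _)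

/-- the induced map on the quotient -/
noncomputable def quotMap (g : Co2) : (VV ⧸ LL) →ₗ[ZMod 13] (VV ⧸ LL) :=
  LL.mapQ LL (Matrix.toLin' (mat g.1)) (LL_le g)

theorem quotMap_one : quotMap 1 = LinearMap.id := by
  apply LinearMap.ext
  intro q
  obtain ⟨x, rfl⟩ := Submodule.Quotient.mk_surjective LL q
  unfold quotMap
  rw [Submodule.mapQ_apply]
  change Submodule.Quotient.mk (Matrix.toLin' (mat (1 : Equiv.Perm leechLattice)) x) = _
  rw [mat_one, Matrix.toLin'_one]
  rfl

theorem quotMap_mul (g h : Co2) : quotMap (g * h) = (quotMap g).comp (quotMap h) := by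
  apply LinearMap.ext
  intro q
  obtain ⟨x, rfl⟩ := Submodule.Quotient.mk_surjective LL q
  unfold quotMap
  rw [LinearMap.comp_apply, Submodule.mapQ_apply, Submodule.mapQ_apply, Submodule.mapQ_apply]
  change Submodule.Quotient.mk (Matrix.toLin' (mat (g.1 * h.1)) x) = _
  rw [mat_mul g.1 h.1 g.2.1, Matrix.toLin'_mul]
  rfl

theorem finrank_quot : Module.finrank (ZMod 13) (VV ⧸ LL) = 23 := by
  have h1 := Submodule.finrank_quotient_add_finrank LL
  have h2 : Module.finrank (ZMod 13) LL = 1 := finrank_span_singleton ubar_ne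
  have h3 : Module.finrank (ZMod 13) VV = 24 := by
    rw [Module.finrank_fintype_fun_eq_card]
    rfl
  omega

/-- a basis of the quotient -/
noncomputable def bb : Module.Basis (Fin 23) (ZMod 13) (VV ⧸ LL) :=
  Module.finBasisOfFinrankEq (ZMod 13) (VV ⧸ LL) finrank_quot

/-- the representation of degree 23 -/
noncomputable def rep23 : Co2 →* Matrix (Fin 23) (Fin 23) (ZMod 13) where
  toFun g := LinearMap.toMatrix bb bb (quotMap g)
  map_one' := by rw [quotMap_one, LinearMap.toMatrix_id]
  map_mul' g h := by rw [quotMap_mul, LinearMap.toMatrix_comp bb bb bb]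

theorem rep23_eq_one_iff (g : Co2) : rep23 g = 1 ↔ quotMap g = LinearMap.id := by
  change LinearMap.toMatrix bb bb (quotMap g) = 1 ↔ _
  rw [← LinearMap.toMatrix_id bb]
  exact (LinearMap.toMatrix bb bb).injective.eq_iff

end Cfsg.Agent.Lib.Helper1.LeechModP
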