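import Mathlib
import Cfsg.Agent.Lib.Helper1.LeechModP2

set_option autoImplicit false
set_option maxRecDepth 100000

namespace Cfsg.Agent.Lib.Helper1.LeechModP

open Cfsg Cfsg.Spor Cfsg.Agent.Lib.Helper1.LeechAut

theorem red_dot (x y : GolayPt → ℤ) : ((dotInt x y : ℤ) : ZMod 13) = red x ⬝ᵥ red y := by
  unfold dotInt dotProduct red
  push_cast
  rfl

theorem ubar_dot : ubar ⬝ᵥ ubar ≠ 0 := by decide

/-- coordinates of a minimal vector are small -/
theorem coord_bound (x : GolayPt → ℤ) (hx : sqNorm x = 32) (i : GolayPt) : x i ^ 2 ≤ 32 := by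
  rw [← hx]
  unfold sqNorm
  exact Finset.single_le_sum (f := fun j => x j ^ 2) (fun j _ => sq_nonneg (x j))
    (Finset.mem_univ i)

theorem eq_of_red_eq (x y : GolayPt → ℤ) (hx : sqNorm x = 32) (hy : sqNorm y = 32)
    (h : red x = red y) : x = y := by
  funext i
  have h1 := coord_bound x hx i
  have h2 := coord_bound y hy i
  have h3 := congrFun h i
  rw [red_apply, red_apply, ZMod.intCast_eq_intCast_iff_dvd_sub] at h3
  have b1 : -5 ≤ x i ∧ x i ≤ 5 := by constructor <;> nlinarith
  have b2 : -5 ≤ y i ∧ y i ≤ 5 := by constructor <;> nlinarith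
  obtain ⟨k, hk⟩ := h3
  push_cast at hk
  omega

/-- an automorphism fixing all minimal vectors is trivial -/
theorem eq_one_of_fix_min (g : Equiv.Perm leechLattice) (hg : g ∈ Co0)
    (hmin : ∀ w : leechLattice, sqNorm (w : GolayPt → ℤ) = 32 → g w = w) : g = 1 := by
  apply Equiv.ext
  intro v
  change g v = v
  have hv : (v : GolayPt → ℤ) ∈ AddSubgroup.closure
      {x : GolayPt → ℤ | x ∈ leechLattice ∧ sqNorm x = 32} := by
    rw [Cfsg.Agent.S1567.result]; exact v.2
  have hle : AddSubgroup.closure {x : GolayPt → ℤ | x ∈ leechLattice ∧ sqNorm x = 32} ≤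
      leechLattice := by rw [Cfsg.Agent.S1567.result]
  have key : ∀ (x : GolayPt → ℤ) (hx : x ∈ AddSubgroup.closure
      {x : GolayPt → ℤ | x ∈ leechLattice ∧ sqNorm x = 32}),
      g (⟨x, hle hx⟩ : leechLattice) = ⟨x, hle hx⟩ := by
    intro x hx
    induction hx using AddSubgroup.closure_induction with
    | mem x hx => exact hmin ⟨x, hx.1⟩ hx.2
    | zero => exact map_zero' hg
    | add x y hx hy ihx ihy =>
      have := hg.1 ⟨x, hle hx⟩ ⟨y, hle hy⟩
      rw [ihx, ihy] at this
      exact this
    | neg x hx ihx =>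
      have := map_neg' hg ⟨x, hle hx⟩
      rw [ihx] at this
      exact this
  exact key v.1 hv

theorem rep23_injective : Function.Injective rep23 := by
  rw [injective_iff_map_eq_one]
  intro g hg1
  rw [rep23_eq_one_iff] at hg1
  -- the matrix moves every vector by a multiple of the fixed vector
  have hmove : ∀ x : VV, ∃ c : ZMod 13, c • ubar = (mat g.1).mulVec x - x := by
    intro x
    have h := LinearMap.congr_fun hg1 (Submodule.Quotient.mk x)
    unfold quotMap at h
    rw [Submodule.mapQ_apply, LinearMap.id_apply, Submodule.Quotient.eq, Matrix.toLin'_apply] at h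
    exact Submodule.mem_span_singleton.mp h
  have hfix : g.1 leechU = leechU := g.2.2
  have hred : ∀ x : leechLattice,
      red ((g.1 x : leechLattice) : GolayPt → ℤ) = red (x : GolayPt → ℤ) := by
    intro x
    obtain ⟨c, hc⟩ := hmove (red (x : GolayPt → ℤ))
    rw [← red_map g.1 g.2.1 x] at hc
    have h1 := dot_preserved g.2.1 x leechU
    rw [hfix] at h1
    have h2 := congrArg (fun n : ℤ => (n : ZMod 13)) h1
    simp only [red_dot] at h2
    change red ((g.1 x : leechLattice) : GolayPt → ℤ) ⬝ᵥ ubar = red (x : GolayPt → ℤ) ⬝ᵥ ubar at h2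
    have h3 : (c • ubar) ⬝ᵥ ubar = 0 := by
      rw [hc, sub_dotProduct, h2, sub_self]
    rw [smul_dotProduct, smul_eq_mul] at h3
    rcases mul_eq_zero.mp h3 with h | h
    · rw [h, zero_smul] at hc
      exact (sub_eq_zero.mp hc.symm)
    · exact absurd h ubar_dot
  apply Subtype.ext
  change g.1 = 1
  apply eq_one_of_fix_min g.1 g.2.1
  intro w hw
  apply Subtype.ext
  apply eq_of_red_eq _ _ ?_ hw (hred w)
  rw [← hw]
  exact g.2.1.2 w

end Cfsg.Agent.Lib.Helper1.LeechModP
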