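import Mathlib

set_option autoImplicit false

/-!
# Coordinates on elementary abelian 2-groups and additive automorphisms of `(ZMod 2)^n`
-/

namespace Cfsg.Agent.Lib.Helper1.LgEx

abbrev W (n : ℕ) := Fin n → ZMod 2
abbrev A (n : ℕ) := ZMod 2 × W n

theorem z2_add_self (a : ZMod 2) : a + a = 0 := CharTwo.add_self_eq_zero a

theorem z2_cases (a : ZMod 2) : a = 0 ∨ a = 1 := by revert a; decide

theorem w_add_self {n : ℕ} (w : W n) : w + w = 0 := by
  funext i
  exact z2_add_self _

theorem a_add_self {n : ℕ} (x : A n) : x + x = 0 := by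
  ext
  · exact z2_add_self _
  · exact congrFun (w_add_self x.2) _

/-- coordinates on an elementary abelian 2-group of order `2^(n+1)`, with a prescribed first basis vector -/
theorem exists_coord {U : Type*} [CommGroup U] [Finite U] (h2 : ∀ u : U, u ^ 2 = 1) (n : ℕ)
    (hc : Nat.card U = 2 ^ (n + 1)) (z : U) (hz : z ≠ 1) :
    ∃ e : Additive U ≃+ A n, e (Additive.ofMul z) = (1, 0) := by
  letI : Module (ZMod 2) (Additive U) := AddCommGroup.zmodModule (n := 2) (fun x => by
    show Additive.ofMul (x.toMul ^ 2) = 0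
    rw [h2]; rfl)
  haveI : Finite (Additive U) := ‹Finite U›
  haveI : Module.Finite (ZMod 2) (Additive U) := Module.Finite.of_finite
  have hfr : Module.finrank (ZMod 2) (Additive U) = n + 1 := by
    have h1 := Module.natCard_eq_pow_finrank (K := ZMod 2) (V := Additive U)
    rw [Nat.card_zmod] at h1
    have h3 : Nat.card (Additive U) = 2 ^ (n + 1) := hc
    rw [h3] at h1
    exact (Nat.pow_right_injective (le_refl 2) h1).symm
  set v : Additive U := Additive.ofMul z with hvdef
  have hv : v ≠ 0 := fun h => hz (Additive.ofMul.injective h)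
  obtain ⟨H, hH⟩ := Submodule.exists_isCompl (Submodule.span (ZMod 2) {v})
  have hfrH : Module.finrank (ZMod 2) H = n := by
    have := Submodule.finrank_add_eq_of_isCompl hH
    rw [finrank_span_singleton hv, hfr] at this
    omega
  let e1 : ZMod 2 ≃ₗ[ZMod 2] Submodule.span (ZMod 2) {v} :=
    LinearEquiv.toSpanNonzeroSingleton (ZMod 2) (Additive U) v hv
  let e2 : H ≃ₗ[ZMod 2] W n := (Module.finBasisOfFinrankEq (ZMod 2) H hfrH).equivFun
  let e3 := Submodule.prodEquivOfIsCompl _ _ hH
  let e : Additive U ≃ₗ[ZMod 2] A n := e3.symm.trans (LinearEquiv.prodCongr e1.symm e2)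
  refine ⟨e.toAddEquiv, ?_⟩
  show e v = (1, 0)
  have hvm : v ∈ Submodule.span (ZMod 2) {v} := Submodule.mem_span_singleton_self v
  have h3 : e3.symm v = (⟨v, hvm⟩, 0) := by
    rw [LinearEquiv.symm_apply_eq]
    simp [e3]
  have h1 : e1.symm ⟨v, hvm⟩ = 1 := by
    rw [LinearEquiv.symm_apply_eq]
    simp [e1]
  show (LinearEquiv.prodCongr e1.symm e2) (e3.symm v) = (1, 0)
  rw [h3]
  simp [h1]

abbrev LW (n : ℕ) := W n ≃ₗ[ZMod 2] W n
abbrev LA (n : ℕ) := A n ≃ₗ[ZMod 2] A n

noncomputable def lwEquivGL (n : ℕ) : LW n ≃* GL (Fin n) (ZMod 2) :=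
  (LinearMap.GeneralLinearGroup.generalLinearEquiv (ZMod 2) (W n)).symm.trans
    (Matrix.GeneralLinearGroup.toLin).symm

theorem exists_functional {n : ℕ} (v w : W n) (hv : v ≠ 0) (hw : w ≠ 0) :
    ∃ f : W n →ₗ[ZMod 2] ZMod 2, f v = 1 ∧ f w = 1 := by
  by_cases h : ∃ i, v i = 1 ∧ w i = 1
  · obtain ⟨i, h1, h2⟩ := h
    exact ⟨(LinearMap.proj i : W n →ₗ[ZMod 2] ZMod 2), h1, h2⟩
  · push Not at h
    obtain ⟨i, hi⟩ : ∃ i, v i ≠ 0 := by
      by_contra hcon
      push Not at hcon
      exact hv (funext hcon)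
    obtain ⟨j, hj⟩ : ∃ j, w j ≠ 0 := by
      by_contra hcon
      push Not at hcon
      exact hw (funext hcon)
    have hvi : v i = 1 := (z2_cases _).resolve_left hi
    have hwj : w j = 1 := (z2_cases _).resolve_left hj
    have hwi : w i = 0 := (z2_cases _).resolve_right (h i hvi)
    have hvj : v j = 0 := (z2_cases _).resolve_right (fun h1 => h j h1 hwj)
    refine ⟨(LinearMap.proj i : W n →ₗ[ZMod 2] ZMod 2) + (LinearMap.proj j : W n →ₗ[ZMod 2] ZMod 2), ?_, ?_⟩
    · simp [hvi, hvj]
    · simp [hwi, hwj]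

/-- the transvection `x ↦ x + f x • d` for `f d = 0` -/
def transv {n : ℕ} (f : W n →ₗ[ZMod 2] ZMod 2) (d : W n) (hfd : f d = 0) : LW n where
  toFun x := x + f x • d
  invFun x := x + f x • d
  left_inv x := by
    show (x + f x • d) + f (x + f x • d) • d = x
    rw [map_add, map_smul, hfd, smul_zero, add_zero, add_assoc, w_add_self, add_zero]
  right_inv x := by
    show (x + f x • d) + f (x + f x • d) • d = x
    rw [map_add, map_smul, hfd, smul_zero, add_zero, add_assoc, w_add_self, add_zero]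
  map_add' x y := by
    show (x + y) + f (x + y) • d = (x + f x • d) + (y + f y • d)
    rw [map_add, add_smul]
    abel
  map_smul' c x := by
    show c • x + f (c • x) • d = c • (x + f x • d)
    rw [map_smul, smul_add, smul_assoc]

theorem transv_apply {n : ℕ} (f : W n →ₗ[ZMod 2] ZMod 2) (d : W n) (hfd : f d = 0) (x : W n) :
    transv f d hfd x = x + f x • d := rfl

/-- `GL ((ZMod 2)^n)` is transitive on nonzero vectors -/
theorem lw_trans {n : ℕ} (v w : W n) (hv : v ≠ 0) (hw : w ≠ 0) :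
    ∃ φ : LW n, φ v = w := by
  obtain ⟨f, hfv, hfw⟩ := exists_functional v w hv hw
  have hfd : f (v + w) = 0 := by rw [map_add, hfv, hfw]; exact z2_add_self 1
  refine ⟨transv f (v + w) hfd, ?_⟩
  rw [transv_apply, hfv, one_smul, ← add_assoc, w_add_self, zero_add]

theorem card_W (n : ℕ) : Nat.card (W n) = 2 ^ n := by
  rw [Nat.card_eq_fintype_card, Fintype.card_pi]
  simp

/-- a normal 2-subgroup of `GL ((ZMod 2)^n)` is trivial -/
theorem normal_two_subgroup_eq_bot {n : ℕ} (N : Subgroup (LW n)) [hn : N.Normal]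
    (hN : IsPGroup 2 N) : N = ⊥ := by
  haveI : Fact (Nat.Prime 2) := ⟨Nat.prime_two⟩
  rcases Nat.eq_zero_or_pos n with h0 | hpos
  · subst h0
    rw [eq_bot_iff]
    intro φ _
    rw [Subgroup.mem_bot]
    ext x i
    exact i.elim0
  · have hdvd : 2 ∣ Nat.card (W n) := by
      rw [card_W]
      exact dvd_pow_self 2 (by omega)
    have h0 : (0 : W n) ∈ MulAction.fixedPoints N (W n) := by
      intro g
      show (g : LW n) (0 : W n) = 0
      exact map_zero _
    obtain ⟨v, hvfix, hv0⟩ := hN.exists_fixed_point_of_prime_dvd_card_of_fixed_point (W n) hdvd h0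
    have hv : v ≠ 0 := fun h => hv0 h.symm
    rw [eq_bot_iff]
    intro ν hν
    rw [Subgroup.mem_bot]
    ext w : 1
    show ν w = w
    by_cases hw : w = 0
    · rw [hw]; exact map_zero _
    · obtain ⟨φ, hφ⟩ := lw_trans v w hv hw
      have hmem : φ⁻¹ * ν * φ ∈ N := by
        have := hn.conj_mem ν hν φ⁻¹
        rwa [inv_inv] at this
      have hfix : (φ⁻¹ * ν * φ) v = v := hvfix ⟨_, hmem⟩
      have h2 : φ⁻¹ (ν (φ v)) = v := hfix
      rw [hφ] at h2
      have h3 := congrArg φ h2
      rw [hφ] at h3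
      have h4 : φ (φ⁻¹ (ν w)) = ν w := φ.apply_symm_apply _
      rw [h4] at h3
      exact h3

end Cfsg.Agent.Lib.Helper1.LgEx
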