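import Mathlib
import Cfsg.Agent.Lib.Lead.ExtraModel1

set_option autoImplicit false

/-!
# An extraspecial criterion for a product `U R` of two elementary abelian groups
-/

namespace Cfsg.Agent.Lib.Helper1.LgEx

open scoped commutatorElement
open Cfsg.Agent.Lib.Lead.Extra

section split

variable {G : Type*} [Group G] (Q U R : Subgroup G) (z : G)

/-- hypotheses on a product `Q = U R` -/
structure Split : Prop where
  hUQ : U ≤ Q
  hRQ : R ≤ Q
  hQ : ∀ g ∈ Q, ∃ u ∈ U, ∃ m ∈ R, g = u * m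
  hUc : ∀ u ∈ U, ∀ v ∈ U, u * v = v * u
  hU2 : ∀ u ∈ U, u * u = 1
  hRc : ∀ a ∈ R, ∀ b ∈ R, a * b = b * a
  hR2 : ∀ a ∈ R, a * a = 1
  hzU : z ∈ U
  hz1 : z ≠ 1
  hzR : ∀ m ∈ R, m * z = z * m
  hc : ∀ m ∈ R, ∀ u ∈ U, m * u * m⁻¹ * u⁻¹ = 1 ∨ m * u * m⁻¹ * u⁻¹ = z
  hfa : ∀ m ∈ R, (∀ u ∈ U, m * u = u * m) → m = 1
  hce : ∀ u ∈ U, (∀ m ∈ R, m * u = u * m) → u = 1 ∨ u = z

variable {Q U R z}

theorem Split.zz (h : Split Q U R z) : z * z = 1 := h.hU2 z h.hzU

theorem Split.mu (h : Split Q U R z) {m u : G} (hm : m ∈ R) (hu : u ∈ U) :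
    m * u = u * m ∨ m * u = z * (u * m) := by
  rcases h.hc m hm u hu with h1 | h1
  · left
    have : m * u = (m * u * m⁻¹ * u⁻¹) * (u * m) := by group
    rw [this, h1, one_mul]
  · right
    have : m * u = (m * u * m⁻¹ * u⁻¹) * (u * m) := by group
    rw [this, h1]

theorem Split.prod (h : Split Q U R z) {u v m k : G} (hu : u ∈ U) (hv : v ∈ U) (hm : m ∈ R)
    (_hk : k ∈ R) :
    (u * m) * (v * k) = u * v * (m * k) ∨ (u * m) * (v * k) = z * (u * v * (m * k)) := by
  rcases h.mu hm hv with h1 | h1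
  · left
    calc (u * m) * (v * k) = u * (m * v) * k := by group
      _ = u * v * (m * k) := by rw [h1]; group
  · right
    calc (u * m) * (v * k) = u * (m * v) * k := by group
      _ = (u * z) * (v * m) * k := by rw [h1]; group
      _ = z * (u * v * (m * k)) := by rw [h.hUc u hu z h.hzU]; group

theorem Split.comm (h : Split Q U R z) {x y : G} (hx : x ∈ Q) (hy : y ∈ Q) :
    x * y * x⁻¹ * y⁻¹ = 1 ∨ x * y * x⁻¹ * y⁻¹ = z := by
  obtain ⟨u, hu, m, hm, rfl⟩ := h.hQ x hx
  obtain ⟨v, hv, k, hk, rfl⟩ := h.hQ y hy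
  have hP : v * u * (k * m) = u * v * (m * k) := by
    rw [h.hUc v hv u hu, h.hRc k hk m hm]
  have hzinv : z⁻¹ = z := inv_eq_of_mul_eq_one_right h.zz
  have key : ∀ a b : G, a * b * a⁻¹ * b⁻¹ = (a * b) * (b * a)⁻¹ := by intro a b; group
  rw [key]
  rcases h.prod hu hv hm hk with h1 | h1 <;> rcases h.prod hv hu hk hm with h2 | h2
  · left
    rw [h1, h2, hP, mul_inv_cancel]
  · right
    rw [h1, h2, hP, mul_inv_rev, hzinv]
    group
  · right
    rw [h1, h2, hP]
    group
  · left
    rw [h1, h2, hP, mul_inv_cancel]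

theorem Split.sq (h : Split Q U R z) {x : G} (hx : x ∈ Q) : x * x = 1 ∨ x * x = z := by
  obtain ⟨u, hu, m, hm, rfl⟩ := h.hQ x hx
  rcases h.prod hu hu hm hm with h1 | h1
  · left
    rw [h1, h.hU2 u hu, h.hR2 m hm, one_mul]
  · right
    rw [h1, h.hU2 u hu, h.hR2 m hm, one_mul, mul_one]

theorem Split.z_comm (h : Split Q U R z) {x : G} (hx : x ∈ Q) : x * z = z * x := by
  obtain ⟨u, hu, m, hm, rfl⟩ := h.hQ x hx
  calc u * m * z = u * (m * z) := by group
    _ = (u * z) * m := by rw [h.hzR m hm]; group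
    _ = z * (u * m) := by rw [h.hUc u hu z h.hzU]; group

theorem Split.cen (h : Split Q U R z) {x : G} (hx : x ∈ Q) (hcen : ∀ g ∈ Q, g * x = x * g) :
    x = 1 ∨ x = z := by
  obtain ⟨u, hu, m, hm, rfl⟩ := h.hQ x hx
  have hm1 : m = 1 := by
    apply h.hfa m hm
    intro v hv
    have h1 := hcen v (h.hUQ hv)
    have h2 : u * (v * m) = u * (m * v) := by
      calc u * (v * m) = (u * v) * m := by group
        _ = v * (u * m) := by rw [h.hUc u hu v hv]; group
        _ = u * m * v := h1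
        _ = u * (m * v) := by group
    exact (mul_left_cancel h2).symm
  subst hm1
  rw [mul_one] at hcen ⊢
  apply h.hce u hu
  intro k hk
  exact hcen k (h.hRQ hk)

/-- the resulting elementary description of an extraspecial group -/
theorem Split.es (h : Split Q U R z) : ES ↥Q ⟨z, h.hUQ h.hzU⟩ where
  z_ne := by
    intro h1
    exact h.hz1 (congrArg Subtype.val h1)
  z_mem := by
    rw [Subgroup.mem_center_iff]
    intro g
    exact Subtype.ext (h.z_comm g.2)
  comm := by
    intro x y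
    rcases h.comm x.2 y.2 with h1 | h1
    · left
      apply Subtype.ext
      rw [commutatorElement_def]
      exact h1
    · right
      apply Subtype.ext
      rw [commutatorElement_def]
      exact h1
  sq := by
    intro x
    rcases h.sq x.2 with h1 | h1
    · left
      apply Subtype.ext
      rw [pow_two]
      exact h1
    · right
      apply Subtype.ext
      rw [pow_two]
      exact h1
  cen := by
    intro w hw
    rw [Subgroup.mem_center_iff] at hw
    rcases h.cen w.2 (fun g hg => congrArg Subtype.val (hw ⟨g, hg⟩)) with h1 | h1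
    · left
      exact Subtype.ext h1
    · right
      exact Subtype.ext h1

end split

end Cfsg.Agent.Lib.Helper1.LgEx
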