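import Mathlib
import Cfsg.Agent.Lib.Helper1.LgEx1

set_option autoImplicit false

/-!
# The stabilizer of the first basis vector in `GL (ZMod 2 × (ZMod 2)^n)`
-/

namespace Cfsg.Agent.Lib.Helper1.LgEx

variable {n : ℕ}

def e0 (n : ℕ) : A n := (1, 0)

theorem e0_ne_zero : e0 n ≠ 0 := by
  intro h
  have := congrArg Prod.fst h
  simp [e0] at this

/-- the stabilizer of `e0` -/
def St (n : ℕ) : Subgroup (LA n) where
  carrier := {φ | φ (e0 n) = e0 n}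
  mul_mem' := by
    intro a b ha hb
    show a (b (e0 n)) = e0 n
    rw [hb, ha]
  one_mem' := rfl
  inv_mem' := by
    intro a ha
    show a⁻¹ (e0 n) = e0 n
    have h1 : a⁻¹ (a (e0 n)) = e0 n := a.symm_apply_apply _
    rw [ha] at h1
    exact h1

theorem mem_St {φ : LA n} : φ ∈ St n ↔ φ (e0 n) = e0 n := Iff.rfl

/-- the `r`-part -/
def rp (φ : LA n) : W n →ₗ[ZMod 2] ZMod 2 :=
  (LinearMap.fst (ZMod 2) (ZMod 2) (W n)) ∘ₗ φ.toLinearMap ∘ₗ (LinearMap.inr (ZMod 2) (ZMod 2) (W n))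

/-- the `D`-part -/
def dl (φ : LA n) : W n →ₗ[ZMod 2] W n :=
  (LinearMap.snd (ZMod 2) (ZMod 2) (W n)) ∘ₗ φ.toLinearMap ∘ₗ (LinearMap.inr (ZMod 2) (ZMod 2) (W n))

theorem rp_apply (φ : LA n) (w : W n) : rp φ w = (φ (0, w)).1 := rfl

theorem dl_apply (φ : LA n) (w : W n) : dl φ w = (φ (0, w)).2 := rfl

theorem apply_eq {φ : LA n} (hφ : φ ∈ St n) (a : ZMod 2) (w : W n) :
    φ (a, w) = (a + rp φ w, dl φ w) := by
  have h1 : ((a, w) : A n) = a • e0 n + (0, w) := by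
    ext <;> simp [e0]
  rw [h1, map_add, map_smul, mem_St.mp hφ]
  ext <;> simp [e0, rp_apply, dl_apply]

theorem dl_one : dl (1 : LA n) = LinearMap.id := by
  apply LinearMap.ext
  intro w
  rfl

theorem dl_mul {φ : LA n} (hφ : φ ∈ St n) (ψ : LA n) : dl (φ * ψ) = dl φ ∘ₗ dl ψ := by
  apply LinearMap.ext
  intro w
  show ((φ * ψ) (0, w)).2 = dl φ (dl ψ w)
  have h1 : (φ * ψ) (0, w) = φ (ψ (0, w)) := rfl
  have h2 : ψ (0, w) = (rp ψ w, dl ψ w) := rfl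
  rw [h1, h2, apply_eq hφ]

theorem rp_mul {φ : LA n} (hφ : φ ∈ St n) (ψ : LA n) (w : W n) :
    rp (φ * ψ) w = rp ψ w + rp φ (dl ψ w) := by
  show ((φ * ψ) (0, w)).1 = _
  have h1 : (φ * ψ) (0, w) = φ (ψ (0, w)) := rfl
  have h2 : ψ (0, w) = (rp ψ w, dl ψ w) := rfl
  rw [h1, h2, apply_eq hφ]

/-- the `D`-part as an automorphism -/
def dpFun (φ : St n) : LW n :=
  LinearEquiv.ofLinear (dl (φ : LA n)) (dl ((φ⁻¹ : St n) : LA n))
    (by
      rw [← dl_mul φ.2, ← dl_one]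
      congr 1
      exact congrArg Subtype.val (mul_inv_cancel φ))
    (by
      rw [← dl_mul (φ⁻¹).2, ← dl_one]
      congr 1
      exact congrArg Subtype.val (inv_mul_cancel φ))

theorem dpFun_apply (φ : St n) (w : W n) : dpFun φ w = dl (φ : LA n) w := rfl

/-- the `D`-part as a homomorphism -/
def dp (n : ℕ) : St n →* LW n where
  toFun := dpFun
  map_one' := by
    ext w : 1
    rfl
  map_mul' := by
    intro φ ψ
    ext w : 1
    show dl ((φ : LA n) * (ψ : LA n)) w = dl (φ : LA n) (dl (ψ : LA n) w)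
    rw [dl_mul φ.2]
    rfl

theorem dp_apply (φ : St n) (w : W n) : dp n φ w = ((φ : LA n) (0, w)).2 := rfl

/-- the element with given parts -/
def mkRD (r : W n →ₗ[ZMod 2] ZMod 2) (D : LW n) : LA n where
  toFun x := (x.1 + r x.2, D x.2)
  invFun x := (x.1 + r (D.symm x.2), D.symm x.2)
  left_inv x := by
    ext
    · show x.1 + r x.2 + r (D.symm (D x.2)) = x.1
      rw [D.symm_apply_apply, add_assoc, z2_add_self, add_zero]
    · show D.symm (D x.2) _ = _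
      rw [D.symm_apply_apply]
  right_inv x := by
    ext
    · show x.1 + r (D.symm x.2) + r (D.symm x.2) = x.1
      rw [add_assoc, z2_add_self, add_zero]
    · show D (D.symm x.2) _ = _
      rw [D.apply_symm_apply]
  map_add' x y := by
    ext
    · show (x + y).1 + r (x + y).2 = (x.1 + r x.2) + (y.1 + r y.2)
      rw [Prod.fst_add, Prod.snd_add, map_add]
      ring
    · show D (x + y).2 _ = (D x.2 + D y.2) _
      rw [Prod.snd_add, map_add]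
  map_smul' c x := by
    ext
    · show (c • x).1 + r (c • x).2 = c • (x.1 + r x.2)
      rw [Prod.smul_fst, Prod.smul_snd, map_smul, smul_add]
    · show D (c • x).2 _ = (c • D x.2) _
      rw [Prod.smul_snd, map_smul]

theorem mkRD_apply (r : W n →ₗ[ZMod 2] ZMod 2) (D : LW n) (a : ZMod 2) (w : W n) :
    mkRD r D (a, w) = (a + r w, D w) := rfl

theorem mkRD_mem (r : W n →ₗ[ZMod 2] ZMod 2) (D : LW n) : mkRD r D ∈ St n := by
  show mkRD r D (1, 0) = (1, 0)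
  rw [mkRD_apply, map_zero, map_zero, add_zero]

theorem rp_mkRD (r : W n →ₗ[ZMod 2] ZMod 2) (D : LW n) : rp (mkRD r D) = r := by
  apply LinearMap.ext
  intro w
  show (mkRD r D (0, w)).1 = r w
  rw [mkRD_apply, zero_add]

theorem dp_mkRD (r : W n →ₗ[ZMod 2] ZMod 2) (D : LW n) : dp n ⟨mkRD r D, mkRD_mem r D⟩ = D := by
  ext w : 1
  rfl

theorem eq_mkRD (φ : St n) : (φ : LA n) = mkRD (rp (φ : LA n)) (dp n φ) := by
  ext x : 1
  obtain ⟨a, w⟩ := x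
  rw [apply_eq φ.2, mkRD_apply]
  rfl

theorem mkRD_mul (r r' : W n →ₗ[ZMod 2] ZMod 2) (D D' : LW n) :
    mkRD r D * mkRD r' D' = mkRD (r' + r ∘ₗ D'.toLinearMap) (D * D') := by
  ext x : 1
  obtain ⟨a, w⟩ := x
  show mkRD r D (mkRD r' D' (a, w)) = _
  rw [mkRD_apply, mkRD_apply, mkRD_apply]
  ext
  · show a + r' w + r (D' w) = a + (r' w + r (D' w))
    ring
  · rfl

theorem mkRD_one : mkRD (0 : W n →ₗ[ZMod 2] ZMod 2) (1 : LW n) = 1 := by
  ext x : 1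
  obtain ⟨a, w⟩ := x
  rw [mkRD_apply]
  ext
  · show a + 0 = a
    rw [add_zero]
  · rfl

theorem mkRD_injective {r r' : W n →ₗ[ZMod 2] ZMod 2} {D D' : LW n} (h : mkRD r D = mkRD r' D') :
    r = r' ∧ D = D' := by
  constructor
  · rw [← rp_mkRD r D, h, rp_mkRD]
  · rw [← dp_mkRD r D, ← dp_mkRD r' D']
    congr 1
    exact Subtype.ext h

theorem mkRD_inv (r : W n →ₗ[ZMod 2] ZMod 2) (D : LW n) :
    (mkRD r D)⁻¹ = mkRD (r ∘ₗ (D⁻¹ : LW n).toLinearMap) D⁻¹ := by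
  rw [inv_eq_iff_mul_eq_one, mkRD_mul, ← mkRD_one]
  congr 1
  · apply LinearMap.ext
    intro w
    show r (D⁻¹ w) + r (D⁻¹ w) = 0
    exact z2_add_self _
  · exact mul_inv_cancel D

/-- the unipotent radical of the stabilizer -/
def Rs (n : ℕ) : Subgroup (LA n) where
  carrier := {φ | ∃ r, φ = mkRD r 1}
  mul_mem' := by
    rintro _ _ ⟨r, rfl⟩ ⟨r', rfl⟩
    exact ⟨_, (mkRD_mul r r' 1 1).trans (by rw [mul_one])⟩
  one_mem' := ⟨0, mkRD_one.symm⟩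
  inv_mem' := by
    rintro _ ⟨r, rfl⟩
    exact ⟨_, (mkRD_inv r 1).trans (by rw [inv_one])⟩

/-- the Levi complement of the stabilizer -/
def Ks (n : ℕ) : Subgroup (LA n) where
  carrier := {φ | ∃ D, φ = mkRD 0 D}
  mul_mem' := by
    rintro _ _ ⟨D, rfl⟩ ⟨D', rfl⟩
    refine ⟨D * D', (mkRD_mul 0 0 D D').trans ?_⟩
    congr 1
  one_mem' := ⟨1, mkRD_one.symm⟩
  inv_mem' := by
    rintro _ ⟨D, rfl⟩
    refine ⟨D⁻¹, (mkRD_inv 0 D).trans ?_⟩
    congr 1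

theorem mem_Rs {φ : LA n} : φ ∈ Rs n ↔ ∃ r, φ = mkRD r 1 := Iff.rfl

theorem mem_Ks {φ : LA n} : φ ∈ Ks n ↔ ∃ D, φ = mkRD 0 D := Iff.rfl

theorem Rs_le_St : Rs n ≤ St n := by
  rintro _ ⟨r, rfl⟩
  exact mkRD_mem r 1

theorem Ks_le_St : Ks n ≤ St n := by
  rintro _ ⟨D, rfl⟩
  exact mkRD_mem 0 D

theorem mem_Rs_iff_dp (φ : St n) : (φ : LA n) ∈ Rs n ↔ dp n φ = 1 := by
  constructor
  · rintro ⟨r, hr⟩
    have : φ = ⟨mkRD r 1, mkRD_mem r 1⟩ := Subtype.ext hr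
    rw [this, dp_mkRD]
  · intro h
    refine ⟨rp (φ : LA n), ?_⟩
    rw [← h]
    exact eq_mkRD φ

theorem Rs_inf_Ks : Rs n ⊓ Ks n = ⊥ := by
  rw [eq_bot_iff]
  rintro φ ⟨⟨r, hr⟩, ⟨D, hD⟩⟩
  rw [Subgroup.mem_bot]
  have := mkRD_injective (hr.symm.trans hD)
  rw [hr, this.1, ← mkRD_one]

theorem St_decomp {φ : LA n} (hφ : φ ∈ St n) : ∃ ρ ∈ Rs n, ∃ κ ∈ Ks n, φ = ρ * κ := by
  have h1 := eq_mkRD ⟨φ, hφ⟩
  set r := rp φ
  set D := dp n ⟨φ, hφ⟩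
  refine ⟨mkRD (r ∘ₗ (D⁻¹ : LW n).toLinearMap) 1, ⟨_, rfl⟩, mkRD 0 D, ⟨_, rfl⟩, ?_⟩
  rw [mkRD_mul, one_mul]
  change φ = mkRD r D at h1
  rw [h1]
  congr 1
  apply LinearMap.ext
  intro w
  show r w = 0 + r (D⁻¹ (D w))
  rw [zero_add]
  congr 1
  exact (D.symm_apply_apply w).symm

theorem Rs_comm {φ ψ : LA n} (hφ : φ ∈ Rs n) (hψ : ψ ∈ Rs n) : φ * ψ = ψ * φ := by
  obtain ⟨r, rfl⟩ := hφ
  obtain ⟨r', rfl⟩ := hψ
  rw [mkRD_mul, mkRD_mul]
  congr 1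
  apply LinearMap.ext
  intro w
  show r' w + r w = r w + r' w
  exact add_comm _ _

theorem Rs_sq {φ : LA n} (hφ : φ ∈ Rs n) : φ * φ = 1 := by
  obtain ⟨r, rfl⟩ := hφ
  rw [mkRD_mul, ← mkRD_one]
  congr 1
  · apply LinearMap.ext
    intro w
    show r w + r w = 0
    exact z2_add_self _

theorem Rs_conj {σ ρ : LA n} (hσ : σ ∈ St n) (hρ : ρ ∈ Rs n) : σ * ρ * σ⁻¹ ∈ Rs n := by
  have hmem : σ * ρ * σ⁻¹ ∈ St n :=
    (St n).mul_mem ((St n).mul_mem hσ (Rs_le_St hρ)) ((St n).inv_mem hσ)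
  have h1 := (mem_Rs_iff_dp ⟨σ * ρ * σ⁻¹, hmem⟩).mpr
  apply h1
  have h2 : (⟨σ * ρ * σ⁻¹, hmem⟩ : St n) = ⟨σ, hσ⟩ * ⟨ρ, Rs_le_St hρ⟩ * ⟨σ, hσ⟩⁻¹ := rfl
  rw [h2, map_mul, map_mul, map_inv, (mem_Rs_iff_dp ⟨ρ, Rs_le_St hρ⟩).mp hρ, mul_one,
    mul_inv_cancel]

theorem dp_surjective : Function.Surjective (dp n) := by
  intro D
  exact ⟨⟨mkRD 0 D, mkRD_mem 0 D⟩, dp_mkRD 0 D⟩

/-- every normal 2-subgroup of the stabilizer lies in the radical -/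
theorem le_Rs_of_normal_two (N : Subgroup (LA n)) (hN : N ≤ St n)
    (hnorm : ∀ σ ∈ St n, ∀ x ∈ N, σ * x * σ⁻¹ ∈ N) (h2 : IsPGroup 2 N) : N ≤ Rs n := by
  haveI hn : (N.subgroupOf (St n)).Normal := by
    constructor
    intro x hx σ
    rw [Subgroup.mem_subgroupOf] at hx ⊢
    exact hnorm σ σ.2 x hx
  haveI : ((N.subgroupOf (St n)).map (dp n)).Normal := hn.map _ dp_surjective
  have hp : IsPGroup 2 ((N.subgroupOf (St n)).map (dp n)) := by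
    apply IsPGroup.map
    exact h2.comap_of_injective (St n).subtype (Subgroup.subtype_injective _) |>.to_le
      (by intro x hx; exact hx)
  have hbot := normal_two_subgroup_eq_bot _ hp
  intro x hx
  have hmem : dp n ⟨x, hN hx⟩ ∈ (N.subgroupOf (St n)).map (dp n) :=
    Subgroup.mem_map_of_mem _ (by rw [Subgroup.mem_subgroupOf]; exact hx)
  rw [hbot, Subgroup.mem_bot] at hmem
  exact (mem_Rs_iff_dp ⟨x, hN hx⟩).mpr hmem

theorem card_dual (n : ℕ) : Nat.card (W n →ₗ[ZMod 2] ZMod 2) = 2 ^ n := by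
  have h1 := Module.natCard_eq_pow_finrank (K := ZMod 2) (V := Module.Dual (ZMod 2) (W n))
  rw [Subspace.dual_finrank_eq, Module.finrank_fin_fun, Nat.card_zmod] at h1
  exact h1

theorem card_Rs (n : ℕ) : Nat.card (Rs n) = 2 ^ n := by
  rw [← card_dual n]
  symm
  apply Nat.card_congr
  refine Equiv.ofBijective (fun r => ⟨mkRD r 1, ⟨r, rfl⟩⟩) ⟨?_, ?_⟩
  · intro r r' h
    exact (mkRD_injective (congrArg Subtype.val h)).1
  · rintro ⟨_, r, rfl⟩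
    exact ⟨r, rfl⟩

/-- the Levi complement is the general linear group -/
noncomputable def ksEquiv (n : ℕ) : Ks n ≃* LW n :=
  MulEquiv.ofBijective ((dp n).comp (Subgroup.inclusion (Ks_le_St (n := n))))
    ⟨by
      rintro ⟨_, D, rfl⟩ ⟨_, D', rfl⟩ h
      have h1 : dp n ⟨mkRD 0 D, mkRD_mem 0 D⟩ = dp n ⟨mkRD 0 D', mkRD_mem 0 D'⟩ := h
      rw [dp_mkRD, dp_mkRD] at h1
      exact Subtype.ext (by rw [h1]),
     by
      intro D
      exact ⟨⟨mkRD 0 D, ⟨D, rfl⟩⟩, dp_mkRD 0 D⟩⟩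

/-- a vector outside the line of `e0` is moved by some element of the radical -/
theorem exists_Rs_moving (a : ZMod 2) {w : W n} (hw : w ≠ 0) :
    ∃ ρ ∈ Rs n, ρ (a, w) ≠ (a, w) := by
  obtain ⟨f, hf, _⟩ := exists_functional w w hw hw
  refine ⟨mkRD f 1, ⟨f, rfl⟩, ?_⟩
  rw [mkRD_apply, hf]
  intro h
  have h1 := congrArg Prod.fst h
  have h2 : a + 1 = a := h1
  have h3 : (1 : ZMod 2) = 0 := by
    calc (1 : ZMod 2) = (a + a) + 1 := by rw [z2_add_self, zero_add]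
      _ = a + (a + 1) := by ring
      _ = 0 := by rw [h2, z2_add_self]
  exact one_ne_zero h3

theorem Rs_apply {ρ : LA n} (hρ : ρ ∈ Rs n) (x : A n) : ρ x = x ∨ ρ x = x + e0 n := by
  obtain ⟨r, rfl⟩ := hρ
  obtain ⟨a, w⟩ := x
  rw [mkRD_apply]
  rcases z2_cases (r w) with h | h
  · left
    rw [h, add_zero]
    rfl
  · right
    rw [h]
    ext
    · rfl
    · show (1 : LW n) w _ = (w + 0) _
      rw [add_zero]
      rfl

end Cfsg.Agent.Lib.Helper1.LgEx
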