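import Mathlib
import Cfsg.Agent.Lib.Helper1.LgEx2

set_option autoImplicit false

/-!
# A split extension of `(ZMod 2)^(n+1)` by its full automorphism group: the action homomorphism
-/

namespace Cfsg.Agent.Lib.Helper1.LgEx

/-- the data: a normal subgroup `U` with coordinates, and a complement `M` inducing all automorphisms -/
structure Dat (G : Type*) [Group G] (n : ℕ) where
  U : Subgroup G
  M : Subgroup G
  hUn : U.Normal
  e : Additive ↥U ≃+ A n
  hUM : U ⊓ M = ⊥
  hUM' : U ⊔ M = ⊤
  hfaith : ∀ m ∈ M, (∀ u ∈ U, m * u * m⁻¹ = u) → m = 1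
  hfull : ∀ φ : ↥U ≃* ↥U, ∃ m ∈ M, ∀ u : ↥U, ((φ u : ↥U) : G) = m * u * m⁻¹

variable {G : Type*} [Group G] {n : ℕ} (d : Dat G n)

namespace Dat

/-- coordinates of an element of `U` -/
def co (u : ↥d.U) : A n := d.e (Additive.ofMul u)

/-- the element of `U` with given coordinates -/
def unco (x : A n) : ↥d.U := (d.e.symm x).toMul

theorem co_unco (x : A n) : d.co (d.unco x) = x := d.e.apply_symm_apply x

theorem unco_co (u : ↥d.U) : d.unco (d.co u) = u := by
  show (d.e.symm (d.e (Additive.ofMul u))).toMul = u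
  rw [d.e.symm_apply_apply]
  rfl

theorem co_mul (u v : ↥d.U) : d.co (u * v) = d.co u + d.co v := by
  show d.e (Additive.ofMul u + Additive.ofMul v) = _
  rw [map_add]
  rfl

theorem co_one : d.co 1 = 0 := by
  show d.e 0 = 0
  exact map_zero _

theorem co_injective : Function.Injective d.co := by
  intro u v h
  have := congrArg d.unco h
  rwa [unco_co, unco_co] at this

theorem co_eq_zero_iff (u : ↥d.U) : d.co u = 0 ↔ u = 1 := by
  constructor
  · intro h
    apply d.co_injective
    rw [h, co_one]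
  · rintro rfl
    exact d.co_one

theorem unco_add (x y : A n) : d.unco (x + y) = d.unco x * d.unco y := by
  apply d.co_injective
  rw [co_mul, co_unco, co_unco, co_unco]

theorem U_comm {u v : G} (hu : u ∈ d.U) (hv : v ∈ d.U) : u * v = v * u := by
  have h : (⟨u, hu⟩ : ↥d.U) * ⟨v, hv⟩ = ⟨v, hv⟩ * ⟨u, hu⟩ := by
    apply d.co_injective
    rw [co_mul, co_mul, add_comm]
  exact congrArg Subtype.val h

theorem U_sq {u : G} (hu : u ∈ d.U) : u * u = 1 := by
  have h : (⟨u, hu⟩ : ↥d.U) * ⟨u, hu⟩ = 1 := by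
    apply d.co_injective
    rw [co_mul, co_one, a_add_self]
  exact congrArg Subtype.val h

/-- conjugation on `U` -/
def cj (g : G) (u : ↥d.U) : ↥d.U := ⟨g * u * g⁻¹, d.hUn.conj_mem u u.2 g⟩

theorem cj_mul (g h : G) (u : ↥d.U) : d.cj (g * h) u = d.cj g (d.cj h u) := by
  apply Subtype.ext
  show g * h * u * (g * h)⁻¹ = g * (h * u * h⁻¹) * g⁻¹
  group

theorem cj_one (u : ↥d.U) : d.cj 1 u = u := by
  apply Subtype.ext
  show 1 * (u : G) * 1⁻¹ = u
  group

theorem cj_map_mul (g : G) (u v : ↥d.U) : d.cj g (u * v) = d.cj g u * d.cj g v := by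
  apply Subtype.ext
  show g * (u * v) * g⁻¹ = g * u * g⁻¹ * (g * v * g⁻¹)
  group

/-- the action as an additive map -/
def actAdd (g : G) : A n →+ A n where
  toFun x := d.co (d.cj g (d.unco x))
  map_zero' := by
    have h1 : d.unco 0 = 1 := by
      apply d.co_injective
      rw [co_unco, co_one]
    have h2 : d.cj g 1 = 1 := by
      apply Subtype.ext
      show g * 1 * g⁻¹ = 1
      group
    rw [h1, h2, co_one]
  map_add' x y := by
    show d.co (d.cj g (d.unco (x + y))) = _
    rw [unco_add, cj_map_mul, co_mul]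

theorem actAdd_apply (g : G) (x : A n) : d.actAdd g x = d.co (d.cj g (d.unco x)) := rfl

theorem actAdd_mul (g h : G) (x : A n) : d.actAdd (g * h) x = d.actAdd g (d.actAdd h x) := by
  rw [actAdd_apply, actAdd_apply, actAdd_apply, unco_co, cj_mul]

theorem actAdd_one (x : A n) : d.actAdd 1 x = x := by
  rw [actAdd_apply, cj_one, co_unco]

/-- the action as a linear automorphism -/
def actL (g : G) : LA n :=
  LinearEquiv.ofLinear ((d.actAdd g).toZModLinearMap 2) ((d.actAdd g⁻¹).toZModLinearMap 2)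
    (by
      apply LinearMap.ext
      intro x
      show d.actAdd g (d.actAdd g⁻¹ x) = x
      rw [← actAdd_mul, mul_inv_cancel, actAdd_one])
    (by
      apply LinearMap.ext
      intro x
      show d.actAdd g⁻¹ (d.actAdd g x) = x
      rw [← actAdd_mul, inv_mul_cancel, actAdd_one])

/-- the action homomorphism -/
def α : G →* LA n where
  toFun := d.actL
  map_one' := by
    apply LinearEquiv.ext
    intro x
    exact d.actAdd_one x
  map_mul' g h := by
    apply LinearEquiv.ext
    intro x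
    exact d.actAdd_mul g h x

theorem α_apply (g : G) (x : A n) : d.α g x = d.co (d.cj g (d.unco x)) := rfl

theorem α_co (g : G) (u : ↥d.U) : d.α g (d.co u) = d.co (d.cj g u) := by
  rw [α_apply, unco_co]

theorem α_eq_one_iff (g : G) : d.α g = 1 ↔ ∀ u ∈ d.U, g * u * g⁻¹ = u := by
  constructor
  · intro h u hu
    have h1 := d.α_co g ⟨u, hu⟩
    rw [h] at h1
    have h2 : d.co ⟨u, hu⟩ = d.co (d.cj g ⟨u, hu⟩) := h1
    exact (congrArg Subtype.val (d.co_injective h2)).symm
  · intro h
    apply LinearEquiv.ext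
    intro x
    rw [α_apply]
    have : d.cj g (d.unco x) = d.unco x := Subtype.ext (h _ (d.unco x).2)
    rw [this, co_unco]
    rfl

theorem α_of_mem_U {u : G} (hu : u ∈ d.U) : d.α u = 1 := by
  rw [α_eq_one_iff]
  intro v hv
  rw [d.U_comm hu hv, mul_assoc, mul_inv_cancel, mul_one]

theorem decomp (g : G) : ∃ u ∈ d.U, ∃ m ∈ d.M, g = u * m := by
  haveI := d.hUn
  have h : g ∈ d.U ⊔ d.M := by rw [d.hUM']; exact Subgroup.mem_top g
  rw [← SetLike.mem_coe, Subgroup.normal_mul] at h
  obtain ⟨u, hu, m, hm, rfl⟩ := h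
  exact ⟨u, hu, m, hm, rfl⟩

theorem α_inj_M {m : G} (hm : m ∈ d.M) (h : d.α m = 1) : m = 1 :=
  d.hfaith m hm ((d.α_eq_one_iff m).mp h)

theorem α_eq_of_M {m k : G} (hm : m ∈ d.M) (hk : k ∈ d.M) (h : d.α m = d.α k) : m = k := by
  have h1 : d.α (m * k⁻¹) = 1 := by rw [map_mul, map_inv, h, mul_inv_cancel]
  have h2 := d.α_inj_M (d.M.mul_mem hm (d.M.inv_mem hk)) h1
  exact mul_inv_eq_one.mp h2

theorem ker_α : d.α.ker = d.U := by
  ext g
  rw [MonoidHom.mem_ker]
  constructor
  · intro h
    obtain ⟨u, hu, m, hm, rfl⟩ := d.decomp g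
    rw [map_mul, d.α_of_mem_U hu, one_mul] at h
    rw [d.α_inj_M hm h, mul_one]
    exact hu
  · exact d.α_of_mem_U

theorem α_surj_M (φ : LA n) : ∃ m ∈ d.M, d.α m = φ := by
  let ψ : ↥d.U ≃* ↥d.U :=
    { toFun := fun u => d.unco (φ (d.co u))
      invFun := fun u => d.unco (φ.symm (d.co u))
      left_inv := by
        intro u
        show d.unco (φ.symm (d.co (d.unco (φ (d.co u))))) = u
        rw [co_unco, φ.symm_apply_apply, unco_co]
      right_inv := by
        intro u
        show d.unco (φ (d.co (d.unco (φ.symm (d.co u))))) = u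
        rw [co_unco, φ.apply_symm_apply, unco_co]
      map_mul' := by
        intro u v
        show d.unco (φ (d.co (u * v))) = d.unco (φ (d.co u)) * d.unco (φ (d.co v))
        rw [co_mul, map_add, unco_add] }
  obtain ⟨m, hm, h⟩ := d.hfull ψ
  refine ⟨m, hm, ?_⟩
  apply LinearEquiv.ext
  intro x
  rw [α_apply]
  have h1 : d.cj m (d.unco x) = ψ (d.unco x) := Subtype.ext (h (d.unco x)).symm
  rw [h1]
  show d.co (d.unco (φ (d.co (d.unco x)))) = φ x
  rw [co_unco, co_unco]

theorem α_surjective : Function.Surjective d.α := by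
  intro φ
  obtain ⟨m, _, h⟩ := d.α_surj_M φ
  exact ⟨m, h⟩

end Dat

end Cfsg.Agent.Lib.Helper1.LgEx
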