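import Mathlib
import Cfsg.Agent.Lib.Helper1.LgEx3
import Cfsg.Agent.Lib.Helper1.LgEx4

set_option autoImplicit false

/-!
# The centralizer of a translation in the affine group `AGL(n+1, 2)`
-/

namespace Cfsg.Agent.Lib.Helper1.LgEx

open scoped commutatorElement
open Cfsg.Agent.Lib.Lead.Extra

theorem card_comap_of_surjective {G H : Type*} [Group G] [Group H] (f : G →* H)
    (hf : Function.Surjective f) (K : Subgroup H) :
    Nat.card (K.comap f) = Nat.card f.ker * Nat.card K := by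
  have hs := MonoidHom.subgroupComap_surjective_of_surjective f K hf
  have h1 := Subgroup.card_eq_card_quotient_mul_card_subgroup (f.subgroupComap K).ker
  have h2 : Nat.card (↥(K.comap f) ⧸ (f.subgroupComap K).ker) = Nat.card K :=
    Nat.card_congr (QuotientGroup.quotientKerEquivOfSurjective _ hs).toEquiv
  have h3 : Nat.card (f.subgroupComap K).ker = Nat.card f.ker := by
    apply Nat.card_congr
    refine ⟨fun x => ⟨x.1.1, ?_⟩, fun y => ⟨⟨y.1, ?_⟩, ?_⟩, ?_, ?_⟩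
    · have := x.2
      rw [MonoidHom.mem_ker] at this ⊢
      exact congrArg Subtype.val this
    · rw [Subgroup.mem_comap, (MonoidHom.mem_ker).mp y.2]
      exact K.one_mem
    · rw [MonoidHom.mem_ker]
      apply Subtype.ext
      exact (MonoidHom.mem_ker).mp y.2
    · intro x; rfl
    · intro y; rfl
  rw [h1, h2, h3, mul_comm]

variable {G : Type*} [Group G] {n : ℕ} (d : Dat G n)

namespace Dat

/-- the distinguished involution of `U` -/
def zz : G := (d.unco (e0 n) : G)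

theorem zz_mem : d.zz ∈ d.U := (d.unco (e0 n)).2

theorem co_zz : d.co ⟨d.zz, d.zz_mem⟩ = e0 n := d.co_unco _

theorem zz_ne_one : d.zz ≠ 1 := by
  intro h
  have h1 : (⟨d.zz, d.zz_mem⟩ : ↥d.U) = 1 := Subtype.ext h
  have h2 := d.co_zz
  rw [h1, co_one] at h2
  exact e0_ne_zero h2.symm

/-- the centralizer of `zz` -/
def Cz : Subgroup G := (St n).comap d.α

/-- the radical of the centralizer -/
def QQ : Subgroup G := (Rs n).comap d.α

/-- the complement -/
def KK : Subgroup G := d.M ⊓ (Ks n).comap d.α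

/-- the part of the radical inside `M` -/
def RR : Subgroup G := d.M ⊓ d.QQ

theorem mem_Cz_iff (g : G) : g ∈ d.Cz ↔ g * d.zz * g⁻¹ = d.zz := by
  show d.α g (e0 n) = e0 n ↔ _
  rw [← d.co_zz, α_co]
  constructor
  · intro h
    exact congrArg Subtype.val (d.co_injective h)
  · intro h
    congr 1
    exact Subtype.ext h

theorem U_le_QQ : d.U ≤ d.QQ := by
  intro u hu
  show d.α u ∈ Rs n
  rw [d.α_of_mem_U hu]
  exact (Rs n).one_mem

theorem QQ_le_Cz : d.QQ ≤ d.Cz := fun _ hg => Rs_le_St hg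

theorem KK_le_Cz : d.KK ≤ d.Cz := fun _ hg => Ks_le_St hg.2

theorem QQ_inf_KK : d.QQ ⊓ d.KK = ⊥ := by
  rw [eq_bot_iff]
  rintro g ⟨hq, hm, hk⟩
  rw [Subgroup.mem_bot]
  apply d.α_inj_M hm
  have : d.α g ∈ Rs n ⊓ Ks n := ⟨hq, hk⟩
  rw [Rs_inf_Ks, Subgroup.mem_bot] at this
  exact this

theorem QQ_sup_KK : d.QQ ⊔ d.KK = d.Cz := by
  apply le_antisymm (sup_le d.QQ_le_Cz d.KK_le_Cz)
  intro g hg
  obtain ⟨ρ, hρ, κ, hκ, h⟩ := St_decomp (show d.α g ∈ St n from hg)
  obtain ⟨k, hkM, hk⟩ := d.α_surj_M κ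
  have hkK : k ∈ d.KK := ⟨hkM, by show d.α k ∈ Ks n; rw [hk]; exact hκ⟩
  have hq : g * k⁻¹ ∈ d.QQ := by
    show d.α (g * k⁻¹) ∈ Rs n
    rw [map_mul, map_inv, hk, h, mul_assoc, mul_inv_cancel, mul_one]
    exact hρ
  have : g = (g * k⁻¹) * k := by group
  rw [this]
  exact Subgroup.mul_mem _ (Subgroup.mem_sup_left hq) (Subgroup.mem_sup_right hkK)

theorem conj_mem_QQ {h x : G} (hh : h ∈ d.Cz) (hx : x ∈ d.QQ) : h * x * h⁻¹ ∈ d.QQ := by
  show d.α (h * x * h⁻¹) ∈ Rs n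
  rw [map_mul, map_mul, map_inv]
  exact Rs_conj hh hx

/-- the complement is the general linear group -/
noncomputable def kkEquiv : ↥d.KK ≃* LW n :=
  (MulEquiv.ofBijective
    ((d.α.subgroupComap (Ks n)).comp (Subgroup.inclusion (inf_le_right : d.KK ≤ (Ks n).comap d.α)))
    ⟨by
      intro x y h
      have h1 : d.α x = d.α y := congrArg Subtype.val h
      exact Subtype.ext (d.α_eq_of_M x.2.1 y.2.1 h1),
     by
      intro κ
      obtain ⟨k, hkM, hk⟩ := d.α_surj_M κ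
      refine ⟨⟨k, hkM, ?_⟩, Subtype.ext hk⟩
      show d.α k ∈ Ks n
      rw [hk]
      exact κ.2⟩).trans (ksEquiv n)

theorem card_U [Finite G] : Nat.card d.U = 2 ^ (n + 1) := by
  have h1 : Nat.card ↥d.U = Nat.card (A n) := Nat.card_congr ⟨d.co, d.unco, d.unco_co, d.co_unco⟩
  rw [h1, Nat.card_prod, card_W, Nat.card_zmod, pow_succ, mul_comm]

theorem card_QQ [Finite G] : Nat.card d.QQ = 2 ^ (2 * n + 1) := by
  show Nat.card ((Rs n).comap d.α) = _
  rw [card_comap_of_surjective d.α d.α_surjective, d.ker_α, d.card_U, card_Rs, ← pow_add]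
  congr 1
  omega

theorem mem_RR_iff {m : G} : m ∈ d.RR ↔ m ∈ d.M ∧ d.α m ∈ Rs n := Iff.rfl

theorem RR_cj {m : G} (hm : m ∈ d.RR) (u : ↥d.U) :
    d.cj m u = u ∨ d.cj m u = u * ⟨d.zz, d.zz_mem⟩ := by
  rcases Rs_apply hm.2 (d.co u) with h | h
  · left
    rw [α_co] at h
    exact d.co_injective h
  · right
    rw [α_co] at h
    apply d.co_injective
    rw [h, co_mul, co_zz]

theorem split : Split d.QQ d.U d.RR d.zz where
  hUQ := d.U_le_QQ
  hRQ := inf_le_right
  hQ := by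
    intro g hg
    obtain ⟨u, hu, m, hm, rfl⟩ := d.decomp g
    refine ⟨u, hu, m, ⟨hm, ?_⟩, rfl⟩
    have h1 : d.α (u * m) ∈ Rs n := hg
    rw [map_mul, d.α_of_mem_U hu, one_mul] at h1
    exact h1
  hUc := fun u hu v hv => d.U_comm hu hv
  hU2 := fun u hu => d.U_sq hu
  hRc := by
    intro a ha b hb
    apply d.α_eq_of_M (d.M.mul_mem ha.1 hb.1) (d.M.mul_mem hb.1 ha.1)
    rw [map_mul, map_mul]
    exact Rs_comm ha.2 hb.2
  hR2 := by
    intro a ha
    apply d.α_inj_M (d.M.mul_mem ha.1 ha.1)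
    rw [map_mul]
    exact Rs_sq ha.2
  hzU := d.zz_mem
  hz1 := d.zz_ne_one
  hzR := by
    intro m hm
    have h1 := (d.mem_Cz_iff m).mp (Rs_le_St hm.2)
    calc m * d.zz = (m * d.zz * m⁻¹) * m := by group
      _ = d.zz * m := by rw [h1]
  hc := by
    intro m hm u hu
    rcases d.RR_cj hm ⟨u, hu⟩ with h | h
    · left
      have h1 : m * u * m⁻¹ = u := congrArg Subtype.val h
      rw [h1, mul_inv_cancel]
    · right
      have h1 : m * u * m⁻¹ = u * d.zz := congrArg Subtype.val h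
      rw [h1, d.U_comm hu d.zz_mem]
      group
  hfa := by
    intro m hm h
    apply d.hfaith m hm.1
    intro u hu
    rw [h u hu, mul_assoc, mul_inv_cancel, mul_one]
  hce := by
    intro u hu h
    obtain ⟨⟨a, w⟩, hx⟩ : ∃ x : A n, d.co ⟨u, hu⟩ = x := ⟨_, rfl⟩
    by_cases hw : w = 0
    · subst hw
      rcases z2_cases a with ha | ha
      · left
        subst ha
        have h1 : (⟨u, hu⟩ : ↥d.U) = 1 := (d.co_eq_zero_iff _).mp hx
        exact congrArg Subtype.val h1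
      · right
        subst ha
        have h1 : (⟨u, hu⟩ : ↥d.U) = ⟨d.zz, d.zz_mem⟩ := by
          apply d.co_injective
          rw [hx, co_zz]
          rfl
        exact congrArg Subtype.val h1
    · exfalso
      obtain ⟨ρ, hρ, hne⟩ := exists_Rs_moving a hw
      obtain ⟨m, hmM, hm⟩ := d.α_surj_M ρ
      have hmR : m ∈ d.RR := ⟨hmM, by show d.α m ∈ Rs n; rw [hm]; exact hρ⟩
      apply hne
      rw [← hx, ← hm, α_co]
      congr 1
      apply Subtype.ext
      show m * u * m⁻¹ = u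
      rw [h m hmR, mul_assoc, mul_inv_cancel, mul_one]

theorem es : ES ↥d.QQ ⟨d.zz, d.U_le_QQ d.zz_mem⟩ := d.split.es

theorem nonabelian (hn : 1 ≤ n) : ∃ a b : ↥d.QQ, ⁅a, b⁆ ≠ 1 := by
  have hw : (Pi.single (⟨0, hn⟩ : Fin n) 1 : W n) ≠ 0 := by
    intro h
    have := congrFun h ⟨0, hn⟩
    simp at this
  obtain ⟨ρ, hρ, hne⟩ := exists_Rs_moving 0 hw
  obtain ⟨m, hmM, hm⟩ := d.α_surj_M ρ
  have hmQ : m ∈ d.QQ := by show d.α m ∈ Rs n; rw [hm]; exact hρ
  set u := d.unco (0, Pi.single (⟨0, hn⟩ : Fin n) 1) with hu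
  refine ⟨⟨m, hmQ⟩, ⟨u, d.U_le_QQ u.2⟩, ?_⟩
  intro h
  rw [commutatorElement_eq_one_iff_mul_comm] at h
  have h1 : m * (u : G) = u * m := congrArg Subtype.val h
  apply hne
  rw [← hm, ← d.co_unco (0, Pi.single (⟨0, hn⟩ : Fin n) 1), α_co]
  congr 1
  apply Subtype.ext
  show m * u * m⁻¹ = u
  rw [h1, mul_assoc, mul_inv_cancel, mul_one]

theorem isExtraspecial [Finite G] (hn : 1 ≤ n) : Cfsg.IsExtraspecial 2 ↥d.QQ :=
  d.es.isExtraspecial (d.nonabelian hn)

theorem isPGroup_QQ : IsPGroup 2 ↥d.QQ := d.es.isPGroup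

end Dat

end Cfsg.Agent.Lib.Helper1.LgEx
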