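import Mathlib
import Cfsg.Agent.Lib.Helper1.LgEx5

set_option autoImplicit false

/-!
# The affine group of `ZMod 2 × (ZMod 2)^n` as a split extension
-/

namespace Cfsg.Agent.Lib.Helper1.LgEx

/-- the affine group `x ↦ D x + t` -/
@[ext]
structure AffG (n : ℕ) where
  t : A n
  D : LA n

namespace AffG

variable {n : ℕ}

instance : Mul (AffG n) := ⟨fun g h => ⟨g.t + g.D h.t, g.D * h.D⟩⟩
instance : One (AffG n) := ⟨⟨0, 1⟩⟩
instance : Inv (AffG n) := ⟨fun g => ⟨-(g.D⁻¹ g.t), g.D⁻¹⟩⟩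

theorem mul_t (g h : AffG n) : (g * h).t = g.t + g.D h.t := rfl
theorem mul_D (g h : AffG n) : (g * h).D = g.D * h.D := rfl
theorem one_t : (1 : AffG n).t = 0 := rfl
theorem one_D : (1 : AffG n).D = 1 := rfl
theorem inv_t (g : AffG n) : (g⁻¹).t = -(g.D⁻¹ g.t) := rfl
theorem inv_D (g : AffG n) : (g⁻¹).D = g.D⁻¹ := rfl

instance : Group (AffG n) where
  mul_assoc a b c := by
    ext1
    · show a.t + a.D b.t + (a.D * b.D) c.t = a.t + a.D (b.t + b.D c.t)
      rw [map_add, add_assoc]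
      rfl
    · exact mul_assoc _ _ _
  one_mul a := by
    ext1
    · show (0 : A n) + (1 : LA n) a.t = a.t
      rw [zero_add]
      rfl
    · exact one_mul _
  mul_one a := by
    ext1
    · show a.t + a.D 0 = a.t
      rw [map_zero, add_zero]
    · exact mul_one _
  inv_mul_cancel a := by
    ext1
    · show -(a.D⁻¹ a.t) + a.D⁻¹ a.t = 0
      exact neg_add_cancel _
    · exact inv_mul_cancel _

/-- the translations -/
def UU (n : ℕ) : Subgroup (AffG n) where
  carrier := {g | g.D = 1}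
  mul_mem' := by
    intro a b ha hb
    show a.D * b.D = 1
    rw [ha, hb, one_mul]
  one_mem' := rfl
  inv_mem' := by
    intro a ha
    show a.D⁻¹ = 1
    rw [ha, inv_one]

/-- the linear maps -/
def MM (n : ℕ) : Subgroup (AffG n) where
  carrier := {g | g.t = 0}
  mul_mem' := by
    intro a b ha hb
    show a.t + a.D b.t = 0
    rw [ha, hb, map_zero, add_zero]
  one_mem' := rfl
  inv_mem' := by
    intro a ha
    show -(a.D⁻¹ a.t) = 0
    rw [ha, map_zero, neg_zero]

theorem mem_UU {g : AffG n} : g ∈ UU n ↔ g.D = 1 := Iff.rfl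
theorem mem_MM {g : AffG n} : g ∈ MM n ↔ g.t = 0 := Iff.rfl

theorem conj_t (g u : AffG n) (hu : u ∈ UU n) : (g * u * g⁻¹).t = g.D u.t := by
  rw [mul_t, mul_t, mul_D, inv_t, mem_UU.mp hu, mul_one]
  have : g.D (-(g.D⁻¹ g.t)) = -g.t := by
    rw [map_neg]
    congr 1
    exact g.D.apply_symm_apply _
  rw [this]
  abel

theorem conj_D (g u : AffG n) (hu : u ∈ UU n) : (g * u * g⁻¹).D = 1 := by
  rw [mul_D, mul_D, inv_D, mem_UU.mp hu, mul_one, mul_inv_cancel]

instance UU_normal : (UU n).Normal := ⟨fun u hu g => conj_D g u hu⟩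

/-- coordinates on the translations -/
def eU (n : ℕ) : Additive ↥(UU n) ≃+ A n where
  toFun u := (Additive.toMul u).1.t
  invFun x := Additive.ofMul ⟨⟨x, 1⟩, rfl⟩
  left_inv u := by
    apply Additive.toMul.injective
    apply Subtype.ext
    ext1
    · rfl
    · exact ((Additive.toMul u).2).symm
  right_inv x := rfl
  map_add' u v := by
    show ((Additive.toMul u).1 * (Additive.toMul v).1).t = _
    rw [mul_t, mem_UU.mp (Additive.toMul u).2]
    rfl

theorem eU_apply (u : ↥(UU n)) : eU n (Additive.ofMul u) = u.1.t := rfl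

/-- an additive automorphism as a linear one -/
def linOfAdd (f : A n ≃+ A n) : LA n where
  toFun := f
  invFun := f.symm
  map_add' := f.map_add
  map_smul' := fun c x => ZMod.map_smul f.toAddMonoidHom c x
  left_inv := f.left_inv
  right_inv := f.right_inv

theorem linOfAdd_apply (f : A n ≃+ A n) (x : A n) : linOfAdd f x = f x := rfl

/-- the affine group as a split extension with coordinates -/
def dat (n : ℕ) : Dat (AffG n) n where
  U := UU n
  M := MM n
  hUn := UU_normal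
  e := eU n
  hUM := by
    rw [eq_bot_iff]
    rintro g ⟨hu, hm⟩
    rw [Subgroup.mem_bot]
    ext1
    · exact hm
    · exact hu
  hUM' := by
    rw [eq_top_iff]
    intro g _
    have : g = ⟨g.t, 1⟩ * ⟨0, g.D⟩ := by
      ext1
      · show g.t = g.t + (1 : LA n) 0
        rw [map_zero, add_zero]
      · show g.D = 1 * g.D
        rw [one_mul]
    rw [this]
    exact Subgroup.mul_mem _ (Subgroup.mem_sup_left (show (⟨g.t, 1⟩ : AffG n) ∈ UU n from rfl))
      (Subgroup.mem_sup_right (show (⟨0, g.D⟩ : AffG n) ∈ MM n from rfl))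
  hfaith := by
    intro m hm h
    ext1
    · exact hm
    · apply LinearEquiv.ext
      intro x
      have h1 := h ⟨x, 1⟩ rfl
      have h2 := congrArg AffG.t h1
      rw [conj_t m ⟨x, 1⟩ rfl] at h2
      exact h2
  hfull := by
    intro φ
    let f : A n ≃+ A n :=
      { toFun := fun x => (φ ⟨⟨x, 1⟩, rfl⟩).1.t
        invFun := fun x => (φ.symm ⟨⟨x, 1⟩, rfl⟩).1.t
        left_inv := by
          intro x
          have : (⟨⟨(φ ⟨⟨x, 1⟩, rfl⟩).1.t, 1⟩, rfl⟩ : ↥(UU n)) = φ ⟨⟨x, 1⟩, rfl⟩ := by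
            apply Subtype.ext
            ext1
            · rfl
            · exact ((φ ⟨⟨x, 1⟩, rfl⟩).2).symm
          show (φ.symm ⟨⟨(φ ⟨⟨x, 1⟩, rfl⟩).1.t, 1⟩, rfl⟩).1.t = x
          rw [this, φ.symm_apply_apply]
        right_inv := by
          intro x
          have : (⟨⟨(φ.symm ⟨⟨x, 1⟩, rfl⟩).1.t, 1⟩, rfl⟩ : ↥(UU n)) = φ.symm ⟨⟨x, 1⟩, rfl⟩ := by
            apply Subtype.ext
            ext1
            · rfl
            · exact ((φ.symm ⟨⟨x, 1⟩, rfl⟩).2).symm
          show (φ ⟨⟨(φ.symm ⟨⟨x, 1⟩, rfl⟩).1.t, 1⟩, rfl⟩).1.t = x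
          rw [this, φ.apply_symm_apply]
        map_add' := by
          intro x y
          have : (⟨⟨x + y, 1⟩, rfl⟩ : ↥(UU n)) = ⟨⟨x, 1⟩, rfl⟩ * ⟨⟨y, 1⟩, rfl⟩ := by
            apply Subtype.ext
            ext1
            · rfl
            · show (1 : LA n) = 1 * 1
              rw [one_mul]
          show (φ ⟨⟨x + y, 1⟩, rfl⟩).1.t = (φ ⟨⟨x, 1⟩, rfl⟩).1.t + (φ ⟨⟨y, 1⟩, rfl⟩).1.t
          rw [this, map_mul]
          show ((φ ⟨⟨x, 1⟩, rfl⟩).1 * (φ ⟨⟨y, 1⟩, rfl⟩).1).t = _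
          rw [mul_t, mem_UU.mp (φ ⟨⟨x, 1⟩, rfl⟩).2]
          rfl }
    refine ⟨⟨0, linOfAdd f⟩, rfl, ?_⟩
    intro u
    ext1
    · rw [conj_t _ _ u.2]
      show (φ u).1.t = f u.1.t
      show (φ u).1.t = (φ ⟨⟨u.1.t, 1⟩, rfl⟩).1.t
      congr 3
      apply Subtype.ext
      ext1
      · rfl
      · exact u.2
    · rw [conj_D _ _ u.2]
      exact (φ u).2

theorem dat_U : (dat n).U = UU n := rfl
theorem dat_M : (dat n).M = MM n := rfl

theorem dat_zz : (dat n).zz = ⟨e0 n, 1⟩ := rfl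

end AffG

end Cfsg.Agent.Lib.Helper1.LgEx
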