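import Mathlib
import Cfsg.Agent.Lib.Helper1.LgEx10

set_option autoImplicit false

/-!
# The affine group inside `GL (ZMod 2 × (ZMod 2 × (ZMod 2)^n))`
-/

namespace Cfsg.Agent.Lib.Helper1.LgEx

abbrev B (n : ℕ) := ZMod 2 × A n
abbrev LB (n : ℕ) := B n ≃ₗ[ZMod 2] B n

variable {n : ℕ}

/-- the affine map as a linear map one dimension up -/
def mkTD (t : A n) (D : LA n) : LB n where
  toFun x := (x.1, D x.2 + x.1 • t)
  invFun x := (x.1, D.symm (x.2 + x.1 • t))
  left_inv x := by
    apply Prod.ext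
    · rfl
    · show D.symm (D x.2 + x.1 • t + x.1 • t) = x.2
      rw [add_assoc, a_add_self, add_zero, D.symm_apply_apply]
  right_inv x := by
    apply Prod.ext
    · rfl
    · show D (D.symm (x.2 + x.1 • t)) + x.1 • t = x.2
      rw [D.apply_symm_apply, add_assoc, a_add_self, add_zero]
  map_add' x y := by
    apply Prod.ext
    · rfl
    · show D (x + y).2 + (x + y).1 • t = (D x.2 + x.1 • t) + (D y.2 + y.1 • t)
      rw [Prod.fst_add, Prod.snd_add, map_add, add_smul]
      abel
  map_smul' c x := by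
    apply Prod.ext
    · rfl
    · show D (c • x).2 + (c • x).1 • t = c • (D x.2 + x.1 • t)
      rw [Prod.smul_fst, Prod.smul_snd, map_smul, smul_add, smul_assoc]

theorem mkTD_apply (t : A n) (D : LA n) (a : ZMod 2) (y : A n) :
    mkTD t D (a, y) = (a, D y + a • t) := rfl

/-- the embedding of the affine group -/
def toLB (n : ℕ) : AffG n →* LB n where
  toFun g := mkTD g.t g.D
  map_one' := by
    apply LinearEquiv.ext
    rintro ⟨a, y⟩
    rw [mkTD_apply, AffG.one_t, smul_zero, add_zero]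
    rfl
  map_mul' g h := by
    apply LinearEquiv.ext
    rintro ⟨a, y⟩
    show mkTD (g * h).t (g * h).D (a, y) = mkTD g.t g.D (mkTD h.t h.D (a, y))
    rw [mkTD_apply, mkTD_apply, mkTD_apply, AffG.mul_t, AffG.mul_D, map_add, map_smul, smul_add]
    apply Prod.ext
    · rfl
    · show g.D (h.D y) + (a • g.t + a • g.D h.t) = g.D (h.D y) + a • g.D h.t + a • g.t
      abel

theorem toLB_apply (g : AffG n) (a : ZMod 2) (y : A n) :
    toLB n g (a, y) = (a, g.D y + a • g.t) := rfl

theorem toLB_injective : Function.Injective (toLB n) := by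
  intro g h hgh
  ext1
  · have h1 := congrArg Prod.snd (LinearEquiv.congr_fun hgh (1, 0))
    rw [toLB_apply, toLB_apply] at h1
    simpa using h1
  · apply LinearEquiv.ext
    intro y
    have h1 := congrArg Prod.snd (LinearEquiv.congr_fun hgh (0, y))
    rw [toLB_apply, toLB_apply] at h1
    simpa using h1

/-- the linear part of an element preserving the first coordinate -/
def dq (g : LB n) : A n →ₗ[ZMod 2] A n :=
  (LinearMap.snd (ZMod 2) (ZMod 2) (A n)) ∘ₗ g.toLinearMap ∘ₗ (LinearMap.inr (ZMod 2) (ZMod 2) (A n))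

theorem dq_apply (g : LB n) (y : A n) : dq g y = (g (0, y)).2 := rfl

theorem aff_apply {g : LB n} (hg : ∀ b, (g b).1 = b.1) (a : ZMod 2) (y : A n) :
    g (a, y) = (a, dq g y + a • (g (1, 0)).2) := by
  have h1 : ((a, y) : B n) = a • ((1, 0) : B n) + (0, y) := by
    apply Prod.ext
    · simp
    · simp
  rw [h1, map_add, map_smul]
  apply Prod.ext
  · show a • (g (1, 0)).1 + (g (0, y)).1 = a
    rw [hg, hg]
    simp
  · show a • (g (1, 0)).2 + (g (0, y)).2 = dq g y + a • (g (1, 0)).2
    rw [dq_apply, add_comm]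

theorem dq_mul {g h : LB n} (hg : ∀ b, (g b).1 = b.1) (hh : ∀ b, (h b).1 = b.1) :
    dq (g * h) = dq g ∘ₗ dq h := by
  apply LinearMap.ext
  intro y
  show ((g * h) (0, y)).2 = dq g (dq h y)
  have h1 : (g * h) (0, y) = g (h (0, y)) := rfl
  rw [h1, aff_apply hh, aff_apply hg, zero_smul, add_zero, zero_smul, add_zero]

theorem dq_one : dq (1 : LB n) = LinearMap.id := by
  apply LinearMap.ext
  intro y
  rfl

theorem inv_aff {g : LB n} (hg : ∀ b, (g b).1 = b.1) : ∀ b, (g⁻¹ b).1 = b.1 := by
  intro b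
  have h1 := hg (g⁻¹ b)
  have h2 : g (g⁻¹ b) = b := g.apply_symm_apply b
  rw [h2] at h1
  exact h1.symm

theorem mem_range_toLB {g : LB n} : g ∈ (toLB n).range ↔ ∀ b, (g b).1 = b.1 := by
  constructor
  · rintro ⟨x, rfl⟩ ⟨a, y⟩
    rfl
  · intro hg
    have hg' := inv_aff hg
    let D : LA n := LinearEquiv.ofLinear (dq g) (dq g⁻¹)
      (by rw [← dq_mul hg hg', mul_inv_cancel, dq_one])
      (by rw [← dq_mul hg' hg, inv_mul_cancel, dq_one])
    refine ⟨⟨(g (1, 0)).2, D⟩, ?_⟩
    apply LinearEquiv.ext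
    rintro ⟨a, y⟩
    rw [toLB_apply]
    exact (aff_apply hg a y).symm

/-- the distinguished transvection -/
def tau (n : ℕ) : LB n := toLB n ⟨e0 n, 1⟩

theorem tau_eq : tau n = toLB n (AffG.dat n).zz := rfl

theorem tau_apply (b : B n) : tau n b = b + (0, b.1 • e0 n) := by
  obtain ⟨a, y⟩ := b
  show toLB n ⟨e0 n, 1⟩ (a, y) = _
  rw [toLB_apply]
  apply Prod.ext
  · show a = a + 0
    rw [add_zero]
  · rfl

theorem mem_range_of_comm {g : LB n} (hg : g * tau n = tau n * g) : g ∈ (toLB n).range := by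
  rw [mem_range_toLB]
  have key : ∀ b : B n, g (0, b.1 • e0 n) = (0, (g b).1 • e0 n) := by
    intro b
    have h1 : (g * tau n) b = (tau n * g) b := by rw [hg]
    have h2 : g (tau n b) = tau n (g b) := h1
    rw [tau_apply, tau_apply, map_add] at h2
    exact add_left_cancel h2
  have h1 := key (1, 0)
  rw [one_smul] at h1
  have hne : g (0, e0 n) ≠ 0 := by
    intro h
    have h2 : ((0, e0 n) : B n) = 0 := by
      have := g.injective (h.trans (map_zero g).symm)
      exact this
    exact e0_ne_zero (congrArg Prod.snd h2)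
  have h10 : (g (1, 0)).1 = 1 := by
    rcases z2_cases (g (1, 0)).1 with h | h
    · exfalso
      apply hne
      rw [h1, h, zero_smul]
      rfl
    · exact h
  have h0y : ∀ y : A n, (g (0, y)).1 = 0 := by
    intro y
    have h2 := key (0, y)
    rw [zero_smul] at h2
    have h3 : g ((0 : ZMod 2), (0 : A n)) = 0 := map_zero g
    rw [h3] at h2
    have h4 := congrArg Prod.snd h2
    have h5 : (0 : A n) = (g (0, y)).1 • e0 n := h4
    rcases z2_cases (g (0, y)).1 with h | h
    · exact h
    · exfalso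
      rw [h, one_smul] at h5
      exact e0_ne_zero h5.symm
  rintro ⟨a, y⟩
  have h2 : ((a, y) : B n) = a • ((1, 0) : B n) + (0, y) := by
    apply Prod.ext
    · simp
    · simp
  rw [h2, map_add, map_smul]
  show a • (g (1, 0)).1 + (g (0, y)).1 = (a • ((1 : ZMod 2), (0 : A n)) + (0, y)).1
  rw [h10, h0y]
  rfl

end Cfsg.Agent.Lib.Helper1.LgEx
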