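import Mathlib
import Cfsg.Agent.Lib.Helper1.LgEx11

set_option autoImplicit false

/-!
# `SL (n+2, 2)` as the general linear group of `ZMod 2 × (ZMod 2 × (ZMod 2)^n)`
-/

namespace Cfsg.Agent.Lib.Helper1.LgEx

open Matrix

/-- over the field with two elements the special and general linear groups coincide -/
noncomputable def slEquivGL (ι : Type*) [Fintype ι] [DecidableEq ι] :
    SpecialLinearGroup ι (ZMod 2) ≃* GL ι (ZMod 2) :=
  MulEquiv.ofBijective SpecialLinearGroup.toGL
    ⟨SpecialLinearGroup.toGL_injective, by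
      intro g
      have h1 : GeneralLinearGroup.det g = 1 := Subsingleton.elim _ _
      have h2 : (g : Matrix ι ι (ZMod 2)).det = 1 := by
        have := congrArg Units.val h1
        simpa using this
      refine ⟨⟨g, h2⟩, ?_⟩
      apply Units.ext
      rfl⟩

theorem slEquivGL_coe (ι : Type*) [Fintype ι] [DecidableEq ι] (m : SpecialLinearGroup ι (ZMod 2)) :
    ((slEquivGL ι m : GL ι (ZMod 2)) : Matrix ι ι (ZMod 2)) = (m : Matrix ι ι (ZMod 2)) := rfl

variable {n : ℕ}

/-- coordinates: the second coordinate first -/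
def cB (n : ℕ) : (Fin (n + 2) → ZMod 2) ≃ₗ[ZMod 2] B n where
  toFun x := (x (Fin.succ 0), (x 0, fun i => x i.succ.succ))
  invFun b := Fin.cons b.2.1 (Fin.cons b.1 b.2.2)
  map_add' x y := rfl
  map_smul' c x := rfl
  left_inv x := by
    funext i
    refine Fin.cases ?_ (fun j => ?_) i
    · rfl
    · refine Fin.cases ?_ (fun k => ?_) j
      · rfl
      · rfl
  right_inv b := rfl

theorem cB_apply (x : Fin (n + 2) → ZMod 2) :
    cB n x = (x 1, (x 0, fun i => x i.succ.succ)) := rfl

/-- the isomorphism -/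
noncomputable def Phi (n : ℕ) : SpecialLinearGroup (Fin (n + 2)) (ZMod 2) ≃* LB n :=
  (slEquivGL (Fin (n + 2))).trans
    (GeneralLinearGroup.toLin.trans
      ((LinearMap.GeneralLinearGroup.congrLinearEquiv (cB n)).trans
        (LinearMap.GeneralLinearGroup.generalLinearEquiv (ZMod 2) (B n))))

theorem Phi_apply (m : SpecialLinearGroup (Fin (n + 2)) (ZMod 2)) (b : B n) :
    Phi n m b = cB n ((m : Matrix (Fin (n + 2)) (Fin (n + 2)) (ZMod 2)) *ᵥ (cB n).symm b) := rfl

theorem transvection_mulVec (x : Fin (n + 2) → ZMod 2) :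
    (Matrix.transvection 0 1 1 : Matrix (Fin (n + 2)) (Fin (n + 2)) (ZMod 2)) *ᵥ x =
      x + Pi.single 0 (x 1) := by
  rw [Matrix.transvection, Matrix.add_mulVec, Matrix.one_mulVec, Matrix.single_mulVec, one_mul]
  rfl

theorem Phi_transvection (z : SpecialLinearGroup (Fin (n + 2)) (ZMod 2))
    (hz : (z : Matrix (Fin (n + 2)) (Fin (n + 2)) (ZMod 2)) = Matrix.transvection 0 1 1) :
    Phi n z = tau n := by
  apply LinearEquiv.ext
  intro b
  rw [Phi_apply, hz, transvection_mulVec, tau_apply, map_add, LinearEquiv.apply_symm_apply]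
  congr 1
  obtain ⟨a, c, w⟩ := b
  rw [cB_apply]
  have h1 : (cB n).symm (a, c, w) 1 = a := rfl
  rw [h1]
  apply Prod.ext
  · show (Pi.single (0 : Fin (n + 2)) a : Fin (n + 2) → ZMod 2) 1 = 0
    rw [Pi.single_apply]
    simp
  · apply Prod.ext
    · show (Pi.single (0 : Fin (n + 2)) a : Fin (n + 2) → ZMod 2) 0 = (a • e0 n).1
      rw [Pi.single_eq_same]
      show a = a * 1
      rw [mul_one]
    · funext i
      show (Pi.single (0 : Fin (n + 2)) a : Fin (n + 2) → ZMod 2) i.succ.succ = (a • e0 n).2 i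
      rw [Pi.single_apply, if_neg (Fin.succ_ne_zero _)]
      show (0 : ZMod 2) = a * 0
      rw [mul_zero]

end Cfsg.Agent.Lib.Helper1.LgEx
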