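import Mathlib
import Cfsg.Prelude.Def_MonsterType
import Cfsg.Agent.Lib.Helper1.LgEx5
import Cfsg.Agent.Lib.Helper9.LargeExtra13

set_option autoImplicit false

/-!
# The radical of the centralizer of a translation in `AGL(n+1, 2)` is large extraspecial
-/

namespace Cfsg.Agent.Lib.Helper1.LgEx

open scoped commutatorElement
open Cfsg.Agent.Lib.Lead.Extra
open Cfsg.Agent.Lib.Helper9.LargeExtra

variable {G : Type*} [Group G] {n : ℕ} (d : Dat G n)

namespace Dat

theorem pCore_eq [Finite G] : (Cfsg.pCore 2 ↥d.Cz).map d.Cz.subtype = d.QQ := by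
  haveI : Fact (Nat.Prime 2) := ⟨Nat.prime_two⟩
  apply le_antisymm
  · have hNC : (Cfsg.pCore 2 ↥d.Cz).map d.Cz.subtype ≤ d.Cz := pCoreMap_le 2 _
    have hN2 : IsPGroup 2 ((Cfsg.pCore 2 ↥d.Cz).map d.Cz.subtype) := pCoreMap_isPGroup 2 _
    have hNn : ∀ h ∈ d.Cz, ∀ x ∈ (Cfsg.pCore 2 ↥d.Cz).map d.Cz.subtype,
        h * x * h⁻¹ ∈ (Cfsg.pCore 2 ↥d.Cz).map d.Cz.subtype :=
      fun h hh x hx => pCoreMap_conj_mem 2 _ hh hx
    have hle : ((Cfsg.pCore 2 ↥d.Cz).map d.Cz.subtype).map d.α ≤ Rs n := by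
      apply le_Rs_of_normal_two
      · rintro _ ⟨x, hx, rfl⟩
        exact hNC hx
      · rintro σ hσ _ ⟨x, hx, rfl⟩
        obtain ⟨g, rfl⟩ := d.α_surjective σ
        refine ⟨g * x * g⁻¹, hNn g hσ x hx, ?_⟩
        rw [map_mul, map_mul, map_inv]
      · exact hN2.map _
    intro x hx
    exact hle (Subgroup.mem_map_of_mem _ hx)
  · apply le_pCoreMap 2 _ _ d.QQ_le_Cz d.isPGroup_QQ
    intro h hh x hx
    exact d.conj_mem_QQ hh hx

theorem mem_center_map (x : G) :
    x ∈ (Subgroup.center ↥d.QQ).map d.QQ.subtype ↔ x = 1 ∨ x = d.zz := by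
  constructor
  · rintro ⟨w, hw, rfl⟩
    rcases d.es.cen w hw with h | h
    · left
      rw [h]
      rfl
    · right
      rw [h]
      rfl
  · rintro (rfl | rfl)
    · exact Subgroup.one_mem _
    · exact ⟨⟨d.zz, d.U_le_QQ d.zz_mem⟩, d.es.z_mem, rfl⟩

theorem centralizer_QQ :
    Subgroup.centralizer (d.QQ : Set G) = (Subgroup.center ↥d.QQ).map d.QQ.subtype := by
  apply le_antisymm
  · intro g hg
    rw [Subgroup.mem_centralizer_iff] at hg
    have h1 : d.α g = 1 := by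
      rw [α_eq_one_iff]
      intro u hu
      rw [← hg u (d.U_le_QQ hu), mul_assoc, mul_inv_cancel, mul_one]
    have hgU : g ∈ d.U := by
      rw [← d.ker_α]
      exact h1
    refine ⟨⟨g, d.U_le_QQ hgU⟩, ?_, rfl⟩
    rw [SetLike.mem_coe, Subgroup.mem_center_iff]
    intro q
    exact Subtype.ext (hg q q.2)
  · rintro _ ⟨w, hw, rfl⟩
    rw [Subgroup.mem_centralizer_iff]
    intro q hq
    rw [SetLike.mem_coe, Subgroup.mem_center_iff] at hw
    exact congrArg Subtype.val (hw ⟨q, hq⟩)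

theorem centralizer_center_eq :
    Subgroup.centralizer (((Subgroup.center ↥d.QQ).map d.QQ.subtype : Subgroup G) : Set G) = d.Cz := by
  ext g
  rw [Subgroup.mem_centralizer_iff, mem_Cz_iff]
  constructor
  · intro h
    have h1 := h d.zz ((d.mem_center_map d.zz).mpr (Or.inr rfl))
    rw [← h1, mul_assoc, mul_inv_cancel, mul_one]
  · intro h x hx
    rcases (d.mem_center_map x).mp hx with rfl | rfl
    · rw [one_mul, mul_one]
    · calc d.zz * g = (g * d.zz * g⁻¹) * g := by rw [h]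
        _ = g * d.zz := by group

theorem Cz_le_normalizer : d.Cz ≤ Subgroup.normalizer (d.QQ : Set G) := by
  intro g hg
  rw [Subgroup.mem_normalizer_iff]
  intro x
  constructor
  · intro hx
    exact d.conj_mem_QQ hg hx
  · intro hx
    have h1 := d.conj_mem_QQ (d.Cz.inv_mem hg) hx
    have h2 : g⁻¹ * (g * x * g⁻¹) * g⁻¹⁻¹ = x := by group
    rw [h2] at h1
    exact h1

theorem odd_trivial [Finite G] (K : Subgroup G) (hodd : Odd (Nat.card K))
    (hQK : d.QQ ≤ Subgroup.normalizer (K : Set G)) : K = ⊥ := by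
  have hKU : ∀ x ∈ K, x ∈ d.U → x = 1 := by
    intro x hxK hxU
    have h1 : x ^ 2 = 1 := by rw [pow_two]; exact d.U_sq hxU
    have h2 : orderOf x ∣ 2 := orderOf_dvd_of_pow_eq_one h1
    have h3 : orderOf x ∣ Nat.card K := by
      have := orderOf_dvd_natCard (⟨x, hxK⟩ : ↥K)
      rwa [Subgroup.orderOf_mk] at this
    have h4 : orderOf x = 1 := by
      rcases (Nat.dvd_prime Nat.prime_two).mp h2 with h | h
      · exact h
      · exfalso
        rw [h] at h3
        exact (Nat.not_even_iff_odd.mpr hodd) (even_iff_two_dvd.mpr h3)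
    exact orderOf_eq_one_iff.mp h4
  rw [eq_bot_iff]
  intro k hk
  rw [Subgroup.mem_bot]
  have hcent : ∀ u ∈ d.U, k * u * k⁻¹ = u := by
    intro u hu
    have hn := hQK (d.U_le_QQ hu)
    rw [Subgroup.mem_normalizer_iff] at hn
    have h1 : u * k⁻¹ * u⁻¹ ∈ K := (hn k⁻¹).mp (K.inv_mem hk)
    have h2 : k * (u * k⁻¹ * u⁻¹) ∈ K := K.mul_mem hk h1
    have h3 : k * (u * k⁻¹ * u⁻¹) ∈ d.U := by
      have h4 : k * u * k⁻¹ ∈ d.U := d.hUn.conj_mem u hu k
      have h5 : k * (u * k⁻¹ * u⁻¹) = (k * u * k⁻¹) * u⁻¹ := by group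
      rw [h5]
      exact d.U.mul_mem h4 (d.U.inv_mem hu)
    have h6 := hKU _ h2 h3
    have h7 : k * u * k⁻¹ = (k * (u * k⁻¹ * u⁻¹)) * u := by group
    rw [h7, h6, one_mul]
  have hkU : k ∈ d.U := by
    rw [← d.ker_α]
    exact (d.α_eq_one_iff k).mpr hcent
  exact hKU k hk hkU

theorem isLarge [Finite G] (hn : 1 ≤ n) : Cfsg.IsLargeExtraspecial d.QQ := by
  refine ⟨d.isExtraspecial hn, d.centralizer_QQ, ?_, ?_⟩
  · rw [d.centralizer_center_eq]
    exact d.Cz_le_normalizer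
  · intro K hodd hQK
    exact d.odd_trivial K hodd hQK

theorem elemAb_U : Cfsg.IsElementaryAbelian 2 d.U := by
  refine ⟨⟨⟨fun a b => Subtype.ext (d.U_comm a.2 b.2)⟩⟩, ?_⟩
  intro a ha
  rw [pow_two]
  exact d.U_sq ha

end Dat

end Cfsg.Agent.Lib.Helper1.LgEx
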