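import Mathlib
import Cfsg.Prelude.Def_MonsterType
import Cfsg.Agent.Lib.Helper1.LgEx6
import Cfsg.Agent.Lib.Helper9.ExtraTransport
import Cfsg.Agent.S5422

set_option autoImplicit false

/-!
# Transporting the affine-group analysis along an injective homomorphism whose image contains the
centralizer of the involution
-/

namespace Cfsg.Agent.Lib.Helper1.LgEx

open Cfsg.Agent.Lib.Helper9.LargeExtra

section pcore

variable {G P : Type*} [Group G] [Group P]

theorem pCoreMap_map_injective [Finite G] [Finite P] (p : ℕ) [Fact p.Prime] (ι : P →* G)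
    (hι : Function.Injective ι) (H : Subgroup P) :
    (Cfsg.pCore p ↥(H.map ι)).map (H.map ι).subtype =
      ((Cfsg.pCore p ↥H).map H.subtype).map ι := by
  apply le_antisymm
  · have hle : ((Cfsg.pCore p ↥(H.map ι)).map (H.map ι).subtype).comap ι ≤
        (Cfsg.pCore p ↥H).map H.subtype := by
      apply le_pCoreMap
      · intro x hx
        have h1 : ι x ∈ H.map ι := pCoreMap_le p _ hx
        obtain ⟨y, hy, hxy⟩ := h1
        rw [← hι hxy]
        exact hy
      · exact (pCoreMap_isPGroup p (H.map ι)).comap_of_injective ι hι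
      · intro h hh x hx
        rw [Subgroup.mem_comap] at hx ⊢
        rw [map_mul, map_mul, map_inv]
        exact pCoreMap_conj_mem p _ (Subgroup.mem_map_of_mem ι hh) hx
    intro g hg
    have h1 : g ∈ H.map ι := pCoreMap_le p _ hg
    obtain ⟨y, _, rfl⟩ := h1
    exact Subgroup.mem_map_of_mem ι (hle hg)
  · apply le_pCoreMap
    · exact Subgroup.map_mono (pCoreMap_le p H)
    · exact (pCoreMap_isPGroup p H).map ι
    · rintro _ ⟨h, hh, rfl⟩ _ ⟨x, hx, rfl⟩
      refine ⟨h * x * h⁻¹, pCoreMap_conj_mem p H hh hx, ?_⟩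
      rw [map_mul, map_mul, map_inv]

theorem centralizer_eq_center_map (Q : Subgroup G) (h : Subgroup.centralizer (Q : Set G) ≤ Q) :
    Subgroup.centralizer (Q : Set G) = (Subgroup.center ↥Q).map Q.subtype := by
  apply le_antisymm
  · intro g hg
    refine ⟨⟨g, h hg⟩, ?_, rfl⟩
    rw [SetLike.mem_coe, Subgroup.mem_center_iff]
    intro q
    rw [Subgroup.mem_centralizer_iff] at hg
    exact Subtype.ext (hg q q.2)
  · rintro _ ⟨w, hw, rfl⟩
    rw [Subgroup.mem_centralizer_iff]
    intro q hq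
    rw [SetLike.mem_coe, Subgroup.mem_center_iff] at hw
    exact congrArg Subtype.val (hw ⟨q, hq⟩)

theorem mem_center_map_iff (Q : Subgroup G) (x : G) :
    x ∈ (Subgroup.center ↥Q).map Q.subtype ↔ x ∈ Q ∧ ∀ q ∈ Q, q * x = x * q := by
  constructor
  · rintro ⟨w, hw, rfl⟩
    refine ⟨w.2, ?_⟩
    intro q hq
    rw [SetLike.mem_coe, Subgroup.mem_center_iff] at hw
    exact congrArg Subtype.val (hw ⟨q, hq⟩)
  · rintro ⟨hx, hc⟩
    refine ⟨⟨x, hx⟩, ?_, rfl⟩
    rw [SetLike.mem_coe, Subgroup.mem_center_iff]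
    intro q
    exact Subtype.ext (hc q q.2)

end pcore

section la

/-- an automorphism moving `e0` -/
def shear (n : ℕ) (s : W n) : LA n where
  toFun x := (x.1, x.2 + x.1 • s)
  invFun x := (x.1, x.2 + x.1 • s)
  left_inv x := by
    ext
    · rfl
    · show (x.2 + x.1 • s + x.1 • s) _ = x.2 _
      rw [add_assoc, w_add_self, add_zero]
  right_inv x := by
    ext
    · rfl
    · show (x.2 + x.1 • s + x.1 • s) _ = x.2 _
      rw [add_assoc, w_add_self, add_zero]
  map_add' x y := by
    ext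
    · rfl
    · show ((x + y).2 + (x + y).1 • s) _ = ((x.2 + x.1 • s) + (y.2 + y.1 • s)) _
      rw [Prod.fst_add, Prod.snd_add, add_smul]
      have : x.2 + y.2 + (x.1 • s + y.1 • s) = x.2 + x.1 • s + (y.2 + y.1 • s) := by abel
      rw [this]
  map_smul' c x := by
    ext
    · rfl
    · show ((c • x).2 + (c • x).1 • s) _ = (c • (x.2 + x.1 • s)) _
      rw [Prod.smul_fst, Prod.smul_snd, smul_add, smul_assoc]

theorem shear_e0 (n : ℕ) (s : W n) : shear n s (e0 n) = (1, s) := by
  show ((1 : ZMod 2), (0 : W n) + (1 : ZMod 2) • s) = (1, s)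
  rw [one_smul, zero_add]

end la

namespace Dat

variable {P : Type*} [Group P] {n : ℕ} (d : Dat P n)

theorem exists_conj_ne (hn : 1 ≤ n) : ∃ m ∈ d.M, m * d.zz * m⁻¹ ≠ d.zz := by
  obtain ⟨m, hm, hα⟩ := d.α_surj_M (shear n (Pi.single ⟨0, hn⟩ 1))
  refine ⟨m, hm, ?_⟩
  intro h
  have h1 : m ∈ d.Cz := (d.mem_Cz_iff m).mpr h
  have h2 : d.α m (e0 n) = e0 n := h1
  rw [hα, shear_e0] at h2
  have h3 := congrArg Prod.snd h2
  have h4 := congrFun h3 ⟨0, hn⟩
  simp [e0] at h4

end Dat

end Cfsg.Agent.Lib.Helper1.LgEx
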