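import Mathlib
import Cfsg.Prelude.Def_MonsterType
import Cfsg.Agent.Lib.Helper1.LgEx8

set_option autoImplicit false

/-!
# The main transport theorem
-/

namespace Cfsg.Agent.Lib.Helper1.LgEx

open Cfsg.Agent.Lib.Helper9.LargeExtra

variable {G P : Type*} [Group G] [Group P]

theorem centralizer_eq_map (ι : P →* G) (hι : Function.Injective ι) {n : ℕ} (d : Dat P n) (z : G)
    (hz : ι d.zz = z) (hC : ∀ g : G, g * z = z * g → g ∈ ι.range) :
    Subgroup.centralizer ({z} : Set G) = d.Cz.map ι := by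
  ext g
  rw [mem_centralizer_singleton]
  constructor
  · intro hg
    obtain ⟨p, rfl⟩ := hC g hg
    refine ⟨p, ?_, rfl⟩
    rw [SetLike.mem_coe, Dat.mem_Cz_iff]
    apply hι
    rw [map_mul, map_mul, map_inv, hz, hg, mul_assoc, mul_inv_cancel, mul_one]
  · rintro ⟨p, hp, rfl⟩
    rw [SetLike.mem_coe, Dat.mem_Cz_iff] at hp
    have h1 := congrArg ι hp
    rw [map_mul, map_mul, map_inv, hz] at h1
    calc ι p * z = (ι p * z * (ι p)⁻¹) * ι p := by group
      _ = z * ι p := by rw [h1]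

theorem main_hom [Finite G] (ι : P →* G) (hι : Function.Injective ι) {n : ℕ} (hn : 2 ≤ n)
    (d : Dat P n) (z : G) (hz : ι d.zz = z) (hC : ∀ g : G, g * z = z * g → g ∈ ι.range)
    (Q : Subgroup G)
    (hQ : Q = (Cfsg.pCore 2 ↥(Subgroup.centralizer ({z} : Set G))).map
      (Subgroup.centralizer ({z} : Set G)).subtype) :
    Cfsg.IsExtraspecial 2 ↥Q ∧ Nat.card ↥Q = 2 ^ (2 * n + 1) ∧
      (∃ E : Subgroup G, E ≤ Q ∧ Cfsg.IsElementaryAbelian 2 E ∧ Nat.card ↥E = 2 ^ (n + 1)) ∧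
      Cfsg.IsLargeExtraspecial Q ∧
      ∃ K : Subgroup G, K ≤ Subgroup.centralizer ({z} : Set G) ∧ Q ⊓ K = ⊥ ∧
        Q ⊔ K = Subgroup.centralizer ({z} : Set G) ∧ Nonempty (↥K ≃* LW n) := by
  haveI : Fact (Nat.Prime 2) := ⟨Nat.prime_two⟩
  haveI : Finite P := Finite.of_injective ι hι
  have hCeq := centralizer_eq_map ι hι d z hz hC
  rw [hCeq] at hQ ⊢
  rw [pCoreMap_map_injective 2 ι hι, d.pCore_eq] at hQ
  subst hQ
  have hn1 : 1 ≤ n := by omega
  have hES : Cfsg.IsExtraspecial 2 ↥(d.QQ.map ι) :=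
    Cfsg.Agent.Lib.Helper9.isExtraspecial_of_mulEquiv (Subgroup.equivMapOfInjective d.QQ ι hι)
      (d.isExtraspecial hn1)
  have hcard : Nat.card ↥(d.QQ.map ι) = 2 ^ (2 * n + 1) := by
    rw [Subgroup.card_map_of_injective hι, d.card_QQ]
  have hzQ : z ∈ d.QQ.map ι := ⟨d.zz, d.U_le_QQ d.zz_mem, hz⟩
  -- the centralizer of `Q`
  have hcentle : Subgroup.centralizer ((d.QQ.map ι : Subgroup G) : Set G) ≤ d.QQ.map ι := by
    intro g hg
    rw [Subgroup.mem_centralizer_iff] at hg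
    obtain ⟨p, rfl⟩ := hC g (hg z hzQ).symm
    have hp : p ∈ Subgroup.centralizer (d.QQ : Set P) := by
      rw [Subgroup.mem_centralizer_iff]
      intro q hq
      apply hι
      rw [map_mul, map_mul]
      exact hg (ι q) (Subgroup.mem_map_of_mem ι hq)
    rw [d.centralizer_QQ] at hp
    obtain ⟨w, _, rfl⟩ := hp
    exact Subgroup.mem_map_of_mem ι w.2
  have hL2 := centralizer_eq_center_map _ hcentle
  -- the centre of `Q`
  have hcen : ∀ x, x ∈ (Subgroup.center ↥(d.QQ.map ι)).map (d.QQ.map ι).subtype ↔ x = 1 ∨ x = z := by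
    intro x
    rw [mem_center_map_iff]
    constructor
    · rintro ⟨⟨p, hp, rfl⟩, hc⟩
      have h1 : p ∈ (Subgroup.center ↥d.QQ).map d.QQ.subtype := by
        rw [mem_center_map_iff]
        refine ⟨hp, ?_⟩
        intro q hq
        apply hι
        rw [map_mul, map_mul]
        exact hc (ι q) (Subgroup.mem_map_of_mem ι hq)
      rcases (d.mem_center_map p).mp h1 with rfl | rfl
      · left; exact map_one ι
      · right; exact hz
    · rintro (h | h)
      · rw [h]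
        exact ⟨Subgroup.one_mem _, fun q _ => by rw [mul_one, one_mul]⟩
      · rw [h]
        refine ⟨hzQ, ?_⟩
        rintro _ ⟨q, hq, rfl⟩
        rw [← hz, ← map_mul, ← map_mul]
        congr 1
        have h2 := ((d.mem_Cz_iff q).mp (d.QQ_le_Cz hq))
        calc q * d.zz = (q * d.zz * q⁻¹) * q := by group
          _ = d.zz * q := by rw [h2]
  have hL3 : Subgroup.centralizer
      (((Subgroup.center ↥(d.QQ.map ι)).map (d.QQ.map ι).subtype : Subgroup G) : Set G) ≤
      Subgroup.normalizer ((d.QQ.map ι : Subgroup G) : Set G) := by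
    intro g hg
    rw [Subgroup.mem_centralizer_iff] at hg
    have h1 := hg z ((hcen z).mpr (Or.inr rfl))
    obtain ⟨p, rfl⟩ := hC g h1.symm
    have hp : p ∈ d.Cz := by
      rw [Dat.mem_Cz_iff]
      apply hι
      rw [map_mul, map_mul, map_inv, hz, ← h1, mul_assoc, mul_inv_cancel, mul_one]
    have hp' := d.Cz_le_normalizer hp
    rw [Subgroup.mem_normalizer_iff] at hp' ⊢
    intro x
    constructor
    · rintro ⟨q, hq, rfl⟩
      refine ⟨p * q * p⁻¹, (hp' q).mp hq, ?_⟩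
      rw [map_mul, map_mul, map_inv]
    · rintro ⟨q, hq, hqx⟩
      have h2 : x = ι (p⁻¹ * q * p) := by
        rw [map_mul, map_mul, map_inv, hqx]
        group
      rw [h2]
      refine Subgroup.mem_map_of_mem ι ?_
      rw [hp' (p⁻¹ * q * p)]
      have h3 : p * (p⁻¹ * q * p) * p⁻¹ = q := by group
      rw [h3]
      exact hq
  -- a conjugating element
  obtain ⟨m, _, hmne⟩ := d.exists_conj_ne hn1
  have hmU : m * d.zz * m⁻¹ ∈ d.U := d.hUn.conj_mem _ d.zz_mem m
  have hg : ι m ∉ Subgroup.normalizer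
      (((Subgroup.center ↥(d.QQ.map ι)).map (d.QQ.map ι).subtype : Subgroup G) : Set G) := by
    intro h
    rw [Subgroup.mem_normalizer_iff] at h
    have h1 := (h z).mp ((hcen z).mpr (Or.inr rfl))
    rcases (hcen _).mp h1 with h2 | h2
    · rw [← hz, ← map_inv, ← map_mul, ← map_mul] at h2
      have h3 : m * d.zz * m⁻¹ = 1 := hι (h2.trans (map_one ι).symm)
      apply d.zz_ne_one
      calc d.zz = m⁻¹ * (m * d.zz * m⁻¹) * m := by group
        _ = 1 := by rw [h3]; group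
    · rw [← hz, ← map_inv, ← map_mul, ← map_mul] at h2
      exact hmne (hι h2)
  have hZg : ((Subgroup.center ↥(d.QQ.map ι)).map (d.QQ.map ι).subtype).map
      (MulAut.conj (ι m)).toMonoidHom ≤ d.QQ.map ι := by
    rintro _ ⟨x, hx, rfl⟩
    rcases (hcen x).mp hx with h | h
    · rw [h, map_one]
      exact Subgroup.one_mem _
    · rw [h]
      show ι m * z * (ι m)⁻¹ ∈ d.QQ.map ι
      rw [← hz, ← map_inv, ← map_mul, ← map_mul]
      exact Subgroup.mem_map_of_mem ι (d.U_le_QQ hmU)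
  have hlarge := (Cfsg.Agent.S5422.result (d.QQ.map ι) hES hL2 hL3 n hn hcard (ι m) hg hZg).2.2
  refine ⟨hES, hcard, ⟨d.U.map ι, Subgroup.map_mono d.U_le_QQ, ?_, ?_⟩, hlarge,
    ⟨d.KK.map ι, Subgroup.map_mono d.KK_le_Cz, ?_, ?_,
      ⟨(Subgroup.equivMapOfInjective d.KK ι hι).symm.trans d.kkEquiv⟩⟩⟩
  · refine ⟨⟨⟨?_⟩⟩, ?_⟩
    · rintro ⟨_, a, ha, rfl⟩ ⟨_, b, hb, rfl⟩
      apply Subtype.ext
      show ι a * ι b = ι b * ι a
      rw [← map_mul, ← map_mul, d.U_comm ha hb]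
    · rintro _ ⟨a, ha, rfl⟩
      rw [← map_pow, pow_two, d.U_sq ha, map_one]
  · rw [Subgroup.card_map_of_injective hι, d.card_U]
  · rw [← Subgroup.map_inf _ _ ι hι, d.QQ_inf_KK, Subgroup.map_bot]
  · rw [← Subgroup.map_sup, d.QQ_sup_KK]

end Cfsg.Agent.Lib.Helper1.LgEx
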