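import Mathlib
import Cfsg.Prelude.Def_MonsterType
import Cfsg.Agent.Lib.Helper1.LgEx9
import Cfsg.Agent.Lib.Helper1.LgEx12

set_option autoImplicit false

/-!
# The centralizer of a transvection in `SL (n+2, 2)`
-/

namespace Cfsg.Agent.Lib.Helper1.LgEx

open Matrix

variable {n : ℕ}

/-- the affine group inside the special linear group -/
noncomputable def affToSL (n : ℕ) : AffG n →* SpecialLinearGroup (Fin (n + 2)) (ZMod 2) :=
  (Phi n).symm.toMonoidHom.comp (toLB n)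

theorem affToSL_injective : Function.Injective (affToSL n) :=
  (Phi n).symm.injective.comp toLB_injective

theorem affToSL_zz (z : SpecialLinearGroup (Fin (n + 2)) (ZMod 2))
    (hz : (z : Matrix (Fin (n + 2)) (Fin (n + 2)) (ZMod 2)) = Matrix.transvection 0 1 1) :
    affToSL n (AffG.dat n).zz = z := by
  show (Phi n).symm (toLB n (AffG.dat n).zz) = z
  rw [← tau_eq, ← Phi_transvection z hz, MulEquiv.symm_apply_apply]

theorem mem_range_affToSL (z : SpecialLinearGroup (Fin (n + 2)) (ZMod 2))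
    (hz : (z : Matrix (Fin (n + 2)) (Fin (n + 2)) (ZMod 2)) = Matrix.transvection 0 1 1)
    (g : SpecialLinearGroup (Fin (n + 2)) (ZMod 2)) (hg : g * z = z * g) :
    g ∈ (affToSL n).range := by
  have h1 : Phi n g * tau n = tau n * Phi n g := by
    rw [← Phi_transvection z hz, ← map_mul, ← map_mul, hg]
  obtain ⟨x, hx⟩ := mem_range_of_comm h1
  refine ⟨x, ?_⟩
  show (Phi n).symm (toLB n x) = g
  rw [hx, MulEquiv.symm_apply_apply]

theorem main_SL (hn : 2 ≤ n) (z : SpecialLinearGroup (Fin (n + 2)) (ZMod 2))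
    (hz : (z : Matrix (Fin (n + 2)) (Fin (n + 2)) (ZMod 2)) = Matrix.transvection 0 1 1)
    (Q : Subgroup (SpecialLinearGroup (Fin (n + 2)) (ZMod 2)))
    (hQ : Q = (Cfsg.pCore 2 ↥(Subgroup.centralizer
      ({z} : Set (SpecialLinearGroup (Fin (n + 2)) (ZMod 2))))).map
      (Subgroup.centralizer ({z} : Set (SpecialLinearGroup (Fin (n + 2)) (ZMod 2)))).subtype) :
    Cfsg.IsExtraspecial 2 ↥Q ∧ Nat.card ↥Q = 2 ^ (2 * n + 1) ∧
      (∃ E : Subgroup (SpecialLinearGroup (Fin (n + 2)) (ZMod 2)), E ≤ Q ∧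
        Cfsg.IsElementaryAbelian 2 E ∧ Nat.card ↥E = 2 ^ (n + 1)) ∧
      Cfsg.IsLargeExtraspecial Q ∧
      ∃ K : Subgroup (SpecialLinearGroup (Fin (n + 2)) (ZMod 2)),
        K ≤ Subgroup.centralizer ({z} : Set (SpecialLinearGroup (Fin (n + 2)) (ZMod 2))) ∧
        Q ⊓ K = ⊥ ∧
        Q ⊔ K = Subgroup.centralizer ({z} : Set (SpecialLinearGroup (Fin (n + 2)) (ZMod 2))) ∧
        Nonempty (↥K ≃* SpecialLinearGroup (Fin n) (ZMod 2)) := by
  obtain ⟨h1, h2, h3, h4, K, hK1, hK2, hK3, ⟨eK⟩⟩ :=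
    main_hom (affToSL n) affToSL_injective hn (AffG.dat n) z (affToSL_zz z hz)
      (mem_range_affToSL z hz) Q hQ
  exact ⟨h1, h2, h3, h4, K, hK1, hK2, hK3,
    ⟨eK.trans ((lwEquivGL n).trans (slEquivGL (Fin n)).symm)⟩⟩

end Cfsg.Agent.Lib.Helper1.LgEx
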