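import Mathlib
import Cfsg.Agent.Lib.Helper1.LgEx10

set_option autoImplicit false

/-!
# Normal 2-subgroups of the affine group and conjugacy of translations
-/

namespace Cfsg.Agent.Lib.Helper1.LgEx

variable {n : ℕ}

/-- `ZMod 2 × (ZMod 2)^n` is `(ZMod 2)^(n+1)` -/
def aw (n : ℕ) : A n ≃ₗ[ZMod 2] W (n + 1) := Fin.consLinearEquiv (ZMod 2) (fun _ : Fin (n + 1) => ZMod 2)

/-- conjugation by `aw` -/
def laEquivLW (n : ℕ) : LA n ≃* LW (n + 1) where
  toFun f := (aw n).symm.trans (f.trans (aw n))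
  invFun f := (aw n).trans (f.trans (aw n).symm)
  left_inv f := by
    apply LinearEquiv.ext
    intro x
    show (aw n).symm ((aw n) (f ((aw n).symm ((aw n) x)))) = f x
    rw [LinearEquiv.symm_apply_apply, LinearEquiv.symm_apply_apply]
  right_inv f := by
    apply LinearEquiv.ext
    intro x
    show (aw n) ((aw n).symm (f ((aw n) ((aw n).symm x)))) = f x
    rw [LinearEquiv.apply_symm_apply, LinearEquiv.apply_symm_apply]
  map_mul' f g := by
    apply LinearEquiv.ext
    intro x
    show (aw n) (f (g ((aw n).symm x))) = (aw n) (f ((aw n).symm ((aw n) (g ((aw n).symm x)))))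
    rw [LinearEquiv.symm_apply_apply]

theorem laEquivLW_apply (f : LA n) (x : W (n + 1)) :
    laEquivLW n f x = aw n (f ((aw n).symm x)) := rfl

theorem laEquivLW_symm_apply (f : LW (n + 1)) (x : A n) :
    (laEquivLW n).symm f x = (aw n).symm (f (aw n x)) := rfl

/-- `GL (ZMod 2 × (ZMod 2)^n)` is transitive on nonzero vectors -/
theorem la_trans (v w : A n) (hv : v ≠ 0) (hw : w ≠ 0) : ∃ φ : LA n, φ v = w := by
  have hv' : aw n v ≠ 0 := fun h => hv ((aw n).map_eq_zero_iff.mp h)
  have hw' : aw n w ≠ 0 := fun h => hw ((aw n).map_eq_zero_iff.mp h)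
  obtain ⟨ψ, hψ⟩ := lw_trans (aw n v) (aw n w) hv' hw'
  refine ⟨(laEquivLW n).symm ψ, ?_⟩
  rw [laEquivLW_symm_apply, hψ, LinearEquiv.symm_apply_apply]

/-- a normal 2-subgroup of `GL (ZMod 2 × (ZMod 2)^n)` is trivial -/
theorem la_normal_two_subgroup_eq_bot (N : Subgroup (LA n)) [hn : N.Normal] (hN : IsPGroup 2 N) :
    N = ⊥ := by
  haveI : (N.map (laEquivLW n).toMonoidHom).Normal :=
    hn.map _ (laEquivLW n).surjective
  have h1 := normal_two_subgroup_eq_bot (N.map (laEquivLW n).toMonoidHom) (hN.map _)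
  rw [eq_bot_iff]
  intro x hx
  have h2 : (laEquivLW n) x ∈ N.map (laEquivLW n).toMonoidHom := Subgroup.mem_map_of_mem _ hx
  rw [h1, Subgroup.mem_bot] at h2
  rw [Subgroup.mem_bot]
  exact (laEquivLW n).injective (h2.trans (map_one _).symm)

namespace AffG

/-- the linear part -/
def Dhom (n : ℕ) : AffG n →* LA n where
  toFun g := g.D
  map_one' := rfl
  map_mul' _ _ := rfl

theorem Dhom_surjective : Function.Surjective (Dhom n) := fun D => ⟨⟨0, D⟩, rfl⟩

/-- a normal 2-subgroup of the affine group consists of translations -/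
theorem normal_two_le_UU (N : Subgroup (AffG n)) [hn : N.Normal] (hN : IsPGroup 2 N) :
    N ≤ UU n := by
  haveI : (N.map (Dhom n)).Normal := hn.map _ Dhom_surjective
  have h1 := la_normal_two_subgroup_eq_bot (N.map (Dhom n)) (hN.map _)
  intro x hx
  have h2 : Dhom n x ∈ N.map (Dhom n) := Subgroup.mem_map_of_mem _ hx
  rw [h1, Subgroup.mem_bot] at h2
  exact h2

/-- nontrivial translations are conjugate to the distinguished one -/
theorem exists_conj_zz {u : AffG n} (hu : u ∈ UU n) (hu1 : u ≠ 1) :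
    ∃ m : AffG n, m * u * m⁻¹ = (dat n).zz := by
  have ht : u.t ≠ 0 := by
    intro h
    apply hu1
    ext1
    · exact h
    · exact hu
  obtain ⟨D, hD⟩ := la_trans u.t (e0 n) ht e0_ne_zero
  refine ⟨⟨0, D⟩, ?_⟩
  ext1
  · rw [conj_t _ _ hu]
    exact hD
  · rw [conj_D _ _ hu]
    rfl

end AffG

end Cfsg.Agent.Lib.Helper1.LgEx
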