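import Mathlib
import Cfsg.Prelude.Def_MonsterType
import Cfsg.Agent.Lib.Helper1.AGL5
import Cfsg.Agent.Lib.Helper1.LgEx13
import Cfsg.Agent.Lib.Helper1.LgEx14

set_option autoImplicit false

/-!
# The affine group `AGL(4, 2)` inside the Mathieu group of degree 24
-/

namespace Cfsg.Agent.Lib.Helper1.LgEx

open Cfsg Cfsg.Agent.Lib.Helper1 Cfsg.Agent.Lib.Helper1.M24 Cfsg.Agent.Lib.Helper1.AGL Matrix
open scoped Pointwise

noncomputable section

theorem row1_affToSL (x : AffG 3) : Row1 ((affToSL 3 x : SL5) : M5) := by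
  intro v
  have h1 : Phi 3 (affToSL 3 x) = toLB 3 x := (Phi 3).apply_symm_apply _
  have h2 := LinearEquiv.congr_fun h1 (cB 3 v)
  rw [Phi_apply, LinearEquiv.symm_apply_apply] at h2
  exact congrArg Prod.fst h2

theorem mem_range_affToSL_of_row1 {m : SL5} (hm : Row1 (m : M5)) : m ∈ (affToSL 3).range := by
  have h : Phi 3 m ∈ (toLB 3).range := by
    rw [mem_range_toLB]
    intro b
    rw [Phi_apply]
    show ((m : M5) *ᵥ (cB 3).symm b) 1 = b.1
    rw [hm]
    rfl
  obtain ⟨x, hx⟩ := h
  refine ⟨x, ?_⟩
  show (Phi 3).symm (toLB 3 x) = m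
  rw [hx, MulEquiv.symm_apply_apply]

/-- the affine group as the octad stabilizer -/
def affToHO : AffG 3 →* ↥HO where
  toFun x := Classical.choose (exists_of_row1 (row1_affToSL x))
  map_one' := by
    apply Θ_injective
    rw [Classical.choose_spec (exists_of_row1 (row1_affToSL 1)), map_one, map_one]
  map_mul' x y := by
    apply Θ_injective
    rw [Classical.choose_spec (exists_of_row1 (row1_affToSL (x * y))), map_mul, map_mul,
      Classical.choose_spec (exists_of_row1 (row1_affToSL x)),
      Classical.choose_spec (exists_of_row1 (row1_affToSL y))]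

theorem Θ_affToHO (x : AffG 3) : Θ (affToHO x) = affToSL 3 x :=
  Classical.choose_spec (exists_of_row1 (row1_affToSL x))

theorem affToHO_injective : Function.Injective affToHO := by
  intro x y h
  apply affToSL_injective
  rw [← Θ_affToHO, ← Θ_affToHO, h]

theorem affToHO_surjective : Function.Surjective affToHO := by
  intro g
  obtain ⟨x, hx⟩ := mem_range_affToSL_of_row1 (Θ_mem_ESub g)
  refine ⟨x, ?_⟩
  apply Θ_injective
  rw [Θ_affToHO]
  exact hx

/-- the affine group inside the Mathieu group -/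
def affToM24 : AffG 3 →* ↥M24 := (Subgroup.inclusion (inf_le_left : HO ≤ M24)).comp affToHO

theorem affToM24_coe (x : AffG 3) : ((affToM24 x : ↥M24) : P24) = (affToHO x : P24) := rfl

theorem affToM24_injective : Function.Injective affToM24 := by
  intro x y h
  apply affToHO_injective
  apply Subtype.ext
  have := congrArg (fun g : ↥M24 => (g : P24)) h
  exact this

theorem mem_range_affToM24 {g : ↥M24} (hg : g.1 ∈ HO) : g ∈ affToM24.range := by
  obtain ⟨x, hx⟩ := affToHO_surjective ⟨g.1, hg⟩
  refine ⟨x, ?_⟩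
  apply Subtype.ext
  rw [affToM24_coe, hx]

/-- the transvection -/
def sT : SL5 := ⟨Matrix.transvection 0 1 1, Matrix.det_transvection_of_ne 0 1 (by decide) 1⟩

theorem affToM24_zz : affToM24 (AffG.dat 3).zz = zM := by
  apply Subtype.ext
  rw [affToM24_coe]
  have h1 : affToHO (AffG.dat 3).zz = zO := by
    apply Θ_injective
    rw [Θ_affToHO, affToSL_zz sT rfl]
    exact (Θ_eq (specM_z sT rfl)).symm
  rw [h1]
  rfl

theorem mem_range_of_comm_zM {g : ↥M24} (hg : g * zM = zM * g) : g ∈ affToM24.range :=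
  mem_range_affToM24 (mem_HO_of_comm g.2 (congrArg Subtype.val hg))

/-- the elements fixing the octad pointwise -/
def NN : Subgroup (AffG 3) where
  carrier := {x | ∀ p ∈ O₀fin, (affToHO x : P24) p = p}
  mul_mem' := by
    intro x y hx hy p hp
    rw [map_mul]
    show (affToHO x : P24) ((affToHO y : P24) p) = p
    rw [hy p hp, hx p hp]
  one_mem' := by
    intro p _
    rw [map_one]
    rfl
  inv_mem' := by
    intro x hx p hp
    rw [map_inv]
    show ((affToHO x : P24)⁻¹) p = p
    rw [Equiv.Perm.inv_eq_iff_eq]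
    exact (hx p hp).symm

theorem HO_maps {g : P24} (hg : g ∈ HO) (p : GolayPt) : g p ∈ O₀fin ↔ p ∈ O₀fin :=
  stab_mem_iff (MulAction.mem_stabilizer_iff.mp hg.2) p

instance NN_normal : NN.Normal := by
  constructor
  intro x hx y p hp
  rw [map_mul, map_mul, map_inv]
  show (affToHO y : P24) ((affToHO x : P24) (((affToHO y : P24)⁻¹) p)) = p
  have h2 : (affToHO y : P24) (((affToHO y : P24)⁻¹) p) = p :=
    (affToHO y : P24).apply_symm_apply p
  have h1 : ((affToHO y : P24)⁻¹) p ∈ O₀fin := by
    rw [← HO_maps (affToHO y).2, h2]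
    exact hp
  rw [hx _ h1, h2]

theorem NN_isPGroup : IsPGroup 2 NN := by
  haveI : Fact (Nat.Prime 2) := ⟨Nat.prime_two⟩
  have h16 : IsPGroup 2 (resO O₀fin).ker :=
    IsPGroup.of_card (n := 4) (by rw [card_ker_resO O₀fin O₀fin_mem]; norm_num)
  let f : ↥NN →* ↥(resO O₀fin).ker :=
    { toFun := fun x => ⟨affToHO x.1, (mem_ker_resO O₀fin _).mpr x.2⟩
      map_one' := by
        apply Subtype.ext
        exact map_one affToHO
      map_mul' := by
        intro x y
        apply Subtype.ext
        exact map_mul affToHO x.1 y.1 }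
  apply h16.of_injective f
  intro x y h
  apply Subtype.ext
  apply affToHO_injective
  exact congrArg Subtype.val h

theorem NN_le : NN ≤ AffG.UU 3 := AffG.normal_two_le_UU NN NN_isPGroup

end

end Cfsg.Agent.Lib.Helper1.LgEx
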