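import Mathlib
import Cfsg.Prelude.Def_MonsterType
import Cfsg.Agent.Lib.Helper1.LgEx9
import Cfsg.Agent.Lib.Helper1.LgEx15

set_option autoImplicit false

/-!
# The centralizer of an octad involution in the Mathieu group of degree 24
-/

namespace Cfsg.Agent.Lib.Helper1.LgEx

open Cfsg Cfsg.Agent.Lib.Helper1 Cfsg.Agent.Lib.Helper1.M24 Cfsg.Agent.Lib.Helper1.AGL Matrix
open scoped Pointwise

noncomputable section

theorem exists_conj_zM (z : ↥M24) (hz : orderOf z = 2)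
    (hfix : (Finset.univ.filter fun p : GolayPt => (z : Equiv.Perm GolayPt) p = p) ∈ octads) :
    ∃ h : ↥M24, h * z * h⁻¹ = zM := by
  obtain ⟨g, hgM, hgo⟩ := octad_trans _ O₀fin hfix O₀fin_mem
  obtain ⟨g', hg'⟩ : ∃ g' : ↥M24, g' = ⟨g, hgM⟩ := ⟨_, rfl⟩
  obtain ⟨z₁, hz₁def⟩ : ∃ z₁ : ↥M24, z₁ = g' * z * g'⁻¹ := ⟨_, rfl⟩
  have hz₁coe : (z₁ : P24) = g * (z : P24) * g⁻¹ := by
    rw [hz₁def, hg']
    rfl
  have hz₁ : ∀ p, (z₁ : P24) p = p ↔ p ∈ O₀fin := by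
    intro p
    rw [← hgo, ← Finset.inv_smul_mem_iff, Finset.mem_filter, hz₁coe]
    have hgg : g (g⁻¹ p) = p := g.apply_symm_apply p
    constructor
    · intro h
      refine ⟨Finset.mem_univ _, ?_⟩
      show (z : P24) (g⁻¹ p) = g⁻¹ p
      have h1 : g ((z : P24) (g⁻¹ p)) = p := h
      apply g.injective
      rw [h1, hgg]
    · rintro ⟨_, h⟩
      have h1 : (z : P24) (g⁻¹ p) = g⁻¹ p := h
      show g ((z : P24) (g⁻¹ p)) = p
      rw [h1, hgg]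
  have hz₁HO : (z₁ : P24) ∈ HO := ⟨z₁.2, smul_eq_of_comm hz₁ rfl⟩
  obtain ⟨x₁, hx₁⟩ := affToHO_surjective ⟨z₁.1, hz₁HO⟩
  have hx₁N : x₁ ∈ NN := by
    intro p hp
    rw [hx₁]
    exact (hz₁ p).mpr hp
  have hx₁U := NN_le hx₁N
  have h1 : affToM24 x₁ = z₁ := by
    apply Subtype.ext
    rw [affToM24_coe, hx₁]
  have hx₁ne : x₁ ≠ 1 := by
    intro h
    rw [h, map_one] at h1
    have h2 : z = 1 := by
      have h3 : g' * z * g'⁻¹ = 1 := by rw [← hz₁def, ← h1]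
      calc z = g'⁻¹ * (g' * z * g'⁻¹) * g' := by group
        _ = 1 := by rw [h3]; group
    rw [h2, orderOf_one] at hz
    omega
  obtain ⟨m, hm⟩ := AffG.exists_conj_zz hx₁U hx₁ne
  refine ⟨affToM24 m * g', ?_⟩
  calc affToM24 m * g' * z * (affToM24 m * g')⁻¹
      = affToM24 m * (g' * z * g'⁻¹) * (affToM24 m)⁻¹ := by group
    _ = affToM24 (m * x₁ * m⁻¹) := by rw [← hz₁def, ← h1, map_mul, map_mul, map_inv]
    _ = zM := by rw [hm, affToM24_zz]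

theorem main_M24 (z : ↥M24) (hz : orderOf z = 2)
    (hfix : (Finset.univ.filter fun p : GolayPt => (z : Equiv.Perm GolayPt) p = p) ∈ octads)
    (Q : Subgroup ↥M24)
    (hQ : Q = (Cfsg.pCore 2 ↥(Subgroup.centralizer ({z} : Set ↥M24))).map
      (Subgroup.centralizer ({z} : Set ↥M24)).subtype) :
    Cfsg.IsExtraspecial 2 ↥Q ∧ Nat.card ↥Q = 2 ^ 7 ∧
      (∃ E : Subgroup ↥M24, E ≤ Q ∧ Cfsg.IsElementaryAbelian 2 E ∧ Nat.card ↥E = 2 ^ 4) ∧
      Cfsg.IsLargeExtraspecial Q ∧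
      ∃ K : Subgroup ↥M24, K ≤ Subgroup.centralizer ({z} : Set ↥M24) ∧ Q ⊓ K = ⊥ ∧
        Q ⊔ K = Subgroup.centralizer ({z} : Set ↥M24) ∧
        Nonempty (↥K ≃* Matrix.SpecialLinearGroup (Fin 3) (ZMod 2)) := by
  obtain ⟨h, hh⟩ := exists_conj_zM z hz hfix
  have hι : Function.Injective ((MulAut.conj h⁻¹).toMonoidHom.comp affToM24) :=
    (MulAut.conj h⁻¹).injective.comp affToM24_injective
  have hzz : ((MulAut.conj h⁻¹).toMonoidHom.comp affToM24) (AffG.dat 3).zz = z := by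
    show h⁻¹ * affToM24 (AffG.dat 3).zz * h⁻¹⁻¹ = z
    rw [affToM24_zz, ← hh]
    group
  have hC : ∀ g : ↥M24, g * z = z * g → g ∈ ((MulAut.conj h⁻¹).toMonoidHom.comp affToM24).range := by
    intro g hg
    have h1 : (h * g * h⁻¹) * zM = zM * (h * g * h⁻¹) := by
      rw [← hh]
      calc h * g * h⁻¹ * (h * z * h⁻¹) = h * (g * z) * h⁻¹ := by group
        _ = h * (z * g) * h⁻¹ := by rw [hg]
        _ = h * z * h⁻¹ * (h * g * h⁻¹) := by group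
    obtain ⟨x, hx⟩ := mem_range_of_comm_zM h1
    refine ⟨x, ?_⟩
    show h⁻¹ * affToM24 x * h⁻¹⁻¹ = g
    rw [hx]
    group
  obtain ⟨h1, h2, h3, h4, K, hK1, hK2, hK3, ⟨eK⟩⟩ :=
    main_hom _ hι (by norm_num : 2 ≤ 3) (AffG.dat 3) z hzz hC Q hQ
  exact ⟨h1, h2, h3, h4, K, hK1, hK2, hK3,
    ⟨eK.trans ((lwEquivGL 3).trans (slEquivGL (Fin 3)).symm)⟩⟩

end

end Cfsg.Agent.Lib.Helper1.LgEx
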