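import Mathlib
import Cfsg.Prelude.Def_MonsterType
import Cfsg.Agent.Lib.Helper1.LgEx9
import Cfsg.Agent.Lib.Helper1.LgEx12

set_option autoImplicit false

/-!
# The centralizer of an arbitrary transvection in `SL (m+2, F)`, `|F| = 2`
-/

namespace Cfsg.Agent.Lib.Helper1.LgEx

open Matrix

variable {m : ℕ}

/-- coordinates adapted to a permutation of the indices -/
def cBσ (σ : Equiv.Perm (Fin (m + 2))) : (Fin (m + 2) → ZMod 2) ≃ₗ[ZMod 2] B m :=
  (LinearEquiv.funCongrLeft (ZMod 2) (ZMod 2) σ.symm).trans (cB m)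

theorem cBσ_apply (σ : Equiv.Perm (Fin (m + 2))) (x : Fin (m + 2) → ZMod 2) :
    cBσ σ x = cB m (fun k => x (σ.symm k)) := rfl

/-- the isomorphism for general coordinates -/
noncomputable def PhiC (c : (Fin (m + 2) → ZMod 2) ≃ₗ[ZMod 2] B m) :
    SpecialLinearGroup (Fin (m + 2)) (ZMod 2) ≃* LB m :=
  (slEquivGL (Fin (m + 2))).trans
    (GeneralLinearGroup.toLin.trans
      ((LinearMap.GeneralLinearGroup.congrLinearEquiv c).trans
        (LinearMap.GeneralLinearGroup.generalLinearEquiv (ZMod 2) (B m))))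

theorem PhiC_apply (c : (Fin (m + 2) → ZMod 2) ≃ₗ[ZMod 2] B m)
    (g : SpecialLinearGroup (Fin (m + 2)) (ZMod 2)) (b : B m) :
    PhiC c g b = c ((g : Matrix (Fin (m + 2)) (Fin (m + 2)) (ZMod 2)) *ᵥ c.symm b) := rfl

theorem transvection_mulVec' (i j : Fin (m + 2)) (x : Fin (m + 2) → ZMod 2) :
    (Matrix.transvection i j 1 : Matrix (Fin (m + 2)) (Fin (m + 2)) (ZMod 2)) *ᵥ x =
      x + Pi.single i (x j) := by
  rw [Matrix.transvection, Matrix.add_mulVec, Matrix.one_mulVec, Matrix.single_mulVec, one_mul]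
  rfl

theorem PhiC_transvection (σ : Equiv.Perm (Fin (m + 2))) (i j : Fin (m + 2)) (hi : σ i = 0)
    (hj : σ j = 1) (z : SpecialLinearGroup (Fin (m + 2)) (ZMod 2))
    (hz : (z : Matrix (Fin (m + 2)) (Fin (m + 2)) (ZMod 2)) = Matrix.transvection i j 1) :
    PhiC (cBσ σ) z = tau m := by
  have hi' : σ.symm 0 = i := by rw [← hi, Equiv.symm_apply_apply]
  have hj' : σ.symm 1 = j := by rw [← hj, Equiv.symm_apply_apply]
  apply LinearEquiv.ext
  intro b
  rw [PhiC_apply, hz, transvection_mulVec', tau_apply, map_add, LinearEquiv.apply_symm_apply]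
  congr 1
  have h1 : ((cBσ σ).symm b) j = b.1 := by
    have h2 : cBσ σ ((cBσ σ).symm b) = b := LinearEquiv.apply_symm_apply _ _
    rw [cBσ_apply, cB_apply] at h2
    have h3 := congrArg Prod.fst h2
    rw [← hj']
    exact h3
  rw [h1, cBσ_apply, cB_apply]
  have hs : ∀ k : Fin (m + 2), (Pi.single i b.1 : Fin (m + 2) → ZMod 2) (σ.symm k) =
      (Pi.single (0 : Fin (m + 2)) b.1 : Fin (m + 2) → ZMod 2) k := by
    intro k
    rw [Pi.single_apply, Pi.single_apply]
    congr 1
    rw [← hi', eq_iff_iff]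
    exact σ.symm.injective.eq_iff
  apply Prod.ext
  · show (Pi.single i b.1 : Fin (m + 2) → ZMod 2) (σ.symm 1) = 0
    rw [hs, Pi.single_apply]
    simp
  · apply Prod.ext
    · show (Pi.single i b.1 : Fin (m + 2) → ZMod 2) (σ.symm 0) = (b.1 • e0 m).1
      rw [hs, Pi.single_eq_same]
      show b.1 = b.1 * 1
      rw [mul_one]
    · funext k
      show (Pi.single i b.1 : Fin (m + 2) → ZMod 2) (σ.symm k.succ.succ) = (b.1 • e0 m).2 k
      rw [hs, Pi.single_apply, if_neg (Fin.succ_ne_zero _)]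
      show (0 : ZMod 2) = b.1 * 0
      rw [mul_zero]

theorem exists_perm (i j : Fin (m + 2)) (hij : i ≠ j) :
    ∃ σ : Equiv.Perm (Fin (m + 2)), σ i = 0 ∧ σ j = 1 := by
  have h01 : (1 : Fin (m + 2)) ≠ 0 := by
    intro h
    have := congrArg Fin.val h
    simp at this
  have hj0 : Equiv.swap i 0 j ≠ 0 := by
    intro h
    have h1 : Equiv.swap i 0 j = Equiv.swap i 0 i := by rw [h, Equiv.swap_apply_left]
    exact hij ((Equiv.swap i 0).injective h1).symm
  refine ⟨(Equiv.swap (Equiv.swap i 0 j) 1) * (Equiv.swap i 0), ?_, ?_⟩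
  · rw [Equiv.Perm.mul_apply, Equiv.swap_apply_left]
    exact Equiv.swap_apply_of_ne_of_ne hj0.symm h01.symm
  · rw [Equiv.Perm.mul_apply, Equiv.swap_apply_left]

section field

variable {F : Type*} [Field F]

/-- change of field along a ring isomorphism -/
def slMapEquiv (f : F ≃+* ZMod 2) :
    SpecialLinearGroup (Fin (m + 2)) F ≃* SpecialLinearGroup (Fin (m + 2)) (ZMod 2) where
  toFun := SpecialLinearGroup.map (f : F →+* ZMod 2)
  invFun := SpecialLinearGroup.map (f.symm : ZMod 2 →+* F)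
  left_inv g := by
    apply Subtype.ext
    ext a b
    show f.symm (f ((g : Matrix (Fin (m + 2)) (Fin (m + 2)) F) a b)) = _
    rw [RingEquiv.symm_apply_apply]
  right_inv g := by
    apply Subtype.ext
    ext a b
    show f (f.symm ((g : Matrix (Fin (m + 2)) (Fin (m + 2)) (ZMod 2)) a b)) = _
    rw [RingEquiv.apply_symm_apply]
  map_mul' := map_mul _

theorem slMapEquiv_transvection (f : F ≃+* ZMod 2) (i j : Fin (m + 2))
    (t : SpecialLinearGroup (Fin (m + 2)) F)
    (ht : (t : Matrix (Fin (m + 2)) (Fin (m + 2)) F) = Matrix.transvection i j 1) :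
    ((slMapEquiv f t : SpecialLinearGroup (Fin (m + 2)) (ZMod 2)) :
      Matrix (Fin (m + 2)) (Fin (m + 2)) (ZMod 2)) = Matrix.transvection i j 1 := by
  show (f : F →+* ZMod 2).mapMatrix (t : Matrix (Fin (m + 2)) (Fin (m + 2)) F) = _
  rw [ht, Matrix.transvection, Matrix.transvection, map_add, map_one]
  congr 1
  ext a b
  simp [Matrix.single, Matrix.map_apply]

end field

end Cfsg.Agent.Lib.Helper1.LgEx
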