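import Mathlib
import Cfsg.Prelude.Def_MonsterType
import Cfsg.Prelude.Def_Local
import Cfsg.Agent.Lib.Helper1.LgEx17
import Cfsg.Agent.Lib.Helper6.ParChar

set_option autoImplicit false

/-!
# The generalized Fitting subgroup of the centralizer of a transvection in `SL (n, 2)`
-/

namespace Cfsg.Agent.Lib.Helper1.LgEx

open Matrix

theorem Dat.char2 {G : Type*} [Group G] [Finite G] {n : ℕ} (d : Dat G n) :
    Subgroup.centralizer ((Cfsg.pCore 2 ↥d.Cz : Subgroup ↥d.Cz) : Set ↥d.Cz) ≤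
      Cfsg.pCore 2 ↥d.Cz := by
  intro x hx
  rw [Subgroup.mem_centralizer_iff] at hx
  have h1 : (x : G) ∈ Subgroup.centralizer (d.QQ : Set G) := by
    rw [Subgroup.mem_centralizer_iff]
    intro q hq
    rw [SetLike.mem_coe, ← d.pCore_eq] at hq
    obtain ⟨w, hw, rfl⟩ := hq
    exact congrArg Subtype.val (hx w hw)
  rw [d.centralizer_QQ] at h1
  obtain ⟨w, _, hw⟩ := h1
  have h2 : (x : G) ∈ d.QQ := by
    rw [← hw]
    exact w.2
  rw [← d.pCore_eq] at h2
  obtain ⟨y, hy, hyx⟩ := h2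
  have : y = x := Subtype.ext hyx
  rw [← this]
  exact hy

/-- the `p`-constraint condition is isomorphism invariant (universe polymorphic) -/
theorem centralizer_pCore_le_of_mulEquiv' {X : Type*} {Y : Type*} [Group X] [Group Y] [Finite X]
    [Finite Y] (p : ℕ) [Fact p.Prime] (e : X ≃* Y)
    (h : Subgroup.centralizer ((Cfsg.pCore p X : Subgroup X) : Set X) ≤ Cfsg.pCore p X) :
    Subgroup.centralizer ((Cfsg.pCore p Y : Subgroup Y) : Set Y) ≤ Cfsg.pCore p Y := by
  have hmap := Cfsg.Agent.Lib.Helper6.pCore_map_equiv p e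
  intro y hy
  obtain ⟨x, rfl⟩ := e.surjective y
  have hx : x ∈ Subgroup.centralizer ((Cfsg.pCore p X : Subgroup X) : Set X) := by
    rw [Subgroup.mem_centralizer_iff]
    intro q hq
    have hq' : e q ∈ Cfsg.pCore p Y := by rw [← hmap]; exact ⟨q, hq, rfl⟩
    have := Subgroup.mem_centralizer_iff.mp hy (e q) hq'
    apply e.injective
    rw [map_mul, map_mul]; exact this
  rw [← hmap]
  exact ⟨x, h hx, rfl⟩

variable {m : ℕ} {F : Type*} [Field F] [Fintype F]

theorem fstar_centralizer_transvection (hF : Fintype.card F = 2) (i j : Fin (m + 2)) (hij : i ≠ j)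
    (t : SpecialLinearGroup (Fin (m + 2)) F)
    (ht : (t : Matrix (Fin (m + 2)) (Fin (m + 2)) F) = Matrix.transvection i j 1) :
    Cfsg.generalizedFittingSubgroup
        ↥(Subgroup.centralizer ({t} : Set (SpecialLinearGroup (Fin (m + 2)) F))) =
      Cfsg.pCore 2 ↥(Subgroup.centralizer ({t} : Set (SpecialLinearGroup (Fin (m + 2)) F))) := by
  haveI : Fact (Nat.Prime 2) := ⟨Nat.prime_two⟩
  obtain ⟨σ, hσi, hσj⟩ := exists_perm i j hij
  let f : F ≃+* ZMod 2 := (ZMod.ringEquivOfPrime F Nat.prime_two hF).symm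
  let Ψ : SpecialLinearGroup (Fin (m + 2)) F ≃* LB m := (slMapEquiv f).trans (PhiC (cBσ σ))
  have hΨt : Ψ t = tau m :=
    PhiC_transvection σ i j hσi hσj _ (slMapEquiv_transvection f i j t ht)
  let ι : AffG m →* SpecialLinearGroup (Fin (m + 2)) F := Ψ.symm.toMonoidHom.comp (toLB m)
  have hι : Function.Injective ι := Ψ.symm.injective.comp toLB_injective
  have hz : ι (AffG.dat m).zz = t := by
    show Ψ.symm (toLB m (AffG.dat m).zz) = t
    rw [← tau_eq, ← hΨt, MulEquiv.symm_apply_apply]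
  have hC : ∀ g : SpecialLinearGroup (Fin (m + 2)) F, g * t = t * g → g ∈ ι.range := by
    intro g hg
    have h1 : Ψ g * tau m = tau m * Ψ g := by
      rw [← hΨt, ← map_mul, ← map_mul, hg]
    obtain ⟨x, hx⟩ := mem_range_of_comm h1
    refine ⟨x, ?_⟩
    show Ψ.symm (toLB m x) = g
    rw [hx, MulEquiv.symm_apply_apply]
  have hCeq := centralizer_eq_map ι hι (AffG.dat m) t hz hC
  haveI : Finite (AffG m) := Finite.of_injective ι hι
  have e : ↥(AffG.dat m).Cz ≃*
      ↥(Subgroup.centralizer ({t} : Set (SpecialLinearGroup (Fin (m + 2)) F))) :=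
    (Subgroup.equivMapOfInjective (AffG.dat m).Cz ι hι).trans (MulEquiv.subgroupCongr hCeq.symm)
  rw [Cfsg.Agent.Lib.Helper6.fstar_eq_pCore_iff_centralizer_le]
  exact centralizer_pCore_le_of_mulEquiv' 2 e (AffG.dat m).char2

end Cfsg.Agent.Lib.Helper1.LgEx
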