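import Mathlib
import Cfsg.Prelude.Def_MonsterType
import Cfsg.Agent.Lib.Helper1.LgEx6

set_option autoImplicit false

/-!
# The affine group `AGL(n+1, 2)`: assembling the statement
-/

namespace Cfsg.Agent.Lib.Helper1.LgEx

variable {G : Type*} [Group G]

/-- building the data from the hypotheses, with a prescribed involution -/
theorem exists_dat [Finite G] (n : ℕ) (U M : Subgroup G) [hUn : U.Normal]
    (hU : Cfsg.IsElementaryAbelian 2 U) (hUcard : Nat.card ↥U = 2 ^ (n + 1)) (hUM : U ⊓ M = ⊥)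
    (hUM' : U ⊔ M = ⊤) (hfaith : ∀ m ∈ M, (∀ u ∈ U, m * u * m⁻¹ = u) → m = 1)
    (hfull : ∀ φ : ↥U ≃* ↥U, ∃ m ∈ M, ∀ u : ↥U, ((φ u : ↥U) : G) = m * u * m⁻¹)
    (z : G) (hzU : z ∈ U) (hz1 : z ≠ 1) :
    ∃ d : Dat G n, d.U = U ∧ d.M = M ∧ d.zz = z := by
  obtain ⟨hc, h2⟩ := hU
  letI : CommGroup ↥U := { (inferInstance : Group ↥U) with mul_comm := fun a b => hc.is_comm.comm a b }
  have h2' : ∀ u : ↥U, u ^ 2 = 1 := fun u => Subtype.ext (h2 u u.2)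
  have hz1' : (⟨z, hzU⟩ : ↥U) ≠ 1 := fun h => hz1 (congrArg Subtype.val h)
  obtain ⟨e, he⟩ := exists_coord (U := ↥U) h2' n hUcard ⟨z, hzU⟩ hz1'
  refine ⟨⟨U, M, hUn, e, hUM, hUM', hfaith, hfull⟩, rfl, rfl, ?_⟩
  show ((e.symm (e0 n)).toMul : G) = z
  have h3 : e.symm (e0 n) = Additive.ofMul (⟨z, hzU⟩ : ↥U) := by
    rw [AddEquiv.symm_apply_eq]
    exact he.symm
  rw [h3]
  rfl

theorem centralizer_eq_Cz {n : ℕ} (d : Dat G n) (Z : Subgroup G)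
    (hZ : ∀ x, x ∈ Z ↔ x = 1 ∨ x = d.zz) : Subgroup.centralizer (Z : Set G) = d.Cz := by
  ext g
  rw [Subgroup.mem_centralizer_iff, Dat.mem_Cz_iff]
  constructor
  · intro h
    have h1 := h d.zz ((hZ d.zz).mpr (Or.inr rfl))
    rw [← h1, mul_assoc, mul_inv_cancel, mul_one]
  · intro h x hx
    rcases (hZ x).mp hx with rfl | rfl
    · rw [one_mul, mul_one]
    · calc d.zz * g = (g * d.zz * g⁻¹) * g := by rw [h]
        _ = g * d.zz := by group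

theorem exists_gen_of_card_two (Z : Subgroup G) (hZ : Nat.card ↥Z = 2) :
    ∃ z ∈ Z, z ≠ 1 ∧ ∀ x, x ∈ Z ↔ x = 1 ∨ x = z := by
  obtain ⟨z, hz, huniq⟩ := (Nat.card_eq_two_iff' (1 : ↥Z)).mp hZ
  refine ⟨z, z.2, fun h => hz (Subtype.ext h), ?_⟩
  intro x
  constructor
  · intro hx
    by_cases h1 : x = 1
    · exact Or.inl h1
    · right
      have := huniq ⟨x, hx⟩ (fun h => h1 (congrArg Subtype.val h))
      exact congrArg Subtype.val this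
  · rintro (rfl | rfl)
    · exact Z.one_mem
    · exact z.2

theorem main [Finite G] (n : ℕ) (hn : 1 ≤ n) (U M : Subgroup G) [U.Normal]
    (hU : Cfsg.IsElementaryAbelian 2 U) (hUcard : Nat.card ↥U = 2 ^ (n + 1)) (hUM : U ⊓ M = ⊥)
    (hUM' : U ⊔ M = ⊤) (hfaith : ∀ m ∈ M, (∀ u ∈ U, m * u * m⁻¹ = u) → m = 1)
    (hfull : ∀ φ : ↥U ≃* ↥U, ∃ m ∈ M, ∀ u : ↥U, ((φ u : ↥U) : G) = m * u * m⁻¹)
    (Z : Subgroup G) (hZU : Z ≤ U) (hZ : Nat.card ↥Z = 2) (Q : Subgroup G)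
    (hQ : Q = (Cfsg.pCore 2 ↥(Subgroup.centralizer (Z : Set G))).map
      (Subgroup.centralizer (Z : Set G)).subtype) :
    Cfsg.IsExtraspecial 2 ↥Q ∧ Nat.card ↥Q = 2 ^ (2 * n + 1) ∧
      (∃ E : Subgroup G, E ≤ Q ∧ Cfsg.IsElementaryAbelian 2 E ∧ Nat.card ↥E = 2 ^ (n + 1)) ∧
      Cfsg.IsLargeExtraspecial Q ∧
      ∃ K : Subgroup G, K ≤ Subgroup.centralizer (Z : Set G) ∧ Q ⊓ K = ⊥ ∧
        Q ⊔ K = Subgroup.centralizer (Z : Set G) ∧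
        Nonempty (↥K ≃* Matrix.GeneralLinearGroup (Fin n) (ZMod 2)) := by
  obtain ⟨z, hzZ, hz1, hZmem⟩ := exists_gen_of_card_two Z hZ
  obtain ⟨d, hdU, hdM, hdz⟩ := exists_dat n U M hU hUcard hUM hUM' hfaith hfull z (hZU hzZ) hz1
  have hC : Subgroup.centralizer (Z : Set G) = d.Cz := by
    apply centralizer_eq_Cz
    rw [hdz]
    exact hZmem
  rw [hC] at hQ ⊢
  rw [d.pCore_eq] at hQ
  subst hQ
  refine ⟨d.isExtraspecial hn, d.card_QQ, ⟨U, ?_, hU, hUcard⟩, d.isLarge hn,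
    ⟨d.KK, d.KK_le_Cz, d.QQ_inf_KK, d.QQ_sup_KK, ⟨d.kkEquiv.trans (lwEquivGL n)⟩⟩⟩
  rw [← hdU]
  exact d.U_le_QQ

end Cfsg.Agent.Lib.Helper1.LgEx
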