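import Mathlib

set_option autoImplicit false

namespace Cfsg.Agent.Lib.Helper1.M11M

def wa : List ℕ := [0, 0, 1, 2]
def wb : List ℕ := [2, 0, 0, 2, 2, 0, 2, 1]
def wx : List ℕ := [0, 2, 2, 2]
def wy : List ℕ := [0, 1, 0, 1, 2, 0, 2, 0, 1]
def wn : List ℕ := [1, 1, 0, 0, 2, 0, 2]
def wni : List ℕ := wn ++ wn ++ wn ++ wn ++ wn
def Lsd : List ℕ := [984818244535754528103549039458486304, 596249136140272492064832421880021088, 230543384294103500057522861070649728, 311075516965990694055012990980636960, 944577924848475289514391883838196128, 475528238821588727895408909119406656, 713426995812873202526858284619729152, 632997936934828220890208754548654272, 230624449504068125033018689321025792, 310670273481852817604613965781272768, 944496878599615485569661386094854176, 475933477581284124862219349330921568, 713508038817093280236299335846412672, 632592683778777092825215951844935968, 984737182502729783464923423941280160, 596654394088465945511833043355077184]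
def L33 : List ℕ := [984818244535754528103549039458486304, 316312581583819037724439905500868672, 649913942161898917562974980693820800, 652348973816944840144386493376776608, 980764318845156520257806156225876544, 317444675157816291112414694560838784, 319920273256852664526877278293074112, 648335636853258196133682826049916160, 981936972673444871357696469910493280]

end Cfsg.Agent.Lib.Helper1.M11M
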