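import Cfsg.Agent.Lib.Helper1.M11OutG
import Cfsg.Agent.Lib.Helper1.M11MultD
import Cfsg.Agent.Lib.Helper1.Stem6

/-!
# Stem extensions of the Mathieu group of degree 11 are trivial
-/

set_option autoImplicit false
set_option maxRecDepth 100000

namespace Cfsg.Agent.Lib.Helper1.M11M

open Cfsg Cfsg.Agent.Lib.Helper1 Cfsg.Agent.Lib.Helper1.PermCode Cfsg.Agent.Lib.Helper1.MatCode
open Cfsg.Agent.Lib.Helper1.Stem Cfsg.Agent.Lib.Helper1.M11O

/-- the codes of the three generators -/
abbrev gens : List ℕ := [cP, cH, cV]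

theorem sub_sd : permSys.subChk gens (pairWords wa wb 8 16) Lsd = true := by decide +kernel
theorem sub_33 : permSys.subChk gens (pairWords wx wy 3 9) L33 = true := by decide +kernel
theorem ord_a : permSys.ordChk gens wa 4 2 = true := by decide +kernel
theorem rel_b2 : permSys.ev gens (wb ++ wb) = permSys.c1 := by decide +kernel
theorem rel_ba : permSys.ev gens (wb ++ wa ++ wb) = permSys.ev gens (wa ++ wa ++ wa) := by
  decide +kernel
theorem rel_n : permSys.ev gens (wn ++ wni) = permSys.c1 := by decide +kernel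
theorem rel_xy : permSys.ev gens (wx ++ wy) = permSys.ev gens (wy ++ wx) := by decide +kernel
theorem rel_nx : permSys.ev gens (wn ++ wx ++ wni ++ wx) = permSys.c1 := by decide +kernel
theorem rel_ny : permSys.ev gens (wn ++ wy ++ wni) = permSys.ev gens wy := by decide +kernel
theorem len_sd : (pairWords wa wb 8 16).length + 1 = 16 := by decide +kernel
theorem len_33 : (pairWords wx wy 3 9).length + 1 = 9 := by decide +kernel

theorem sq_dvd : ∀ ℓ : ℕ, ℓ < 89 → ℓ * ℓ ∣ 7920 →
    ℓ = 1 ∨ ℓ = 2 ∨ ℓ = 3 ∨ ℓ = 4 ∨ ℓ = 6 ∨ ℓ = 12 := by decide +kernel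

/-- the list of generators -/
abbrev GG : List ↥Cfsg.Spor.M11 := [gp, gh, gv]

/-- the value of a word -/
def wv (w : List ℕ) : ↥Cfsg.Spor.M11 := wordProd GG w

theorem hGG : ∀ i, ∀ (h1 : i < GG.length) (h2 : i < gens.length),
    phiP Cfsg.Spor.M11 GG[i] = permSys.D gens[i] :=
  hG3_of permSys (phiP Cfsg.Spor.M11) phi_p phi_h phi_v

theorem hCC : ∀ c ∈ gens, permSys.C c := hcan3_of permSys can_p can_h can_v

theorem wv_eq (w w' : List ℕ) (h : permSys.ev gens w = permSys.ev gens w') : wv w = wv w' :=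
  permSys.eq_of_ev (phiP Cfsg.Spor.M11) GG gens rfl hGG hCC (phiP_injective _) w w' h

theorem wv_one (w : List ℕ) (h : permSys.ev gens w = permSys.c1) : wv w = 1 :=
  permSys.eq_one_of_ev (phiP Cfsg.Spor.M11) GG gens rfl hGG hCC (phiP_injective _) w h

theorem wv_append (w w' : List ℕ) : wv (w ++ w') = wv w * wv w' := wordProd_append _ _ _

theorem ker_eq_bot {Λ : Type*} [Group Λ] [Finite Λ] (σ : Λ →* ↥Cfsg.Spor.M11)
    (hσ : Cfsg.IsStemExtension σ) : σ.ker = ⊥ := by
  apply ker_eq_bot_of_local σ hσ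
  intro ℓ hℓ hd
  by_cases h2 : ℓ = 2
  · subst h2
    refine ⟨Subgroup.closure {wv wa, wv wb}, ?_, ?_⟩
    · apply not_dvd_index_of_le _ _ (subW_pairWords_le GG wa wb 8 16) 2 16 495
      · rw [permSys.card_subW (phiP Cfsg.Spor.M11) GG gens rfl hGG hCC (phiP_injective _) _ Lsd sub_sd,
          len_sd]
      · rw [card_M11]
      · norm_num
      · norm_num
    · have hb : wv wb * wv wb = 1 := by rw [← wv_append]; exact wv_one _ rel_b2
      have hbi : (wv wb)⁻¹ = wv wb := inv_eq_of_mul_eq_one_right hb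
      apply kills_sd16 σ hσ.1 hσ.2.1 2
      · have h1 := permSys.orderOf_of_ordChk (phiP Cfsg.Spor.M11) GG gens rfl hGG hCC
          (phiP_injective _) wa 4 2 (by norm_num) ord_a
        have h3 : ¬ (wv wa) ^ 2 ^ 2 = 1 := by
          intro h4
          have : orderOf (wv wa ^ 4) = 1 := by
            rw [orderOf_eq_one_iff]; exact h4
          rw [wv, h1] at this
          norm_num at this
        have h5 : (wv wa) ^ 2 ^ (2 + 1) = 1 := by
          have := pow_orderOf_eq_one (wv wa ^ 4)
          rw [wv, h1, ← pow_mul] at this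
          exact this
        have := orderOf_eq_prime_pow h3 h5
        rw [this]
        norm_num
      · exact hb
      · rw [hbi, ← wv_append, ← wv_append, pow_succ, pow_two, ← wv_append, ← wv_append]
        exact wv_eq _ _ rel_ba
  by_cases h3 : ℓ = 3
  · subst h3
    refine ⟨Subgroup.closure {wv wx, wv wy}, ?_, ?_⟩
    · apply not_dvd_index_of_le _ _ (subW_pairWords_le GG wx wy 3 9) 3 9 880
      · rw [permSys.card_subW (phiP Cfsg.Spor.M11) GG gens rfl hGG hCC (phiP_injective _) _ L33 sub_33,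
          len_33]
      · rw [card_M11]
      · norm_num
      · norm_num
    · have hn : wv wn * wv wni = 1 := by rw [← wv_append]; exact wv_one _ rel_n
      have hni : (wv wn)⁻¹ = wv wni := inv_eq_of_mul_eq_one_right hn
      apply kills_a2 σ hσ.1 hσ.2.1 3 (by norm_num) (wv wx) (wv wy) (wv wn)
      · rw [← wv_append, ← wv_append]; exact wv_eq _ _ rel_xy
      · rw [hni, ← wv_append, ← wv_append]
        apply eq_inv_of_mul_eq_one_left
        rw [← wv_append]
        exact wv_one _ rel_nx
      · rw [hni, ← wv_append, ← wv_append]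
        exact wv_eq _ _ rel_ny
  · apply exists_kills_of_exact σ hσ.1 hσ.2.1 ℓ hℓ hd
    rw [card_M11]
    intro hsq
    have hlt : ℓ < 89 := by
      by_contra hge
      have h1 : 89 * 89 ≤ ℓ * ℓ := Nat.mul_le_mul (by omega) (by omega)
      have h2 := Nat.le_of_dvd (by norm_num) hsq
      omega
    rcases sq_dvd ℓ hlt hsq with h | h | h | h | h | h
    · exact hℓ.one_lt.ne' h
    · exact h2 h
    · exact h3 h
    · subst h; norm_num at hℓ
    · subst h; norm_num at hℓ
    · subst h; norm_num at hℓ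

end Cfsg.Agent.Lib.Helper1.M11M
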