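import Cfsg.Agent.Lib.Helper1.M11OutD
import Cfsg.Agent.Lib.Helper1.MathieuMem

/-!
# Checks for the automorphisms of a group of permutations of the 24 points (M11)
-/

set_option autoImplicit false
set_option maxRecDepth 100000

namespace Cfsg.Agent.Lib.Helper1.M11O

open Cfsg Cfsg.Agent.Lib.Helper1 Cfsg.Agent.Lib.Helper1.PermCode Cfsg.Agent.Lib.Helper1.MatCode
open Cfsg.Agent.Lib.Helper9.M24 (tperm tabOK tabM24 tget pmaskF)

theorem chk_P : chkM11 tP cP = true := by decide +kernel

theorem chk_H : chkM11 tH cH = true := by decide +kernel

theorem chk_V : chkM11 tV cV = true := by decide +kernel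

theorem len_A : A.length = 55 := by decide +kernel

theorem head_A : A.getD 0 0 = pc1 := by decide +kernel

theorem canon_A : A.all pcanonB = true := by decide +kernel

theorem head_T : Tf 0 = pc1 := by decide +kernel

theorem canon_T : (List.range 144).all (fun k => pcanonB (Tf k)) = true := by decide +kernel

theorem rc_A : [cP, cH].all (fun s => chkRC pmu2 A s) = true := by decide +kernel

theorem tree_A : chkTree pmu2 A [cP, cH] parA = true := by decide +kernel

theorem step_P : chkStepFixL pmu2 A Tf 144 cP cfP [0] = true := by decide +kernel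

theorem step_H : chkStepFixL pmu2 A Tf 144 cH cfH FixH = true := by decide +kernel

theorem step_V : chkStepF pmu2 A Tf 144 cV cfV = true := by decide +kernel

theorem fix_lt : FixH.all (fun k => decide (k < 144)) = true := by decide +kernel

theorem ord_P : permSys.ordChk [cP] [0] 1 11 = true := by decide +kernel

theorem rel_1 : pmu2 cP cH = pmu2 cH (permSys.pw cP 4) := by decide +kernel

theorem rel_2 : pmu2 cH cP = pmu2 (permSys.pw cP 3) cH := by decide +kernel

theorem head_PL : PL.getD 0 0 = pc1 := by decide +kernel

theorem chain_PL : (List.range (11 - 1)).all (fun j => PL.getD (j + 1) 0 == pmu2 (PL.getD j 0) cP) = true := by decide +kernel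

theorem len_PL : PL.length = 11 := by decide +kernel

theorem PL_sub_A : PL.all (fun c => A.contains c) = true := by decide +kernel

theorem K0_lt : K0.all (fun k => decide (k < 11)) = true := by decide +kernel

theorem nt_ok : chkNT pmu2 pc1 A PL cH 11 4 ntf K0 = true := by decide +kernel

theorem vrel_1 : pmu2 cV cH = pmu2 (permSys.pw cH 2) cV := by decide +kernel

theorem vrel_2 : pmu2 cH cV = pmu2 cV (permSys.pw cH 3) := by decide +kernel

theorem l2_canon : (List.range (A.length * FixH.length)).all (fun j => pcanonB (tabD.l2 pmu2 j)) = true := by decide +kernel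

theorem eorig_ok : permSys.chkEOrig [cP, cH, cV] wE mE = true := by decide +kernel

theorem et_ok : permSys.chkET PL (tabD.l2 pmu2) (A.length * FixH.length) cH K0 wE mE etf surv = true := by decide +kernel

theorem sub_2 : permSys.subChk [cP, cH, cV] ws2 Q2 = true := by decide +kernel

theorem len_ws2 : ws2.length + 1 = 16 := by decide +kernel

theorem sub_3 : permSys.subChk [cP, cH, cV] ws3 Q3 = true := by decide +kernel

theorem len_ws3 : ws3.length + 1 = 9 := by decide +kernel

theorem ord_5 : permSys.ordChk [cP, cH, cV] [1] 1 5 = true := by decide +kernel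

theorem ord_11 : permSys.ordChk [cP, cH, cV] [0] 1 11 = true := by decide +kernel

end Cfsg.Agent.Lib.Helper1.M11O
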