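import Cfsg.Agent.Lib.Helper1.PSL2Rec12
import Cfsg.Agent.Lib.Helper1.SLCard

set_option autoImplicit false

namespace Cfsg.Agent.Lib.Helper1.PSL2Rec

theorem fact_prime_11 : Fact (Nat.Prime 11) := ⟨by norm_num⟩

attribute [local instance] fact_prime_11

theorem g0_ne_zero_11 : (2 : ZMod 11) ≠ 0 := by decide

set_option maxRecDepth 100000 in
theorem cert_11 : Cert 11 5 2 false := by decide +kernel

theorem arith_11 : ∀ d, d ∣ (11 + 1) * 5 → d % 11 = 1 → d = 1 ∨ d = 11 + 1 := by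
  intro d hd hmod
  have hle : d ≤ 60 := Nat.le_of_dvd (by norm_num) hd
  have key : ∀ d, d < 61 → d ∣ 60 → d % 11 = 1 → d = 1 ∨ d = 12 := by decide
  exact key d (by omega) hd hmod

theorem hsq_11 : Nat.card {a : ZMod 11 // a ≠ 0 ∧ sq 11 a} = 5 := by
  rw [Nat.card_eq_fintype_card, Fintype.card_subtype]
  decide

theorem hgen_11 : ∀ x : ZMod 11, x ≠ 0 →
    ∃ j < 5, x = ((2 : ZMod 11) ^ 2) ^ j ∨ x = (2 : ZMod 11) * ((2 : ZMod 11) ^ 2) ^ j := by
  decide

theorem hsqgen_11 : ∀ a : ZMod 11, a ≠ 0 → sq 11 a → ∃ j : ℕ, a = ((2 : ZMod 11) ^ 2) ^ j := by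
  have key : ∀ a : ZMod 11, a ≠ 0 → sq 11 a → ∃ j < 5, a = ((2 : ZMod 11) ^ 2) ^ j := by
    decide
  intro a ha hs
  obtain ⟨j, _, hj⟩ := key a ha hs
  exact ⟨j, hj⟩

/-- the model group for `p = 11` -/
abbrev L11 : Subgroup (Equiv.Perm (Option (ZMod 11))) := Lp 11 2 g0_ne_zero_11

theorem iso_L11 {G : Type*} [Group G] [Finite G] [IsSimpleGroup G] (hG : Nat.card G = 660) :
    Nonempty (G ≃* L11) :=
  iso_Lp 11 5 (by norm_num) (by norm_num) (by rw [hG]) arith_11 hsq_11 2 g0_ne_zero_11 false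
    hgen_11 hsqgen_11 cert_11 (fun he => by cases he)

theorem psl_iso_L11 {F : Type*} [Field F] [Fintype F] (hF : Fintype.card F = 11) :
    Nonempty (Matrix.ProjectiveSpecialLinearGroup (Fin 2) F ≃* L11) := by
  classical
  have hs : IsSimpleGroup (Matrix.ProjectiveSpecialLinearGroup (Fin 2) F) :=
    Matrix.ProjectiveSpecialLinearGroup.rank_two_simple
      (by rw [Nat.card_eq_fintype_card, hF]; norm_num)
  have hc := Cfsg.Agent.Lib.Helper1.card_PSL_field (F := F) 2 (by norm_num)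
  rw [hF, Fin.prod_univ_two] at hc
  have hcard : Nat.card (Matrix.ProjectiveSpecialLinearGroup (Fin 2) F) = 660 := by
    generalize Nat.card (Matrix.ProjectiveSpecialLinearGroup (Fin 2) F) = N at hc ⊢
    norm_num at hc
    omega
  exact iso_L11 hcard

theorem iso_psl_11 {G : Type*} [Group G] [Finite G] [IsSimpleGroup G] (hG : Nat.card G = 660)
    {F : Type*} [Field F] [Fintype F] (hF : Fintype.card F = 11) :
    Nonempty (G ≃* Matrix.ProjectiveSpecialLinearGroup (Fin 2) F) := by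
  obtain ⟨e1⟩ := iso_L11 hG
  obtain ⟨e2⟩ := psl_iso_L11 hF
  exact ⟨e1.trans e2.symm⟩

end Cfsg.Agent.Lib.Helper1.PSL2Rec
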