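import Cfsg.Agent.Lib.Helper1.PSL2Rec13
import Cfsg.Agent.Lib.Helper1.PSL2P11
import Cfsg.Agent.Lib.Helper1.SharpTrans5

set_option autoImplicit false
set_option linter.unusedSectionVars false

namespace Cfsg.Agent.Lib.Helper1.PSL2Rec

open MulAction Cfsg.Agent.Lib.Helper1.SharpTrans

/-- a faithful group of prime degree `p` with more than one Sylow `p`-subgroup acts faithfully on
its Sylow `p`-subgroups -/
theorem faithful_on_sylow {G α : Type*} [Group G] [MulAction G α] [FaithfulSMul G α] [Fintype α]
    (p : ℕ) [hp : Fact p.Prime] (hα : Fintype.card α = p)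
    (hPc : ∀ Q : Sylow p G, Nat.card (Q : Subgroup G) = p)
    [hn : Nontrivial (Sylow p G)] (g : G) (hg : ∀ Q : Sylow p G, g • Q = Q) : g = 1 := by
  classical
  have hfin : Finite G := finite_of_faithful (α := α)
  have hne : Nonempty α := by
    rw [← Fintype.card_pos_iff, hα]; exact hp.out.pos
  -- the kernel of the action on the Sylow subgroups
  let K : Subgroup G := (MulAction.toPermHom G (Sylow p G)).ker
  have hK : ∀ h : G, h ∈ K ↔ ∀ Q : Sylow p G, h • Q = Q := by
    intro h
    rw [MonoidHom.mem_ker]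
    constructor
    · intro hh Q
      have := congrArg (fun f : Equiv.Perm (Sylow p G) => f Q) hh
      simpa using this
    · intro hh
      ext1 Q
      simpa using hh Q
  have hKn : K.Normal := MonoidHom.normal_ker _
  have hgK : g ∈ K := (hK g).2 hg
  -- `g` lies in every Sylow subgroup
  have hmem : ∀ Q : Sylow p G, g ∈ Q := by
    intro Q
    have hcyc : IsCyclic (Q : Subgroup G) := isCyclic_of_prime_card (hPc Q)
    have hab : ∀ x ∈ (Q : Subgroup G), ∀ y ∈ (Q : Subgroup G), x * y = y * x := by
      intro x hx y hy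
      have hcomm := hcyc.isMulCommutative
      have := mul_comm' (⟨x, hx⟩ : (Q : Subgroup G)) ⟨y, hy⟩
      exact congrArg Subtype.val this
    have hC := centralizer_le_of_transitive (α := α) (Q : Subgroup G) hab
      (fun a => orbit_eq_univ_of_prime p hα (Q : Subgroup G) (hPc Q) a)
    apply hC
    rw [Subgroup.mem_centralizer_iff]
    intro x hx
    by_contra hne'
    -- the commutator
    have hgN : g ∈ Subgroup.normalizer (Q : Set G) :=
      Sylow.smul_eq_iff_mem_normalizer.1 (hg Q)
    have hc1 : g * x * g⁻¹ * x⁻¹ ∈ (Q : Subgroup G) :=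
      (Q : Subgroup G).mul_mem ((Subgroup.mem_normalizer_iff.1 hgN x).1 hx)
        ((Q : Subgroup G).inv_mem hx)
    have hc2 : g * x * g⁻¹ * x⁻¹ ∈ K := by
      have : g * x * g⁻¹ * x⁻¹ = g * (x * g⁻¹ * x⁻¹) := by group
      rw [this]
      exact K.mul_mem hgK (hKn.conj_mem _ (K.inv_mem hgK) x)
    have hc3 : g * x * g⁻¹ * x⁻¹ ≠ 1 := by
      intro h
      apply hne'
      have : g * x = x * g := by
        calc g * x = (g * x * g⁻¹ * x⁻¹) * (x * g) := by group
          _ = x * g := by rw [h, one_mul]
      exact this.symm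
    set c := g * x * g⁻¹ * x⁻¹ with hcdef
    have hle : Subgroup.zpowers c ≤ (Q : Subgroup G) := by
      rw [Subgroup.zpowers_le]; exact hc1
    have hcard : Nat.card (Subgroup.zpowers c) = p := by
      have hd : Nat.card (Subgroup.zpowers c) ∣ p := by
        rw [← hPc Q]; exact Subgroup.card_dvd_of_le hle
      rcases (Nat.dvd_prime hp.out).1 hd with h | h
      · exfalso
        rw [Nat.card_zpowers, orderOf_eq_one_iff] at h
        exact hc3 h
      · exact h
    have heq : Subgroup.zpowers c = (Q : Subgroup G) :=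
      Subgroup.eq_of_le_of_card_ge hle (by rw [hcard, hPc Q])
    have hQK : (Q : Subgroup G) ≤ K := by
      rw [← heq, Subgroup.zpowers_le]; exact hc2
    -- then every Sylow subgroup equals `Q`
    have hall : ∀ Q' : Sylow p G, Q' = Q := by
      intro Q'
      by_contra hQ'
      obtain ⟨y, hy⟩ := MulAction.exists_smul_eq G Q Q'
      have hQ'K : (Q' : Subgroup G) ≤ K := by
        intro z hz
        rw [← hy, Sylow.coe_subgroup_smul] at hz
        obtain ⟨w, hw, rfl⟩ := hz
        have hw' : w ∈ K := hQK hw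
        have : (MulAut.conj y) w = y * w * y⁻¹ := rfl
        change (MulAut.conj y) w ∈ K
        rw [this]
        exact hKn.conj_mem w hw' y
      obtain ⟨z, hz, hz1⟩ : ∃ z ∈ (Q' : Subgroup G), z ≠ 1 := by
        by_contra hcon
        push Not at hcon
        have : (Q' : Subgroup G) = ⊥ := (Subgroup.eq_bot_iff_forall _).2 hcon
        have h1 := hPc Q'
        rw [this, Subgroup.card_bot] at h1
        exact hp.out.one_lt.ne h1
      have hzN : z ∈ Subgroup.normalizer (Q : Set G) :=
        Sylow.smul_eq_iff_mem_normalizer.1 ((hK z).1 (hQ'K hz) Q)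
      exact hz1 (eq_one_of_mem_inf p Q' Q (hPc Q') (Ne.symm hQ') z hz hzN)
    obtain ⟨Q1, Q2, h12⟩ := hn.exists_pair_ne
    exact h12 ((hall Q1).trans (hall Q2).symm)
  obtain ⟨Q1, Q2, h12⟩ := hn.exists_pair_ne
  exact eq_one_of_mem_inf p Q1 Q2 (hPc Q1) (Ne.symm h12) g (hmem Q1)
    (Subgroup.le_normalizer (hmem Q2))

end Cfsg.Agent.Lib.Helper1.PSL2Rec

namespace Cfsg.Agent.Lib.Helper1.PSL2Rec

open MulAction Cfsg.Agent.Lib.Helper1.SharpTrans

attribute [local instance] fact_prime_11

/-- a faithful group of degree 11 and order 660 is the model group -/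
theorem iso_L11_of_degree {G α : Type*} [Group G] [MulAction G α] [FaithfulSMul G α] [Fintype α]
    (hα : Fintype.card α = 11) (hG : Nat.card G = 660) : Nonempty (G ≃* L11) := by
  have hfin : Finite G := finite_of_faithful (α := α)
  obtain ⟨P, r, idx, hP, hr, hN, hri, hmod⟩ :=
    sylow_prime_degree (G := G) (α := α) 11 hα 60 hG (by norm_num)
  have hr5 : r = 5 ∧ idx = 12 := by
    have hr10 : r ≤ 10 := Nat.le_of_dvd (by norm_num) hr
    interval_cases r <;> omega
  obtain ⟨rfl, rfl⟩ := hr5
  have hcard : Nat.card (Sylow 11 G) = 11 + 1 := by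
    have h1 := Sylow.card_eq_index_normalizer P
    have h2 := (Subgroup.normalizer (P : Set G)).card_mul_index
    have hN' : Nat.card (Subgroup.normalizer (P : Set G)) = 11 * 5 := hN
    rw [hN', hG, ← h1] at h2
    omega
  have hG' : Nat.card G = (11 + 1) * 11 * 5 := by rw [hG]
  have hPc : ∀ Q : Sylow 11 G, Nat.card (Q : Subgroup G) = 11 :=
    fun Q => card_sylow_sub 11 5 (by norm_num) (by norm_num) hG' Q
  have hnt : Nontrivial (Sylow 11 G) := by
    rw [← Finite.one_lt_card_iff_nontrivial, hcard]; norm_num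
  have hfaith := faithful_on_sylow (G := G) (α := α) 11 hα hPc
  exact iso_Lp' 11 5 (by norm_num) (by norm_num) hG' hcard hfaith hsq_11 2 g0_ne_zero_11
    hgen_11 hsqgen_11 cert_11

end Cfsg.Agent.Lib.Helper1.PSL2Rec
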