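import Cfsg.Agent.S1600
import Cfsg.Agent.S0387
import Cfsg.Agent.S0384
import Cfsg.Agent.Lib.Helper1.PSL2Rec14
import Cfsg.Agent.Lib.Helper1.StabCard

set_option autoImplicit false
open scoped Pointwise
open Cfsg MulAction

namespace Cfsg.Agent.Lib.Helper1.M11PSL

/-- membership in a dodecad is preserved by elements of its stabiliser -/
theorem apply_mem_of_stab (d : Finset GolayPt) (g : ↥M24) (hg : g • d = d) (x : GolayPt)
    (hx : x ∈ d) : ((g : ↥M24) : Equiv.Perm GolayPt) x ∈ d := by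
  have h1 : g • x ∈ g • d := (Finset.smul_mem_smul_finset_iff g).2 hx
  rw [hg] at h1
  exact h1

theorem apply_not_mem_of_stab (d : Finset GolayPt) (g : ↥M24) (hg : g • d = d) (x : GolayPt)
    (hx : x ∉ d) : ((g : ↥M24) : Equiv.Perm GolayPt) x ∉ d := by
  intro h
  apply hx
  have h1 : g • x ∈ g • d := by rw [hg]; exact h
  exact (Finset.smul_mem_smul_finset_iff g).1 h1

variable (d : Finset GolayPt) (p q : GolayPt)

/-- the group of the statement -/
abbrev Y : Subgroup ↥M24 := stabilizer M24 d ⊓ stabilizer M24 p ⊓ stabilizer M24 q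

/-- the eleven points -/
abbrev A : Type := {x : GolayPt // x ∈ d ∧ x ≠ p}

theorem mem_Y (g : ↥M24) : g ∈ Y d p q ↔ g • d = d ∧
    ((g : ↥M24) : Equiv.Perm GolayPt) p = p ∧ ((g : ↥M24) : Equiv.Perm GolayPt) q = q := by
  simp only [Subgroup.mem_inf, mem_stabilizer_iff, and_assoc]
  rfl

instance actA : MulAction (Y d p q) (A d p) where
  smul y a := ⟨((y : ↥M24) : Equiv.Perm GolayPt) a.1,
    apply_mem_of_stab d y.1 ((mem_Y d p q y.1).1 y.2).1 a.1 a.2.1, fun h => a.2.2 (by
      have h2 := ((mem_Y d p q y.1).1 y.2).2.1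
      exact ((y : ↥M24) : Equiv.Perm GolayPt).injective (h.trans h2.symm))⟩
  one_smul a := by
    apply Subtype.ext
    rfl
  mul_smul y z a := by
    apply Subtype.ext
    rfl

theorem smul_val (y : Y d p q) (a : A d p) :
    (y • a).1 = ((y : ↥M24) : Equiv.Perm GolayPt) a.1 := rfl

theorem card_A (hd : d ∈ dodecads) (hp : p ∈ d) : Fintype.card (A d p) = 11 := by
  have h1 : Fintype.card (A d p) = (d.erase p).card := by
    rw [Fintype.card_subtype]
    congr 1
    ext x
    simp [and_comm]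
  rw [h1, Finset.card_erase_of_mem hp, hd.2]

theorem faithful (hd : d ∈ dodecads) (hp : p ∈ d) : FaithfulSMul (Y d p q) (A d p) := by
  constructor
  intro y z hyz
  -- five points of the dodecad
  have hc : Fintype.card (Fin 5) ≤ Fintype.card {x : GolayPt // x ∈ d} := by
    rw [Fintype.card_fin, Fintype.card_coe, hd.2]; norm_num
  obtain ⟨e⟩ := Function.Embedding.nonempty_of_card_le hc
  let x : Fin 5 ↪ GolayPt := e.trans (Function.Embedding.subtype _)
  have hx : ∀ i, x i ∈ d := fun i => (e i).2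
  obtain ⟨g, _, huniq⟩ := Cfsg.Agent.S0384.result d hd x x hx hx
  have hfix : ∀ w : Y d p q, (∀ a : A d p, w • a = a) →
      (⟨w.1, ((mem_Y d p q w.1).1 w.2).1⟩ : stabilizer M24 d) = g := by
    intro w hw
    apply huniq
    intro i
    by_cases hi : x i = p
    · rw [hi]; exact ((mem_Y d p q w.1).1 w.2).2.1
    · have := hw ⟨x i, hx i, hi⟩
      exact congrArg Subtype.val this
  have h1 : ∀ a : A d p, (z⁻¹ * y) • a = a := by
    intro a
    rw [mul_smul, hyz a, inv_smul_smul]
  have h2 := hfix (z⁻¹ * y) h1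
  have h3 := hfix 1 (fun a => one_smul _ a)
  have h4 : ((z⁻¹ * y : Y d p q) : ↥M24) = ((1 : Y d p q) : ↥M24) := by
    have := h2.trans h3.symm
    exact congrArg (fun w : stabilizer M24 d => (w : ↥M24)) this
  have h5 : z⁻¹ * y = 1 := Subtype.ext h4
  calc y = z * (z⁻¹ * y) := by group
    _ = z := by rw [h5, mul_one]

theorem card_Y (hd : d ∈ dodecads) (hp : p ∈ d) (hq : q ∉ d) : Nat.card (Y d p q) = 660 := by
  classical
  -- two further points of the dodecad
  have h1 : 0 < (d.erase p).card := by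
    rw [Finset.card_erase_of_mem hp, hd.2]; norm_num
  obtain ⟨q', hq'⟩ := Finset.card_pos.1 h1
  have h2 : 0 < ((d.erase p).erase q').card := by
    rw [Finset.card_erase_of_mem hq', Finset.card_erase_of_mem hp, hd.2]; norm_num
  obtain ⟨r', hr'⟩ := Finset.card_pos.1 h2
  rw [Finset.mem_erase] at hq'
  rw [Finset.mem_erase, Finset.mem_erase] at hr'
  obtain ⟨hq'p, hq'd⟩ := hq'
  obtain ⟨hr'q', hr'p, hr'd⟩ := hr'
  have h3 := (Cfsg.Agent.S1600.result d hd p q' r' hp hq'd hr'd (Ne.symm hq'p) (Ne.symm hr'p)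
    (Ne.symm hr'q')).2
  have h4 := Cfsg.Agent.Lib.Helper1.StabCard.card_subgroup_eq_orbit_mul (G := ↥M24)
    (stabilizer M24 d ⊓ stabilizer M24 p) q {x | x ∉ d} (by
      intro r
      constructor
      · intro hr
        obtain ⟨g, hg, hgq⟩ := h3 q hq r hr
        exact ⟨g, hg.1.1, hgq⟩
      · rintro ⟨g, hg, rfl⟩
        exact apply_not_mem_of_stab d g (mem_stabilizer_iff.1 hg.1) q hq)
  rw [Cfsg.Agent.S0387.result d hd p hp] at h4
  have h5 : ({x | x ∉ d} : Set GolayPt).ncard = 12 := by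
    have : ({x | x ∉ d} : Set GolayPt) = ((Finset.univ \ d : Finset GolayPt) : Set GolayPt) := by
      ext x; simp
    rw [this, Set.ncard_coe_finset, Finset.card_sdiff_of_subset (Finset.subset_univ d), hd.2]
    rfl
  rw [h5] at h4
  change 7920 = 12 * Nat.card (Y d p q) at h4
  omega

end Cfsg.Agent.Lib.Helper1.M11PSL
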