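import Mathlib

set_option autoImplicit false

namespace Cfsg.Agent.Lib.Helper1.M11M

/-- for each generator: words `a`, `b`, and words for their inverses, with `[a, b]` the generator -/
def perfW : List (List ℕ × List ℕ × List ℕ × List ℕ) := [([1], [1, 0, 0], [1, 1, 1, 1], [1, 1, 0, 1, 1]), ([2], [1], [2, 2, 2], [1, 1, 1, 1]), ([0, 2], [0, 1, 1, 1, 0, 1, 2, 2, 0, 0, 0], [0, 1, 1, 0, 0, 2, 0, 0, 1, 2, 1, 0], [1, 0, 1, 1, 0, 1, 1, 2, 2, 0, 1, 0])]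

end Cfsg.Agent.Lib.Helper1.M11M
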