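import Cfsg.Agent.Lib.Helper1.M11Mult
import Cfsg.Agent.Lib.Helper1.M11PerfD
import Cfsg.Agent.Lib.Helper1.Stem7

/-!
# The Mathieu group of degree 11 is perfect and has no nontrivial stem extensions
-/

set_option autoImplicit false
set_option maxRecDepth 100000

namespace Cfsg.Agent.Lib.Helper1.M11M

open Cfsg Cfsg.Agent.Lib.Helper1 Cfsg.Agent.Lib.Helper1.PermCode Cfsg.Agent.Lib.Helper1.MatCode
open Cfsg.Agent.Lib.Helper1.Stem Cfsg.Agent.Lib.Helper1.M11O

open scoped commutatorElement

universe u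

theorem perf_chk : (List.range 3).all (fun i =>
    let q := perfW.getD i ([], [], [], [])
    (permSys.ev gens (q.1 ++ q.2.2.1) == permSys.c1) &&
    (permSys.ev gens (q.2.1 ++ q.2.2.2) == permSys.c1) &&
    (permSys.ev gens [i] == permSys.ev gens (q.1 ++ q.2.1 ++ q.2.2.1 ++ q.2.2.2))) = true := by
  decide +kernel

theorem gen_mem_commutator (i : ℕ) (hi : i < 3) : wv [i] ∈ commutator ↥Cfsg.Spor.M11 := by
  have h := perf_chk
  rw [List.all_eq_true] at h
  have h1 := h i (List.mem_range.mpr hi)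
  simp only [Bool.and_eq_true, beq_iff_eq] at h1
  obtain ⟨⟨ha, hb⟩, hc⟩ := h1
  set q := perfW.getD i ([], [], [], []) with hq
  have hai : (wv q.1)⁻¹ = wv q.2.2.1 := by
    apply inv_eq_of_mul_eq_one_right
    rw [← wv_append]; exact wv_one _ ha
  have hbi : (wv q.2.1)⁻¹ = wv q.2.2.2 := by
    apply inv_eq_of_mul_eq_one_right
    rw [← wv_append]; exact wv_one _ hb
  have e : wv [i] = ⁅wv q.1, wv q.2.1⁆ := by
    rw [commutatorElement_def, hai, hbi, ← wv_append, ← wv_append, ← wv_append]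
    exact wv_eq _ _ hc
  rw [e]
  exact Subgroup.commutator_mem_commutator (Subgroup.mem_top _) (Subgroup.mem_top _)

theorem commutator_M11 : commutator ↥Cfsg.Spor.M11 = ⊤ := by
  rw [eq_top_iff, ← M11O.gen, Subgroup.closure_le]
  intro g hg
  simp only [Set.mem_insert_iff, Set.mem_singleton_iff] at hg
  have h0 := gen_mem_commutator 0 (by norm_num)
  have h1 := gen_mem_commutator 1 (by norm_num)
  have h2 := gen_mem_commutator 2 (by norm_num)
  simp only [wv, wordProd_cons, wordProd_nil, mul_one] at h0 h1 h2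
  rcases hg with rfl | rfl | rfl
  · exact h0
  · exact h1
  · exact h2

theorem trivStems_M11 : TrivStems.{u} ↥Cfsg.Spor.M11 := fun _ _ _ σ hσ => ker_eq_bot σ hσ

end Cfsg.Agent.Lib.Helper1.M11M
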