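import Cfsg.Agent.Lib.Helper1.M24N

/-!
# The octad through a point of a dodecad and two points off it
-/

set_option autoImplicit false
open scoped Pointwise
open Cfsg MulAction

namespace Cfsg.Agent.Lib.Helper1.M11Sym5

open Cfsg.Agent.Lib.Helper1 Cfsg.Agent.Lib.Helper1.M24

/-- there is exactly one octad through `p`, `q`, `q'` meeting `d` in six points -/
def PairOct (d : Finset GolayPt) (p q q' : GolayPt) : Prop :=
  ∃ o ∈ octads, p ∈ o ∧ q ∈ o ∧ q' ∈ o ∧ (o ∩ d).card = 6 ∧
    ∀ o' ∈ octads, p ∈ o' → q ∈ o' → q' ∈ o' → (o' ∩ d).card = 6 → o' = o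

theorem support_inter (a b : ℕ) :
    support₂ (ofMask a) ∩ support₂ (ofMask b) = support₂ (ofMask (a &&& b)) := by
  ext x
  rw [Finset.mem_inter, mem_support₂_ofMask, mem_support₂_ofMask, mem_support₂_ofMask,
    Nat.testBit_and, Bool.and_eq_true]

theorem std_check : allBelow (fun c => !((cw c).testBit 0 && (cw c).testBit 1 &&
    (cw c).testBit 5 && (popcN 24 (cw c) == 8) && (popcN 24 (cw c &&& cw 6) == 6)) || (c == 4))
    4096 = true := by decide +kernel

theorem std_pairOct : PairOct d₀fin (gUnidx 0) (gUnidx 1) (gUnidx 5) := by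
  have h8 : popcN 24 (cw 4) = 8 := by decide +kernel
  refine ⟨support₂ (ofMask (cw 4)), octad_of_idx (by norm_num) h8, ?_, ?_, ?_, ?_, ?_⟩
  · rw [mem_support₂_ofMask]; decide +kernel
  · rw [mem_support₂_ofMask]; decide +kernel
  · rw [mem_support₂_ofMask]; decide +kernel
  · unfold d₀fin
    rw [support_inter, card_support₂_ofMask]
    decide +kernel
  · intro o' ho' hp hq hq' h6
    obtain ⟨w, hw, rfl, hc⟩ := (mem_octads_iff o').mp ho'
    obtain ⟨c, hc4, rfl⟩ := (mem_golayCode_iff w).mp hw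
    rw [card_support₂_ofMask] at hc
    unfold d₀fin at h6
    rw [support_inter, card_support₂_ofMask] at h6
    rw [mem_support₂_ofMask] at hp hq hq'
    have hchk := (allBelow_iff _ _).mp std_check c hc4
    rw [show gIdx (gUnidx 0) = 0 from rfl] at hp
    rw [show gIdx (gUnidx 1) = 1 from rfl] at hq
    rw [show gIdx (gUnidx 5) = 5 from rfl] at hq'
    simp only [hp, hq, hq', hc, h6, beq_self_eq_true, Bool.and_self, Bool.not_true,
      Bool.false_or, beq_iff_eq] at hchk
    rw [hchk]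

theorem pairOct_smul {g : P24} (hg : g ∈ M24) {d : Finset GolayPt} {p q q' : GolayPt}
    (h : PairOct d p q q') : PairOct (g • d) (g p) (g q) (g q') := by
  obtain ⟨o, ho, hp, hq, hq', h6, huniq⟩ := h
  refine ⟨g • o, smul_mem_octads hg ho, ?_, ?_, ?_, ?_, ?_⟩
  · exact Finset.smul_mem_smul_finset (a := g) hp
  · exact Finset.smul_mem_smul_finset (a := g) hq
  · exact Finset.smul_mem_smul_finset (a := g) hq'
  · rw [← Finset.smul_finset_inter, Finset.card_smul_finset, h6]
  · intro o' ho' hp' hq1 hq1' h6'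
    have h1 := huniq (g⁻¹ • o') (smul_mem_octads (M24.inv_mem hg) ho')
      (by rw [mem_smul_iff']; simpa using hp') (by rw [mem_smul_iff']; simpa using hq1)
      (by rw [mem_smul_iff']; simpa using hq1')
      (by
        have : g⁻¹ • o' ∩ d = g⁻¹ • (o' ∩ g • d) := by
          rw [Finset.smul_finset_inter, inv_smul_smul]
        rw [this, Finset.card_smul_finset, h6'])
    rw [← h1, smul_inv_smul]

theorem exists_third (d : Finset GolayPt) (hd : d ∈ dodecads) (q q' : GolayPt) :
    ∃ r, r ∉ d ∧ r ≠ q ∧ r ≠ q' := by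
  by_contra hcon
  push Not at hcon
  have hsub : (Finset.univ : Finset GolayPt) ⊆ d ∪ {q, q'} := by
    intro r _
    by_cases hr : r ∈ d
    · exact Finset.mem_union_left _ hr
    · by_cases hrq : r = q
      · rw [hrq]; simp
      · have := hcon r hr hrq
        rw [this]; simp
  have h1 := Finset.card_le_card hsub
  have h2 : (d ∪ {q, q'}).card ≤ d.card + ({q, q'} : Finset GolayPt).card :=
    Finset.card_union_le _ _
  have h3 : ({q, q'} : Finset GolayPt).card ≤ 2 := Finset.card_le_two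
  have h4 : (Finset.univ : Finset GolayPt).card = 24 := by decide
  rw [hd.2] at h2
  omega

theorem pairOct_general (d : Finset GolayPt) (hd : d ∈ dodecads) (p q q' : GolayPt) (hp : p ∈ d)
    (hq : q ∉ d) (hq' : q' ∉ d) (hqq' : q ≠ q') : PairOct d p q q' := by
  obtain ⟨τ, hτ, rfl, rfl⟩ := flag_trans d hd p hp
  obtain ⟨r, hr, hrq, hrq'⟩ := exists_third _ hd q q'
  have hinj : Function.Injective (fun i : Fin 3 => τ⁻¹ (![q, q', r] i)) := by
    intro i j hij
    have hij' : ![q, q', r] i = ![q, q', r] j := τ⁻¹.injective hij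
    fin_cases i <;> fin_cases j <;> simp_all
  obtain ⟨g1, hg1, h1⟩ := three_to_base_E (fun i => τ⁻¹ (![q, q', r] i)) hinj (by
    intro i h
    rw [← mem_smul_iff'] at h
    fin_cases i
    · exact hq h
    · exact hq' h
    · exact hr h)
  have hσ : τ * g1⁻¹ ∈ M24 := M24.mul_mem hτ (M24.inv_mem hg1.1.1)
  have key := pairOct_smul hσ std_pairOct
  have e0 : (τ * g1⁻¹) (gUnidx 0) = τ (gUnidx 0) := by
    have h0 := hg1.2 0 (List.mem_singleton_self 0)
    rw [Equiv.Perm.mul_apply]
    congr 1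
    rw [Equiv.Perm.inv_eq_iff_eq, h0]
  have e1 : (τ * g1⁻¹) (gUnidx 1) = q := by
    have := h1 0
    change g1 (τ⁻¹ q) = gUnidx 1 at this
    rw [Equiv.Perm.mul_apply, ← this]
    simp
  have e2 : (τ * g1⁻¹) (gUnidx 5) = q' := by
    have := h1 1
    change g1 (τ⁻¹ q') = gUnidx 5 at this
    rw [Equiv.Perm.mul_apply, ← this]
    simp
  have e3 : (τ * g1⁻¹) • d₀fin = τ • d₀fin := by
    have h : g1 • d₀fin = d₀fin := MulAction.mem_stabilizer_iff.mp hg1.1.2
    have h' : g1⁻¹ • d₀fin = d₀fin := inv_smul_eq_iff.mpr h.symm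
    rw [mul_smul, h']
  rw [e0, e1, e2, e3] at key
  exact key

end Cfsg.Agent.Lib.Helper1.M11Sym5
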