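import Cfsg.Agent.Lib.Helper1.M11Sym5a
import Cfsg.Agent.S0384

/-!
# The stabilizer of a pair of points off a dodecad in a point stabilizer of the dodecad group
-/

set_option autoImplicit false
open scoped Pointwise
open Cfsg MulAction

namespace Cfsg.Agent.Lib.Helper1.M11Sym5

open Cfsg.Agent.Lib.Helper1 Cfsg.Agent.Lib.Helper1.M24

variable (d : Finset GolayPt) (p q q' : GolayPt)

/-- the group of the statement -/
abbrev G : Subgroup ↥M24 :=
  stabilizer M24 d ⊓ stabilizer M24 p ⊓ stabilizer M24 ({q, q'} : Finset GolayPt)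

theorem mem_G (g : ↥M24) : g ∈ G d p q q' ↔ (g : P24) • d = d ∧
    (g : P24) p = p ∧ (g : P24) • ({q, q'} : Finset GolayPt) = {q, q'} := by
  simp only [Subgroup.mem_inf, mem_stabilizer_iff, and_assoc]
  rfl

/-- what we know about the octad -/
structure Data (o : Finset GolayPt) : Prop where
  ho : o ∈ octads
  hp : p ∈ o
  hq : q ∈ o
  hq' : q' ∈ o
  h6 : (o ∩ d).card = 6
  huniq : ∀ o' ∈ octads, p ∈ o' → q ∈ o' → q' ∈ o' → (o' ∩ d).card = 6 → o' = o

variable {d p q q'}

theorem Data.sdiff {o : Finset GolayPt} (D : Data d p q q' o) (hq : q ∉ d) (hq' : q' ∉ d)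
    (hqq' : q ≠ q') : o \ d = {q, q'} := by
  symm
  apply Finset.eq_of_subset_of_card_le
  · intro x hx
    rw [Finset.mem_insert, Finset.mem_singleton] at hx
    rw [Finset.mem_sdiff]
    rcases hx with rfl | rfl
    · exact ⟨D.hq, hq⟩
    · exact ⟨D.hq', hq'⟩
  · have h1 := Finset.card_sdiff_add_card_inter o d
    rw [D.h6, D.ho.2] at h1
    rw [Finset.card_pair hqq']
    omega

theorem smul_eq_of_G {o : Finset GolayPt} (D : Data d p q q' o) {g : P24} (hg : g ∈ M24)
    (hd : g • d = d) (hp : g p = p) (hqq : g • ({q, q'} : Finset GolayPt) = {q, q'}) :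
    g • o = o := by
  have hmem : ∀ x ∈ ({q, q'} : Finset GolayPt), x ∈ g • o := by
    intro x hx
    rw [← hqq, Finset.mem_smul_finset] at hx
    obtain ⟨y, hy, rfl⟩ := hx
    apply Finset.smul_mem_smul_finset
    rw [Finset.mem_insert, Finset.mem_singleton] at hy
    rcases hy with rfl | rfl
    · exact D.hq
    · exact D.hq'
  apply D.huniq _ (smul_mem_octads hg D.ho)
  · have := Finset.smul_mem_smul_finset (a := g) D.hp
    rwa [Equiv.Perm.smul_def, hp] at this
  · exact hmem q (by simp)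
  · exact hmem q' (by simp)
  · have : g • o ∩ d = g • (o ∩ d) := by rw [Finset.smul_finset_inter, hd]
    rw [this, Finset.card_smul_finset, D.h6]

/-- the five points -/
def pent (d : Finset GolayPt) (p : GolayPt) (o : Finset GolayPt) : Finset GolayPt := (o ∩ d).erase p

theorem Data.card_pent {o : Finset GolayPt} (D : Data d p q q' o) (hp : p ∈ d) :
    (pent d p o).card = 5 := by
  unfold pent
  rw [Finset.card_erase_of_mem (Finset.mem_inter.mpr ⟨D.hp, hp⟩), D.h6]

theorem pent_sub_o (o : Finset GolayPt) : pent d p o ⊆ o :=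
  fun _ hx => (Finset.mem_inter.mp (Finset.mem_of_mem_erase hx)).1

theorem pent_sub_d (o : Finset GolayPt) : pent d p o ⊆ d :=
  fun _ hx => (Finset.mem_inter.mp (Finset.mem_of_mem_erase hx)).2

theorem smul_pent {o : Finset GolayPt} {g : P24} (hd : g • d = d) (hp : g p = p)
    (ho : g • o = o) : g • pent d p o = pent d p o := by
  unfold pent
  ext x
  rw [mem_smul_iff', Finset.mem_erase, Finset.mem_erase, ← mem_smul_iff', Finset.smul_finset_inter,
    ho, hd]
  constructor
  · rintro ⟨h1, h2⟩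
    refine ⟨fun h => h1 ?_, h2⟩
    rw [h, Equiv.Perm.inv_eq_iff_eq, hp]
  · rintro ⟨h1, h2⟩
    refine ⟨fun h => h1 ?_, h2⟩
    rw [Equiv.Perm.inv_eq_iff_eq] at h
    rw [h, hp]

theorem apply_mem_pent_iff {o : Finset GolayPt} {g : P24} (h : g • pent d p o = pent d p o)
    (x : GolayPt) : g x ∈ pent d p o ↔ x ∈ pent d p o := by
  conv_lhs => rw [← h]
  exact Finset.smul_mem_smul_finset_iff g

/-- the action on the five points -/
def rho {o : Finset GolayPt} (D : Data d p q q' o) :
    G d p q q' →* Equiv.Perm {x : GolayPt // x ∈ pent d p o} where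
  toFun g := Equiv.Perm.subtypePerm ((g : ↥M24) : P24) (fun x => apply_mem_pent_iff
    (smul_pent ((mem_G d p q q' g.1).1 g.2).1 ((mem_G d p q q' g.1).1 g.2).2.1
      (smul_eq_of_G D g.1.2 ((mem_G d p q q' g.1).1 g.2).1 ((mem_G d p q q' g.1).1 g.2).2.1
        ((mem_G d p q q' g.1).1 g.2).2.2)) x)
  map_one' := rfl
  map_mul' _ _ := rfl

theorem rho_apply {o : Finset GolayPt} (D : Data d p q q' o) (g : G d p q q')
    (x : {x : GolayPt // x ∈ pent d p o}) : (rho D g x : GolayPt) = ((g : ↥M24) : P24) x.1 := rfl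

theorem rho_injective {o : Finset GolayPt} (D : Data d p q q' o) (hd : d ∈ dodecads) (hp : p ∈ d) :
    Function.Injective (rho D) := by
  rw [injective_iff_map_eq_one]
  intro g hg
  have hcard : Fintype.card {x : GolayPt // x ∈ pent d p o} = 5 := by
    rw [Fintype.card_coe, D.card_pent hp]
  let e : Fin 5 ≃ {x : GolayPt // x ∈ pent d p o} := (Fintype.equivFinOfCardEq hcard).symm
  let x : Fin 5 ↪ GolayPt := e.toEmbedding.trans (Function.Embedding.subtype _)
  have hx : ∀ i, x i ∈ d := fun i => pent_sub_d o (e i).2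
  obtain ⟨g0, _, huniq⟩ := Cfsg.Agent.S0384.result d hd x x hx hx
  have h1 := huniq ⟨g.1, ((Subgroup.mem_inf.mp (Subgroup.mem_inf.mp g.2).1).1)⟩ (by
    intro i
    have := congrArg (fun f => ((f (e i) : {x : GolayPt // x ∈ pent d p o}) : GolayPt)) hg
    exact this)
  have h2 := huniq 1 (fun i => rfl)
  have h3 := h1.trans h2.symm
  apply Subtype.ext
  exact congrArg (fun w : stabilizer M24 d => (w : ↥M24)) h3

theorem rho_surjective {o : Finset GolayPt} (D : Data d p q q' o) (hd : d ∈ dodecads) (hp : p ∈ d)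
    (hq : q ∉ d) (hq' : q' ∉ d) (hqq' : q ≠ q') : Function.Surjective (rho D) := by
  intro π
  have hcard : Fintype.card {x : GolayPt // x ∈ pent d p o} = 5 := by
    rw [Fintype.card_coe, D.card_pent hp]
  let e : Fin 5 ≃ {x : GolayPt // x ∈ pent d p o} := (Fintype.equivFinOfCardEq hcard).symm
  let x : Fin 5 ↪ GolayPt := e.toEmbedding.trans (Function.Embedding.subtype _)
  let y : Fin 5 ↪ GolayPt := (e.trans π).toEmbedding.trans (Function.Embedding.subtype _)
  have hx : ∀ i, x i ∈ d := fun i => pent_sub_d o (e i).2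
  have hy : ∀ i, y i ∈ d := fun i => pent_sub_d o (π (e i)).2
  obtain ⟨g0, hg0, -⟩ := Cfsg.Agent.S0384.result d hd x y hx hy
  have hg0' : ∀ i, ((g0 : ↥M24) : P24) (e i).1 = (π (e i)).1 := hg0
  have hgd : ((g0 : ↥M24) : P24) • d = d := mem_stabilizer_iff.mp g0.2
  -- the five points are preserved
  have hB : ((g0 : ↥M24) : P24) • pent d p o = pent d p o := by
    apply Finset.eq_of_subset_of_card_le
    · intro z hz
      rw [Finset.mem_smul_finset] at hz
      obtain ⟨b, hb, rfl⟩ := hz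
      obtain ⟨i, hi⟩ := e.surjective ⟨b, hb⟩
      have : b = (e i).1 := by rw [hi]
      rw [this, Equiv.Perm.smul_def, hg0']
      exact (π (e i)).2
    · rw [Finset.card_smul_finset]
  -- hence the octad
  have ho : ((g0 : ↥M24) : P24) • o = o := by
    refine octads_unique (smul_mem_octads g0.1.2 D.ho) D.ho (D.card_pent hp) ?_ (pent_sub_o o)
    rw [← hB]
    exact Finset.smul_finset_subset_smul_finset (pent_sub_o o)
  have hh : ((g0 : ↥M24) : P24) • (o ∩ d) = o ∩ d := by
    rw [Finset.smul_finset_inter, ho, hgd]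
  have hpfix : ((g0 : ↥M24) : P24) p = p := by
    have h1 : ((g0 : ↥M24) : P24) p ∈ o ∩ d := by
      rw [← hh]
      exact Finset.smul_mem_smul_finset (Finset.mem_inter.mpr ⟨D.hp, hp⟩)
    by_contra hne
    have h2 : ((g0 : ↥M24) : P24) p ∈ pent d p o := Finset.mem_erase.mpr ⟨hne, h1⟩
    rw [apply_mem_pent_iff hB] at h2
    exact (Finset.notMem_erase p _) h2
  have hpair : ((g0 : ↥M24) : P24) • ({q, q'} : Finset GolayPt) = {q, q'} := by
    rw [← D.sdiff hq hq' hqq', Finset.smul_finset_sdiff, ho, hgd]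
  have hmem : (g0 : ↥M24) ∈ G d p q q' := (mem_G d p q q' _).2 ⟨hgd, hpfix, hpair⟩
  refine ⟨⟨g0.1, hmem⟩, ?_⟩
  apply Equiv.ext
  intro b
  apply Subtype.ext
  obtain ⟨i, rfl⟩ := e.surjective b
  rw [rho_apply]
  exact hg0' i

theorem main (d : Finset GolayPt) (hd : d ∈ dodecads) (p q q' : GolayPt) (hp : p ∈ d)
    (hq : q ∉ d) (hq' : q' ∉ d) (hqq' : q ≠ q') :
    Nonempty (↥(G d p q q') ≃* Equiv.Perm (Fin 5)) := by
  obtain ⟨o, h1, h2, h3, h4, h5, h6⟩ := pairOct_general d hd p q q' hp hq hq' hqq'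
  have D : Data d p q q' o := ⟨h1, h2, h3, h4, h5, h6⟩
  have hcard : Fintype.card {x : GolayPt // x ∈ pent d p o} = 5 := by
    rw [Fintype.card_coe, D.card_pent hp]
  exact ⟨(MulEquiv.ofBijective (rho D) ⟨rho_injective D hd hp,
    rho_surjective D hd hp hq hq' hqq'⟩).trans
    (Fintype.equivFinOfCardEq hcard).permCongrHom⟩

end Cfsg.Agent.Lib.Helper1.M11Sym5
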