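import Cfsg.Agent.Lib.Helper1.M12CovC
import Cfsg.Agent.Lib.Helper1.M12Mult

/-!
# A double cover of the Mathieu group of degree 12
-/

set_option autoImplicit false
set_option maxRecDepth 100000

namespace Cfsg.Agent.Lib.Helper1.M12C

open Cfsg Cfsg.Agent.Lib.Helper1 Cfsg.Agent.Lib.Helper1.PermCode Cfsg.Agent.Lib.Helper1.MatCode MulAction
open Cfsg.Agent.Lib.Helper9.M24 (tperm tabOK tget tperm_ptOfNat ptOfNat natOfPt natOfPt_ptOfNat
  natOfPt_lt ptOfNat_natOfPt natOfPt_eq_gIdx natOfPt_tperm forall_pt_iff tget_lt)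
open Cfsg.Agent.Lib.Helper1.M24 (P24)

open scoped commutatorElement

/-! ### the generators -/

theorem split3 {a b c : Bool} (h : (a && b && c) = true) : a = true ∧ b = true ∧ c = true := by
  rw [Bool.and_eq_true, Bool.and_eq_true] at h
  exact ⟨h.1.1, h.1.2, h.2⟩

/-- the generators of the cover and the central involution -/
def x0 : P24 := tperm tC0
def x1 : P24 := tperm tC1
def x2 : P24 := tperm tC2
def xz : P24 := tperm tZ

theorem phi_x0 : phi x0 = PD cC0 := phi_tperm (split3 ok_0).1 (split3 ok_0).2.1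
theorem phi_x1 : phi x1 = PD cC1 := phi_tperm (split3 ok_1).1 (split3 ok_1).2.1
theorem phi_x2 : phi x2 = PD cC2 := phi_tperm (split3 ok_2).1 (split3 ok_2).2.1
theorem phi_xz : phi xz = PD cZ := phi_tperm (split3 ok_Z).1 (split3 ok_Z).2.1
theorem can_0 : PCanon cC0 := canon_of_pcanonB (split3 ok_0).2.2
theorem can_1 : PCanon cC1 := canon_of_pcanonB (split3 ok_1).2.2
theorem can_2 : PCanon cC2 := canon_of_pcanonB (split3 ok_2).2.2
theorem can_Z : PCanon cZ := canon_of_pcanonB (split3 ok_Z).2.2

/-- the cover as a group of permutations -/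
def Gam1 : Subgroup P24 := Subgroup.closure {x0, x1, x2}

theorem T_canon (k : ℕ) (hk : k < 3456) : PCanon (Tf k) := by
  have h := T_can
  rw [List.all_eq_true] at h
  exact permSysF.hCB _ (h k (List.mem_range.mpr hk))

theorem can3 : ∀ s ∈ [cC0, cC1, cC2], PCanon s := by
  intro s hs
  simp only [List.mem_cons, List.not_mem_nil, or_false] at hs
  rcases hs with rfl | rfl | rfl
  · exact can_0
  · exact can_1
  · exact can_2

theorem can2 : ∀ s ∈ [cC0, cC1], PCanon s := fun s hs => can3 s (by
  simp only [List.mem_cons, List.not_mem_nil, or_false] at hs ⊢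
  rcases hs with rfl | rfl
  · exact Or.inl rfl
  · exact Or.inr (Or.inl rfl))

theorem A_mul_closed : ∀ a ∈ A, ∀ a' ∈ A, ∃ a'' ∈ A, PD a * PD a' = PD a'' := by
  apply mul_closed PD A [cC0, cC1]
  · intro s hs
    have hrcA := rc_A
    rw [List.all_eq_true] at hrcA
    exact chkRC_sound PD pmu2 PCanon permSysF.hmu (can2 s hs) (hrcA s hs)
  · apply chkTree_sound PD pmu2 PCanon permSysF.hmu can2 _ tree_A
    rw [A_zero]; exact PD_pc1

theorem step_all : ∀ s ∈ [cC0, cC1, cC2], ∀ t ∈ tab Tf 3456, ∃ a ∈ A, ∃ t' ∈ tab Tf 3456,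
    PD t * PD s = PD a * PD t' := by
  intro s hs
  simp only [List.mem_cons, List.not_mem_nil, or_false] at hs
  rcases hs with rfl | rfl | rfl
  · exact chkStepF_sound PD pmu2 PCanon permSysF.hmu can_0 T_canon step_0
  · exact chkStepF_sound PD pmu2 PCanon permSysF.hmu can_1 T_canon step_1
  · exact chkStepF_sound PD pmu2 PCanon permSysF.hmu can_2 T_canon step_2

/-- every element of the cover is a product of an element of the first list and a member of the
transversal -/
theorem decomp1 (g : P24) (hg : g ∈ Gam1) :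
    ∃ a ∈ A, ∃ k, k < 3456 ∧ phi g = PD (pmu2 a (Tf k)) := by
  have h1 : (1 : Function.End (Fin 24)) ∈ AT PD A (tab Tf 3456) := by
    refine ⟨pc1, ?_, pc1, mem_tab.mpr ⟨0, by norm_num, T_zero⟩, by rw [PD_pc1, one_mul]⟩
    rw [← A_zero, List.getD_eq_getElem _ _ (by decide)]
    exact List.getElem_mem _
  have hSG : ∀ u ∈ ({x0, x1, x2} : Set P24), ∀ q ∈ AT PD A (tab Tf 3456),
      q * phi u ∈ AT PD A (tab Tf 3456) := by
    intro u hu q hq
    simp only [Set.mem_insert_iff, Set.mem_singleton_iff] at hu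
    rcases hu with rfl | rfl | rfl
    · rw [phi_x0]
      exact closure_subset PD A (tab Tf 3456) [cC0, cC1, cC2] A_mul_closed step_all cC0 (by simp) q hq
    · rw [phi_x1]
      exact closure_subset PD A (tab Tf 3456) [cC0, cC1, cC2] A_mul_closed step_all cC1 (by simp) q hq
    · rw [phi_x2]
      exact closure_subset PD A (tab Tf 3456) [cC0, cC1, cC2] A_mul_closed step_all cC2 (by simp) q hq
  obtain ⟨a, ha, t, ht, h2⟩ :=
    subgroup_closure_subset phi (AT_finite PD A (tab Tf 3456)) h1 _ hSG g hg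
  obtain ⟨k, hk, rfl⟩ := mem_tab.mp ht
  exact ⟨a, ha, k, hk, by rw [h2]; exact (permSysF.hmu a (Tf k) (T_canon k hk)).symm⟩

/-! ### the blocks -/

/-- the point of the dodecad under a signed point -/
def blk (q : GolayPt) : GolayPt := ptOfNat (blkT.getD (natOfPt q) 0)

theorem blkT_lt (i : ℕ) (hi : i < 24) : blkT.getD i 0 < 24 := by
  have h := blk_lt
  rw [List.all_eq_true] at h
  exact of_decide_eq_true (h i (List.mem_range.mpr hi))

/-- compatibility of a table of the cover with a table of the group -/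
theorem compat_of_chk {s t : List ℕ} (hs : tabOK s = true) (ht : tabOK t = true)
    (h : (List.range 24).all (fun q => blkT.getD (tget s q) 0 == tget t (blkT.getD q 0)) = true)
    (q : GolayPt) : blk (tperm s q) = tperm t (blk q) := by
  revert q
  rw [forall_pt_iff]
  intro i hi
  rw [List.all_eq_true] at h
  have h1 := h i (List.mem_range.mpr hi)
  rw [beq_iff_eq] at h1
  unfold blk
  rw [natOfPt_tperm hs, natOfPt_ptOfNat i hi, tperm_ptOfNat ht (blkT_lt i hi), h1]

/-- a permutation fixing all the blocks whose image has the code `c` -/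
theorem blkFix_of (g : P24) (c : ℕ) (hg : phi g = PD c) (h : ∀ q, blk (g q) = blk q) :
    blkFixB c = true := by
  unfold blkFixB
  rw [List.all_eq_true]
  intro i hi
  have hi' : i < 24 := List.mem_range.mp hi
  rw [beq_iff_eq]
  have h1 := h (gUnidx i)
  unfold blk at h1
  rw [natOfPt_eq_gIdx, gIdx_gUnidx i hi'] at h1
  have h2 : gIdx (g (gUnidx i)) = pd c i % 24 := by
    have := congrArg (fun f : Function.End (Fin 24) => ((f ⟨i, hi'⟩ : Fin 24) : ℕ)) hg
    exact this
  rw [h2] at h1
  have h3 := congrArg natOfPt h1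
  rwa [natOfPt_ptOfNat _ (blkT_lt _ (Nat.mod_lt _ (by norm_num))), natOfPt_ptOfNat _ (blkT_lt _ hi')] at h3

/-- an element of the cover fixing all the blocks is trivial or the central involution -/
theorem eq_one_or_of_blkFix (g : P24) (hg : g ∈ Gam1) (h : ∀ q, blk (g q) = blk q) :
    g = 1 ∨ g = xz := by
  obtain ⟨a, ha, k, hk, hphi⟩ := decomp1 g hg
  have h1 := blkFix_of g _ hphi h
  have h2 := ker_chk
  rw [List.all_eq_true] at h2
  have h3 := h2 a ha
  rw [List.all_eq_true] at h3
  have h4 := h3 k (List.mem_range.mpr hk)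
  rw [h1] at h4
  simp only [Bool.not_true, Bool.false_or, Bool.or_eq_true, beq_iff_eq] at h4
  rcases h4 with h5 | h5
  · left
    apply phi_injective
    rw [hphi, h5, PD_pc1, map_one]
  · right
    apply phi_injective
    rw [hphi, h5, phi_xz]

end Cfsg.Agent.Lib.Helper1.M12C
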