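import Cfsg.Agent.Lib.Helper1.M12Cov

/-!
# A double cover of the Mathieu group of degree 12: the stem extension
-/

set_option autoImplicit false
set_option maxRecDepth 100000

namespace Cfsg.Agent.Lib.Helper1.M12C

open Cfsg Cfsg.Agent.Lib.Helper1 Cfsg.Agent.Lib.Helper1.PermCode Cfsg.Agent.Lib.Helper1.MatCode MulAction
open Cfsg.Agent.Lib.Helper9.M24 (tperm tabOK tget tperm_ptOfNat ptOfNat natOfPt natOfPt_ptOfNat
  natOfPt_lt ptOfNat_natOfPt natOfPt_eq_gIdx natOfPt_tperm forall_pt_iff tget_lt)
open Cfsg.Agent.Lib.Helper1.M24 (P24)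
open Cfsg.Agent.Lib.Helper1.M12O (tP tH gp gh chk_P chk_H)
open Cfsg.Agent.Lib.Helper1.M12M (tY gy chk_Y)

open scoped commutatorElement

/-- the cover: pairs of a permutation of the 24 signed points in the group generated by the three
generators, and an element of the Mathieu group inducing the same permutation of the blocks -/
def Gam : Subgroup (P24 × ↥Cfsg.Spor.M12) where
  carrier := {p | p.1 ∈ Gam1 ∧ ∀ q, blk (p.1 q) = p.2.1 (blk q)}
  mul_mem' := by
    rintro ⟨x, g⟩ ⟨x', g'⟩ ⟨h1, h2⟩ ⟨h1', h2'⟩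
    refine ⟨Gam1.mul_mem h1 h1', fun q => ?_⟩
    show blk (x (x' q)) = g.1 (g'.1 (blk q))
    rw [h2, h2']
  one_mem' := ⟨Gam1.one_mem, fun _ => rfl⟩
  inv_mem' := by
    rintro ⟨x, g⟩ ⟨h1, h2⟩
    refine ⟨Gam1.inv_mem h1, fun q => ?_⟩
    show blk (x⁻¹ q) = g.1⁻¹ (blk q)
    have h3 : blk (x (x⁻¹ q)) = g.1 (blk (x⁻¹ q)) := h2 (x⁻¹ q)
    have e1 : x (x⁻¹ q) = q := by rw [← Equiv.Perm.mul_apply, mul_inv_cancel]; rfl
    rw [e1] at h3
    rw [h3, ← Equiv.Perm.mul_apply, inv_mul_cancel]; rfl

/-- the projection to the Mathieu group -/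
def sig : ↥Gam →* ↥Cfsg.Spor.M12 := (MonoidHom.snd P24 ↥Cfsg.Spor.M12).comp Gam.subtype

theorem sig_apply (p : ↥Gam) : sig p = p.1.2 := rfl

theorem compat_all : ∀ p ∈ [(tC0, tP), (tC1, tH), (tC2, tY)],
    (List.range 24).all (fun q => blkT.getD (tget p.1 q) 0 == tget p.2 (blkT.getD q 0)) = true := by
  have h := compat_chk
  rw [List.all_eq_true] at h
  exact h

theorem okP : tabOK tP = true := (chkTab_sound (chkM12_tab chk_P)).1
theorem okH : tabOK tH = true := (chkTab_sound (chkM12_tab chk_H)).1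
theorem okY : tabOK tY = true := (chkTab_sound (chkM12_tab chk_Y)).1

/-- the three generators of the cover -/
def P0 : ↥Gam := ⟨(x0, gp), Subgroup.subset_closure (by simp),
  compat_of_chk (split3 ok_0).1 okP (compat_all (tC0, tP) (by simp))⟩
def P1 : ↥Gam := ⟨(x1, gh), Subgroup.subset_closure (by simp),
  compat_of_chk (split3 ok_1).1 okH (compat_all (tC1, tH) (by simp))⟩
def P2 : ↥Gam := ⟨(x2, gy), Subgroup.subset_closure (by simp),
  compat_of_chk (split3 ok_2).1 okY (compat_all (tC2, tY) (by simp))⟩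

/-- the list of the generators -/
abbrev PP : List ↥Gam := [P0, P1, P2]

/-- the codes of the generators of the cover -/
abbrev cgens : List ℕ := [cC0, cC1, cC2]

/-- the first projection -/
def fstHom : ↥Gam →* P24 := (MonoidHom.fst P24 ↥Cfsg.Spor.M12).comp Gam.subtype

theorem fst_wordProd (w : List ℕ) : (wordProd PP w).1.1 = wordProd [x0, x1, x2] w := by
  rw [show (wordProd PP w).1.1 = fstHom (wordProd PP w) from rfl, map_wordProd']
  rfl

theorem snd_wordProd (w : List ℕ) : (wordProd PP w).1.2 = wordProd M12M.GG w := by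
  rw [show (wordProd PP w).1.2 = sig (wordProd PP w) from rfl, map_wordProd']
  rfl

theorem hXX : ∀ i, ∀ (h1 : i < [x0, x1, x2].length) (h2 : i < cgens.length),
    phi [x0, x1, x2][i] = permSysF.D cgens[i] :=
  hG3_of permSysF phi phi_x0 phi_x1 phi_x2

theorem hCX : ∀ c ∈ cgens, permSysF.C c := hcan3_of permSysF can_0 can_1 can_2

theorem phi_word (w : List ℕ) : phi (wordProd [x0, x1, x2] w) = PD (permSysF.ev cgens w) :=
  permSysF.phi_wordProd phi [x0, x1, x2] cgens rfl hXX hCX w

/-- equality of words in the cover from the equality of the codes on both sides -/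
theorem word_eq (w w' : List ℕ) (h1 : permSysF.ev cgens w = permSysF.ev cgens w')
    (h2 : permSysF.ev M12M.gens w = permSysF.ev M12M.gens w') : wordProd PP w = wordProd PP w' := by
  apply Subtype.ext
  apply Prod.ext
  · rw [fst_wordProd, fst_wordProd]
    apply phi_injective
    rw [phi_word, phi_word, h1]
  · rw [snd_wordProd, snd_wordProd]
    exact M12M.wv_eq _ _ h2

theorem z_word_M12 : permSysF.ev M12M.gens wZ = pc1 := by decide +kernel

theorem z_blk : (List.range 24).all (fun q => blkT.getD (tget tZ q) 0 == blkT.getD q 0) = true := by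
  decide +kernel

theorem perf_chk_M12 : (List.range 3).all (fun i =>
    let q := perfW.getD i ([], [], [], [])
    (permSysF.ev M12M.gens (q.1 ++ q.2.2.1) == pc1) &&
    (permSysF.ev M12M.gens (q.2.1 ++ q.2.2.2) == pc1) &&
    (permSysF.ev M12M.gens [i] ==
      permSysF.ev M12M.gens (q.1 ++ q.2.1 ++ q.2.2.1 ++ q.2.2.2))) = true := by
  decide +kernel

theorem xz_eq : xz = wordProd [x0, x1, x2] wZ := by
  apply phi_injective
  rw [phi_word, z_word, phi_xz]

theorem xz_mem : xz ∈ Gam1 := by
  rw [xz_eq]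
  unfold Gam1
  have : ∀ w : List ℕ, wordProd [x0, x1, x2] w ∈ Subgroup.closure ({x0, x1, x2} : Set P24) := by
    intro w
    induction w with
    | nil => rw [wordProd_nil]; exact Subgroup.one_mem _
    | cons i w ih =>
      rw [wordProd_cons]
      refine Subgroup.mul_mem _ ?_ ih
      by_cases hi : i < 3
      · interval_cases i
        · exact Subgroup.subset_closure (by simp)
        · exact Subgroup.subset_closure (by simp)
        · exact Subgroup.subset_closure (by simp)
      · rw [List.getD_eq_default _ _ (by simp; omega)]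
        exact Subgroup.one_mem _
  exact this _

theorem xz_blk (q : GolayPt) : blk (xz q) = blk q := by
  revert q
  rw [forall_pt_iff]
  intro i hi
  have h := z_blk
  rw [List.all_eq_true] at h
  have h1 := h i (List.mem_range.mpr hi)
  rw [beq_iff_eq] at h1
  unfold blk xz
  rw [natOfPt_tperm (split3 ok_Z).1, natOfPt_ptOfNat i hi, h1]

/-- the central involution of the cover -/
def Zel : ↥Gam := ⟨(xz, 1), xz_mem, xz_blk⟩

theorem Zel_eq : Zel = wordProd PP wZ := by
  apply Subtype.ext
  apply Prod.ext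
  · rw [fst_wordProd, ← xz_eq]; rfl
  · rw [snd_wordProd, M12M.wv_one _ z_word_M12]; rfl

theorem xz_ne_one : xz ≠ 1 := by
  intro h
  have h1 := congrArg phi h
  rw [phi_xz, map_one, ← PD_pc1] at h1
  exact permSysF.ne_of_code_ne can_Z permSysF.C_c1 (by decide +kernel) h1

theorem Zel_ne_one : Zel ≠ 1 := by
  intro h
  apply xz_ne_one
  have := congrArg (fun p : ↥Gam => p.1.1) h
  exact this

/-- the kernel of the projection -/
theorem ker_cases (p : ↥Gam) (hp : sig p = 1) : p = 1 ∨ p = Zel := by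
  obtain ⟨⟨x, g⟩, h1, h2⟩ := p
  have hg : g = 1 := hp
  subst hg
  have h3 : ∀ q, blk (x q) = blk q := h2
  rcases eq_one_or_of_blkFix x h1 h3 with rfl | rfl
  · left; rfl
  · right; rfl

theorem comm_xz (x : P24) (hx : x ∈ Gam1) : x * xz = xz * x := by
  have hle : Gam1 ≤ Subgroup.centralizer {xz} := by
    unfold Gam1
    rw [Subgroup.closure_le]
    intro u hu
    rw [SetLike.mem_coe, Subgroup.mem_centralizer_iff]
    intro y hy
    rw [Set.mem_singleton_iff] at hy
    subst hy
    have h := cen_chk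
    rw [List.all_eq_true] at h
    simp only [Set.mem_insert_iff, Set.mem_singleton_iff] at hu
    apply phi_injective
    rcases hu with rfl | rfl | rfl
    · have h1 := h cC0 (by simp)
      rw [beq_iff_eq] at h1
      have e1 : PD cZ * PD cC0 = PD (pmu2 cZ cC0) := (permSysF.hmu cZ cC0 can_0).symm
      have e2 : PD cC0 * PD cZ = PD (pmu2 cC0 cZ) := (permSysF.hmu cC0 cZ can_Z).symm
      rw [map_mul, map_mul, phi_xz, phi_x0, e1, e2, h1]
    · have h1 := h cC1 (by simp)
      rw [beq_iff_eq] at h1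
      have e1 : PD cZ * PD cC1 = PD (pmu2 cZ cC1) := (permSysF.hmu cZ cC1 can_1).symm
      have e2 : PD cC1 * PD cZ = PD (pmu2 cC1 cZ) := (permSysF.hmu cC1 cZ can_Z).symm
      rw [map_mul, map_mul, phi_xz, phi_x1, e1, e2, h1]
    · have h1 := h cC2 (by simp)
      rw [beq_iff_eq] at h1
      have e1 : PD cZ * PD cC2 = PD (pmu2 cZ cC2) := (permSysF.hmu cZ cC2 can_2).symm
      have e2 : PD cC2 * PD cZ = PD (pmu2 cC2 cZ) := (permSysF.hmu cC2 cZ can_Z).symm
      rw [map_mul, map_mul, phi_xz, phi_x2, e1, e2, h1]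
  have := Subgroup.mem_centralizer_iff.mp (hle hx) xz rfl
  exact this.symm

theorem Zel_central : Zel ∈ Subgroup.center ↥Gam := by
  rw [Subgroup.mem_center_iff]
  rintro ⟨⟨x, g⟩, h1, h2⟩
  apply Subtype.ext
  apply Prod.ext
  · exact comm_xz x h1
  · show g * 1 = 1 * g
    rw [mul_one, one_mul]

theorem gen_mem_commutator (i : ℕ) (hi : i < 3) : wordProd PP [i] ∈ commutator ↥Gam := by
  have h := perf_chk
  have h' := perf_chk_M12
  rw [List.all_eq_true] at h h'
  have h1 := h i (List.mem_range.mpr hi)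
  have h1' := h' i (List.mem_range.mpr hi)
  simp only [Bool.and_eq_true, beq_iff_eq] at h1 h1'
  obtain ⟨⟨ha, hb⟩, hc⟩ := h1
  obtain ⟨⟨ha', hb'⟩, hc'⟩ := h1'
  set q := perfW.getD i ([], [], [], []) with hq
  have e1 : wordProd PP ([] : List ℕ) = 1 := wordProd_nil _
  have ev1 : ∀ gs : List ℕ, permSysF.ev gs [] = pc1 := fun _ => rfl
  have hai : (wordProd PP q.1)⁻¹ = wordProd PP q.2.2.1 := by
    apply inv_eq_of_mul_eq_one_right
    rw [← wordProd_append, ← e1]
    exact word_eq _ _ (by rw [ha, ev1]) (by rw [ha', ev1])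
  have hbi : (wordProd PP q.2.1)⁻¹ = wordProd PP q.2.2.2 := by
    apply inv_eq_of_mul_eq_one_right
    rw [← wordProd_append, ← e1]
    exact word_eq _ _ (by rw [hb, ev1]) (by rw [hb', ev1])
  have e : wordProd PP [i] = ⁅wordProd PP q.1, wordProd PP q.2.1⁆ := by
    rw [commutatorElement_def, hai, hbi, ← wordProd_append, ← wordProd_append, ← wordProd_append]
    exact word_eq _ _ hc hc'
  rw [e]
  exact Subgroup.commutator_mem_commutator (Subgroup.mem_top _) (Subgroup.mem_top _)

theorem word_mem_commutator (w : List ℕ) : wordProd PP w ∈ commutator ↥Gam := by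
  induction w with
  | nil => rw [wordProd_nil]; exact Subgroup.one_mem _
  | cons i w ih =>
    rw [wordProd_cons]
    refine Subgroup.mul_mem _ ?_ ih
    by_cases hi : i < 3
    · have := gen_mem_commutator i hi
      rwa [wordProd_cons, wordProd_nil, mul_one] at this
    · rw [List.getD_eq_default _ _ (by simp; omega)]
      exact Subgroup.one_mem _

theorem sig_surjective : Function.Surjective sig := by
  rw [← MonoidHom.range_eq_top, eq_top_iff, ← M12M.hgen, Subgroup.closure_le]
  rintro g ⟨i, hi, rfl⟩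
  have hi' : i < 3 := hi
  interval_cases i
  · exact ⟨P0, show sig P0 = gp from rfl⟩
  · exact ⟨P1, show sig P1 = gh from rfl⟩
  · exact ⟨P2, show sig P2 = gy from rfl⟩

theorem sig_isStem : Cfsg.IsStemExtension sig := by
  refine ⟨sig_surjective, ?_, ?_⟩
  · intro p hp
    rcases ker_cases p (MonoidHom.mem_ker.mp hp) with rfl | rfl
    · exact Subgroup.one_mem _
    · exact Zel_central
  · intro p hp
    rcases ker_cases p (MonoidHom.mem_ker.mp hp) with rfl | rfl
    · exact Subgroup.one_mem _
    · rw [Zel_eq]; exact word_mem_commutator _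

theorem Zel_mem_ker : Zel ∈ sig.ker := by
  rw [MonoidHom.mem_ker]; rfl

theorem card_ker : Nat.card sig.ker = 2 := by
  rw [Nat.card_eq_two_iff]
  refine ⟨1, ⟨Zel, Zel_mem_ker⟩, ?_, ?_⟩
  · intro h
    exact Zel_ne_one (congrArg Subtype.val h).symm
  · ext p
    simp only [Set.mem_insert_iff, Set.mem_singleton_iff, Set.mem_univ, iff_true]
    rcases ker_cases p.1 (MonoidHom.mem_ker.mp p.2) with h | h
    · left; exact Subtype.ext h
    · right; exact Subtype.ext h

instance : Finite ↥Gam := inferInstance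

end Cfsg.Agent.Lib.Helper1.M12C
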