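import Cfsg.Agent.Lib.Helper1.M12CovD
import Cfsg.Agent.Lib.Helper1.M12MultD
import Cfsg.Agent.Lib.Helper1.M12OutD
import Cfsg.Agent.Lib.Helper1.CodeSys6

/-!
# Checks for a double cover of the Mathieu group of degree 12
-/

set_option autoImplicit false
set_option maxRecDepth 100000

namespace Cfsg.Agent.Lib.Helper1.M12C

open Cfsg.Agent.Lib.Helper1 Cfsg.Agent.Lib.Helper1.PermCode Cfsg.Agent.Lib.Helper1.MatCode
open Cfsg.Agent.Lib.Helper9.M24 (tabOK tget)

/-- the code fixes every block -/
def blkFixB (c : ℕ) : Bool :=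
  (List.range 24).all (fun i => blkT.getD (pd c i % 24) 0 == blkT.getD i 0)

theorem ok_0 : (tabOK tC0 && tabCode tC0 cC0 && pcanonB cC0) = true := by decide +kernel
theorem ok_1 : (tabOK tC1 && tabCode tC1 cC1 && pcanonB cC1) = true := by decide +kernel
theorem ok_2 : (tabOK tC2 && tabCode tC2 cC2 && pcanonB cC2) = true := by decide +kernel
theorem ok_Z : (tabOK tZ && tabCode tZ cZ && pcanonB cZ) = true := by decide +kernel

theorem A_zero : A.getD 0 0 = pc1 := by decide +kernel
theorem A_can : A.all permSysF.CB = true := by decide +kernel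
theorem T_zero : Tf 0 = pc1 := by decide +kernel
theorem T_can : (List.range 3456).all (fun k => permSysF.CB (Tf k)) = true := by decide +kernel
theorem rc_A : [cC0, cC1].all (fun s => chkRC pmu2 A s) = true := by decide +kernel
theorem tree_A : chkTree pmu2 A [cC0, cC1] parA = true := by decide +kernel
theorem step_0 : chkStepF pmu2 A Tf 3456 cC0 cf0 = true := by decide +kernel
theorem step_1 : chkStepF pmu2 A Tf 3456 cC1 cf1 = true := by decide +kernel
theorem step_2 : chkStepF pmu2 A Tf 3456 cC2 cf2 = true := by decide +kernel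

theorem compat_chk : [(tC0, M12O.tP), (tC1, M12O.tH), (tC2, M12M.tY)].all (fun p =>
    (List.range 24).all fun q => blkT.getD (tget p.1 q) 0 == tget p.2 (blkT.getD q 0)) = true := by
  decide +kernel

theorem blk_lt : (List.range 24).all (fun q => decide (blkT.getD q 0 < 24)) = true := by decide +kernel

theorem ker_chk : A.all (fun a => (List.range 3456).all fun k =>
    !(blkFixB (pmu2 a (Tf k))) || pmu2 a (Tf k) == pc1 || pmu2 a (Tf k) == cZ) = true := by
  decide +kernel

theorem cen_chk : [cC0, cC1, cC2].all (fun c => pmu2 c cZ == pmu2 cZ c) = true := by decide +kernel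

theorem z_word : permSysF.ev [cC0, cC1, cC2] wZ = cZ := by decide +kernel

theorem perf_chk : (List.range 3).all (fun i =>
    let q := perfW.getD i ([], [], [], [])
    (permSysF.ev [cC0, cC1, cC2] (q.1 ++ q.2.2.1) == pc1) &&
    (permSysF.ev [cC0, cC1, cC2] (q.2.1 ++ q.2.2.2) == pc1) &&
    (permSysF.ev [cC0, cC1, cC2] [i] ==
      permSysF.ev [cC0, cC1, cC2] (q.1 ++ q.2.1 ++ q.2.2.1 ++ q.2.2.2))) = true := by
  decide +kernel

end Cfsg.Agent.Lib.Helper1.M12C
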