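import Mathlib

set_option autoImplicit false

namespace Cfsg.Agent.Lib.Helper1.M24M

def tX3 : List ℕ := [8, 0, 13, 4, 6, 11, 3, 5, 1, 16, 22, 7, 9, 18, 23, 19, 12, 14, 2, 21, 10, 15, 20, 17]
def tY3 : List ℕ := [8, 18, 1, 13, 0, 11, 3, 5, 4, 12, 14, 7, 16, 6, 17, 20, 9, 10, 2, 23, 22, 19, 15, 21]
def tT3 : List ℕ := [8, 1, 18, 6, 4, 7, 3, 5, 0, 16, 10, 11, 12, 13, 17, 15, 9, 14, 2, 21, 22, 19, 20, 23]
def cX3 : ℕ := 732735840775960511447856552846963720
def cY3 : ℕ := 892576519329761905757786802775033416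
def cT3 : ℕ := 982143561065879032119436960730400808
def wc3 : List ℕ := [0, 1, 0, 0, 1, 1]
def ws27 : List (List ℕ) := [[0], [0, 0], [1], [0, 1], [0, 0, 1], [1, 1], [0, 1, 1], [0, 0, 1, 1], [0, 1, 0, 0, 1, 1], [0, 0, 1, 0, 0, 1, 1], [0, 0, 0, 1, 0, 0, 1, 1], [1, 0, 1, 0, 0, 1, 1], [0, 1, 0, 1, 0, 0, 1, 1], [0, 0, 1, 0, 1, 0, 0, 1, 1], [1, 1, 0, 1, 0, 0, 1, 1], [0, 1, 1, 0, 1, 0, 0, 1, 1], [0, 0, 1, 1, 0, 1, 0, 0, 1, 1], [0, 1, 0, 0, 1, 1, 0, 1, 0, 0, 1, 1], [0, 0, 1, 0, 0, 1, 1, 0, 1, 0, 0, 1, 1], [0, 0, 0, 1, 0, 0, 1, 1, 0, 1, 0, 0, 1, 1], [1, 0, 1, 0, 0, 1, 1, 0, 1, 0, 0, 1, 1], [0, 1, 0, 1, 0, 0, 1, 1, 0, 1, 0, 0, 1, 1], [0, 0, 1, 0, 1, 0, 0, 1, 1, 0, 1, 0, 0, 1, 1], [1, 1, 0, 1, 0, 0, 1, 1, 0, 1, 0, 0, 1, 1], [0, 1, 1, 0, 1, 0, 0, 1, 1, 0, 1, 0, 0, 1, 1], [0, 0, 1, 1, 0, 1, 0, 0, 1, 1, 0, 1, 0, 0, 1, 1]]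
def L27 : List ℕ := [984818244535754528103549039458486304, 732735840775960511447856552846963720, 595317221386284171358538256262318337, 892576519329761905757786802775033416, 648616937721000595807566695070498881, 817110407467849866843631507639181728, 816143446081334717717264216283629636, 886000896780766914499045178918144422, 652228547126092202373766988622345795, 440642368630674567276743090786012594, 942056370310040539816189658755273282, 850953214346927190552703807011166285, 612107042827021210688556072695903426, 978045288967196471133973084442413165, 725278217903280146745635803338213522, 733847306903236244473093500860110945, 601923271263512911800231721851686016, 980875752327277507354702311701123272, 645972800430061596114478669734420614, 807837768670943552487528798597055683, 903075953223886513923312581853380708, 844662820610614969005845578384445443, 444771179480653203725002788333164804, 940241368003154801372902122626223142, 932639232962073431943583484327035149, 861422228340458470363505976489877554,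 438329100525780770555707076251124738]

end Cfsg.Agent.Lib.Helper1.M24M
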