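import Cfsg.Agent.Lib.Helper1.M12OutD

/-!
# Checks for the automorphisms of a group of permutations of the 24 points (M12, part 3)
-/

set_option autoImplicit false
set_option maxRecDepth 100000

namespace Cfsg.Agent.Lib.Helper1.M12O

open Cfsg Cfsg.Agent.Lib.Helper1 Cfsg.Agent.Lib.Helper1.PermCode Cfsg.Agent.Lib.Helper1.MatCode

theorem step_H : chkStepFixL pmu2 A Tf 1728 cH cfH FixH = true := by decide +kernel

end Cfsg.Agent.Lib.Helper1.M12O
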