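import Cfsg.Agent.Lib.Helper1.M12OutD
import Cfsg.Agent.Lib.Helper1.CodeSys6

/-!
# Checks for the automorphisms of a group of permutations of the 24 points (M12, part 5)
-/

set_option autoImplicit false
set_option maxRecDepth 100000

namespace Cfsg.Agent.Lib.Helper1.M12O

open Cfsg Cfsg.Agent.Lib.Helper1 Cfsg.Agent.Lib.Helper1.PermCode Cfsg.Agent.Lib.Helper1.MatCode

theorem sub_2 : permSysF.subChkT [cP, cH, cV] ws2 Q2 parQ2 = true := by decide +kernel

theorem len_Q2 : Q2.length = 64 := by decide +kernel

theorem sub_3 : permSysF.subChkT [cP, cH, cV] ws3 Q3 parQ3 = true := by decide +kernel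

theorem len_Q3 : Q3.length = 27 := by decide +kernel

theorem ord_5 : permSysF.ordChk [cP, cH, cV] [1] 1 5 = true := by decide +kernel

theorem ord_11 : permSysF.ordChk [cP, cH, cV] [0] 1 11 = true := by decide +kernel

end Cfsg.Agent.Lib.Helper1.M12O
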