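import Cfsg.Agent.Lib.Helper1.M12OutG
import Cfsg.Agent.Lib.Helper1.ConjAut
import Cfsg.Agent.S5620

/-!
# The outer automorphism group of the stabilizer of a dodecad has order two
-/

set_option autoImplicit false

namespace Cfsg.Agent.Lib.Helper1.M12O

open Cfsg Cfsg.Agent.Lib.Helper1 Cfsg.Agent.Lib.Helper1.PermCode MulAction
open Cfsg.Agent.Lib.Helper9.M24 (tperm m12swap smul_sdiff_univ)
open scoped Pointwise

/-- the complement of the dodecad of squares -/
abbrev cD : Finset GolayPt := Finset.univ \ Cfsg.Spor.squareDodecad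

theorem sw_M24 : tperm m12swap ∈ M24 := Cfsg.Agent.S5620.swap_spec.1

theorem sw_D : tperm m12swap • Cfsg.Spor.squareDodecad = cD := Cfsg.Agent.S5620.swap_spec.2.1

theorem sw_cD : tperm m12swap • cD = Cfsg.Spor.squareDodecad := by
  unfold cD
  rw [smul_sdiff_univ, sw_D]
  unfold cD
  rw [← Finset.compl_eq_univ_sdiff, ← Finset.compl_eq_univ_sdiff, compl_compl]

theorem swi_D : (tperm m12swap)⁻¹ • Cfsg.Spor.squareDodecad = cD := by
  rw [inv_smul_eq_iff, sw_cD]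

theorem swi_cD : (tperm m12swap)⁻¹ • cD = Cfsg.Spor.squareDodecad := by
  rw [inv_smul_eq_iff, sw_D]

theorem smul_cD {x : Equiv.Perm GolayPt} (hx : x • Cfsg.Spor.squareDodecad = Cfsg.Spor.squareDodecad) :
    x • cD = cD := by
  unfold cD
  rw [smul_sdiff_univ, hx]

theorem sw_norm : ∀ x ∈ Cfsg.Spor.M12, tperm m12swap * x * (tperm m12swap)⁻¹ ∈ Cfsg.Spor.M12 := by
  intro x hx
  have hx1 : x ∈ M24 := hx.1
  have hx2 : x • Cfsg.Spor.squareDodecad = Cfsg.Spor.squareDodecad := mem_stabilizer_iff.mp hx.2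
  refine ⟨Subgroup.mul_mem _ (Subgroup.mul_mem _ sw_M24 hx1) (Subgroup.inv_mem _ sw_M24),
    mem_stabilizer_iff.mpr ?_⟩
  rw [mul_smul, mul_smul, swi_D, smul_cD hx2, sw_cD]

theorem sw_norm' : ∀ x ∈ Cfsg.Spor.M12, (tperm m12swap)⁻¹ * x * tperm m12swap ∈ Cfsg.Spor.M12 := by
  intro x hx
  have hx1 : x ∈ M24 := hx.1
  have hx2 : x • Cfsg.Spor.squareDodecad = Cfsg.Spor.squareDodecad := mem_stabilizer_iff.mp hx.2
  refine ⟨Subgroup.mul_mem _ (Subgroup.mul_mem _ (Subgroup.inv_mem _ sw_M24) hx1) sw_M24,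
    mem_stabilizer_iff.mpr ?_⟩
  rw [mul_smul, mul_smul, sw_D, smul_cD hx2, swi_cD]

theorem sw_not_inner : ¬ ∃ k ∈ Cfsg.Spor.M12, ∀ x ∈ Cfsg.Spor.M12,
    tperm m12swap * x * (tperm m12swap)⁻¹ = k * x * k⁻¹ := by
  rintro ⟨k, hk, h⟩
  apply Cfsg.Agent.S5620.result.2.1
  refine ⟨k, hk, ?_⟩
  rw [← Cfsg.Agent.S5620.conj_swap]
  ext y
  rw [Subgroup.mem_pointwise_smul_iff_inv_smul_mem, Subgroup.mem_pointwise_smul_iff_inv_smul_mem]
  have e1 : (MulAut.conj k)⁻¹ • y = k⁻¹ * y * k := by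
    rw [MulAut.smul_def, ← map_inv, MulAut.conj_apply, inv_inv]
  have e2 : (MulAut.conj (tperm m12swap))⁻¹ • y = (tperm m12swap)⁻¹ * y * tperm m12swap := by
    rw [MulAut.smul_def, ← map_inv, MulAut.conj_apply, inv_inv]
  rw [e1, e2]
  have h11 : Cfsg.Spor.M11 ≤ Cfsg.Spor.M12 := inf_le_left
  constructor
  · intro hy
    have h1 := h _ (h11 hy)
    generalize hz : k⁻¹ * y * k = z at hy h1
    have h4 : tperm m12swap * z * (tperm m12swap)⁻¹ = y := by rw [h1, ← hz]; group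
    have h5 : (tperm m12swap)⁻¹ * y * tperm m12swap = z := by rw [← h4]; group
    rw [h5]
    exact hy
  · intro hy
    have h1 := h _ (h11 hy)
    generalize hz : (tperm m12swap)⁻¹ * y * tperm m12swap = z at hy h1
    have h4 : k * z * k⁻¹ = y := by rw [← h1, ← hz]; group
    have h5 : k⁻¹ * y * k = z := by rw [← h4]; group
    rw [h5]
    exact hy

/-- the noninner automorphism -/
def om : MulAut ↥Cfsg.Spor.M12 := conjAut Cfsg.Spor.M12 (tperm m12swap) sw_norm sw_norm'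

theorem card_out : Nat.card (Cfsg.Out ↥Cfsg.Spor.M12) = 2 :=
  card_out_eq_two om (conjAut_not_inner _ _ _ _ sw_not_inner)
    (fun α hα => coreHyp.inner_of_surv_two 2 cV rfl α om hα
      (conjAut_not_inner _ _ _ _ sw_not_inner))

end Cfsg.Agent.Lib.Helper1.M12O
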