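import Mathlib
import Cfsg.Agent.Lib.Helper1.M24S

/-!
# Elements of the stabilizer of three points: the elementary transvections
-/

set_option autoImplicit false

namespace Cfsg.Agent.Lib.Helper1.M21

open Cfsg Cfsg.Agent.Lib.Helper1 Cfsg.Agent.Lib.Helper1.M24

noncomputable section

def mt256 : El K := El.mul n238 n238 [0, 1, 21, 3, 10, 22, 16, 17, 7, 5, 9, 6, 19, 18, 15, 11, 14, 12, 2, 8, 13, 20, 4, 23] (by decide +kernel)
def mt261 : El K := El.mul n238 mt256 [0, 1, 18, 3, 22, 9, 11, 8, 19, 10, 4, 15, 17, 20, 16, 14, 6, 7, 13, 12, 21, 2, 5, 23] (by decide +kernel)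
def mt266 : El K := El.mul n214 mt261 [0, 1, 16, 3, 4, 18, 8, 21, 10, 15, 6, 19, 5, 13, 9, 14, 22, 7, 12, 20, 11, 17, 2, 23] (by decide +kernel)
def mt425 : El K := El.mul n422 n233 [0, 1, 14, 3, 21, 5, 6, 11, 13, 19, 8, 12, 7, 10, 17, 9, 4, 2, 20, 15, 22, 16, 18, 23] (by decide +kernel)
def mt436 : El K := El.mul n393 n431 [0, 1, 2, 3, 9, 14, 13, 22, 8, 21, 6, 18, 11, 10, 17, 19, 15, 5, 12, 16, 7, 4, 20, 23] (by decide +kernel)
def mt438 : El K := El.mul n393 n432 [0, 1, 2, 3, 16, 14, 10, 15, 6, 12, 8, 7, 19, 13, 17, 11, 22, 5, 21, 9, 18, 20, 4, 23] (by decide +kernel)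
def mt454 : El K := El.mul n453 n238 [0, 1, 22, 3, 14, 12, 18, 20, 7, 4, 16, 17, 10, 9, 15, 13, 19, 21, 11, 5, 2, 6, 8, 23] (by decide +kernel)
def mt460 : El K := El.mul n453 n453 [0, 1, 2, 3, 4, 17, 18, 12, 9, 21, 7, 20, 10, 16, 5, 6, 22, 14, 15, 11, 19, 8, 13, 23] (by decide +kernel)
def mt756 : El K := El.mul n437 n692 [0, 1, 2, 19, 4, 21, 8, 18, 14, 15, 9, 3, 5, 22, 6, 10, 13, 7, 17, 11, 20, 12, 16, 23] (by decide +kernel)
def mt3730 : El K := El.mul n961 n3722 [15, 0, 9, 19, 21, 17, 12, 22, 10, 7, 13, 1, 2, 3, 4, 18, 16, 8, 23, 14, 5, 6, 11, 20] (by decide +kernel)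
def mt3731 : El K := El.mul mt3730 n3721 [3, 2, 6, 21, 14, 13, 9, 0, 12, 16, 10, 19, 15, 20, 5, 8, 17, 23, 7, 1, 4, 11, 18, 22] (by decide +kernel)
def mt3739 : El K := El.mul mt3731 n3736 [22, 0, 2, 20, 9, 23, 17, 16, 10, 12, 18, 1, 8, 15, 14, 6, 13, 11, 5, 7, 4, 3, 19, 21] (by decide +kernel)
def mt3819 : El K := El.mul n3814 n3787 [12, 1, 22, 20, 15, 16, 4, 7, 2, 13, 5, 6, 10, 21, 9, 17, 0, 11, 14, 19, 8, 18, 3, 23] (by decide +kernel)
def mt3826 : El K := El.mul n3814 n3805 [0, 18, 11, 19, 17, 5, 20, 10, 9, 2, 12, 15, 4, 21, 14, 8, 3, 7, 22, 13, 1, 16, 6, 23] (by decide +kernel)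
def mt3841 : El K := El.mul n3814 n3814 [0, 1, 2, 5, 4, 3, 21, 19, 11, 10, 9, 8, 18, 13, 17, 20, 16, 14, 12, 7, 15, 6, 22, 23] (by decide +kernel)
def mt3898 : El K := El.mul n3897 n3748 [23, 5, 22, 13, 10, 16, 21, 15, 11, 2, 0, 6, 14, 1, 18, 7, 4, 19, 17, 20, 12, 8, 3, 9] (by decide +kernel)
def mt3917 : El K := El.mul n3897 n3912 [0, 1, 8, 22, 2, 14, 7, 5, 17, 6, 10, 16, 21, 11, 9, 3, 18, 19, 20, 4, 13, 15, 12, 23] (by decide +kernel)
def mt3935 : El K := El.mul n3811 n3736 [3, 15, 0, 7, 11, 22, 1, 13, 5, 17, 2, 6, 23, 21, 10, 12, 16, 8, 19, 14, 18, 4, 20, 9] (by decide +kernel)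
def mt3936 : El K := El.inv mt3898 [10, 13, 9, 22, 16, 1, 11, 15, 21, 23, 4, 8, 20, 3, 12, 7, 5, 18, 14, 17, 19, 6, 2, 0] (by decide +kernel)
def mt3937 : El K := El.mul mt3936 mt3935 [22, 7, 10, 15, 8, 2, 13, 3, 1, 18, 9, 11, 0, 6, 4, 20, 5, 21, 17, 12, 14, 16, 19, 23] (by decide +kernel)
def mt3938 : El K := El.mul n3773 mt3937 [0, 18, 9, 10, 19, 5, 6, 14, 7, 4, 15, 3, 16, 12, 17, 11, 21, 8, 1, 2, 22, 13, 20, 23] (by decide +kernel)
def mt3939 : El K := El.inv mt3826 [0, 20, 9, 16, 12, 5, 22, 17, 15, 8, 7, 2, 10, 19, 14, 11, 21, 4, 1, 3, 6, 13, 18, 23] (by decide +kernel)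
def mt3940 : El K := El.mul mt3939 mt3938 [0, 1, 8, 7, 3, 5, 22, 14, 17, 12, 11, 16, 21, 10, 4, 2, 13, 15, 20, 9, 18, 19, 6, 23] (by decide +kernel)
def mt3941 : El K := El.inv mt3917 [0, 1, 4, 15, 19, 7, 9, 6, 2, 14, 10, 13, 22, 20, 5, 21, 11, 8, 16, 17, 18, 12, 3, 23] (by decide +kernel)
def mt3942 : El K := El.mul mt3941 mt3940 [0, 1, 2, 6, 15, 7, 3, 5, 8, 22, 13, 11, 12, 10, 19, 4, 20, 21, 18, 14, 16, 17, 9, 23] (by decide +kernel)
def mt3943 : El K := El.inv n801 [0, 1, 2, 11, 10, 18, 3, 14, 4, 6, 19, 22, 13, 20, 12, 21, 15, 8, 16, 17, 7, 5, 9, 23] (by decide +kernel)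
def mt3944 : El K := El.mul mt3943 mt3942 [0, 1, 2, 3, 21, 14, 11, 18, 4, 9, 20, 22, 13, 19, 17, 10, 7, 5, 16, 12, 15, 8, 6, 23] (by decide +kernel)
def mt3957 : El K := El.mul mt3944 n3848 [0, 1, 15, 6, 2, 11, 3, 12, 8, 17, 13, 7, 5, 10, 16, 18, 9, 14, 4, 21, 19, 22, 20, 23] (by decide +kernel)
def mt3973 : El K := El.mul n3744 mt3739 [22, 2, 23, 16, 3, 19, 20, 15, 7, 10, 14, 5, 9, 4, 8, 6, 11, 21, 0, 18, 1, 13, 17, 12] (by decide +kernel)
def mt3974 : El K := El.inv n3751 [18, 9, 15, 21, 3, 6, 16, 10, 4, 7, 13, 22, 23, 17, 8, 20, 2, 1, 11, 14, 5, 19, 12, 0] (by decide +kernel)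
def mt3975 : El K := El.mul mt3974 mt3973 [12, 15, 0, 2, 21, 14, 5, 20, 10, 13, 8, 6, 7, 3, 4, 16, 22, 19, 18, 11, 9, 17, 1, 23] (by decide +kernel)
def mt3976 : El K := El.inv mt3819 [16, 1, 8, 22, 6, 10, 11, 7, 20, 14, 12, 17, 0, 9, 18, 4, 5, 15, 21, 19, 3, 13, 2, 23] (by decide +kernel)
def mt3977 : El K := El.mul mt3976 mt3975 [0, 4, 16, 8, 13, 18, 10, 3, 12, 9, 20, 11, 7, 22, 6, 5, 2, 19, 21, 17, 14, 15, 1, 23] (by decide +kernel)
def mt3978 : El K := El.inv n3904 [0, 20, 9, 22, 1, 13, 11, 7, 14, 19, 21, 5, 4, 2, 17, 12, 15, 3, 16, 6, 18, 8, 10, 23] (by decide +kernel)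
def mt3979 : El K := El.mul mt3978 mt3977 [0, 1, 15, 14, 2, 16, 21, 22, 4, 19, 18, 5, 7, 10, 11, 13, 9, 6, 8, 3, 17, 12, 20, 23] (by decide +kernel)
def mt3980 : El K := El.inv mt3957 [0, 1, 4, 6, 18, 12, 3, 11, 8, 16, 13, 5, 7, 10, 17, 2, 14, 9, 15, 20, 22, 19, 21, 23] (by decide +kernel)
def mt3981 : El K := El.mul mt3980 mt3979 [0, 1, 2, 17, 4, 14, 19, 21, 18, 20, 15, 12, 11, 13, 5, 10, 16, 3, 8, 6, 9, 7, 22, 23] (by decide +kernel)
def mt5615 : El K := El.mul n2 n3708 [14, 5, 2, 4, 6, 22, 10, 9, 17, 16, 12, 1, 3, 7, 8, 11, 20, 18, 0, 19, 13, 21, 15, 23] (by decide +kernel)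
def mt6077 : El K := El.mul n2 mt5615 [17, 21, 6, 2, 1, 14, 7, 12, 11, 13, 8, 18, 3, 5, 16, 19, 10, 4, 0, 22, 9, 20, 15, 23] (by decide +kernel)
def mt8310 : El K := El.mul n0 mt6077 [18, 22, 7, 3, 2, 15, 8, 13, 12, 14, 9, 19, 4, 6, 17, 20, 11, 5, 1, 0, 10, 21, 16, 23] (by decide +kernel)
def mt15277 : El K := El.mul n0 mt8310 [19, 0, 8, 4, 3, 16, 9, 14, 13, 15, 10, 20, 5, 7, 18, 21, 12, 6, 2, 1, 11, 22, 17, 23] (by decide +kernel)
def mt30875 : El K := El.mul n2 mt15277 [22, 0, 16, 2, 3, 13, 12, 17, 9, 15, 7, 10, 21, 5, 4, 20, 8, 1, 6, 18, 19, 14, 11, 23] (by decide +kernel)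
def mt59359 : El K := El.mul n0 mt30875 [0, 1, 17, 3, 4, 14, 13, 18, 10, 16, 8, 11, 22, 6, 5, 21, 9, 2, 7, 19, 20, 15, 12, 23] (by decide +kernel)
def mt132092 : El K := El.mul n349 n458 [0, 1, 2, 11, 4, 8, 9, 15, 5, 6, 21, 3, 17, 13, 18, 7, 16, 12, 14, 20, 19, 10, 22, 23] (by decide +kernel)
def mt132093 : El K := El.mul n369 n453 [0, 1, 2, 20, 4, 15, 12, 8, 7, 17, 14, 19, 6, 13, 10, 5, 16, 9, 21, 11, 3, 18, 22, 23] (by decide +kernel)
def mt132094 : El K := El.mul mt756 mt460 [0, 1, 2, 19, 4, 7, 17, 5, 15, 12, 18, 20, 9, 13, 21, 8, 16, 6, 10, 3, 11, 14, 22, 23] (by decide +kernel)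
def mt132095 : El K := El.mul n238 mt436 [0, 1, 13, 3, 4, 6, 21, 9, 12, 18, 15, 20, 14, 22, 8, 17, 16, 10, 7, 11, 19, 5, 2, 23] (by decide +kernel)
def mt132096 : El K := El.mul mt132095 n453 [0, 1, 13, 3, 4, 8, 17, 15, 5, 12, 14, 11, 9, 2, 10, 7, 22, 6, 21, 19, 20, 18, 16, 23] (by decide +kernel)
def mt132097 : El K := El.mul mt454 mt436 [0, 1, 22, 3, 4, 15, 9, 8, 7, 6, 18, 11, 17, 16, 21, 5, 13, 12, 10, 19, 20, 14, 2, 23] (by decide +kernel)
def mt132098 : El K := El.mul mt266 mt460 [0, 1, 16, 3, 4, 7, 12, 5, 15, 17, 21, 11, 6, 22, 18, 8, 2, 9, 14, 19, 20, 10, 13, 23] (by decide +kernel)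
def mt132099 : El K := El.mul n233 n422 [0, 1, 5, 3, 4, 14, 9, 21, 18, 12, 16, 20, 6, 7, 2, 10, 15, 17, 22, 11, 19, 13, 8, 23] (by decide +kernel)
def mt132100 : El K := El.mul mt132099 n453 [0, 1, 5, 3, 4, 2, 10, 16, 13, 18, 6, 11, 21, 8, 17, 22, 7, 14, 9, 19, 20, 12, 15, 23] (by decide +kernel)
def mt132101 : El K := El.mul mt425 mt438 [0, 1, 14, 3, 4, 17, 8, 9, 6, 7, 13, 11, 15, 10, 2, 12, 18, 5, 16, 19, 20, 22, 21, 23] (by decide +kernel)
def mt132102 : El K := El.mul n309 n370 [0, 1, 2, 14, 4, 17, 7, 6, 12, 15, 20, 18, 8, 13, 3, 9, 16, 5, 11, 21, 10, 19, 22, 23] (by decide +kernel)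

/-- the identity -/
def eId : El K := n3
/-- the transvection with entry o at (0, 1) -/
def tv01o : El K := mt132092
/-- the transvection with entry w at (0, 1) -/
def tv01w : El K := mt132093
/-- the transvection with entry w2 at (0, 1) -/
def tv01w2 : El K := mt132094
/-- the transvection with entry o at (0, 2) -/
def tv02o : El K := mt132096
/-- the transvection with entry w at (0, 2) -/
def tv02w : El K := mt132097
/-- the transvection with entry w2 at (0, 2) -/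
def tv02w2 : El K := mt132098
/-- the transvection with entry o at (1, 0) -/
def tv10o : El K := n370
/-- the transvection with entry w at (1, 0) -/
def tv10w : El K := n795
/-- the transvection with entry w2 at (1, 0) -/
def tv10w2 : El K := n815
/-- the transvection with entry o at (1, 2) -/
def tv12o : El K := mt132100
/-- the transvection with entry w at (1, 2) -/
def tv12w : El K := mt59359
/-- the transvection with entry w2 at (1, 2) -/
def tv12w2 : El K := mt132101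
/-- the transvection with entry o at (2, 0) -/
def tv20o : El K := n806
/-- the transvection with entry w at (2, 0) -/
def tv20w : El K := n864
/-- the transvection with entry w2 at (2, 0) -/
def tv20w2 : El K := n866
/-- the transvection with entry o at (2, 1) -/
def tv21o : El K := mt3841
/-- the transvection with entry w at (2, 1) -/
def tv21w : El K := mt132102
/-- the transvection with entry w2 at (2, 1) -/
def tv21w2 : El K := mt3981

end

end Cfsg.Agent.Lib.Helper1.M21
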