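import Mathlib
import Cfsg.Agent.Lib.Helper1.M21A
import Cfsg.Agent.Lib.Helper1.Hexa1
import Cfsg.Agent.Lib.Helper1.SLn
import Cfsg.Agent.Lib.Helper1.SLCard

/-!
# The action of the special linear group over the field with four elements on the 21 points
-/

set_option autoImplicit false

namespace Cfsg.Agent.Lib.Helper1.M21

open Cfsg Cfsg.Agent.Lib.Helper1 Cfsg.Agent.Lib.Helper1.M24 Cfsg.Agent.Lib.Helper1.Hexa
open Matrix

noncomputable section

/-- vectors -/
abbrev V := Fin 3 → F4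

/-- matrices -/
abbrev M3 := Matrix (Fin 3) (Fin 3) F4

/-- the number of a field element -/
def f4n : F4 → ℕ
  | F4.z => 0
  | F4.o => 1
  | F4.w => 2
  | F4.w2 => 3

/-- the field element of a number -/
def nf4 (n : ℕ) : F4 :=
  match n % 4 with
  | 0 => F4.z
  | 1 => F4.o
  | 2 => F4.w
  | _ => F4.w2

/-- the point of the projective plane attached to a vector -/
def ptTbl : List ℕ := [23, 2, 2, 2, 3, 5, 14, 17, 3, 17, 5, 14, 3, 14, 17, 5, 4, 13, 16, 22, 11, 8, 18,
  12, 19, 6, 7, 21, 20, 10, 9, 15, 4, 22, 13, 16, 20, 15, 10, 9, 11, 12, 8, 18, 19, 21, 6, 7, 4, 16,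
  22, 13, 19, 7, 21, 6, 20, 9, 15, 10, 11, 18, 12, 8]

/-- the normalized vector attached to a point -/
def repTbl : List ℕ := [0, 0, 1, 4, 16, 5, 25, 26, 21, 30, 29, 20, 23, 17, 6, 31, 18, 7, 22, 24, 28,
  27, 19, 0]

/-- the index of the point attached to a vector -/
def pidx3 (a b c : F4) : ℕ := tg ptTbl (16 * f4n a + 4 * f4n b + f4n c)

/-- the index of the point attached to a vector -/
def pidx (v : V) : ℕ := pidx3 (v 0) (v 1) (v 2)

/-- first coordinate of the vector of a point -/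
def repA (q : ℕ) : F4 := nf4 (tg repTbl q / 16)

/-- second coordinate of the vector of a point -/
def repB (q : ℕ) : F4 := nf4 (tg repTbl q / 4)

/-- third coordinate of the vector of a point -/
def repC (q : ℕ) : F4 := nf4 (tg repTbl q)

/-- the vector of a point -/
def rep (q : ℕ) : V := ![repA q, repB q, repC q]

/-- the action of a matrix on the indices -/
def actIdx (M : M3) (q : ℕ) : ℕ :=
  if tg repTbl q = 0 then q else
    pidx3 (M 0 0 * repA q + M 0 1 * repB q + M 0 2 * repC q)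
      (M 1 0 * repA q + M 1 1 * repB q + M 1 2 * repC q)
      (M 2 0 * repA q + M 2 1 * repB q + M 2 2 * repC q)

theorem pidx3_lt : ∀ a b c : F4, pidx3 a b c < 24 := by decide

theorem r1 : ∀ q < 24, tg repTbl q ≠ 0 → pidx3 (repA q) (repB q) (repC q) = q ∧
    ¬(repA q = 0 ∧ repB q = 0 ∧ repC q = 0) := by decide

theorem r2 : ∀ a b c : F4, ¬(a = 0 ∧ b = 0 ∧ c = 0) → tg repTbl (pidx3 a b c) ≠ 0 ∧
    ∃ k : F4, k ≠ 0 ∧ repA (pidx3 a b c) = k * a ∧ repB (pidx3 a b c) = k * b ∧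
      repC (pidx3 a b c) = k * c := by decide

theorem r3 : ∀ k a b c : F4, k ≠ 0 → pidx3 (k * a) (k * b) (k * c) = pidx3 a b c := by decide

theorem r0 : tg repTbl (pidx3 0 0 0) = 0 := by decide

theorem fixed_rep : ∀ q ∈ [23, 0, 1], tg repTbl q = 0 := by decide

theorem vec_eta (v : V) : v = ![v 0, v 1, v 2] := by
  funext i
  fin_cases i <;> rfl

theorem ne_zero_iff (v : V) : v ≠ 0 ↔ ¬(v 0 = 0 ∧ v 1 = 0 ∧ v 2 = 0) := by
  constructor
  · intro h h0
    apply h
    funext i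
    fin_cases i
    · exact h0.1
    · exact h0.2.1
    · exact h0.2.2
  · intro h hv
    apply h
    subst hv
    exact ⟨rfl, rfl, rfl⟩

theorem rep_spec {q : ℕ} (hq : q < 24) (h : tg repTbl q ≠ 0) : pidx (rep q) = q ∧ rep q ≠ 0 := by
  obtain ⟨h1, h2⟩ := r1 q hq h
  refine ⟨h1, ?_⟩
  rw [ne_zero_iff]
  exact h2

theorem pidx_spec {v : V} (hv : v ≠ 0) :
    tg repTbl (pidx v) ≠ 0 ∧ ∃ k : F4, k ≠ 0 ∧ rep (pidx v) = k • v := by
  obtain ⟨h1, k, hk, ha, hb, hc⟩ := r2 (v 0) (v 1) (v 2) ((ne_zero_iff v).mp hv)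
  refine ⟨h1, k, hk, ?_⟩
  funext i
  fin_cases i
  · exact ha
  · exact hb
  · exact hc

theorem pidx_smul {k : F4} (hk : k ≠ 0) (v : V) : pidx (k • v) = pidx v :=
  r3 k (v 0) (v 1) (v 2) hk

theorem pidx_zero : tg repTbl (pidx 0) = 0 := r0

theorem actIdx_of_ne {M : M3} {q : ℕ} (h : tg repTbl q ≠ 0) : actIdx M q = pidx (M *ᵥ rep q) := by
  unfold actIdx
  rw [if_neg h]
  unfold pidx rep
  simp [Matrix.mulVec, dotProduct, Fin.sum_univ_three]

theorem actIdx_of_eq {M : M3} {q : ℕ} (h : tg repTbl q = 0) : actIdx M q = q := by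
  unfold actIdx
  rw [if_pos h]

theorem actIdx_lt (M : M3) {q : ℕ} (hq : q < 24) : actIdx M q < 24 := by
  unfold actIdx
  split_ifs
  · exact hq
  · exact pidx3_lt _ _ _

theorem actIdx_mul (M N N' : M3) (hN : N' * N = 1) {q : ℕ} (hq : q < 24) :
    actIdx (M * N) q = actIdx M (actIdx N q) := by
  by_cases h : tg repTbl q = 0
  · rw [actIdx_of_eq h, actIdx_of_eq h, actIdx_of_eq h]
  · obtain ⟨-, h2⟩ := rep_spec hq h
    have hv : N *ᵥ rep q ≠ 0 := by
      intro h0
      apply h2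
      have : N' *ᵥ (N *ᵥ rep q) = rep q := by
        rw [Matrix.mulVec_mulVec, hN, Matrix.one_mulVec]
      rw [← this, h0, Matrix.mulVec_zero]
    obtain ⟨h3, k, hk, h4⟩ := pidx_spec hv
    rw [actIdx_of_ne h, actIdx_of_ne h, actIdx_of_ne h3, h4, Matrix.mulVec_smul, pidx_smul hk,
      Matrix.mulVec_mulVec]

theorem actIdx_one {q : ℕ} (hq : q < 24) : actIdx 1 q = q := by
  by_cases h : tg repTbl q = 0
  · exact actIdx_of_eq h
  · rw [actIdx_of_ne h, Matrix.one_mulVec]
    exact (rep_spec hq h).1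

/-- the action of a matrix on the points -/
def actFun (M : M3) (p : GolayPt) : GolayPt := gUnidx (actIdx M (gIdx p))

theorem gIdx_actFun (M : M3) (p : GolayPt) : gIdx (actFun M p) = actIdx M (gIdx p) :=
  gIdx_gUnidx _ (actIdx_lt M (gIdx_lt p))

theorem actFun_mul (M N N' : M3) (hN : N' * N = 1) (p : GolayPt) :
    actFun (M * N) p = actFun M (actFun N p) := by
  unfold actFun
  rw [gIdx_gUnidx _ (actIdx_lt N (gIdx_lt p)), actIdx_mul M N N' hN (gIdx_lt p)]

theorem actFun_one (p : GolayPt) : actFun 1 p = p := by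
  unfold actFun
  rw [actIdx_one (gIdx_lt p), gUnidx_gIdx]

theorem coe_inv_mul (A : SpecialLinearGroup (Fin 3) F4) : ((A⁻¹ : SpecialLinearGroup (Fin 3) F4) : M3) * (A : M3) = 1 := by
  have h : ((A⁻¹ * A : SpecialLinearGroup (Fin 3) F4) : M3) = 1 := by
    rw [inv_mul_cancel]
    rfl
  exact h

theorem coe_mul_inv (A : SpecialLinearGroup (Fin 3) F4) : (A : M3) * ((A⁻¹ : SpecialLinearGroup (Fin 3) F4) : M3) = 1 := by
  have h : ((A * A⁻¹ : SpecialLinearGroup (Fin 3) F4) : M3) = 1 := by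
    rw [mul_inv_cancel]
    rfl
  exact h

/-- the action as a homomorphism -/
def ρ : SpecialLinearGroup (Fin 3) F4 →* P24 where
  toFun A :=
    { toFun := actFun (A : M3)
      invFun := actFun ((A⁻¹ : SpecialLinearGroup (Fin 3) F4) : M3)
      left_inv := fun p => by
        rw [← actFun_mul _ _ _ (coe_inv_mul A), coe_inv_mul, actFun_one]
      right_inv := fun p => by
        have h := coe_inv_mul A⁻¹
        rw [inv_inv] at h
        rw [← actFun_mul _ _ _ h, coe_mul_inv, actFun_one] }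
  map_one' := by
    apply Equiv.Perm.ext
    intro p
    show actFun (1 : M3) p = p
    rw [actFun_one]
  map_mul' A B := by
    apply Equiv.Perm.ext
    intro p
    show actFun ((A : M3) * (B : M3)) p = actFun (A : M3) (actFun (B : M3) p)
    rw [actFun_mul _ _ _ (coe_inv_mul B)]

theorem ρ_apply (A : SpecialLinearGroup (Fin 3) F4) (p : GolayPt) : ρ A p = actFun (A : M3) p := rfl

theorem ρ_eq_of_table (A : SpecialLinearGroup (Fin 3) F4) (e : El K)
    (h : ∀ q < 24, actIdx (A : M3) q = tg e.t q) : ρ A = e.σ := by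
  apply Equiv.Perm.ext
  intro p
  rw [ρ_apply, ← gUnidx_gIdx (e.σ p), e.apply_idx, ← h _ (gIdx_lt p)]
  rfl

/-- the elements attached to the elementary transvections -/
def tvNode : Fin 3 → Fin 3 → F4 → El K
  | 0, 1, F4.o => tv01o
  | 0, 1, F4.w => tv01w
  | 0, 1, F4.w2 => tv01w2
  | 0, 2, F4.o => tv02o
  | 0, 2, F4.w => tv02w
  | 0, 2, F4.w2 => tv02w2
  | 1, 0, F4.o => tv10o
  | 1, 0, F4.w => tv10w
  | 1, 0, F4.w2 => tv10w2
  | 1, 2, F4.o => tv12o
  | 1, 2, F4.w => tv12w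
  | 1, 2, F4.w2 => tv12w2
  | 2, 0, F4.o => tv20o
  | 2, 0, F4.w => tv20w
  | 2, 0, F4.w2 => tv20w2
  | 2, 1, F4.o => tv21o
  | 2, 1, F4.w => tv21w
  | 2, 1, F4.w2 => tv21w2
  | _, _, _ => eId

set_option maxRecDepth 100000 in
theorem tv_table : ∀ (i j : Fin 3) (c : F4), i ≠ j → ∀ q < 24,
    actIdx (1 + Matrix.single i j c) q = tg (tvNode i j c).t q := by decide +kernel

theorem ρ_transvection {i j : Fin 3} (hij : i ≠ j) (c : F4) :
    ρ (SpecialLinearGroup.transvection hij c) ∈ M24 := by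
  have e : ((SpecialLinearGroup.transvection hij c : SpecialLinearGroup (Fin 3) F4) : M3) =
      1 + Matrix.single i j c := rfl
  have h : ∀ q < 24, actIdx ((SpecialLinearGroup.transvection hij c :
      SpecialLinearGroup (Fin 3) F4) : M3) q = tg (tvNode i j c).t q := fun q hq =>
    (congrArg (fun M => actIdx M q) e).trans (tv_table i j c hij q hq)
  rw [ρ_eq_of_table _ (tvNode i j c) h]
  exact K_le (tvNode i j c).mem

theorem ρ_mem (A : SpecialLinearGroup (Fin 3) F4) : ρ A ∈ M24 := by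
  have h : M24.comap ρ = ⊤ := by
    apply eq_top_of_transvection_mem
    intro i j hij c
    exact ρ_transvection hij c
  have : A ∈ M24.comap ρ := by
    rw [h]
    exact Subgroup.mem_top A
  exact this

end

end Cfsg.Agent.Lib.Helper1.M21
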