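import Mathlib
import Cfsg.Agent.Lib.Helper1.M21B

/-!
# The stabilizer of three points is the projective special linear group
-/

set_option autoImplicit false

namespace Cfsg.Agent.Lib.Helper1.M21

open Cfsg Cfsg.Agent.Lib.Helper1 Cfsg.Agent.Lib.Helper1.M24 Cfsg.Agent.Lib.Helper1.Hexa
open Matrix

noncomputable section

/-- the stabilizer of three points -/
def H21 : Subgroup P24 := M24 ⊓ FixL [23, 0, 1]

theorem card_H21 : Nat.card ↥H21 = 20160 := by
  have e2 := level_card (K' := K) (H := M24) K_le [23, 0] 1 (fun q => decide (q ∉ [23, 0]))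
    (fun q hq h => lvl2 q hq (of_decide_eq_true h))
    (fun g _ hfix => decide_eq_true (up_generic _ (by decide) hfix (by norm_num) (by decide)))
  have c2 : (Finset.univ.filter
      (fun p : GolayPt => (fun q => decide (q ∉ [23, 0])) (gIdx p) = true)).card = 22 := by
    decide +kernel
  have h22 := card_H22
  unfold H22 at h22
  rw [c2, h22] at e2
  simp only [List.cons_append, List.nil_append] at e2
  unfold H21
  omega

theorem ρ_fix (A : SpecialLinearGroup (Fin 3) F4) : ρ A ∈ FixL [23, 0, 1] := by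
  intro j hj
  have hj24 : j < 24 := by
    revert j
    decide
  rw [ρ_apply]
  unfold actFun
  rw [gIdx_gUnidx j hj24, actIdx_of_eq (fixed_rep j hj)]

/-- the action, with values in the stabilizer of three points -/
def ρ' : SpecialLinearGroup (Fin 3) F4 →* ↥H21 :=
  ρ.codRestrict H21 (fun A => ⟨ρ_mem A, ρ_fix A⟩)

theorem ker_ρ' : ρ'.ker = ρ.ker := MonoidHom.ker_codRestrict _ _ _

theorem actIdx_of_ker {A : SpecialLinearGroup (Fin 3) F4} (hA : A ∈ ρ.ker) {q : ℕ} (hq : q < 24) :
    actIdx (A : M3) q = q := by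
  have h1 : ρ A (gUnidx q) = gUnidx q := by
    rw [MonoidHom.mem_ker.mp hA]
    rfl
  rw [ρ_apply] at h1
  have h2 := congrArg gIdx h1
  rw [gIdx_actFun, gIdx_gUnidx q hq] at h2
  exact h2

theorem mulVec_ne_zero (A : SpecialLinearGroup (Fin 3) F4) {v : V} (hv : v ≠ 0) :
    (A : M3) *ᵥ v ≠ 0 := by
  intro h0
  apply hv
  have : ((A⁻¹ : SpecialLinearGroup (Fin 3) F4) : M3) *ᵥ ((A : M3) *ᵥ v) = v := by
    rw [Matrix.mulVec_mulVec, coe_inv_mul, Matrix.one_mulVec]
  rw [← this, h0, Matrix.mulVec_zero]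

theorem eigen_of_ker {A : SpecialLinearGroup (Fin 3) F4} (hA : A ∈ ρ.ker) {v : V} (hv : v ≠ 0) :
    ∃ c : F4, (A : M3) *ᵥ v = c • v := by
  obtain ⟨h3, k, hk, h4⟩ := pidx_spec hv
  have hq : pidx v < 24 := pidx3_lt _ _ _
  have h5 := actIdx_of_ker hA hq
  rw [actIdx_of_ne h3, h4, Matrix.mulVec_smul, pidx_smul hk] at h5
  obtain ⟨-, k', hk', h6⟩ := pidx_spec (mulVec_ne_zero A hv)
  rw [h5, h4] at h6
  refine ⟨k'⁻¹ * k, ?_⟩
  rw [mul_smul, h6, smul_smul, inv_mul_cancel₀ hk', one_smul]

theorem cube_eq_one : ∀ c : F4, c ≠ 0 → c ^ 3 = 1 := by decide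

theorem ker_le_center : ρ.ker ≤ Subgroup.center (SpecialLinearGroup (Fin 3) F4) := by
  intro A hA
  obtain ⟨c0, h0⟩ := eigen_of_ker hA (v := ![1, 0, 0]) (by
    intro h; have := congrFun h 0; simp at this)
  obtain ⟨c1, h1⟩ := eigen_of_ker hA (v := ![0, 1, 0]) (by
    intro h; have := congrFun h 1; simp at this)
  obtain ⟨c2, h2⟩ := eigen_of_ker hA (v := ![0, 0, 1]) (by
    intro h; have := congrFun h 2; simp at this)
  obtain ⟨c3, h3⟩ := eigen_of_ker hA (v := ![1, 1, 0]) (by
    intro h; have := congrFun h 0; simp at this)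
  obtain ⟨c4, h4⟩ := eigen_of_ker hA (v := ![1, 0, 1]) (by
    intro h; have := congrFun h 0; simp at this)
  have a00 := congrFun h0 0
  have a10 := congrFun h0 1
  have a20 := congrFun h0 2
  have a01 := congrFun h1 0
  have a11 := congrFun h1 1
  have a21 := congrFun h1 2
  have a02 := congrFun h2 0
  have a12 := congrFun h2 1
  have a22 := congrFun h2 2
  have b0 := congrFun h3 0
  have b1 := congrFun h3 1
  have d0 := congrFun h4 0
  have d2 := congrFun h4 2
  simp [Matrix.mulVec, dotProduct, Fin.sum_univ_three] at a00 a10 a20 a01 a11 a21 a02 a12 a22 b0 b1 d0 d2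
  rw [a00, a01] at b0
  rw [a10, a11] at b1
  rw [a00, a02] at d0
  rw [a20, a22] at d2
  have e1 : c1 = c0 := by rw [← b0.symm.trans (add_zero c0)]; simpa using b1
  have e2 : c2 = c0 := by rw [← d0.symm.trans (add_zero c0)]; simpa using d2
  have hc0 : c0 ≠ 0 := by
    intro hz
    apply mulVec_ne_zero A (v := ![1, 0, 0]) (by
      intro h; have := congrFun h 0; simp at this)
    rw [h0, hz, zero_smul]
  rw [Matrix.SpecialLinearGroup.mem_center_iff]
  refine ⟨c0, by rw [Fintype.card_fin]; exact cube_eq_one c0 hc0, ?_⟩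
  ext i j
  fin_cases i <;> fin_cases j <;> simp [a00, a10, a20, a01, a11, a21, a02, a12, a22, e1, e2]

theorem center_le_ker : Subgroup.center (SpecialLinearGroup (Fin 3) F4) ≤ ρ.ker := by
  intro A hA
  obtain ⟨r, hr, hA'⟩ := Matrix.SpecialLinearGroup.mem_center_iff.mp hA
  have hr0 : r ≠ 0 := by
    intro h0
    rw [h0, Fintype.card_fin] at hr
    simp at hr
  rw [MonoidHom.mem_ker]
  apply Equiv.Perm.ext
  intro p
  rw [ρ_apply]
  show actFun (A : M3) p = p
  unfold actFun
  have hq := gIdx_lt p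
  by_cases h : tg repTbl (gIdx p) = 0
  · rw [actIdx_of_eq h, gUnidx_gIdx]
  · have hsm : (A : M3) *ᵥ rep (gIdx p) = r • rep (gIdx p) := by
      rw [← hA']
      funext x
      rw [Matrix.scalar_apply, Matrix.mulVec_diagonal]
      rfl
    rw [actIdx_of_ne h, hsm, pidx_smul hr0, (rep_spec hq h).1, gUnidx_gIdx]

theorem ker_ρ : ρ.ker = Subgroup.center (SpecialLinearGroup (Fin 3) F4) :=
  le_antisymm ker_le_center center_le_ker

theorem card_PSL : Nat.card (ProjectiveSpecialLinearGroup (Fin 3) F4) = 20160 := by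
  have h := card_PSL_field (F := F4) 3 (by norm_num)
  rw [F4.card] at h
  generalize Nat.card (ProjectiveSpecialLinearGroup (Fin 3) F4) = N at h ⊢
  simp [Fin.prod_univ_three] at h
  omega

/-- the projective special linear group, into the stabilizer -/
def ρbar : ProjectiveSpecialLinearGroup (Fin 3) F4 →* ↥H21 :=
  (QuotientGroup.kerLift ρ').comp
    (QuotientGroup.quotientMulEquivOfEq (ker_ρ'.trans ker_ρ).symm).toMonoidHom

theorem ρbar_injective : Function.Injective ρbar := by
  unfold ρbar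
  rw [MonoidHom.coe_comp]
  exact (QuotientGroup.kerLift_injective ρ').comp (MulEquiv.injective _)

theorem ρbar_bijective : Function.Bijective ρbar := by
  have : Finite (ProjectiveSpecialLinearGroup (Fin 3) F4) :=
    Nat.finite_of_card_ne_zero (by rw [card_PSL]; norm_num)
  have : Finite ↥H21 := Nat.finite_of_card_ne_zero (by rw [card_H21]; norm_num)
  rw [Nat.bijective_iff_injective_and_card]
  exact ⟨ρbar_injective, by rw [card_PSL, card_H21]⟩

/-- the isomorphism over the concrete field -/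
def isoF4 : ProjectiveSpecialLinearGroup (Fin 3) F4 ≃* ↥H21 :=
  MulEquiv.ofBijective ρbar ρbar_bijective

end

end Cfsg.Agent.Lib.Helper1.M21
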