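import Mathlib
import Cfsg.Agent.Lib.Helper1.M21C

/-!
# The stabilizer of any three points, and any field with four elements
-/

set_option autoImplicit false

namespace Cfsg.Agent.Lib.Helper1.M21

open Cfsg Cfsg.Agent.Lib.Helper1 Cfsg.Agent.Lib.Helper1.M24 Cfsg.Agent.Lib.Helper1.Hexa
open Matrix MulAction

noncomputable section

/-- special linear groups over isomorphic rings -/
def slCongr {R S : Type*} [CommRing R] [CommRing S] (e : R ≃+* S) :
    SpecialLinearGroup (Fin 3) R ≃* SpecialLinearGroup (Fin 3) S where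
  toFun := SpecialLinearGroup.map e.toRingHom
  invFun := SpecialLinearGroup.map e.symm.toRingHom
  left_inv A := by
    ext i j
    exact e.symm_apply_apply _
  right_inv A := by
    ext i j
    exact e.apply_symm_apply _
  map_mul' := map_mul _

theorem map_center {G H : Type*} [Group G] [Group H] (e : G ≃* H) :
    (Subgroup.center G).map (e : G →* H) = Subgroup.center H := by
  ext y
  rw [Subgroup.mem_map]
  constructor
  · rintro ⟨x, hx, rfl⟩
    rw [Subgroup.mem_center_iff] at hx ⊢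
    intro z
    obtain ⟨w, rfl⟩ := e.surjective z
    show e w * e x = e x * e w
    rw [← map_mul, ← map_mul, hx w]
  · intro hy
    refine ⟨e.symm y, ?_, by simp⟩
    rw [Subgroup.mem_center_iff] at hy ⊢
    intro z
    apply e.injective
    rw [map_mul, map_mul, e.apply_symm_apply]
    exact hy (e z)

/-- projective special linear groups over isomorphic rings -/
def pslCongr {R S : Type*} [CommRing R] [CommRing S] (e : R ≃+* S) :
    ProjectiveSpecialLinearGroup (Fin 3) R ≃* ProjectiveSpecialLinearGroup (Fin 3) S :=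
  QuotientGroup.congr _ _ (slCongr e) (map_center (slCongr e))

theorem three_trans (p q r : GolayPt) (hpq : p ≠ q) (hpr : p ≠ r) (hqr : q ≠ r) :
    ∃ τ ∈ M24, τ (gUnidx 23) = p ∧ τ (gUnidx 0) = q ∧ τ (gUnidx 1) = r := by
  have h3 : MulAction.IsMultiplyPretransitive M24 GolayPt 3 := by
    have := five_transitive
    exact MulAction.isMultiplyPretransitive_of_le (G := M24) (α := GolayPt) (m := 3) (n := 5)
      (by norm_num) (by rw [Nat.card_eq_fintype_card]; decide)
  have hx : Function.Injective ![gUnidx 23, gUnidx 0, gUnidx 1] := by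
    intro i j h
    fin_cases i <;> fin_cases j <;> first | rfl | (exfalso; revert h; decide)
  have hy : Function.Injective ![p, q, r] := by
    intro i j h
    fin_cases i <;> fin_cases j <;> first | rfl | (exfalso; simp at h; first | exact hpq h | exact hpr h | exact hqr h | exact hpq h.symm | exact hpr h.symm | exact hqr h.symm)
  obtain ⟨g, hg⟩ := MulAction.exists_smul_eq (M := M24) (⟨_, hx⟩ : Fin 3 ↪ GolayPt) ⟨_, hy⟩
  refine ⟨g.1, g.2, ?_, ?_, ?_⟩
  · exact congrArg (fun f : Fin 3 ↪ GolayPt => f 0) hg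
  · exact congrArg (fun f : Fin 3 ↪ GolayPt => f 1) hg
  · exact congrArg (fun f : Fin 3 ↪ GolayPt => f 2) hg

theorem mem_H21_iff (g : P24) : g ∈ H21 ↔ g ∈ M24 ∧ g (gUnidx 23) = gUnidx 23 ∧
    g (gUnidx 0) = gUnidx 0 ∧ g (gUnidx 1) = gUnidx 1 := by
  unfold H21
  rw [Subgroup.mem_inf, mem_FixL]
  simp

theorem main (p q r : GolayPt) (hpq : p ≠ q) (hpr : p ≠ r) (hqr : q ≠ r) (F : Type) [Field F]
    [Fintype F] (hF : Fintype.card F = 4) :
    Nonempty (↥(stabilizer M24 p ⊓ stabilizer M24 q ⊓ stabilizer M24 r) ≃*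
      ProjectiveSpecialLinearGroup (Fin 3) F) := by
  obtain ⟨τ, hτ, rfl, rfl, rfl⟩ := three_trans p q r hpq hpr hqr
  let S : Subgroup ↥M24 := stabilizer M24 (τ (gUnidx 23)) ⊓ stabilizer M24 (τ (gUnidx 0)) ⊓
    stabilizer M24 (τ (gUnidx 1))
  let ι : ↥S →* P24 := M24.subtype.comp S.subtype
  have hι : Function.Injective ι := by
    intro a b hab
    apply Subtype.ext
    apply Subtype.ext
    exact hab
  have hrange : ι.range = H21.map (MulAut.conj τ).toMonoidHom := by
    ext z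
    rw [MonoidHom.mem_range, Subgroup.mem_map]
    constructor
    · rintro ⟨c, rfl⟩
      have hcM : ι c ∈ M24 := (c : ↥M24).2
      have hc2 := Subgroup.mem_inf.mp c.2
      have hc3 := Subgroup.mem_inf.mp hc2.1
      have h23 : ι c (τ (gUnidx 23)) = τ (gUnidx 23) := mem_stabilizer_iff.mp hc3.1
      have h0 : ι c (τ (gUnidx 0)) = τ (gUnidx 0) := mem_stabilizer_iff.mp hc3.2
      have h1 : ι c (τ (gUnidx 1)) = τ (gUnidx 1) := mem_stabilizer_iff.mp hc2.2
      refine ⟨τ⁻¹ * ι c * τ, ?_, ?_⟩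
      · rw [mem_H21_iff]
        refine ⟨M24.mul_mem (M24.mul_mem (M24.inv_mem hτ) hcM) hτ, ?_, ?_, ?_⟩
        · rw [Equiv.Perm.mul_apply, Equiv.Perm.mul_apply, h23]; simp
        · rw [Equiv.Perm.mul_apply, Equiv.Perm.mul_apply, h0]; simp
        · rw [Equiv.Perm.mul_apply, Equiv.Perm.mul_apply, h1]; simp
      · show τ * (τ⁻¹ * ι c * τ) * τ⁻¹ = ι c
        group
    · rintro ⟨g, hg, rfl⟩
      rw [mem_H21_iff] at hg
      obtain ⟨hgM, h23, h0, h1⟩ := hg
      have hM : τ * g * τ⁻¹ ∈ M24 := M24.mul_mem (M24.mul_mem hτ hgM) (M24.inv_mem hτ)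
      refine ⟨⟨⟨τ * g * τ⁻¹, hM⟩, Subgroup.mem_inf.mpr ⟨Subgroup.mem_inf.mpr
        ⟨mem_stabilizer_iff.mpr ?_, mem_stabilizer_iff.mpr ?_⟩, mem_stabilizer_iff.mpr ?_⟩⟩, rfl⟩
      · show (τ * g * τ⁻¹) (τ (gUnidx 23)) = τ (gUnidx 23)
        rw [Equiv.Perm.mul_apply, Equiv.Perm.mul_apply]
        simp [h23]
      · show (τ * g * τ⁻¹) (τ (gUnidx 0)) = τ (gUnidx 0)
        rw [Equiv.Perm.mul_apply, Equiv.Perm.mul_apply]
        simp [h0]
      · show (τ * g * τ⁻¹) (τ (gUnidx 1)) = τ (gUnidx 1)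
        rw [Equiv.Perm.mul_apply, Equiv.Perm.mul_apply]
        simp [h1]
  let e : ↥S ≃* ↥H21 :=
    ((MonoidHom.ofInjective hι).trans (MulEquiv.subgroupCongr hrange)).trans
      (H21.equivMapOfInjective _ (MulAut.conj τ).injective).symm
  let φ : F ≃+* F4 := FiniteField.ringEquivOfCardEq (hF.trans F4.card.symm)
  exact ⟨e.trans (isoF4.symm.trans (pslCongr φ).symm)⟩

end

end Cfsg.Agent.Lib.Helper1.M21
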