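import Cfsg.Agent.Lib.Helper1.M22Mult
import Cfsg.Agent.Lib.Helper1.M22C3D
import Cfsg.Agent.Lib.Helper1.StemLL7
import Cfsg.Agent.Lib.Helper1.StemLL8
import Cfsg.Agent.Lib.Helper1.M24S

/-!
# A stem extension of the Mathieu group of degree 22 with a cyclic kernel of order 3
-/

set_option autoImplicit false
set_option maxRecDepth 100000

namespace Cfsg.Agent.Lib.Helper1.M22C3

open Cfsg Cfsg.Agent.Lib.Helper1 Cfsg.Agent.Lib.Helper1.PermCode Cfsg.Agent.Lib.Helper1.MatCode MulAction
open Cfsg.Agent.Lib.Helper9.M24 (tperm tabOK tabM24 tget pmaskF mset smul_mset mset_injOn)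
open Cfsg.Agent.Lib.Helper1.M22O (tP chk_P gp)
open Cfsg.Agent.Lib.Helper1.M22M (tY chk_Y gy GG hgen)
open Cfsg.Agent.Lib.Helper1.StemLL

open scoped Pointwise

theorem L_range : L.chkRange = true := by decide +kernel

theorem L_sorted : L.chkSorted = true := by decide +kernel

theorem L_liftH : L.chkLiftH hintF = true := by decide +kernel

theorem L_tree : L.chkTree = true := by decide +kernel

theorem L_wit : L.chkWit = true := by decide +kernel

theorem L_chk : L.chk = true := by
  unfold LLData.chk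
  rw [LLData.chkLift_of_hint hintF L_range L_sorted L_liftH, L_range, L_tree, L_wit]
  decide

theorem pl_inc : (List.range 230).all (fun j => decide (PL j < PL (j + 1))) = true := by
  decide +kernel

theorem act_ok : (List.range 2).all (fun i => (List.range 231).all (fun j =>
    pmaskF ([tP, tY].getD i []) (PL j) == PL (L.pi i j))) = true := by
  decide +kernel

/-- the points -/
def raw (j : ℕ) : Finset GolayPt := mset (PL j)

theorem PL_lt (j : ℕ) : PL j < 2 ^ 24 := Nat.mod_lt _ (by norm_num)

theorem PL_mono (j j' : ℕ) (h : j < j') (hj' : j' < 231) : PL j < PL j' := by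
  induction j' with
  | zero => omega
  | succ n ih =>
    have h1 := pl_inc
    rw [List.all_eq_true] at h1
    have h2 := h1 n (List.mem_range.mpr (by omega))
    rw [decide_eq_true_eq] at h2
    by_cases hjn : j = n
    · subst hjn; exact h2
    · exact lt_trans (ih (by omega) (by omega)) h2

theorem smul_tperm {t : List ℕ} {c : ℕ} (h : chkM22 t c = true) (j : ℕ) :
    (⟨tperm t, chkM22_mem h⟩ : ↥Cfsg.Spor.M22) • raw j = mset (pmaskF t (PL j)) := by
  show tperm t • mset (PL j) = _
  exact smul_mset (chkTab_sound (chkM22_tab h)).1 (PL_lt j)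

theorem rawHyp : RawHyp L raw GG where
  range := by
    have h1 := L_chk
    unfold LLData.chk at h1
    simp only [Bool.and_eq_true, decide_eq_true_eq] at h1
    exact h1.1.1.1.2
  pos := by decide
  act := by
    intro i hi j hj
    have hi' : i < 2 := hi
    have hj' : j < 231 := hj
    have h := act_ok
    rw [List.all_eq_true] at h
    have h1 := h i (List.mem_range.mpr hi')
    rw [List.all_eq_true] at h1
    have h2 := h1 j (List.mem_range.mpr hj')
    rw [beq_iff_eq] at h2
    interval_cases i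
    · show gp • raw j = _
      rw [show gp = (⟨tperm tP, chkM22_mem chk_P⟩ : ↥Cfsg.Spor.M22) from rfl, smul_tperm chk_P j]
      unfold raw
      rw [← h2]; rfl
    · show gy • raw j = _
      rw [show gy = (⟨tperm tY, chkM22_mem chk_Y⟩ : ↥Cfsg.Spor.M22) from rfl, smul_tperm chk_Y j]
      unfold raw
      rw [← h2]; rfl
  gen := hgen
  inj := by
    intro j hj j' hj' h
    have h0 := mset_injOn (PL_lt j) (PL_lt j') h
    by_contra hne
    rcases Nat.lt_or_gt_of_ne hne with hlt | hlt
    · exact absurd h0 (Nat.ne_of_lt (PL_mono j j' hlt hj'))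
    · exact absurd h0.symm (Nat.ne_of_lt (PL_mono j' j hlt hj))
  move := ⟨mvI, by decide, mvJ, by decide, by decide +kernel⟩

instance simple_M22 : IsSimpleGroup ↥Cfsg.Spor.M22 := by
  rw [M22_eq]
  exact Cfsg.Agent.Lib.Helper1.M24.isSimpleGroup_H22

instance : NeZero L.c := ⟨by decide⟩

/-- the cover -/
theorem cover : ∃ (Γ₀ : Type) (_ : Group Γ₀) (_ : Finite Γ₀) (σ : Γ₀ →* ↥Cfsg.Spor.M22),
    Cfsg.IsStemExtension σ ∧ IsCyclic σ.ker ∧ Nat.card σ.ker = 3 := by
  have hyp := sub_hyp rawHyp
  obtain ⟨h1, h2, h3⟩ := stem_of_data L (ptSub rawHyp) GG hyp L_chk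
  exact ⟨_, inferInstance, inferInstance, sig ↥Cfsg.Spor.M22 L.c (EY L (ptSub rawHyp))
    (rhoY L (ptSub rawHyp)), h1, h2, h3⟩

end Cfsg.Agent.Lib.Helper1.M22C3
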