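import Cfsg.Agent.Lib.Helper1.M22OutG
import Cfsg.Agent.Lib.Helper1.M22MultD
import Cfsg.Agent.Lib.Helper1.StemZC4
import Cfsg.Agent.Lib.Helper1.StabAlt
import Cfsg.Agent.Lib.Helper1.A7UB
import Cfsg.Agent.Lib.Helper1.A7C6
import Cfsg.Agent.Lib.Helper1.Stem12
import Cfsg.Agent.Lib.Helper9.M12Conj

/-!
# Stem extensions of the Mathieu group of degree 22 with kernel a 2-group
-/

set_option autoImplicit false
set_option maxRecDepth 100000

namespace Cfsg.Agent.Lib.Helper1.M22M

open Cfsg Cfsg.Agent.Lib.Helper1 Cfsg.Agent.Lib.Helper1.PermCode Cfsg.Agent.Lib.Helper1.MatCode MulAction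
open Cfsg.Agent.Lib.Helper9.M24 (tperm tabOK tabM24 tget pmaskF mset smul_mset mset_injOn mem_mset
  natOfPt ptOfNat natOfPt_tperm natOfPt_injective natOfPt_ptOfNat ptOfNat_natOfPt tperm_ptOfNat)
open Cfsg.Agent.Lib.Helper1.M22O (tP tH tV cP cH cV gp gh gv phi_p phi_h phi_v can_p can_h can_v
  chk_P chk_H chk_V)
open Cfsg.Agent.Lib.Helper1.Stem Cfsg.Agent.Lib.Helper1.StemSA

universe u

open scoped commutatorElement Pointwise

theorem chk_struct : D.chkStruct = true := by decide +kernel

theorem chk_cert : StemZC.chkCertC D C = true := by decide +kernel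

theorem chk_Y : chkM22 tY cY = true := by decide +kernel

/-- the second generator, of order 11 -/
def gy : ↥Cfsg.Spor.M22 := ⟨tperm tY, chkM22_mem chk_Y⟩

theorem phi_y : phiP Cfsg.Spor.M22 gy = permSysF.D cY := phiP_of_chkTab (chkM22_tab chk_Y) _ _

theorem can_y : permSysF.C cY := canon_of_chkTab (chkM22_tab chk_Y)

/-- the codes of the generators -/
abbrev gens : List ℕ := [cP, cY, cV]

/-- the generators -/
abbrev GG : List ↥Cfsg.Spor.M22 := [gp, gy, gv]

theorem ev_v : permSysF.ev gens wV = cV := by decide +kernel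

theorem ev_h : permSysF.ev gens wH = cH := by decide +kernel

theorem pow_ok : (List.range 2).all (fun i =>
    permSysF.ev gens (List.replicate (D.ords.getD i 0) i) == permSysF.c1) = true := by decide +kernel

theorem rel_chk : relsL.all (fun w => permSysF.ev gens w.1 == permSysF.ev gens w.2) = true := by
  decide +kernel

theorem pi_ok : (List.range 2).all (fun i => (List.range 176).all (fun j =>
    pmaskF ([tP, tY].getD i []) (DL j) == DL (D.pi i j))) = true := by
  decide +kernel

theorem dl_ok : (List.range 176).all (fun j => (List.range j).all fun j' => DL j != DL j') = true := by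
  decide +kernel

theorem dl_zero : DL 0 = 11669008 := by decide +kernel

theorem hGG : ∀ i, ∀ (h1 : i < GG.length) (h2 : i < gens.length),
    phiP Cfsg.Spor.M22 GG[i] = permSysF.D gens[i] :=
  hG3_of permSysF (phiP Cfsg.Spor.M22) phi_p phi_y phi_v

theorem hCC : ∀ c ∈ gens, permSysF.C c := hcan3_of permSysF can_p can_y can_v

theorem wv_eq (w w' : List ℕ) (h : permSysF.ev gens w = permSysF.ev gens w') :
    wordProd GG w = wordProd GG w' :=
  permSysF.eq_of_ev (phiP Cfsg.Spor.M22) GG gens rfl hGG hCC (phiP_injective _) w w' h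

theorem wv_one (w : List ℕ) (h : permSysF.ev gens w = permSysF.c1) : wordProd GG w = 1 :=
  permSysF.eq_one_of_ev (phiP Cfsg.Spor.M22) GG gens rfl hGG hCC (phiP_injective _) w h

/-- the octads, in the order of the tree -/
def pt (j : ℕ) : Finset GolayPt := mset (DL j)

theorem DL_lt (j : ℕ) : DL j < 2 ^ 24 := Nat.mod_lt _ (by norm_num)

theorem pt_zero_eq : pt 0 = mset 11669008 := by
  unfold pt
  rw [dl_zero]

theorem pt_inj (j : ℕ) (hj : j < 176) (j' : ℕ) (hj' : j' < 176) (h : pt j = pt j') : j = j' := by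
  have h0 := mset_injOn (DL_lt j) (DL_lt j') h
  have h1 := dl_ok
  rw [List.all_eq_true] at h1
  by_contra hne
  rcases Nat.lt_or_gt_of_ne hne with hlt | hlt
  · have h2 := h1 j' (List.mem_range.mpr hj')
    rw [List.all_eq_true] at h2
    have h3 := h2 j (List.mem_range.mpr hlt)
    rw [bne_iff_ne] at h3
    exact h3 h0.symm
  · have h2 := h1 j (List.mem_range.mpr hj)
    rw [List.all_eq_true] at h2
    have h3 := h2 j' (List.mem_range.mpr hlt)
    rw [bne_iff_ne] at h3
    exact h3 h0

theorem pt_zero (j : ℕ) (hj : j < D.m) (h : pt j = pt 0) : j = 0 :=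
  pt_inj j hj 0 (by norm_num) h

theorem smul_tperm {t : List ℕ} {c : ℕ} (h : chkM22 t c = true) (j : ℕ) :
    (⟨tperm t, chkM22_mem h⟩ : ↥Cfsg.Spor.M22) • pt j = mset (pmaskF t (DL j)) := by
  show tperm t • mset (DL j) = _
  exact smul_mset (chkTab_sound (chkM22_tab h)).1 (DL_lt j)

theorem pi_act (i : ℕ) (hi : i < D.k) (j : ℕ) (hj : j < D.m) :
    GG.getD i 1 • pt j = pt (D.pi i j) := by
  have hi' : i < 2 := hi
  have hj' : j < 176 := hj
  have h := pi_ok
  rw [List.all_eq_true] at h
  have h1 := h i (List.mem_range.mpr hi')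
  rw [List.all_eq_true] at h1
  have h2 := h1 j (List.mem_range.mpr hj')
  rw [beq_iff_eq] at h2
  interval_cases i
  · show gp • pt j = _
    rw [show gp = (⟨tperm tP, chkM22_mem chk_P⟩ : ↥Cfsg.Spor.M22) from rfl, smul_tperm chk_P j]
    unfold pt
    rw [← h2]; rfl
  · show gy • pt j = _
    rw [show gy = (⟨tperm tY, chkM22_mem chk_Y⟩ : ↥Cfsg.Spor.M22) from rfl, smul_tperm chk_Y j]
    unfold pt
    rw [← h2]; rfl

theorem hodd (i : ℕ) (hi : i < D.k) :
    Odd (D.ords.getD i 0) ∧ (GG.getD i 1) ^ (D.ords.getD i 0) = 1 := by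
  have hi' : i < 2 := hi
  have h := pow_ok
  rw [List.all_eq_true] at h
  have h1 := h i (List.mem_range.mpr hi')
  rw [beq_iff_eq] at h1
  have h2 := wv_one _ h1
  rw [wordProd_replicate] at h2
  refine ⟨?_, h2⟩
  interval_cases i <;> decide

theorem hrel (w : List ℕ × List ℕ) (hw : w ∈ D.rels) : wordProd GG w.1 = wordProd GG w.2 := by
  have h := rel_chk
  rw [List.all_eq_true] at h
  have h1 := h w hw
  rw [beq_iff_eq] at h1
  exact wv_eq _ _ h1

theorem gv_eq : gv = wordProd GG wV := by
  apply phiP_injective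
  rw [phi_v, permSysF.phi_wordProd (phiP Cfsg.Spor.M22) GG gens rfl hGG hCC, ev_v]

theorem gh_eq : gh = wordProd GG wH := by
  apply phiP_injective
  rw [phi_h, permSysF.phi_wordProd (phiP Cfsg.Spor.M22) GG gens rfl hGG hCC, ev_h]

theorem hgen : Subgroup.closure {g | ∃ i < D.k, g = GG.getD i 1} = ⊤ := by
  rw [eq_top_iff, ← M22O.gen, Subgroup.closure_le]
  have hp : gp ∈ Subgroup.closure {g | ∃ i < D.k, g = GG.getD i 1} :=
    Subgroup.subset_closure ⟨0, by decide, rfl⟩
  have hy : gy ∈ Subgroup.closure {g | ∃ i < D.k, g = GG.getD i 1} :=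
    Subgroup.subset_closure ⟨1, by decide, rfl⟩
  have hw : ∀ w : List ℕ, (∀ i ∈ w, i < 2) →
      wordProd GG w ∈ Subgroup.closure {g | ∃ i < D.k, g = GG.getD i 1} := by
    intro w
    induction w with
    | nil => intro _; rw [wordProd_nil]; exact Subgroup.one_mem _
    | cons i w ih =>
      intro hw
      rw [wordProd_cons]
      refine Subgroup.mul_mem _ ?_ (ih (fun i' hi' => hw i' (by simp [hi'])))
      have hi : i < 2 := hw i (by simp)
      interval_cases i
      · exact hp
      · exact hy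
  intro g hg
  simp only [Set.mem_insert_iff, Set.mem_singleton_iff] at hg
  rcases hg with rfl | rfl | rfl
  · exact hp
  · rw [SetLike.mem_coe, gh_eq]
    exact hw _ (by decide)
  · rw [SetLike.mem_coe, gv_eq]
    exact hw _ (by decide)

end Cfsg.Agent.Lib.Helper1.M22M
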