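import Cfsg.Agent.Lib.Helper1.M22Mult

/-!
# The stabilizer of an octad in the Mathieu group of degree 22 is the alternating group of
degree 7; the bound for the kernels that are 2-groups
-/

set_option autoImplicit false
set_option maxRecDepth 100000

namespace Cfsg.Agent.Lib.Helper1.M22M

open Cfsg Cfsg.Agent.Lib.Helper1 Cfsg.Agent.Lib.Helper1.PermCode Cfsg.Agent.Lib.Helper1.MatCode MulAction
open Cfsg.Agent.Lib.Helper9.M24 (tperm tabOK tabM24 tget pmaskF mset smul_mset mset_injOn mem_mset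
  natOfPt ptOfNat natOfPt_tperm natOfPt_injective natOfPt_ptOfNat ptOfNat_natOfPt tperm_ptOfNat)
open Cfsg.Agent.Lib.Helper1.M22O (tP tH tV cP cH cV gp gh gv phi_p phi_h phi_v can_p can_h can_v
  chk_P chk_H chk_V)
open Cfsg.Agent.Lib.Helper1.Stem Cfsg.Agent.Lib.Helper1.StemSA

universe u

open scoped commutatorElement Pointwise

/-- the stabilizer of the first octad -/
abbrev K : Subgroup ↥Cfsg.Spor.M22 := MulAction.stabilizer ↥Cfsg.Spor.M22 (pt 0)

/-- the seven points of the first octad other than the fixed point -/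
def iota (a : Fin 7) : GolayPt := ptOfNat (hpL.getD a.val 0)

theorem iota_inj : Function.Injective iota := by decide

theorem iota_mem (a : Fin 7) : iota a ∈ pt 0 := by
  rw [pt_zero_eq, mem_mset]
  revert a
  decide

theorem iota_ne (a : Fin 7) : iota a ≠ none := by
  revert a
  decide

theorem exists_iota (y : GolayPt) (hy : y ∈ pt 0) (hn : y ≠ none) : ∃ a, y = iota a := by
  rw [pt_zero_eq, mem_mset] at hy
  revert y
  decide

theorem apply_none (g : ↥Cfsg.Spor.M22) : g.1 none = none := mem_stabilizer_iff.mp g.2.1.2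

theorem hinv (g : ↥K) (a : Fin 7) : ∃ a', g • iota a = iota a' := by
  have h1 : g.1 • pt 0 = pt 0 := mem_stabilizer_iff.mp g.2
  have h2 : g.1 • iota a ∈ g.1 • pt 0 := Finset.smul_mem_smul_finset (iota_mem a)
  rw [h1] at h2
  have h3 : g.1 • iota a ≠ none := by
    intro h
    have h4 : g.1.1 (iota a) = g.1.1 none := by rw [apply_none]; exact h
    exact iota_ne a (g.1.1.injective h4)
  exact exists_iota _ h2 h3

/-- the action on the seven points -/
noncomputable def phiK : ↥K →* Equiv.Perm (Fin 7) := StabAlt.permHom iota iota_inj hinv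

theorem chk_Ka : chkM22 tKa cKa = true := by decide +kernel

theorem chk_Kb : chkM22 tKb cKb = true := by decide +kernel

theorem mask_Ka : pmaskF tKa (DL 0) = DL 0 := by decide +kernel

theorem mask_Kb : pmaskF tKb (DL 0) = DL 0 := by decide +kernel

/-- two elements of the stabilizer -/
def ka : ↥K := ⟨⟨tperm tKa, chkM22_mem chk_Ka⟩, by
  rw [mem_stabilizer_iff, smul_tperm chk_Ka 0, mask_Ka]; rfl⟩

def kb : ↥K := ⟨⟨tperm tKb, chkM22_mem chk_Kb⟩, by
  rw [mem_stabilizer_iff, smul_tperm chk_Kb 0, mask_Kb]; rfl⟩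

theorem hp_lt (a : Fin 7) : hpL.getD a.val 0 < 24 := by
  revert a
  decide

theorem act_Ka : ∀ a : Fin 7, tget tKa (hpL.getD a.val 0) = hpL.getD (A7C6.pa a).val 0 := by decide

theorem act_Kb : ∀ a : Fin 7, tget tKb (hpL.getD a.val 0) = hpL.getD (A7C6.pb a).val 0 := by decide

theorem phi_ka : phiK ka = A7C6.pa := by
  apply StabAlt.permHom_eq iota iota_inj hinv ka A7C6.pa
  intro a
  show tperm tKa (ptOfNat (hpL.getD a.val 0)) = ptOfNat (hpL.getD (A7C6.pa a).val 0)
  rw [tperm_ptOfNat (chkTab_sound (chkM22_tab chk_Ka)).1 (hp_lt a), act_Ka a]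

theorem phi_kb : phiK kb = A7C6.pb := by
  apply StabAlt.permHom_eq iota iota_inj hinv kb A7C6.pb
  intro a
  show tperm tKb (ptOfNat (hpL.getD a.val 0)) = ptOfNat (hpL.getD (A7C6.pb a).val 0)
  rw [tperm_ptOfNat (chkTab_sound (chkM22_tab chk_Kb)).1 (hp_lt a), act_Kb a]

theorem alt_le_range : alternatingGroup (Fin 7) ≤ phiK.range := by
  have hgen : Subgroup.closure {g : alternatingGroup (Fin 7) | ∃ i < 2,
      g = (A7C6.gs : List (alternatingGroup (Fin 7))).getD i 1} = ⊤ := A7C6.hyp.gen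
  have h1 : Subgroup.closure {g : alternatingGroup (Fin 7) | ∃ i < 2,
      g = (A7C6.gs : List (alternatingGroup (Fin 7))).getD i 1} ≤
      phiK.range.comap (alternatingGroup (Fin 7)).subtype := by
    rw [Subgroup.closure_le]
    rintro g ⟨i, hi, rfl⟩
    interval_cases i
    · exact ⟨ka, phi_ka⟩
    · exact ⟨kb, phi_kb⟩
  rw [hgen] at h1
  intro x hx
  exact h1 (Subgroup.mem_top (⟨x, hx⟩ : alternatingGroup (Fin 7)))

theorem pt_mem_orbit (j : ℕ) (hj : j < 176) : pt j ∈ MulAction.orbit ↥Cfsg.Spor.M22 (pt 0) := by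
  induction j using Nat.strong_induction_on with
  | _ j ih =>
    by_cases h0 : j = 0
    · subst h0; exact MulAction.mem_orbit_self _
    · obtain ⟨h1, h2, h3⟩ := par_ok D chk_struct j (by omega) hj
      have h4 := pi_act _ h1 _ (show (D.par j).2 < D.m from lt_trans h2 hj)
      rw [h3] at h4
      rw [← h4]
      exact MulAction.mem_orbit_of_mem_orbit _ (ih _ h2 (lt_trans h2 hj))

theorem card_K_le : Nat.card ↥K ≤ 2520 := by
  have h1 := Subgroup.card_mul_index K
  rw [MulAction.index_stabilizer, card_M22] at h1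
  have h2 : 176 ≤ (MulAction.orbit ↥Cfsg.Spor.M22 (pt 0)).ncard := by
    have h3 : ((Finset.range 176).image pt).card = 176 := by
      rw [Finset.card_image_of_injOn, Finset.card_range]
      intro j hj j' hj' h
      exact pt_inj j (Finset.mem_range.mp hj) j' (Finset.mem_range.mp hj') h
    rw [← h3, ← Set.ncard_coe_finset]
    apply Set.ncard_le_ncard _ (Set.toFinite _)
    intro y hy
    rw [Finset.mem_coe, Finset.mem_image] at hy
    obtain ⟨j, hj, rfl⟩ := hy
    exact pt_mem_orbit j (Finset.mem_range.mp hj)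
  by_contra hlt
  have h4 : 2521 * 176 ≤ Nat.card ↥K * (MulAction.orbit ↥Cfsg.Spor.M22 (pt 0)).ncard :=
    Nat.mul_le_mul (by omega) h2
  omega

/-- the stabilizer of the first octad is the alternating group of degree 7 -/
theorem nonempty_stabEquiv : Nonempty (↥K ≃* alternatingGroup (Fin 7)) := by
  apply StabAlt.equiv_alt_of_hom 7 phiK alt_le_range
  have h := A7C6.card_alt
  have h' : Nat.card (alternatingGroup (Fin 7)) = 2520 := h
  rw [h']
  exact card_K_le

/-- the isomorphism -/
noncomputable def stabEquiv : ↥K ≃* alternatingGroup (Fin 7) := Classical.choice nonempty_stabEquiv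

theorem stab_perfect : commutator ↥(MulAction.stabilizer ↥Cfsg.Spor.M22 (pt 0)) = ⊤ :=
  commutator_eq_top_of_equiv stabEquiv.symm
    (commutator_alternatingGroup_eq_top (by rw [Nat.card_eq_fintype_card, Fintype.card_fin]; norm_num))

theorem stab_bound (Γ' : Type u) [Group Γ'] [Finite Γ'] (σ' : Γ' →* ↥K)
    (hσ' : Cfsg.IsStemExtension σ') (hp : IsPGroup 2 σ'.ker) : Nat.card σ'.ker ≤ 2 := by
  have h1 := isStem_comp_equiv (MulEquiv.refl Γ') stabEquiv σ' hσ'
  obtain ⟨_, hd⟩ := A7UB.hub Γ' _ h1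
  have e2 := kerEquiv (MulEquiv.refl Γ') stabEquiv σ'
  rw [Nat.card_congr e2.toEquiv] at hd
  obtain ⟨a, ha⟩ := IsPGroup.iff_card.mp hp
  rw [ha] at hd ⊢
  have h3 : (2 : ℕ) ^ a ∣ 2 := by
    have hcop : Nat.Coprime (2 ^ a) 3 := Nat.Coprime.pow_left a (by norm_num)
    exact hcop.dvd_of_dvd_mul_right (by simpa using hd)
  exact Nat.le_of_dvd (by norm_num) h3

/-- a stem extension of the Mathieu group of degree 22 whose kernel is a 2-group has a kernel of
order at most four -/
theorem card_ker_le_four_M22 (Γ : Type u) [Group Γ] [Finite Γ] (σ : Γ →* ↥Cfsg.Spor.M22)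
    (hσ : Cfsg.IsStemExtension σ) (hp : IsPGroup 2 σ.ker) : Nat.card σ.ker ≤ 4 := by
  obtain ⟨a, ha⟩ := IsPGroup.iff_card.mp hp
  exact StemZC.card_ker_le_two_mul D C chk_struct chk_cert (by decide) pt GG hgen pt_zero pi_act hodd hrel
    stab_perfect 2 stab_bound Γ σ hσ a ha

end Cfsg.Agent.Lib.Helper1.M22M
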