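import Mathlib

set_option autoImplicit false

namespace Cfsg.Agent.Lib.Helper1.M22M

/-- two commuting elements of order three -/
def tX3 : List ℕ := [0, 10, 2, 12, 8, 21, 3, 19, 11, 1, 9, 4, 6, 14, 17, 15, 16, 13, 5, 22, 20, 18, 7, 23]
def tY3 : List ℕ := [0, 22, 15, 10, 8, 5, 1, 3, 11, 19, 7, 4, 9, 17, 13, 16, 2, 14, 18, 12, 20, 21, 6, 23]
def cX3 : ℕ := 965225539452911341747122303148624192
def cY3 : ℕ := 964048779670101319706842303725649600
def L9 : List ℕ := [984818244535754528103549039458486304, 965225539452911341747122303148624192, 980274513013323664003545867025058080, 964048779670101319706842303725649600, 960032608906928138094969048236604640, 971187834998994498242629867168382560, 957558289731195141510504776203485376, 969118930238087044003287713691844704, 967293889823588230568526494569283968]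

end Cfsg.Agent.Lib.Helper1.M22M
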