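import Cfsg.Agent.Lib.Helper1.M22Mult2
import Cfsg.Agent.Lib.Helper1.M22Mult3D
import Cfsg.Agent.Lib.Helper1.Stem6
import Cfsg.Agent.Lib.Helper1.Stem17
import Cfsg.Agent.Lib.Helper1.Stem20
import Cfsg.Agent.Lib.Helper1.M22C3
import Cfsg.Agent.Lib.Helper1.M22C4

/-!
# The stem extensions of the Mathieu group of degree 22
-/

set_option autoImplicit false
set_option maxRecDepth 100000

namespace Cfsg.Agent.Lib.Helper1.M22M

open Cfsg Cfsg.Agent.Lib.Helper1 Cfsg.Agent.Lib.Helper1.PermCode Cfsg.Agent.Lib.Helper1.MatCode MulAction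
open Cfsg.Agent.Lib.Helper9.M24 (tperm tabOK tabM24 tget pmaskF)
open Cfsg.Agent.Lib.Helper1.M22O (gp)
open Cfsg.Agent.Lib.Helper1.Stem Cfsg.Agent.Lib.Helper1.StemSA

open scoped commutatorElement Pointwise

theorem chk_X3 : chkM22 tX3 cX3 = true := by decide +kernel
theorem chk_Y3 : chkM22 tY3 cY3 = true := by decide +kernel

/-- generators of a Sylow 3-subgroup -/
def g3x : ↥Cfsg.Spor.M22 := ⟨tperm tX3, chkM22_mem chk_X3⟩
def g3y : ↥Cfsg.Spor.M22 := ⟨tperm tY3, chkM22_mem chk_Y3⟩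

/-- the codes -/
abbrev gens3 : List ℕ := [cX3, cY3, cX3]

/-- the elements -/
abbrev GG3 : List ↥Cfsg.Spor.M22 := [g3x, g3y, g3x]

theorem hGG3 : ∀ i, ∀ (h1 : i < GG3.length) (h2 : i < gens3.length),
    phiP Cfsg.Spor.M22 GG3[i] = permSysF.D gens3[i] :=
  hG3_of permSysF (phiP Cfsg.Spor.M22) (phiP_of_chkTab (chkM22_tab chk_X3) _ _)
    (phiP_of_chkTab (chkM22_tab chk_Y3) _ _) (phiP_of_chkTab (chkM22_tab chk_X3) _ _)

theorem hCC3 : ∀ c ∈ gens3, permSysF.C c :=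
  hcan3_of permSysF (canon_of_chkTab (chkM22_tab chk_X3)) (canon_of_chkTab (chkM22_tab chk_Y3))
    (canon_of_chkTab (chkM22_tab chk_X3))

theorem w3_eq (w w' : List ℕ) (h : permSysF.ev gens3 w = permSysF.ev gens3 w') :
    wordProd GG3 w = wordProd GG3 w' :=
  permSysF.eq_of_ev (phiP Cfsg.Spor.M22) GG3 gens3 rfl hGG3 hCC3 (phiP_injective _) w w' h

theorem w3_one (w : List ℕ) (h : permSysF.ev gens3 w = permSysF.c1) : wordProd GG3 w = 1 :=
  permSysF.eq_one_of_ev (phiP Cfsg.Spor.M22) GG3 gens3 rfl hGG3 hCC3 (phiP_injective _) w h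

theorem sub_9 : permSysF.subChk gens3 (pairWords [0] [1] 3 9) L9 = true := by decide +kernel
theorem len_9 : (pairWords [0] [1] 3 9).length + 1 = 9 := by decide +kernel
theorem r_xy : permSysF.ev gens3 [0, 1] = permSysF.ev gens3 [1, 0] := by decide +kernel
theorem r_x3 : permSysF.ev gens3 [0, 0, 0] = permSysF.c1 := by decide +kernel

theorem wp0 : wordProd GG3 [0] = g3x := by simp [wordProd_cons, wordProd_nil]
theorem wp1 : wordProd GG3 [1] = g3y := by simp [wordProd_cons, wordProd_nil]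

theorem g3_comm : g3x * g3y = g3y * g3x := by
  have := w3_eq _ _ r_xy
  simpa [wordProd_cons, wordProd_nil] using this

theorem g3x_pow : g3x ^ 3 = 1 := by
  have := w3_one _ r_x3
  simpa [wordProd_cons, wordProd_nil, pow_succ, mul_assoc] using this

theorem index_three : ¬ 3 ∣ (Subgroup.closure ({g3x, g3y} : Set ↥Cfsg.Spor.M22)).index := by
  have hle := subW_pairWords_le GG3 [0] [1] 3 9
  rw [wp0, wp1] at hle
  apply not_dvd_index_of_le _ _ hle 3 9 49280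
  · rw [permSysF.card_subW (phiP Cfsg.Spor.M22) GG3 gens3 rfl hGG3 hCC3 (phiP_injective _) _ L9 sub_9,
      len_9]
  · rw [card_M22]
  · norm_num
  · norm_num

/-- the kernels that are 3-groups -/
theorem three_part {Γ : Type*} [Group Γ] [Finite Γ] (σ : Γ →* ↥Cfsg.Spor.M22)
    (hσ : Cfsg.IsStemExtension σ) (hk : IsPGroup 3 σ.ker) :
    IsCyclic σ.ker ∧ Nat.card σ.ker ∣ 3 := by
  haveI : Fact (Nat.Prime 3) := ⟨Nat.prime_three⟩
  obtain ⟨hc, hd⟩ := cyclic_of_commuting_pair σ hσ 3 hk _ index_three g3x g3y g3_comm le_rfl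
  exact ⟨hc, hd.trans (orderOf_dvd_of_pow_eq_one g3x_pow)⟩

theorem sq_chk22 : (List.range 667).all
    (fun ℓ => !(443520 % (ℓ * ℓ) == 0) || (24 % ℓ == 0)) = true := by decide +kernel

theorem sq_dvd22 (ℓ : ℕ) (h : ℓ * ℓ ∣ 443520) : ℓ ∣ 24 := by
  have hlt : ℓ < 667 := by
    by_contra hge
    have h1 : 667 * 667 ≤ ℓ * ℓ := Nat.mul_le_mul (by omega) (by omega)
    have h2 := Nat.le_of_dvd (by norm_num) h
    omega
  have h1 := sq_chk22
  rw [List.all_eq_true] at h1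
  have h2 := h1 ℓ (List.mem_range.mpr hlt)
  rw [Bool.or_eq_true, Bool.not_eq_true', beq_eq_false_iff_ne, beq_iff_eq] at h2
  rcases h2 with h2 | h2
  · exact absurd (Nat.mod_eq_zero_of_dvd h) h2
  · exact Nat.dvd_of_mod_eq_zero h2

theorem not_sq_dvd (p : ℕ) (hp : p.Prime) (h2 : p ≠ 2) (h3 : p ≠ 3) : ¬ p * p ∣ 443520 := by
  intro h
  have h24 := sq_dvd22 p h
  have e : (24 : ℕ) = 2 ^ 3 * 3 := by norm_num
  rw [e] at h24
  rcases (Nat.Prime.dvd_mul hp).mp h24 with h | h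
  · exact h2 ((Nat.prime_dvd_prime_iff_eq hp Nat.prime_two).mp (hp.dvd_of_dvd_pow h))
  · exact h3 ((Nat.prime_dvd_prime_iff_eq hp Nat.prime_three).mp h)

theorem pi_ne : D.pi 0 (D.pi 1 0) ≠ D.pi 1 (D.pi 0 0) := by decide +kernel

theorem commutator_M22 : commutator ↥Cfsg.Spor.M22 = ⊤ := by
  have hs : IsSimpleGroup ↥Cfsg.Spor.M22 := M22C4.simple_M22
  rcases hs.eq_bot_or_eq_top_of_normal (commutator ↥Cfsg.Spor.M22) inferInstance with h | h
  · exfalso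
    have h1 : ⁅gp, gy⁆ ∈ commutator ↥Cfsg.Spor.M22 :=
      Subgroup.commutator_mem_commutator (Subgroup.mem_top gp) (Subgroup.mem_top gy)
    rw [h, Subgroup.mem_bot, commutatorElement_eq_one_iff_mul_comm] at h1
    have h2 : (gp * gy) • pt 0 = (gy * gp) • pt 0 := by rw [h1]
    have hk0 : (0 : ℕ) < D.k := by decide
    have hk1 : (1 : ℕ) < D.k := by decide
    have hm0 : (0 : ℕ) < D.m := by decide
    have e0 : gp • pt 0 = pt (D.pi 0 0) := pi_act 0 hk0 0 hm0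
    have e1 : gy • pt 0 = pt (D.pi 1 0) := pi_act 1 hk1 0 hm0
    have e2 : gp • pt (D.pi 1 0) = pt (D.pi 0 (D.pi 1 0)) :=
      pi_act 0 hk0 _ (pi_lt D chk_struct 1 0 hk1 hm0)
    have e3 : gy • pt (D.pi 0 0) = pt (D.pi 1 (D.pi 0 0)) :=
      pi_act 1 hk1 _ (pi_lt D chk_struct 0 0 hk0 hm0)
    rw [mul_smul, mul_smul, e0, e1, e2, e3] at h2
    exact pi_ne (pt_inj _ (pi_lt D chk_struct 0 _ hk0 (pi_lt D chk_struct 1 0 hk1 hm0)) _
      (pi_lt D chk_struct 1 _ hk1 (pi_lt D chk_struct 0 0 hk0 hm0)) h2)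
  · exact h

/-- the kernel of a stem extension is cyclic of order dividing 12 -/
theorem hub (Γ : Type) [Group Γ] [Finite Γ] (σ : Γ →* ↥Cfsg.Spor.M22)
    (hσ : Cfsg.IsStemExtension σ) : IsCyclic σ.ker ∧ Nat.card σ.ker ∣ 12 := by
  apply cyclic_dvd_of_primary σ 12 (by norm_num) ?_ hσ
  intro p hp Γ' _ _ σ' hσ' hk
  by_cases h2 : p = 2
  · subst h2
    obtain ⟨Γ₀, i1, i2, σ₀, h0, hc0, hn0⟩ := M22C4.cover
    have hp0 : IsPGroup 2 σ₀.ker := IsPGroup.of_card (n := 2) (by rw [hn0]; rfl)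
    obtain ⟨hc, hd⟩ := cyclic_of_bound_of_cover commutator_M22 2 4
      (fun Γ'' _ _ σ'' h1 h2 => card_ker_le_four_M22 Γ'' σ'' h1 h2) σ₀ h0 hp0 hc0 hn0 σ' hσ' hk
    exact ⟨hc, hd.trans (by norm_num)⟩
  by_cases h3 : p = 3
  · subst h3
    obtain ⟨hc, hd⟩ := three_part σ' hσ' hk
    exact ⟨hc, hd.trans (by norm_num)⟩
  · have h1 : Nat.card σ'.ker = 1 := by
      apply card_ker_eq_one_of_not_sq_dvd σ' hσ' p hk
      rw [card_M22]
      exact not_sq_dvd p hp.out h2 h3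
    refine ⟨?_, by rw [h1]; exact one_dvd _⟩
    haveI : Subsingleton σ'.ker := (Nat.card_eq_one_iff_unique.mp h1).1
    exact isCyclic_of_subsingleton

/-- a stem extension with a cyclic kernel of order 12 -/
theorem cover12 : ∃ (Γ₀ : Type) (_ : Group Γ₀) (_ : Finite Γ₀) (σ : Γ₀ →* ↥Cfsg.Spor.M22),
    Cfsg.IsStemExtension σ ∧ IsCyclic σ.ker ∧ Nat.card σ.ker = 12 := by
  obtain ⟨Γ₄, i1, i2, σ₄, h4, hc4, hn4⟩ := M22C4.cover
  obtain ⟨Γ₃, j1, j2, σ₃, h3, hc3, hn3⟩ := M22C3.cover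
  have hcop : Nat.Coprime (Nat.card σ₄.ker) (Nat.card σ₃.ker) := by rw [hn4, hn3]; norm_num
  obtain ⟨hc, hn⟩ := fibreHom_ker_cyclic σ₄ σ₃ hc4 hc3 hcop
  refine ⟨fibreProd σ₄ σ₃, inferInstance, inferInstance, fibreHom σ₄ σ₃,
    fibreHom_isStem σ₄ σ₃ h4 h3 hcop, hc, ?_⟩
  rw [hn, hn4, hn3]

end Cfsg.Agent.Lib.Helper1.M22M
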