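import Cfsg.Agent.Lib.Helper1.M22OutG
import Cfsg.Agent.Lib.Helper1.ConjAut
import Cfsg.Agent.S5599

/-!
# The outer automorphism group of the stabilizer of two points has order two
-/

set_option autoImplicit false

namespace Cfsg.Agent.Lib.Helper1.M22O

open Cfsg Cfsg.Agent.Lib.Helper1 Cfsg.Agent.Lib.Helper1.PermCode MulAction

theorem pi_M24 : Cfsg.projInv ∈ M24 := Cfsg.Agent.Lib.Helper1.M24.K_le Cfsg.Agent.Lib.Helper1.M24.gB_mem

theorem pi_none : Cfsg.projInv none = some 0 := rfl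

theorem pi_zero : Cfsg.projInv (some 0) = none := rfl

theorem pii_none : Cfsg.projInv⁻¹ none = some 0 := by
  rw [Equiv.Perm.inv_eq_iff_eq]; exact pi_zero.symm

theorem pii_zero : Cfsg.projInv⁻¹ (some 0) = none := by
  rw [Equiv.Perm.inv_eq_iff_eq]; exact pi_none.symm

theorem pi_norm : ∀ x ∈ Cfsg.Spor.M22, Cfsg.projInv * x * Cfsg.projInv⁻¹ ∈ Cfsg.Spor.M22 :=
  (Cfsg.Agent.S5599.result Cfsg.projInv pi_M24 pi_none pi_zero).2.1

theorem pi_norm' : ∀ x ∈ Cfsg.Spor.M22, Cfsg.projInv⁻¹ * x * Cfsg.projInv ∈ Cfsg.Spor.M22 := by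
  intro x hx
  have := (Cfsg.Agent.S5599.result Cfsg.projInv⁻¹ (Subgroup.inv_mem _ pi_M24) pii_none pii_zero).2.1 x hx
  rwa [inv_inv] at this

theorem pi_not_inner : ¬ ∃ k ∈ Cfsg.Spor.M22, ∀ x ∈ Cfsg.Spor.M22,
    Cfsg.projInv * x * Cfsg.projInv⁻¹ = k * x * k⁻¹ :=
  (Cfsg.Agent.S5599.result Cfsg.projInv pi_M24 pi_none pi_zero).2.2

/-- the noninner automorphism -/
def om : MulAut ↥Cfsg.Spor.M22 := conjAut Cfsg.Spor.M22 Cfsg.projInv pi_norm pi_norm'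

theorem card_out : Nat.card (Cfsg.Out ↥Cfsg.Spor.M22) = 2 :=
  card_out_eq_two om (conjAut_not_inner _ _ _ _ pi_not_inner)
    (fun α hα => coreHyp.inner_of_surv_two 2 _ rfl α om hα
      (conjAut_not_inner _ _ _ _ pi_not_inner))

end Cfsg.Agent.Lib.Helper1.M22O
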