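import Cfsg.Agent.Lib.Helper1.M22SubC

/-!
# Subgroups of a group of permutations of the 24 points containing a local subgroup (M22)
-/

set_option autoImplicit false
set_option maxRecDepth 100000

namespace Cfsg.Agent.Lib.Helper1.M22S

open Cfsg Cfsg.Agent.Lib.Helper1 Cfsg.Agent.Lib.Helper1.PermCode Cfsg.Agent.Lib.Helper1.MatCode
open Cfsg.Agent.Lib.Helper1.M22O

/-! ### general facts -/

section general

variable {M : Type*} [Monoid M] {Γ : Type*} [Group Γ] (φ : Γ →* M)

theorem phi_cancel (n x : Γ) (m : M) (h : φ x = φ n * m) : φ (n⁻¹ * x) = m := by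
  rw [map_mul, h, ← mul_assoc, ← map_mul, inv_mul_cancel, map_one, one_mul]

/-- a subgroup whose images lie in a list has at most as many elements as the list -/
theorem card_le_of_list [Finite Γ] (hφ : Function.Injective φ) (K : Subgroup Γ) (Ml : List M)
    (hK : ∀ x ∈ K, φ x ∈ Ml) : Nat.card K ≤ Ml.length := by
  classical
  have h1 : Nat.card K ≤ Nat.card {m // m ∈ Ml.toFinset} := by
    apply Nat.card_le_card_of_injective (fun x : K => (⟨φ x.1, List.mem_toFinset.mpr (hK x.1 x.2)⟩ : {m // m ∈ Ml.toFinset}))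
    intro a b hab
    exact Subtype.ext (hφ (congrArg Subtype.val hab))
  have h2 : Nat.card {m // m ∈ Ml.toFinset} = Ml.toFinset.card := by
    rw [Nat.card_eq_fintype_card, Fintype.card_coe]
  rw [h2] at h1
  exact h1.trans (List.toFinset_card_le Ml)

end general

/-- the Sylow count in a subgroup containing an element of prime order whose square does not
divide the order -/
theorem sylow_count {G : Type*} [Group G] [Finite G] (L : Subgroup G) (x : G) (hx : x ∈ L) (q : ℕ)
    [Fact q.Prime] (hord : orderOf x = q) (hfac : (Nat.card L).factorization q = 1) :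
    ∃ n, n ≡ 1 [MOD q] ∧
      Nat.card L = Nat.card ↥(L ⊓ Subgroup.normalizer (Subgroup.zpowers x : Set G)) * n := by
  have hle : Subgroup.zpowers x ≤ L := by
    rw [Subgroup.zpowers_le]; exact hx
  have hcard : Nat.card ((Subgroup.zpowers x).subgroupOf L) = q ^ (Nat.card L).factorization q := by
    rw [hfac, pow_one, Nat.card_congr (Subgroup.subgroupOfEquivOfLe hle).toEquiv, Nat.card_zpowers, hord]
  let P : Sylow q L := Sylow.ofCard _ hcard
  refine ⟨Nat.card (Sylow q L), card_sylow_modEq_one q L, ?_⟩
  rw [Sylow.card_eq_index_normalizer P]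
  change Nat.card L = _ * (Subgroup.normalizer
    (((Subgroup.zpowers x).subgroupOf L : Subgroup L) : Set L)).index
  rw [← Subgroup.subgroupOf_normalizer_eq hle, ← Subgroup.inf_subgroupOf_right,
    ← Subgroup.card_mul_index ((Subgroup.normalizer (Subgroup.zpowers x : Set G) ⊓ L).subgroupOf L)]
  have e2 : Nat.card ↥((Subgroup.normalizer (Subgroup.zpowers x : Set G) ⊓ L).subgroupOf L) =
      Nat.card ↥(L ⊓ Subgroup.normalizer (Subgroup.zpowers x : Set G)) := by
    rw [inf_comm]
    exact Nat.card_congr (Subgroup.subgroupOfEquivOfLe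
      (H := L ⊓ Subgroup.normalizer (Subgroup.zpowers x : Set G)) (K := L) inf_le_left).toEquiv
  rw [e2]


/-! ### the group -/

/-- the group -/
abbrev Γ : Type := ↥Cfsg.Spor.M22

/-- the coding map -/
abbrev φ : Γ →* Function.End (Fin 24) := phiP Cfsg.Spor.M22

theorem phi_inj : Function.Injective φ := phiP_injective _

/-- elements of the first local subgroup, with membership in the subgroup generated by the
first two generators -/
theorem lift_A_mem (a : ℕ) (ha : a ∈ A) :
    ∃ g ∈ Subgroup.closure ({gp, gh} : Set Γ), φ g = permSysF.D a := by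
  have h1 := chkTree_sound permSysF.D permSysF.mu permSysF.C permSysF.hmu (L := A) (SA := [cP, cH])
    (par := parA) coreHyp.hcan2 (by rw [head_A]; exact permSysF.D_c1) tree_A a ha
  have key : ∀ m ∈ Submonoid.closure {m | ∃ s ∈ [cP, cH], m = permSysF.D s},
      ∃ g ∈ Subgroup.closure ({gp, gh} : Set Γ), φ g = m := by
    intro m hm
    induction hm using Submonoid.closure_induction with
    | mem m hm =>
      obtain ⟨s, hs, rfl⟩ := hm
      simp only [List.mem_cons, List.not_mem_nil, or_false] at hs
      rcases hs with rfl | rfl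
      · exact ⟨gp, Subgroup.subset_closure (by simp), phi_p⟩
      · exact ⟨gh, Subgroup.subset_closure (by simp), phi_h⟩
    | one => exact ⟨1, Subgroup.one_mem _, map_one φ⟩
    | mul m m' _ _ ih ih' =>
      obtain ⟨g, hg1, hg⟩ := ih
      obtain ⟨g', hg1', hg'⟩ := ih'
      exact ⟨g * g', Subgroup.mul_mem _ hg1 hg1', by rw [map_mul, hg, hg']⟩
  exact key _ h1

/-- the steps of the coset table, with the explicit target -/
theorem step_explicit {s : ℕ} {cf : ℕ → ℕ} {Fix : List ℕ} (hs : permSysF.C s)
    (h : chkStepFixL pmu2 A Tf 8064 s cf Fix = true) (k : ℕ) (hk : k < 8064) :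
    cf k % 65536 < 8064 ∧ ∃ a ∈ A,
      permSysF.D (Tf k) * permSysF.D s = permSysF.D a * permSysF.D (Tf (cf k % 65536)) := by
  unfold chkStepFixL at h
  rw [List.all_eq_true] at h
  have h3 := h k (List.mem_range.mpr hk)
  rw [Bool.and_eq_true, Bool.and_eq_true, decide_eq_true_eq] at h3
  obtain ⟨⟨h4, -⟩, h5⟩ := h3
  refine ⟨h4, ?_⟩
  cases hA : A[cf k / 65536]? with
  | none => rw [hA] at h5; exact absurd h5 (by simp)
  | some a =>
    rw [hA] at h5
    have h6 : pmu2 (Tf k) s = pmu2 a (Tf (cf k % 65536)) := by simpa using h5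
    refine ⟨a, List.mem_of_getElem? hA, ?_⟩
    have e1 := permSysF.hmu (Tf k) s hs
    have e2 := permSysF.hmu a (Tf (cf k % 65536)) (tabHyp.Tcan _ h4)
    rw [← e1, ← e2]
    exact congrArg permSysF.D h6

section sub

variable (L : Subgroup Γ) (hp : gp ∈ L) (hh : gh ∈ L)
include hp hh

theorem closure_le : Subgroup.closure ({gp, gh} : Set Γ) ≤ L := by
  rw [Subgroup.closure_le]
  intro x hx
  rcases hx with rfl | rfl
  · exact hp
  · exact hh

/-- one step -/
theorem step_mem {s : ℕ} {cf : ℕ → ℕ} {Fix : List ℕ} (g : Γ) (hg : g ∈ L) (hgs : φ g = permSysF.D s)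
    (hs : permSysF.C s)
    (h : chkStepFixL pmu2 A Tf 8064 s cf Fix = true) (k : ℕ) (hk : k < 8064)
    (t : Γ) (ht : t ∈ L) (hφt : φ t = permSysF.D (Tf k)) :
    cf k % 65536 < 8064 ∧ ∃ t' ∈ L, φ t' = permSysF.D (Tf (cf k % 65536)) := by
  obtain ⟨h1, a, ha, h2⟩ := step_explicit hs h k hk
  refine ⟨h1, ?_⟩
  obtain ⟨n, hn, hna⟩ := lift_A_mem a ha
  refine ⟨n⁻¹ * (t * g), L.mul_mem (L.inv_mem (closure_le L hp hh hn)) (L.mul_mem ht hg), ?_⟩
  apply phi_cancel
  rw [map_mul, hφt, hgs, h2, hna]

/-- a transversal element outside the small list generates everything -/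
theorem gv_mem_of (d : ℕ) : ∀ (k : ℕ), dstf k = d → k < 8064 → Lset.contains k = false →
    ∀ t ∈ L, φ t = permSysF.D (Tf k) → gv ∈ L := by
  induction d using Nat.strong_induction_on with
  | _ d ih =>
    intro k hd hk hkL t ht hφt
    have hc := chk_all
    rw [List.all_eq_true] at hc
    have h1 := hc k (List.mem_range.mpr hk)
    unfold chkK at h1
    rw [hkL, Bool.false_or, Bool.or_eq_true, Bool.or_eq_true] at h1
    rcases h1 with (h1 | h1) | h1
    · -- the word
      unfold wordOK at h1
      cases hw : wordTab.lookup k with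
      | none => rw [hw] at h1; exact absurd h1 (by simp)
      | some w =>
        rw [hw] at h1
        have h2 : permSysF.ev [cP, cH, Tf k] w = cV := by simpa using h1
        have hG : ∀ i, ∀ (h1 : i < [gp, gh, t].length) (h2 : i < [cP, cH, Tf k].length),
            φ [gp, gh, t][i] = permSysF.D [cP, cH, Tf k][i] :=
          hG3_of permSysF φ phi_p phi_h hφt
        have hC := hcan3_of permSysF can_p can_h (tabHyp.Tcan k hk)
        have h3 := permSysF.phi_wordProd φ [gp, gh, t] [cP, cH, Tf k] rfl hG hC w
        rw [h2, ← phi_v] at h3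
        rw [← phi_inj h3]
        apply wordProd_mem
        intro g hg
        simp only [List.mem_cons, List.not_mem_nil, or_false] at hg
        rcases hg with rfl | rfl | rfl
        · exact hp
        · exact hh
        · exact ht
    · unfold stepOK at h1
      rw [Bool.and_eq_true, decide_eq_true_eq, Bool.not_eq_true'] at h1
      obtain ⟨h2, t', ht', hφt'⟩ := step_mem L hp hh gp hp phi_p can_p step_P k hk t ht hφt
      exact ih _ (by rw [← hd]; exact h1.1) _ rfl h2 h1.2 t' ht' hφt'
    · unfold stepOK at h1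
      rw [Bool.and_eq_true, decide_eq_true_eq, Bool.not_eq_true'] at h1
      obtain ⟨h2, t', ht', hφt'⟩ := step_mem L hp hh gh hh phi_h can_h step_H k hk t ht hφt
      exact ih _ (by rw [← hd]; exact h1.1) _ rfl h2 h1.2 t' ht' hφt'

end sub


/-! ### the main argument -/

open scoped Pointwise

theorem card_Γ : Nat.card Γ = 443520 := card_M22

theorem prime11 : Fact (Nat.Prime 11) := ⟨by norm_num⟩

theorem fac11 : (Nat.card Γ).factorization 11 = 1 := coreHyp.hfac

theorem ord_gp : orderOf gp = 11 := coreHyp.orderOf_p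

/-- a subgroup of order divisible by `11` has a conjugate containing the first generator -/
theorem exists_conj (L : Subgroup Γ) (h11 : 11 ∣ Nat.card L) :
    ∃ L' : Subgroup Γ, Nat.card L' = Nat.card L ∧ gp ∈ L' := by
  have := prime11
  obtain ⟨x, hx⟩ := exists_prime_orderOf_dvd_card' 11 h11
  have hx' : orderOf (x : Γ) = 11 := by rw [Subgroup.orderOf_coe]; exact hx
  have c1 : Nat.card (Subgroup.zpowers (x : Γ)) = 11 ^ (Nat.card Γ).factorization 11 := by
    rw [fac11, pow_one, Nat.card_zpowers, hx']
  have c2 : Nat.card (Subgroup.zpowers gp) = 11 ^ (Nat.card Γ).factorization 11 := by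
    rw [fac11, pow_one, Nat.card_zpowers, ord_gp]
  obtain ⟨g, hg⟩ := MulAction.exists_smul_eq Γ (Sylow.ofCard _ c1) (Sylow.ofCard _ c2)
  refine ⟨MulAut.conj g • L, ?_, ?_⟩
  · exact (Nat.card_congr (Subgroup.equivSMul (MulAut.conj g) L).toEquiv).symm
  · have h1 : gp ∈ ((Sylow.ofCard _ c2 : Sylow 11 Γ) : Subgroup Γ) := Subgroup.mem_zpowers gp
    rw [← hg, Sylow.coe_subgroup_smul] at h1
    have h2 : MulAut.conj g • Subgroup.zpowers (x : Γ) ≤ MulAut.conj g • L := by
      rw [Subgroup.pointwise_smul_le_pointwise_smul_iff, Subgroup.zpowers_le]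
      exact x.2
    exact h2 h1

/-- the normalizer of the first generator has at most 55 elements -/
theorem card_le_55 (K : Subgroup Γ) (hK : K ≤ Subgroup.normalizer (Subgroup.zpowers gp : Set Γ)) :
    Nat.card K ≤ 55 := by
  have h1 := card_le_of_list φ phi_inj K (A.map permSysF.D) (fun x hx => by
    obtain ⟨a, ha, h⟩ := coreHyp.mem_A_of_normalizer x (hK hx)
    rw [h]
    exact List.mem_map_of_mem ha)
  rwa [List.length_map, len_A] at h1

theorem count_key (L : Subgroup Γ) (hp : gp ∈ L) :
    Nat.card L ≠ 2112 ∧ (Nat.card L = 7920 → gh ∈ L) := by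
  have := prime11
  have hle : Subgroup.zpowers gp ≤ L ⊓ Subgroup.normalizer (Subgroup.zpowers gp : Set Γ) := by
    rw [Subgroup.zpowers_le]
    exact ⟨hp, Subgroup.le_normalizer (Subgroup.mem_zpowers gp)⟩
  have h11 : 11 ∣ Nat.card ↥(L ⊓ Subgroup.normalizer (Subgroup.zpowers gp : Set Γ)) := by
    have := Subgroup.card_dvd_of_le hle
    rwa [Nat.card_zpowers, ord_gp] at this
  have h55 := card_le_55 (L ⊓ Subgroup.normalizer (Subgroup.zpowers gp : Set Γ)) inf_le_right
  obtain ⟨d, hd⟩ := h11
  constructor
  · intro hc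
    have hfac : (Nat.card L).factorization 11 = 1 := by
      rw [hc, show (2112 : ℕ) = 11 ^ 1 * 192 by norm_num]
      exact SylowChain.factorization_pow_mul (by norm_num) 1 192 (by norm_num)
    obtain ⟨n, hn, hcn⟩ := sylow_count L gp hp 11 ord_gp hfac
    rw [hc, hd] at hcn
    rw [hd] at h55
    have hn' : n % 11 = 1 := hn
    have hd5 : d ≤ 5 := by omega
    have hd0 : 0 < d := by
      rcases Nat.eq_zero_or_pos d with h | h
      · rw [h] at hcn; omega
      · exact h
    have h192 : d * n = 192 := by
      have : 11 * (d * n) = 11 * 192 := by rw [← mul_assoc]; omega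
      omega
    interval_cases d <;> omega
  · intro hc
    have hfac : (Nat.card L).factorization 11 = 1 := by
      rw [hc, show (7920 : ℕ) = 11 ^ 1 * 720 by norm_num]
      exact SylowChain.factorization_pow_mul (by norm_num) 1 720 (by norm_num)
    obtain ⟨n, hn, hcn⟩ := sylow_count L gp hp 11 ord_gp hfac
    rw [hc, hd] at hcn
    have hn' : n % 11 = 1 := hn
    have hd5 : d ≤ 5 := by omega
    have hd0 : 0 < d := by
      rcases Nat.eq_zero_or_pos d with h | h
      · rw [h] at hcn; omega
      · exact h
    have h720 : d * n = 720 := by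
      have : 11 * (d * n) = 11 * 720 := by rw [← mul_assoc]; omega
      omega
    have hd' : d = 5 := by
      interval_cases d <;> omega
    have hcard : Nat.card ↥(L ⊓ Subgroup.normalizer (Subgroup.zpowers gp : Set Γ)) = 55 := by
      rw [hd, hd']
    have heq : L ⊓ Subgroup.normalizer (Subgroup.zpowers gp : Set Γ) =
        Subgroup.normalizer (Subgroup.zpowers gp : Set Γ) := by
      apply Subgroup.eq_of_le_of_card_ge inf_le_right
      rw [hcard]
      exact card_le_55 _ le_rfl
    have h1 : gh ∈ L ⊓ Subgroup.normalizer (Subgroup.zpowers gp : Set Γ) := by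
      rw [heq]
      exact coreHyp.h_mem_normalizer
    exact h1.1

theorem Lset_length : Lset.length = 12 := rfl

theorem no_7920 (L : Subgroup Γ) (hp : gp ∈ L) (hc : Nat.card L = 7920) : False := by
  have hh : gh ∈ L := (count_key L hp).2 hc
  by_cases hv : gv ∈ L
  · have htop : L = ⊤ := by
      rw [eq_top_iff, ← gen, Subgroup.closure_le]
      intro x hx
      rcases hx with rfl | rfl | rfl
      · exact hp
      · exact hh
      · exact hv
    rw [htop, Subgroup.card_top, card_Γ] at hc
    omega
  · have h1 := card_le_of_list φ phi_inj L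
      ((A ×ˢ Lset).map (fun pr => permSysF.D pr.1 * permSysF.D (Tf pr.2))) (fun x hx => by
        obtain ⟨a, ha, k, hk, hak⟩ := permSysF.decomp φ [gp, gh, gv] [cP, cH, cV] rfl tabHyp.hG3
          tabHyp.closure3 A Tf 8064 tabHyp.hA0 tabHyp.hApos tabHyp.hT0 tabHyp.hNpos
          tabHyp.A_mul_closed tabHyp.step_all x
        obtain ⟨n, hn, hna⟩ := lift_A_mem a ha
        have ht : n⁻¹ * x ∈ L := L.mul_mem (L.inv_mem (closure_le L hp hh hn)) hx
        have hφt : φ (n⁻¹ * x) = permSysF.D (Tf k) := by
          apply phi_cancel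
          rw [hak, hna]
        cases hkL : Lset.contains k with
        | false => exact absurd (gv_mem_of L hp hh _ k rfl hk hkL _ ht hφt) hv
        | true =>
          rw [hak]
          apply List.mem_map.mpr
          exact ⟨(a, k), List.mem_product.mpr ⟨ha, List.contains_iff_mem.mp hkL⟩, rfl⟩)
    rw [List.length_map, List.length_product, len_A, Lset_length, hc] at h1
    omega

/-- the group has no subgroup of index 56 or 210 -/
theorem index_ne (L : Subgroup Γ) : L.index ≠ 56 ∧ L.index ≠ 210 := by
  have hmul := Subgroup.card_mul_index L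
  rw [card_Γ] at hmul
  constructor
  · intro hi
    rw [hi] at hmul
    have hc : Nat.card L = 7920 := by omega
    obtain ⟨L', hc', hp'⟩ := exists_conj L (by rw [hc]; norm_num)
    exact no_7920 L' hp' (hc'.trans hc)
  · intro hi
    rw [hi] at hmul
    have hc : Nat.card L = 2112 := by omega
    obtain ⟨L', hc', hp'⟩ := exists_conj L (by rw [hc]; norm_num)
    exact (count_key L' hp').1 (hc'.trans hc)


end Cfsg.Agent.Lib.Helper1.M22S
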