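import Cfsg.Agent.Lib.Helper1.M22OutG
import Cfsg.Agent.Lib.Helper1.M22SubD

/-!
# The check for the subgroups containing a local subgroup (M22)
-/

set_option autoImplicit false
set_option maxRecDepth 100000

namespace Cfsg.Agent.Lib.Helper1.M22S

open Cfsg Cfsg.Agent.Lib.Helper1 Cfsg.Agent.Lib.Helper1.PermCode Cfsg.Agent.Lib.Helper1.MatCode
open Cfsg.Agent.Lib.Helper1.M22O

/-- a step in the coset table leads towards a representative -/
def stepOK (j k : ℕ) : Bool := decide (dstf j < dstf k) && !Lset.contains j

/-- the representative generates everything together with the local subgroup -/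
def wordOK (k : ℕ) : Bool :=
  match wordTab.lookup k with
  | some w => permSysF.ev [cP, cH, Tf k] w == cV
  | none => false

/-- the check for one coset -/
def chkK (k : ℕ) : Bool :=
  Lset.contains k || wordOK k || stepOK (cfP k % 65536) k || stepOK (cfH k % 65536) k

theorem chk_all : (List.range 8064).all chkK = true := by decide +kernel

end Cfsg.Agent.Lib.Helper1.M22S
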