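import Cfsg.Agent.Lib.Helper1.M24OutG
import Cfsg.Agent.Lib.Helper1.M23MultD
import Cfsg.Agent.Lib.Helper1.StemSA7
import Cfsg.Agent.Lib.Helper1.Stem12
import Cfsg.Agent.Lib.Helper1.M11Perf
import Cfsg.Agent.Lib.Helper9.M12Conj

/-!
# Stem extensions of the Mathieu group of degree 23 with kernel of order two
-/

set_option autoImplicit false
set_option maxRecDepth 100000

namespace Cfsg.Agent.Lib.Helper1.M23M

open Cfsg Cfsg.Agent.Lib.Helper1 Cfsg.Agent.Lib.Helper1.PermCode Cfsg.Agent.Lib.Helper1.MatCode MulAction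
open Cfsg.Agent.Lib.Helper9.M24 (tperm tabOK tabM24 tget pmaskF mset smul_mset mset_injOn
  squareDodecad_eq natOfPt natOfPt_tperm natOfPt_injective)
open Cfsg.Agent.Lib.Helper1.M23O (tP tH tV cP cH cV gp gh gv phi_p phi_h phi_v can_p can_h can_v
  chk_P chk_H chk_V)
open Cfsg.Agent.Lib.Helper1.Stem Cfsg.Agent.Lib.Helper1.StemSA
open Cfsg.Agent.Lib.Helper1.M24 (P24)

universe u

open scoped commutatorElement Pointwise

theorem chk_struct : D.chkStruct = true := by decide +kernel

theorem chk_specs : D.chkSpecs = true := by decide +kernel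

/-- the codes of the generators -/
abbrev gens : List ℕ := [cP, cH, cV]

/-- the generators -/
abbrev GG : List ↥Cfsg.Spor.M23 := [gp, gh, gv]

theorem pow_ok : (List.range 3).all (fun i =>
    permSysF.ev gens (List.replicate (D.ords.getD i 0) i) == permSysF.c1) = true := by decide +kernel

theorem rel_chk : relsL.all (fun w => permSysF.ev gens w.1 == permSysF.ev gens w.2) = true := by
  decide +kernel

theorem pi_ok : (List.range 3).all (fun i => (List.range 1288).all (fun j =>
    pmaskF ([tP, tH, tV].getD i []) (DL j) == DL (D.pi i j))) = true := by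
  decide +kernel

theorem dl_ok : (List.range 1288).all (fun j => j == 0 || DL j != DL 0) = true := by decide +kernel

theorem dl_zero : DL 0 = 16436384 := by decide +kernel

theorem hGG : ∀ i, ∀ (h1 : i < GG.length) (h2 : i < gens.length),
    phiP Cfsg.Spor.M23 GG[i] = permSysF.D gens[i] :=
  hG3_of permSysF (phiP Cfsg.Spor.M23) phi_p phi_h phi_v

theorem hCC : ∀ c ∈ gens, permSysF.C c := hcan3_of permSysF can_p can_h can_v

theorem wv_eq (w w' : List ℕ) (h : permSysF.ev gens w = permSysF.ev gens w') :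
    wordProd GG w = wordProd GG w' :=
  permSysF.eq_of_ev (phiP Cfsg.Spor.M23) GG gens rfl hGG hCC (phiP_injective _) w w' h

theorem wv_one (w : List ℕ) (h : permSysF.ev gens w = permSysF.c1) : wordProd GG w = 1 :=
  permSysF.eq_one_of_ev (phiP Cfsg.Spor.M23) GG gens rfl hGG hCC (phiP_injective _) w h

/-- the dodecads through the extra point, in the order of the tree -/
def pt (j : ℕ) : Finset GolayPt := mset (DL j)

theorem DL_lt (j : ℕ) : DL j < 2 ^ 24 := Nat.mod_lt _ (by norm_num)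

theorem pt_zero_eq : pt 0 = mset 16436384 := by
  unfold pt
  rw [dl_zero]

theorem pt_zero (j : ℕ) (hj : j < D.m) (h : pt j = pt 0) : j = 0 := by
  have hj' : j < 1288 := hj
  have h1 := dl_ok
  rw [List.all_eq_true] at h1
  have h2 := h1 j (List.mem_range.mpr hj')
  rw [Bool.or_eq_true, beq_iff_eq, bne_iff_ne] at h2
  rcases h2 with h3 | h3
  · exact h3
  · exact absurd (mset_injOn (DL_lt j) (DL_lt 0) h) h3

theorem smul_tperm {t : List ℕ} {c : ℕ} (h : chkM23 t c = true) (j : ℕ) :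
    (⟨tperm t, chkM23_mem h⟩ : ↥Cfsg.Spor.M23) • pt j = mset (pmaskF t (DL j)) := by
  show tperm t • mset (DL j) = _
  exact smul_mset (chkTab_sound (chkM23_tab h)).1 (DL_lt j)

theorem pi_act (i : ℕ) (hi : i < D.k) (j : ℕ) (hj : j < D.m) :
    GG.getD i 1 • pt j = pt (D.pi i j) := by
  have hi' : i < 3 := hi
  have hj' : j < 1288 := hj
  have h := pi_ok
  rw [List.all_eq_true] at h
  have h1 := h i (List.mem_range.mpr hi')
  rw [List.all_eq_true] at h1
  have h2 := h1 j (List.mem_range.mpr hj')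
  rw [beq_iff_eq] at h2
  interval_cases i
  · show gp • pt j = _
    rw [show gp = (⟨tperm tP, chkM23_mem chk_P⟩ : ↥Cfsg.Spor.M23) from rfl, smul_tperm chk_P j]
    unfold pt
    rw [← h2]; rfl
  · show gh • pt j = _
    rw [show gh = (⟨tperm tH, chkM23_mem chk_H⟩ : ↥Cfsg.Spor.M23) from rfl, smul_tperm chk_H j]
    unfold pt
    rw [← h2]; rfl
  · show gv • pt j = _
    rw [show gv = (⟨tperm tV, chkM23_mem chk_V⟩ : ↥Cfsg.Spor.M23) from rfl, smul_tperm chk_V j]
    unfold pt
    rw [← h2]; rfl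

theorem hodd (i : ℕ) (hi : i < D.k) :
    Odd (D.ords.getD i 0) ∧ (GG.getD i 1) ^ (D.ords.getD i 0) = 1 := by
  have hi' : i < 3 := hi
  have h := pow_ok
  rw [List.all_eq_true] at h
  have h1 := h i (List.mem_range.mpr hi')
  rw [beq_iff_eq] at h1
  have h2 := wv_one _ h1
  rw [wordProd_replicate] at h2
  refine ⟨?_, h2⟩
  interval_cases i <;> decide

theorem hrel (w : List ℕ × List ℕ) (hw : w ∈ D.rels) : wordProd GG w.1 = wordProd GG w.2 := by
  have h := rel_chk
  rw [List.all_eq_true] at h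
  have h1 := h w hw
  rw [beq_iff_eq] at h1
  exact wv_eq _ _ h1

theorem hgen : Subgroup.closure {g | ∃ i < D.k, g = GG.getD i 1} = ⊤ := by
  rw [eq_top_iff, ← M23O.gen, Subgroup.closure_le]
  intro g hg
  simp only [Set.mem_insert_iff, Set.mem_singleton_iff] at hg
  rcases hg with rfl | rfl | rfl
  · exact Subgroup.subset_closure ⟨0, by decide, rfl⟩
  · exact Subgroup.subset_closure ⟨1, by decide, rfl⟩
  · exact Subgroup.subset_closure ⟨2, by decide, rfl⟩

/-- the involution of the group of the code swapping the extra point and the residue 0 -/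
def gam : P24 := tperm M24O.tG

theorem gam_mem : gam ∈ M24 := chkM24_mem M24O.chk_G

theorem gam_sq : gam * gam = 1 := congrArg Subtype.val M24O.gg_sq

theorem gam_inv : gam⁻¹ = gam := inv_eq_of_mul_eq_one_right gam_sq

theorem gam_none : gam none = some 0 := M24O.gg_none

theorem gam_zero : gam (some 0) = none := by
  rw [← gam_none, ← Equiv.Perm.mul_apply, gam_sq]
  rfl

theorem mask_G : pmaskF M24O.tG 340831 = 16436384 := by decide +kernel

theorem gam_smul : gam • Cfsg.Spor.squareDodecad = pt 0 := by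
  rw [squareDodecad_eq, pt_zero_eq]
  unfold gam
  rw [smul_mset (chkTab_sound M24O.chk_G).1 (by norm_num), mask_G]

theorem apply_none (g : ↥Cfsg.Spor.M23) : g.1 none = none := mem_stabilizer_iff.mp g.2.2

theorem mem_stab_iff (g : ↥Cfsg.Spor.M23) :
    g ∈ MulAction.stabilizer ↥Cfsg.Spor.M23 (pt 0) ↔ gam⁻¹ * g.1 * gam ∈ Cfsg.Spor.M11 := by
  rw [MulAction.mem_stabilizer_iff, ← gam_smul]
  unfold Cfsg.Spor.M11 Cfsg.Spor.M12
  rw [Subgroup.mem_inf, Subgroup.mem_inf, mem_stabilizer_iff, mem_stabilizer_iff]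
  constructor
  · intro hg
    have hg' : g.1 • gam • Cfsg.Spor.squareDodecad = gam • Cfsg.Spor.squareDodecad := hg
    refine ⟨⟨M24.mul_mem (M24.mul_mem (M24.inv_mem gam_mem) g.2.1) gam_mem, ?_⟩, ?_⟩
    · rw [mul_smul, mul_smul, hg', inv_smul_smul]
    · show (gam⁻¹ * g.1 * gam) (some 0) = some 0
      rw [Equiv.Perm.mul_apply, Equiv.Perm.mul_apply, gam_zero, apply_none, gam_inv, gam_none]
  · rintro ⟨⟨_, h1⟩, _⟩
    show g.1 • gam • Cfsg.Spor.squareDodecad = gam • Cfsg.Spor.squareDodecad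
    rw [mul_smul, mul_smul, inv_smul_eq_iff] at h1
    exact h1

theorem conj_mem (k : P24) (hk : k ∈ Cfsg.Spor.M11) : gam * k * gam⁻¹ ∈ Cfsg.Spor.M23 := by
  have hk' := hk
  unfold Cfsg.Spor.M11 Cfsg.Spor.M12 at hk'
  rw [Subgroup.mem_inf, Subgroup.mem_inf, mem_stabilizer_iff] at hk'
  obtain ⟨⟨h1, _⟩, h3⟩ := hk'
  have h3' : k (some 0) = some 0 := h3
  unfold Cfsg.Spor.M23
  rw [Subgroup.mem_inf, mem_stabilizer_iff]
  refine ⟨M24.mul_mem (M24.mul_mem gam_mem h1) (M24.inv_mem gam_mem), ?_⟩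
  show (gam * k * gam⁻¹) none = none
  rw [Equiv.Perm.mul_apply, Equiv.Perm.mul_apply, gam_inv, gam_none, h3', gam_zero]

/-- the stabilizer of the first dodecad is the Mathieu group of degree 11 -/
def stabEquiv : ↥(MulAction.stabilizer ↥Cfsg.Spor.M23 (pt 0)) ≃* ↥Cfsg.Spor.M11 :=
  conjEquivSub Cfsg.Spor.M23 (MulAction.stabilizer ↥Cfsg.Spor.M23 (pt 0)) Cfsg.Spor.M11 gam conj_mem
    mem_stab_iff

theorem stab_perfect : commutator ↥(MulAction.stabilizer ↥Cfsg.Spor.M23 (pt 0)) = ⊤ :=
  commutator_eq_top_of_equiv stabEquiv.symm M11M.commutator_M11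

/-- no stem extension of the Mathieu group of degree 23 has a kernel of order two -/
theorem no_stem_two_M23 (Γ : Type u) [Group Γ] [Finite Γ] (σ : Γ →* ↥Cfsg.Spor.M23)
    (hσ : Cfsg.IsStemExtension σ) (hc : Nat.card σ.ker = 2) : False :=
  no_stem_two D chk_struct chk_specs (by decide) pt GG hgen pt_zero pi_act hodd hrel stab_perfect
    (M11M.trivStems_M11.of_equiv stabEquiv.symm) Γ σ hσ hc

end Cfsg.Agent.Lib.Helper1.M23M
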