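import Mathlib

set_option autoImplicit false

namespace Cfsg.Agent.Lib.Helper1.M23M

def tX3 : List ℕ := [13, 6, 16, 0, 4, 5, 8, 14, 1, 2, 10, 21, 12, 3, 17, 19, 9, 7, 18, 20, 15, 22, 11, 23]
def tY3 : List ℕ := [3, 1, 16, 13, 18, 5, 6, 19, 8, 2, 10, 14, 4, 0, 20, 21, 9, 15, 12, 22, 11, 17, 7, 23]
def tN3 : List ℕ := [9, 8, 13, 2, 12, 10, 6, 21, 1, 3, 5, 20, 18, 16, 11, 7, 0, 22, 4, 17, 14, 19, 15, 23]
def cX3 : ℕ := 970573693959906717364582374541639885
def cY3 : ℕ := 965173574513020727970165306320928803
def cN3 : ℕ := 975642893105759202147000073089791241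
def L9 : List ℕ := [984818244535754528103549039458486304, 970573693959906717364582374541639885, 983113095889320842171436621841736963, 965173574513020727970165306320928803, 973866686720804476622819661296280768, 978046526945768892804095125644904717, 980672534510761780211390430761198637, 982136948307838678534288454552291523, 975674583956380680074194843309555968]

end Cfsg.Agent.Lib.Helper1.M23M
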