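import Cfsg.Agent.Lib.Helper1.M23Mult
import Cfsg.Agent.Lib.Helper1.M23Mult3D
import Cfsg.Agent.Lib.Helper1.Stem6
import Cfsg.Agent.Lib.Helper1.Stem8
import Cfsg.Agent.Lib.Helper1.Stem9

/-!
# Stem extensions of the Mathieu group of degree 23 are trivial
-/

set_option autoImplicit false
set_option maxRecDepth 100000

namespace Cfsg.Agent.Lib.Helper1.M23M

open Cfsg Cfsg.Agent.Lib.Helper1 Cfsg.Agent.Lib.Helper1.PermCode Cfsg.Agent.Lib.Helper1.MatCode MulAction
open Cfsg.Agent.Lib.Helper9.M24 (tperm tabOK tabM24 tget pmaskF)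
open Cfsg.Agent.Lib.Helper1.Stem Cfsg.Agent.Lib.Helper1.StemSA

open scoped commutatorElement

universe u

theorem chk_X3 : chkM23 tX3 cX3 = true := by decide +kernel
theorem chk_Y3 : chkM23 tY3 cY3 = true := by decide +kernel
theorem chk_N3 : chkM23 tN3 cN3 = true := by decide +kernel

/-- generators of a Sylow 3-subgroup and an element inverting the first and centralizing the
second -/
def g3x : ↥Cfsg.Spor.M23 := ⟨tperm tX3, chkM23_mem chk_X3⟩
def g3y : ↥Cfsg.Spor.M23 := ⟨tperm tY3, chkM23_mem chk_Y3⟩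
def g3n : ↥Cfsg.Spor.M23 := ⟨tperm tN3, chkM23_mem chk_N3⟩

/-- the codes -/
abbrev gens3 : List ℕ := [cX3, cY3, cN3]

/-- the elements -/
abbrev GG3 : List ↥Cfsg.Spor.M23 := [g3x, g3y, g3n]

theorem hGG3 : ∀ i, ∀ (h1 : i < GG3.length) (h2 : i < gens3.length),
    phiP Cfsg.Spor.M23 GG3[i] = permSysF.D gens3[i] :=
  hG3_of permSysF (phiP Cfsg.Spor.M23) (phiP_of_chkTab (chkM23_tab chk_X3) _ _)
    (phiP_of_chkTab (chkM23_tab chk_Y3) _ _) (phiP_of_chkTab (chkM23_tab chk_N3) _ _)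

theorem hCC3 : ∀ c ∈ gens3, permSysF.C c :=
  hcan3_of permSysF (canon_of_chkTab (chkM23_tab chk_X3)) (canon_of_chkTab (chkM23_tab chk_Y3))
    (canon_of_chkTab (chkM23_tab chk_N3))

theorem w3_eq (w w' : List ℕ) (h : permSysF.ev gens3 w = permSysF.ev gens3 w') :
    wordProd GG3 w = wordProd GG3 w' :=
  permSysF.eq_of_ev (phiP Cfsg.Spor.M23) GG3 gens3 rfl hGG3 hCC3 (phiP_injective _) w w' h

theorem w3_one (w : List ℕ) (h : permSysF.ev gens3 w = permSysF.c1) : wordProd GG3 w = 1 :=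
  permSysF.eq_one_of_ev (phiP Cfsg.Spor.M23) GG3 gens3 rfl hGG3 hCC3 (phiP_injective _) w h

theorem sub_9 : permSysF.subChk gens3 (pairWords [0] [1] 3 9) L9 = true := by decide +kernel
theorem len_9 : (pairWords [0] [1] 3 9).length + 1 = 9 := by decide +kernel
theorem r_xy : permSysF.ev gens3 [0, 1] = permSysF.ev gens3 [1, 0] := by decide +kernel
theorem r_n6 : permSysF.ev gens3 [2, 2, 2, 2, 2, 2] = permSysF.c1 := by decide +kernel
theorem r_nx : permSysF.ev gens3 [2, 0, 2, 2, 2, 2, 2, 0] = permSysF.c1 := by decide +kernel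
theorem r_ny : permSysF.ev gens3 [2, 1, 2, 2, 2, 2, 2] = permSysF.ev gens3 [1] := by decide +kernel

theorem sq_chk23 : (List.range 3194).all
    (fun ℓ => !(10200960 % (ℓ * ℓ) == 0) || (24 % ℓ == 0)) = true := by decide +kernel

theorem sq_dvd23 (ℓ : ℕ) (hℓ : ℓ < 3194) (h : ℓ * ℓ ∣ 10200960) : ℓ ∣ 24 := by
  have h1 := sq_chk23
  rw [List.all_eq_true] at h1
  have h2 := h1 ℓ (List.mem_range.mpr hℓ)
  rw [Bool.or_eq_true, Bool.not_eq_true', beq_eq_false_iff_ne, beq_iff_eq] at h2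
  rcases h2 with h2 | h2
  · exact absurd (Nat.mod_eq_zero_of_dvd h) h2
  · exact Nat.dvd_of_mod_eq_zero h2

theorem n3_inv : g3n⁻¹ = g3n * g3n * g3n * g3n * g3n := by
  apply inv_eq_of_mul_eq_one_right
  have := w3_one _ r_n6
  simpa [wordProd_cons, wordProd_nil, mul_assoc] using this

theorem wp0 : wordProd GG3 [0] = g3x := by simp [wordProd_cons, wordProd_nil]
theorem wp1 : wordProd GG3 [1] = g3y := by simp [wordProd_cons, wordProd_nil]

/-- the Sylow 3-subgroup kills the 3-part -/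
theorem kills_three {Γ : Type*} [Group Γ] (σ : Γ →* ↥Cfsg.Spor.M23) (hs : Function.Surjective σ)
    (hcen : σ.ker ≤ Subgroup.center Γ) : Kills σ 3 (Subgroup.closure {g3x, g3y}) := by
  apply kills_a2 σ hs hcen 3 (by norm_num) g3x g3y g3n
  · have := w3_eq _ _ r_xy
    simpa [wordProd_cons, wordProd_nil] using this
  · rw [n3_inv]
    apply eq_inv_of_mul_eq_one_left
    have := w3_one _ r_nx
    simpa [wordProd_cons, wordProd_nil, mul_assoc] using this
  · rw [n3_inv]
    have := w3_eq _ _ r_ny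
    simpa [wordProd_cons, wordProd_nil, mul_assoc] using this

theorem index_three : ¬ 3 ∣ (Subgroup.closure ({g3x, g3y} : Set ↥Cfsg.Spor.M23)).index := by
  have hle := subW_pairWords_le GG3 [0] [1] 3 9
  rw [wp0, wp1] at hle
  apply not_dvd_index_of_le _ _ hle 3 9 1133440
  · rw [permSysF.card_subW (phiP Cfsg.Spor.M23) GG3 gens3 rfl hGG3 hCC3 (phiP_injective _) _ L9 sub_9,
      len_9]
  · rw [card_M23]
  · norm_num
  · norm_num

/-- the Mathieu group of degree 23 has no nontrivial stem extensions -/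
theorem trivStems_M23 : TrivStems.{u} ↥Cfsg.Spor.M23 := by
  apply trivStems_of_prime
  intro Γ _ _ σ hσ hp
  set ℓ := Nat.card σ.ker with hℓ
  have hd := dvd_card_of_card_ker σ hσ ℓ hp rfl
  by_cases h2 : ℓ = 2
  · exact no_stem_two_M23 Γ σ hσ h2
  by_cases h3 : ℓ = 3
  · exact false_of_kills_prime σ hσ 3 Nat.prime_three h3 _ index_three (kills_three σ hσ.1 hσ.2.1)
  · have hex : ∃ P : Subgroup ↥Cfsg.Spor.M23, ¬ ℓ ∣ P.index ∧ Kills σ ℓ P := by
      apply exists_kills_of_exact σ hσ.1 hσ.2.1 ℓ hp hd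
      rw [card_M23]
      intro hsq
      have hlt : ℓ < 3194 := by
        by_contra hge
        have h1 : 3194 * 3194 ≤ ℓ * ℓ := Nat.mul_le_mul (by omega) (by omega)
        have h2 := Nat.le_of_dvd (by norm_num) hsq
        omega
      have h24 := sq_dvd23 ℓ hlt hsq
      have e : (24 : ℕ) = 2 ^ 3 * 3 := by norm_num
      rw [e] at h24
      rcases (Nat.Prime.dvd_mul hp).mp h24 with h | h
      · exact h2 ((Nat.prime_dvd_prime_iff_eq hp Nat.prime_two).mp (hp.dvd_of_dvd_pow h))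
      · exact h3 ((Nat.prime_dvd_prime_iff_eq hp Nat.prime_three).mp h)
    obtain ⟨P, hPi, hPk⟩ := hex
    exact false_of_kills_prime σ hσ ℓ hp rfl P hPi hPk

end Cfsg.Agent.Lib.Helper1.M23M
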