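import Cfsg.Agent.Lib.Helper1.CodeSys2

/-!
# Splitting a check over a range into checks over consecutive pieces
-/

set_option autoImplicit false

namespace Cfsg.Agent.Lib.Helper1

theorem all_range'_add (f : ℕ → Bool) (s m n : ℕ) (h1 : (List.range' s m).all f = true)
    (h2 : (List.range' (s + m) n).all f = true) : (List.range' s (m + n)).all f = true := by
  rw [← List.range'_append_1, List.all_append, h1, h2]
  rfl

/-- a check over `range (4 * c)` from checks over four pieces of length `c` -/
theorem all_range_four (f : ℕ → Bool) (c : ℕ) (h1 : (List.range' 0 c).all f = true)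
    (h2 : (List.range' c c).all f = true) (h3 : (List.range' (2 * c) c).all f = true)
    (h4 : (List.range' (3 * c) c).all f = true) : (List.range (4 * c)).all f = true := by
  rw [List.range_eq_range']
  have e : 4 * c = c + c + c + c := by ring
  rw [e]
  apply all_range'_add
  · apply all_range'_add
    · apply all_range'_add
      · exact h1
      · rw [Nat.zero_add]; exact h2
    · rw [Nat.zero_add, ← Nat.two_mul]; exact h3
  · have e2 : 0 + (c + c + c) = 3 * c := by ring
    rw [e2]; exact h4

open Cfsg.Agent.Lib.Helper1.MatCode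

/-- one row of the stepping certificate with fixed cosets -/
def stepFixRow (mu : ℕ → ℕ → ℕ) (A : List ℕ) (Tf : ℕ → ℕ) (N s : ℕ) (cf : ℕ → ℕ) (Fix : List ℕ)
    (k : ℕ) : Bool :=
  decide (cf k % 65536 < N) && (cf k % 65536 != k || Fix.contains k) &&
    match A[cf k / 65536]? with
    | some a => mu (Tf k) s == mu a (Tf (cf k % 65536))
    | none => false

theorem chkStepFixL_eq (mu : ℕ → ℕ → ℕ) (A : List ℕ) (Tf : ℕ → ℕ) (N s : ℕ) (cf : ℕ → ℕ)
    (Fix : List ℕ) :
    chkStepFixL mu A Tf N s cf Fix = (List.range N).all (stepFixRow mu A Tf N s cf Fix) := rfl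

/-- one row of the stepping certificate -/
def stepRow (mu : ℕ → ℕ → ℕ) (A : List ℕ) (Tf : ℕ → ℕ) (N s : ℕ) (cf : ℕ → ℕ) (k : ℕ) : Bool :=
  decide (cf k % 65536 < N) &&
    match A[cf k / 65536]? with
    | some a => mu (Tf k) s == mu a (Tf (cf k % 65536))
    | none => false

theorem chkStepF_eq (mu : ℕ → ℕ → ℕ) (A : List ℕ) (Tf : ℕ → ℕ) (N s : ℕ) (cf : ℕ → ℕ) :
    chkStepF mu A Tf N s cf = (List.range N).all (stepRow mu A Tf N s cf) := rfl

end Cfsg.Agent.Lib.Helper1
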