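import Cfsg.Agent.Lib.Helper1.M23OutD
import Cfsg.Agent.Lib.Helper1.RangeChunks

/-!
# Checks for the automorphisms of a group of permutations of the 24 points (M23, part 2)
-/

set_option autoImplicit false
set_option maxRecDepth 100000

namespace Cfsg.Agent.Lib.Helper1.M23O

open Cfsg Cfsg.Agent.Lib.Helper1 Cfsg.Agent.Lib.Helper1.PermCode Cfsg.Agent.Lib.Helper1.MatCode

theorem step_P_1 : (List.range' 0 10080).all (stepFixRow pmu2 A Tf 40320 cP cfP [0]) = true := by decide +kernel

theorem step_P_2 : (List.range' 10080 10080).all (stepFixRow pmu2 A Tf 40320 cP cfP [0]) = true := by decide +kernel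

theorem step_P_3 : (List.range' 20160 10080).all (stepFixRow pmu2 A Tf 40320 cP cfP [0]) = true := by decide +kernel

theorem step_P_4 : (List.range' 30240 10080).all (stepFixRow pmu2 A Tf 40320 cP cfP [0]) = true := by decide +kernel

theorem step_P : chkStepFixL pmu2 A Tf 40320 cP cfP [0] = true :=
  all_range_four _ 10080 step_P_1 step_P_2 step_P_3 step_P_4

end Cfsg.Agent.Lib.Helper1.M23O
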