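import Cfsg.Agent.Lib.Helper1.M23OutC1
import Cfsg.Agent.Lib.Helper1.M23OutC2
import Cfsg.Agent.Lib.Helper1.M23OutC3
import Cfsg.Agent.Lib.Helper1.M23OutC4
import Cfsg.Agent.Lib.Helper1.M23OutC5

/-!
# The automorphisms of a group of permutations of the 24 points (M23)
-/

set_option autoImplicit false
set_option maxRecDepth 100000

namespace Cfsg.Agent.Lib.Helper1.M23O

open Cfsg Cfsg.Agent.Lib.Helper1 Cfsg.Agent.Lib.Helper1.PermCode Cfsg.Agent.Lib.Helper1.MatCode
open Cfsg.Agent.Lib.Helper9.M24 (tperm tabOK tabM24 tget pmaskF)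

/-- the first generator -/
def gp : ↥Cfsg.Spor.M23 := ⟨tperm tP, chkM23_mem chk_P⟩
/-- the second generator -/
def gh : ↥Cfsg.Spor.M23 := ⟨tperm tH, chkM23_mem chk_H⟩
/-- the third generator -/
def gv : ↥Cfsg.Spor.M23 := ⟨tperm tV, chkM23_mem chk_V⟩

theorem phi_p : phiP Cfsg.Spor.M23 gp = permSysF.D cP := phiP_of_chkTab (chkM23_tab chk_P) _ _
theorem phi_h : phiP Cfsg.Spor.M23 gh = permSysF.D cH := phiP_of_chkTab (chkM23_tab chk_H) _ _
theorem phi_v : phiP Cfsg.Spor.M23 gv = permSysF.D cV := phiP_of_chkTab (chkM23_tab chk_V) _ _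
theorem can_p : permSysF.C cP := canon_of_chkTab (chkM23_tab chk_P)
theorem can_h : permSysF.C cH := canon_of_chkTab (chkM23_tab chk_H)
theorem can_v : permSysF.C cV := canon_of_chkTab (chkM23_tab chk_V)

theorem gen : Subgroup.closure ({gp, gh, gv} : Set ↥Cfsg.Spor.M23) = ⊤ := by
  rw [set3_eq]
  apply eq_top_of_factors _ [128, 9, 5, 7, 11, 23] (by decide) (by rw [card_M23]; rfl)
  intro f hf
  simp only [List.mem_cons, List.not_mem_nil, or_false] at hf
  have hG := hG3_of permSysF (phiP Cfsg.Spor.M23) phi_p phi_h phi_v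
  have hC := hcan3_of permSysF can_p can_h can_v
  rcases hf with rfl | rfl | rfl | rfl | rfl | rfl
  · have h1 := permSysF.card_subT (phiP Cfsg.Spor.M23) [gp, gh, gv] [cP, cH, cV] rfl hG hC (phiP_injective _) ws2 Q2 parQ2 sub_2
    have h2 := Subgroup.card_dvd_of_le (subW_le_closure [gp, gh, gv] ws2)
    rw [h1, len_Q2] at h2
    exact h2
  · have h1 := permSysF.card_subT (phiP Cfsg.Spor.M23) [gp, gh, gv] [cP, cH, cV] rfl hG hC (phiP_injective _) ws3 Q3 parQ3 sub_3
    have h2 := Subgroup.card_dvd_of_le (subW_le_closure [gp, gh, gv] ws3)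
    rw [h1, len_Q3] at h2
    exact h2
  · have h1 := permSysF.orderOf_of_ordChk (phiP Cfsg.Spor.M23) [gp, gh, gv] [cP, cH, cV] rfl hG hC (phiP_injective _) [2] 1 5 (by norm_num) ord_5
    rw [← h1]
    exact Subgroup.orderOf_dvd_natCard _ (Subgroup.pow_mem _ (wordProd_mem_closure _ _) _)
  · have h1 := permSysF.orderOf_of_ordChk (phiP Cfsg.Spor.M23) [gp, gh, gv] [cP, cH, cV] rfl hG hC (phiP_injective _) [0, 0, 2] 1 7 (by norm_num) ord_7
    rw [← h1]
    exact Subgroup.orderOf_dvd_natCard _ (Subgroup.pow_mem _ (wordProd_mem_closure _ _) _)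
  · have h1 := permSysF.orderOf_of_ordChk (phiP Cfsg.Spor.M23) [gp, gh, gv] [cP, cH, cV] rfl hG hC (phiP_injective _) [1] 1 11 (by norm_num) ord_11
    rw [← h1]
    exact Subgroup.orderOf_dvd_natCard _ (Subgroup.pow_mem _ (wordProd_mem_closure _ _) _)
  · have h1 := permSysF.orderOf_of_ordChk (phiP Cfsg.Spor.M23) [gp, gh, gv] [cP, cH, cV] rfl hG hC (phiP_injective _) [0] 1 23 (by norm_num) ord_23
    rw [← h1]
    exact Subgroup.orderOf_dvd_natCard _ (Subgroup.pow_mem _ (wordProd_mem_closure _ _) _)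

theorem tabHyp : TabHyp permSysF (phiP Cfsg.Spor.M23) gp gh gv tabD where
  hφ := phiP_injective _
  hp := phi_p
  hh := phi_h
  hv := phi_v
  hcp := can_p
  hch := can_h
  hcv := can_v
  hgen := gen
  hA0 := head_A
  hApos := by show 0 < A.length; rw [len_A]; norm_num
  hT0 := head_T
  hNpos := by show 0 < 40320; norm_num
  hAcan := canon_A
  hTcan := canon_T
  hrcA := rc_A
  htree := tree_A
  hstepP := step_P
  hstepH := step_H
  hstepV := step_V
  hcard := by rw [card_M23]; show 10200960 = A.length * 40320; rw [len_A]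
  hFixlt := by
    intro k hk
    have h := fix_lt
    rw [List.all_eq_true] at h
    exact of_decide_eq_true (h k hk)

theorem coreHyp : CoreHyp permSysF (phiP Cfsg.Spor.M23) gp gh gv coreD where
  hφ := phiP_injective _
  hp := phi_p
  hh := phi_h
  hv := phi_v
  hcp := can_p
  hch := can_h
  hcv := can_v
  hgen := gen
  hA0 := head_A
  hApos := by show 0 < A.length; rw [len_A]; norm_num
  hAcan := canon_A
  htree := tree_A
  hN1 := tabHyp.mem_A_of_conj
  hN2 := tabHyp.mem_L2_of_conj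
  hL2can := l2_canon
  hq := by show Nat.Prime 23; norm_num
  hord := ord_P
  hfac := by
    rw [card_M23, show (10200960 : ℕ) = 23 ^ 1 * 443520 by norm_num]
    exact SylowChain.factorization_pow_mul (by norm_num) 1 443520 (by norm_num)
  hrel := rel_1
  hrel' := rel_2
  hPL0 := head_PL
  hPLchain := chain_PL
  hPLlen := len_PL
  hPLA := PL_sub_A
  hK0 := by
    intro k hk
    have h := K0_lt
    rw [List.all_eq_true] at h
    exact of_decide_eq_true (h k hk)
  hNT := nt_ok
  hvrel := vrel_1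
  hvrel' := vrel_2
  hEorig := eorig_ok
  hET := et_ok

/-- every automorphism is inner -/
theorem all_inner (α : MulAut ↥Cfsg.Spor.M23) :
    α ∈ (MulAut.conj : ↥Cfsg.Spor.M23 →* MulAut ↥Cfsg.Spor.M23).range :=
  coreHyp.inner_of_surv rfl α

theorem card_out : Nat.card (Cfsg.Out ↥Cfsg.Spor.M23) = 1 := card_out_eq_one all_inner

end Cfsg.Agent.Lib.Helper1.M23O
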