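import Cfsg.Agent.Lib.Helper1.M23SubC

/-!
# Subgroups of a group of permutations of the 24 points containing a local subgroup (M23)

The subgroup of order `253` generated by the first two generators is maximal.
-/

set_option autoImplicit false
set_option maxRecDepth 100000

namespace Cfsg.Agent.Lib.Helper1.M23S

open Cfsg Cfsg.Agent.Lib.Helper1 Cfsg.Agent.Lib.Helper1.PermCode Cfsg.Agent.Lib.Helper1.MatCode
open Cfsg.Agent.Lib.Helper1.M23O

/-! ### general facts -/

section general

variable {M : Type*} [Monoid M] {Γ : Type*} [Group Γ] (φ : Γ →* M)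

theorem phi_cancel (n x : Γ) (m : M) (h : φ x = φ n * m) : φ (n⁻¹ * x) = m := by
  rw [map_mul, h, ← mul_assoc, ← map_mul, inv_mul_cancel, map_one, one_mul]

/-- a subgroup whose images lie in a list has at most as many elements as the list -/
theorem card_le_of_list [Finite Γ] (hφ : Function.Injective φ) (K : Subgroup Γ) (Ml : List M)
    (hK : ∀ x ∈ K, φ x ∈ Ml) : Nat.card K ≤ Ml.length := by
  classical
  have h1 : Nat.card K ≤ Nat.card {m // m ∈ Ml.toFinset} := by
    apply Nat.card_le_card_of_injective (fun x : K => (⟨φ x.1, List.mem_toFinset.mpr (hK x.1 x.2)⟩ : {m // m ∈ Ml.toFinset}))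
    intro a b hab
    exact Subtype.ext (hφ (congrArg Subtype.val hab))
  have h2 : Nat.card {m // m ∈ Ml.toFinset} = Ml.toFinset.card := by
    rw [Nat.card_eq_fintype_card, Fintype.card_coe]
  rw [h2] at h1
  exact h1.trans (List.toFinset_card_le Ml)

end general

/-! ### the group -/

/-- the group -/
abbrev Γ : Type := ↥Cfsg.Spor.M23

/-- the coding map -/
abbrev φ : Γ →* Function.End (Fin 24) := phiP Cfsg.Spor.M23

theorem phi_inj : Function.Injective φ := phiP_injective _

/-- the local subgroup -/
def B0 : Subgroup Γ := Subgroup.closure ({gp, gh} : Set Γ)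

theorem gp_mem : gp ∈ B0 := Subgroup.subset_closure (by simp)

theorem gh_mem : gh ∈ B0 := Subgroup.subset_closure (by simp)

/-- elements of the first local subgroup, with membership in the subgroup generated by the
first two generators -/
theorem lift_A_mem (a : ℕ) (ha : a ∈ A) : ∃ g ∈ B0, φ g = permSysF.D a := by
  have h1 := chkTree_sound permSysF.D permSysF.mu permSysF.C permSysF.hmu (L := A) (SA := [cP, cH])
    (par := parA) coreHyp.hcan2 (by rw [head_A]; exact permSysF.D_c1) tree_A a ha
  have key : ∀ m ∈ Submonoid.closure {m | ∃ s ∈ [cP, cH], m = permSysF.D s},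
      ∃ g ∈ B0, φ g = m := by
    intro m hm
    induction hm using Submonoid.closure_induction with
    | mem m hm =>
      obtain ⟨s, hs, rfl⟩ := hm
      simp only [List.mem_cons, List.not_mem_nil, or_false] at hs
      rcases hs with rfl | rfl
      · exact ⟨gp, gp_mem, phi_p⟩
      · exact ⟨gh, gh_mem, phi_h⟩
    | one => exact ⟨1, Subgroup.one_mem _, map_one φ⟩
    | mul m m' _ _ ih ih' =>
      obtain ⟨g, hg1, hg⟩ := ih
      obtain ⟨g', hg1', hg'⟩ := ih'
      exact ⟨g * g', Subgroup.mul_mem _ hg1 hg1', by rw [map_mul, hg, hg']⟩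
  exact key _ h1

/-- the elements of the local subgroup have their codes in the list -/
theorem mem_A_of_mem (g : Γ) (hg : g ∈ B0) : ∃ a ∈ A, φ g = permSysF.D a := by
  refine permSysF.phi_mem_of_closure φ A {gp, gh} [cP, cH] coreHyp.hcan2 ?_ head_A
    (by rw [len_A]; norm_num) rc_A g hg
  intro u hu
  rcases hu with rfl | rfl
  · exact ⟨cP, by simp, phi_p⟩
  · exact ⟨cH, by simp, phi_h⟩

theorem card_B0_le : Nat.card B0 ≤ 253 := by
  have h1 := card_le_of_list φ phi_inj B0 (A.map permSysF.D) (fun x hx => by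
    obtain ⟨a, ha, h⟩ := mem_A_of_mem x hx
    rw [h]
    exact List.mem_map_of_mem ha)
  rwa [List.length_map, len_A] at h1

theorem ord_gp : orderOf gp = 23 := coreHyp.orderOf_p

theorem ord_gh : orderOf gh = 11 := by
  have hG := hG3_of permSysF φ phi_p phi_h phi_v
  have hC := hcan3_of permSysF can_p can_h can_v
  have h1 := permSysF.orderOf_of_ordChk φ [gp, gh, gv] [cP, cH, cV] rfl hG hC phi_inj [1] 1 11
    (by norm_num) ord_11
  have e : wordProd [gp, gh, gv] [1] = gh := by
    rw [wordProd_cons, wordProd_nil, mul_one]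
    rfl
  rwa [e, pow_one] at h1

theorem card_B0 : Nat.card B0 = 253 := by
  have h23 : 23 ∣ Nat.card B0 := by
    rw [← ord_gp]
    exact Subgroup.orderOf_dvd_natCard _ gp_mem
  have h11 : 11 ∣ Nat.card B0 := by
    rw [← ord_gh]
    exact Subgroup.orderOf_dvd_natCard _ gh_mem
  have h253 : 23 * 11 ∣ Nat.card B0 :=
    Nat.Coprime.mul_dvd_of_dvd_of_dvd (by norm_num) h23 h11
  have hle := card_B0_le
  have hpos : 0 < Nat.card B0 := Nat.card_pos
  obtain ⟨c, hc⟩ := h253
  have : c = 1 := by
    rcases Nat.lt_or_ge c 2 with h | h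
    · rcases Nat.eq_zero_or_pos c with h0 | h0
      · rw [h0] at hc; omega
      · omega
    · nlinarith
  rw [hc, this]

/-- the steps of the coset table, with the explicit target -/
theorem step_explicit {s : ℕ} {cf : ℕ → ℕ} {Fix : List ℕ} (hs : permSysF.C s)
    (h : chkStepFixL pmu2 A Tf 40320 s cf Fix = true) (k : ℕ) (hk : k < 40320) :
    cf k % 65536 < 40320 ∧ ∃ a ∈ A,
      permSysF.D (Tf k) * permSysF.D s = permSysF.D a * permSysF.D (Tf (cf k % 65536)) := by
  unfold chkStepFixL at h
  rw [List.all_eq_true] at h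
  have h3 := h k (List.mem_range.mpr hk)
  rw [Bool.and_eq_true, Bool.and_eq_true, decide_eq_true_eq] at h3
  obtain ⟨⟨h4, -⟩, h5⟩ := h3
  refine ⟨h4, ?_⟩
  cases hA : A[cf k / 65536]? with
  | none => rw [hA] at h5; exact absurd h5 (by simp)
  | some a =>
    rw [hA] at h5
    have h6 : pmu2 (Tf k) s = pmu2 a (Tf (cf k % 65536)) := by simpa using h5
    refine ⟨a, List.mem_of_getElem? hA, ?_⟩
    have e1 := permSysF.hmu (Tf k) s hs
    have e2 := permSysF.hmu a (Tf (cf k % 65536)) (tabHyp.Tcan _ h4)
    rw [← e1, ← e2]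
    exact congrArg permSysF.D h6

section sub

variable (L : Subgroup Γ) (hL : B0 ≤ L)
include hL

/-- one step -/
theorem step_mem {s : ℕ} {cf : ℕ → ℕ} {Fix : List ℕ} (g : Γ) (hg : g ∈ L) (hgs : φ g = permSysF.D s)
    (hs : permSysF.C s)
    (h : chkStepFixL pmu2 A Tf 40320 s cf Fix = true) (k : ℕ) (hk : k < 40320)
    (t : Γ) (ht : t ∈ L) (hφt : φ t = permSysF.D (Tf k)) :
    cf k % 65536 < 40320 ∧ ∃ t' ∈ L, φ t' = permSysF.D (Tf (cf k % 65536)) := by
  obtain ⟨h1, a, ha, h2⟩ := step_explicit hs h k hk
  refine ⟨h1, ?_⟩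
  obtain ⟨n, hn, hna⟩ := lift_A_mem a ha
  refine ⟨n⁻¹ * (t * g), L.mul_mem (L.inv_mem (hL hn)) (L.mul_mem ht hg), ?_⟩
  apply phi_cancel
  rw [map_mul, hφt, hgs, h2, hna]

/-- a transversal element outside the small list generates everything -/
theorem gv_mem_of (d : ℕ) : ∀ (k : ℕ), dstf k = d → k < 40320 → Lset.contains k = false →
    ∀ t ∈ L, φ t = permSysF.D (Tf k) → gv ∈ L := by
  have hp : gp ∈ L := hL gp_mem
  have hh : gh ∈ L := hL gh_mem
  induction d using Nat.strong_induction_on with
  | _ d ih =>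
    intro k hd hk hkL t ht hφt
    have h1 := chk_all k hk
    unfold chkK at h1
    rw [hkL, Bool.false_or, Bool.or_eq_true, Bool.or_eq_true] at h1
    rcases h1 with (h1 | h1) | h1
    · -- the word
      rw [Bool.and_eq_true] at h1
      have h1 := h1.2
      unfold wordOK at h1
      cases hw : wordTab.lookup k with
      | none => rw [hw] at h1; exact absurd h1 (by simp)
      | some w =>
        rw [hw] at h1
        have h2 : permSysF.ev [cP, cH, Tf k] w = cV := by simpa using h1
        have hG : ∀ i, ∀ (h1 : i < [gp, gh, t].length) (h2 : i < [cP, cH, Tf k].length),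
            φ [gp, gh, t][i] = permSysF.D [cP, cH, Tf k][i] :=
          hG3_of permSysF φ phi_p phi_h hφt
        have hC := hcan3_of permSysF can_p can_h (tabHyp.Tcan k hk)
        have h3 := permSysF.phi_wordProd φ [gp, gh, t] [cP, cH, Tf k] rfl hG hC w
        rw [h2, ← phi_v] at h3
        rw [← phi_inj h3]
        apply wordProd_mem
        intro g hg
        simp only [List.mem_cons, List.not_mem_nil, or_false] at hg
        rcases hg with rfl | rfl | rfl
        · exact hp
        · exact hh
        · exact ht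
    · unfold stepOK at h1
      rw [Bool.and_eq_true, decide_eq_true_eq, Bool.not_eq_true'] at h1
      obtain ⟨h2, t', ht', hφt'⟩ := step_mem L hL gp hp phi_p can_p step_P k hk t ht hφt
      exact ih _ (by rw [← hd]; exact h1.1) _ rfl h2 h1.2 t' ht' hφt'
    · unfold stepOK at h1
      rw [Bool.and_eq_true, decide_eq_true_eq, Bool.not_eq_true'] at h1
      obtain ⟨h2, t', ht', hφt'⟩ := step_mem L hL gh hh phi_h can_h step_H k hk t ht hφt
      exact ih _ (by rw [← hd]; exact h1.1) _ rfl h2 h1.2 t' ht' hφt'

end sub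

theorem card_Γ : Nat.card Γ = 10200960 := card_M23

/-- the local subgroup is maximal -/
theorem isCoatom_B0 : IsCoatom B0 := by
  constructor
  · intro h
    have h1 := card_B0
    rw [h, Subgroup.card_top, card_Γ] at h1
    omega
  · intro L hL
    have hle : B0 ≤ L := le_of_lt hL
    obtain ⟨x, hxL, hxB⟩ := SetLike.exists_of_lt hL
    obtain ⟨a, ha, k, hk, hak⟩ := permSysF.decomp φ [gp, gh, gv] [cP, cH, cV] rfl tabHyp.hG3
      tabHyp.closure3 A Tf 40320 tabHyp.hA0 tabHyp.hApos tabHyp.hT0 tabHyp.hNpos
      tabHyp.A_mul_closed tabHyp.step_all x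
    obtain ⟨n, hn, hna⟩ := lift_A_mem a ha
    have ht : n⁻¹ * x ∈ L := L.mul_mem (L.inv_mem (hle hn)) hxL
    have hφt : φ (n⁻¹ * x) = permSysF.D (Tf k) := by
      apply phi_cancel
      rw [hak, hna]
    have hv : gv ∈ L := by
      cases hkL : Lset.contains k with
      | false => exact gv_mem_of L hle _ k rfl hk hkL _ ht hφt
      | true =>
        exfalso
        have hk0 : k = 0 := by
          have := List.contains_iff_mem.mp hkL
          simpa [Lset] using this
        rw [hk0, head_T, show permSysF.D pc1 = 1 from permSysF.D_c1, ← map_one φ] at hφt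
        have h1 := phi_inj hφt
        have : x = n := by
          have := congrArg (fun y => n * y) h1
          simpa using this
        exact hxB (this ▸ hn)
    rw [eq_top_iff, ← gen, Subgroup.closure_le]
    intro y hy
    rcases hy with rfl | rfl | rfl
    · exact hle gp_mem
    · exact hle gh_mem
    · exact hv

end Cfsg.Agent.Lib.Helper1.M23S
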