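import Cfsg.Agent.Lib.Helper1.M23OutD

/-!
# Data for the subgroup of order 6072 of the group of the 24 points
-/

set_option autoImplicit false

namespace Cfsg.Agent.Lib.Helper1.M23S

def tPi : List ℕ := [23, 22, 11, 15, 17, 9, 19, 13, 20, 5, 16, 2, 21, 7, 18, 3, 10, 4, 14, 6, 8, 12, 1, 0]

def cPi : ℕ := 1795248432537898728475572672376535

def T24 : List ℕ := [984818244535754528103549039458486304, 1795248432537898728475572672376535, 15909574972934138282974354882288353, 10645900714548972716251708628098092, 8361823919338158694102911029052808, 18348116209149352041829329127125254, 5602470536878570943122943195357390, 13125557706999786066958299716393412, 4634097941206943860225884586981514, 23676009513786340442496394882126147, 9941556812147715651493164820342898, 27361193910776553650073479814647367, 3252332910998675209227970759739637, 20997903415400364638807123044146850, 7318911400353731989924407272526928, 26513290469926318536361179552057861, 17657797672069772598678332990636212, 25050652218610649790535037461468813, 12391748498246993760485756725547443, 22690578129396211081348479513671273, 19946127379942197123003843663547697, 15200453133970992512463437727114799, 29492376736006929088146330296305131,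 29911808450092068199315215539027318]

def Tf24 (k : ℕ) : ℕ := T24.getD k 0

def CF24P : List ℕ := [65536, 23, 1, 2, 3, 4, 5, 6, 7, 8, 9, 10, 11, 12, 13, 14, 15, 16, 17, 18, 19, 20, 21, 22]

def cf24P (k : ℕ) : ℕ := CF24P.getD k 0

def CF24H : List ℕ := [131072, 13238273, 13238285, 13238274, 13238286, 13238275, 13238287, 13238276, 13238288, 13238277, 13238289, 13238278, 13238290, 13238279, 13238291, 13238280, 13238292, 13238281, 13238293, 13238282, 13238294, 13238283, 13238295, 13238284]

def cf24H (k : ℕ) : ℕ := CF24H.getD k 0

def CF24I : List ℕ := [1, 0, 65559, 14221324, 7012368, 10420242, 15400970, 2686996, 2424846, 5505045, 12058630, 12582929, 7798787, 720918, 11075592, 983059, 6815748, 3473419, 5439493, 14614543, 9961479, 10354697, 13959181, 16449538]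

def cf24I (k : ℕ) : ℕ := CF24I.getD k 0

end Cfsg.Agent.Lib.Helper1.M23S
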