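import Cfsg.Agent.Lib.Helper1.M23OutG
import Cfsg.Agent.Lib.Helper1.M23SubE

/-!
# Checks for the subgroup of order 6072 of the group of the 24 points
-/

set_option autoImplicit false
set_option maxRecDepth 100000

namespace Cfsg.Agent.Lib.Helper1.M23S

open Cfsg Cfsg.Agent.Lib.Helper1 Cfsg.Agent.Lib.Helper1.PermCode Cfsg.Agent.Lib.Helper1.MatCode
open Cfsg.Agent.Lib.Helper1.M23O

theorem code_Pi : tabCode tPi cPi = true := by decide +kernel

theorem canon_Pi : permSysF.CB cPi = true := by decide +kernel

theorem head_T24 : Tf24 0 = pc1 := by decide +kernel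

theorem canon_T24 : (List.range 24).all (fun k => permSysF.CB (Tf24 k)) = true := by decide +kernel

theorem step24P : chkStepF pmu2 A Tf24 24 cP cf24P = true := by decide +kernel

theorem step24H : chkStepF pmu2 A Tf24 24 cH cf24H = true := by decide +kernel

theorem step24I : chkStepF pmu2 A Tf24 24 cPi cf24I = true := by decide +kernel

end Cfsg.Agent.Lib.Helper1.M23S
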