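import Cfsg.Agent.Lib.Helper1.M23Sub1
import Cfsg.Agent.Lib.Helper1.M23SubF
import Cfsg.Agent.Lib.Helper1.M24D
import Cfsg.Agent.Lib.Helper1.StabCard

/-!
# The subgroups of orders 253 and 6072 of the group of the 24 points
-/

set_option autoImplicit false
set_option maxRecDepth 100000

namespace Cfsg.Agent.Lib.Helper1.M23S

open Cfsg Cfsg.Agent.Lib.Helper1 Cfsg.Agent.Lib.Helper1.PermCode Cfsg.Agent.Lib.Helper1.MatCode
open Cfsg.Agent.Lib.Helper1.M23O
open Cfsg.Agent.Lib.Helper9.M24 (tperm tabOK tget eq_tperm_of_apply natOfPt)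

/-- the translation -/
def aP : Equiv.Perm GolayPt := Equiv.optionCongr (Equiv.addRight (1 : ZMod 23))

/-- the multiplications -/
def mP (u : (ZMod 23)ˣ) : Equiv.Perm GolayPt := Equiv.optionCongr (Units.mulLeft u)

/-- the unit `2` -/
def u2 : (ZMod 23)ˣ := ⟨2, 12, by decide, by decide⟩

theorem ok_P : tabOK tP = true := by decide
theorem ok_H : tabOK tH = true := by decide
theorem ok_Pi : tabOK tPi = true := by decide

theorem aP_eq : aP = tperm tP := eq_tperm_of_apply ok_P (by decide)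

theorem mP2_eq : mP u2 = tperm tH := eq_tperm_of_apply ok_H (by decide)

theorem projInv_eq : Cfsg.projInv = tperm tPi := eq_tperm_of_apply ok_Pi (by decide)

theorem aP_eq_gp : aP = gp.1 := aP_eq

theorem mP2_eq_gh : mP u2 = gh.1 := mP2_eq

theorem mP_mul (u v : (ZMod 23)ˣ) : mP (u * v) = mP u * mP v := by
  apply Equiv.ext
  intro p
  cases p with
  | none => rfl
  | some x =>
    show some ((u * v : (ZMod 23)ˣ) * x) = some ((u : ZMod 23) * ((v : ZMod 23) * x))
    rw [Units.val_mul, mul_assoc]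

theorem mP_one : mP 1 = 1 := by
  apply Equiv.ext
  intro p
  cases p with
  | none => rfl
  | some x =>
    show some (((1 : (ZMod 23)ˣ) : ZMod 23) * x) = some x
    rw [Units.val_one, one_mul]

theorem mP_pow (u : (ZMod 23)ˣ) (n : ℕ) : mP (u ^ n) = mP u ^ n := by
  induction n with
  | zero => rw [pow_zero, pow_zero, mP_one]
  | succ n ih => rw [pow_succ, pow_succ, mP_mul, ih]

theorem sq_cases : ∀ x : ZMod 23, x ≠ 0 → ∃ j : Fin 11, x * x = 2 ^ (j : ℕ) := by decide

theorem square_eq_pow (u : (ZMod 23)ˣ) (hu : IsSquare u) : ∃ j : ℕ, u = u2 ^ j := by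
  obtain ⟨r, rfl⟩ := hu
  have : Fact (1 < 23) := ⟨by norm_num⟩
  obtain ⟨j, hj⟩ := sq_cases (r : ZMod 23) r.ne_zero
  refine ⟨j, ?_⟩
  apply Units.ext
  rw [Units.val_mul, Units.val_pow_eq_pow_val, hj]
  rfl

theorem u2_isSquare : IsSquare u2 := by
  refine ⟨⟨5, 14, by decide, by decide⟩, ?_⟩
  apply Units.ext
  decide

/-- the generators of the small subgroup -/
def SB : Set (Equiv.Perm GolayPt) :=
  {Equiv.optionCongr (Equiv.addRight (1 : ZMod 23))} ∪
    {g : Equiv.Perm Cfsg.GolayPt | ∃ u : (ZMod 23)ˣ, IsSquare u ∧ g = Equiv.optionCongr (Units.mulLeft u)}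

/-- the generators of the large subgroup -/
def SL : Set (Equiv.Perm GolayPt) :=
  {Equiv.optionCongr (Equiv.addRight (1 : ZMod 23)), Cfsg.projInv} ∪
    {g : Equiv.Perm Cfsg.GolayPt | ∃ u : (ZMod 23)ˣ, IsSquare u ∧ g = Equiv.optionCongr (Units.mulLeft u)}

theorem closure_SB : Subgroup.closure SB = Subgroup.closure ({gp.1, gh.1} : Set (Equiv.Perm GolayPt)) := by
  apply le_antisymm
  · rw [Subgroup.closure_le]
    rintro g (hg | ⟨u, hu, rfl⟩)
    · rw [Set.mem_singleton_iff.mp hg]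
      exact Subgroup.subset_closure (Or.inl aP_eq_gp)
    · obtain ⟨j, rfl⟩ := square_eq_pow u hu
      show mP (u2 ^ j) ∈ _
      rw [mP_pow, mP2_eq_gh]
      have hm : gh.1 ∈ Subgroup.closure ({gp.1, gh.1} : Set (Equiv.Perm GolayPt)) :=
        Subgroup.subset_closure (by simp)
      exact Subgroup.pow_mem _ hm _
  · rw [Subgroup.closure_le]
    rintro g (rfl | rfl)
    · exact Subgroup.subset_closure (Or.inl aP_eq_gp.symm)
    · exact Subgroup.subset_closure (Or.inr ⟨u2, u2_isSquare, mP2_eq_gh.symm⟩)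

theorem closure_SL : Subgroup.closure SL = Subgroup.closure ({gp.1, gh.1, Cfsg.projInv} : Set (Equiv.Perm GolayPt)) := by
  apply le_antisymm
  · rw [Subgroup.closure_le]
    rintro g ((hg | hg) | ⟨u, hu, rfl⟩)
    · rw [hg]
      exact Subgroup.subset_closure (Or.inl aP_eq_gp)
    · rw [Set.mem_singleton_iff.mp hg]
      exact Subgroup.subset_closure (Or.inr (Or.inr rfl))
    · obtain ⟨j, rfl⟩ := square_eq_pow u hu
      show mP (u2 ^ j) ∈ _
      rw [mP_pow, mP2_eq_gh]
      have hm : gh.1 ∈ Subgroup.closure ({gp.1, gh.1, Cfsg.projInv} : Set (Equiv.Perm GolayPt)) :=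
        Subgroup.subset_closure (by simp)
      exact Subgroup.pow_mem _ hm _
  · rw [Subgroup.closure_le]
    rintro g (rfl | rfl | rfl)
    · exact Subgroup.subset_closure (Or.inl (Or.inl aP_eq_gp.symm))
    · exact Subgroup.subset_closure (Or.inr ⟨u2, u2_isSquare, mP2_eq_gh.symm⟩)
    · exact Subgroup.subset_closure (Or.inl (Or.inr rfl))

/-! ### the small subgroup -/

theorem closure_SB_eq_map : Subgroup.closure SB = B0.map (Subgroup.subtype Cfsg.Spor.M23) := by
  rw [closure_SB, B0, MonoidHom.map_closure, Set.image_pair]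
  rfl

theorem closure_SB_le : Subgroup.closure SB ≤
    Cfsg.M24 ⊓ MulAction.stabilizer (Equiv.Perm Cfsg.GolayPt) (none : Cfsg.GolayPt) := by
  rw [closure_SB_eq_map]
  exact Subgroup.map_subtype_le B0

theorem card_closure_SB : Nat.card ↥(Subgroup.closure SB) = 253 := by
  rw [closure_SB_eq_map, Subgroup.card_map_of_injective (Subgroup.subtype_injective _), card_B0]

/-- the stabilizer of the extra point inside the group, as a subgroup of the permutations -/
def stabEquiv : ↥(MulAction.stabilizer Cfsg.M24 (none : Cfsg.GolayPt)) ≃* ↥Cfsg.Spor.M23 where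
  toFun g := ⟨g.1.1, ⟨g.1.2, g.2⟩⟩
  invFun k := ⟨⟨k.1, k.2.1⟩, k.2.2⟩
  left_inv _ := rfl
  right_inv _ := rfl
  map_mul' _ _ := rfl

theorem isCoatom_small : IsCoatom (((Subgroup.closure SB).subgroupOf Cfsg.M24).subgroupOf
    (MulAction.stabilizer Cfsg.M24 (none : Cfsg.GolayPt))) := by
  have h1 := (MulEquiv.comapSubgroup stabEquiv).isCoatom_iff B0
  rw [MulEquiv.coe_comapSubgroup] at h1
  have h2 : ((Subgroup.closure SB).subgroupOf Cfsg.M24).subgroupOf
      (MulAction.stabilizer Cfsg.M24 (none : Cfsg.GolayPt)) = Subgroup.comap stabEquiv.toMonoidHom B0 := by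
    ext g
    rw [Subgroup.mem_subgroupOf, Subgroup.mem_subgroupOf, Subgroup.mem_comap, closure_SB_eq_map,
      Subgroup.mem_map]
    constructor
    · rintro ⟨k, hk, hk2⟩
      have : stabEquiv.toMonoidHom g = k := Subtype.ext hk2.symm
      rw [this]
      exact hk
    · intro h
      exact ⟨_, h, rfl⟩
  rw [h2]
  exact h1.mpr isCoatom_B0


/-! ### the large subgroup -/

/-- the large subgroup -/
def L24 : Subgroup (Equiv.Perm GolayPt) :=
  Subgroup.closure ({gp.1, gh.1, Cfsg.projInv} : Set (Equiv.Perm GolayPt))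

theorem pi_M24 : Cfsg.projInv ∈ Cfsg.M24 :=
  Cfsg.Agent.Lib.Helper1.M24.K_le Cfsg.Agent.Lib.Helper1.M24.gB_mem

theorem L24_le : L24 ≤ Cfsg.M24 := by
  rw [L24, Subgroup.closure_le]
  rintro g (rfl | rfl | rfl)
  · exact gp.2.1
  · exact gh.2.1
  · exact pi_M24

theorem gp_mem_L24 : gp.1 ∈ L24 := Subgroup.subset_closure (by simp)
theorem gh_mem_L24 : gh.1 ∈ L24 := Subgroup.subset_closure (by simp)
theorem pi_mem_L24 : Cfsg.projInv ∈ L24 := Subgroup.subset_closure (by simp)

/-- the coding map of the large subgroup -/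
abbrev φL : ↥L24 →* Function.End (Fin 24) := phiP L24

theorem phiL_inj : Function.Injective φL := phiP_injective _

theorem phi_pi : phi Cfsg.projInv = permSysF.D cPi := by
  rw [projInv_eq]
  exact phi_tperm ok_Pi code_Pi

theorem can_pi : permSysF.C cPi := permSysF.hCB _ canon_Pi

theorem hG24 : ∀ i, ∀ (h1 : i < [(⟨gp.1, gp_mem_L24⟩ : ↥L24), ⟨gh.1, gh_mem_L24⟩,
      ⟨Cfsg.projInv, pi_mem_L24⟩].length) (h2 : i < [cP, cH, cPi].length),
    φL [(⟨gp.1, gp_mem_L24⟩ : ↥L24), ⟨gh.1, gh_mem_L24⟩, ⟨Cfsg.projInv, pi_mem_L24⟩][i] =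
      permSysF.D [cP, cH, cPi][i] :=
  hG3_of permSysF φL (p := ⟨gp.1, gp_mem_L24⟩) (h := ⟨gh.1, gh_mem_L24⟩)
    (v := ⟨Cfsg.projInv, pi_mem_L24⟩) phi_p phi_h phi_pi

theorem gen24 : Subgroup.closure {g | g ∈ [(⟨gp.1, gp_mem_L24⟩ : ↥L24), ⟨gh.1, gh_mem_L24⟩,
    ⟨Cfsg.projInv, pi_mem_L24⟩]} = ⊤ := by
  have h := Subgroup.closure_closure_coe_preimage
    (k := ({gp.1, gh.1, Cfsg.projInv} : Set (Equiv.Perm GolayPt)))
  have e : {g | g ∈ [(⟨gp.1, gp_mem_L24⟩ : ↥L24), ⟨gh.1, gh_mem_L24⟩,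
      ⟨Cfsg.projInv, pi_mem_L24⟩]} =
      ((↑) : ↥L24 → Equiv.Perm GolayPt) ⁻¹' {gp.1, gh.1, Cfsg.projInv} := by
    ext g
    simp only [Set.mem_ofPred_eq, List.mem_cons, List.not_mem_nil, or_false, Set.mem_preimage,
      Set.mem_insert_iff, Set.mem_singleton_iff, Subtype.ext_iff]
  rw [e]
  exact h

theorem Tcan24 : ∀ k, k < 24 → permSysF.C (Tf24 k) := by
  intro k hk
  have h := canon_T24
  rw [List.all_eq_true] at h
  exact permSysF.hCB _ (h k (List.mem_range.mpr hk))

theorem step24_all : ∀ s ∈ [cP, cH, cPi], ∀ t ∈ tab Tf24 24, ∃ a ∈ A, ∃ t' ∈ tab Tf24 24,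
    permSysF.D t * permSysF.D s = permSysF.D a * permSysF.D t' := by
  intro s hs
  simp only [List.mem_cons, List.not_mem_nil, or_false] at hs
  rcases hs with rfl | rfl | rfl
  · exact chkStepF_sound permSysF.D permSysF.mu permSysF.C permSysF.hmu can_p Tcan24 step24P
  · exact chkStepF_sound permSysF.D permSysF.mu permSysF.C permSysF.hmu can_h Tcan24 step24H
  · exact chkStepF_sound permSysF.D permSysF.mu permSysF.C permSysF.hmu can_pi Tcan24 step24I

theorem card_L24_le : Nat.card L24 ≤ 6072 := by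
  have h0 : (⊤ : Subgroup ↥L24) = ⊤ := rfl
  have h1 := card_le_of_list φL phiL_inj ⊤
    ((A ×ˢ List.range 24).map (fun pr => permSysF.D pr.1 * permSysF.D (Tf24 pr.2))) (fun x _ => by
      obtain ⟨a, ha, k, hk, hak⟩ := permSysF.decomp φL _ [cP, cH, cPi] rfl hG24 gen24 A Tf24 24
        tabHyp.hA0 tabHyp.hApos head_T24 (by norm_num) tabHyp.A_mul_closed step24_all x
      rw [hak]
      apply List.mem_map.mpr
      exact ⟨(a, k), List.mem_product.mpr ⟨ha, List.mem_range.mpr hk⟩, rfl⟩)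
  rw [List.length_map, List.length_product, len_A, List.length_range, Subgroup.card_top] at h1
  exact h1

theorem aP_pow_apply (n : ℕ) (y : ZMod 23) : (aP ^ n) (some y) = some (y + n) := by
  induction n generalizing y with
  | zero => simp
  | succ n ih =>
    rw [pow_succ, Equiv.Perm.mul_apply]
    have : aP (some y) = some (y + 1) := rfl
    rw [this, ih]
    congr 1
    push_cast
    ring

/-- the transitivity of the overgroups of the large subgroup -/
theorem orbit_none (X : Subgroup (Equiv.Perm GolayPt)) (hX : L24 ≤ X) :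
    ∀ r : GolayPt, r ∈ (Set.univ : Set GolayPt) ↔ ∃ g ∈ X, g • (none : GolayPt) = r := by
  intro r
  refine ⟨fun _ => ?_, fun _ => Set.mem_univ r⟩
  cases r with
  | none => exact ⟨1, X.one_mem, rfl⟩
  | some x =>
    refine ⟨aP ^ x.val * Cfsg.projInv, X.mul_mem (X.pow_mem (hX ?_) _) (hX pi_mem_L24), ?_⟩
    · rw [aP_eq_gp]; exact gp_mem_L24
    · show (aP ^ x.val * Cfsg.projInv) none = some x
      rw [Equiv.Perm.mul_apply]
      have : Cfsg.projInv none = some 0 := rfl
      rw [this, aP_pow_apply, zero_add, ZMod.natCast_zmod_val]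

theorem card_overgroup (X : Subgroup (Equiv.Perm GolayPt)) (hX : L24 ≤ X) :
    Nat.card X = 24 * Nat.card ↥(X ⊓ MulAction.stabilizer (Equiv.Perm GolayPt) (none : GolayPt)) := by
  have h := StabCard.card_subgroup_eq_orbit_mul X (none : GolayPt) Set.univ (orbit_none X hX)
  rw [h, Set.ncard_univ]
  congr 1
  rw [Nat.card_eq_fintype_card]
  rfl

theorem closure_le_L24 : Subgroup.closure ({gp.1, gh.1} : Set (Equiv.Perm GolayPt)) ≤ L24 := by
  rw [Subgroup.closure_le]
  rintro g (rfl | rfl)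
  · exact gp_mem_L24
  · exact gh_mem_L24

theorem card_L24 : Nat.card L24 = 6072 := by
  apply le_antisymm card_L24_le
  rw [card_overgroup L24 le_rfl]
  have h1 : Subgroup.closure SB ≤
      L24 ⊓ MulAction.stabilizer (Equiv.Perm GolayPt) (none : GolayPt) := by
    apply le_inf
    · rw [closure_SB]; exact closure_le_L24
    · exact closure_SB_le.trans inf_le_right
  have h2 := Subgroup.card_le_of_le h1
  rw [card_closure_SB] at h2
  omega


/-! ### maximality of the large subgroup -/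

theorem card_M24' : Nat.card ↥Cfsg.M24 = 244823040 := Cfsg.Agent.Lib.Helper1.M24.card_M24

theorem overgroup_cases (X : Subgroup (Equiv.Perm GolayPt)) (hX : L24 ≤ X) (hX' : X ≤ Cfsg.M24) :
    X = L24 ∨ X = Cfsg.M24 := by
  have hXi : X ⊓ MulAction.stabilizer (Equiv.Perm GolayPt) (none : GolayPt) ≤ Cfsg.Spor.M23 :=
    inf_le_inf_right _ hX'
  have hB : B0 ≤ (X ⊓ MulAction.stabilizer (Equiv.Perm GolayPt) (none : GolayPt)).comap
      (Subgroup.subtype Cfsg.Spor.M23) := by
    rw [B0, Subgroup.closure_le]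
    rintro g (rfl | rfl)
    · exact ⟨hX gp_mem_L24, gp.2.2⟩
    · exact ⟨hX gh_mem_L24, gh.2.2⟩
  have hmap : ((X ⊓ MulAction.stabilizer (Equiv.Perm GolayPt) (none : GolayPt)).comap
      (Subgroup.subtype Cfsg.Spor.M23)).map (Subgroup.subtype Cfsg.Spor.M23) =
      X ⊓ MulAction.stabilizer (Equiv.Perm GolayPt) (none : GolayPt) := by
    apply Subgroup.map_comap_eq_self
    rw [Subgroup.range_subtype]
    exact hXi
  have hcard : Nat.card ↥(X ⊓ MulAction.stabilizer (Equiv.Perm GolayPt) (none : GolayPt)) =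
      Nat.card ↥((X ⊓ MulAction.stabilizer (Equiv.Perm GolayPt) (none : GolayPt)).comap
        (Subgroup.subtype Cfsg.Spor.M23)) := by
    conv_lhs => rw [← hmap]
    exact Subgroup.card_map_of_injective (Subgroup.subtype_injective _)
  have hc := card_overgroup X hX
  rcases isCoatom_B0.le_iff.mp hB with h | h
  · right
    rw [hcard, h, Subgroup.card_top, card_Γ] at hc
    apply Subgroup.eq_of_le_of_card_ge hX'
    rw [hc, card_M24']
  · left
    rw [hcard, h, card_B0] at hc
    symm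
    apply Subgroup.eq_of_le_of_card_ge hX
    rw [hc, card_L24]

theorem isCoatom_large : IsCoatom (L24.subgroupOf Cfsg.M24) := by
  constructor
  · intro h
    rw [Subgroup.subgroupOf_eq_top] at h
    have := Subgroup.card_le_of_le h
    rw [card_M24', card_L24] at this
    omega
  · intro Y hY
    have h1 : L24 ≤ Y.map (Subgroup.subtype Cfsg.M24) := by
      intro g hg
      exact ⟨⟨g, L24_le hg⟩, (le_of_lt hY) (Subgroup.mem_subgroupOf.mpr hg), rfl⟩
    rcases overgroup_cases _ h1 (Subgroup.map_subtype_le Y) with h | h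
    · exfalso
      apply not_le_of_gt hY
      intro y hy
      rw [Subgroup.mem_subgroupOf, ← h]
      exact ⟨y, hy, rfl⟩
    · rw [eq_top_iff]
      intro y _
      have : y.1 ∈ Y.map (Subgroup.subtype Cfsg.M24) := by rw [h]; exact y.2
      obtain ⟨y', hy', hyy⟩ := this
      have : y' = y := Subtype.ext hyy
      rw [← this]
      exact hy'


end Cfsg.Agent.Lib.Helper1.M23S
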