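import Cfsg.Agent.Lib.Helper1.M23OutG
import Cfsg.Agent.Lib.Helper1.M23SubD

/-!
# The check for the subgroups containing a local subgroup (M23)
-/

set_option autoImplicit false
set_option maxRecDepth 100000

namespace Cfsg.Agent.Lib.Helper1.M23S

open Cfsg Cfsg.Agent.Lib.Helper1 Cfsg.Agent.Lib.Helper1.PermCode Cfsg.Agent.Lib.Helper1.MatCode
open Cfsg.Agent.Lib.Helper1.M23O

/-- a step in the coset table leads towards a representative -/
def stepOK (j k : ℕ) : Bool := decide (dstf j < dstf k) && !Lset.contains j

/-- the representative generates everything together with the local subgroup -/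
def wordOK (k : ℕ) : Bool :=
  match wordTab.lookup k with
  | some w => permSysF.ev [cP, cH, Tf k] w == cV
  | none => false

/-- the check for one coset -/
def chkK (k : ℕ) : Bool :=
  Lset.contains k || (dstf k == 0 && wordOK k) || stepOK (cfP k % 65536) k ||
    stepOK (cfH k % 65536) k

/-- the check for a range of cosets -/
def chkR (lo n : ℕ) : Bool := (List.range n).all (fun i => chkK (lo + i))

theorem chk_0 : chkR 0 10080 = true := by decide +kernel
theorem chk_1 : chkR 10080 10080 = true := by decide +kernel
theorem chk_2 : chkR 20160 10080 = true := by decide +kernel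
theorem chk_3 : chkR 30240 10080 = true := by decide +kernel

theorem chk_all (k : ℕ) (hk : k < 40320) : chkK k = true := by
  have key : ∀ lo n, chkR lo n = true → lo ≤ k → k < lo + n → chkK k = true := by
    intro lo n h h1 h2
    unfold chkR at h
    rw [List.all_eq_true] at h
    have := h (k - lo) (List.mem_range.mpr (by omega))
    rwa [show lo + (k - lo) = k by omega] at this
  rcases Nat.lt_or_ge k 10080 with h1 | h1
  · exact key _ _ chk_0 (by omega) (by omega)
  rcases Nat.lt_or_ge k 20160 with h2 | h2
  · exact key _ _ chk_1 (by omega) (by omega)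
  rcases Nat.lt_or_ge k 30240 with h3 | h3
  · exact key _ _ chk_2 (by omega) (by omega)
  · exact key _ _ chk_3 (by omega) (by omega)

end Cfsg.Agent.Lib.Helper1.M23S
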