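import Mathlib
import Cfsg.Agent.Lib.Helper1.ConjCount

set_option autoImplicit false

/-! Abstract class equation: a list of pairwise non-conjugate representatives whose centralizer
orders are bounded by numbers `c i` with `∑ |G| / c i = |G|` is a full set of class
representatives and the bounds are attained. -/

namespace Cfsg.Agent.Lib.Helper1.M24CE

open Cfsg.Agent.Lib.Helper1

theorem class_equation {G : Type*} [Group G] [Finite G] {n : ℕ} (rep : Fin n → G) (c : Fin n → ℕ)
    (hle : ∀ i, Nat.card (Subgroup.centralizer ({rep i} : Set G)) ≤ c i)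
    (hdvd : ∀ i, c i ∣ Nat.card G)
    (hnc : ∀ i j, IsConj (rep i) (rep j) → i = j)
    (hsum : ∑ i, Nat.card G / c i = Nat.card G) :
    (∀ x : G, ∃ i, IsConj x (rep i)) ∧
      ∀ i, Nat.card (Subgroup.centralizer ({rep i} : Set G)) = c i := by
  classical
  haveI : Fintype G := Fintype.ofFinite G
  have hG : 0 < Nat.card G := Nat.card_pos
  set K : Fin n → Finset G := fun i => Finset.univ.filter (fun v => IsConj (rep i) v) with hK
  have hKcard : ∀ i, (K i).card * Nat.card (Subgroup.centralizer ({rep i} : Set G)) =
      Nat.card G := by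
    intro i
    rw [← card_isConj_mul_card_centralizer (rep i)]
    congr 1
    rw [Nat.card_eq_fintype_card, Fintype.card_subtype]
  have hcpos : ∀ i, 0 < c i := fun i => Nat.pos_of_dvd_of_pos (hdvd i) hG
  have hKge : ∀ i, Nat.card G / c i ≤ (K i).card := by
    intro i
    apply Nat.div_le_of_le_mul
    calc Nat.card G = (K i).card * Nat.card (Subgroup.centralizer ({rep i} : Set G)) :=
          (hKcard i).symm
      _ ≤ (K i).card * c i := Nat.mul_le_mul_left _ (hle i)
      _ = c i * (K i).card := Nat.mul_comm _ _
  have hdisj : ∀ i ∈ (Finset.univ : Finset (Fin n)), ∀ j ∈ (Finset.univ : Finset (Fin n)),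
      i ≠ j → Disjoint (K i) (K j) := by
    intro i _ j _ hij
    rw [Finset.disjoint_left]
    intro v hvi hvj
    rw [hK, Finset.mem_filter] at hvi hvj
    exact hij (hnc i j (hvi.2.trans hvj.2.symm))
  have hunion : (Finset.univ.biUnion K).card = ∑ i, (K i).card :=
    Finset.card_biUnion hdisj
  have hule : (Finset.univ.biUnion K).card ≤ Nat.card G := by
    rw [Nat.card_eq_fintype_card]
    exact Finset.card_le_univ _
  have hsumK : ∑ i, (K i).card = Nat.card G := by
    apply le_antisymm
    · rw [← hunion]; exact hule
    · rw [← hsum]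
      exact Finset.sum_le_sum (fun i _ => hKge i)
  have hKeq : ∀ i, Nat.card G / c i = (K i).card := by
    have h := (Finset.sum_eq_sum_iff_of_le (s := (Finset.univ : Finset (Fin n)))
      (f := fun i => Nat.card G / c i) (g := fun i => (K i).card) (fun i _ => hKge i)).mp
      (by rw [hsum, hsumK])
    intro i
    exact h i (Finset.mem_univ i)
  constructor
  · intro x
    have huniv : Finset.univ.biUnion K = Finset.univ := by
      apply Finset.eq_univ_of_card
      rw [hunion, hsumK, Nat.card_eq_fintype_card]
    have hx : x ∈ Finset.univ.biUnion K := by rw [huniv]; exact Finset.mem_univ x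
    rw [Finset.mem_biUnion] at hx
    obtain ⟨i, _, hi⟩ := hx
    rw [hK, Finset.mem_filter] at hi
    exact ⟨i, hi.2.symm⟩
  · intro i
    have h1 := hKcard i
    rw [← hKeq i] at h1
    have h2 : Nat.card G / c i * c i = Nat.card G := Nat.div_mul_cancel (hdvd i)
    have h3 : 0 < Nat.card G / c i := Nat.div_pos (Nat.le_of_dvd hG (hdvd i)) (hcpos i)
    exact Nat.eq_of_mul_eq_mul_left h3 (h1.trans h2.symm)

end Cfsg.Agent.Lib.Helper1.M24CE
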