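import Cfsg.Agent.Lib.Helper4.M24B.Search

set_option autoImplicit false

/-! M24: centralizer bounds and non-conjugacy from the conjugator search; the fixed-point
signature of a code is a class invariant. -/

namespace Cfsg.Agent.Lib.Helper1.M24CE

open Cfsg Cfsg.Agent.Lib.Helper1 Cfsg.Agent.Lib.Helper1.PermCode Cfsg.Agent.Lib.Helper4.M24B

/-- commuting elements give commuting codes -/
theorem comm_codes {c x y : GG} {g h : ℕ} (hx : IsCode g x) (hy : IsCode h y)
    (hc : c * x = y * c) : pmu2 (cd c) g = pmu2 h (cd c) := by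
  have h1 : cd (c * x) = pmu2 (cd c) g := by rw [cd_mul, cd_eq hx]
  have h2 : cd (y * c) = pmu2 h (cd c) := by rw [cd_mul, cd_eq hy]
  rw [← h1, ← h2, hc]

/-- **(a)** the order of a centralizer is at most the number of results of the search -/
theorem card_centralizer_le {g : ℕ} {spec : List (ℕ × ℕ × ℕ)} {P : List ℕ}
    (hS : SearchLOK g g spec P) {x : GG} (hx : IsCode g x) :
    Nat.card (Subgroup.centralizer ({x} : Set GG)) ≤
      (stepL g g spec chain spec [] []).length := by
  classical
  set L := stepL g g spec chain spec [] [] with hL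
  have hmem : ∀ c : Subgroup.centralizer ({x} : Set GG),
      P.map (pd (cd c.1)) ∈ L.toFinset ∧ candC spec (P.map (pd (cd c.1))) = cd c.1 := by
    intro c
    have hc : c.1 * x = x * c.1 := Subgroup.mem_centralizer_singleton_iff.mp c.2
    have := mem_stepL hS (isCode_cd c.1) hx.1 hx.1 (comm_codes hx hx hc)
    exact ⟨List.mem_toFinset.mpr this.1, this.2⟩
  let f : Subgroup.centralizer ({x} : Set GG) → L.toFinset := fun c =>
    ⟨P.map (pd (cd c.1)), (hmem c).1⟩
  have hf : Function.Injective f := by
    intro c c' hcc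
    have h1 : P.map (pd (cd c.1)) = P.map (pd (cd c'.1)) := congrArg Subtype.val hcc
    have h2 : cd c.1 = cd c'.1 := by rw [← (hmem c).2, ← (hmem c').2, h1]
    exact Subtype.ext (cd_injective h2)
  calc Nat.card (Subgroup.centralizer ({x} : Set GG)) ≤ Nat.card L.toFinset :=
        Nat.card_le_card_of_injective f hf
    _ = L.toFinset.card := Nat.card_eq_fintype_card.trans (Fintype.card_coe _)
    _ ≤ L.length := List.toFinset_card_le L

/-- **(b)** an empty search refutes conjugacy -/
theorem not_isConj_of_stepL_nil {g h : ℕ} {spec : List (ℕ × ℕ × ℕ)} {P : List ℕ}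
    (hS : SearchLOK g h spec P) {x y : GG} (hx : IsCode g x) (hy : IsCode h y)
    (hnil : stepL g h spec chain spec [] [] = []) : ¬ IsConj x y := by
  intro hxy
  obtain ⟨c, hc⟩ := isConj_iff.mp hxy
  have hc' : c * x = y * c := by rw [← hc]; group
  have := (mem_stepL hS (isCode_cd c) hx.1 hy.1 (comm_codes hx hy hc')).1
  rw [hnil] at this
  exact List.not_mem_nil this

/-! ### fixed points -/

/-- the number of fixed points of an element -/
def fixG (x : GG) : ℕ :=
  (Finset.univ.filter (fun p : GolayPt => (x : Equiv.Perm GolayPt) p = p)).card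

theorem fixG_conj (c x : GG) : fixG (c * x * c⁻¹) = fixG x := by
  unfold fixG
  symm
  apply Finset.card_bijective (c : Equiv.Perm GolayPt) (c : Equiv.Perm GolayPt).bijective
  intro p
  simp only [Finset.mem_filter, Finset.mem_univ, true_and]
  have h1 : ((c * x * c⁻¹ : GG) : Equiv.Perm GolayPt) =
      (c : Equiv.Perm GolayPt) * (x : Equiv.Perm GolayPt) * (c : Equiv.Perm GolayPt)⁻¹ := by
    push_cast
    rfl
  rw [h1, Equiv.Perm.mul_apply, Equiv.Perm.mul_apply]
  have h2 : (c : Equiv.Perm GolayPt)⁻¹ ((c : Equiv.Perm GolayPt) p) = p := by simp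
  rw [h2]
  exact ((c : Equiv.Perm GolayPt).injective.eq_iff).symm

/-- the number of fixed digits among the first `n` -/
def fixR (g : ℕ) : ℕ → ℕ
  | 0 => 0
  | n + 1 => fixR g n + (if pd g n = n then 1 else 0)

theorem fixR_eq_sum (g n : ℕ) :
    fixR g n = ∑ i ∈ Finset.range n, (if pd g i = i then 1 else 0) := by
  induction n with
  | zero => rfl
  | succ n ih => rw [fixR, Finset.sum_range_succ, ih]

/-- the points, numbered -/
def ptEquiv : Fin 24 ≃ GolayPt where
  toFun i := gUnidx i
  invFun p := ⟨gIdx p, gIdx_lt p⟩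
  left_inv i := Fin.ext (gIdx_gUnidx i i.2)
  right_inv p := gUnidx_gIdx p

theorem fixG_eq {g : ℕ} {x : GG} (hx : IsCode g x) : fixG x = fixR g 24 := by
  classical
  rw [fixR_eq_sum, fixG, Finset.card_filter,
    ← Fin.sum_univ_eq_sum_range (fun i => if pd g i = i then 1 else 0) 24,
    ← Equiv.sum_comp ptEquiv]
  refine Finset.sum_congr rfl fun i _ => ?_
  have h1 : ((x : Equiv.Perm GolayPt) (ptEquiv i) = ptEquiv i) ↔ pd g i = i :=
    (pd_eq_iff hx i.2 i.2).symm
  rw [if_congr h1 rfl rfl]

theorem isCode_ppow {g : ℕ} {x : GG} (hx : IsCode g x) (k : ℕ) : IsCode (ppow g k) (x ^ k) := by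
  induction k with
  | zero => rw [pow_zero]; exact isCode_one
  | succ k ih => rw [pow_succ', ppow]; exact hx.mul ih

/-- the signature: the numbers of fixed points of the first powers -/
def sigC (g : ℕ) : List ℕ := (List.range 6).map fun k => fixR (ppow g (k + 1)) 24

/-- **(c)** conjugate elements have the same signature -/
theorem sigC_eq_of_isConj {g h : ℕ} {x y : GG} (hx : IsCode g x) (hy : IsCode h y)
    (hxy : IsConj x y) : sigC g = sigC h := by
  obtain ⟨c, hc⟩ := isConj_iff.mp hxy
  unfold sigC
  apply List.map_congr_left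
  intro k _
  rw [← fixG_eq (isCode_ppow hx (k + 1)), ← fixG_eq (isCode_ppow hy (k + 1)), ← hc, conj_pow,
    fixG_conj]

end Cfsg.Agent.Lib.Helper1.M24CE
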