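import Cfsg.Agent.Lib.Helper4.M24B.Reps

set_option autoImplicit false
set_option maxRecDepth 100000

/-! M24: the numbers of results of the centralizer searches (kernel computations). -/

namespace Cfsg.Agent.Lib.Helper1.M24CE

open Cfsg.Agent.Lib.Helper4.M24B

theorem cnt_3A : (stepL c3A c3A spec3A chain spec3A [] []).length = 1080 := by
  decide +kernel

end Cfsg.Agent.Lib.Helper1.M24CE
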