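import Cfsg.Agent.Lib.Helper4.M24B.Reps

set_option autoImplicit false
set_option maxRecDepth 100000

/-! M24: the numbers of results of the centralizer searches (kernel computations). -/

namespace Cfsg.Agent.Lib.Helper1.M24CE

open Cfsg.Agent.Lib.Helper4.M24B

theorem cnt_4C : (stepL c4C c4C spec4C chain spec4C [] []).length = 96 := by
  decide +kernel

theorem cnt_5A : (stepL c5A c5A spec5A chain spec5A [] []).length = 60 := by
  decide +kernel

theorem cnt_6A : (stepL c6A c6A spec6A chain spec6A [] []).length = 24 := by
  decide +kernel

theorem cnt_6B : (stepL c6B c6B spec6B chain spec6B [] []).length = 24 := by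
  decide +kernel

theorem cnt_7A : (stepL c7A c7A spec7A chain spec7A [] []).length = 42 := by
  decide +kernel

theorem cnt_7B : (stepL c7B c7B spec7B chain spec7B [] []).length = 42 := by
  decide +kernel

theorem cnt_8A : (stepL c8A c8A spec8A chain spec8A [] []).length = 16 := by
  decide +kernel

theorem cnt_10A : (stepL c10A c10A spec10A chain spec10A [] []).length = 20 := by
  decide +kernel

end Cfsg.Agent.Lib.Helper1.M24CE
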