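import Cfsg.Agent.Lib.Helper4.M24B.Reps

set_option autoImplicit false
set_option maxRecDepth 100000

/-! M24: the numbers of results of the centralizer searches (kernel computations). -/

namespace Cfsg.Agent.Lib.Helper1.M24CE

open Cfsg.Agent.Lib.Helper4.M24B

theorem cnt_11A : (stepL c11A c11A spec11A chain spec11A [] []).length = 11 := by
  decide +kernel

theorem cnt_12A : (stepL c12A c12A spec12A chain spec12A [] []).length = 12 := by
  decide +kernel

theorem cnt_12B : (stepL c12B c12B spec12B chain spec12B [] []).length = 12 := by
  decide +kernel

theorem cnt_14A : (stepL c14A c14A spec14A chain spec14A [] []).length = 14 := by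
  decide +kernel

theorem cnt_14B : (stepL c14B c14B spec14B chain spec14B [] []).length = 14 := by
  decide +kernel

theorem cnt_15A : (stepL c15A c15A spec15A chain spec15A [] []).length = 15 := by
  decide +kernel

theorem cnt_15B : (stepL c15B c15B spec15B chain spec15B [] []).length = 15 := by
  decide +kernel

theorem cnt_21A : (stepL c21A c21A spec21A chain spec21A [] []).length = 21 := by
  decide +kernel

theorem cnt_21B : (stepL c21B c21B spec21B chain spec21B [] []).length = 21 := by
  decide +kernel

theorem cnt_23A : (stepL c23A c23A spec23A chain spec23A [] []).length = 23 := by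
  decide +kernel

theorem cnt_23B : (stepL c23B c23B spec23B chain spec23B [] []).length = 23 := by
  decide +kernel

theorem nil_7 : stepL c7A c7B spec7Ai chain spec7Ai [] [] = [] := by
  decide +kernel

theorem nil_14 : stepL c14A c14B spec14Ai chain spec14Ai [] [] = [] := by
  decide +kernel

theorem nil_15 : stepL c15A c15B spec15Ai chain spec15Ai [] [] = [] := by
  decide +kernel

theorem nil_21 : stepL c21A c21B spec21Ai chain spec21Ai [] [] = [] := by
  decide +kernel

theorem nil_23 : stepL c23A c23B spec23Ai chain spec23Ai [] [] = [] := by
  decide +kernel

end Cfsg.Agent.Lib.Helper1.M24CE
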