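import Cfsg.Agent.Lib.Helper1.M24CE1
import Cfsg.Agent.Lib.Helper1.M24CE2
import Cfsg.Agent.Lib.Helper1.M24CE3a
import Cfsg.Agent.Lib.Helper1.M24CE3b
import Cfsg.Agent.Lib.Helper1.M24CE3c
import Cfsg.Agent.Lib.Helper1.M24CE3d

set_option autoImplicit false
set_option maxRecDepth 100000

/-! M24: the class equation.  The 26 representatives of `Helper4.M24B.Reps` are a full set of
representatives of the conjugacy classes, and their centralizers have the expected orders. -/

namespace Cfsg.Agent.Lib.Helper1.M24CE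

open Cfsg Cfsg.Agent.Lib.Helper1 Cfsg.Agent.Lib.Helper1.PermCode Cfsg.Agent.Lib.Helper4.M24B

/-- the representatives, in the order `1A 2A 2B 3A 3B 4A 4B 4C 5A 6A 6B 7A 7B 8A 10A 11A 12A 12B
14A 14B 15A 15B 21A 21B 23A 23B` -/
def rep : Fin 26 → GG := ![1, g2A, g2B, g3A, g3B, g4A, g4B, g4C, g5A, g6A, g6B, g7A, g7B, g8A,
  g10A, g11A, g12A, g12B, g14A, g14B, g15A, g15B, g21A, g21B, g23A, g23B]

/-- their codes -/
def repC : Fin 26 → ℕ := ![pc1, c2A, c2B, c3A, c3B, c4A, c4B, c4C, c5A, c6A, c6B, c7A, c7B, c8A,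
  c10A, c11A, c12A, c12B, c14A, c14B, c15A, c15B, c21A, c21B, c23A, c23B]

/-- the orders of their centralizers -/
def cent : Fin 26 → ℕ := ![244823040, 21504, 7680, 1080, 504, 384, 128, 96, 60, 24, 24, 42, 42, 16,
  20, 11, 12, 12, 14, 14, 15, 15, 21, 21, 23, 23]

theorem isCode_rep (i : Fin 26) : IsCode (repC i) (rep i) := by
  fin_cases i
  · exact isCode_one
  · exact isCode_g2A
  · exact isCode_g2B
  · exact isCode_g3A
  · exact isCode_g3B
  · exact isCode_g4A
  · exact isCode_g4B
  · exact isCode_g4C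
  · exact isCode_g5A
  · exact isCode_g6A
  · exact isCode_g6B
  · exact isCode_g7A
  · exact isCode_g7B
  · exact isCode_g8A
  · exact isCode_g10A
  · exact isCode_g11A
  · exact isCode_g12A
  · exact isCode_g12B
  · exact isCode_g14A
  · exact isCode_g14B
  · exact isCode_g15A
  · exact isCode_g15B
  · exact isCode_g21A
  · exact isCode_g21B
  · exact isCode_g23A
  · exact isCode_g23B

/-- the signatures -/
def sigTab : Fin 26 → List ℕ := ![[24, 24, 24, 24, 24, 24], [8, 24, 8, 24, 8, 24],
  [0, 24, 0, 24, 0, 24], [6, 6, 24, 6, 6, 24], [0, 0, 24, 0, 0, 24], [0, 8, 0, 24, 0, 8],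
  [4, 8, 4, 24, 4, 8], [0, 0, 0, 24, 0, 0], [4, 4, 4, 4, 24, 4], [2, 6, 8, 6, 2, 24],
  [0, 0, 0, 0, 0, 24], [3, 3, 3, 3, 3, 3], [3, 3, 3, 3, 3, 3], [2, 4, 2, 8, 2, 4],
  [0, 4, 0, 4, 0, 4], [2, 2, 2, 2, 2, 2], [0, 2, 0, 6, 0, 8], [0, 0, 0, 0, 0, 0],
  [1, 3, 1, 3, 1, 3], [1, 3, 1, 3, 1, 3], [1, 1, 4, 1, 6, 4], [1, 1, 4, 1, 6, 4],
  [0, 0, 3, 0, 0, 3], [0, 0, 3, 0, 0, 3], [1, 1, 1, 1, 1, 1], [1, 1, 1, 1, 1, 1]]

theorem sigC_repC : ∀ i : Fin 26, sigC (repC i) = sigTab i := by decide +kernel

/-- the pairs of classes of non-real elements -/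
def pairs : List (Fin 26 × Fin 26) := [(11, 12), (18, 19), (20, 21), (22, 23), (24, 25)]

theorem sigTab_inj : ∀ i j : Fin 26, sigTab i = sigTab j →
    i = j ∨ (i, j) ∈ pairs ∨ (j, i) ∈ pairs := by decide +kernel

theorem not_isConj_pairs : ∀ p ∈ pairs, ¬ IsConj (rep p.1) (rep p.2) := by
  intro p hp
  simp only [pairs, List.mem_cons, List.not_mem_nil, or_false] at hp
  rcases hp with rfl | rfl | rfl | rfl | rfl
  · exact not_isConj_of_stepL_nil sok7Ai isCode_g7A isCode_g7B nil_7
  · exact not_isConj_of_stepL_nil sok14Ai isCode_g14A isCode_g14B nil_14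
  · exact not_isConj_of_stepL_nil sok15Ai isCode_g15A isCode_g15B nil_15
  · exact not_isConj_of_stepL_nil sok21Ai isCode_g21A isCode_g21B nil_21
  · exact not_isConj_of_stepL_nil sok23Ai isCode_g23A isCode_g23B nil_23

/-- **(c)** the representatives are pairwise non-conjugate -/
theorem rep_nonconj (i j : Fin 26) (h : IsConj (rep i) (rep j)) : i = j := by
  have h1 : sigTab i = sigTab j := by
    rw [← sigC_repC i, ← sigC_repC j]
    exact sigC_eq_of_isConj (isCode_rep i) (isCode_rep j) h
  rcases sigTab_inj i j h1 with h2 | h2 | h2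
  · exact h2
  · exact absurd h (not_isConj_pairs _ h2)
  · exact absurd h.symm (not_isConj_pairs _ h2)

theorem card_GG : Nat.card GG = 244823040 := Cfsg.Agent.Lib.Helper1.M24.card_M24

/-- the bounds for the centralizers, given the two counts for the involutions -/
theorem card_centralizer_rep_le
    (h2A : (stepL c2A c2A spec2A chain spec2A [] []).length = 21504)
    (h2B : (stepL c2B c2B spec2B chain spec2B [] []).length = 7680) (i : Fin 26) :
    Nat.card (Subgroup.centralizer ({rep i} : Set GG)) ≤ cent i := by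
  fin_cases i
  · exact (Subgroup.card_le_card_group _).trans (le_of_eq card_GG)
  · exact (card_centralizer_le sok2A isCode_g2A).trans (le_of_eq h2A)
  · exact (card_centralizer_le sok2B isCode_g2B).trans (le_of_eq h2B)
  · exact (card_centralizer_le sok3A isCode_g3A).trans (le_of_eq cnt_3A)
  · exact (card_centralizer_le sok3B isCode_g3B).trans (le_of_eq cnt_3B)
  · exact (card_centralizer_le sok4A isCode_g4A).trans (le_of_eq cnt_4A)
  · exact (card_centralizer_le sok4B isCode_g4B).trans (le_of_eq cnt_4B)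
  · exact (card_centralizer_le sok4C isCode_g4C).trans (le_of_eq cnt_4C)
  · exact (card_centralizer_le sok5A isCode_g5A).trans (le_of_eq cnt_5A)
  · exact (card_centralizer_le sok6A isCode_g6A).trans (le_of_eq cnt_6A)
  · exact (card_centralizer_le sok6B isCode_g6B).trans (le_of_eq cnt_6B)
  · exact (card_centralizer_le sok7A isCode_g7A).trans (le_of_eq cnt_7A)
  · exact (card_centralizer_le sok7B isCode_g7B).trans (le_of_eq cnt_7B)
  · exact (card_centralizer_le sok8A isCode_g8A).trans (le_of_eq cnt_8A)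
  · exact (card_centralizer_le sok10A isCode_g10A).trans (le_of_eq cnt_10A)
  · exact (card_centralizer_le sok11A isCode_g11A).trans (le_of_eq cnt_11A)
  · exact (card_centralizer_le sok12A isCode_g12A).trans (le_of_eq cnt_12A)
  · exact (card_centralizer_le sok12B isCode_g12B).trans (le_of_eq cnt_12B)
  · exact (card_centralizer_le sok14A isCode_g14A).trans (le_of_eq cnt_14A)
  · exact (card_centralizer_le sok14B isCode_g14B).trans (le_of_eq cnt_14B)
  · exact (card_centralizer_le sok15A isCode_g15A).trans (le_of_eq cnt_15A)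
  · exact (card_centralizer_le sok15B isCode_g15B).trans (le_of_eq cnt_15B)
  · exact (card_centralizer_le sok21A isCode_g21A).trans (le_of_eq cnt_21A)
  · exact (card_centralizer_le sok21B isCode_g21B).trans (le_of_eq cnt_21B)
  · exact (card_centralizer_le sok23A isCode_g23A).trans (le_of_eq cnt_23A)
  · exact (card_centralizer_le sok23B isCode_g23B).trans (le_of_eq cnt_23B)

theorem cent_dvd : ∀ i : Fin 26, cent i ∣ 244823040 := by decide +kernel

theorem cent_sum : ∑ i : Fin 26, 244823040 / cent i = 244823040 := by decide +kernel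

/-- **the class equation of `M24`**, given the two counts for the involutions -/
theorem class_eq_M24
    (h2A : (stepL c2A c2A spec2A chain spec2A [] []).length = 21504)
    (h2B : (stepL c2B c2B spec2B chain spec2B [] []).length = 7680) :
    (∀ x : GG, ∃ i : Fin 26, IsConj x (rep i)) ∧
      ∀ i : Fin 26, Nat.card (Subgroup.centralizer ({rep i} : Set GG)) = cent i := by
  apply class_equation rep cent (card_centralizer_rep_le h2A h2B)
  · intro i; rw [card_GG]; exact cent_dvd i
  · exact rep_nonconj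
  · rw [card_GG]; exact cent_sum

end Cfsg.Agent.Lib.Helper1.M24CE
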