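import Mathlib
import Cfsg.Agent.Lib.Helper1.M24Y
import Cfsg.Agent.Lib.Helper1.M24W6

/-!
# Orbits of stabilizers of flags (dodecad, points) on dodecads
-/

set_option autoImplicit false

namespace Cfsg.Agent.Lib.Helper1.M24

open Cfsg Cfsg.Agent.Lib.Helper1
open scoped Pointwise

theorem cw6 : cw 6 = 28637 := by decide +kernel

theorem d₀fin_eq : d₀fin = sp 28637 := by unfold d₀fin; rw [cw6]

theorem mem_H12F {e : El K} (fx : List ℕ) (h : pm e.t (cw 6) = cw 6)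
    (hfx : ∀ j ∈ fx, j < 24 ∧ tg e.t j = j) : e.σ ∈ H12 ⊓ FixL fx := by
  refine ⟨mem_H12_of_pm h, ?_⟩
  intro j hj
  rw [e.tab j (hfx j hj).1, (hfx j hj).2]

theorem gensD_mem : ∀ e ∈ gensD, e.σ ∈ H12 := by
  have h : ∀ e ∈ gensD, pm e.t (cw 6) = cw 6 := by decide +kernel
  intro e he
  exact mem_H12_of_pm (h e he)

theorem gensXD_mem : ∀ e ∈ gensXD, e.σ ∈ H12 ⊓ FixL [0] := by
  have h : ∀ e ∈ gensXD, pm e.t (cw 6) = cw 6 ∧ ∀ j ∈ [0], j < 24 ∧ tg e.t j = j := by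
    decide +kernel
  intro e he
  exact mem_H12F _ (h e he).1 (h e he).2

theorem card_d₀fin_inter (m : ℕ) : (d₀fin ∩ sp m).card = popcN 24 (28637 &&& m) := by
  rw [d₀fin_eq, card_sp_inter]

/-- Conjugating back an element of the stabilizer of a standard flag (dodecad version). -/
theorem conj_flagD {g σ : P24} (hg : g ∈ M24) {fx : List ℕ} (hσ : σ ∈ H12 ⊓ FixL fx)
    {o : Finset GolayPt} (hgo : g • o = d₀fin) :
    g⁻¹ * σ * g ∈ M24 ∧ (g⁻¹ * σ * g) • o = o ∧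
      ∀ x : GolayPt, (∃ j ∈ fx, g x = gUnidx j) → (g⁻¹ * σ * g) x = x := by
  refine ⟨M24.mul_mem (M24.mul_mem (M24.inv_mem hg) hσ.1.1) hg, ?_, ?_⟩
  · rw [mul_smul, mul_smul, hgo, MulAction.mem_stabilizer_iff.mp hσ.1.2, ← hgo, inv_smul_smul]
  · rintro x ⟨j, hj, hx⟩
    rw [Equiv.Perm.mul_apply, Equiv.Perm.mul_apply, hx, hσ.2 j hj, ← hx]
    simp

/-- general transport of a transitivity statement from the standard flag (dodecad version) -/
theorem flag_trans_transportD {fx : List ℕ} (fam : ℕ → Bool)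
    (htr : ∀ m m' : ℕ, m ∈ dodList → m' ∈ dodList → fam m = true → fam m' = true →
      popcN 24 (28637 &&& m) = popcN 24 (28637 &&& m') → ∃ σ ∈ H12 ⊓ FixL fx, σ • sp m = sp m')
    {g : P24} (hg : g ∈ M24) {o o' o'' : Finset GolayPt} (hgo : g • o = d₀fin)
    (ho' : o' ∈ dodecads) (ho'' : o'' ∈ dodecads)
    (hf' : ∀ m, g • o' = sp m → fam m = true) (hf'' : ∀ m, g • o'' = sp m → fam m = true)
    (h : (o ∩ o').card = (o ∩ o'').card) :
    ∃ τ ∈ M24, τ • o = o ∧ τ • o' = o'' ∧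
      ∀ x : GolayPt, (∃ j ∈ fx, g x = gUnidx j) → τ x = x := by
  obtain ⟨m', hm', e'⟩ := exists_mask_of_mem_dodecads (smul_mem_dodecads hg ho')
  obtain ⟨m'', hm'', e''⟩ := exists_mask_of_mem_dodecads (smul_mem_dodecads hg ho'')
  have h1 : ∀ (x : Finset GolayPt) (m : ℕ), g • x = sp m →
      (o ∩ x).card = popcN 24 (28637 &&& m) := by
    intro x m hx
    rw [← card_inter_smul g, hgo, hx, card_d₀fin_inter]
  obtain ⟨σ, hσ, hσe⟩ := htr m' m'' hm' hm'' (hf' m' e') (hf'' m'' e'')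
    (by rw [← h1 o' m' e', ← h1 o'' m'' e'', h])
  obtain ⟨c1, c2, c3⟩ := conj_flagD hg hσ hgo
  refine ⟨g⁻¹ * σ * g, c1, c2, ?_, c3⟩
  rw [mul_smul, mul_smul, e', hσe, ← e'', inv_smul_smul]

/-- general transport of a count from the standard flag (dodecad version) -/
theorem flag_count_transportD (Q : Finset GolayPt → Prop) (Q₀ : Finset GolayPt → Prop)
    (q : ℕ → Bool) {g : P24} (hg : g ∈ M24) (hQ : ∀ x, Q₀ (g • x) ↔ Q x)
    (hq : ∀ m ∈ dodList, (Q₀ (sp m) ↔ q m = true)) :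
    {x | x ∈ dodecads ∧ Q x}.ncard = dodList.countP q := by
  rw [← ncard_dodecads_countP Q₀ q hq]
  apply ncard_transport g
  intro x
  rw [smul_mem_dodecads_iff hg, hQ]

/-- dodecads meeting the standard dodecad equally are in one orbit of its stabilizer -/
theorem dodecad_orbits (d d' d'' : Finset GolayPt) (hd : d ∈ dodecads) (hd' : d' ∈ dodecads)
    (hd'' : d'' ∈ dodecads) (h : (d ∩ d').card = (d ∩ d'').card) :
    ∃ g ∈ M24, g • d = d ∧ g • d' = d'' := by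
  obtain ⟨τ, hτ, hτd⟩ := dodecad_trans d d₀fin hd d₀fin_mem
  have hH : H12 = H12 ⊓ FixL [] := by
    ext g
    simp [mem_FixL]
  obtain ⟨g, hg, h1, h2, -⟩ := flag_trans_transportD (fx := []) famD
    (fun m m' hm hm' hf hf' hi => by
      obtain ⟨σ, hσ, h⟩ := transD gensD_mem m m' hm hm' hf hf' hi
      exact ⟨σ, hH ▸ hσ, h⟩) hτ hτd hd' hd'' (fun _ _ => rfl) (fun _ _ => rfl) h
  exact ⟨g, hg, h1, h2⟩

end Cfsg.Agent.Lib.Helper1.M24
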