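import Mathlib
import Cfsg.Agent.Lib.Helper1.M24Z

/-!
# The stabilizer of three points of the standard dodecad
-/

set_option autoImplicit false

namespace Cfsg.Agent.Lib.Helper1.M24

open Cfsg Cfsg.Agent.Lib.Helper1
open scoped Pointwise

theorem card_H12_fix3 : Nat.card ↥(H12 ⊓ FixL [0, 2, 3]) = 72 := by
  have e0 := level_card (K' := H12) (H := H12) le_rfl [] 0 (fun q => decide (q ∈ d₀pts))
    (fun q hq h => lvlD0 q hq (of_decide_eq_true h))
    (fun g hg _ => decide_eq_true (upD hg (by decide)))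
  have e1 := level_card (K' := H12) (H := H12) le_rfl [0] 2
    (fun q => decide (q ∈ d₀pts ∧ q ∉ [0]))
    (fun q hq h => lvlD1 q hq (of_decide_eq_true h).1 (of_decide_eq_true h).2)
    (fun g hg hfix => decide_eq_true ⟨upD hg (by decide),
      up_generic _ (by decide) hfix (by norm_num) (by decide)⟩)
  have e2 := level_card (K' := H12) (H := H12) le_rfl [0, 2] 3
    (fun q => decide (q ∈ d₀pts ∧ q ∉ [0, 2]))
    (fun q hq h => lvlD2 q hq (of_decide_eq_true h).1 (of_decide_eq_true h).2)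
    (fun g hg hfix => decide_eq_true ⟨upD hg (by decide),
      up_generic _ (by decide) hfix (by norm_num) (by decide)⟩)
  rw [FixL_nil, card_H12] at e0
  have c0 : (Finset.univ.filter (fun p : GolayPt =>
      (fun q => decide (q ∈ d₀pts)) (gIdx p) = true)).card = 12 := by decide +kernel
  have c1 : (Finset.univ.filter (fun p : GolayPt =>
      (fun q => decide (q ∈ d₀pts ∧ q ∉ [0])) (gIdx p) = true)).card = 11 := by decide +kernel
  have c2 : (Finset.univ.filter (fun p : GolayPt =>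
      (fun q => decide (q ∈ d₀pts ∧ q ∉ [0, 2])) (gIdx p) = true)).card = 10 := by
    decide +kernel
  rw [c0] at e0
  rw [c1] at e1
  rw [c2] at e2
  simp only [List.nil_append, List.cons_append] at e0 e1 e2
  rw [e1, e2] at e0
  omega

theorem lvlF : ∀ q < 24, q ∉ d₀pts → Reach H12 [0, 2, 3] 1 q := by
  intro q hq hq2
  refine reach_of_rnds' (by norm_num) gensD3 gensD3_mem (by decide +kernel) 3 ?_
  revert q
  decide +kernel

theorem lvlD_three : ∀ k < [0, 2, 3].length, ∀ q < 24,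
    gUnidx q ∈ (d₀fin : Set GolayPt) →
    q ∉ [0, 2, 3].take k →
      Reach H12 ([0, 2, 3].take k) ([0, 2, 3].getD k 0) q := by
  intro k hk q hq hqd hqn
  rw [Finset.mem_coe, mem_d₀fin_iff, gIdx_gUnidx q hq] at hqd
  have hk' : k < 3 := hk
  interval_cases k
  · exact lvlD0 q hq hqd
  · exact lvlD1 q hq hqd hqn
  · exact lvlD2 q hq hqd hqn

theorem three_to_base_D (x : Fin 3 → GolayPt) (hx : Function.Injective x)
    (hxd : ∀ i, x i ∈ d₀fin) :
    ∃ g ∈ H12, ∀ i : Fin 3, g (x i) = gUnidx ([0, 2, 3].getD i.val 0) :=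
  multi_trans H12 [0, 2, 3] (d₀fin : Set GolayPt) H12_maps_d₀ lvlD_three x hx
    (fun i => Finset.mem_coe.mpr (hxd i))

/-- transitivity on (dodecad, three ordered points on it) -/
theorem dodecad_three_trans (d : Finset GolayPt) (hd : d ∈ dodecads) (p q r : GolayPt)
    (hp : p ∈ d) (hq : q ∈ d) (hr : r ∈ d) (hpq : p ≠ q) (hpr : p ≠ r) (hqr : q ≠ r) :
    ∃ g ∈ M24, g • d = d₀fin ∧ g p = gUnidx 0 ∧ g q = gUnidx 2 ∧ g r = gUnidx 3 := by
  obtain ⟨τ, hτ, hτd⟩ := dodecad_trans d d₀fin hd d₀fin_mem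
  have hmem : ∀ x ∈ d, τ x ∈ d₀fin := by
    intro x hx
    rw [← hτd, apply_mem_smul_iff]
    exact hx
  obtain ⟨g₁, hg₁, h⟩ := three_to_base_D ![τ p, τ q, τ r]
    (by
      intro i j hij
      fin_cases i <;> fin_cases j <;> simp_all)
    (by
      intro i
      fin_cases i
      · exact hmem p hp
      · exact hmem q hq
      · exact hmem r hr)
  refine ⟨g₁ * τ, M24.mul_mem hg₁.1 hτ, ?_, ?_, ?_, ?_⟩
  · rw [mul_smul, hτd]
    exact MulAction.mem_stabilizer_iff.mp hg₁.2
  · exact h 0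
  · exact h 1
  · exact h 2

end Cfsg.Agent.Lib.Helper1.M24
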