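import Mathlib
import Cfsg.Agent.Lib.Helper1.M24E
import Cfsg.Agent.Lib.Helper1.M24F

set_option autoImplicit false

namespace Cfsg.Agent.Lib.Helper1.M24

open Cfsg Cfsg.Agent.Lib.Helper1
open scoped Pointwise

/-- the points of the standard octad -/
def fxO : List ℕ := [0, 1, 2, 3, 5, 14, 17, 23]

/-- the standard octad as a finset -/
def O₀fin : Finset GolayPt := support₂ (ofMask O₀)

theorem O₀fin_mem : O₀fin ∈ octads := by
  unfold O₀fin
  rw [← O₀_eq]
  exact octad_of_idx (by norm_num) (by decide +kernel)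

theorem mem_O₀fin_iff (p : GolayPt) : p ∈ O₀fin ↔ gIdx p ∈ fxO := by
  unfold O₀fin
  rw [mem_support₂_ofMask]
  revert p
  decide +kernel

theorem stabO_trivial {g : P24} (hg : g ∈ M24)
    (hfix : ∀ j ∈ fxO ++ [4], g (gUnidx j) = gUnidx j) : g = 1 := by
  have h0 : ∀ j ∈ fxO ++ [4], j < 24 ∧ g (gUnidx j) = gUnidx j := by
    intro j hj
    refine ⟨?_, hfix j hj⟩
    revert j
    decide
  have hm1 := invMask_of_octOK hg (fxO ++ [4]) (by decide) h0
    [3372, 3090, 1668, 2084, 2612, 2120, 180, 1120, 2276, 2628, 552] (by decide +kernel)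
  have h1 := fixed_round _ hm1 _ h0
  apply eq_one_of_fixes
  intro i hi
  apply (h1 i _).2
  revert i
  decide +kernel

theorem els16_spec : ∀ q < 24, q ∉ fxO → ∃ e ∈ els16, tg e.t 4 = q := by decide +kernel

theorem els16_fix : ∀ e ∈ els16, ∀ j ∈ fxO, tg e.t j = j := by decide +kernel

theorem els16_sq : ∀ e ∈ els16, ∀ i < 24, tg e.t (tg e.t i) = i := by decide +kernel

theorem fxO_lt : ∀ j ∈ fxO, j < 24 := by decide

theorem els16_fixes {e : El K} (he : e ∈ els16) : ∀ j ∈ fxO, e.σ (gUnidx j) = gUnidx j := by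
  intro j hj
  rw [e.tab j (fxO_lt j hj), els16_fix e he j hj]

theorem els16_sq_eq_one {e : El K} (he : e ∈ els16) : e.σ * e.σ = 1 := by
  apply eq_one_of_fixes
  intro i hi
  rw [Equiv.Perm.mul_apply, e.tab i hi, e.tab _ (e.lt i hi), els16_sq e he i hi]

theorem reachO : ∀ q < 24, q ∉ fxO → Reach K fxO 4 q := by
  intro q hq hqn
  obtain ⟨e, he, h4⟩ := els16_spec q hq hqn
  refine ⟨e.σ, e.mem, els16_fixes he, ?_⟩
  rw [e.tab 4 (by norm_num), h4]

/-- every element fixing the standard octad pointwise is one of the sixteen -/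
theorem mem_els16 {g : P24} (hg : g ∈ M24) (hfix : ∀ j ∈ fxO, g (gUnidx j) = gUnidx j) :
    ∃ e ∈ els16, g = e.σ := by
  have hq : gIdx (g (gUnidx 4)) ∉ fxO :=
    up_generic fxO fxO_lt hfix (by norm_num) (by decide)
  obtain ⟨e, he, h4⟩ := els16_spec _ (gIdx_lt _) hq
  refine ⟨e, he, ?_⟩
  have h1 : e.σ⁻¹ * g = 1 := by
    apply stabO_trivial (M24.mul_mem (M24.inv_mem (K_le e.mem)) hg)
    intro j hj
    rw [List.mem_append, List.mem_singleton] at hj
    rw [Equiv.Perm.mul_apply, Equiv.Perm.inv_eq_iff_eq]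
    rcases hj with hj | rfl
    · rw [hfix j hj, els16_fixes he j hj]
    · rw [e.tab 4 (by norm_num), h4, gUnidx_gIdx]
  calc g = e.σ * (e.σ⁻¹ * g) := by group
    _ = e.σ := by rw [h1, mul_one]

theorem card_FixL_fxO : Nat.card ↥(M24 ⊓ FixL fxO) = 16 := by
  have e1 := level_card (K' := K) (H := M24) K_le fxO 4 (fun q => decide (q ∉ fxO))
    (fun q hq h => reachO q hq (of_decide_eq_true h))
    (fun g _ hfix => decide_eq_true (up_generic fxO fxO_lt hfix (by norm_num) (by decide)))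
  have e2 : Nat.card ↥(M24 ⊓ FixL (fxO ++ [4])) = 1 := by
    have : M24 ⊓ FixL (fxO ++ [4]) = ⊥ := by
      rw [eq_bot_iff]
      rintro g ⟨hg, hfix⟩
      rw [Subgroup.mem_bot]
      exact stabO_trivial hg hfix
    rw [this]
    exact Subgroup.card_bot
  have c1 : (Finset.univ.filter (fun p : GolayPt =>
      (fun q => decide (q ∉ fxO)) (gIdx p) = true)).card = 16 := by
    decide +kernel
  rw [c1, e2] at e1
  exact e1

theorem fixing_O₀fin_eq : fixingSubgroup P24 (O₀fin : Set GolayPt) = FixL fxO := by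
  ext g
  rw [mem_fixingSubgroup_iff, mem_FixL]
  constructor
  · intro h j hj
    apply h
    rw [Finset.mem_coe, mem_O₀fin_iff, gIdx_gUnidx j (fxO_lt j hj)]
    exact hj
  · intro h p hp
    rw [Finset.mem_coe, mem_O₀fin_iff] at hp
    have := h _ hp
    rw [gUnidx_gIdx] at this
    exact this

/-- conjugation transports pointwise stabilizers -/
theorem conj_mem_fixing {τ g : P24} (hτ : τ ∈ M24) (s : Finset GolayPt) :
    g ∈ M24 ⊓ fixingSubgroup P24 ((τ • s : Finset GolayPt) : Set GolayPt) ↔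
      τ⁻¹ * g * τ ∈ M24 ⊓ fixingSubgroup P24 (s : Set GolayPt) := by
  rw [Subgroup.mem_inf, Subgroup.mem_inf, mem_fixingSubgroup_iff, mem_fixingSubgroup_iff]
  constructor
  · rintro ⟨h1, h2⟩
    refine ⟨M24.mul_mem (M24.mul_mem (M24.inv_mem hτ) h1) hτ, ?_⟩
    intro p hp
    have := h2 (τ • p) (by
      rw [Finset.mem_coe]
      exact Finset.smul_mem_smul_finset hp)
    rw [mul_smul, mul_smul, this, inv_smul_smul]
  · rintro ⟨h1, h2⟩
    refine ⟨?_, ?_⟩
    · have : g = τ * (τ⁻¹ * g * τ) * τ⁻¹ := by group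
      rw [this]
      exact M24.mul_mem (M24.mul_mem hτ h1) (M24.inv_mem hτ)
    · intro p hp
      rw [Finset.mem_coe, Finset.mem_smul_finset] at hp
      obtain ⟨q, hq, rfl⟩ := hp
      have := h2 q hq
      rw [mul_smul, mul_smul, inv_smul_eq_iff] at this
      exact this

theorem octad_pointwise (o : Finset GolayPt) (ho : o ∈ octads) :
    Nat.card ↥(M24 ⊓ fixingSubgroup P24 (o : Set GolayPt)) = 16 ∧
      ∀ g ∈ M24 ⊓ fixingSubgroup P24 (o : Set GolayPt), g * g = 1 := by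
  obtain ⟨τ, hτ, rfl⟩ := octad_trans O₀fin o O₀fin_mem ho
  constructor
  · rw [← card_FixL_fxO, ← fixing_O₀fin_eq]
    apply Nat.card_congr
    refine ⟨fun g => ⟨τ⁻¹ * g.1 * τ, (conj_mem_fixing hτ O₀fin).mp g.2⟩,
      fun g => ⟨τ * g.1 * τ⁻¹, (conj_mem_fixing hτ O₀fin).mpr (by
        have : τ⁻¹ * (τ * g.1 * τ⁻¹) * τ = g.1 := by group
        rw [this]; exact g.2)⟩, ?_, ?_⟩
    · intro g; apply Subtype.ext; simp only; group
    · intro g; apply Subtype.ext; simp only; group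
  · intro g hg
    have h1 := (conj_mem_fixing hτ O₀fin).mp hg
    rw [fixing_O₀fin_eq] at h1
    obtain ⟨e, he, h2⟩ := mem_els16 h1.1 h1.2
    have h3 := els16_sq_eq_one he
    rw [← h2] at h3
    have : g * g = τ * ((τ⁻¹ * g * τ) * (τ⁻¹ * g * τ)) * τ⁻¹ := by group
    rw [this, h3]
    group

end Cfsg.Agent.Lib.Helper1.M24
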