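import Mathlib

set_option autoImplicit false

/-! Generalities for the local refutations in the one-block theorem for `M24`. -/

namespace Cfsg.Agent.Lib.Helper1.M24L

open Subgroup

variable {G : Type*} [Group G]

/-- a normal `p`-subgroup of `C_G(D)` which is not inside `D` -/
def Refuted (p : ℕ) (D : Subgroup G) : Prop :=
  ∃ R : Subgroup G, IsPGroup p R ∧ R ≤ centralizer (D : Set G) ∧
    (∀ c ∈ centralizer (D : Set G), ∀ r ∈ R, c * r * c⁻¹ ∈ R) ∧ ¬ R ≤ D

theorem mem_centralizer_map_iff (φ : G ≃* G) (D : Subgroup G) (c : G) :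
    c ∈ centralizer ((D.map φ.toMonoidHom : Subgroup G) : Set G) ↔
      φ.symm c ∈ centralizer (D : Set G) := by
  rw [mem_centralizer_iff, mem_centralizer_iff]
  constructor
  · intro h d hd
    have := h (φ d) (mem_map_of_mem _ hd)
    apply φ.injective
    rw [map_mul, map_mul, φ.apply_symm_apply]
    exact this
  · rintro h _ ⟨d, hd, rfl⟩
    have := congrArg φ (h d hd)
    rw [map_mul, map_mul, φ.apply_symm_apply] at this
    exact this

theorem Refuted.map {p : ℕ} {D : Subgroup G} (h : Refuted p D) (φ : G ≃* G) :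
    Refuted p (D.map φ.toMonoidHom) := by
  obtain ⟨R, hR, hRC, hRn, hRD⟩ := h
  refine ⟨R.map φ.toMonoidHom, hR.map _, ?_, ?_, ?_⟩
  · rintro _ ⟨r, hr, rfl⟩
    rw [mem_centralizer_map_iff]
    simpa using hRC hr
  · rintro c hc _ ⟨r, hr, rfl⟩
    rw [mem_centralizer_map_iff] at hc
    refine ⟨φ.symm c * r * (φ.symm c)⁻¹, hRn _ hc r hr, ?_⟩
    simp
  · intro hle
    apply hRD
    exact (map_le_map_iff_of_injective (f := φ.toMonoidHom) φ.injective).mp hle

/-- two subgroups of `C` of Sylow order are conjugate under `C` -/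
theorem exists_conj_eq_of_card [Finite G] {p : ℕ} [Fact p.Prime] (C : Subgroup G)
    {D0 D : Subgroup G} (h0 : D0 ≤ C) (hD : D ≤ C)
    (hc0 : Nat.card D0 = p ^ (Nat.card C).factorization p)
    (hc : Nat.card D = p ^ (Nat.card C).factorization p) :
    ∃ c ∈ C, D = D0.map (MulAut.conj c).toMonoidHom := by
  have e0 : Nat.card (D0.subgroupOf C) = p ^ (Nat.card C).factorization p := by
    rw [Nat.card_congr (subgroupOfEquivOfLe h0).toEquiv, hc0]
  have e1 : Nat.card (D.subgroupOf C) = p ^ (Nat.card C).factorization p := by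
    rw [Nat.card_congr (subgroupOfEquivOfLe hD).toEquiv, hc]
  obtain ⟨c, hcP⟩ := MulAction.exists_smul_eq C (Sylow.ofCard _ e0) (Sylow.ofCard _ e1)
  refine ⟨c.1, c.2, ?_⟩
  have key : ∀ x : C, x ∈ D.subgroupOf C ↔ c⁻¹ * x * c ∈ D0.subgroupOf C := by
    intro x
    have h1 : x ∈ ((Sylow.ofCard _ e1 : Sylow p C) : Subgroup C) ↔
        x ∈ ((c • Sylow.ofCard _ e0 : Sylow p C) : Subgroup C) := by rw [hcP]
    rw [Sylow.coe_ofCard, Sylow.coe_subgroup_smul, Sylow.coe_ofCard,
      mem_pointwise_smul_iff_inv_smul_mem] at h1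
    rw [h1]
    simp [MulAut.smul_def, mul_assoc]
  ext d
  constructor
  · intro hd
    have := (key ⟨d, hD hd⟩).mp (by rwa [mem_subgroupOf])
    rw [mem_subgroupOf] at this
    refine ⟨_, this, ?_⟩
    simp [mul_assoc]
  · rintro ⟨d0, hd0, rfl⟩
    have hmem : (MulAut.conj (c : G)) d0 ∈ C := by
      simp only [MulAut.conj_apply]
      exact C.mul_mem (C.mul_mem c.2 (h0 hd0)) (C.inv_mem c.2)
    have := (key ⟨_, hmem⟩).mpr (by
      rw [mem_subgroupOf]
      simpa [mul_assoc] using hd0)
    rwa [mem_subgroupOf] at this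

theorem centralizer_singleton_conj (g y : G) :
    centralizer ({g * y * g⁻¹} : Set G) = (centralizer ({y} : Set G)).map (MulAut.conj g).toMonoidHom := by
  ext x
  rw [mem_centralizer_singleton_iff]
  constructor
  · intro h
    refine ⟨g⁻¹ * x * g, ?_, by simp [mul_assoc]⟩
    rw [SetLike.mem_coe, mem_centralizer_singleton_iff]
    calc g⁻¹ * x * g * y = g⁻¹ * (x * (g * y * g⁻¹)) * g := by group
      _ = g⁻¹ * ((g * y * g⁻¹) * x) * g := by rw [h]
      _ = y * (g⁻¹ * x * g) := by group
  · rintro ⟨x0, hx0, rfl⟩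
    rw [SetLike.mem_coe, mem_centralizer_singleton_iff] at hx0
    simp only [MulEquiv.coe_toMonoidHom, MulAut.conj_apply]
    calc g * x0 * g⁻¹ * (g * y * g⁻¹) = g * (x0 * y) * g⁻¹ := by group
      _ = g * (y * x0) * g⁻¹ := by rw [hx0]
      _ = g * y * g⁻¹ * (g * x0 * g⁻¹) := by group

theorem card_map_mulEquiv (φ : G ≃* G) (H : Subgroup G) :
    Nat.card (H.map φ.toMonoidHom) = Nat.card H :=
  (Nat.card_congr (H.equivMapOfInjective φ.toMonoidHom φ.injective).toEquiv).symm

theorem card_centralizer_eq_of_isConj {y y' : G} (h : IsConj y y') :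
    Nat.card (centralizer ({y'} : Set G)) = Nat.card (centralizer ({y} : Set G)) := by
  obtain ⟨g, rfl⟩ := isConj_iff.mp h
  rw [centralizer_singleton_conj, card_map_mulEquiv]

/-- transport of a refutation to all Sylow subgroups of the centralizers of the conjugates -/
theorem Refuted.of_isConj [Finite G] {p : ℕ} [Fact p.Prime] {y y' : G} (hy : IsConj y y')
    {D0 D : Subgroup G} (h0 : D0 ≤ centralizer ({y} : Set G))
    (hc0 : Nat.card D0 = p ^ (Nat.card (centralizer ({y} : Set G))).factorization p)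
    (hR : Refuted p D0) (hD : D ≤ centralizer ({y'} : Set G))
    (hc : Nat.card D = p ^ (Nat.card (centralizer ({y'} : Set G))).factorization p) :
    Refuted p D := by
  obtain ⟨g, rfl⟩ := isConj_iff.mp hy
  set φ : G ≃* G := MulAut.conj g with hφ
  -- pull `D` back
  have hD' : D.map φ.symm.toMonoidHom ≤ centralizer ({y} : Set G) := by
    rintro _ ⟨d, hd, rfl⟩
    have := hD hd
    rw [centralizer_singleton_conj] at this
    obtain ⟨x0, hx0, hx⟩ := this
    have : φ.symm d = x0 := by
      rw [← hx]; simp [hφ, mul_assoc]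
    simpa [this] using hx0
  have hc' : Nat.card (D.map φ.symm.toMonoidHom) =
      p ^ (Nat.card (centralizer ({y} : Set G))).factorization p := by
    rw [card_map_mulEquiv, hc, card_centralizer_eq_of_isConj hy]
  obtain ⟨c, _, hcD⟩ := exists_conj_eq_of_card _ h0 hD' hc0 hc'
  have h1 : Refuted p (D.map φ.symm.toMonoidHom) := by
    rw [hcD]; exact hR.map _
  have h2 := h1.map φ
  have h3 : (D.map φ.symm.toMonoidHom).map φ.toMonoidHom = D := by
    rw [map_map]
    have : φ.toMonoidHom.comp φ.symm.toMonoidHom = MonoidHom.id G := by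
      ext x; simp
    rw [this, Subgroup.map_id]
  rwa [h3] at h2

/-- a proper subgroup has at most half the order -/
theorem two_mul_card_le [Finite G] {H C : Subgroup G} (h : H ≤ C) {c : G} (hc : c ∈ C)
    (hcH : c ∉ H) : 2 * Nat.card H ≤ Nat.card C := by
  have h1 : H.relIndex C * Nat.card H = Nat.card C := by
    have := card_mul_index (H.subgroupOf C)
    rw [Nat.card_congr (subgroupOfEquivOfLe h).toEquiv, mul_comm] at this
    exact this
  have h2 : H.relIndex C ≠ 1 := by
    intro h2
    exact hcH (relIndex_eq_one.mp h2 hc)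
  have h3 : H.relIndex C ≠ 0 := by
    intro h3
    rw [h3, zero_mul] at h1
    exact Nat.card_pos.ne' h1.symm
  have h4 : 2 ≤ H.relIndex C := by omega
  calc 2 * Nat.card H ≤ H.relIndex C * Nat.card H := Nat.mul_le_mul_right _ h4
    _ = Nat.card C := h1

theorem eq_of_dvd_card [Finite G] {H C : Subgroup G} (h : H ≤ C) {n : ℕ}
    (hn : n ∣ Nat.card H) (hC : Nat.card C ≤ n) : H = C := by
  have h1 : n ≤ Nat.card H := Nat.le_of_dvd Nat.card_pos hn
  exact eq_of_le_of_card_ge h (hC.trans h1)

/-- in a finite group conjugation-stability only has to be checked on generators -/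
theorem conj_mem_of_closure [Finite G] {S T : Set G}
    (h : ∀ s ∈ S, ∀ t ∈ T, s * t * s⁻¹ ∈ closure T) :
    ∀ c ∈ closure S, ∀ r ∈ closure T, c * r * c⁻¹ ∈ closure T := by
  have step : ∀ s : G, (∀ t ∈ T, s * t * s⁻¹ ∈ closure T) →
      ∀ r ∈ closure T, s * r * s⁻¹ ∈ closure T := by
    intro s hs r hr
    have : closure T ≤ (closure T).comap (MulAut.conj s).toMonoidHom := by
      rw [closure_le]
      intro t ht
      simpa using hs t ht
    simpa using this hr
  intro c hc
  induction hc using closure_induction with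
  | mem s hs => exact step s (h s hs)
  | one => intro r hr; simpa using hr
  | mul x y _ _ hx hy =>
    intro r hr
    have := hx _ (hy r hr)
    simpa [mul_assoc] using this
  | inv x _ hx =>
    intro r hr
    have hpow : ∀ m : ℕ, x ^ m * r * (x ^ m)⁻¹ ∈ closure T := by
      intro m
      induction m with
      | zero => simpa using hr
      | succ m ihm =>
        have := hx _ ihm
        rw [pow_succ']
        simpa [mul_assoc] using this
    have h1 : x⁻¹ = x ^ (orderOf x - 1) := by
      have hpos : 0 < orderOf x := orderOf_pos x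
      apply inv_eq_of_mul_eq_one_right
      rw [← pow_succ', Nat.sub_add_cancel hpos, pow_orderOf_eq_one]
    rw [h1]
    exact hpow _

theorem factorization_eq_of_dvd {p n d : ℕ} (hp : p.Prime) (hn : n ≠ 0) (h1 : p ^ d ∣ n)
    (h2 : ¬ p ^ (d + 1) ∣ n) : n.factorization p = d := by
  have a := (hp.pow_dvd_iff_le_factorization hn).mp h1
  have b := mt (hp.pow_dvd_iff_le_factorization hn).mpr h2
  omega

theorem two_dvd_orderOf {x : G} {k : ℕ} (h1 : x ^ (2 * k) = 1) (h2 : x ^ k ≠ 1) :
    2 ∣ orderOf x := by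
  by_contra h
  have hd : orderOf x ∣ 2 * k := orderOf_dvd_of_pow_eq_one h1
  have hco : Nat.Coprime (orderOf x) 2 := by
    rw [Nat.coprime_comm]
    exact (Nat.Prime.coprime_iff_not_dvd Nat.prime_two).mpr h
  exact h2 (orderOf_dvd_iff_pow_eq_one.mp (hco.dvd_of_dvd_mul_left hd))

end Cfsg.Agent.Lib.Helper1.M24L
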