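import Cfsg.Agent.Lib.Helper1.M24CE4
import Cfsg.Agent.Lib.Helper1.M24L1

set_option autoImplicit false
set_option maxRecDepth 100000

/-! M24: certificates on codes for the local refutations. -/

namespace Cfsg.Agent.Lib.Helper1.M24L

open Cfsg Cfsg.Agent.Lib.Helper1 Cfsg.Agent.Lib.Helper1.PermCode Cfsg.Agent.Lib.Helper4.M24B
  Cfsg.Agent.Lib.Helper1.M24CE Subgroup

/-! ### generalities -/

theorem forall₂_right {α β : Type} {R : α → β → Prop} {l₁ : List α} {l₂ : List β}
    (h : List.Forall₂ R l₁ l₂) : ∀ y ∈ l₂, ∃ x ∈ l₁, R x y := by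
  induction h with
  | nil => intro y hy; simp at hy
  | cons hab _ ih =>
    intro y hy
    rcases List.mem_cons.1 hy with rfl | hy
    · exact ⟨_, List.mem_cons_self, hab⟩
    · obtain ⟨x, hx, hxy⟩ := ih y hy
      exact ⟨x, List.mem_cons_of_mem _ hx, hxy⟩

theorem mem_centralizer_closure {G : Type*} [Group G] {S : Set G} {x : G}
    (h : ∀ s ∈ S, s * x = x * s) : x ∈ centralizer ((closure S : Subgroup G) : Set G) := by
  have h1 : closure S ≤ centralizer ({x} : Set G) := by
    rw [closure_le]
    intro s hs
    rw [SetLike.mem_coe, mem_centralizer_singleton_iff]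
    exact h s hs
  rw [mem_centralizer_iff]
  intro k hk
  exact mem_centralizer_singleton_iff.mp (h1 hk)

/-- all products `a₁^e₁ ⋯ aₙ^eₙ` -/
def dbl : List ℕ → List ℕ
  | [] => [pc1]
  | a :: as => dbl as ++ (dbl as).map (pmu2 a)

theorem length_dbl (cs : List ℕ) : (dbl cs).length = 2 ^ cs.length := by
  induction cs with
  | nil => rfl
  | cons a cs ih => rw [dbl, List.length_append, List.length_map, ih, List.length_cons, pow_succ]; ring

theorem pc1_mem_dbl (cs : List ℕ) : pc1 ∈ dbl cs := by
  induction cs with
  | nil => exact List.mem_singleton.mpr rfl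
  | cons a cs ih => rw [dbl]; exact List.mem_append_left _ ih

/-- the element of a valid code -/
noncomputable def gOf (c : ℕ) : GG :=
  if h : chkM24 (tabOf c) c = true then gOfChk h else 1

theorem isCode_gOf {c : ℕ} (h : chkM24 (tabOf c) c = true) : IsCode c (gOf c) := by
  rw [gOf, dif_pos h]; exact isCode_gOfChk h

/-- all codes of the list are valid -/
def validB (cs : List ℕ) : Bool := cs.all fun c => chkM24 (tabOf c) c

theorem isCode_of_validB {cs : List ℕ} (h : validB cs = true) {c : ℕ} (hc : c ∈ cs) :
    IsCode c (gOf c) := by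
  rw [validB, List.all_eq_true] at h
  exact isCode_gOf (h c hc)

/-- the subgroup generated by the elements of a list of codes -/
noncomputable def cl (cs : List ℕ) : Subgroup GG := closure {x | ∃ c ∈ cs, gOf c = x}

theorem gOf_mem_cl {cs : List ℕ} {c : ℕ} (hc : c ∈ cs) : gOf c ∈ cl cs :=
  subset_closure ⟨c, hc, rfl⟩

theorem cl_mono {cs cs' : List ℕ} (h : ∀ c ∈ cs, c ∈ cs') : cl cs ≤ cl cs' :=
  closure_mono (by rintro _ ⟨c, hc, rfl⟩; exact ⟨c, h c hc, rfl⟩)

theorem mem_dbl {cs : List ℕ} (h : validB cs = true) :
    ∀ c ∈ dbl cs, ∃ g ∈ cl cs, IsCode c g := by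
  induction cs with
  | nil =>
    intro c hc
    rw [dbl, List.mem_singleton] at hc
    subst hc
    exact ⟨1, one_mem _, isCode_one⟩
  | cons a cs ih =>
    have hv : validB cs = true := by
      rw [validB, List.all_eq_true] at h ⊢
      intro c hc
      exact h c (List.mem_cons_of_mem _ hc)
    have hmono : cl cs ≤ cl (a :: cs) := cl_mono (fun c hc => List.mem_cons_of_mem _ hc)
    intro c hc
    rw [dbl, List.mem_append, List.mem_map] at hc
    rcases hc with hc | ⟨c', hc', rfl⟩
    · obtain ⟨g', hg', hcg'⟩ := ih hv c hc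
      exact ⟨g', hmono hg', hcg'⟩
    · obtain ⟨g', hg', hcg'⟩ := ih hv c' hc'
      exact ⟨gOf a * g', mul_mem (gOf_mem_cl List.mem_cons_self) (hmono hg'),
        (isCode_of_validB h List.mem_cons_self).mul hcg'⟩

/-- the list of products is closed under right multiplication by the generators -/
def closedB (cs : List ℕ) : Bool :=
  (dbl cs).all fun c => cs.all fun a => (dbl cs).contains (pmu2 c a)

theorem cd_mem_dbl {cs : List ℕ} (h : validB cs = true) (hcl : closedB cs = true) :
    ∀ g ∈ cl cs, cd g ∈ dbl cs := by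
  have hcl' : ∀ c ∈ dbl cs, ∀ a ∈ cs, pmu2 c a ∈ dbl cs := by
    intro c hc a ha
    rw [closedB, List.all_eq_true] at hcl
    have h2 := hcl c hc
    rw [List.all_eq_true] at h2
    exact List.contains_iff_mem.mp (h2 a ha)
  have key : ∀ g ∈ cl cs, ∀ w : GG, cd w ∈ dbl cs → cd (w * g) ∈ dbl cs := by
    intro g hg
    induction hg using closure_induction with
    | mem y hy =>
      intro w hw
      obtain ⟨a, ha, rfl⟩ := hy
      rw [cd_mul, cd_eq (isCode_of_validB h ha)]
      exact hcl' _ hw a ha
    | one => intro w hw; rwa [mul_one]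
    | mul x y _ _ hx hy =>
      intro w hw
      rw [← mul_assoc]
      exact hy _ (hx w hw)
    | inv x _ hx =>
      intro w hw
      have hpow : ∀ m : ℕ, cd (w * x ^ m) ∈ dbl cs := by
        intro m
        induction m with
        | zero => rwa [pow_zero, mul_one]
        | succ m ihm => rw [pow_succ, ← mul_assoc]; exact hx _ ihm
      have h1 : x⁻¹ = x ^ (orderOf x - 1) := by
        have hpos : 0 < orderOf x := orderOf_pos x
        apply inv_eq_of_mul_eq_one_right
        rw [← pow_succ', Nat.sub_add_cancel hpos, pow_orderOf_eq_one]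
      rw [h1]
      exact hpow _
  intro g hg
  have := key g hg 1 (by rw [cd_one]; exact pc1_mem_dbl cs)
  rwa [one_mul] at this

theorem card_cl' {cs : List ℕ} (h : validB cs = true) (hmem : ∀ g ∈ cl cs, cd g ∈ dbl cs)
    (hnd : (dbl cs).Nodup) : Nat.card (cl cs) = 2 ^ cs.length := by
  classical
  let f : cl cs → (dbl cs).toFinset := fun k =>
    ⟨cd k.1, List.mem_toFinset.mpr (hmem k.1 k.2)⟩
  have hf : Function.Bijective f := by
    constructor
    · intro k k' hk
      exact Subtype.ext (cd_injective (congrArg Subtype.val hk))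
    · rintro ⟨c, hc⟩
      obtain ⟨g, hg, hcg⟩ := mem_dbl h c (List.mem_toFinset.mp hc)
      exact ⟨⟨g, hg⟩, Subtype.ext (cd_eq hcg)⟩
  rw [Nat.card_congr (Equiv.ofBijective f hf), Nat.card_eq_fintype_card, Fintype.card_coe,
    List.toFinset_card_of_nodup hnd, length_dbl]

theorem card_cl {cs : List ℕ} (h : validB cs = true) (hcl : closedB cs = true)
    (hnd : (dbl cs).Nodup) : Nat.card (cl cs) = 2 ^ cs.length :=
  card_cl' h (cd_mem_dbl h hcl) hnd

/-! ### polycyclic generating sequences -/

/-- the sequence (codes with their inverses) is a polycyclic generating sequence with all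
indices `2` -/
def pcB : List (ℕ × ℕ) → Bool
  | [] => true
  | p :: rest =>
    pmu2 p.2 pc1 == p.2 && pmu2 p.1 p.2 == pc1 &&
    rest.all (fun s => (dbl (rest.map Prod.fst)).contains (pmu2 (pmu2 p.1 s.1) p.2)) &&
    (dbl (rest.map Prod.fst)).contains (pmu2 p.1 p.1) &&
    !(dbl (rest.map Prod.fst)).contains p.1 && pcB rest

theorem validB_cons {a : ℕ} {cs : List ℕ} (h : validB (a :: cs) = true) : validB cs = true := by
  rw [validB, List.all_eq_true] at h ⊢
  intro c hc
  exact h c (List.mem_cons_of_mem _ hc)

theorem pc_spec : ∀ (ps : List (ℕ × ℕ)), validB (ps.map Prod.fst) = true → pcB ps = true →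
    (∀ g ∈ cl (ps.map Prod.fst), cd g ∈ dbl (ps.map Prod.fst)) ∧
      (dbl (ps.map Prod.fst)).Nodup := by
  intro ps
  induction ps with
  | nil =>
    intro _ _
    refine ⟨?_, ?_⟩
    · intro g hg
      have hbot : cl (([] : List (ℕ × ℕ)).map Prod.fst) = ⊥ := by
        rw [cl, closure_eq_bot_iff]
        rintro _ ⟨c, hc, _⟩
        simp at hc
      rw [hbot, mem_bot] at hg
      rw [hg, cd_one]
      exact List.mem_singleton.mpr rfl
    · exact List.nodup_singleton _
  | cons p rest ih =>
    intro hv hpc
    have hvr : validB (rest.map Prod.fst) = true := validB_cons hv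
    rw [pcB, Bool.and_eq_true, Bool.and_eq_true, Bool.and_eq_true, Bool.and_eq_true,
      Bool.and_eq_true] at hpc
    obtain ⟨⟨⟨⟨⟨h1, h2⟩, h3⟩, h4⟩, h5⟩, h6⟩ := hpc
    obtain ⟨hN, hnd⟩ := ih hvr h6
    have h1 : pmu2 p.2 pc1 = p.2 := beq_iff_eq.mp h1
    have h2 : pmu2 p.1 p.2 = pc1 := beq_iff_eq.mp h2
    have h4 : pmu2 p.1 p.1 ∈ dbl (rest.map Prod.fst) := List.contains_iff_mem.mp h4
    have h5 : p.1 ∉ dbl (rest.map Prod.fst) := by
      intro hc
      rw [List.contains_iff_mem.mpr hc] at h5
      simp at h5
    rw [List.all_eq_true] at h3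
    set cs := rest.map Prod.fst with hcs
    set x := gOf p.1 with hxdef
    have hx : IsCode p.1 x := isCode_of_validB hv List.mem_cons_self
    have hxi : IsCode p.2 x⁻¹ := hx.inv_of_mul (canon_of_pmu2_pc1 h1) h2
    have hmono : cl cs ≤ cl (p.1 :: cs) := cl_mono (fun c hc => List.mem_cons_of_mem _ hc)
    -- conjugation
    have hconj : ∀ c ∈ closure ({x} : Set GG), ∀ r ∈ cl cs, c * r * c⁻¹ ∈ cl cs := by
      apply conj_mem_of_closure
      rintro s hs _ ⟨c, hc, rfl⟩
      rw [Set.mem_singleton_iff] at hs
      subst hs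
      obtain ⟨q, hq, rfl⟩ := List.mem_map.mp hc
      have h7 := List.contains_iff_mem.mp (h3 q hq)
      obtain ⟨g', hg', hcg'⟩ := mem_dbl hvr _ h7
      have : x * gOf q.1 * x⁻¹ = g' :=
        ((hx.mul (isCode_of_validB hvr hc)).mul hxi).elt_unique hcg'
      rw [this]
      exact hg'
    have hxx : x * x ∈ cl cs := by
      obtain ⟨g', hg', hcg'⟩ := mem_dbl hvr _ h4
      rw [(hx.mul hx).elt_unique hcg']
      exact hg'
    have hxN : x ∉ cl cs := by
      intro hc
      apply h5
      have := hN x hc
      rwa [cd_eq hx] at this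
    have hxcl : x ∈ closure ({x} : Set GG) := subset_closure rfl
    have hxicl : x⁻¹ ∈ closure ({x} : Set GG) := inv_mem hxcl
    -- the two cosets
    have step : ∀ y ∈ cl (p.1 :: cs), y ∈ cl cs ∨ x⁻¹ * y ∈ cl cs := by
      have key : ∀ g ∈ cl (p.1 :: cs), ∀ w : GG, (w ∈ cl cs ∨ x⁻¹ * w ∈ cl cs) →
          (w * g ∈ cl cs ∨ x⁻¹ * (w * g) ∈ cl cs) := by
        intro g hg
        induction hg using closure_induction with
        | mem y hy =>
          obtain ⟨c, hc, rfl⟩ := hy
          rcases List.mem_cons.mp hc with rfl | hc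
          · intro w hw
            rcases hw with hw | hw
            · right
              have := hconj _ hxicl w hw
              rw [inv_inv] at this
              rw [← mul_assoc]
              exact this
            · left
              have h8 := hconj _ hxcl _ hw
              have : w * x = x * (x⁻¹ * w) * x⁻¹ * (x * x) := by group
              rw [this]
              exact mul_mem h8 hxx
          · intro w hw
            have hg : gOf c ∈ cl cs := gOf_mem_cl hc
            rcases hw with hw | hw
            · exact Or.inl (mul_mem hw hg)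
            · right
              rw [← mul_assoc]
              exact mul_mem hw hg
        | one => intro w hw; rwa [mul_one]
        | mul a b _ _ ha hb =>
          intro w hw
          rw [← mul_assoc]
          exact hb _ (ha w hw)
        | inv a _ ha =>
          intro w hw
          have hpow : ∀ m : ℕ, (w * a ^ m ∈ cl cs ∨ x⁻¹ * (w * a ^ m) ∈ cl cs) := by
            intro m
            induction m with
            | zero => rwa [pow_zero, mul_one]
            | succ m ihm => rw [pow_succ, ← mul_assoc]; exact ha _ ihm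
          have h1 : a⁻¹ = a ^ (orderOf a - 1) := by
            have hpos : 0 < orderOf a := orderOf_pos a
            apply inv_eq_of_mul_eq_one_right
            rw [← pow_succ', Nat.sub_add_cancel hpos, pow_orderOf_eq_one]
          rw [h1]
          exact hpow _
      intro y hy
      have := key y hy 1 (Or.inl (one_mem _))
      rwa [one_mul] at this
    have hdbl : dbl (p.1 :: cs) = dbl cs ++ (dbl cs).map (pmu2 p.1) := rfl
    refine ⟨?_, ?_⟩
    · intro y hy
      change cd y ∈ dbl (p.1 :: cs)
      rw [hdbl, List.mem_append]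
      rcases step y hy with h | h
      · exact Or.inl (hN y h)
      · right
        rw [List.mem_map]
        refine ⟨cd (x⁻¹ * y), hN _ h, ?_⟩
        rw [← cd_eq hx, ← cd_mul]
        congr 1
        group
    · change (dbl (p.1 :: cs)).Nodup
      rw [hdbl, List.nodup_append]
      refine ⟨hnd, ?_, ?_⟩
      · apply List.Nodup.map_on _ hnd
        intro a ha b hb hab
        obtain ⟨ga, _, hga⟩ := mem_dbl hvr a ha
        obtain ⟨gb, _, hgb⟩ := mem_dbl hvr b hb
        have : x * ga = x * gb := (hx.mul hga).elt_unique (hab ▸ hx.mul hgb)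
        have hgab : ga = gb := mul_left_cancel this
        rw [hgab] at hga
        exact hga.code_unique hgb
      · intro a ha b hb hab
        obtain ⟨c, hc, rfl⟩ := List.mem_map.mp hb
        obtain ⟨ga, hgaN, hga⟩ := mem_dbl hvr a ha
        obtain ⟨gc, hgcN, hgc⟩ := mem_dbl hvr c hc
        have : ga = x * gc := hga.elt_unique (hab ▸ hx.mul hgc)
        apply hxN
        have hxeq : x = ga * gc⁻¹ := by rw [this]; group
        rw [hxeq]
        exact mul_mem hgaN (inv_mem hgcN)

theorem eq_of_codes {a b c d : ℕ} {x y z w : GG} (hx : IsCode a x) (hy : IsCode b y)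
    (hz : IsCode c z) (hw : IsCode d w) (h : pmu2 a b = pmu2 c d) : x * y = z * w :=
  (hx.mul hy).elt_unique (h ▸ hz.mul hw)

/-- the codes of the first list commute with those of the second -/
def commB (as bs : List ℕ) : Bool := as.all fun a => bs.all fun b => pmu2 a b == pmu2 b a

theorem comm_of_commB {as bs : List ℕ} (h : commB as bs = true) {a b : ℕ} (ha : a ∈ as)
    (hb : b ∈ bs) : pmu2 a b = pmu2 b a := by
  rw [commB, List.all_eq_true] at h
  have h2 := h a ha
  rw [List.all_eq_true] at h2
  exact beq_iff_eq.mp (h2 b hb)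

theorem cl_le_centralizer_cl {as bs : List ℕ} (ha : validB as = true) (hb : validB bs = true)
    (h : commB as bs = true) : cl as ≤ centralizer ((cl bs : Subgroup GG) : Set GG) := by
  rw [cl, closure_le]
  rintro _ ⟨a, haa, rfl⟩
  apply mem_centralizer_closure
  rintro _ ⟨b, hbb, rfl⟩
  exact (eq_of_codes (isCode_of_validB ha haa) (isCode_of_validB hb hbb)
    (isCode_of_validB hb hbb) (isCode_of_validB ha haa) (comm_of_commB h haa hbb)).symm

theorem cl_le_centralizer_singleton {as : List ℕ} (ha : validB as = true) {yc : ℕ} {y : GG}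
    (hy : IsCode yc y) (h : commB as [yc] = true) : cl as ≤ centralizer ({y} : Set GG) := by
  rw [cl, closure_le]
  rintro _ ⟨a, haa, rfl⟩
  rw [SetLike.mem_coe, mem_centralizer_singleton_iff]
  exact eq_of_codes (isCode_of_validB ha haa) hy hy (isCode_of_validB ha haa)
    (comm_of_commB h haa List.mem_cons_self)

/-- the generators `gens` conjugate the generators `rs` into the list of products of `rs` -/
def normB (gens rs : List ℕ) : Bool :=
  gens.all fun s => rs.all fun r => (dbl rs).any fun r' => pmu2 s r == pmu2 r' s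

/-- the elements of odd prime order -/
def oddB (os : List (ℕ × ℕ)) : Bool := os.all fun op => ppow op.1 op.2 == pc1 && op.1 != pc1

theorem orderOf_of_oddB {os : List (ℕ × ℕ)} (hv : validB (os.map Prod.fst) = true)
    (h : oddB os = true) {op : ℕ × ℕ} (hop : op ∈ os) (hp : op.2.Prime) :
    orderOf (gOf op.1) = op.2 := by
  rw [oddB, List.all_eq_true] at h
  have h1 := h op hop
  rw [Bool.and_eq_true] at h1
  have hx : IsCode op.1 (gOf op.1) := isCode_of_validB hv (List.mem_map_of_mem hop)
  have : Fact op.2.Prime := ⟨hp⟩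
  apply orderOf_eq_prime
  · have h2 : ppow op.1 op.2 = pc1 := beq_iff_eq.mp h1.1
    exact (isCode_ppow hx op.2).elt_unique (h2 ▸ isCode_one)
  · intro h3
    rw [h3] at hx
    have h4 := hx.code_unique isCode_one
    have h5 := h1.2
    rw [h4] at h5
    simp at h5

/-- **the certificate** for a refutation of `D = cl dC`: a Sylow `2`-subgroup `cl (uC ++ rC)` of the
centralizer of `D` (given by a polycyclic generating sequence `uP ++ rP`, codes with inverses),
elements of odd prime orders, an upper bound for the order of the centralizer, and the normal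
subgroup `cl rC`. -/
theorem refuted_of_cert (dC : List ℕ) (uP rP : List (ℕ × ℕ)) (oC : List (ℕ × ℕ)) (B : ℕ)
    (hvD : validB dC = true) (hvT : validB ((uP ++ rP).map Prod.fst) = true)
    (hvO : validB (oC.map Prod.fst) = true)
    (hpc : pcB (uP ++ rP) = true)
    (hcommT : commB ((uP ++ rP).map Prod.fst) dC = true)
    (hcommO : commB (oC.map Prod.fst) dC = true)
    (hodd : oddB oC = true)
    (hpr : ∀ p ∈ oC.map Prod.snd, p.Prime ∧ p ≠ 2) (hpnd : (oC.map Prod.snd).Nodup)
    (hB : B = 2 ^ (uP ++ rP).length * (oC.map Prod.snd).prod)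
    (hub : Nat.card (centralizer ((cl dC : Subgroup GG) : Set GG)) ≤ B)
    (hnormU : normB (uP.map Prod.fst) (rP.map Prod.fst) = true)
    (hnormO : normB (oC.map Prod.fst) (rP.map Prod.fst) = true)
    (hclD : closedB dC = true)
    (hnot : (rP.map Prod.fst).any (fun r => !(dbl dC).contains r) = true) :
    Refuted 2 (cl dC) := by
  classical
  set uC := uP.map Prod.fst with huC
  set rC := rP.map Prod.fst with hrC
  have hmapT : (uP ++ rP).map Prod.fst = uC ++ rC := List.map_append
  rw [hmapT] at hvT hcommT
  have hvR : validB rC = true := by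
    rw [validB, List.all_eq_true] at hvT ⊢
    intro c hc
    exact hvT c (List.mem_append_right _ hc)
  set gens : List ℕ := (uC ++ rC) ++ oC.map Prod.fst with hgens
  have hvG : validB gens = true := by
    rw [validB, List.all_eq_true] at hvT hvO ⊢
    intro c hc
    rcases List.mem_append.mp hc with hc | hc
    · exact hvT c hc
    · exact hvO c hc
  have hcommG : commB gens dC = true := by
    rw [commB, List.all_eq_true] at hcommT hcommO ⊢
    intro c hc
    rcases List.mem_append.mp hc with hc | hc
    · exact hcommT c hc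
    · exact hcommO c hc
  have hRT : cl rC ≤ cl (uC ++ rC) := cl_mono (fun c hc => List.mem_append_right _ hc)
  have hTH : cl (uC ++ rC) ≤ cl gens := cl_mono (fun c hc => List.mem_append_left _ hc)
  have hHC : cl gens ≤ centralizer ((cl dC : Subgroup GG) : Set GG) :=
    cl_le_centralizer_cl hvG hvD hcommG
  have hcardT : Nat.card (cl (uC ++ rC)) = 2 ^ (uP ++ rP).length := by
    have hspec := pc_spec (uP ++ rP) (by rw [hmapT]; exact hvT) hpc
    rw [hmapT] at hspec
    rw [card_cl' hvT hspec.1 hspec.2, ← hmapT, List.length_map]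
  have hT2 : IsPGroup 2 (cl (uC ++ rC)) := IsPGroup.of_card hcardT
  -- the order of `cl gens`
  have hdvd : B ∣ Nat.card (cl gens) := by
    rw [hB]
    apply Nat.Coprime.mul_dvd_of_dvd_of_dvd
    · apply Nat.Coprime.pow_left
      rw [Nat.coprime_list_prod_right_iff]
      intro p hp
      exact (Nat.coprime_primes Nat.prime_two (hpr p hp).1).mpr (hpr p hp).2.symm
    · rw [← hcardT]
      exact card_dvd_of_le hTH
    · have hpf := List.prod_toFinset (fun p : ℕ => p) hpnd
      rw [List.map_id'] at hpf
      rw [← hpf]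
      apply Finset.prod_primes_dvd
      · intro p hp
        exact (hpr p (List.mem_toFinset.mp hp)).1.prime
      · intro p hp
        obtain ⟨op, hop, rfl⟩ := List.mem_map.mp (List.mem_toFinset.mp hp)
        rw [← orderOf_of_oddB hvO hodd hop (hpr _ (List.mem_map_of_mem hop)).1]
        apply Subgroup.orderOf_dvd_natCard
        exact gOf_mem_cl (List.mem_append_right _ (List.mem_map_of_mem hop))
  have hHeq : cl gens = centralizer ((cl dC : Subgroup GG) : Set GG) :=
    eq_of_dvd_card hHC hdvd hub
  -- the generators outside `rC` conjugate the generators of `cl rC` into `cl rC`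
  have hnorm : ∀ {l : List ℕ}, validB l = true → normB l rC = true → ∀ s ∈ l, ∀ r ∈ rC,
      gOf s * gOf r * (gOf s)⁻¹ ∈ cl rC := by
    intro l hvl hn s hs r hr
    rw [normB, List.all_eq_true] at hn
    have h2 := hn s hs
    rw [List.all_eq_true] at h2
    have h3 := h2 r hr
    rw [List.any_eq_true] at h3
    obtain ⟨r', hr', h4⟩ := h3
    obtain ⟨g', hg', hcg'⟩ := mem_dbl hvR r' hr'
    have h5 : gOf s * gOf r = g' * gOf s :=
      eq_of_codes (isCode_of_validB hvl hs) (isCode_of_validB hvR hr) hcg'
        (isCode_of_validB hvl hs) (beq_iff_eq.mp h4)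
    have h6 : gOf s * gOf r * (gOf s)⁻¹ = g' := by rw [h5]; group
    rw [h6]
    exact hg'
  have hvU : validB uC = true := by
    rw [validB, List.all_eq_true] at hvT ⊢
    intro c hc
    exact hvT c (List.mem_append_left _ hc)
  refine ⟨cl rC, hT2.to_le hRT, hRT.trans (hTH.trans hHC), ?_, ?_⟩
  · rw [← hHeq]
    apply conj_mem_of_closure
    rintro _ ⟨s, hs, rfl⟩ _ ⟨r, hr, rfl⟩
    rcases List.mem_append.mp hs with hs | hs
    · rcases List.mem_append.mp hs with hs | hs
      · exact hnorm hvU hnormU s hs r hr
      · exact mul_mem (mul_mem (gOf_mem_cl hs) (gOf_mem_cl hr)) (inv_mem (gOf_mem_cl hs))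
    · exact hnorm hvO hnormO s hs r hr
  · intro hle
    rw [List.any_eq_true] at hnot
    obtain ⟨r, hr, h1⟩ := hnot
    have h2 := cd_mem_dbl hvD hclD _ (hle (gOf_mem_cl hr))
    rw [cd_eq (isCode_of_validB hvR hr)] at h2
    rw [List.contains_iff_mem.mpr h2] at h1
    simp at h1

/-! ### the orders of the centralizers -/

theorem card_centralizer_of_sig
    (h2A : (stepL c2A c2A spec2A chain spec2A [] []).length = 21504)
    (h2B : (stepL c2B c2B spec2B chain spec2B [] []).length = 7680)
    {c : ℕ} {x : GG} (hx : IsCode c x) (n : ℕ)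
    (h : ∀ i : Fin 26, sigTab i = sigC c → cent i = n) :
    Nat.card (centralizer ({x} : Set GG)) = n := by
  obtain ⟨i, hi⟩ := (class_eq_M24 h2A h2B).1 x
  have h1 : sigC c = sigTab i := by
    rw [← sigC_repC i]; exact sigC_eq_of_isConj hx (isCode_rep i) hi
  rw [← card_centralizer_eq_of_isConj hi, (class_eq_M24 h2A h2B).2 i]
  exact h i h1.symm

/-- the bound for the centralizer of `D` from an element `u ∈ D` with known centralizer and an
element of the centralizer of `u` outside the centralizer of `D` -/
theorem card_centralizer_cl_le {dC : List ℕ} (hvD : validB dC = true) {uc bc wc : ℕ}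
    (hu : uc ∈ dC) (hb : bc ∈ dC) (hw : validB [wc] = true)
    (hwu : pmu2 wc uc = pmu2 uc wc) (hwb : pmu2 wc bc ≠ pmu2 bc wc) {n : ℕ}
    (hn : Nat.card (centralizer ({gOf uc} : Set GG)) = n) :
    2 * Nat.card (centralizer ((cl dC : Subgroup GG) : Set GG)) ≤ n := by
  have hwc : IsCode wc (gOf wc) := isCode_of_validB hw List.mem_cons_self
  have huc : IsCode uc (gOf uc) := isCode_of_validB hvD hu
  have hbc : IsCode bc (gOf bc) := isCode_of_validB hvD hb
  rw [← hn]
  apply two_mul_card_le (c := gOf wc)
  · apply centralizer_le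
    intro x hx
    rw [Set.mem_singleton_iff] at hx
    rw [hx]
    exact gOf_mem_cl hu
  · rw [mem_centralizer_singleton_iff]
    exact eq_of_codes hwc huc huc hwc hwu
  · intro h
    rw [mem_centralizer_iff] at h
    have h1 := h (gOf bc) (gOf_mem_cl hb)
    apply hwb
    exact ((hwc.mul hbc).code_unique (h1 ▸ hbc.mul hwc))

theorem centralizer_cl_singleton (uc : ℕ) :
    centralizer ((cl [uc] : Subgroup GG) : Set GG) = centralizer ({gOf uc} : Set GG) := by
  apply le_antisymm
  · apply centralizer_le
    intro x hx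
    rw [Set.mem_singleton_iff] at hx
    rw [hx]
    exact gOf_mem_cl List.mem_cons_self
  · intro x hx
    apply mem_centralizer_closure
    rintro _ ⟨c, hc, rfl⟩
    rw [List.mem_singleton] at hc
    subst hc
    exact (mem_centralizer_singleton_iff.mp hx).symm

end Cfsg.Agent.Lib.Helper1.M24L
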