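import Cfsg.Agent.Lib.Helper1.M24L2

set_option autoImplicit false
set_option maxRecDepth 100000

/-! M24: the certificate for the class 3A (generated). -/

namespace Cfsg.Agent.Lib.Helper1.M24L

open Cfsg Cfsg.Agent.Lib.Helper1 Cfsg.Agent.Lib.Helper1.PermCode Cfsg.Agent.Lib.Helper4.M24B
  Cfsg.Agent.Lib.Helper1.M24CE Subgroup

def dC3A : List ℕ := [984070314313859978201607936991203360, 807897481508338437387758310765793576, 984555825605089698432431076887901216]

def uP3A : List (ℕ × ℕ) := [(801384290343021481960293961870576072, 801384290343021481960293961870576072)]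

def rP3A : List (ℕ × ℕ) := [(42396938569723501477040498938055414, 42396938569723501477040498938055414), (944315327282408179583874309787355137, 944315327282408179583874309787355137), (984188218311738396460148637629553696, 984188218311738396460148637629553696), (984363140085273155288445662158951456, 984363140085273155288445662158951456), (984112152782508392512400925293349920, 984112152782508392512400925293349920)]

def oC3A : List (ℕ × ℕ) := [(72248854849286795079029230845140672, 3)]

theorem hvD3A : validB dC3A = true := by decide +kernel

theorem hvT3A : validB ((uP3A ++ rP3A).map Prod.fst) = true := by decide +kernel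

theorem hvO3A : validB (oC3A.map Prod.fst) = true := by decide +kernel

theorem hpc3A : pcB (uP3A ++ rP3A) = true := by decide +kernel

theorem hcommT3A : commB ((uP3A ++ rP3A).map Prod.fst) dC3A = true := by decide +kernel

theorem hcommO3A : commB (oC3A.map Prod.fst) dC3A = true := by decide +kernel

theorem hodd3A : oddB oC3A = true := by decide +kernel

theorem hpr3A : ∀ p ∈ oC3A.map Prod.snd, p.Prime ∧ p ≠ 2 := by decide

theorem hpnd3A : (oC3A.map Prod.snd).Nodup := by decide

theorem hB3A : 192 = 2 ^ (uP3A ++ rP3A).length * (oC3A.map Prod.snd).prod := by decide +kernel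

theorem hnormU3A : normB (uP3A.map Prod.fst) (rP3A.map Prod.fst) = true := by decide +kernel

theorem hnormO3A : normB (oC3A.map Prod.fst) (rP3A.map Prod.fst) = true := by decide +kernel

theorem hclD3A : closedB dC3A = true := by decide +kernel

theorem hndD3A : (dbl dC3A).Nodup := by decide +kernel

theorem hnot3A : (rP3A.map Prod.fst).any (fun r => !(dbl dC3A).contains r) = true := by decide +kernel

theorem card_cent_u3A
    (h2A : (stepL c2A c2A spec2A chain spec2A [] []).length = 21504)
    (h2B : (stepL c2B c2B spec2B chain spec2B [] []).length = 7680) :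
    Nat.card (centralizer ({gOf 807897481508338437387758310765793576} : Set GG)) = 384 :=
  card_centralizer_of_sig h2A h2B (isCode_of_validB hvD3A (by decide)) 384 (by decide +kernel)

theorem hub3A
    (h2A : (stepL c2A c2A spec2A chain spec2A [] []).length = 21504)
    (h2B : (stepL c2B c2B spec2B chain spec2B [] []).length = 7680) :
    Nat.card (centralizer ((cl dC3A : Subgroup GG) : Set GG)) ≤ 192 := by
  have h := card_centralizer_cl_le hvD3A (uc := 807897481508338437387758310765793576) (bc := 984070314313859978201607936991203360) (wc := 944004761120404135557851061897477152)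
    (by decide) (by decide) (by decide +kernel) (by decide +kernel) (by decide +kernel)
    (card_cent_u3A h2A h2B)
  omega

/-- the refutation for the class 3A -/
theorem refuted3A
    (h2A : (stepL c2A c2A spec2A chain spec2A [] []).length = 21504)
    (h2B : (stepL c2B c2B spec2B chain spec2B [] []).length = 7680) : Refuted 2 (cl dC3A) :=
  refuted_of_cert dC3A uP3A rP3A oC3A 192 hvD3A hvT3A hvO3A hpc3A hcommT3A hcommO3A hodd3A
    hpr3A hpnd3A hB3A (hub3A h2A h2B) hnormU3A hnormO3A hclD3A hnot3A

theorem card_cl3A : Nat.card (cl dC3A) = 2 ^ 3 := card_cl hvD3A hclD3A hndD3A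

theorem le_cent3A : cl dC3A ≤ centralizer ({g3A} : Set GG) :=
  cl_le_centralizer_singleton hvD3A isCode_g3A (by decide +kernel)

end Cfsg.Agent.Lib.Helper1.M24L
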