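import Cfsg.Agent.Lib.Helper1.M24L2

set_option autoImplicit false
set_option maxRecDepth 100000

/-! M24: the certificate for the class 3B (generated). -/

namespace Cfsg.Agent.Lib.Helper1.M24L

open Cfsg Cfsg.Agent.Lib.Helper1 Cfsg.Agent.Lib.Helper1.PermCode Cfsg.Agent.Lib.Helper4.M24B
  Cfsg.Agent.Lib.Helper1.M24CE Subgroup

def dC3B : List ℕ := [178504956335840612665712690074779746, 525763394897596928548493329842064655, 209339363879830799102167152689715915]

def uP3B : List (ℕ × ℕ) := [(138311597467647912636310271647516800, 138311597467647912636310271647516800)]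

def rP3B : List (ℕ × ℕ) := [(212254885993700038947509271536545062, 212254885993700038947509271536545062), (195586430370107816537794898377670690, 195586430370107816537794898377670690), (178389638298034379479151749947754592, 178389638298034379479151749947754592)]

def oC3B : List (ℕ × ℕ) := [(6791464878426358018044804127133409, 3)]

theorem hvD3B : validB dC3B = true := by decide +kernel

theorem hvT3B : validB ((uP3B ++ rP3B).map Prod.fst) = true := by decide +kernel

theorem hvO3B : validB (oC3B.map Prod.fst) = true := by decide +kernel

theorem hpc3B : pcB (uP3B ++ rP3B) = true := by decide +kernel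

theorem hcommT3B : commB ((uP3B ++ rP3B).map Prod.fst) dC3B = true := by decide +kernel

theorem hcommO3B : commB (oC3B.map Prod.fst) dC3B = true := by decide +kernel

theorem hodd3B : oddB oC3B = true := by decide +kernel

theorem hpr3B : ∀ p ∈ oC3B.map Prod.snd, p.Prime ∧ p ≠ 2 := by decide

theorem hpnd3B : (oC3B.map Prod.snd).Nodup := by decide

theorem hB3B : 48 = 2 ^ (uP3B ++ rP3B).length * (oC3B.map Prod.snd).prod := by decide +kernel

theorem hnormU3B : normB (uP3B.map Prod.fst) (rP3B.map Prod.fst) = true := by decide +kernel

theorem hnormO3B : normB (oC3B.map Prod.fst) (rP3B.map Prod.fst) = true := by decide +kernel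

theorem hclD3B : closedB dC3B = true := by decide +kernel

theorem hndD3B : (dbl dC3B).Nodup := by decide +kernel

theorem hnot3B : (rP3B.map Prod.fst).any (fun r => !(dbl dC3B).contains r) = true := by decide +kernel

theorem card_cent_u3B
    (h2A : (stepL c2A c2A spec2A chain spec2A [] []).length = 21504)
    (h2B : (stepL c2B c2B spec2B chain spec2B [] []).length = 7680) :
    Nat.card (centralizer ({gOf 525763394897596928548493329842064655} : Set GG)) = 96 :=
  card_centralizer_of_sig h2A h2B (isCode_of_validB hvD3B (by decide)) 96 (by decide +kernel)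

theorem hub3B
    (h2A : (stepL c2A c2A spec2A chain spec2A [] []).length = 21504)
    (h2B : (stepL c2B c2B spec2B chain spec2B [] []).length = 7680) :
    Nat.card (centralizer ((cl dC3B : Subgroup GG) : Set GG)) ≤ 48 := by
  have h := card_centralizer_cl_le hvD3B (uc := 525763394897596928548493329842064655) (bc := 178504956335840612665712690074779746) (wc := 564918514284888114659555230904567431)
    (by decide) (by decide) (by decide +kernel) (by decide +kernel) (by decide +kernel)
    (card_cent_u3B h2A h2B)
  omega

/-- the refutation for the class 3B -/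
theorem refuted3B
    (h2A : (stepL c2A c2A spec2A chain spec2A [] []).length = 21504)
    (h2B : (stepL c2B c2B spec2B chain spec2B [] []).length = 7680) : Refuted 2 (cl dC3B) :=
  refuted_of_cert dC3B uP3B rP3B oC3B 48 hvD3B hvT3B hvO3B hpc3B hcommT3B hcommO3B hodd3B
    hpr3B hpnd3B hB3B (hub3B h2A h2B) hnormU3B hnormO3B hclD3B hnot3B

theorem card_cl3B : Nat.card (cl dC3B) = 2 ^ 3 := card_cl hvD3B hclD3B hndD3B

theorem le_cent3B : cl dC3B ≤ centralizer ({g3B} : Set GG) :=
  cl_le_centralizer_singleton hvD3B isCode_g3B (by decide +kernel)

end Cfsg.Agent.Lib.Helper1.M24L
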