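import Cfsg.Agent.Lib.Helper1.M24L2

set_option autoImplicit false
set_option maxRecDepth 100000

/-! M24: the certificate for the class 5A (generated). -/

namespace Cfsg.Agent.Lib.Helper1.M24L

open Cfsg Cfsg.Agent.Lib.Helper1 Cfsg.Agent.Lib.Helper1.PermCode Cfsg.Agent.Lib.Helper4.M24B
  Cfsg.Agent.Lib.Helper1.M24CE Subgroup

def dC5A : List ℕ := [888817239781968742338100928961522311, 391296258305705457700510190253675631]

def uP5A : List (ℕ × ℕ) := [(980924136982913578418390978617511976, 980924136982913578418390978617511976), (44964458786913856795617017481367840, 149548723204097545712588161806555872)]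

def rP5A : List (ℕ × ℕ) := [(379631697719329586838087983681341487, 379631697719329586838087983681341487), (890139944043162234061325387155212327, 890139944043162234061325387155212327), (878435736040533122762435512431675584, 878435736040533122762435512431675584), (598785669175412008224025390797064288, 598785669175412008224025390797064288), (391313817643108108218878727777527840, 391313817643108108218878727777527840), (587120388115186828064126376075170848, 587120388115186828064126376075170848)]

def oC5A : List (ℕ × ℕ) := [(520146503266267787368485353716530337, 3), (169297528646457417905796077187237440, 5)]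

theorem hvD5A : validB dC5A = true := by decide +kernel

theorem hvT5A : validB ((uP5A ++ rP5A).map Prod.fst) = true := by decide +kernel

theorem hvO5A : validB (oC5A.map Prod.fst) = true := by decide +kernel

theorem hpc5A : pcB (uP5A ++ rP5A) = true := by decide +kernel

theorem hcommT5A : commB ((uP5A ++ rP5A).map Prod.fst) dC5A = true := by decide +kernel

theorem hcommO5A : commB (oC5A.map Prod.fst) dC5A = true := by decide +kernel

theorem hodd5A : oddB oC5A = true := by decide +kernel

theorem hpr5A : ∀ p ∈ oC5A.map Prod.snd, p.Prime ∧ p ≠ 2 := by decide

theorem hpnd5A : (oC5A.map Prod.snd).Nodup := by decide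

theorem hB5A : 3840 = 2 ^ (uP5A ++ rP5A).length * (oC5A.map Prod.snd).prod := by decide +kernel

theorem hnormU5A : normB (uP5A.map Prod.fst) (rP5A.map Prod.fst) = true := by decide +kernel

theorem hnormO5A : normB (oC5A.map Prod.fst) (rP5A.map Prod.fst) = true := by decide +kernel

theorem hclD5A : closedB dC5A = true := by decide +kernel

theorem hndD5A : (dbl dC5A).Nodup := by decide +kernel

theorem hnot5A : (rP5A.map Prod.fst).any (fun r => !(dbl dC5A).contains r) = true := by decide +kernel

theorem card_cent_u5A
    (h2A : (stepL c2A c2A spec2A chain spec2A [] []).length = 21504)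
    (h2B : (stepL c2B c2B spec2B chain spec2B [] []).length = 7680) :
    Nat.card (centralizer ({gOf 888817239781968742338100928961522311} : Set GG)) = 7680 :=
  card_centralizer_of_sig h2A h2B (isCode_of_validB hvD5A (by decide)) 7680 (by decide +kernel)

theorem hub5A
    (h2A : (stepL c2A c2A spec2A chain spec2A [] []).length = 21504)
    (h2B : (stepL c2B c2B spec2B chain spec2B [] []).length = 7680) :
    Nat.card (centralizer ((cl dC5A : Subgroup GG) : Set GG)) ≤ 3840 := by
  have h := card_centralizer_cl_le hvD5A (uc := 888817239781968742338100928961522311) (bc := 391296258305705457700510190253675631) (wc := 436259912059310043193589547150807072)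
    (by decide) (by decide) (by decide +kernel) (by decide +kernel) (by decide +kernel)
    (card_cent_u5A h2A h2B)
  omega

/-- the refutation for the class 5A -/
theorem refuted5A
    (h2A : (stepL c2A c2A spec2A chain spec2A [] []).length = 21504)
    (h2B : (stepL c2B c2B spec2B chain spec2B [] []).length = 7680) : Refuted 2 (cl dC5A) :=
  refuted_of_cert dC5A uP5A rP5A oC5A 3840 hvD5A hvT5A hvO5A hpc5A hcommT5A hcommO5A hodd5A
    hpr5A hpnd5A hB5A (hub5A h2A h2B) hnormU5A hnormO5A hclD5A hnot5A

theorem card_cl5A : Nat.card (cl dC5A) = 2 ^ 2 := card_cl hvD5A hclD5A hndD5A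

theorem le_cent5A : cl dC5A ≤ centralizer ({g5A} : Set GG) :=
  cl_le_centralizer_singleton hvD5A isCode_g5A (by decide +kernel)

end Cfsg.Agent.Lib.Helper1.M24L
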