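import Cfsg.Agent.Lib.Helper1.M24L2

set_option autoImplicit false
set_option maxRecDepth 100000

/-! M24: the certificate for the class 7A (generated). -/

namespace Cfsg.Agent.Lib.Helper1.M24L

open Cfsg Cfsg.Agent.Lib.Helper1 Cfsg.Agent.Lib.Helper1.PermCode Cfsg.Agent.Lib.Helper4.M24B
  Cfsg.Agent.Lib.Helper1.M24CE Subgroup

def dC7A : List ℕ := [971592882964418941354553515258775584]

def uP7A : List (ℕ × ℕ) := [(99001635841843281939278638948146624, 99001635841843281939278638948146624), (589955185398394492948945727349949504, 589955185398394492948945727349949504), (608378970379012058026059639965255712, 608378970379012058026059639965255712)]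

def rP7A : List (ℕ × ℕ) := [(57749865908028795182755820225968867, 57749865908028795182755820225968867), (224145526104900130337790105433342498, 224145526104900130337790105433342498), (154050744116424677395520740181918721, 154050744116424677395520740181918721), (968708902336673183175954409307867168, 968708902336673183175954409307867168), (979121071158219704299181131031480352, 979121071158219704299181131031480352), (963721886883755259286232606933354528, 963721886883755259286232606933354528), (965128854020860192151391391390468128, 965128854020860192151391391390468128)]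

def oC7A : List (ℕ × ℕ) := [(712212625483536945833970895932176416, 3), (133260954446515671512984160301421632, 7)]

theorem hvD7A : validB dC7A = true := by decide +kernel

theorem hvT7A : validB ((uP7A ++ rP7A).map Prod.fst) = true := by decide +kernel

theorem hvO7A : validB (oC7A.map Prod.fst) = true := by decide +kernel

theorem hpc7A : pcB (uP7A ++ rP7A) = true := by decide +kernel

theorem hcommT7A : commB ((uP7A ++ rP7A).map Prod.fst) dC7A = true := by decide +kernel

theorem hcommO7A : commB (oC7A.map Prod.fst) dC7A = true := by decide +kernel

theorem hodd7A : oddB oC7A = true := by decide +kernel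

theorem hpr7A : ∀ p ∈ oC7A.map Prod.snd, p.Prime ∧ p ≠ 2 := by decide

theorem hpnd7A : (oC7A.map Prod.snd).Nodup := by decide

theorem hB7A : 21504 = 2 ^ (uP7A ++ rP7A).length * (oC7A.map Prod.snd).prod := by decide +kernel

theorem hnormU7A : normB (uP7A.map Prod.fst) (rP7A.map Prod.fst) = true := by decide +kernel

theorem hnormO7A : normB (oC7A.map Prod.fst) (rP7A.map Prod.fst) = true := by decide +kernel

theorem hclD7A : closedB dC7A = true := by decide +kernel

theorem hndD7A : (dbl dC7A).Nodup := by decide +kernel

theorem hnot7A : (rP7A.map Prod.fst).any (fun r => !(dbl dC7A).contains r) = true := by decide +kernel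

theorem card_cent_u7A
    (h2A : (stepL c2A c2A spec2A chain spec2A [] []).length = 21504)
    (h2B : (stepL c2B c2B spec2B chain spec2B [] []).length = 7680) :
    Nat.card (centralizer ({gOf 971592882964418941354553515258775584} : Set GG)) = 21504 :=
  card_centralizer_of_sig h2A h2B (isCode_of_validB hvD7A (by decide)) 21504 (by decide +kernel)

theorem hub7A
    (h2A : (stepL c2A c2A spec2A chain spec2A [] []).length = 21504)
    (h2B : (stepL c2B c2B spec2B chain spec2B [] []).length = 7680) :
    Nat.card (centralizer ((cl dC7A : Subgroup GG) : Set GG)) ≤ 21504 := by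
  have h : dC7A = [971592882964418941354553515258775584] := rfl
  rw [h, centralizer_cl_singleton, card_cent_u7A h2A h2B]

/-- the refutation for the class 7A -/
theorem refuted7A
    (h2A : (stepL c2A c2A spec2A chain spec2A [] []).length = 21504)
    (h2B : (stepL c2B c2B spec2B chain spec2B [] []).length = 7680) : Refuted 2 (cl dC7A) :=
  refuted_of_cert dC7A uP7A rP7A oC7A 21504 hvD7A hvT7A hvO7A hpc7A hcommT7A hcommO7A hodd7A
    hpr7A hpnd7A hB7A (hub7A h2A h2B) hnormU7A hnormO7A hclD7A hnot7A

theorem card_cl7A : Nat.card (cl dC7A) = 2 ^ 1 := card_cl hvD7A hclD7A hndD7A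

theorem le_cent7A : cl dC7A ≤ centralizer ({g7A} : Set GG) :=
  cl_le_centralizer_singleton hvD7A isCode_g7A (by decide +kernel)

theorem le_cent7AB : cl dC7A ≤ centralizer ({g7B} : Set GG) :=
  cl_le_centralizer_singleton hvD7A isCode_g7B (by decide +kernel)

end Cfsg.Agent.Lib.Helper1.M24L
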