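import Cfsg.Agent.Lib.Helper1.M24L3a
import Cfsg.Agent.Lib.Helper1.M24L3b
import Cfsg.Agent.Lib.Helper1.M24L3c
import Cfsg.Agent.Lib.Helper1.M24L3d

set_option autoImplicit false
set_option maxRecDepth 100000

/-! M24: the local refutations: the Sylow `2`-subgroups of the centralizers of the elements of odd
order are not defect groups, except the trivial one and the Sylow `2`-subgroups of `M24`. -/

namespace Cfsg.Agent.Lib.Helper1.M24L

open Cfsg Cfsg.Agent.Lib.Helper1 Cfsg.Agent.Lib.Helper1.PermCode Cfsg.Agent.Lib.Helper4.M24B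
  Cfsg.Agent.Lib.Helper1.M24CE Subgroup

/-- half the orders of the representatives of even order -/
def halfOrd : Fin 26 → ℕ := ![0, 1, 1, 0, 0, 2, 2, 2, 0, 3, 3, 0, 0, 4, 5, 0, 6, 6, 7, 7, 0, 0, 0, 0,
  0, 0]

theorem halfOrd_chk : ∀ i : Fin 26, halfOrd i ≠ 0 →
    ppow (repC i) (2 * halfOrd i) = pc1 ∧ ppow (repC i) (halfOrd i) ≠ pc1 := by decide +kernel

theorem two_dvd_orderOf_rep (i : Fin 26) (h : halfOrd i ≠ 0) : 2 ∣ orderOf (rep i) := by
  obtain ⟨h1, h2⟩ := halfOrd_chk i h
  apply two_dvd_orderOf (k := halfOrd i)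
  · exact (isCode_ppow (isCode_rep i) _).elt_unique (h1 ▸ isCode_one)
  · intro h3
    apply h2
    exact (isCode_ppow (isCode_rep i) _).code_unique (h3 ▸ isCode_one)

theorem cases_chk : ∀ i : Fin 26, i = 0 ∨ cent i % 2 = 1 ∨ halfOrd i ≠ 0 ∨
    i = 3 ∨ i = 4 ∨ i = 8 ∨ i = 11 ∨ i = 12 := by decide

instance : Fact (Nat.Prime 2) := ⟨Nat.prime_two⟩

theorem fact_3A : (1080 : ℕ).factorization 2 = 3 :=
  factorization_eq_of_dvd Nat.prime_two (by norm_num) (by norm_num) (by norm_num)

theorem fact_3B : (504 : ℕ).factorization 2 = 3 :=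
  factorization_eq_of_dvd Nat.prime_two (by norm_num) (by norm_num) (by norm_num)

theorem fact_5A : (60 : ℕ).factorization 2 = 2 :=
  factorization_eq_of_dvd Nat.prime_two (by norm_num) (by norm_num) (by norm_num)

theorem fact_7A : (42 : ℕ).factorization 2 = 1 :=
  factorization_eq_of_dvd Nat.prime_two (by norm_num) (by norm_num) (by norm_num)

/-- **the local refutations** for `M24`, in the form needed for the one-block criterion -/
theorem local_refutation
    (h2A : (stepL c2A c2A spec2A chain spec2A [] []).length = 21504)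
    (h2B : (stepL c2B c2B spec2B chain spec2B [] []).length = 7680)
    (y : GG) (hy : ¬ 2 ∣ orderOf y) (P : Sylow 2 (centralizer ({y} : Set GG))) (D : Subgroup GG)
    (hD : D = (P : Subgroup (centralizer ({y} : Set GG))).map (centralizer ({y} : Set GG)).subtype)
    (hne : D ≠ ⊥) (hcard : Nat.card D ≠ 2 ^ (Nat.card GG).factorization 2) :
    ∃ R : Subgroup GG, IsPGroup 2 R ∧ R ≤ centralizer (D : Set GG) ∧
      (∀ c ∈ centralizer (D : Set GG), ∀ r ∈ R, c * r * c⁻¹ ∈ R) ∧ ¬ R ≤ D := by
  obtain ⟨hconj, hcent⟩ := class_eq_M24 h2A h2B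
  obtain ⟨i, hi⟩ := hconj y
  have hcy : Nat.card (centralizer ({y} : Set GG)) = cent i := by
    rw [← card_centralizer_eq_of_isConj hi, hcent i]
  have hDle : D ≤ centralizer ({y} : Set GG) := by
    rw [hD]; exact map_subtype_le _
  have hDcard : Nat.card D = 2 ^ (Nat.card (centralizer ({y} : Set GG))).factorization 2 := by
    rw [hD, card_map_of_injective (subtype_injective _), P.card_eq_multiplicity]
  have key : ∀ (j : Fin 26) (D0 : Subgroup GG), i = j → D0 ≤ centralizer ({rep j} : Set GG) →
      Nat.card D0 = 2 ^ (cent j).factorization 2 → Refuted 2 D0 → Refuted 2 D := by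
    intro j D0 hij h0 hc0 hR
    subst hij
    exact Refuted.of_isConj hi.symm h0 (by rw [hcent i]; exact hc0) hR hDle hDcard
  rcases cases_chk i with h | h | h | h | h | h | h | h
  · -- the identity
    exfalso
    apply hcard
    rw [h] at hi
    have hy1 : y = 1 := by
      have h1 : rep 0 = 1 := rfl
      rw [h1] at hi
      exact isConj_one_left.mp hi
    rw [hDcard]
    congr 2
    rw [hy1]
    have : centralizer ({1} : Set GG) = ⊤ := by
      rw [eq_top_iff]
      intro x _
      rw [mem_centralizer_singleton_iff]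
      simp
    rw [this, card_top]
  · -- odd centralizer
    exfalso
    apply hne
    have h1 : (cent i).factorization 2 = 0 :=
      Nat.factorization_eq_zero_of_not_dvd (by omega)
    rw [hcy, h1, pow_zero] at hDcard
    exact (card_eq_one).mp hDcard
  · -- even order
    exfalso
    apply hy
    obtain ⟨c, hc⟩ := isConj_iff.mp hi
    have h1 : orderOf (rep i) = orderOf y := by
      rw [← hc]
      exact (MulAut.conj c).orderOf_eq y
    rw [← h1]
    exact two_dvd_orderOf_rep i h
  · exact key 3 (cl dC3A) h le_cent3A (by rw [card_cl3A]; exact congrArg _ fact_3A.symm)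
      (refuted3A h2A h2B)
  · exact key 4 (cl dC3B) h le_cent3B (by rw [card_cl3B]; exact congrArg _ fact_3B.symm)
      (refuted3B h2A h2B)
  · exact key 8 (cl dC5A) h le_cent5A (by rw [card_cl5A]; exact congrArg _ fact_5A.symm)
      (refuted5A h2A h2B)
  · exact key 11 (cl dC7A) h le_cent7A (by rw [card_cl7A]; exact congrArg _ fact_7A.symm)
      (refuted7A h2A h2B)
  · exact key 12 (cl dC7A) h le_cent7AB (by rw [card_cl7A]; exact congrArg _ fact_7A.symm)
      (refuted7A h2A h2B)

end Cfsg.Agent.Lib.Helper1.M24L
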