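import Mathlib
import Cfsg.Agent.Lib.Helper1.StemSA1

set_option autoImplicit false
set_option maxRecDepth 100000

namespace Cfsg.Agent.Lib.Helper1.M24M

open Cfsg.Agent.Lib.Helper1

def tY : List ℕ := [3, 7, 2, 17, 1, 16, 8, 18, 23, 14, 19, 15, 11, 12, 22, 9, 10, 21, 13, 6, 20, 5, 4, 0]
def cY : ℕ := 5420728569137810769692622679738595
def ordL : List ℕ := [23, 0, 1, 3, 2, 7, 4, 6, 17, 8, 14, 18, 5, 12, 11, 21, 9, 16, 15, 22, 19, 13, 10, 20]

def piN : List ℕ := [0x7b9570c5169b6a7a4a0b2b12331040, 0x45c727960ba4c56ab22e6a54639020, 0xbd1a7342ca649d1acc0f4896441461]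

def parN : ℕ := 0x28b158b942948990a13868a942c3460e1028206000

def BmL : List (List ℕ) := [[0x800000, 0x2, 0x8, 0x20, 0x5006decaee9280000e, 0x100, 0x800, 0x7a18896022c9800056, 0x2aa309e727f55800496, 0x8000, 0x20000, 0x80000, 0x2e04800860, 0x2a18b56fac50101456, 0x280282b1fd1050030c0, 0x37a1880bab1dc044296, 0x7a188960b2c9a08936, 0x2fa309357b3dc810196, 0x4200830300, 0x22a1e27995d5c040212, 0x400000, 0x50003c0e8c99100600, 0x280282b3ffd012028a0, 0x12a18fd8d3e53c84496, 0x2000000, 0x4000000, 0x604800008, 0x40, 0x5006decae29680002e, 0x200, 0x7a18896030c9000136, 0x1000, 0x2000, 0x10000, 0x7a18bc0614d5000a36, 0x100000, 0x200000, 0x5006fc4f8097001046, 0xfa30f0490ece842296, 0x12a18f48d3e57884496, 0x50000d21ce89808500, 0x316e5a18818000, 0x356e1a18820200, 0x37a1888bab3d8844296, 0x50003c1e8e998a0600, 0x2a1897aac055100416, 0x2a1886417e40e80c36, 0x2aa30bf497d45480496, 0x1, 0x4, 0x10, 0x80, 0x80000000, 0x400, 0xe2856e07800026,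 0x2a1af52f985a000156, 0x4000, 0x33a63e7797b6b800113, 0x40000, 0x81040c3484100000, 0x7a19c9603a4f810936, 0x2ae7679606b438030c0, 0xfa38a2764cd8022296, 0x3002808e103158048a0],
  [0x2c4e750ee04e008300, 0x54068928f68da10936, 0x29815723769a828300, 0x25b99fd1ae34f840236, 0x3a18efe154c2080456, 0xa99e2a808c3101456, 0x456b51e7804280c36, 0x100000000, 0x200800000, 0x40000006000000]]

def relsL : List (List ℕ × List ℕ) := [([0, 0, 1], [1, 0]), ([1, 1, 1, 2, 1], [2, 0, 0, 0, 0])]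

def specsL : List (ℕ × ℕ) := [(0, 1), (0, 2), (0, 3), (0, 4), (0, 5), (0, 6), (0, 7), (0, 8), (0, 9), (0, 10), (0, 11), (0, 12), (0, 13), (0, 14), (0, 15), (0, 16), (0, 17), (0, 18), (0, 19), (0, 20), (0, 21), (0, 22), (0, 23), (1, 0), (1, 1), (2, 0), (2, 1), (2, 2), (2, 5), (3, 0), (3, 2), (3, 4), (3, 23), (4, 0), (4, 1), (4, 2), (4, 3), (4, 4), (4, 5), (4, 6), (4, 7), (4, 8), (4, 9), (4, 10), (4, 11), (4, 12), (4, 13), (4, 14), (4, 15), (4, 16), (4, 18), (4, 19), (4, 20), (4, 22), (5, 0), (5, 1), (5, 2), (5, 3), (5, 4), (5, 5), (5, 7), (5, 8), (5, 9), (5, 10), (5, 11), (5, 12), (5, 13), (5, 14), (5, 15), (5, 16), (5, 18), (5, 19), (5, 21), (5, 22)]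

/-- the data of the signed action -/
def D : StemSA.SAData where
  k := 3
  m := 24
  pi := fun i j => (piN.getD i 0 >>> (5 * j)) % 2 ^ 5
  par := fun j => (((parN >>> (7 * j)) % 2 ^ 7) / 2 ^ 5, ((parN >>> (7 * j)) % 2 ^ 7) % 2 ^ 5)
  ords := [23, 11, 11]
  rels := relsL
  specs := specsL
  Bm := fun b => (BmL.getD (b / 64) []).getD (b % 64) 0

end Cfsg.Agent.Lib.Helper1.M24M
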