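import Cfsg.Agent.Lib.Helper1.M24OutG
import Cfsg.Agent.Lib.Helper1.M24MultD
import Cfsg.Agent.Lib.Helper1.StemSA7
import Cfsg.Agent.Lib.Helper1.M24T

/-!
# Stem extensions of the group of the code with kernel of order two
-/

set_option autoImplicit false
set_option maxRecDepth 100000

namespace Cfsg.Agent.Lib.Helper1.M24M

open Cfsg Cfsg.Agent.Lib.Helper1 Cfsg.Agent.Lib.Helper1.PermCode Cfsg.Agent.Lib.Helper1.MatCode MulAction
open Cfsg.Agent.Lib.Helper9.M24 (tperm tabOK tabM24 tget pmaskF tperm_ptOfNat ptOfNat natOfPt_ptOfNat)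
open Cfsg.Agent.Lib.Helper1.M23O (tP tH cP cH)
open Cfsg.Agent.Lib.Helper1.M24O (gp gh gv phi_p phi_h phi_v can_p can_h can_v cV chk_P chk_H)
open Cfsg.Agent.Lib.Helper1.Stem Cfsg.Agent.Lib.Helper1.StemSA

universe u

open scoped commutatorElement

theorem chk_struct : D.chkStruct = true := by decide +kernel

theorem chk_specs : D.chkSpecs = true := by decide +kernel

theorem chk_Y : chkM24 tY cY = true := by decide +kernel

/-- the third generator, of odd order -/
def gy : ↥M24 := ⟨tperm tY, chkM24_mem chk_Y⟩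

theorem phi_y : phiP M24 gy = permSysF.D cY := phiP_of_chkTab chk_Y _ _

theorem can_y : permSysF.C cY := canon_of_chkTab chk_Y

/-- the codes of the generators -/
abbrev gens : List ℕ := [cP, cH, cY]

/-- the generators -/
abbrev GG : List ↥M24 := [gp, gh, gy]

theorem ev_v : permSysF.ev gens ([2] ++ List.replicate 8 0) = cV := by decide +kernel

theorem pow_ok : (List.range 3).all (fun i =>
    permSysF.ev gens (List.replicate (D.ords.getD i 0) i) == permSysF.c1) = true := by decide +kernel

theorem rel_chk : relsL.all (fun w => permSysF.ev gens w.1 == permSysF.ev gens w.2) = true := by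
  decide +kernel

theorem pi_ok : (List.range 3).all (fun i => (List.range 24).all (fun j =>
    tget ([tP, tH, tY].getD i []) (ordL.getD j 0) == ordL.getD (D.pi i j) 0)) = true := by
  decide +kernel

theorem ord_ok : (List.range 24).all (fun j => decide (ordL.getD j 0 < 24) &&
    (j == 0 || ordL.getD j 0 != 23)) = true := by decide +kernel

theorem hGG : ∀ i, ∀ (h1 : i < GG.length) (h2 : i < gens.length),
    phiP M24 GG[i] = permSysF.D gens[i] :=
  hG3_of permSysF (phiP M24) phi_p phi_h phi_y

theorem hCC : ∀ c ∈ gens, permSysF.C c := hcan3_of permSysF can_p can_h can_y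

theorem wv_eq (w w' : List ℕ) (h : permSysF.ev gens w = permSysF.ev gens w') :
    wordProd GG w = wordProd GG w' :=
  permSysF.eq_of_ev (phiP M24) GG gens rfl hGG hCC (phiP_injective _) w w' h

theorem wv_one (w : List ℕ) (h : permSysF.ev gens w = permSysF.c1) : wordProd GG w = 1 :=
  permSysF.eq_one_of_ev (phiP M24) GG gens rfl hGG hCC (phiP_injective _) w h

/-- the points in the order of the tree -/
def pt (j : ℕ) : GolayPt := ptOfNat (ordL.getD j 0)

theorem pt_zero_eq : pt 0 = none := rfl

theorem ordL_lt (j : ℕ) (hj : j < 24) : ordL.getD j 0 < 24 := by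
  have h := ord_ok
  rw [List.all_eq_true] at h
  have := h j (List.mem_range.mpr hj)
  rw [Bool.and_eq_true, decide_eq_true_eq] at this
  exact this.1

theorem pt_zero (j : ℕ) (hj : j < D.m) (h : pt j = pt 0) : j = 0 := by
  have hj' : j < 24 := hj
  have h1 := ord_ok
  rw [List.all_eq_true] at h1
  have h2 := h1 j (List.mem_range.mpr hj')
  rw [Bool.and_eq_true, decide_eq_true_eq, Bool.or_eq_true, beq_iff_eq, bne_iff_ne] at h2
  rcases h2.2 with h3 | h3
  · exact h3
  · exfalso
    apply h3
    have := congrArg Cfsg.Agent.Lib.Helper9.M24.natOfPt h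
    unfold pt at this
    rw [natOfPt_ptOfNat _ h2.1, natOfPt_ptOfNat _ (ordL_lt 0 (by norm_num))] at this
    exact this

theorem smul_tperm {t : List ℕ} {c : ℕ} (h : chkM24 t c = true) (j : ℕ) (hj : j < 24) :
    (⟨tperm t, chkM24_mem h⟩ : ↥M24) • pt j = ptOfNat (tget t (ordL.getD j 0)) := by
  show tperm t (pt j) = _
  unfold pt
  exact tperm_ptOfNat (chkTab_sound h).1 (ordL_lt j hj)

theorem pi_act (i : ℕ) (hi : i < D.k) (j : ℕ) (hj : j < D.m) :
    GG.getD i 1 • pt j = pt (D.pi i j) := by
  have hi' : i < 3 := hi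
  have hj' : j < 24 := hj
  have h := pi_ok
  rw [List.all_eq_true] at h
  have h1 := h i (List.mem_range.mpr hi')
  rw [List.all_eq_true] at h1
  have h2 := h1 j (List.mem_range.mpr hj')
  rw [beq_iff_eq] at h2
  interval_cases i
  · show gp • pt j = _
    rw [show gp = (⟨tperm tP, chkM24_mem chk_P⟩ : ↥M24) from rfl, smul_tperm chk_P j hj']
    unfold pt
    rw [← h2]; rfl
  · show gh • pt j = _
    rw [show gh = (⟨tperm tH, chkM24_mem chk_H⟩ : ↥M24) from rfl, smul_tperm chk_H j hj']
    unfold pt
    rw [← h2]; rfl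
  · show gy • pt j = _
    rw [show gy = (⟨tperm tY, chkM24_mem chk_Y⟩ : ↥M24) from rfl, smul_tperm chk_Y j hj']
    unfold pt
    rw [← h2]; rfl

theorem hodd (i : ℕ) (hi : i < D.k) :
    Odd (D.ords.getD i 0) ∧ (GG.getD i 1) ^ (D.ords.getD i 0) = 1 := by
  have hi' : i < 3 := hi
  have h := pow_ok
  rw [List.all_eq_true] at h
  have h1 := h i (List.mem_range.mpr hi')
  rw [beq_iff_eq] at h1
  have h2 := wv_one _ h1
  rw [wordProd_replicate] at h2
  refine ⟨?_, h2⟩
  interval_cases i <;> decide

theorem hrel (w : List ℕ × List ℕ) (hw : w ∈ D.rels) : wordProd GG w.1 = wordProd GG w.2 := by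
  have h := rel_chk
  rw [List.all_eq_true] at h
  have h1 := h w hw
  rw [beq_iff_eq] at h1
  exact wv_eq _ _ h1

theorem hgen : Subgroup.closure {g | ∃ i < D.k, g = GG.getD i 1} = ⊤ := by
  rw [eq_top_iff, ← M24O.gen, Subgroup.closure_le]
  have hp : gp ∈ Subgroup.closure {g | ∃ i < D.k, g = GG.getD i 1} :=
    Subgroup.subset_closure ⟨0, by decide, rfl⟩
  have hh : gh ∈ Subgroup.closure {g | ∃ i < D.k, g = GG.getD i 1} :=
    Subgroup.subset_closure ⟨1, by decide, rfl⟩
  have hy : gy ∈ Subgroup.closure {g | ∃ i < D.k, g = GG.getD i 1} :=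
    Subgroup.subset_closure ⟨2, by decide, rfl⟩
  intro g hg
  simp only [Set.mem_insert_iff, Set.mem_singleton_iff] at hg
  rcases hg with rfl | rfl | rfl
  · exact hp
  · exact hh
  · have e : gv = wordProd GG ([2] ++ List.replicate 8 0) := by
      apply phiP_injective
      rw [phi_v, permSysF.phi_wordProd (phiP M24) GG gens rfl hGG hCC, ev_v]
    rw [SetLike.mem_coe, e, wordProd_append, wordProd_replicate]
    exact Subgroup.mul_mem _ (by
      rw [wordProd_cons, wordProd_nil, mul_one]; exact hy) (Subgroup.pow_mem _ hp 8)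

/-- the stabilizer of the extra point in the group of the code, as a group, is the Mathieu group
of degree 23 -/
def stabEquiv : ↥(MulAction.stabilizer ↥M24 (none : GolayPt)) ≃* ↥Cfsg.Spor.M23 where
  toFun g := ⟨g.1.1, ⟨g.1.2, mem_stabilizer_iff.mpr (mem_stabilizer_iff.mp g.2)⟩⟩
  invFun g := ⟨⟨g.1, g.2.1⟩, mem_stabilizer_iff.mpr (mem_stabilizer_iff.mp g.2.2)⟩
  left_inv _ := rfl
  right_inv _ := rfl
  map_mul' _ _ := rfl

theorem commutator_eq_top_of_simple {K : Type*} [Group K] (hs : IsSimpleGroup K) (a b : K)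
    (hab : a * b ≠ b * a) : commutator K = ⊤ := by
  rcases hs.eq_bot_or_eq_top_of_normal (commutator K) inferInstance with h | h
  · exfalso
    apply hab
    have h1 : ⁅a, b⁆ ∈ commutator K := Subgroup.commutator_mem_commutator (Subgroup.mem_top a)
      (Subgroup.mem_top b)
    rw [h, Subgroup.mem_bot, commutatorElement_eq_one_iff_mul_comm] at h1
    exact h1
  · exact h

theorem gp_gh_ne : (⟨gp, mem_stabilizer_iff.mpr (by
      show tperm tP none = none
      exact tperm_none (chkTab_sound chk_P).1 (by decide))⟩ : ↥(MulAction.stabilizer ↥M24 (none : GolayPt))) *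
    ⟨gh, mem_stabilizer_iff.mpr (by
      show tperm tH none = none
      exact tperm_none (chkTab_sound chk_H).1 (by decide))⟩ ≠
    ⟨gh, mem_stabilizer_iff.mpr (by
      show tperm tH none = none
      exact tperm_none (chkTab_sound chk_H).1 (by decide))⟩ *
    ⟨gp, mem_stabilizer_iff.mpr (by
      show tperm tP none = none
      exact tperm_none (chkTab_sound chk_P).1 (by decide))⟩ := by
  intro h
  have h1 : gp * gh = gh * gp := congrArg (fun g : ↥(MulAction.stabilizer ↥M24 (none : GolayPt)) => g.1) h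
  have h2 : wordProd GG [0, 1] = wordProd GG [1, 0] := by
    simpa [wordProd_cons, wordProd_nil] using h1
  have h3 := congrArg (phiP M24) h2
  rw [permSysF.phi_wordProd (phiP M24) GG gens rfl hGG hCC,
    permSysF.phi_wordProd (phiP M24) GG gens rfl hGG hCC] at h3
  exact permSysF.ne_of_code_ne (permSysF.C_ev gens _) (permSysF.C_ev gens _) (by decide +kernel) h3

theorem stab_perfect : commutator ↥(MulAction.stabilizer ↥M24 (pt 0)) = ⊤ :=
  commutator_eq_top_of_simple (Cfsg.Agent.Lib.Helper1.M24.isSimpleGroup_stab_point none) _ _ gp_gh_ne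

/-- no stem extension of the group of the code has a kernel of order two, given that the
Mathieu group of degree 23 has no nontrivial stem extensions -/
theorem no_stem_two_M24 (hT : TrivStems.{u} ↥Cfsg.Spor.M23)
    (Γ : Type u) [Group Γ] [Finite Γ] (σ : Γ →* ↥M24) (hσ : Cfsg.IsStemExtension σ)
    (hc : Nat.card σ.ker = 2) : False :=
  no_stem_two D chk_struct chk_specs (by decide) pt GG hgen pt_zero pi_act hodd hrel stab_perfect
    (hT.of_equiv stabEquiv.symm) Γ σ hσ hc

end Cfsg.Agent.Lib.Helper1.M24M
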