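import Cfsg.Agent.Lib.Helper1.M24Mult
import Cfsg.Agent.Lib.Helper1.M24Mult3D
import Cfsg.Agent.Lib.Helper1.Stem11
import Cfsg.Agent.Lib.Helper1.Stem6

/-!
# Stem extensions of the group of the code are trivial
-/

set_option autoImplicit false
set_option maxRecDepth 100000

namespace Cfsg.Agent.Lib.Helper1.M24M

open Cfsg Cfsg.Agent.Lib.Helper1 Cfsg.Agent.Lib.Helper1.PermCode Cfsg.Agent.Lib.Helper1.MatCode MulAction
open Cfsg.Agent.Lib.Helper9.M24 (tperm tabOK tabM24 tget pmaskF tperm_ptOfNat ptOfNat natOfPt_ptOfNat)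
open Cfsg.Agent.Lib.Helper1.Stem Cfsg.Agent.Lib.Helper1.StemSA

open scoped commutatorElement

universe u

theorem chk_X3 : chkM24 tX3 cX3 = true := by decide +kernel
theorem chk_Y3 : chkM24 tY3 cY3 = true := by decide +kernel
theorem chk_T3 : chkM24 tT3 cT3 = true := by decide +kernel

/-- generators of a Sylow 3-subgroup and an involution inverting them -/
def g3x : ↥M24 := ⟨tperm tX3, chkM24_mem chk_X3⟩
def g3y : ↥M24 := ⟨tperm tY3, chkM24_mem chk_Y3⟩
def g3t : ↥M24 := ⟨tperm tT3, chkM24_mem chk_T3⟩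

/-- the codes -/
abbrev gens3 : List ℕ := [cX3, cY3, cT3]

/-- the elements -/
abbrev GG3 : List ↥M24 := [g3x, g3y, g3t]

theorem hGG3 : ∀ i, ∀ (h1 : i < GG3.length) (h2 : i < gens3.length),
    phiP M24 GG3[i] = permSysF.D gens3[i] :=
  hG3_of permSysF (phiP M24) (phiP_of_chkTab chk_X3 _ _) (phiP_of_chkTab chk_Y3 _ _)
    (phiP_of_chkTab chk_T3 _ _)

theorem hCC3 : ∀ c ∈ gens3, permSysF.C c :=
  hcan3_of permSysF (canon_of_chkTab chk_X3) (canon_of_chkTab chk_Y3) (canon_of_chkTab chk_T3)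

theorem w3_eq (w w' : List ℕ) (h : permSysF.ev gens3 w = permSysF.ev gens3 w') :
    wordProd GG3 w = wordProd GG3 w' :=
  permSysF.eq_of_ev (phiP M24) GG3 gens3 rfl hGG3 hCC3 (phiP_injective _) w w' h

theorem w3_one (w : List ℕ) (h : permSysF.ev gens3 w = permSysF.c1) : wordProd GG3 w = 1 :=
  permSysF.eq_one_of_ev (phiP M24) GG3 gens3 rfl hGG3 hCC3 (phiP_injective _) w h

theorem sub_27 : permSysF.subChk gens3 ws27 L27 = true := by decide +kernel
theorem len_27 : ws27.length + 1 = 27 := by decide +kernel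
theorem let_27 : ws27.all (fun w => w.all (fun i => decide (i < 2))) = true := by decide +kernel
theorem r_x3 : permSysF.ev gens3 [0, 0, 0] = permSysF.c1 := by decide +kernel
theorem r_y3 : permSysF.ev gens3 [1, 1, 1] = permSysF.c1 := by decide +kernel
theorem r_t2 : permSysF.ev gens3 [2, 2] = permSysF.c1 := by decide +kernel
theorem r_c : permSysF.ordChk gens3 wc3 1 3 = true := by decide +kernel
theorem r_xc : permSysF.ev gens3 ([0] ++ wc3) = permSysF.ev gens3 (wc3 ++ [0]) := by decide +kernel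
theorem r_yc : permSysF.ev gens3 ([1] ++ wc3) = permSysF.ev gens3 (wc3 ++ [1]) := by decide +kernel
theorem r_tx : permSysF.ev gens3 [2, 0, 2] = permSysF.ev gens3 [0, 0] := by decide +kernel
theorem r_ty : permSysF.ev gens3 [2, 1, 2] = permSysF.ev gens3 [1, 1] := by decide +kernel

theorem sq_chk24 : (List.range 15647).all
    (fun ℓ => !(244823040 % (ℓ * ℓ) == 0) || (96 % ℓ == 0)) = true := by decide +kernel

theorem sq_dvd24 (ℓ : ℕ) (hℓ : ℓ < 15647) (h : ℓ * ℓ ∣ 244823040) : ℓ ∣ 96 := by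
  have h1 := sq_chk24
  rw [List.all_eq_true] at h1
  have h2 := h1 ℓ (List.mem_range.mpr hℓ)
  rw [Bool.or_eq_true, Bool.not_eq_true', beq_eq_false_iff_ne, beq_iff_eq] at h2
  rcases h2 with h2 | h2
  · exact absurd (Nat.mod_eq_zero_of_dvd h) h2
  · exact Nat.dvd_of_mod_eq_zero h2

theorem x3_inv : g3x⁻¹ = g3x * g3x := by
  apply inv_eq_of_mul_eq_one_right
  have := w3_one _ r_x3
  simpa [wordProd_cons, wordProd_nil, mul_assoc] using this

theorem y3_inv : g3y⁻¹ = g3y * g3y := by
  apply inv_eq_of_mul_eq_one_right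
  have := w3_one _ r_y3
  simpa [wordProd_cons, wordProd_nil, mul_assoc] using this

theorem t3_inv : g3t⁻¹ = g3t := by
  apply inv_eq_of_mul_eq_one_right
  have := w3_one _ r_t2
  simpa [wordProd_cons, wordProd_nil, mul_assoc] using this

theorem comm_eq : ⁅g3x, g3y⁆ = wordProd GG3 wc3 := by
  rw [commutatorElement_def, x3_inv, y3_inv]
  simp [wc3, wordProd_cons, wordProd_nil, mul_assoc]

theorem wordProd_mem_xy (w : List ℕ) (hw : ∀ i ∈ w, i < 2) :
    wordProd GG3 w ∈ Subgroup.closure {g3x, g3y} := by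
  induction w with
  | nil => rw [wordProd_nil]; exact Subgroup.one_mem _
  | cons i w ih =>
    rw [wordProd_cons]
    refine Subgroup.mul_mem _ ?_ (ih (fun i' hi' => hw i' (by simp [hi'])))
    have hi : i < 2 := hw i (by simp)
    interval_cases i
    · exact Subgroup.subset_closure (by simp)
    · exact Subgroup.subset_closure (by simp)

theorem subW_le_xy : CodeSys.subW GG3 ws27 ≤ Subgroup.closure {g3x, g3y} := by
  unfold CodeSys.subW
  rw [Subgroup.closure_le]
  rintro g ⟨w, hw, rfl⟩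
  have h := let_27
  rw [List.all_eq_true] at h
  have h1 := h w hw
  rw [List.all_eq_true] at h1
  apply wordProd_mem_xy
  intro i hi
  exact of_decide_eq_true (h1 i hi)

/-- the Sylow 3-subgroup kills the 3-part -/
theorem kills_three {Γ : Type*} [Group Γ] (σ : Γ →* ↥M24) (hs : Function.Surjective σ)
    (hcen : σ.ker ≤ Subgroup.center Γ) : Kills σ 3 (Subgroup.closure {g3x, g3y}) := by
  have hc : ⁅g3x, g3y⁆ = wordProd GG3 wc3 := comm_eq
  apply kills_es σ hs hcen 3 g3x g3y g3t
  · have := w3_one _ r_x3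
    simpa [wordProd_cons, wordProd_nil, pow_succ, mul_assoc] using this
  · rw [hc]
    have := permSysF.orderOf_of_ordChk (phiP M24) GG3 gens3 rfl hGG3 hCC3 (phiP_injective _) wc3 1 3
      (by norm_num) r_c
    rwa [pow_one] at this
  · rw [hc]
    have := w3_eq _ _ r_xc
    rw [wordProd_append, wordProd_append] at this
    simpa [wordProd_cons, wordProd_nil] using this
  · rw [hc]
    have := w3_eq _ _ r_yc
    rw [wordProd_append, wordProd_append] at this
    simpa [wordProd_cons, wordProd_nil] using this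
  · rw [t3_inv, x3_inv]
    have := w3_eq _ _ r_tx
    simpa [wordProd_cons, wordProd_nil, mul_assoc] using this
  · rw [t3_inv, y3_inv]
    have := w3_eq _ _ r_ty
    simpa [wordProd_cons, wordProd_nil, mul_assoc] using this

theorem index_three : ¬ 3 ∣ (Subgroup.closure ({g3x, g3y} : Set ↥M24)).index := by
  apply not_dvd_index_of_le _ _ subW_le_xy 3 27 9067520
  · rw [permSysF.card_subW (phiP M24) GG3 gens3 rfl hGG3 hCC3 (phiP_injective _) _ L27 sub_27, len_27]
  · rw [Cfsg.Agent.Lib.Helper1.M24.card_M24]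
  · norm_num
  · norm_num

/-- the group of the code has no nontrivial stem extensions, given that the Mathieu group of
degree 23 has none -/
theorem trivStems_M24 (hT : TrivStems.{u} ↥Cfsg.Spor.M23) : TrivStems.{u} ↥M24 := by
  apply trivStems_of_prime
  intro Γ _ _ σ hσ hp
  set ℓ := Nat.card σ.ker with hℓ
  have hd := dvd_card_of_card_ker σ hσ ℓ hp rfl
  by_cases h2 : ℓ = 2
  · exact no_stem_two_M24 hT Γ σ hσ h2
  by_cases h3 : ℓ = 3
  · exact false_of_kills_prime σ hσ 3 Nat.prime_three h3 _ index_three (kills_three σ hσ.1 hσ.2.1)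
  · have hex : ∃ P : Subgroup ↥M24, ¬ ℓ ∣ P.index ∧ Kills σ ℓ P := by
      apply exists_kills_of_exact σ hσ.1 hσ.2.1 ℓ hp hd
      rw [Cfsg.Agent.Lib.Helper1.M24.card_M24]
      intro hsq
      have hlt : ℓ < 15647 := by
        by_contra hge
        have h1 : 15647 * 15647 ≤ ℓ * ℓ := Nat.mul_le_mul (by omega) (by omega)
        have h2 := Nat.le_of_dvd (by norm_num) hsq
        omega
      have h96 := sq_dvd24 ℓ hlt hsq
      have e : (96 : ℕ) = 2 ^ 5 * 3 := by norm_num
      rw [e] at h96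
      rcases (Nat.Prime.dvd_mul hp).mp h96 with h | h
      · exact h2 ((Nat.prime_dvd_prime_iff_eq hp Nat.prime_two).mp (hp.dvd_of_dvd_pow h))
      · exact h3 ((Nat.prime_dvd_prime_iff_eq hp Nat.prime_three).mp h)
    obtain ⟨P, hPi, hPk⟩ := hex
    exact false_of_kills_prime σ hσ ℓ hp rfl P hPi hPk

end Cfsg.Agent.Lib.Helper1.M24M
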