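import Cfsg.Agent.Lib.Helper1.MathieuMem
import Cfsg.Agent.Lib.Helper1.CodeSys6

/-!
# Permutations of the 24 points: generation by words, fixed points and conjugation
-/

set_option autoImplicit false

namespace Cfsg.Agent.Lib.Helper1.PermCode

open Cfsg Cfsg.Agent.Lib.Helper1 Cfsg.Agent.Lib.Helper1.M24 Cfsg.Agent.Lib.Helper1.MatCode
open Cfsg.Agent.Lib.Helper9.M24 (tperm tabOK tget natOfPt_tperm natOfPt_eq_gIdx)

theorem phi_el {H : Subgroup P24} (a : El H) {c : ℕ} (hc : tabCode a.t c = true) :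
    phi a.σ = PD c := by
  funext i
  apply Fin.ext
  show gIdx (a.σ (gUnidx i)) = pd c i % 24
  unfold tabCode at hc
  rw [List.all_eq_true] at hc
  have h1 := hc i (List.mem_range.mpr i.2)
  rw [beq_iff_eq] at h1
  rw [← h1, a.apply_idx, gIdx_gUnidx i i.2]
  rfl

/-- a subgroup is generated by a set of its elements if generators of a larger group are
products of these elements -/
theorem gen_of_words {G : Subgroup P24} (S : Set ↥G) (T : Set P24) (hT : G ≤ Subgroup.closure T)
    (h : ∀ t ∈ T, ∃ x ∈ Subgroup.closure S, (x : P24) = t) : Subgroup.closure S = ⊤ := by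
  have key : ∀ y ∈ Subgroup.closure T, ∃ x ∈ Subgroup.closure S, (x : P24) = y := by
    intro y hy
    induction hy using Subgroup.closure_induction with
    | mem y hy => exact h y hy
    | one => exact ⟨1, Subgroup.one_mem _, rfl⟩
    | mul y y' _ _ ih ih' =>
      obtain ⟨x, hx, rfl⟩ := ih
      obtain ⟨x', hx', rfl⟩ := ih'
      exact ⟨x * x', Subgroup.mul_mem _ hx hx', rfl⟩
    | inv y _ ih =>
      obtain ⟨x, hx, rfl⟩ := ih
      exact ⟨x⁻¹, Subgroup.inv_mem _ hx, rfl⟩
  rw [eq_top_iff]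
  intro g _
  obtain ⟨x, hx, e⟩ := key g.1 (hT g.2)
  have : x = g := Subtype.ext e
  rw [← this]
  exact hx

/-- conjugating into the cyclic subgroup, in the ambient group -/
theorem conj_zpow_coe {G : Subgroup P24} {n s : ↥G} (h : n * s * n⁻¹ ∈ Subgroup.zpowers s) :
    ∃ z : ℤ, (n : P24) * s * (n : P24)⁻¹ = (s : P24) ^ z := by
  obtain ⟨z, hz⟩ := Subgroup.mem_zpowers_iff.mp h
  refine ⟨z, ?_⟩
  have := congrArg (fun x : ↥G => (x : P24)) hz
  simp only [Subgroup.coe_zpow, Subgroup.coe_mul, Subgroup.coe_inv] at this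
  exact this.symm

/-- the same, back in a subgroup -/
theorem conj_mem_zpowers_of_coe {G : Subgroup P24} {n s : ↥G} {z : ℤ}
    (h : (n : P24) * s * (n : P24)⁻¹ = (s : P24) ^ z) : n * s * n⁻¹ ∈ Subgroup.zpowers s := by
  refine Subgroup.mem_zpowers_iff.mpr ⟨z, ?_⟩
  apply Subtype.ext
  simp only [Subgroup.coe_zpow, Subgroup.coe_mul, Subgroup.coe_inv]
  exact h.symm

/-- an element conjugating `s` to a power of `s` permutes the fixed points of `s` -/
theorem fix_of_conj {n s : P24} {z : ℤ} (h : n * s * n⁻¹ = s ^ z) {x : GolayPt} (hx : s x = x) :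
    s (n⁻¹ x) = n⁻¹ x := by
  have h1 : (s ^ z) x = x := Equiv.Perm.zpow_apply_eq_self_of_apply_eq_self hx z
  rw [← h, Equiv.Perm.mul_apply, Equiv.Perm.mul_apply] at h1
  have h2 := congrArg (n⁻¹ : P24) h1
  simpa using h2

/-- the fixed points of a table permutation -/
theorem fix_tperm {t : List ℕ} (hOK : tabOK t = true) {x : GolayPt} (hx : tperm t x = x) :
    tget t (gIdx x) = gIdx x := by
  have := natOfPt_tperm hOK x
  rw [hx, natOfPt_eq_gIdx] at this
  exact this.symm

end Cfsg.Agent.Lib.Helper1.PermCode
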