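import Cfsg.Agent.Lib.Helper1.M24OutD
import Cfsg.Agent.Lib.Helper1.PermSys2

/-!
# Checks for the automorphisms of the group of the code
-/

set_option autoImplicit false
set_option maxRecDepth 100000

namespace Cfsg.Agent.Lib.Helper1.M24O

open Cfsg Cfsg.Agent.Lib.Helper1 Cfsg.Agent.Lib.Helper1.PermCode Cfsg.Agent.Lib.Helper1.MatCode
open Cfsg.Agent.Lib.Helper9.M24 (tperm tabOK tabM24 tget pmaskF)
open Cfsg.Agent.Lib.Helper1.M23O (tP tH cP cH A parA PL ntf K0)

theorem chk_P : chkM24 tP cP = true := by decide +kernel

theorem chk_H : chkM24 tH cH = true := by decide +kernel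

theorem chk_V : chkM24 tV cV = true := by decide +kernel

theorem chk_G : chkM24 tG cG = true := by decide +kernel

theorem fix_P : (List.range 24).all (fun i => tget tP i != i || i == 23) = true := by decide +kernel

theorem fix_H : (List.range 24).all (fun i => tget tH i != i || i == 23 || i == 0) = true := by decide +kernel

theorem fix23_P : tget tP 23 = 23 := by decide +kernel

theorem fix23_H : tget tH 23 = 23 := by decide +kernel

theorem len_A24 : A.length * M23O.FixH.length = 1265 := by decide +kernel

theorem G_none : (tget tG 23 == 0 && tget tG 0 == 23) = true := by decide +kernel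

theorem rel_G : pmu2 cG cH = pmu2 (permSysF.pw cH 10) cG := by decide +kernel

theorem sq_G : pmu2 cG cG = pc1 := by decide +kernel

theorem code_B : tabCode Cfsg.Agent.Lib.Helper1.M24.n1.t cG = true := by decide +kernel

theorem code_C : tabCode Cfsg.Agent.Lib.Helper1.M24.n2.t cC = true := by decide +kernel

theorem code_A : tabCode Cfsg.Agent.Lib.Helper1.M24.n0.t cP = true := by decide +kernel

theorem ev_B : permSysF.ev [cP, cH, cV] wB = cG := by decide +kernel

theorem ev_C : permSysF.ev [cP, cH, cV] wC = cC := by decide +kernel

theorem vrel_1 : pmu2 cV cH = pmu2 (permSysF.pw cH 8) cV := by decide +kernel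

theorem vrel_2 : pmu2 cH cV = pmu2 cV (permSysF.pw cH 7) := by decide +kernel

theorem l2_canon : (List.range 2530).all (fun j => permSysF.CB (l2f j)) = true := by decide +kernel

theorem eorig_ok : permSysF.chkEOrig [cP, cH, cV] wE mE = true := by decide +kernel

theorem et_ok : permSysF.chkET PL l2f 2530 cH K0 wE mE etf surv = true := by decide +kernel

end Cfsg.Agent.Lib.Helper1.M24O
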