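import Cfsg.Agent.Lib.Helper1.M24OutC
import Cfsg.Agent.Lib.Helper1.M23OutG

/-!
# The automorphisms of the group of the code
-/

set_option autoImplicit false
set_option maxRecDepth 100000

namespace Cfsg.Agent.Lib.Helper1.M24O

open Cfsg Cfsg.Agent.Lib.Helper1 Cfsg.Agent.Lib.Helper1.PermCode Cfsg.Agent.Lib.Helper1.MatCode MulAction
open Cfsg.Agent.Lib.Helper9.M24 (tperm tabOK tabM24 tget pmaskF)
open Cfsg.Agent.Lib.Helper1.M23O (tP tH cP cH A parA PL ntf K0)
open Cfsg.Agent.Lib.Helper1.M24 (n0 n1 n2 K M24_le_K gA P24)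

/-- the first generator -/
def gp : ↥M24 := ⟨tperm tP, chkM24_mem chk_P⟩
/-- the second generator -/
def gh : ↥M24 := ⟨tperm tH, chkM24_mem chk_H⟩
/-- the third generator -/
def gv : ↥M24 := ⟨tperm tV, chkM24_mem chk_V⟩
/-- the involution exchanging the two fixed points of the second generator -/
def gg : ↥M24 := ⟨tperm tG, chkM24_mem chk_G⟩

theorem phi_p : phiP M24 gp = permSysF.D cP := phiP_of_chkTab chk_P _ _
theorem phi_h : phiP M24 gh = permSysF.D cH := phiP_of_chkTab chk_H _ _
theorem phi_v : phiP M24 gv = permSysF.D cV := phiP_of_chkTab chk_V _ _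
theorem phi_g : phiP M24 gg = permSysF.D cG := phiP_of_chkTab chk_G _ _
theorem can_p : permSysF.C cP := canon_of_chkTab chk_P
theorem can_h : permSysF.C cH := canon_of_chkTab chk_H
theorem can_v : permSysF.C cV := canon_of_chkTab chk_V
theorem can_g : permSysF.C cG := canon_of_chkTab chk_G

theorem gen : Subgroup.closure ({gp, gh, gv} : Set ↥M24) = ⊤ := by
  apply gen_of_words _ {gA, Cfsg.projInv, Cfsg.cubeTwist} M24_le_K
  intro t ht
  have hG := hG3_of permSysF (phiP M24) phi_p phi_h phi_v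
  have hC := hcan3_of permSysF can_p can_h can_v
  have hw : ∀ w, wordProd [gp, gh, gv] w ∈ Subgroup.closure ({gp, gh, gv} : Set ↥M24) := by
    intro w
    rw [set3_eq]
    exact wordProd_mem_closure _ _
  rcases ht with rfl | rfl | ht
  · refine ⟨gp, Subgroup.subset_closure (by simp), ?_⟩
    apply phi_injective
    show phiP M24 gp = phi n0.σ
    rw [phi_p]
    exact (phi_el n0 code_A).symm
  · refine ⟨wordProd [gp, gh, gv] wB, hw wB, ?_⟩
    apply phi_injective
    show phiP M24 (wordProd [gp, gh, gv] wB) = phi n1.σ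
    rw [permSysF.phi_wordProd (phiP M24) _ _ rfl hG hC, ev_B]
    exact (phi_el n1 code_B).symm
  · rw [Set.mem_singleton_iff.mp ht]
    refine ⟨wordProd [gp, gh, gv] wC, hw wC, ?_⟩
    apply phi_injective
    show phiP M24 (wordProd [gp, gh, gv] wC) = phi n2.σ
    rw [permSysF.phi_wordProd (phiP M24) _ _ rfl hG hC, ev_C]
    exact (phi_el n2 code_C).symm

theorem gIdx_none : gIdx (none : GolayPt) = 23 := rfl

theorem gIdx_zero : gIdx (some 0 : GolayPt) = 0 := rfl

/-- the image of the extra point under the inverse of an element conjugating the table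
permutation into its cyclic group is a fixed point of the table -/
theorem fix_idx {t : List ℕ} {c : ℕ} (hc : chkM24 t c = true) (h23 : tget t 23 = 23) {n : P24} {z : ℤ}
    (hz : n * tperm t * n⁻¹ = tperm t ^ z) : tget t (gIdx (n⁻¹ none)) = gIdx (n⁻¹ none) := by
  have hOK : tabOK t = true := (chkTab_sound hc).1
  exact fix_tperm hOK (fix_of_conj hz (tperm_none hOK h23))

theorem apply_none_of_inv {n : P24} (h : n⁻¹ none = none) : n none = none := by
  have := congrArg n h
  simpa using this.symm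

theorem hN1 (n : ↥M24) (hn : n * gp * n⁻¹ ∈ Subgroup.zpowers gp) :
    ∃ a ∈ A, phiP M24 n = permSysF.D a := by
  obtain ⟨z, hz⟩ := conj_zpow_coe hn
  have h2 := fix_idx chk_P fix23_P hz
  have h3 : gIdx ((n : P24)⁻¹ none) = 23 := by
    have h0 := fix_P
    rw [List.all_eq_true] at h0
    have h4 := h0 _ (List.mem_range.mpr (gIdx_lt ((n : P24)⁻¹ none)))
    rw [Bool.or_eq_true, bne_iff_ne, beq_iff_eq] at h4
    rcases h4 with h4 | h4
    · exact absurd h2 h4
    · exact h4
  have h5 : (n : P24)⁻¹ none = none := gIdx_injective (h3.trans gIdx_none.symm)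
  have h6 : (n : P24) none = none := apply_none_of_inv h5
  let n' : ↥Cfsg.Spor.M23 := ⟨n.1, ⟨n.2, mem_stabilizer_iff.mpr h6⟩⟩
  have hn' : n' * M23O.gp * n'⁻¹ ∈ Subgroup.zpowers M23O.gp := conj_mem_zpowers_of_coe (z := z) hz
  obtain ⟨a, ha, e⟩ := M23O.tabHyp.mem_A_of_conj n' hn'
  exact ⟨a, ha, e⟩

theorem rel_gh : gg * gh = gh ^ 10 * gg := by
  apply phiP_injective
  rw [map_mul, map_mul, map_pow, phi_g, phi_h, ← permSysF.hmu _ _ can_h, ← permSysF.D_pw _ _ can_h,
    ← permSysF.hmu _ _ can_g]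
  exact congrArg permSysF.D rel_G

theorem gg_sq : gg * gg = 1 := by
  apply phiP_injective
  rw [map_mul, map_one, phi_g, ← permSysF.hmu _ _ can_g, ← permSysF.D_c1]
  exact congrArg permSysF.D sq_G

theorem gg_inv : gg⁻¹ = gg := inv_eq_of_mul_eq_one_right gg_sq

theorem gg_none : (gg : P24) none = some 0 := by
  have hOK : tabOK tG = true := (chkTab_sound chk_G).1
  have h := G_none
  rw [Bool.and_eq_true, beq_iff_eq, beq_iff_eq] at h
  have := Cfsg.Agent.Lib.Helper9.M24.tperm_ptOfNat hOK (i := 23) (by norm_num)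
  rw [h.1] at this
  exact this

theorem hN2 (n : ↥M24) (hn : n * gh * n⁻¹ ∈ Subgroup.zpowers gh) :
    ∃ j, j < 2530 ∧ phiP M24 n = permSysF.D (l2f j) := by
  obtain ⟨z, hz⟩ := conj_zpow_coe hn
  have h2 := fix_idx chk_H fix23_H hz
  have h3 : gIdx ((n : P24)⁻¹ none) = 23 ∨ gIdx ((n : P24)⁻¹ none) = 0 := by
    have h0 := fix_H
    rw [List.all_eq_true] at h0
    have h4 := h0 _ (List.mem_range.mpr (gIdx_lt ((n : P24)⁻¹ none)))
    rw [Bool.or_eq_true, Bool.or_eq_true, bne_iff_ne, beq_iff_eq, beq_iff_eq] at h4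
    rcases h4 with (h4 | h4) | h4
    · exact absurd h2 h4
    · exact Or.inl h4
    · exact Or.inr h4
  rcases h3 with h3 | h3
  · have h5 : (n : P24)⁻¹ none = none := gIdx_injective (h3.trans gIdx_none.symm)
    have h6 : (n : P24) none = none := apply_none_of_inv h5
    let n' : ↥Cfsg.Spor.M23 := ⟨n.1, ⟨n.2, mem_stabilizer_iff.mpr h6⟩⟩
    have hn' : n' * M23O.gh * n'⁻¹ ∈ Subgroup.zpowers M23O.gh :=
      conj_mem_zpowers_of_coe (z := z) hz
    obtain ⟨j, hj, e⟩ := M23O.tabHyp.mem_L2_of_conj n' hn'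
    have hj' : j < 1265 := by rw [← len_A24]; exact hj
    refine ⟨j, by omega, ?_⟩
    unfold l2f
    rw [if_pos hj']
    exact e
  · have h5 : (n : P24)⁻¹ none = some 0 := gIdx_injective (h3.trans gIdx_zero.symm)
    have h6 : (n : P24) (some 0) = none := by
      have := congrArg (n : P24) h5
      simpa using this.symm
    -- the product with the involution fixes the extra point
    have hm : (n * gg) * gh * (n * gg)⁻¹ ∈ Subgroup.zpowers gh := by
      have e : (n * gg) * gh * (n * gg)⁻¹ = (n * gh * n⁻¹) ^ 10 := by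
        rw [mul_inv_rev, conj_pow]
        calc n * gg * gh * (gg⁻¹ * n⁻¹) = n * (gg * gh) * gg⁻¹ * n⁻¹ := by group
          _ = n * (gh ^ 10 * gg) * gg⁻¹ * n⁻¹ := by rw [rel_gh]
          _ = n * gh ^ 10 * n⁻¹ := by group
      rw [e]
      exact Subgroup.pow_mem _ hn 10
    obtain ⟨z', hz'⟩ := conj_zpow_coe hm
    have h7 : ((n * gg : ↥M24) : P24) none = none := by
      show ((n : P24) * (gg : P24)) none = none
      rw [Equiv.Perm.mul_apply, gg_none, h6]
    let m' : ↥Cfsg.Spor.M23 := ⟨(n * gg).1, ⟨(n * gg).2, mem_stabilizer_iff.mpr h7⟩⟩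
    have hm' : m' * M23O.gh * m'⁻¹ ∈ Subgroup.zpowers M23O.gh :=
      conj_mem_zpowers_of_coe (z := z') hz'
    obtain ⟨j, hj, e⟩ := M23O.tabHyp.mem_L2_of_conj m' hm'
    have hj' : j < 1265 := by rw [← len_A24]; exact hj
    refine ⟨j + 1265, by omega, ?_⟩
    unfold l2f
    rw [if_neg (by omega), Nat.add_sub_cancel]
    have e1 : n = (n * gg) * gg := by rw [mul_assoc, gg_sq, mul_one]
    have e2 : phiP M24 (n * gg) = permSysF.D (M23O.tabD.l2 pmu2 j) := e
    rw [e1, map_mul, e2, phi_g]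
    exact (permSysF.hmu _ _ can_g).symm

theorem coreHyp : CoreHyp permSysF (phiP M24) gp gh gv coreD where
  hφ := phiP_injective _
  hp := phi_p
  hh := phi_h
  hv := phi_v
  hcp := can_p
  hch := can_h
  hcv := can_v
  hgen := gen
  hA0 := M23O.head_A
  hApos := by show 0 < A.length; rw [M23O.len_A]; norm_num
  hAcan := M23O.canon_A
  htree := M23O.tree_A
  hN1 := hN1
  hN2 := hN2
  hL2can := l2_canon
  hq := by show Nat.Prime 23; norm_num
  hord := M23O.ord_P
  hfac := by
    rw [Cfsg.Agent.Lib.Helper1.M24.card_M24, show (244823040 : ℕ) = 23 ^ 1 * 10644480 by norm_num]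
    exact SylowChain.factorization_pow_mul (by norm_num) 1 10644480 (by norm_num)
  hrel := M23O.rel_1
  hrel' := M23O.rel_2
  hPL0 := M23O.head_PL
  hPLchain := M23O.chain_PL
  hPLlen := M23O.len_PL
  hPLA := M23O.PL_sub_A
  hK0 := by
    intro k hk
    have h := M23O.K0_lt
    rw [List.all_eq_true] at h
    exact of_decide_eq_true (h k hk)
  hNT := M23O.nt_ok
  hvrel := vrel_1
  hvrel' := vrel_2
  hEorig := eorig_ok
  hET := et_ok

/-- every automorphism is inner -/
theorem all_inner (α : MulAut ↥M24) : α ∈ (MulAut.conj : ↥M24 →* MulAut ↥M24).range :=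
  coreHyp.inner_of_surv rfl α

theorem card_out : Nat.card (Cfsg.Out ↥M24) = 1 := card_out_eq_one all_inner

end Cfsg.Agent.Lib.Helper1.M24O
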