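import Mathlib
import Cfsg.Agent.Lib.Helper1.M24U
import Cfsg.Agent.Lib.Helper1.M24V0

/-!
# Counting and orbit tools for code words under subgroups of `M24`
-/

set_option autoImplicit false

namespace Cfsg.Agent.Lib.Helper1.M24

open Cfsg Cfsg.Agent.Lib.Helper1
open scoped Pointwise

/-- the point set with a given bit mask -/
abbrev sp (m : ℕ) : Finset GolayPt := support₂ (ofMask m)

theorem mem_sp (m : ℕ) (p : GolayPt) : p ∈ sp m ↔ m.testBit (gIdx p) = true :=
  mem_support₂_ofMask m p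

theorem sp_inter (a b : ℕ) : sp a ∩ sp b = sp (a &&& b) := by
  ext p
  rw [Finset.mem_inter, mem_sp, mem_sp, mem_sp, Nat.testBit_and, Bool.and_eq_true]

theorem card_sp (m : ℕ) : (sp m).card = popcN 24 m := card_support₂_ofMask m

theorem card_sp_inter (a b : ℕ) : (sp a ∩ sp b).card = popcN 24 (a &&& b) := by
  rw [sp_inter, card_sp]

theorem sp_injOn {a b : ℕ} (ha : a < 2 ^ 24) (hb : b < 2 ^ 24) (h : sp a = sp b) : a = b :=
  ofMask_injOn ha hb (support₂_injective h)

/-! ### counting code words -/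

theorem words_filter_eq (n : ℕ) (Q : Finset GolayPt → Prop) (q : ℕ → Bool)
    (hq : ∀ c < 4096, (Q (sp (cw c)) ↔ q (cw c) = true)) :
    {o | o ∈ wordsOfWeight (golayCode : Set (GolayPt → ZMod 2)) n ∧ Q o} =
      (fun c => sp (cw c)) ''
        ↑((Finset.range 4096).filter (fun c => (popcN 24 (cw c) == n && q (cw c)) = true)) := by
  ext b
  rw [wordsOfWeight_eq]
  simp only [Set.mem_ofPred_eq, Set.mem_image, Finset.coe_filter, Finset.mem_range,
    Bool.and_eq_true, beq_iff_eq]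
  constructor
  · rintro ⟨⟨c, ⟨hc, hw⟩, rfl⟩, hQ⟩
    exact ⟨c, ⟨hc, hw, (hq c hc).mp hQ⟩, rfl⟩
  · rintro ⟨c, ⟨hc, hw, hqc⟩, rfl⟩
    exact ⟨⟨c, ⟨hc, hw⟩, rfl⟩, (hq c hc).mpr hqc⟩

theorem ncard_words_filter (n : ℕ) (Q : Finset GolayPt → Prop) (q : ℕ → Bool)
    (hq : ∀ c < 4096, (Q (sp (cw c)) ↔ q (cw c) = true)) :
    {o | o ∈ wordsOfWeight (golayCode : Set (GolayPt → ZMod 2)) n ∧ Q o}.ncard =
      countBelow (fun c => popcN 24 (cw c) == n && q (cw c)) 4096 := by
  rw [words_filter_eq n Q q hq, Set.InjOn.ncard_image, Set.ncard_coe_finset, countBelow_eq]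
  intro c hc d hd h
  simp only [Finset.coe_filter, Finset.mem_range, Set.mem_ofPred_eq] at hc hd
  exact support_cw_injOn hc.1 hd.1 h

theorem ncard_octads_filter (Q : Finset GolayPt → Prop) (q : ℕ → Bool)
    (hq : ∀ c < 4096, (Q (sp (cw c)) ↔ q (cw c) = true)) :
    {o | o ∈ octads ∧ Q o}.ncard =
      countBelow (fun c => popcN 24 (cw c) == 8 && q (cw c)) 4096 :=
  ncard_words_filter 8 Q q hq

theorem ncard_dodecads_filter (Q : Finset GolayPt → Prop) (q : ℕ → Bool)
    (hq : ∀ c < 4096, (Q (sp (cw c)) ↔ q (cw c) = true)) :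
    {o | o ∈ dodecads ∧ Q o}.ncard =
      countBelow (fun c => popcN 24 (cw c) == 12 && q (cw c)) 4096 :=
  ncard_words_filter 12 Q q hq

theorem exists_idx_of_mem_words {n : ℕ} {o : Finset GolayPt}
    (ho : o ∈ wordsOfWeight (golayCode : Set (GolayPt → ZMod 2)) n) :
    ∃ c < 4096, popcN 24 (cw c) = n ∧ o = sp (cw c) := by
  rw [wordsOfWeight_eq] at ho
  obtain ⟨c, hc, rfl⟩ := ho
  simp only [Finset.coe_filter, Finset.mem_range, Set.mem_ofPred_eq, beq_iff_eq] at hc
  exact ⟨c, hc.1, hc.2, rfl⟩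

theorem exists_idx_of_mem_octads {o : Finset GolayPt} (ho : o ∈ octads) :
    ∃ c < 4096, popcN 24 (cw c) = 8 ∧ o = sp (cw c) := exists_idx_of_mem_words ho

theorem exists_idx_of_mem_dodecads {o : Finset GolayPt} (ho : o ∈ dodecads) :
    ∃ c < 4096, popcN 24 (cw c) = 12 ∧ o = sp (cw c) := exists_idx_of_mem_words ho

/-! ### transport along a permutation -/

theorem card_inter_smul (g : P24) (a b : Finset GolayPt) :
    ((g • a) ∩ (g • b)).card = (a ∩ b).card := by
  rw [← Finset.smul_finset_inter, Finset.card_smul_finset]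

theorem smul_mem_octads_iff {g : P24} (hg : g ∈ M24) (o : Finset GolayPt) :
    g • o ∈ octads ↔ o ∈ octads := by
  constructor
  · intro h
    have := smul_mem_octads (M24.inv_mem hg) h
    rwa [inv_smul_smul] at this
  · exact smul_mem_octads hg

theorem smul_mem_dodecads_iff {g : P24} (hg : g ∈ M24) (o : Finset GolayPt) :
    g • o ∈ dodecads ↔ o ∈ dodecads := by
  constructor
  · intro h
    have := smul_mem_dodecads (M24.inv_mem hg) h
    rwa [inv_smul_smul] at this
  · exact smul_mem_dodecads hg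

theorem apply_mem_smul_iff (g : P24) (s : Finset GolayPt) (p : GolayPt) :
    g p ∈ g • s ↔ p ∈ s := by
  rw [mem_smul_iff']
  simp

theorem ncard_transport (g : P24) (P P' : Finset GolayPt → Prop)
    (h : ∀ o, P' (g • o) ↔ P o) : {o | P o}.ncard = {o | P' o}.ncard := by
  have : {o | P' o} = (fun o => g • o) '' {o | P o} := by
    ext o
    simp only [Set.mem_ofPred_eq, Set.mem_image]
    constructor
    · intro ho
      exact ⟨g⁻¹ • o, (h _).mp (by rwa [smul_inv_smul]), smul_inv_smul g o⟩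
    · rintro ⟨o', ho', rfl⟩
      exact (h _).mpr ho'
  rw [this, Set.ncard_image_of_injective _ (MulAction.injective g)]

/-! ### orbit certificates with generators from a bigger group -/

theorem dstep_sound' {K' H : Subgroup P24} (gens : List (El K')) (hH : ∀ e ∈ gens, e.σ ∈ H)
    (c₀ : ℕ) (R : ℕ)
    (hR : ∀ c, R.testBit c = true → CReach H c₀ c) (e : ℕ × ℕ) :
    ∀ c, (dstep (gens.map El.t) R e).testBit c = true → CReach H c₀ c := by
  intro c hc
  unfold dstep at hc
  split_ifs at hc with hcond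
  · simp only [Bool.and_eq_true, decide_eq_true_eq, beq_iff_eq, List.length_map] at hcond
    obtain ⟨⟨⟨h1, h2⟩, h3⟩, h4⟩ := hcond
    rw [Nat.testBit_or, Bool.or_eq_true, Nat.testBit_two_pow, decide_eq_true_eq] at hc
    rcases hc with hc | hc
    · exact hR c hc
    · obtain ⟨_, σ, hσ, hσe⟩ := hR _ h1
      have hget : (gens.map El.t).getD e.2 [] = (gens[e.2]'h2).t := by
        rw [List.getD_eq_getElem?_getD, List.getElem?_map, List.getElem?_eq_getElem h2]
        rfl
      rw [hget] at h3 h4 hc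
      refine ⟨hc ▸ h4, (gens[e.2]'h2).σ * σ,
        H.mul_mem (hH _ (List.getElem_mem h2)) hσ, ?_⟩
      rw [mul_smul, hσe, smul_support_eq_pm, ← hc, h3]
  · exact hR c hc

theorem dfold_sound' {K' H : Subgroup P24} (gens : List (El K')) (hH : ∀ e ∈ gens, e.σ ∈ H)
    (c₀ : ℕ) (l : List (ℕ × ℕ)) (R : ℕ)
    (hR : ∀ c, R.testBit c = true → CReach H c₀ c) :
    ∀ c, (l.foldl (dstep (gens.map El.t)) R).testBit c = true → CReach H c₀ c := by
  induction l generalizing R with
  | nil => exact hR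
  | cons e l ih =>
    rw [List.foldl_cons]
    exact ih _ (dstep_sound' gens hH c₀ R hR e)

/-- a class of code words covered by an orbit certificate lies in one orbit -/
theorem class_reach {K' H : Subgroup P24} (gens : List (El K')) (hH : ∀ e ∈ gens, e.σ ∈ H)
    (c₀ : ℕ) (hc₀ : c₀ < 4096) (cert : List (ℕ × ℕ)) (R : ℕ)
    (hfold : cert.foldl (dstep (gens.map El.t)) (2 ^ c₀) = R)
    (cls : ℕ → Bool) (hcover : allBelow (fun c => !cls c || R.testBit c) 4096 = true)
    (c : ℕ) (hc : c < 4096) (hcls : cls c = true) :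
    ∃ σ ∈ H, σ • sp (cw c₀) = sp (cw c) := by
  have h1 := (allBelow_iff _ _).mp hcover c hc
  simp only [Bool.or_eq_true, Bool.not_eq_true'] at h1
  have h2 : R.testBit c = true := by
    rcases h1 with h1 | h1
    · rw [hcls] at h1; exact absurd h1 (by decide)
    · exact h1
  rw [← hfold] at h2
  obtain ⟨_, σ, hσ, h3⟩ := dfold_sound' gens hH c₀ cert (2 ^ c₀) (creach_init H hc₀) c h2
  exact ⟨σ, hσ, h3⟩

theorem class_trans {K' H : Subgroup P24} (gens : List (El K')) (hH : ∀ e ∈ gens, e.σ ∈ H)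
    (c₀ : ℕ) (hc₀ : c₀ < 4096) (cert : List (ℕ × ℕ)) (R : ℕ)
    (hfold : cert.foldl (dstep (gens.map El.t)) (2 ^ c₀) = R)
    (cls : ℕ → Bool) (hcover : allBelow (fun c => !cls c || R.testBit c) 4096 = true)
    (c c' : ℕ) (hc : c < 4096) (hc' : c' < 4096) (hcls : cls c = true) (hcls' : cls c' = true) :
    ∃ σ ∈ H, σ • sp (cw c) = sp (cw c') := by
  obtain ⟨σ, hσ, h⟩ := class_reach gens hH c₀ hc₀ cert R hfold cls hcover c hc hcls
  obtain ⟨σ', hσ', h'⟩ := class_reach gens hH c₀ hc₀ cert R hfold cls hcover c' hc' hcls'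
  refine ⟨σ' * σ⁻¹, H.mul_mem hσ' (H.inv_mem hσ), ?_⟩
  rw [mul_smul, ← h, inv_smul_smul, h']

/-! ### several classes at once -/

/-- class data: invariant value, representative, orbit certificate, orbit bit set -/
abbrev ClsData := List (ℕ × ℕ × List (ℕ × ℕ) × ℕ)

/-- the orbit bit set of the class with invariant `k` -/
def rsel (D : ClsData) (k : ℕ) : ℕ :=
  match D.find? (fun e => e.1 == k) with
  | some e => e.2.2.2
  | none => 0

/-- all certificates in the class data are correct -/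
def dataOK (gs : List (List ℕ)) (D : ClsData) : Bool :=
  D.all (fun e => decide (e.2.1 < 4096) && (e.2.2.1.foldl (dstep gs) (2 ^ e.2.1) == e.2.2.2))

theorem data_reach {K' H : Subgroup P24} (gens : List (El K')) (hH : ∀ e ∈ gens, e.σ ∈ H)
    (D : ClsData) (hD : dataOK (gens.map El.t) D = true) (k c : ℕ)
    (h : (rsel D k).testBit c = true) :
    ∃ c₀ < 4096, ∀ c', (rsel D k).testBit c' = true → ∃ σ ∈ H, σ • sp (cw c₀) = sp (cw c') := by
  unfold rsel at h ⊢
  cases hfind : D.find? (fun e => e.1 == k) with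
  | none => rw [hfind] at h; simp at h
  | some e =>
    simp only [hfind]
    have hmem : e ∈ D := List.mem_of_find?_eq_some hfind
    unfold dataOK at hD
    rw [List.all_eq_true] at hD
    have he := hD e hmem
    rw [Bool.and_eq_true, decide_eq_true_eq, beq_iff_eq] at he
    refine ⟨e.2.1, he.1, fun c' hc' => ?_⟩
    rw [← he.2] at hc'
    obtain ⟨_, σ, hσ, h3⟩ := dfold_sound' gens hH e.2.1 e.2.2.1 (2 ^ e.2.1)
      (creach_init H he.1) c' hc'
    exact ⟨σ, hσ, h3⟩

theorem data_trans {K' H : Subgroup P24} (gens : List (El K')) (hH : ∀ e ∈ gens, e.σ ∈ H)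
    (D : ClsData) (hD : dataOK (gens.map El.t) D = true) (fam : ℕ → Bool) (inv : ℕ → ℕ)
    (hcover : allBelow (fun c => !fam c || (rsel D (inv c)).testBit c) 4096 = true)
    (c c' : ℕ) (hc : c < 4096) (hc' : c' < 4096) (hf : fam c = true) (hf' : fam c' = true)
    (hi : inv c = inv c') :
    ∃ σ ∈ H, σ • sp (cw c) = sp (cw c') := by
  have h1 := (allBelow_iff _ _).mp hcover c hc
  have h1' := (allBelow_iff _ _).mp hcover c' hc'
  simp only [hf, hf', Bool.not_true, Bool.false_or] at h1 h1'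
  rw [← hi] at h1'
  obtain ⟨c₀, _, hall⟩ := data_reach gens hH D hD (inv c) c h1
  obtain ⟨σ, hσ, h⟩ := hall c h1
  obtain ⟨σ', hσ', h'⟩ := hall c' h1'
  refine ⟨σ' * σ⁻¹, H.mul_mem hσ' (H.inv_mem hσ), ?_⟩
  rw [mul_smul, ← h, inv_smul_smul, h']

/-! ### mask lists -/

theorem mem_wlist_iff (n m : ℕ) :
    m ∈ ((List.range 4096).map cw).filter (fun m => popcN 24 m == n) ↔
      ∃ c < 4096, popcN 24 (cw c) = n ∧ m = cw c := by
  rw [List.mem_filter, List.mem_map, beq_iff_eq]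
  constructor
  · rintro ⟨⟨c, hc, rfl⟩, h⟩
    exact ⟨c, List.mem_range.mp hc, h, rfl⟩
  · rintro ⟨c, hc, h, rfl⟩
    exact ⟨⟨c, List.mem_range.mpr hc, rfl⟩, h⟩

theorem wlist_nodup (n : ℕ) :
    (((List.range 4096).map cw).filter (fun m => popcN 24 m == n)).Nodup := by
  apply List.Nodup.filter
  rw [List.nodup_map_iff_inj_on List.nodup_range]
  intro c hc d hd h
  exact cw_injOn (List.mem_range.mp hc) (List.mem_range.mp hd) h

theorem mem_octList_iff (m : ℕ) : m ∈ octList ↔ ∃ c < 4096, popcN 24 (cw c) = 8 ∧ m = cw c := by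
  rw [octList_eq, mem_wlist_iff]

theorem mem_dodList_iff (m : ℕ) : m ∈ dodList ↔ ∃ c < 4096, popcN 24 (cw c) = 12 ∧ m = cw c := by
  rw [dodList_eq, mem_wlist_iff]

theorem octList_nodup : octList.Nodup := by rw [octList_eq]; exact wlist_nodup 8

theorem dodList_nodup : dodList.Nodup := by rw [dodList_eq]; exact wlist_nodup 12

theorem exists_mask_of_mem_octads {o : Finset GolayPt} (ho : o ∈ octads) :
    ∃ m ∈ octList, o = sp m := by
  obtain ⟨c, hc, hw, rfl⟩ := exists_idx_of_mem_octads ho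
  exact ⟨cw c, (mem_octList_iff _).mpr ⟨c, hc, hw, rfl⟩, rfl⟩

theorem exists_mask_of_mem_dodecads {o : Finset GolayPt} (ho : o ∈ dodecads) :
    ∃ m ∈ dodList, o = sp m := by
  obtain ⟨c, hc, hw, rfl⟩ := exists_idx_of_mem_dodecads ho
  exact ⟨cw c, (mem_dodList_iff _).mpr ⟨c, hc, hw, rfl⟩, rfl⟩

theorem sp_mem_octads {m : ℕ} (hm : m ∈ octList) : sp m ∈ octads := by
  obtain ⟨c, hc, hw, rfl⟩ := (mem_octList_iff m).mp hm
  exact octad_of_idx hc hw

theorem sp_mem_dodecads {m : ℕ} (hm : m ∈ dodList) : sp m ∈ dodecads := by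
  obtain ⟨c, hc, hw, rfl⟩ := (mem_dodList_iff m).mp hm
  exact dodecad_of_idx hc hw

theorem sp_inj_cw {m m' : ℕ} (hm : ∃ c < 4096, m = cw c) (hm' : ∃ c < 4096, m' = cw c)
    (h : sp m = sp m') : m = m' := by
  obtain ⟨c, hc, rfl⟩ := hm
  obtain ⟨c', hc', rfl⟩ := hm'
  rw [support_cw_injOn hc hc' h]

theorem ncard_list_filter (L : List ℕ) (hL : L.Nodup) (hcw : ∀ m ∈ L, ∃ c < 4096, m = cw c)
    (S : Set (Finset GolayPt)) (hS : ∀ o, o ∈ S ↔ ∃ m ∈ L, o = sp m)
    (Q : Finset GolayPt → Prop) (q : ℕ → Bool)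
    (hq : ∀ m ∈ L, (Q (sp m) ↔ q m = true)) :
    {o | o ∈ S ∧ Q o}.ncard = L.countP q := by
  have : {o | o ∈ S ∧ Q o} = (fun m => sp m) '' ↑(L.filter q).toFinset := by
    ext o
    simp only [Set.mem_ofPred_eq, Set.mem_image, Finset.mem_coe, List.mem_toFinset, List.mem_filter]
    constructor
    · rintro ⟨ho, hQ⟩
      obtain ⟨m, hm, rfl⟩ := (hS o).mp ho
      exact ⟨m, ⟨hm, (hq m hm).mp hQ⟩, rfl⟩
    · rintro ⟨m, ⟨hm, hqm⟩, rfl⟩
      exact ⟨(hS _).mpr ⟨m, hm, rfl⟩, (hq m hm).mpr hqm⟩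
  rw [this, Set.InjOn.ncard_image, Set.ncard_coe_finset, List.toFinset_card_of_nodup (hL.filter _),
    List.countP_eq_length_filter]
  intro m hm m' hm' h
  simp only [Finset.mem_coe, List.mem_toFinset, List.mem_filter] at hm hm'
  exact sp_inj_cw (hcw m hm.1) (hcw m' hm'.1) h

theorem octList_cw : ∀ m ∈ octList, ∃ c < 4096, m = cw c := by
  intro m hm
  obtain ⟨c, hc, _, rfl⟩ := (mem_octList_iff m).mp hm
  exact ⟨c, hc, rfl⟩

theorem dodList_cw : ∀ m ∈ dodList, ∃ c < 4096, m = cw c := by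
  intro m hm
  obtain ⟨c, hc, _, rfl⟩ := (mem_dodList_iff m).mp hm
  exact ⟨c, hc, rfl⟩

/-- counting octads with a property through the mask list -/
theorem ncard_octads_countP (Q : Finset GolayPt → Prop) (q : ℕ → Bool)
    (hq : ∀ m ∈ octList, (Q (sp m) ↔ q m = true)) :
    {o | o ∈ octads ∧ Q o}.ncard = octList.countP q :=
  ncard_list_filter octList octList_nodup octList_cw octads
    (fun o => ⟨exists_mask_of_mem_octads, by rintro ⟨m, hm, rfl⟩; exact sp_mem_octads hm⟩) Q q hq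

/-- counting dodecads with a property through the mask list -/
theorem ncard_dodecads_countP (Q : Finset GolayPt → Prop) (q : ℕ → Bool)
    (hq : ∀ m ∈ dodList, (Q (sp m) ↔ q m = true)) :
    {o | o ∈ dodecads ∧ Q o}.ncard = dodList.countP q :=
  ncard_list_filter dodList dodList_nodup dodList_cw dodecads
    (fun o => ⟨exists_mask_of_mem_dodecads, by rintro ⟨m, hm, rfl⟩; exact sp_mem_dodecads hm⟩) Q q hq

/-- transitivity on the classes of a list of code words -/
theorem data_trans' {K' H : Subgroup P24} (gens : List (El K')) (hH : ∀ e ∈ gens, e.σ ∈ H)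
    (D : ClsData) (hD : dataOK (gens.map El.t) D = true) (L : List ℕ)
    (hcw : ∀ m ∈ L, ∃ c < 4096, m = cw c) (fam : ℕ → Bool) (inv : ℕ → ℕ)
    (hcover : L.all (fun m => !fam m || (rsel D (inv m)).testBit (m >>> 12)) = true)
    (m m' : ℕ) (hm : m ∈ L) (hm' : m' ∈ L) (hf : fam m = true) (hf' : fam m' = true)
    (hi : inv m = inv m') :
    ∃ σ ∈ H, σ • sp m = sp m' := by
  rw [List.all_eq_true] at hcover
  have h1 := hcover m hm
  have h1' := hcover m' hm'
  simp only [hf, hf', Bool.not_true, Bool.false_or] at h1 h1'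
  rw [← hi] at h1'
  obtain ⟨c, hc, rfl⟩ := hcw m hm
  obtain ⟨c', hc', rfl⟩ := hcw m' hm'
  rw [cw_shift hc] at h1
  rw [cw_shift hc'] at h1'
  obtain ⟨c₀, _, hall⟩ := data_reach gens hH D hD (inv (cw c)) c h1
  obtain ⟨σ, hσ, h⟩ := hall c h1
  obtain ⟨σ', hσ', h'⟩ := hall c' h1'
  refine ⟨σ' * σ⁻¹, H.mul_mem hσ' (H.inv_mem hσ), ?_⟩
  rw [mul_smul, ← h, inv_smul_smul, h']

end Cfsg.Agent.Lib.Helper1.M24
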