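import Mathlib
import Cfsg.Agent.Lib.Helper1.M24V

/-!
# Orbit certificates on arbitrary bit masks
-/

set_option autoImplicit false

namespace Cfsg.Agent.Lib.Helper1.M24

open Cfsg Cfsg.Agent.Lib.Helper1
open scoped Pointwise

/-- one step of an orbit certificate on masks: `(parent mask, generator index)` -/
def mstep (gs : List (List ℕ)) (R : List ℕ) (e : ℕ × ℕ) : List ℕ :=
  if R.contains e.1 && decide (e.2 < gs.length) then pm (gs.getD e.2 []) e.1 :: R else R

/-- the set with mask `m` is in the orbit of the set with mask `m₀` -/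
def MReach (H : Subgroup P24) (m₀ m : ℕ) : Prop := ∃ σ ∈ H, σ • sp m₀ = sp m

theorem mstep_sound {K' H : Subgroup P24} (gens : List (El K')) (hH : ∀ e ∈ gens, e.σ ∈ H)
    (m₀ : ℕ) (R : List ℕ) (hR : ∀ m ∈ R, MReach H m₀ m) (e : ℕ × ℕ) :
    ∀ m ∈ mstep (gens.map El.t) R e, MReach H m₀ m := by
  intro m hm
  unfold mstep at hm
  split_ifs at hm with hcond
  · simp only [Bool.and_eq_true, decide_eq_true_eq, List.length_map, List.contains_iff_mem] at hcond
    obtain ⟨h1, h2⟩ := hcond
    rw [List.mem_cons] at hm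
    rcases hm with hm | hm
    · obtain ⟨σ, hσ, hσe⟩ := hR _ h1
      have hget : (gens.map El.t).getD e.2 [] = (gens[e.2]'h2).t := by
        rw [List.getD_eq_getElem?_getD, List.getElem?_map, List.getElem?_eq_getElem h2]
        rfl
      rw [hget] at hm
      refine ⟨(gens[e.2]'h2).σ * σ, H.mul_mem (hH _ (List.getElem_mem h2)) hσ, ?_⟩
      rw [mul_smul, hσe, hm]
      exact smul_support_eq_pm _ _
    · exact hR m hm
  · exact hR m hm

theorem mfold_sound {K' H : Subgroup P24} (gens : List (El K')) (hH : ∀ e ∈ gens, e.σ ∈ H)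
    (m₀ : ℕ) (l : List (ℕ × ℕ)) (R : List ℕ) (hR : ∀ m ∈ R, MReach H m₀ m) :
    ∀ m ∈ l.foldl (mstep (gens.map El.t)) R, MReach H m₀ m := by
  induction l generalizing R with
  | nil => exact hR
  | cons e l ih =>
    rw [List.foldl_cons]
    exact ih _ (mstep_sound gens hH m₀ R hR e)

/-- mask class data: invariant value, representative, orbit certificate, reached list -/
abbrev MClsData := List (ℕ × ℕ × List (ℕ × ℕ) × List ℕ)

/-- the reached list of the class with invariant `k` -/
def msel (D : MClsData) (k : ℕ) : List ℕ :=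
  match D.find? (fun e => e.1 == k) with
  | some e => e.2.2.2
  | none => []

/-- all certificates in the class data are correct -/
def mdataOK (gs : List (List ℕ)) (D : MClsData) : Bool :=
  D.all (fun e => e.2.2.1.foldl (mstep gs) [e.2.1] == e.2.2.2)

theorem mdata_reach {K' H : Subgroup P24} (gens : List (El K')) (hH : ∀ e ∈ gens, e.σ ∈ H)
    (D : MClsData) (hD : mdataOK (gens.map El.t) D = true) (k : ℕ) :
    ∃ m₀, ∀ m ∈ msel D k, MReach H m₀ m := by
  unfold msel
  cases hfind : D.find? (fun e => e.1 == k) with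
  | none => exact ⟨0, fun m hm => by simp at hm⟩
  | some e =>
    refine ⟨e.2.1, ?_⟩
    have hmem : e ∈ D := List.mem_of_find?_eq_some hfind
    unfold mdataOK at hD
    rw [List.all_eq_true] at hD
    have he := hD e hmem
    rw [beq_iff_eq] at he
    simp only
    rw [← he]
    apply mfold_sound gens hH
    intro m hm
    rw [List.mem_singleton] at hm
    subst hm
    exact ⟨1, H.one_mem, one_smul _ _⟩

/-- transitivity on the classes of a list of masks -/
theorem mdata_trans {K' H : Subgroup P24} (gens : List (El K')) (hH : ∀ e ∈ gens, e.σ ∈ H)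
    (D : MClsData) (hD : mdataOK (gens.map El.t) D = true)
    (L : List ℕ) (fam : ℕ → Bool) (inv : ℕ → ℕ)
    (hcover : L.all (fun m => !fam m || (msel D (inv m)).contains m) = true)
    (m m' : ℕ) (hm : m ∈ L) (hm' : m' ∈ L) (hf : fam m = true) (hf' : fam m' = true)
    (hi : inv m = inv m') :
    ∃ σ ∈ H, σ • sp m = sp m' := by
  rw [List.all_eq_true] at hcover
  have h1 := hcover m hm
  have h1' := hcover m' hm'
  simp only [hf, hf', Bool.not_true, Bool.false_or, List.contains_iff_mem] at h1 h1'
  rw [← hi] at h1'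
  obtain ⟨m₀, hall⟩ := mdata_reach gens hH D hD (inv m)
  obtain ⟨σ, hσ, h⟩ := hall m h1
  obtain ⟨σ', hσ', h'⟩ := hall m' h1'
  refine ⟨σ' * σ⁻¹, H.mul_mem hσ' (H.inv_mem hσ), ?_⟩
  rw [mul_smul, ← h, inv_smul_smul, h']

end Cfsg.Agent.Lib.Helper1.M24
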