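import Mathlib
import Cfsg.Agent.Lib.Helper1.M24W10

set_option autoImplicit false

namespace Cfsg.Agent.Lib.Helper1.M24

open Cfsg Cfsg.Agent.Lib.Helper1
open scoped Pointwise

noncomputable section

def n874 : El K := El.mul n2 n867 [18, 22, 5, 2, 3, 14, 6, 1, 11, 9, 16, 10, 12, 7, 4, 13, 17, 8, 21, 0, 19, 20, 15, 23] (by decide +kernel)
def n890 : El K := El.mul n0 n103 [1, 23, 22, 11, 15, 17, 9, 19, 13, 20, 5, 16, 2, 21, 7, 18, 3, 10, 4, 14, 6, 8, 12, 0] (by decide +kernel)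
def n901 : El K := El.mul n2 n874 [4, 14, 21, 6, 3, 17, 1, 18, 19, 12, 13, 7, 8, 5, 2, 9, 11, 16, 20, 0, 22, 10, 15, 23] (by decide +kernel)
def n911 : El K := El.mul n2 n11 [15, 11, 12, 22, 9, 10, 21, 13, 6, 20, 5, 4, 3, 7, 2, 17, 1, 16, 8, 18, 23, 14, 19, 0] (by decide +kernel)
def n947 : El K := El.mul n0 n890 [2, 23, 0, 12, 16, 18, 10, 20, 14, 21, 6, 17, 3, 22, 8, 19, 4, 11, 5, 15, 7, 9, 13, 1] (by decide +kernel)
def n979 : El K := El.mul n0 n901 [5, 15, 22, 7, 4, 18, 2, 19, 20, 13, 14, 8, 9, 6, 3, 10, 12, 17, 21, 1, 0, 11, 16, 23] (by decide +kernel)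
def n1001 : El K := El.mul n0 n911 [16, 12, 13, 0, 10, 11, 22, 14, 7, 21, 6, 5, 4, 8, 3, 18, 2, 17, 9, 19, 23, 15, 20, 1] (by decide +kernel)
def n1158 : El K := El.mul n2 n979 [21, 15, 14, 5, 2, 4, 6, 22, 10, 9, 17, 16, 12, 1, 3, 7, 8, 11, 20, 18, 0, 19, 13, 23] (by decide +kernel)
def n1529 : El K := El.mul n2 n1158 [20, 15, 17, 21, 6, 2, 1, 14, 7, 12, 11, 13, 8, 18, 3, 5, 16, 19, 10, 4, 0, 22, 9, 23] (by decide +kernel)
def n5841 : El K := El.mul n0 n1529 [21, 16, 18, 22, 7, 3, 2, 15, 8, 13, 12, 14, 9, 19, 4, 6, 17, 20, 11, 5, 1, 0, 10, 23] (by decide +kernel)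
def n7291 : El K := El.mul n2 n5841 [20, 13, 4, 14, 5, 3, 6, 15, 16, 9, 8, 17, 12, 22, 2, 1, 11, 10, 19, 21, 18, 0, 7, 23] (by decide +kernel)
def n12433 : El K := El.mul n2 n7291 [10, 9, 2, 17, 21, 3, 1, 15, 13, 12, 16, 11, 8, 14, 6, 18, 19, 7, 22, 20, 4, 0, 5, 23] (by decide +kernel)
def n24921 : El K := El.mul n0 n12433 [11, 10, 3, 18, 22, 4, 2, 16, 14, 13, 17, 12, 9, 15, 7, 19, 20, 8, 0, 21, 5, 1, 6, 23] (by decide +kernel)
def n129731 : El K := El.mul n24921 n1001 [20, 9, 15, 11, 17, 12, 6, 7, 16, 1, 2, 4, 22, 14, 18, 0, 3, 8, 13, 21, 23, 19, 5, 10] (by decide +kernel)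
def n129732 : El K := El.inv n129731 [15, 9, 10, 16, 11, 22, 6, 7, 17, 1, 23, 3, 5, 18, 13, 2, 8, 4, 14, 21, 0, 19, 12, 20] (by decide +kernel)
def n129738 : El K := El.inv n129325 [1, 2, 0, 17, 11, 3, 19, 21, 10, 22, 4, 20, 15, 8, 14, 16, 18, 5, 9, 6, 13, 7, 12, 23] (by decide +kernel)
def n129748 : El K := El.mul n129738 n129732 [16, 22, 4, 18, 20, 12, 19, 21, 5, 2, 23, 17, 3, 9, 8, 0, 10, 11, 14, 7, 1, 6, 15, 13] (by decide +kernel)
def n129755 : El K := El.mul n129731 n129325 [15, 20, 9, 12, 2, 8, 21, 19, 14, 13, 16, 17, 5, 23, 18, 22, 0, 11, 3, 6, 4, 7, 1, 10] (by decide +kernel)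
def n129756 : El K := El.mul n129755 n129325 [9, 15, 20, 8, 16, 11, 6, 7, 23, 3, 14, 2, 1, 4, 18, 5, 22, 12, 0, 21, 17, 19, 13, 10] (by decide +kernel)
def n129757 : El K := El.mul n129756 n129756 [3, 5, 17, 23, 22, 2, 6, 7, 10, 8, 18, 20, 15, 16, 0, 11, 13, 1, 9, 19, 12, 21, 4, 14] (by decide +kernel)
def n129758 : El K := El.mul n129757 n129757 [23, 2, 1, 14, 4, 17, 6, 7, 18, 10, 9, 12, 11, 13, 3, 20, 16, 5, 8, 19, 15, 21, 22, 0] (by decide +kernel)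
def n129792 : El K := El.mul n129732 n129325 [10, 15, 9, 22, 23, 4, 21, 19, 18, 14, 17, 11, 12, 0, 13, 5, 2, 16, 8, 6, 3, 7, 1, 20] (by decide +kernel)
def n129793 : El K := El.mul n129792 n129792 [17, 5, 14, 1, 20, 23, 7, 6, 8, 13, 16, 11, 12, 10, 0, 4, 9, 2, 18, 21, 22, 19, 15, 3] (by decide +kernel)
def n129794 : El K := El.mul n129793 n129793 [2, 23, 0, 5, 22, 3, 6, 7, 8, 10, 9, 11, 12, 16, 17, 20, 13, 14, 18, 19, 15, 21, 4, 1] (by decide +kernel)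
def n129795 : El K := El.mul n129325 n947 [1, 23, 2, 22, 15, 16, 8, 11, 14, 7, 19, 3, 5, 9, 13, 6, 10, 4, 17, 12, 21, 18, 20, 0] (by decide +kernel)
def n129806 : El K := El.mul n947 n129325 [0, 2, 23, 18, 6, 11, 15, 9, 22, 5, 14, 16, 13, 7, 8, 3, 19, 12, 4, 10, 17, 20, 21, 1] (by decide +kernel)
def n129807 : El K := El.mul n129806 n947 [23, 1, 0, 13, 19, 4, 14, 17, 8, 20, 15, 12, 18, 21, 22, 10, 6, 16, 11, 3, 9, 5, 7, 2] (by decide +kernel)
def n129808 : El K := El.mul n129807 n129325 [0, 23, 1, 4, 15, 16, 3, 5, 21, 11, 8, 19, 7, 9, 22, 18, 10, 13, 6, 14, 12, 17, 20, 2] (by decide +kernel)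
def n129809 : El K := El.mul n129808 n947 [1, 2, 0, 7, 10, 6, 8, 12, 22, 17, 3, 13, 4, 20, 21, 14, 15, 19, 16, 18, 5, 11, 9, 23] (by decide +kernel)
def n129810 : El K := El.mul n129809 n129325 [0, 1, 2, 6, 3, 19, 18, 11, 20, 16, 22, 10, 9, 5, 21, 4, 14, 7, 15, 8, 13, 12, 17, 23] (by decide +kernel)
def n129811 : El K := El.mul n129810 n947 [2, 23, 0, 9, 14, 15, 22, 13, 21, 12, 18, 7, 6, 17, 20, 8, 3, 10, 19, 4, 11, 16, 5, 1] (by decide +kernel)
def n129812 : El K := El.mul n129811 n129325 [0, 2, 23, 15, 18, 10, 4, 16, 17, 19, 21, 14, 5, 11, 20, 6, 8, 9, 3, 22, 7, 13, 12, 1] (by decide +kernel)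
def n129813 : El K := El.mul n129812 n129731 [7, 19, 6, 14, 9, 5, 4, 16, 8, 2, 23, 18, 12, 20, 3, 0, 15, 17, 11, 13, 1, 22, 10, 21] (by decide +kernel)
def n129814 : El K := El.mul n129813 n129738 [19, 6, 7, 17, 18, 14, 13, 22, 23, 10, 9, 1, 0, 8, 3, 15, 11, 5, 2, 4, 20, 16, 12, 21] (by decide +kernel)
def n129815 : El K := El.mul n129814 n129814 [4, 13, 22, 5, 2, 3, 8, 12, 21, 9, 10, 6, 19, 23, 17, 15, 1, 14, 7, 18, 20, 11, 0, 16] (by decide +kernel)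
def n129816 : El K := El.mul n129815 n129815 [2, 23, 0, 3, 22, 5, 21, 19, 11, 9, 10, 8, 18, 16, 14, 15, 13, 17, 12, 7, 20, 6, 4, 1] (by decide +kernel)
def n129851 : El K := El.mul n129795 n129325 [2, 1, 23, 16, 19, 4, 12, 18, 9, 17, 14, 15, 20, 21, 13, 5, 6, 22, 10, 8, 3, 11, 7, 0] (by decide +kernel)
def n129853 : El K := El.mul n129851 n129325 [23, 2, 1, 4, 14, 22, 8, 11, 21, 10, 9, 19, 7, 3, 13, 20, 5, 16, 6, 12, 15, 18, 17, 0] (by decide +kernel)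
def n129854 : El K := El.mul n129853 n947 [1, 0, 23, 7, 5, 6, 9, 15, 13, 18, 8, 16, 4, 17, 21, 12, 14, 19, 22, 20, 11, 10, 3, 2] (by decide +kernel)
def n129855 : El K := El.mul n129854 n129738 [0, 23, 1, 19, 16, 7, 20, 10, 8, 3, 5, 11, 12, 13, 21, 14, 22, 6, 18, 9, 17, 15, 4, 2] (by decide +kernel)
def n129856 : El K := El.mul n129855 n129731 [17, 3, 14, 11, 6, 12, 20, 10, 22, 23, 1, 16, 4, 21, 18, 0, 19, 8, 13, 15, 2, 9, 7, 5] (by decide +kernel)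
def n129857 : El K := El.mul n129856 n947 [14, 5, 17, 4, 19, 13, 1, 2, 18, 9, 20, 8, 11, 7, 22, 15, 6, 16, 12, 0, 10, 23, 21, 3] (by decide +kernel)
def n129858 : El K := El.mul n129857 n129857 [22, 13, 16, 19, 0, 7, 5, 17, 12, 9, 10, 18, 8, 2, 21, 15, 1, 6, 11, 14, 20, 3, 23, 4] (by decide +kernel)
def n129859 : El K := El.mul n129858 n129858 [23, 2, 1, 14, 22, 17, 7, 6, 8, 9, 10, 11, 12, 16, 3, 15, 13, 5, 18, 21, 20, 19, 4, 0] (by decide +kernel)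
def n130008 : El K := El.mul n129738 n129731 [13, 22, 16, 20, 5, 15, 19, 21, 18, 2, 0, 11, 12, 14, 9, 1, 17, 10, 8, 7, 23, 6, 3, 4] (by decide +kernel)
def n130009 : El K := El.mul n130008 n129731 [23, 2, 1, 11, 10, 12, 19, 21, 17, 22, 16, 5, 3, 9, 8, 13, 20, 18, 14, 6, 4, 7, 15, 0] (by decide +kernel)
def n130011 : El K := El.mul n130009 n129731 [4, 22, 13, 5, 18, 3, 19, 21, 20, 2, 1, 10, 15, 8, 14, 23, 11, 17, 9, 7, 0, 6, 12, 16] (by decide +kernel)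
def n130012 : El K := El.mul n130011 n130011 [18, 12, 8, 3, 9, 5, 7, 6, 0, 13, 22, 1, 23, 20, 14, 16, 10, 17, 2, 21, 4, 19, 15, 11] (by decide +kernel)
def n130013 : El K := El.mul n130012 n130012 [2, 23, 0, 3, 13, 5, 6, 7, 18, 20, 15, 12, 11, 4, 14, 10, 22, 17, 8, 19, 9, 21, 16, 1] (by decide +kernel)
def n130210 : El K := El.mul n129807 n129732 [10, 20, 15, 6, 12, 7, 14, 17, 16, 1, 2, 13, 4, 11, 21, 0, 8, 19, 22, 5, 23, 3, 18, 9] (by decide +kernel)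
def n130296 : El K := El.mul n130210 n130210 [2, 23, 0, 14, 4, 17, 21, 19, 8, 20, 15, 11, 12, 13, 3, 10, 16, 5, 18, 7, 9, 6, 22, 1] (by decide +kernel)
def n130457 : El K := El.mul n129748 n129748 [10, 15, 20, 14, 1, 3, 7, 6, 12, 4, 13, 11, 18, 2, 5, 16, 23, 17, 8, 21, 22, 19, 0, 9] (by decide +kernel)
def n130458 : El K := El.mul n129748 n130457 [23, 0, 1, 8, 22, 18, 21, 19, 3, 20, 9, 17, 14, 4, 12, 10, 13, 11, 5, 6, 15, 7, 16, 2] (by decide +kernel)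
def n130460 : El K := El.mul n129325 n130458 [23, 2, 0, 13, 9, 16, 7, 6, 5, 11, 18, 3, 14, 10, 22, 8, 20, 4, 17, 19, 12, 21, 15, 1] (by decide +kernel)
def n130461 : El K := El.mul n130460 n129738 [2, 0, 23, 4, 3, 13, 19, 21, 18, 15, 9, 12, 8, 5, 22, 20, 17, 16, 11, 7, 10, 6, 14, 1] (by decide +kernel)
def n130462 : El K := El.mul n129731 n130458 [10, 20, 9, 16, 5, 13, 19, 21, 11, 23, 1, 8, 18, 17, 22, 2, 14, 4, 12, 6, 0, 7, 3, 15] (by decide +kernel)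
def n130463 : El K := El.mul n130462 n129732 [2, 23, 1, 14, 8, 3, 19, 21, 4, 20, 15, 16, 13, 12, 17, 9, 11, 5, 22, 7, 10, 6, 18, 0] (by decide +kernel)
def n130464 : El K := El.mul n129738 n130458 [23, 1, 2, 10, 12, 9, 7, 6, 17, 13, 22, 5, 14, 11, 15, 4, 8, 20, 3, 19, 16, 21, 18, 0] (by decide +kernel)
def n130465 : El K := El.mul n130464 n129325 [2, 23, 1, 9, 22, 20, 19, 21, 11, 3, 17, 12, 18, 16, 15, 14, 4, 10, 8, 7, 5, 6, 13, 0] (by decide +kernel)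
def n130477 : El K := El.mul n129325 n130463 [1, 23, 0, 14, 13, 5, 6, 7, 10, 11, 12, 15, 20, 22, 3, 18, 4, 17, 9, 21, 8, 19, 16, 2] (by decide +kernel)
def n130478 : El K := El.mul n130477 n129738 [23, 0, 1, 17, 15, 14, 21, 19, 12, 16, 13, 8, 18, 10, 3, 4, 9, 5, 11, 6, 22, 7, 20, 2] (by decide +kernel)
def n130481 : El K := El.mul n129738 n130463 [0, 23, 2, 14, 10, 17, 6, 7, 11, 13, 16, 18, 8, 15, 5, 22, 20, 3, 12, 21, 4, 19, 9, 1] (by decide +kernel)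
def n130482 : El K := El.mul n130481 n129325 [2, 0, 23, 17, 16, 3, 21, 19, 15, 12, 11, 10, 9, 4, 5, 8, 22, 14, 20, 6, 18, 7, 13, 1] (by decide +kernel)
def n130484 : El K := El.mul n947 n130465 [0, 1, 23, 21, 13, 7, 15, 9, 17, 12, 11, 3, 5, 4, 19, 8, 16, 6, 14, 20, 18, 10, 22, 2] (by decide +kernel)
def n130485 : El K := El.mul n130484 n947 [23, 2, 0, 5, 16, 14, 11, 18, 19, 10, 15, 6, 21, 22, 17, 20, 13, 3, 7, 8, 9, 12, 4, 1] (by decide +kernel)
def n130487 : El K := El.mul n129731 n130465 [15, 10, 9, 1, 5, 23, 21, 19, 4, 11, 8, 22, 13, 3, 0, 18, 17, 2, 16, 7, 12, 6, 14, 20] (by decide +kernel)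
def n130488 : El K := El.mul n130487 n129732 [18, 11, 8, 17, 22, 14, 21, 19, 2, 10, 20, 1, 23, 16, 3, 9, 4, 5, 0, 6, 15, 7, 13, 12] (by decide +kernel)
def n130491 : El K := El.mul n129732 n130465 [10, 20, 9, 1, 12, 0, 21, 19, 3, 16, 4, 5, 14, 8, 2, 13, 11, 23, 17, 7, 22, 6, 18, 15] (by decide +kernel)
def n130492 : El K := El.mul n130491 n129731 [22, 16, 13, 5, 23, 14, 21, 19, 11, 20, 9, 12, 18, 2, 17, 10, 1, 3, 8, 6, 15, 7, 0, 4] (by decide +kernel)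
def n130493 : El K := El.mul n947 n130478 [1, 2, 23, 11, 19, 8, 9, 15, 3, 4, 22, 14, 5, 6, 12, 16, 21, 18, 17, 10, 13, 20, 7, 0] (by decide +kernel)
def n130494 : El K := El.mul n130493 n947 [23, 0, 1, 5, 21, 17, 22, 13, 12, 20, 9, 18, 11, 7, 3, 10, 19, 14, 8, 16, 15, 4, 6, 2] (by decide +kernel)
def n130497 : El K := El.mul n129731 n130478 [10, 20, 9, 8, 0, 18, 19, 21, 22, 3, 14, 16, 13, 2, 11, 17, 1, 12, 4, 6, 5, 7, 23, 15] (by decide +kernel)
def n130498 : El K := El.mul n130497 n129732 [17, 3, 14, 1, 16, 23, 19, 21, 12, 20, 15, 8, 18, 4, 2, 9, 22, 0, 11, 7, 10, 6, 13, 5] (by decide +kernel)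
def n130502 : El K := El.mul n947 n130482 [0, 2, 1, 11, 4, 12, 9, 15, 19, 3, 17, 6, 21, 16, 18, 14, 13, 8, 7, 10, 5, 20, 22, 23] (by decide +kernel)
def n130503 : El K := El.mul n130502 n947 [1, 23, 0, 21, 13, 7, 17, 5, 18, 20, 9, 8, 11, 22, 19, 10, 4, 6, 12, 14, 15, 3, 16, 2] (by decide +kernel)
def n130516 : El K := El.mul n129738 n130485 [23, 0, 1, 3, 18, 14, 20, 9, 6, 4, 16, 19, 7, 12, 5, 13, 8, 17, 21, 10, 22, 15, 11, 2] (by decide +kernel)
def n130517 : El K := El.mul n130516 n129325 [1, 23, 0, 14, 16, 17, 10, 15, 12, 21, 6, 18, 11, 22, 5, 7, 13, 3, 8, 20, 19, 9, 4, 2] (by decide +kernel)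
def n130526 : El K := El.mul n129738 n130488 [9, 20, 10, 5, 12, 14, 7, 6, 0, 4, 13, 2, 23, 18, 17, 22, 11, 3, 1, 19, 16, 21, 8, 15] (by decide +kernel)
def n130527 : El K := El.mul n130526 n129325 [10, 9, 20, 14, 13, 3, 19, 21, 18, 1, 0, 12, 8, 16, 17, 23, 22, 5, 11, 7, 2, 6, 4, 15] (by decide +kernel)
def n130567 : El K := El.mul n129731 n130517 [9, 10, 20, 18, 3, 8, 2, 0, 22, 19, 6, 13, 4, 5, 12, 7, 14, 11, 16, 23, 21, 1, 17, 15] (by decide +kernel)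
def n130568 : El K := El.mul n130567 n129732 [7, 19, 6, 14, 13, 17, 2, 0, 11, 10, 15, 18, 8, 16, 5, 20, 22, 3, 12, 1, 9, 23, 4, 21] (by decide +kernel)

/-- generators of the elementary abelian normal subgroup of the standard sextet stabilizer -/
def gensN : List (El K) := [n129758, n129794, n129816, n129859, n130013, n130296]

/-- elements of the standard sextet stabilizer inducing the transpositions of the tetrads -/
def swapEls : List (El K) := [n130458, n130465, n130503, n130461, n130498, n130482, n130485, n130463, n130488, n130517, n130478, n130527, n130494, n130568, n130492]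

/-- three points in three tetrads of the standard sextet -/
def f0N : List ℕ := [776]

set_option maxRecDepth 1000000 in
/-- traversal certificate for the orbit of three points -/
def certN : List (ℕ × ℕ × List ℕ) := [
  (0, 0, [279552]), (0, 1, [393728]), (0, 2, [135680]), (0, 3, [4640]),
  (0, 4, [1050656]), (0, 5, [133632]), (2, 5, [1183744]), (2, 4, [1181696]),
  (0, 5, [2592]), (2, 5, [1052704]), (2, 3, [262688]), (0, 4, [1048864]),
  (0, 5, [131840]), (2, 5, [1441792]), (2, 4, [1179904]), (0, 5, [800]),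
  (2, 5, [1310752]), (2, 2, [21504]), (0, 3, [5128]), (0, 4, [34824]),
  (0, 5, [19456]), (2, 5, [53248]), (2, 4, [51200]), (0, 5, [3080]),
  (2, 5, [36872]), (2, 3, [263176]), (0, 4, [33032]), (0, 5, [17664]),
  (2, 5, [311296]), (2, 4, [49408]), (0, 5, [1288]), (2, 5, [294920]),
  (2, 1, [1312]), (0, 2, [3104]), (0, 3, [134144]), (0, 4, [167936]),
  (0, 5, [5152]), (2, 5, [34848]), (2, 4, [36896]), (0, 5, [136192]),
  (2, 5, [165888]), (2, 3, [132352]), (0, 4, [425984]), (0, 5, [263200]),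
  (2, 5, [33056]), (2, 4, [294944]), (0, 5, [394240]), (2, 5, [164096]),
  (2, 2, [2568]), (0, 3, [18944]), (0, 4, [1069056]), (0, 5, [4616]),
  (2, 5, [1050632]), (2, 4, [1052680]), (0, 5, [20992]), (2, 5, [1067008]),
  (2, 3, [17152]), (0, 4, [1327104]), (0, 5, [262664]), (2, 5, [1048840]),
  (2, 4, [1310728]), (0, 5, [279040]), (2, 5, [1065216])]

set_option maxRecDepth 1000000 in
theorem travOKN : travOK (gensN.map El.t) f0N certN 349 64 = true := by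
  decide +kernel

end

end Cfsg.Agent.Lib.Helper1.M24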