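import Mathlib
import Cfsg.Agent.Lib.Helper1.M24W7

set_option autoImplicit false

namespace Cfsg.Agent.Lib.Helper1.M24

open Cfsg Cfsg.Agent.Lib.Helper1
open scoped Pointwise

noncomputable section

def n889 : El K := El.mul n2 n871 [2, 18, 3, 1, 10, 4, 20, 9, 16, 21, 14, 13, 8, 19, 15, 12, 22, 6, 17, 5, 7, 11, 0, 23] (by decide +kernel)
def n904 : El K := El.mul n2 n470 [18, 21, 6, 2, 5, 20, 22, 14, 17, 12, 1, 0, 11, 9, 8, 13, 7, 10, 3, 15, 16, 19, 4, 23] (by decide +kernel)
def n942 : El K := El.mul n2 n889 [6, 4, 3, 18, 7, 2, 10, 12, 13, 20, 17, 9, 16, 22, 15, 8, 14, 1, 11, 21, 5, 19, 0, 23] (by decide +kernel)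
def n986 : El K := El.mul n2 n904 [4, 20, 1, 6, 21, 10, 14, 17, 11, 8, 18, 0, 19, 12, 16, 9, 5, 7, 3, 15, 13, 22, 2, 23] (by decide +kernel)
def n1075 : El K := El.mul n0 n942 [7, 5, 4, 19, 8, 3, 11, 13, 14, 21, 18, 10, 17, 0, 16, 9, 15, 2, 12, 22, 6, 20, 1, 23] (by decide +kernel)
def n1174 : El K := El.mul n0 n986 [5, 21, 2, 7, 22, 11, 15, 18, 12, 9, 19, 1, 20, 13, 17, 10, 6, 8, 4, 16, 14, 0, 3, 23] (by decide +kernel)
def n1353 : El K := El.mul n2 n1075 [5, 21, 2, 22, 16, 3, 19, 9, 17, 20, 4, 7, 11, 0, 13, 12, 15, 6, 8, 14, 1, 10, 18, 23] (by decide +kernel)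
def n1559 : El K := El.mul n2 n1174 [21, 20, 6, 5, 14, 19, 15, 4, 8, 12, 22, 18, 10, 9, 11, 7, 1, 16, 2, 13, 17, 0, 3, 23] (by decide +kernel)
def n5875 : El K := El.mul n2 n1559 [20, 10, 1, 21, 17, 22, 15, 2, 16, 8, 14, 4, 7, 12, 19, 5, 18, 13, 6, 9, 11, 0, 3, 23] (by decide +kernel)
def n7457 : El K := El.mul n0 n5875 [21, 11, 2, 22, 18, 0, 16, 3, 17, 9, 15, 5, 8, 13, 20, 6, 19, 14, 7, 10, 12, 1, 4, 23] (by decide +kernel)
def n129323 : El K := El.mul n7457 n1353 [0, 1, 2, 4, 19, 22, 10, 9, 14, 12, 18, 3, 5, 21, 13, 8, 6, 16, 17, 20, 11, 15, 7, 23] (by decide +kernel)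

/-- generators for the case PQS -/
def gensPQS : List (El K) := [n4411, n129323]

set_option maxRecDepth 1000000 in
/-- the octads containing the standard points and pair -/
def octPQS : List ℕ := [
  8536111, 8657159, 9471495, 11010247, 12656663]

set_option maxRecDepth 1000000 in
/-- orbit certificate, case PQS, class 0 -/
def certPQS_0 : List (ℕ × ℕ) := [
  (24, 0), (24, 1), (16400, 1), (524304, 1), (532480, 0), (532480, 1), (1572864, 0), (1572864, 1), (589824, 1), (3145728, 0), (3145728, 1), (528384, 1),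
  (1050624, 0), (1050624, 1), (1048640, 0), (1048640, 1), (2101248, 1), (34816, 1), (1048608, 0), (1048608, 1), (36864, 1), (2056, 0), (4224, 1), (3072, 0),
  (3072, 1), (32800, 0), (32800, 1), (264, 0), (4128, 1), (4196352, 0), (4196352, 1), (288, 0), (288, 1), (49152, 1), (544, 0), (544, 1),
  (33024, 1), (262152, 0), (262152, 1), (2080, 1), (4194560, 0), (4194560, 1), (17408, 1), (4194336, 1), (4227072, 1), (136, 0), (136, 1), (1056, 1),
  (4210688, 1), (8448, 0), (8448, 1), (262176, 1), (4198400, 0), (4198400, 1), (16640, 0), (16640, 1), (16896, 1), (4194312, 1), (4195328, 1), (16512, 0),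
  (16512, 1), (270336, 0), (270336, 1), (4194432, 0), (4194432, 1), (384, 0), (16448, 1), (528, 0), (4456448, 0), (4456448, 1), (8320, 0), (8320, 1),
  (66560, 1), (2113536, 0), (2113536, 1), (4325376, 1), (5242880, 1), (160, 0), (24576, 0), (24576, 1), (12288, 0), (12288, 1), (144, 0), (144, 1),
  (262272, 0), (262272, 1), (72, 1), (8704, 0), (66048, 1), (2228224, 1), (4194368, 1), (640, 1), (1088, 1), (9216, 0), (9216, 1), (262160, 1),
  (131200, 0), (262208, 1), (2097160, 1), (40960, 0), (40960, 1), (65664, 0), (2176, 0), (2176, 1), (2105344, 0), (2105344, 1), (1114112, 1), (80, 1),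
  (524800, 0), (524800, 1), (576, 1), (131584, 0), (131584, 1), (1040, 0), (4160, 0), (98304, 0), (98304, 1), (1152, 1), (4608, 0), (263168, 0),
  (2359296, 1), (132096, 0), (32784, 0), (32784, 1), (2097408, 0), (32832, 1), (520, 0), (520, 1), (2129920, 0), (2112, 0), (786432, 1), (5120, 0),
  (393216, 1), (69632, 0), (272, 1), (1048704, 1), (262656, 1), (1310720, 1), (768, 1), (131328, 1), (2064, 1), (524544, 1), (2098176, 1), (278528, 1),
  (4112, 0), (4112, 1), (2099200, 1), (1048832, 1), (2560, 1), (135168, 1), (20480, 0), (20480, 1), (81920, 0), (1048592, 1), (4104, 1), (8224, 1),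
  (8200, 1), (526336, 0), (48, 1)]

set_option maxRecDepth 1000000 in
/-- reached masks, case PQS, class 0 -/
def reachPQS_0 : List ℕ := [
  4718592, 557056, 2097168, 6291456, 48, 526336, 8200, 8224, 1048584, 65568,
  4104, 18432, 32776, 524320, 1048592, 139264, 294912, 1064960, 524296, 81920,
  20480, 133120, 135168, 2560, 540672, 1056768, 196608, 1048832, 1179648, 32896,
  2099200, 4112, 278528, 1280, 2098176, 524544, 2064, 131328, 163840, 768,
  1310720, 262656, 320, 10240, 1048704, 272, 69632, 393216, 5120, 1052672,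
  786432, 525312, 2112, 2129920, 2162688, 520, 32832, 8256, 2097408, 67584,
  32784, 132096, 131136, 655360, 2359296, 65792, 263168, 4608, 1152, 98304,
  4160, 327680, 1040, 131584, 576, 524800, 80, 2097184, 1114112, 2105344,
  65544, 96, 2176, 65664, 40960, 2097160, 262208, 2097664, 65600, 131200,
  4194816, 262160, 9216, 1088, 640, 4194368, 2228224, 66048, 8704, 72,
  262272, 144, 12288, 24576, 1032, 160, 5242880, 4325376, 2113536, 66560,
  8320, 4456448, 528, 16448, 384, 4194432, 270336, 16512, 4195328, 4194312,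
  131088, 16896, 16640, 4198400, 262176, 8448, 4210688, 1056, 136, 4227072,
  4194336, 17408, 4194560, 2080, 262152, 33024, 544, 49152, 288, 4196352,
  4128, 264, 32800, 3072, 4224, 2056, 36864, 1048608, 34816, 2101248,
  1048640, 1050624, 528384, 3145728, 589824, 1572864, 532480, 524304, 16400, 24]

set_option maxRecDepth 1000000 in
/-- orbit certificate, case PQS, class 1 -/
def certPQS_1 : List (ℕ × ℕ) := [
  (40, 0), (40, 1), (16416, 1), (4194320, 1), (4202496, 0), (4202496, 1), (524416, 0), (524416, 1), (4259840, 1), (2097280, 0), (2097280, 1), (524352, 1),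
  (1049088, 0), (1049088, 1), (192, 1), (2097216, 1), (33280, 0), (33280, 1), (266240, 1), (6144, 0), (1536, 0), (33792, 0), (264192, 1), (262400, 1),
  (2304, 1), (131080, 1), (147456, 1), (16392, 1), (8208, 1)]

set_option maxRecDepth 1000000 in
/-- reached masks, case PQS, class 1 -/
def reachPQS_1 : List ℕ := [
  2621440, 8208, 73728, 65552, 16392, 147456, 131080, 2304, 262400, 1081344,
  131104, 4352, 264192, 33792, 1536, 6144, 266240, 1049600, 33280, 2097216,
  192, 1049088, 524352, 2097280, 4259840, 524416, 4202496, 4194320, 16416, 40]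

/-- class data, case PQS -/
def dataPQS : MClsData := [
  (0, 24, certPQS_0, reachPQS_0),
  (1, 40, certPQS_1, reachPQS_1)]

/-- family membership, case PQS -/
def famPQS (m : ℕ) : Bool := m &&& 8388615 == 0

/-- class invariant, case PQS -/
def invPQS (m : ℕ) : ℕ := if octPQS.any (fun o => (6 ||| m) &&& o == (6 ||| m)) then 1 else 0

set_option maxRecDepth 1000000 in
theorem dataOKPQS : mdataOK (gensPQS.map El.t) dataPQS = true := by
  decide +kernel

set_option maxRecDepth 1000000 in
theorem coverPQS : (subMasks 24 2).all (fun m => !famPQS m || (msel dataPQS (invPQS m)).contains m) = true := by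
  decide +kernel


theorem transPQS (hH : ∀ e ∈ gensPQS, e.σ ∈ (M24 ⊓ FixL [23, 0] ⊓ MulAction.stabilizer P24 (sp 6))) (m m' : ℕ) (hm : m ∈ subMasks 24 2) (hm' : m' ∈ subMasks 24 2)
    (hf : famPQS m = true) (hf' : famPQS m' = true) (hi : invPQS m = invPQS m') :
    ∃ σ ∈ (M24 ⊓ FixL [23, 0] ⊓ MulAction.stabilizer P24 (sp 6)), σ • sp m = sp m' :=
  mdata_trans gensPQS hH dataPQS dataOKPQS (subMasks 24 2) famPQS invPQS coverPQS m m' hm hm' hf hf' hi

end

end Cfsg.Agent.Lib.Helper1.M24
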