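import Mathlib
import Cfsg.Agent.Lib.Helper1.MaskAct

/-!
# The image of the bit mask of a set with three elements
-/

set_option autoImplicit false

namespace Cfsg.Agent.Lib.Helper1.MaskAct

/-- the bit mask of a set with three elements -/
def mk3 (a b c : ℕ) : ℕ := 2 ^ a ||| 2 ^ b ||| 2 ^ c

theorem testBit_mk3 (a b c i : ℕ) : (mk3 a b c).testBit i = true ↔ (a = i ∨ b = i ∨ c = i) := by
  unfold mk3
  rw [Nat.testBit_or, Nat.testBit_or, Nat.testBit_two_pow, Nat.testBit_two_pow,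
    Nat.testBit_two_pow]
  simp only [Bool.or_eq_true, decide_eq_true_eq]
  tauto

theorem imgMask_mk3 (N : ℕ) (f : ℕ → ℕ) (a b c : ℕ) (ha : a < N) (hb : b < N) (hc : c < N) :
    imgMask N f (mk3 a b c) = mk3 (f a) (f b) (f c) := by
  apply Nat.eq_of_testBit_eq
  intro j
  rw [Bool.eq_iff_iff, testBit_imgMask, testBit_mk3]
  constructor
  · rintro ⟨i, _, hM, rfl⟩
    rw [testBit_mk3] at hM
    rcases hM with rfl | rfl | rfl
    · exact Or.inl rfl
    · exact Or.inr (Or.inl rfl)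
    · exact Or.inr (Or.inr rfl)
  · rintro (h | h | h)
    · exact ⟨a, ha, (testBit_mk3 a b c a).mpr (Or.inl rfl), h⟩
    · exact ⟨b, hb, (testBit_mk3 a b c b).mpr (Or.inr (Or.inl rfl)), h⟩
    · exact ⟨c, hc, (testBit_mk3 a b c c).mpr (Or.inr (Or.inr rfl)), h⟩

end Cfsg.Agent.Lib.Helper1.MaskAct
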