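import Mathlib

/-!
# Square matrices over `ZMod p` coded by natural numbers (digits in base `2 ^ 16`), with a fast
product on codes
-/

set_option autoImplicit false

namespace Cfsg.Agent.Lib.Helper1.MatCode

/-- sum of `f k` over `k < n`, by structural recursion (kernel friendly) -/
def sumTo : ℕ → (ℕ → ℕ) → ℕ
  | 0, _ => 0
  | k + 1, f => sumTo k f + f k

theorem sumTo_eq (n : ℕ) (f : ℕ → ℕ) : sumTo n f = ∑ k ∈ Finset.range n, f k := by
  induction n with
  | zero => rfl
  | succ k ih => rw [sumTo, Finset.sum_range_succ, ih]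

/-- the `k`-th digit of `N` in base `B` -/
def dig (B N k : ℕ) : ℕ := N / B ^ k % B

theorem sum_lt_pow (p : ℕ) (hp : 1 < p) (e : ℕ → ℕ) (he : ∀ m, e m < p) (L : ℕ) :
    ∑ m ∈ Finset.range L, e m * p ^ m < p ^ L := by
  induction L with
  | zero => simp
  | succ L ih =>
    rw [Finset.sum_range_succ, pow_succ]
    have h1 : e L * p ^ L ≤ (p - 1) * p ^ L := Nat.mul_le_mul_right _ (Nat.le_pred_of_lt (he L))
    have h2 : (p - 1) * p ^ L + p ^ L = p ^ L * p := by
      have : p - 1 + 1 = p := Nat.sub_add_cancel hp.le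
      calc (p - 1) * p ^ L + p ^ L = (p - 1 + 1) * p ^ L := by ring
        _ = p ^ L * p := by rw [this]; ring
    omega

theorem dig_sum (p : ℕ) (hp : 1 < p) (e : ℕ → ℕ) (he : ∀ m, e m < p) (L k : ℕ) (hk : k < L) :
    dig p (∑ m ∈ Finset.range L, e m * p ^ m) k = e k := by
  unfold dig
  have hpos : 0 < p ^ k := Nat.pos_of_ne_zero (pow_ne_zero _ (by omega))
  induction L with
  | zero => omega
  | succ L ih =>
    rw [Finset.sum_range_succ]
    rcases Nat.lt_succ_iff_lt_or_eq.mp hk with h | h
    · have hd : p ^ L = p ^ (L - k) * p ^ k := by rw [← pow_add]; congr 1; omega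
      rw [hd, ← mul_assoc, Nat.add_mul_div_right _ _ hpos]
      have hpp : p ∣ e L * p ^ (L - k) := by
        apply Dvd.dvd.mul_left
        exact dvd_pow_self p (by omega)
      obtain ⟨c, hc⟩ := hpp
      rw [hc, Nat.add_mul_mod_self_left]
      exact ih h
    · subst h
      rw [Nat.add_mul_div_right _ _ hpos, Nat.div_eq_of_lt (sum_lt_pow p hp e he k), zero_add]
      exact Nat.mod_eq_of_lt (he k)

/-- the digit base of the codes -/
def W : ℕ := 65536

theorem one_lt_W : 1 < W := by decide

/-- a block of `n` digits starting at position `s` -/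
theorem block_eq (B : ℕ) (N s n : ℕ) :
    N / B ^ s % B ^ n = ∑ k ∈ Finset.range n, dig B N (s + k) * B ^ k := by
  induction n with
  | zero => simp [Nat.mod_one]
  | succ n ih =>
    rw [Nat.mod_pow_succ, ih, Finset.sum_range_succ]
    congr 1
    unfold dig
    rw [Nat.div_div_eq_div_mul, ← pow_add, mul_comm]

theorem mod_pow_div_mod (B x n k : ℕ) (hB : 0 < B) (hk : k < n) :
    x % B ^ n / B ^ k % B = x / B ^ k % B := by
  have h1 : x % B ^ n = x % B ^ k + B ^ k * (x / B ^ k % B ^ (n - k)) := by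
    have : n = k + (n - k) := by omega
    conv_lhs => rw [this, pow_add]
    exact Nat.mod_mul
  have hpos : 0 < B ^ k := Nat.pos_of_ne_zero (pow_ne_zero _ (by omega))
  rw [h1, Nat.add_mul_div_left _ _ hpos, Nat.div_eq_of_lt (Nat.mod_lt _ hpos), zero_add]
  have h2 : n - k = (n - k - 1) + 1 := by omega
  rw [h2, pow_succ, Nat.mod_mul_left_mod]

variable (n p : ℕ)

/-- the matrix coded by `N` -/
def dec (N : ℕ) : Matrix (Fin n) (Fin n) (ZMod p) := fun i j => ((dig W N (n * i + j) : ℕ) : ZMod p)

/-- all the digits of the code are `< p` -/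
def Canon (N : ℕ) : Prop := ∀ m, m < n * n → dig W N m < p

/-- the unreduced `i`-th row of the product -/
def rawRow (a b i : ℕ) : ℕ := sumTo n (fun j => (dig W a (n * i + j) % p) * (b / W ^ (n * j) % W ^ n))

/-- reduction of the digits of a row modulo `p` -/
def redRow (S : ℕ) : ℕ := sumTo n (fun k => (dig W S k % p) * W ^ k)

/-- the code of the product -/
def mulN (a b : ℕ) : ℕ := sumTo n (fun i => redRow n p (rawRow n p a b i) * W ^ (n * i))

/-- the `(i, k)` entry of the product, unreduced -/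
def ent (a b i k : ℕ) : ℕ := ∑ j ∈ Finset.range n, (dig W a (n * i + j) % p) * dig W b (n * j + k)

theorem rawRow_eq (a b i : ℕ) :
    rawRow n p a b i = ∑ k ∈ Finset.range n, ent n p a b i k * W ^ k := by
  unfold rawRow ent
  rw [sumTo_eq]
  simp_rw [block_eq, Finset.mul_sum, Finset.sum_mul]
  rw [Finset.sum_comm]
  apply Finset.sum_congr rfl
  intro k _
  apply Finset.sum_congr rfl
  intro j _
  rw [mul_assoc]

theorem ent_lt (hp : 0 < p) (hbound : n * ((p - 1) * (p - 1)) < W) (a b : ℕ) (hb : Canon n p b)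
    (i k : ℕ) (hk : k < n) : ent n p a b i k < W := by
  unfold ent
  have h1 : ∀ j ∈ Finset.range n, (dig W a (n * i + j) % p) * dig W b (n * j + k) ≤ (p - 1) * (p - 1) := by
    intro j hj
    have hj' : j < n := Finset.mem_range.mp hj
    have h2 : dig W a (n * i + j) % p ≤ p - 1 := Nat.le_pred_of_lt (Nat.mod_lt _ hp)
    have h3 : dig W b (n * j + k) ≤ p - 1 := by
      apply Nat.le_pred_of_lt
      apply hb
      calc n * j + k < n * j + n := by omega
        _ = n * (j + 1) := by ring
        _ ≤ n * n := Nat.mul_le_mul_left _ hj'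
    exact Nat.mul_le_mul h2 h3
  have := Finset.sum_le_sum h1
  rw [Finset.sum_const, Finset.card_range, smul_eq_mul] at this
  omega

theorem dig_rawRow (hp : 0 < p) (hbound : n * ((p - 1) * (p - 1)) < W) (a b : ℕ) (hb : Canon n p b)
    (i k : ℕ) (hk : k < n) : dig W (rawRow n p a b i) k = ent n p a b i k := by
  rw [rawRow_eq]
  have : ∑ k ∈ Finset.range n, ent n p a b i k * W ^ k =
      ∑ k ∈ Finset.range n, (fun k => if k < n then ent n p a b i k else 0) k * W ^ k := by
    apply Finset.sum_congr rfl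
    intro k hk
    dsimp only
    rw [if_pos (Finset.mem_range.mp hk)]
  rw [this, dig_sum W one_lt_W _ _ n k hk, if_pos hk]
  intro m
  by_cases hm : m < n
  · rw [if_pos hm]; exact ent_lt n p hp hbound a b hb i m hm
  · rw [if_neg hm]; decide

theorem redRow_eq (S : ℕ) : redRow n p S = ∑ k ∈ Finset.range n, (dig W S k % p) * W ^ k := by
  unfold redRow
  rw [sumTo_eq]

theorem redRow_lt (hp : 0 < p) (hpW : p ≤ W) (S : ℕ) : redRow n p S < W ^ n := by
  rw [redRow_eq]
  apply sum_lt_pow W one_lt_W (fun k => dig W S k % p)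
  intro m
  exact lt_of_lt_of_le (Nat.mod_lt _ hp) hpW

theorem dig_redRow (hp : 0 < p) (hpW : p ≤ W) (S k : ℕ) (hk : k < n) :
    dig W (redRow n p S) k = dig W S k % p := by
  rw [redRow_eq]
  exact dig_sum W one_lt_W (fun k => dig W S k % p)
    (fun m => lt_of_lt_of_le (Nat.mod_lt _ hp) hpW) n k hk

theorem dig_mulN (hp : 0 < p) (hpW : p ≤ W) (a b : ℕ) (i k : ℕ) (hi : i < n) (hk : k < n) :
    dig W (mulN n p a b) (n * i + k) = dig W (rawRow n p a b i) k % p := by
  have hn : 0 < n := by omega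
  have h1 : mulN n p a b = ∑ i ∈ Finset.range n, redRow n p (rawRow n p a b i) * (W ^ n) ^ i := by
    unfold mulN
    rw [sumTo_eq]
    apply Finset.sum_congr rfl
    intro i _
    rw [pow_mul]
  have hWn : 1 < W ^ n := Nat.one_lt_pow (by omega) one_lt_W
  have h2 : dig (W ^ n) (mulN n p a b) i = redRow n p (rawRow n p a b i) := by
    rw [h1]
    exact dig_sum (W ^ n) hWn (fun i => redRow n p (rawRow n p a b i))
      (fun m => redRow_lt n p hp hpW _) n i hi
  have h3 : dig W (mulN n p a b) (n * i + k) =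
      dig W (dig (W ^ n) (mulN n p a b) i) k := by
    unfold dig
    rw [mod_pow_div_mod W _ n k (by decide) hk, Nat.div_div_eq_div_mul, ← pow_mul, ← pow_add]
  rw [h3, h2, dig_redRow n p hp hpW _ k hk]

theorem canon_mulN (hp : 0 < p) (hpW : p ≤ W) (a b : ℕ) : Canon n p (mulN n p a b) := by
  intro m hm
  have hn : 0 < n := by
    rcases Nat.eq_zero_or_pos n with h | h
    · subst h; simp at hm
    · exact h
  have h1 : m = n * (m / n) + m % n := (Nat.div_add_mod m n).symm
  have h2 : m / n < n := Nat.div_lt_of_lt_mul hm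
  have h3 : m % n < n := Nat.mod_lt _ hn
  rw [h1, dig_mulN n p hp hpW a b _ _ h2 h3]
  exact Nat.mod_lt _ hp

theorem dec_mulN (hp : 0 < p) (hpW : p ≤ W) (hbound : n * ((p - 1) * (p - 1)) < W) (a b : ℕ)
    (hb : Canon n p b) : dec n p (mulN n p a b) = dec n p a * dec n p b := by
  ext i k
  rw [Matrix.mul_apply]
  show ((dig W (mulN n p a b) (n * i + k) : ℕ) : ZMod p) = _
  rw [dig_mulN n p hp hpW a b i k i.2 k.2, dig_rawRow n p hp hbound a b hb i k k.2, ZMod.natCast_mod, ent,
    Nat.cast_sum, Finset.sum_range]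
  apply Finset.sum_congr rfl
  intro j _
  rw [Nat.cast_mul, ZMod.natCast_mod]
  rfl

end Cfsg.Agent.Lib.Helper1.MatCode
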