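import Cfsg.Agent.Lib.Helper1.MatCode3

set_option autoImplicit false

namespace Cfsg.Agent.Lib.Helper1.MatCode

/-- unrolled raw row for `7 × 7` matrices over `ZMod 11` -/
def rawRow7 (a b i : ℕ) : ℕ := (((((((0 + dig W a (7 * i + 0) % 11 * (b / W ^ (7 * 0) % W ^ 7)) + dig W a (7 * i + 1) % 11 * (b / W ^ (7 * 1) % W ^ 7)) + dig W a (7 * i + 2) % 11 * (b / W ^ (7 * 2) % W ^ 7)) + dig W a (7 * i + 3) % 11 * (b / W ^ (7 * 3) % W ^ 7)) + dig W a (7 * i + 4) % 11 * (b / W ^ (7 * 4) % W ^ 7)) + dig W a (7 * i + 5) % 11 * (b / W ^ (7 * 5) % W ^ 7)) + dig W a (7 * i + 6) % 11 * (b / W ^ (7 * 6) % W ^ 7))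

/-- unrolled digit reduction -/
def redRow7 (S : ℕ) : ℕ := (((((((0 + dig W S 0 % 11 * W ^ 0) + dig W S 1 % 11 * W ^ 1) + dig W S 2 % 11 * W ^ 2) + dig W S 3 % 11 * W ^ 3) + dig W S 4 % 11 * W ^ 4) + dig W S 5 % 11 * W ^ 5) + dig W S 6 % 11 * W ^ 6)

/-- unrolled product -/
def mul7 (a b : ℕ) : ℕ := (((((((0 + redRow7 (rawRow7 a b 0) * W ^ (7 * 0)) + redRow7 (rawRow7 a b 1) * W ^ (7 * 1)) + redRow7 (rawRow7 a b 2) * W ^ (7 * 2)) + redRow7 (rawRow7 a b 3) * W ^ (7 * 3)) + redRow7 (rawRow7 a b 4) * W ^ (7 * 4)) + redRow7 (rawRow7 a b 5) * W ^ (7 * 5)) + redRow7 (rawRow7 a b 6) * W ^ (7 * 6))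

theorem rawRow7_eq (a b i : ℕ) : rawRow7 a b i = rawRow 7 11 a b i := rfl

theorem redRow7_eq (S : ℕ) : redRow7 S = redRow 7 11 S := rfl

theorem mul7_eq (a b : ℕ) : mul7 a b = mulN 7 11 a b := rfl

end Cfsg.Agent.Lib.Helper1.MatCode
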