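import Mathlib
import Cfsg.Agent.Lib.Helper9.SLRoot2
import Cfsg.Agent.Lib.Lead.MinIdxDefs

/-!
# S2140, package W2c: no `M`-invariant "spread" of transvection axes

If for every `x ≠ 0` the functionals `φ ⟂ x` with `tv x φ 1 ∈ M` are exactly those vanishing on a
2-dimensional space `span {x, z}`, then `n ≤ 2`.
-/

set_option autoImplicit false

namespace Cfsg.Agent.Lib.Lead.MinIdx

open Matrix Cfsg.Agent.H9SLRoot Module

variable {F : Type*} [Field F] {n : ℕ}

/-- `K_x^⊥`: the vectors killed by every `φ ⟂ x` with `tv x φ 1 ∈ M`. -/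
def w2cL (M : Subgroup (Matrix.SpecialLinearGroup (Fin n) F)) (x : Fin n → F) :
    Submodule F (Fin n → F) where
  carrier := {v | ∀ φ : Fin n → F, φ ⬝ᵥ x = 0 → tv x φ 1 ∈ M → φ ⬝ᵥ v = 0}
  add_mem' := by
    intro a b ha hb φ h1 h2
    rw [dotProduct_add, ha φ h1 h2, hb φ h1 h2, add_zero]
  zero_mem' := by
    intro φ _ _
    simp
  smul_mem' := by
    intro c a ha φ h1 h2
    rw [dotProduct_smul, ha φ h1 h2, smul_zero]

theorem w2c_mem {M : Subgroup (Matrix.SpecialLinearGroup (Fin n) F)} {x v : Fin n → F} :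
    v ∈ w2cL M x ↔ ∀ φ : Fin n → F, φ ⬝ᵥ x = 0 → tv x φ 1 ∈ M → φ ⬝ᵥ v = 0 := Iff.rfl

theorem w2c_self_mem (M : Subgroup (Matrix.SpecialLinearGroup (Fin n) F)) (x : Fin n → F) :
    x ∈ w2cL M x := fun _ h1 _ => h1

/-- description of `w2cL M x` from the spread hypothesis at `x` -/
theorem w2c_eq_span {M : Subgroup (Matrix.SpecialLinearGroup (Fin n) F)} {x z : Fin n → F}
    (h : ∀ φ : Fin n → F, φ ⬝ᵥ x = 0 → (tv x φ 1 ∈ M ↔ φ ⬝ᵥ z = 0)) :
    w2cL M x = Submodule.span F {x, z} := by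
  apply le_antisymm
  · intro v hv
    by_contra hnot
    obtain ⟨f, hfv, hf⟩ := Submodule.exists_dual_map_eq_bot_of_notMem hnot inferInstance
    have hker : ∀ u ∈ Submodule.span F {x, z}, f u = 0 := by
      intro u hu
      have : f u ∈ (Submodule.span F {x, z}).map f := Submodule.mem_map_of_mem hu
      rw [hf] at this
      exact (Submodule.mem_bot F).mp this
    have hfx : f x = 0 := hker x (Submodule.subset_span (by simp))
    have hfz : f z = 0 := hker z (Submodule.subset_span (by simp))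
    set φ : Fin n → F := fun i => f (Pi.single i 1) with hφ
    have e1 : φ ⬝ᵥ x = 0 := by rw [hφ, ← dual_eq_dot, hfx]
    have e2 : φ ⬝ᵥ z = 0 := by rw [hφ, ← dual_eq_dot, hfz]
    have e3 : φ ⬝ᵥ v = 0 := hv φ e1 ((h φ e1).mpr e2)
    apply hfv
    rw [dual_eq_dot]
    exact e3
  · rw [Submodule.span_le]
    intro u hu
    rcases hu with rfl | hu
    · exact w2c_self_mem M _
    · rw [Set.mem_singleton_iff] at hu
      subst hu
      intro φ h1 h2
      exact (h φ h1).mp h2

theorem w2c_finrank_pair {x z : Fin n → F} (hx : x ≠ 0) (hz : z ∉ Submodule.span F {x}) :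
    finrank F (Submodule.span F ({x, z} : Set (Fin n → F))) = 2 := by
  have hli : LinearIndependent F ![z, x] := by
    rw [linearIndependent_fin2]
    refine ⟨by simpa using hx, ?_⟩
    intro a ha
    apply hz
    rw [Submodule.mem_span_singleton]
    exact ⟨a, by simpa using ha⟩
  have := finrank_span_eq_card hli
  have hr : Set.range ![z, x] = ({x, z} : Set (Fin n → F)) := by
    ext u
    simp only [Set.mem_range, Fin.exists_fin_two, Set.mem_insert_iff, Set.mem_singleton_iff]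
    simp [eq_comm, or_comm]
  rw [hr] at this
  simpa using this

/-- equivariance: `m • L(x) ⊆ L(m x)` for `m ∈ M` -/
theorem w2c_equiv {M : Subgroup (Matrix.SpecialLinearGroup (Fin n) F)}
    {m : Matrix.SpecialLinearGroup (Fin n) F} (hm : m ∈ M) {x v : Fin n → F}
    (hv : v ∈ w2cL M x) :
    (m : Matrix (Fin n) (Fin n) F) *ᵥ v ∈ w2cL M ((m : Matrix (Fin n) (Fin n) F) *ᵥ x) := by
  intro φ h1 h2
  set ψ : Fin n → F := φ ᵥ* (m : Matrix (Fin n) (Fin n) F) with hψ
  have e1 : ψ ⬝ᵥ x = 0 := by rw [hψ, ← Matrix.dotProduct_mulVec]; exact h1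
  have e2 : m * tv x ψ 1 * m⁻¹ = tv ((m : Matrix (Fin n) (Fin n) F) *ᵥ x) φ 1 := by
    rw [tv_conj, hψ, vecMul_vecMul_inv]
  have e3 : tv x ψ 1 ∈ M := by
    have h3 : m⁻¹ * (m * tv x ψ 1 * m⁻¹) * m ∈ M :=
      M.mul_mem (M.mul_mem (M.inv_mem hm) (e2 ▸ h2)) hm
    have h4 : m⁻¹ * (m * tv x ψ 1 * m⁻¹) * m = tv x ψ 1 := by group
    rwa [h4] at h3
  have e4 := hv ψ e1 e3
  rw [hψ, ← Matrix.dotProduct_mulVec] at e4
  exact e4

/-- scaling: `L(c x) = L(x)` -/
theorem w2c_smul_le (M : Subgroup (Matrix.SpecialLinearGroup (Fin n) F)) {c : F} (hc : c ≠ 0)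
    (x : Fin n → F) : w2cL M x ≤ w2cL M (c • x) := by
  intro v hv φ h1 h2
  have e1 : φ ⬝ᵥ x = 0 := by
    rw [dotProduct_smul, smul_eq_mul] at h1
    exact (mul_eq_zero.mp h1).resolve_left hc
  have e2 : tv (c • x) φ 1 = tv x (c • φ) 1 := by
    have a1 := tv_smul c 1 x φ (1 : F)
    have a2 := tv_smul 1 c x φ (1 : F)
    rw [one_smul] at a1 a2
    rw [a1, a2, mul_one, one_mul]
  have e3 : (c • φ) ⬝ᵥ x = 0 := by rw [smul_dotProduct, e1, smul_zero]
  have e4 := hv (c • φ) e3 (e2 ▸ h2)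
  rw [smul_dotProduct, smul_eq_mul] at e4
  exact (mul_eq_zero.mp e4).resolve_left hc

theorem w2c_smul (M : Subgroup (Matrix.SpecialLinearGroup (Fin n) F)) {c : F} (hc : c ≠ 0)
    (x : Fin n → F) : w2cL M (c • x) = w2cL M x := by
  apply le_antisymm
  · have h := w2c_smul_le M (inv_ne_zero hc) (c • x)
    rwa [smul_smul, inv_mul_cancel₀ hc, one_smul] at h
  · exact w2c_smul_le M hc x

section main

variable {M : Subgroup (Matrix.SpecialLinearGroup (Fin n) F)}
  (hSP : ∀ x : Fin n → F, x ≠ 0 → ∃ z : Fin n → F, z ∉ Submodule.span F {x} ∧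
      ∀ φ : Fin n → F, φ ⬝ᵥ x = 0 → (tv x φ 1 ∈ M ↔ φ ⬝ᵥ z = 0))

include hSP

theorem w2c_finrank {x : Fin n → F} (hx : x ≠ 0) : finrank F (w2cL M x) = 2 := by
  obtain ⟨z, hz, h⟩ := hSP x hx
  rw [w2c_eq_span h]
  exact w2c_finrank_pair hx hz

/-- (C): if `0 ≠ r ∈ L(x)` then `L(r) = L(x)` -/
theorem w2c_C {x r : Fin n → F} (hx : x ≠ 0) (hr : r ≠ 0) (hrx : r ∈ w2cL M x) :
    w2cL M r = w2cL M x := by
  by_cases hspan : r ∈ Submodule.span F {x}
  · obtain ⟨c, rfl⟩ := Submodule.mem_span_singleton.mp hspan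
    have hc : c ≠ 0 := by
      rintro rfl
      exact hr (zero_smul _ _)
    exact w2c_smul M hc x
  · have hxr : x ∉ Submodule.span F {r} := by
      intro hmem
      obtain ⟨c, hc⟩ := Submodule.mem_span_singleton.mp hmem
      have hc0 : c ≠ 0 := by
        rintro rfl
        exact hx (by rw [← hc, zero_smul])
      apply hspan
      rw [Submodule.mem_span_singleton]
      exact ⟨c⁻¹, by rw [← hc, smul_smul, inv_mul_cancel₀ hc0, one_smul]⟩
    have hle : w2cL M r ≤ w2cL M x := by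
      by_contra hnle
      obtain ⟨y, hyr, hyx⟩ := SetLike.not_le_iff_exists.mp hnle
      have hyx' := hyx
      rw [w2c_mem] at hyx'
      push Not at hyx'
      obtain ⟨φ, h1, h2, h3⟩ := hyx'
      have hφr : φ ⬝ᵥ r = 0 := hrx φ h1 h2
      have htr : ((tv x φ 1 : Matrix.SpecialLinearGroup (Fin n) F) : Matrix (Fin n) (Fin n) F) *ᵥ r
          = r := by
        rw [tv_mulVec h1, hφr, mul_zero, zero_smul, add_zero]
      have hty := w2c_equiv h2 hyr
      rw [htr, tv_mulVec h1, one_mul] at hty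
      have hx_r : x ∈ w2cL M r := by
        have h4 := (w2cL M r).sub_mem hty hyr
        rw [add_sub_cancel_left] at h4
        have h5 := (w2cL M r).smul_mem (φ ⬝ᵥ y)⁻¹ h4
        rwa [smul_smul, inv_mul_cancel₀ h3, one_smul] at h5
      have h6 : Submodule.span F ({r, x} : Set (Fin n → F)) ≤ w2cL M r := by
        rw [Submodule.span_le]
        intro u hu
        rcases hu with rfl | hu
        · exact w2c_self_mem M _
        · rw [Set.mem_singleton_iff] at hu
          subst hu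
          exact hx_r
      have h7 : Submodule.span F ({r, x} : Set (Fin n → F)) = w2cL M r :=
        Submodule.eq_of_le_of_finrank_eq h6 (by
          rw [w2c_finrank_pair hr hxr, w2c_finrank hSP hr])
      have h8 : Submodule.span F ({r, x} : Set (Fin n → F)) ≤ w2cL M x := by
        rw [Submodule.span_le]
        intro u hu
        rcases hu with rfl | hu
        · exact hrx
        · rw [Set.mem_singleton_iff] at hu
          subst hu
          exact w2c_self_mem M _
      exact hyx (h8 (h7 ▸ hyr))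
    exact Submodule.eq_of_le_of_finrank_eq hle (by
      rw [w2c_finrank hSP hr, w2c_finrank hSP hx])

end main

theorem no_spread (hn : 3 ≤ n) (M : Subgroup (Matrix.SpecialLinearGroup (Fin n) F))
    (hSP : ∀ x : Fin n → F, x ≠ 0 → ∃ z : Fin n → F, z ∉ Submodule.span F {x} ∧
      ∀ φ : Fin n → F, φ ⬝ᵥ x = 0 → (tv x φ 1 ∈ M ↔ φ ⬝ᵥ z = 0)) : False := by
  have hn0 : 0 < n := by omega
  set x : Fin n → F := Pi.single ⟨0, hn0⟩ 1 with hxdef
  have hx : x ≠ 0 := by
    intro h0
    have := congrFun h0 ⟨0, hn0⟩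
    simp [hxdef] at this
  obtain ⟨v, hv⟩ : ∃ v, v ∉ w2cL M x := by
    by_contra hall
    push Not at hall
    have htop : w2cL M x = ⊤ := eq_top_iff.mpr (fun u _ => hall u)
    have h2 := w2c_finrank hSP hx
    rw [htop, finrank_top, Module.finrank_fin_fun] at h2
    omega
  have hv0 : v ≠ 0 := by
    rintro rfl
    exact hv (zero_mem _)
  obtain ⟨zv, hzv, hv'⟩ := hSP v hv0
  have eLv := w2c_eq_span hv'
  have hzvL : zv ∈ w2cL M v := by
    rw [eLv]; exact Submodule.subset_span (by simp)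
  have hle : w2cL M v ≤ w2cL M x := by
    intro w hw φ h1 h2
    by_contra hne
    set r : Fin n → F := (φ ⬝ᵥ zv) • v - (φ ⬝ᵥ v) • zv with hrdef
    have hrL : r ∈ w2cL M v :=
      (w2cL M v).sub_mem ((w2cL M v).smul_mem _ (w2c_self_mem M v)) ((w2cL M v).smul_mem _ hzvL)
    have hφr : φ ⬝ᵥ r = 0 := by
      rw [hrdef, dotProduct_sub, dotProduct_smul, dotProduct_smul, smul_eq_mul, smul_eq_mul]
      ring
    have hr0 : r ≠ 0 := by
      intro h0
      rw [hrdef, sub_eq_zero] at h0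
      have hφv : φ ⬝ᵥ v = 0 := by
        by_contra hφv
        apply hzv
        rw [Submodule.mem_span_singleton]
        refine ⟨(φ ⬝ᵥ v)⁻¹ * (φ ⬝ᵥ zv), ?_⟩
        rw [← smul_smul, h0, smul_smul, inv_mul_cancel₀ hφv, one_smul]
      have hφz : φ ⬝ᵥ zv = 0 := by
        rw [hφv, zero_smul] at h0
        exact (smul_eq_zero.mp h0).resolve_right hv0
      apply hne
      rw [eLv, Submodule.mem_span_pair] at hw
      obtain ⟨a, b, rfl⟩ := hw
      rw [dotProduct_add, dotProduct_smul, dotProduct_smul, hφv, hφz, smul_zero, smul_zero,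
        add_zero]
    have hC := w2c_C hSP hv0 hr0 hrL
    have htr : ((tv x φ 1 : Matrix.SpecialLinearGroup (Fin n) F) : Matrix (Fin n) (Fin n) F) *ᵥ r
        = r := by
      rw [tv_mulVec h1, hφr, mul_zero, zero_smul, add_zero]
    have hw' : w ∈ w2cL M r := by rw [hC]; exact hw
    have hty := w2c_equiv h2 hw'
    rw [htr, tv_mulVec h1, one_mul, hC] at hty
    have hx_v : x ∈ w2cL M v := by
      have h4 := (w2cL M v).sub_mem hty hw
      rw [add_sub_cancel_left] at h4
      have h5 := (w2cL M v).smul_mem (φ ⬝ᵥ w)⁻¹ h4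
      rwa [smul_smul, inv_mul_cancel₀ hne, one_smul] at h5
    have hC2 := w2c_C hSP hv0 hx hx_v
    apply hv
    rw [hC2]
    exact w2c_self_mem M v
  exact hv (hle (w2c_self_mem M v))

end Cfsg.Agent.Lib.Lead.MinIdx
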