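import Mathlib
import Cfsg.Agent.Lib.Helper9.SLRoot2
import Cfsg.Agent.Lib.Lead.MinIdxDefs

/-!
# S2140, package W3: `SL_3(q)` has no transvection-free subgroup of index `q^2`
-/

set_option autoImplicit false

namespace Cfsg.Agent.Lib.Lead.MinIdx

open Matrix Cfsg.Agent.H9SLRoot

section W3

variable {F : Type*} [Field F]

/-- upper unitriangular `3 × 3` matrices -/
def w3Um (a b c : F) : Matrix (Fin 3) (Fin 3) F := !![1, a, c; 0, 1, b; 0, 0, 1]

/-- `diag(-1,-1,1)` -/
def w3tm : Matrix (Fin 3) (Fin 3) F := !![-1, 0, 0; 0, -1, 0; 0, 0, 1]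

/-- upper unitriangular `3 × 3` matrices in `SL_3` -/
def w3U (a b c : F) : Matrix.SpecialLinearGroup (Fin 3) F :=
  ⟨w3Um a b c, by simp [w3Um, Matrix.det_fin_three]⟩

/-- `diag(-1,-1,1)` in `SL_3` -/
def w3t : Matrix.SpecialLinearGroup (Fin 3) F :=
  ⟨w3tm, by simp [w3tm, Matrix.det_fin_three]⟩

theorem coe_w3U (a b c : F) :
    ((w3U a b c : Matrix.SpecialLinearGroup (Fin 3) F) : Matrix (Fin 3) (Fin 3) F) = w3Um a b c :=
  rfl

theorem coe_w3t :
    ((w3t : Matrix.SpecialLinearGroup (Fin 3) F) : Matrix (Fin 3) (Fin 3) F) = w3tm := rfl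

theorem w3U_mul (a b c a' b' c' : F) :
    w3U a b c * w3U a' b' c' = w3U (a + a') (b + b') (c + c' + a * b') := by
  apply Subtype.ext
  rw [Matrix.SpecialLinearGroup.coe_mul, coe_w3U, coe_w3U, coe_w3U]
  ext i j
  fin_cases i <;> fin_cases j <;>
    simp [w3Um, Matrix.mul_apply, Fin.sum_univ_three] <;> ring

theorem w3U_zero : w3U (0 : F) 0 0 = 1 := by
  apply Subtype.ext
  rw [coe_w3U, Matrix.SpecialLinearGroup.coe_one]
  ext i j
  fin_cases i <;> fin_cases j <;> simp [w3Um]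

theorem w3U_eq_one_iff (a b c : F) : w3U a b c = 1 ↔ a = 0 ∧ b = 0 ∧ c = 0 := by
  constructor
  · intro h
    have h' := congrArg (fun g : Matrix.SpecialLinearGroup (Fin 3) F =>
      (g : Matrix (Fin 3) (Fin 3) F)) h
    simp only [coe_w3U, Matrix.SpecialLinearGroup.coe_one] at h'
    have h01 := congrFun (congrFun h' 0) 1
    have h12 := congrFun (congrFun h' 1) 2
    have h02 := congrFun (congrFun h' 0) 2
    simp [w3Um] at h01 h12 h02
    exact ⟨h01, h12, h02⟩
  · rintro ⟨rfl, rfl, rfl⟩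
    exact w3U_zero

theorem w3U_inv (a b c : F) : (w3U a b c)⁻¹ = w3U (-a) (-b) (a * b - c) := by
  rw [inv_eq_iff_mul_eq_one, w3U_mul, w3U_eq_one_iff]
  refine ⟨by ring, by ring, by ring⟩

theorem w3t_mul_self : (w3t : Matrix.SpecialLinearGroup (Fin 3) F) * w3t = 1 := by
  apply Subtype.ext
  rw [Matrix.SpecialLinearGroup.coe_mul, coe_w3t, Matrix.SpecialLinearGroup.coe_one]
  ext i j
  fin_cases i <;> fin_cases j <;>
    simp [w3tm, Matrix.mul_apply, Fin.sum_univ_three]

theorem w3t_conj (a b c : F) : w3t * w3U a b c * w3t⁻¹ = w3U a (-b) (-c) := by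
  have hinv : (w3t : Matrix.SpecialLinearGroup (Fin 3) F)⁻¹ = w3t :=
    inv_eq_of_mul_eq_one_left w3t_mul_self
  rw [hinv]
  apply Subtype.ext
  rw [Matrix.SpecialLinearGroup.coe_mul, Matrix.SpecialLinearGroup.coe_mul, coe_w3t, coe_w3U,
    coe_w3U]
  ext i j
  fin_cases i <;> fin_cases j <;>
    simp [w3tm, w3Um, Matrix.mul_apply, Fin.sum_univ_three]

theorem w3U_b_zero (a c : F) : w3U a 0 c = tv ![1, 0, 0] ![0, a, c] 1 := by
  have h : (![0, a, c] : Fin 3 → F) ⬝ᵥ ![1, 0, 0] = 0 := by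
    simp [dotProduct, Fin.sum_univ_three]
  apply Subtype.ext
  rw [tv_coe h, coe_w3U]
  ext i j
  fin_cases i <;> fin_cases j <;> simp [w3Um, tmat]

theorem w3U_a_zero (b c : F) : w3U 0 b c = tv ![c, b, 0] ![0, 0, 1] 1 := by
  have h : (![0, 0, 1] : Fin 3 → F) ⬝ᵥ ![c, b, 0] = 0 := by
    simp [dotProduct, Fin.sum_univ_three]
  apply Subtype.ext
  rw [tv_coe h, coe_w3U]
  ext i j
  fin_cases i <;> fin_cases j <;> simp [w3Um, tmat]

end W3

section main

variable {F : Type*} [Field F] [Fintype F]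

/-- pigeonhole: a subgroup of index `q^2` meets the unitriangular group (order `q^3`)
nontrivially -/
theorem w3_exists_U_mem (M' : Subgroup (Matrix.SpecialLinearGroup (Fin 3) F))
    (hidx : M'.index = Fintype.card F ^ 2) :
    ∃ a b c : F, w3U a b c ∈ M' ∧ w3U a b c ≠ 1 := by
  classical
  have hq : 1 < Fintype.card F := Fintype.one_lt_card
  have hfi : M'.FiniteIndex := ⟨by rw [hidx]; positivity⟩
  have hfin : Finite (Matrix.SpecialLinearGroup (Fin 3) F ⧸ M') :=
    Subgroup.finite_quotient_of_finiteIndex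
  let f : F × F × F → (Matrix.SpecialLinearGroup (Fin 3) F ⧸ M') :=
    fun p => ((w3U p.1 p.2.1 p.2.2 : Matrix.SpecialLinearGroup (Fin 3) F) :
      Matrix.SpecialLinearGroup (Fin 3) F ⧸ M')
  have hcard : Nat.card (Matrix.SpecialLinearGroup (Fin 3) F ⧸ M') < Nat.card (F × F × F) := by
    rw [← Subgroup.index_eq_card, hidx, Nat.card_prod, Nat.card_prod, Nat.card_eq_fintype_card]
    nlinarith
  have hninj : ¬ Function.Injective f := by
    intro hinj
    have := Nat.card_le_card_of_injective f hinj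
    omega
  rw [Function.Injective] at hninj
  push Not at hninj
  obtain ⟨p₁, p₂, heq, hne⟩ := hninj
  obtain ⟨a₁, b₁, c₁⟩ := p₁
  obtain ⟨a₂, b₂, c₂⟩ := p₂
  have hmem : (w3U a₁ b₁ c₁)⁻¹ * w3U a₂ b₂ c₂ ∈ M' := QuotientGroup.eq.mp heq
  rw [w3U_inv, w3U_mul] at hmem
  refine ⟨_, _, _, hmem, ?_⟩
  rw [Ne, w3U_eq_one_iff]
  rintro ⟨h1, h2, h3⟩
  apply hne
  have ea : a₂ = a₁ := by linear_combination h1
  have eb : b₂ = b₁ := by linear_combination h2
  have ec : c₂ = c₁ := by
    subst ea eb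
    linear_combination h3
  rw [ea, eb, ec]

theorem w3_main (M' : Subgroup (Matrix.SpecialLinearGroup (Fin 3) F))
    (hidx : M'.index = Fintype.card F ^ 2) (hTF : TransvFree M')
    (ht : (2 : F) ≠ 0 → w3t ∈ M') : False := by
  obtain ⟨a, b, c, hmem, hne⟩ := w3_exists_U_mem M' hidx
  have hd1 : ∀ u v : F, (![0, u, v] : Fin 3 → F) ⬝ᵥ ![1, 0, 0] = 0 := by
    intro u v
    simp [dotProduct, Fin.sum_univ_three]
  have hd2 : ∀ u v : F, (![0, 0, 1] : Fin 3 → F) ⬝ᵥ ![v, u, 0] = 0 := by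
    intro u v
    simp [dotProduct, Fin.sum_univ_three]
  have hb : b ≠ 0 := by
    rintro rfl
    apply hne
    rw [w3U_b_zero] at hmem ⊢
    exact hTF _ _ _ (hd1 a c) hmem
  have ha : a ≠ 0 := by
    rintro rfl
    apply hne
    rw [w3U_a_zero] at hmem ⊢
    exact hTF _ _ _ (hd2 b c) hmem
  by_cases h2 : (2 : F) = 0
  · have hsq : w3U a b c * w3U a b c ∈ M' := M'.mul_mem hmem hmem
    rw [w3U_mul] at hsq
    have e1 : a + a = 0 := by rw [← two_mul, h2, zero_mul]
    have e2 : b + b = 0 := by rw [← two_mul, h2, zero_mul]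
    have e3 : c + c + a * b = a * b := by rw [← two_mul, h2, zero_mul, zero_add]
    rw [e1, e2, e3, w3U_b_zero] at hsq
    have h3 := hTF _ _ _ (hd1 0 (a * b)) hsq
    rw [← w3U_b_zero, w3U_eq_one_iff] at h3
    exact mul_ne_zero ha hb h3.2.2
  · have ht' := ht h2
    have hconj : w3t * w3U a b c * w3t⁻¹ ∈ M' :=
      M'.mul_mem (M'.mul_mem ht' hmem) (M'.inv_mem ht')
    rw [w3t_conj] at hconj
    have he : (w3U a b c)⁻¹ * w3U a (-b) (-c) ∈ M' := M'.mul_mem (M'.inv_mem hmem) hconj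
    rw [w3U_inv, w3U_mul] at he
    have e1 : -a + a = 0 := by ring
    rw [e1, w3U_a_zero] at he
    have h3 := hTF _ _ _ (hd2 _ _) he
    rw [← w3U_a_zero, w3U_eq_one_iff] at h3
    have h4 : (2 : F) * b = 0 := by linear_combination -h3.2.1
    rcases mul_eq_zero.mp h4 with h5 | h5
    · exact h2 h5
    · exact hb h5

theorem no_transvFree_three (M : Subgroup (Matrix.SpecialLinearGroup (Fin 3) F))
    (hidx : M.index = Fintype.card F ^ 2) (hTF : TransvFree M) : False := by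
  classical
  by_cases h2 : (2 : F) = 0
  · exact w3_main M hidx hTF (fun h => absurd h2 h)
  · have hchar : ringChar F ≠ 2 := by
      intro h
      apply h2
      have := ringChar.Nat.cast_ringChar (R := F)
      rw [h] at this
      exact_mod_cast this
    have hq : Fintype.card F % 2 = 1 := FiniteField.odd_card_of_char_ne_two hchar
    have hodd : ¬ 2 ∣ Nat.card (Matrix.SpecialLinearGroup (Fin 3) F ⧸ M) := by
      rw [← Subgroup.index_eq_card, hidx]
      intro h
      have := Nat.prime_two.dvd_of_dvd_pow h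
      omega
    have hP : IsPGroup 2 (Subgroup.zpowers (w3t : Matrix.SpecialLinearGroup (Fin 3) F)) := by
      intro s
      refine ⟨1, ?_⟩
      obtain ⟨s, hs⟩ := s
      obtain ⟨k, rfl⟩ := Subgroup.mem_zpowers_iff.mp hs
      apply Subtype.ext
      simp only [pow_one, Subgroup.coe_pow, Subgroup.coe_one]
      rw [← zpow_natCast, ← _root_.zpow_mul, mul_comm, _root_.zpow_mul, zpow_natCast, pow_two,
        w3t_mul_self, _root_.one_zpow]
    obtain ⟨ω, hω⟩ := hP.nonempty_fixed_point_of_prime_not_dvd_card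
      (Matrix.SpecialLinearGroup (Fin 3) F ⧸ M) hodd
    obtain ⟨g, rfl⟩ := QuotientGroup.mk_surjective ω
    have hfix := hω ⟨w3t, Subgroup.mem_zpowers _⟩
    have hfix' : ((w3t * g : Matrix.SpecialLinearGroup (Fin 3) F) :
        Matrix.SpecialLinearGroup (Fin 3) F ⧸ M) = (g : Matrix.SpecialLinearGroup (Fin 3) F ⧸ M) :=
      hfix
    have hmem : (w3t * g)⁻¹ * g ∈ M := QuotientGroup.eq.mp hfix'
    have hinv : (w3t : Matrix.SpecialLinearGroup (Fin 3) F)⁻¹ = w3t :=
      inv_eq_of_mul_eq_one_left w3t_mul_self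
    have hmem' : g⁻¹ * w3t * g ∈ M := by
      rw [_root_.mul_inv_rev, hinv] at hmem
      exact hmem
    set M' : Subgroup (Matrix.SpecialLinearGroup (Fin 3) F) :=
      M.comap (MulAut.conj g⁻¹).toMonoidHom with hM'
    have hmemM' : ∀ h : Matrix.SpecialLinearGroup (Fin 3) F, h ∈ M' ↔ g⁻¹ * h * g ∈ M := by
      intro h
      rw [hM', Subgroup.mem_comap, MulEquiv.coe_toMonoidHom, MulAut.conj_apply, inv_inv]
    have hidx' : M'.index = Fintype.card F ^ 2 := by
      rw [hM', Subgroup.index_comap_of_surjective _ (MulEquiv.surjective _)]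
      exact hidx
    have hTF' : TransvFree M' := by
      intro x φ c hφ hm
      rw [hmemM'] at hm
      have h1 := tv_conj g⁻¹ x φ c
      rw [inv_inv] at h1
      rw [h1] at hm
      have h3 := hTF _ _ _ ((dot_conj g⁻¹ x φ).trans hφ) (by rwa [inv_inv])
      rw [inv_inv] at h3
      rw [← h1] at h3
      have h4 : tv x φ c = g * (g⁻¹ * tv x φ c * g) * g⁻¹ := by group
      rw [h4, h3, mul_one, mul_inv_cancel]
    exact w3_main M' hidx' hTF' (fun _ => (hmemM' _).mpr hmem')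

end main

end Cfsg.Agent.Lib.Lead.MinIdx
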