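import Mathlib
import Cfsg.Agent.Lib.Lead.MixCfg

/-!
# S4017, package P2 (part a): elementary consequences of `Cfg`

Paper proof: `notes/S4017_paper_lead.md`, section 1.
-/

namespace Cfsg.Agent.Lib.Helper1.Mix

open Cfsg.Agent.Lib.Lead.Mix
open Pointwise

universe u

variable {G : Type u} [Group G] [Finite G] {p a : ℕ} {Q : Subgroup G} {w : G}

theorem four_le_pow (h : Cfg G p a Q w) : 4 ≤ 2 ^ a := by
  calc 4 = 2 ^ 2 := by norm_num
    _ ≤ 2 ^ a := Nat.pow_le_pow_right (by norm_num) h.ha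

theorem three_le_p (h : Cfg G p a Q w) : 3 ≤ p := by
  have := four_le_pow h
  have := h.hpa
  omega

theorem p_ne_two (h : Cfg G p a Q w) : p ≠ 2 := by
  have := three_le_p h
  omega

theorem Q_isPGroup (h : Cfg G p a Q w) : IsPGroup 2 Q := IsPGroup.of_card h.Qcard

theorem pow_dvd_card (h : Cfg G p a Q w) : 2 ^ a ∣ Nat.card G := by
  rw [← h.Qcard]
  exact Subgroup.card_subgroup_dvd_card Q

theorem fact_two_of {n : ℕ} (a : ℕ) (hn : n ≠ 0) (h1 : 2 ^ a ∣ n) (h2 : ¬ 2 ^ (a + 1) ∣ n) :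
    n.factorization 2 = a := by
  have e1 := (Nat.Prime.pow_dvd_iff_le_factorization Nat.prime_two hn).mp h1
  have e2 : ¬ (a + 1 ≤ n.factorization 2) := fun hle =>
    h2 ((Nat.Prime.pow_dvd_iff_le_factorization Nat.prime_two hn).mpr hle)
  omega

theorem fact_two (h : Cfg G p a Q w) : (Nat.card G).factorization 2 = a :=
  fact_two_of a Nat.card_pos.ne' (pow_dvd_card h) h.Gcard

/-- `Q` is a Sylow `2`-subgroup: a `2`-subgroup containing `Q` is `Q`. -/
theorem two_sub_eq (h : Cfg G p a Q w) (H : Subgroup G) (hH : IsPGroup 2 H) (hQH : Q ≤ H) :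
    H = Q := by
  obtain ⟨n, hn⟩ := IsPGroup.iff_card.mp hH
  have h1 : 2 ^ n ∣ Nat.card G := hn ▸ Subgroup.card_subgroup_dvd_card H
  have h2 : n ≤ a := by
    by_contra hlt
    push Not at hlt
    exact h.Gcard ((Nat.pow_dvd_pow 2 hlt).trans h1)
  have h3 : Nat.card H ≤ Nat.card Q := by
    rw [hn, h.Qcard]
    exact Nat.pow_le_pow_right (by norm_num) h2
  exact (Subgroup.eq_of_le_of_card_ge hQH h3).symm

/-- a `2`-subgroup normalizing `Q` lies in `Q` -/
theorem two_sub_normalizer (h : Cfg G p a Q w) (H : Subgroup G) (hH : IsPGroup 2 H)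
    (hN : H ≤ Subgroup.normalizer (Q : Set G)) : H ≤ Q := by
  have h1 : IsPGroup 2 (H ⊔ Q : Subgroup G) := hH.to_sup_of_normal_right' (Q_isPGroup h) hN
  have h2 := two_sub_eq h (H ⊔ Q) h1 le_sup_right
  exact h2 ▸ le_sup_left

theorem isPGroup_zpowers_of_pow {X : Type*} [Group X] {ℓ : ℕ} (x : X) (k : ℕ)
    (hk : x ^ ℓ ^ k = 1) : IsPGroup ℓ (Subgroup.zpowers x) := by
  rintro ⟨g, hg⟩
  obtain ⟨i, rfl⟩ := Subgroup.mem_zpowers_iff.mp hg
  refine ⟨k, ?_⟩
  apply Subtype.ext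
  show (x ^ i) ^ ℓ ^ k = 1
  rw [← zpow_natCast, ← zpow_mul, mul_comm, zpow_mul, zpow_natCast, hk, one_zpow]

/-- a `2`-element normalizing `Q` lies in `Q` -/
theorem two_elt_normalizer (h : Cfg G p a Q w) (x : G)
    (hx : x ∈ Subgroup.normalizer (Q : Set G)) (k : ℕ) (hk : x ^ 2 ^ k = 1) : x ∈ Q :=
  two_sub_normalizer h _ (isPGroup_zpowers_of_pow x k hk) (Subgroup.zpowers_le.mpr hx)
    (Subgroup.mem_zpowers x)

/-- every `2`-subgroup is conjugate into `Q` -/
theorem conj_into_Q (h : Cfg G p a Q w) (H : Subgroup G) (hH : IsPGroup 2 H) :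
    ∃ g : G, ∀ x ∈ H, g * x * g⁻¹ ∈ Q := by
  have hcard : Nat.card Q = 2 ^ (Nat.card G).factorization 2 := by rw [fact_two h, h.Qcard]
  set S : Sylow 2 G := Sylow.ofCard Q hcard with hS
  obtain ⟨S', hS'⟩ := hH.exists_le_sylow
  obtain ⟨n, hn⟩ := MulAction.exists_smul_eq G S S'
  refine ⟨n⁻¹, fun x hx => ?_⟩
  have h1 : x ∈ (S' : Subgroup G) := hS' hx
  rw [← hn] at h1
  have h2 : x ∈ MulAut.conj n • (S : Subgroup G) := by
    rw [← Sylow.pointwise_smul_def]; exact h1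
  rw [Subgroup.mem_pointwise_smul_iff_inv_smul_mem] at h2
  have h3 : n⁻¹ * x * n ∈ (S : Subgroup G) := by
    simpa [MulAut.smul_def, mul_assoc] using h2
  simpa [hS] using h3

/-- a `2`-element has order at most `2` -/
theorem two_elt_sq (h : Cfg G p a Q w) (x : G) (k : ℕ) (hk : x ^ 2 ^ k = 1) : x ^ 2 = 1 := by
  obtain ⟨g, hg⟩ := conj_into_Q h _ (isPGroup_zpowers_of_pow x k hk)
  have h1 := h.Qexp _ (hg x (Subgroup.mem_zpowers x))
  rw [conj_pow] at h1
  have h2 : x ^ 2 = g⁻¹ * (g * x ^ 2 * g⁻¹) * g := by group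
  rw [h2, h1]; group

theorem Q_ne_bot (h : Cfg G p a Q w) : Q ≠ ⊥ := by
  intro hb
  have h1 := h.Qcard
  rw [hb, Subgroup.card_bot] at h1
  have := four_le_pow h
  omega

theorem exists_ne_one (h : Cfg G p a Q w) : ∃ x ∈ Q, x ≠ 1 :=
  (Subgroup.ne_bot_iff_exists_ne_one.mp (Q_ne_bot h)) |>.imp
    (fun x hx => ⟨x.2, fun h1 => hx (Subtype.ext h1)⟩) |>.elim
    (fun x hx => ⟨x.1, hx⟩)

omit [Finite G] in
theorem conj_pow_of_fix {x : G} (hfix : w * x * w⁻¹ = x) (i : ℕ) :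
    w ^ i * x * (w ^ i)⁻¹ = x := by
  have hc : Commute w x := by
    show w * x = x * w
    calc w * x = (w * x * w⁻¹) * w := by group
      _ = x * w := by rw [hfix]
  have := (hc.pow_left i).eq
  rw [this]; group

/-- `w` fixes no non-trivial element of `Q` -/
theorem w_fix (h : Cfg G p a Q w) (x : G) (hx : x ∈ Q) (hfix : w * x * w⁻¹ = x) : x = 1 := by
  by_contra hx1
  have hall : ∀ y ∈ Q, y = 1 ∨ y = x := by
    intro y hy
    by_cases hy1 : y = 1
    · exact Or.inl hy1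
    · obtain ⟨i, hi⟩ := h.wtr x hx hx1 y hy hy1
      rw [conj_pow_of_fix hfix] at hi
      exact Or.inr hi.symm
  have hsub : (Q : Set G) ⊆ {1, x} := by
    intro y hy
    rcases hall y hy with h1 | h1
    · exact Or.inl h1
    · exact Or.inr h1
  have hle : (Q : Set G).ncard ≤ 2 :=
    (Set.ncard_le_ncard hsub (Set.toFinite _)).trans (Set.ncard_insert_le _ _ |>.trans (by simp))
  have hc : Nat.card Q = (Q : Set G).ncard := (Nat.card_coe_set_eq (Q : Set G))
  have := four_le_pow h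
  have := h.Qcard
  omega

theorem w_ne_one (h : Cfg G p a Q w) : w ≠ 1 := by
  intro hw
  obtain ⟨x, hx, hx1⟩ := exists_ne_one h
  exact hx1 (w_fix h x hx (by rw [hw]; group))

theorem pdvd (h : Cfg G p a Q w) : p ∣ Nat.card G := by
  obtain ⟨k, hk⟩ := h.wp
  have hk0 : k ≠ 0 := by
    intro h0
    rw [h0, pow_zero, orderOf_eq_one_iff] at hk
    exact w_ne_one h hk
  exact ((dvd_pow_self p hk0).trans (hk ▸ dvd_refl _)).trans (orderOf_dvd_natCard w)

theorem nloc (h : Cfg G p a Q w) (X : Subgroup G) (hX0 : X ≠ ⊥) (hX1 : X ≠ ⊤) :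
    Subgroup.normalizer (X : Set G) ≠ ⊤ := by
  intro hN
  have : X.Normal := Subgroup.normalizer_eq_top_iff.mp hN
  rcases h.simp X this with h1 | h1
  · exact hX0 h1
  · exact hX1 h1

theorem Q_ne_top (h : Cfg G p a Q w) : Q ≠ ⊤ := by
  intro ht
  have h1 : Nat.card G = 2 ^ a := by
    rw [← h.Qcard, ht, Subgroup.card_top]
  have h2 := pdvd h
  rw [h1] at h2
  have h3 := (Nat.prime_dvd_prime_iff_eq h.hp Nat.prime_two).mp (h.hp.dvd_of_dvd_pow h2)
  exact p_ne_two h h3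

theorem normalizer_ne_top (h : Cfg G p a Q w) : Subgroup.normalizer (Q : Set G) ≠ ⊤ :=
  nloc h Q (Q_ne_bot h) (Q_ne_top h)

theorem Q_le_centralizer (h : Cfg G p a Q w) : Q ≤ Subgroup.centralizer (Q : Set G) := by
  intro x hx
  rw [Subgroup.mem_centralizer_iff]
  intro y hy
  exact h.Qab y hy x hx

theorem centralizer_ne_top (h : Cfg G p a Q w) : Subgroup.centralizer (Q : Set G) ≠ ⊤ := by
  intro ht
  apply normalizer_ne_top h
  rw [eq_top_iff, ← ht]
  exact Subgroup.centralizer_le_normalizer (Q : Set G)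

theorem w_mem_normalizer (h : Cfg G p a Q w) : w ∈ Subgroup.normalizer (Q : Set G) := by
  -- conjugation by `w` is an injective self-map of the finite set `Q`
  rw [Subgroup.mem_normalizer_iff]
  intro x
  refine ⟨h.wQ x, fun hx => ?_⟩
  have hinj : Function.Injective (fun y : Q => (⟨w * y * w⁻¹, h.wQ y y.2⟩ : Q)) := by
    intro y z hyz
    have : w * (y : G) * w⁻¹ = w * (z : G) * w⁻¹ := congrArg Subtype.val hyz
    apply Subtype.ext
    simpa using this
  obtain ⟨y, hy⟩ := (Finite.injective_iff_surjective.mp hinj) ⟨w * x * w⁻¹, hx⟩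
  have : w * (y : G) * w⁻¹ = w * x * w⁻¹ := congrArg Subtype.val hy
  have hyx : (y : G) = x := by simpa using this
  exact hyx ▸ y.2

/-- the order of a proper subgroup containing `Q` -/
theorem card_of_proper (h : Cfg G p a Q w) (X : Subgroup G) (hX : X ≠ ⊤) (hQX : Q ≤ X) :
    ∃ m : ℕ, Nat.card X = 2 ^ a * p ^ m := by
  set n := Nat.card X with hn
  have hn0 : n ≠ 0 := Nat.card_pos.ne'
  have hd : 2 ^ a ∣ n := by rw [← h.Qcard]; exact Subgroup.card_dvd_of_le hQX
  have hnG : n ∣ Nat.card G := Subgroup.card_subgroup_dvd_card X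
  have h2n : 2 ∣ n := (dvd_pow_self 2 (by have := h.ha; omega)).trans hd
  have hf2 : n.factorization 2 = a :=
    fact_two_of a hn0 hd (fun h3 => h.Gcard (h3.trans hnG))
  have hsplit := Nat.ordProj_mul_ordCompl_eq_self n 2
  rw [hf2] at hsplit
  set c := n / 2 ^ a with hc
  have hc0 : c ≠ 0 := by
    intro h0
    rw [h0, mul_zero] at hsplit
    exact hn0 hsplit.symm
  have hcn : c ∣ n := ⟨2 ^ a, by rw [mul_comm]; exact hsplit.symm⟩
  have hc2 : ¬ 2 ∣ c := by
    have := Nat.not_dvd_ordCompl Nat.prime_two hn0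
    rwa [hf2] at this
  have hcp : c = p ^ c.primeFactorsList.length := by
    apply Nat.eq_prime_pow_of_unique_prime_dvd hc0
    intro r hr hrc
    rcases h.prop X hX h2n r hr (hrc.trans hcn) with h1 | h1
    · exact absurd (h1 ▸ hrc) hc2
    · exact h1
  exact ⟨c.primeFactorsList.length, by rw [← hcp, hsplit]⟩

end Cfsg.Agent.Lib.Helper1.Mix
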