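import Mathlib
import Cfsg.Agent.Lib.Lead.MixCfg
import Cfsg.Agent.Lib.Helper1.MixP2a

/-!
# S4017, package P2 (part b): `N_G(Q)` acts semiregularly on `Q \ {1}` modulo `C_G(Q)`

Paper proof: `notes/S4017_paper_lead.md`, (1.3).
-/

namespace Cfsg.Agent.Lib.Helper1.Mix

open Cfsg.Agent.Lib.Lead.Mix

universe u

section orbit

variable {G : Type u} [Group G]

/-- conjugation by an element of the normalizer, as a permutation of the subgroup -/
def cperm (Q0 : Subgroup G) (g : G) (hg : g ∈ Subgroup.normalizer (Q0 : Set G)) :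
    Equiv.Perm Q0 where
  toFun x := ⟨g * x * g⁻¹, (Subgroup.mem_normalizer_iff.mp hg x).mp x.2⟩
  invFun x := ⟨g⁻¹ * x * g, by
    have := (Subgroup.mem_normalizer_iff.mp (inv_mem hg) x).mp x.2
    simpa using this⟩
  left_inv x := by ext; simp [mul_assoc]
  right_inv x := by ext; simp [mul_assoc]

theorem cperm_pow_apply (Q0 : Subgroup G) (g : G) (hg : g ∈ Subgroup.normalizer (Q0 : Set G))
    (i : ℕ) (x : Q0) : (((cperm Q0 g hg) ^ i) x : G) = g ^ i * x * (g ^ i)⁻¹ := by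
  induction i generalizing x with
  | zero => simp
  | succ n ih =>
    rw [pow_succ, Equiv.Perm.mul_apply, ih]
    simp only [cperm, Equiv.coe_fn_mk]
    rw [pow_succ]; group

theorem cperm_pow_orderOf (Q0 : Subgroup G) (g : G)
    (hg : g ∈ Subgroup.normalizer (Q0 : Set G)) :
    (cperm Q0 g hg) ^ orderOf g = 1 := by
  ext x
  rw [cperm_pow_apply, pow_orderOf_eq_one]
  simp

variable [Finite G]

/-- orbit counting: `|Q0| ≡ |C_{Q0}(g)|` modulo `p` for a `p`-element `g` normalizing `Q0` -/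
theorem card_modEq_card_cent {p : ℕ} [Fact p.Prime] (Q0 : Subgroup G) (g : G)
    (hg : g ∈ Subgroup.normalizer (Q0 : Set G)) {k : ℕ} (hk : orderOf g = p ^ k) :
    Nat.card Q0 ≡ Nat.card (Q0 ⊓ Subgroup.centralizer ({g} : Set G) : Subgroup G) [MOD p] := by
  classical
  set σ := cperm Q0 g hg with hσ
  have hpow : σ ^ p ^ k = 1 := by rw [← hk]; exact cperm_pow_orderOf Q0 g hg
  have hP : IsPGroup p (Subgroup.zpowers σ) := by
    rw [IsPGroup.iff_card, Nat.card_zpowers]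
    exact (Nat.dvd_prime_pow Fact.out).mp (orderOf_dvd_of_pow_eq_one hpow) |>.imp
      (fun j hj => hj.2)
  have h1 := hP.card_modEq_card_fixedPoints (α := Q0)
  refine h1.trans (Nat.ModEq.of_dvd (dvd_refl p) ?_)
  have : Nat.card (MulAction.fixedPoints (Subgroup.zpowers σ) Q0) =
      Nat.card (Q0 ⊓ Subgroup.centralizer ({g} : Set G) : Subgroup G) := by
    refine Nat.card_congr ⟨fun x => ⟨x.1.1, x.1.2, ?_⟩, fun y => ⟨⟨y.1, y.2.1⟩, ?_⟩, ?_, ?_⟩
    · show (x.1 : G) ∈ Subgroup.centralizer ({g} : Set G)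
      rw [Subgroup.mem_centralizer_singleton_iff]
      have := x.2 ⟨σ, Subgroup.mem_zpowers σ⟩
      have h2 : (σ x.1 : G) = x.1 := congrArg Subtype.val this
      simp only [hσ, cperm, Equiv.coe_fn_mk] at h2
      symm
      calc g * ↑x.1 = (g * ↑x.1 * g⁻¹) * g := by group
        _ = ↑x.1 * g := by rw [h2]
    · rintro ⟨τ, hτ⟩
      obtain ⟨i, rfl⟩ := Subgroup.mem_zpowers_iff.mp hτ
      have hfix : σ ⟨y.1, y.2.1⟩ = ⟨y.1, y.2.1⟩ := by
        ext
        simp only [hσ, cperm, Equiv.coe_fn_mk]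
        have := Subgroup.mem_centralizer_singleton_iff.mp y.2.2
        calc g * ↑y * g⁻¹ = (g * ↑y) * g⁻¹ := by group
          _ = (↑y * g) * g⁻¹ := by rw [← this]
          _ = ↑y := by group
      show (σ ^ i) ⟨y.1, y.2.1⟩ = ⟨y.1, y.2.1⟩
      exact Equiv.Perm.zpow_apply_eq_self_of_apply_eq_self hfix i
    · intro x; rfl
    · intro y; rfl
  rw [this]

end orbit

variable {G : Type u} [Group G] [Finite G] {p a : ℕ} {Q : Subgroup G} {w : G}

/-- a `p`-element of `N_G(Q)` commuting with some involution of `Q` centralizes `Q` -/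
theorem p_elt_centralizes (h : Cfg G p a Q w) (g : G)
    (hg : g ∈ Subgroup.normalizer (Q : Set G)) {k : ℕ} (hk : orderOf g = p ^ k)
    (t : G) (ht : t ∈ Q) (ht1 : t ≠ 1) (hgt : g * t = t * g) :
    g ∈ Subgroup.centralizer (Q : Set G) := by
  have : Fact p.Prime := ⟨h.hp⟩
  set D : Subgroup G := Q ⊓ Subgroup.centralizer ({g} : Set G) with hD
  have h1 := card_modEq_card_cent Q g hg hk
  have hDQ : D ≤ Q := inf_le_left
  have hdvd : Nat.card D ∣ 2 ^ a := h.Qcard ▸ Subgroup.card_dvd_of_le hDQ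
  obtain ⟨b, hba, hb⟩ := (Nat.dvd_prime_pow Nat.prime_two).mp hdvd
  have htD : t ∈ D := ⟨ht, by
    show t ∈ Subgroup.centralizer ({g} : Set G)
    rw [Subgroup.mem_centralizer_singleton_iff]
    exact hgt.symm⟩
  have hb0 : b ≠ 0 := by
    intro h0
    rw [h0, pow_zero, Subgroup.card_eq_one] at hb
    rw [hb, Subgroup.mem_bot] at htD
    exact ht1 htD
  -- `2 ^ b ≡ 1` modulo `p`
  have h2 : 2 ^ a ≡ 2 ^ b [MOD p] := by rw [← h.Qcard, ← hb]; exact h1
  have h3 : p ∣ 2 ^ a - 2 ^ b := (Nat.modEq_iff_dvd' (Nat.pow_le_pow_right (by norm_num) hba)).mp h2.symm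
  have hba' : b = a := by
    by_contra hne
    have hlt : b < a := lt_of_le_of_ne hba hne
    have h4 : 2 ^ b < 2 ^ a := Nat.pow_lt_pow_right (by norm_num) hlt
    have h5 : 0 < 2 ^ a - 2 ^ b := by omega
    have h6 := Nat.le_of_dvd h5 h3
    have h7 : 2 ≤ 2 ^ b := by
      calc 2 = 2 ^ 1 := by norm_num
        _ ≤ 2 ^ b := Nat.pow_le_pow_right (by norm_num) (Nat.one_le_iff_ne_zero.mpr hb0)
    have := h.hpa
    omega
  have hDeq : D = Q := by
    apply Subgroup.eq_of_le_of_card_ge hDQ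
    rw [hb, hba', h.Qcard]
  rw [Subgroup.mem_centralizer_iff]
  intro y hy
  have hyD : y ∈ D := hDeq ▸ hy
  exact Subgroup.mem_centralizer_singleton_iff.mp hyD.2

/-- (1.3) elements of `N_G(Q)` outside `C_G(Q)` commute with no involution of `Q` -/
theorem norm_fpf (h : Cfg G p a Q w) (m : G) (hm : m ∈ Subgroup.normalizer (Q : Set G))
    (hmC : m ∉ Subgroup.centralizer (Q : Set G)) (t : G) (ht : t ∈ Q) (ht1 : t ≠ 1) :
    m * t ≠ t * m := by
  intro hmt
  apply hmC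
  set M := Subgroup.normalizer (Q : Set G) with hM
  set C := Subgroup.centralizer (Q : Set G) with hC
  obtain ⟨k, hk⟩ := card_of_proper h M (normalizer_ne_top h) Subgroup.le_normalizer
  have hpow : m ^ (2 ^ a * p ^ k) = 1 := by
    have : (⟨m, hm⟩ : M) ^ Nat.card M = 1 := pow_card_eq_one'
    rw [hk] at this
    exact congrArg Subtype.val this
  -- the `p`-part
  have hu : m ^ 2 ^ a ∈ C := by
    have h1 : (m ^ 2 ^ a) ^ p ^ k = 1 := by rw [← pow_mul]; exact hpow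
    obtain ⟨j, -, hj⟩ := (Nat.dvd_prime_pow h.hp).mp (orderOf_dvd_of_pow_eq_one h1)
    refine p_elt_centralizes h _ (M.pow_mem hm _) hj t ht ht1 ?_
    exact ((Commute.pow_left (show Commute m t from hmt) _)).eq
  -- the `2`-part
  have hv : m ^ p ^ k ∈ C := by
    have h1 : (m ^ p ^ k) ^ 2 ^ a = 1 := by rw [← pow_mul, mul_comm]; exact hpow
    exact Q_le_centralizer h (two_elt_normalizer h _ (M.pow_mem hm _) a h1)
  -- Bezout
  have hcop : Nat.Coprime (2 ^ a) (p ^ k) :=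
    Nat.Coprime.pow _ _ ((Nat.coprime_primes Nat.prime_two h.hp).mpr (p_ne_two h).symm)
  have hbez := Nat.gcd_eq_gcd_ab (2 ^ a) (p ^ k)
  rw [hcop.gcd_eq_one] at hbez
  have hm1 : m = (m ^ 2 ^ a) ^ (Nat.gcdA (2 ^ a) (p ^ k)) * (m ^ p ^ k) ^ (Nat.gcdB (2 ^ a) (p ^ k)) := by
    rw [← zpow_natCast, ← zpow_natCast, ← zpow_mul, ← zpow_mul, ← zpow_add]
    have : ((2 ^ a : ℕ) : ℤ) * Nat.gcdA (2 ^ a) (p ^ k) + ((p ^ k : ℕ) : ℤ) * Nat.gcdB (2 ^ a) (p ^ k) = 1 := by
      rw [← hbez]; rfl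
    rw [this, zpow_one]
  rw [hm1]
  exact C.mul_mem (C.zpow_mem hu _) (C.zpow_mem hv _)

end Cfsg.Agent.Lib.Helper1.Mix
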