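import Mathlib
import Cfsg.Agent.Lib.Lead.MixCfg
import Cfsg.Agent.Lib.Helper1.MixP2b

/-!
# S4017, package P2 (part c): normal `2`-complements (Burnside), `C_G(Q) = Q × P₁`,
`C_G(t) = K_t ⋊ Q`

Paper proof: `notes/S4017_paper_lead.md`, (1.2) and (1.5).
-/

namespace Cfsg.Agent.Lib.Helper1.Mix

open Cfsg.Agent.Lib.Lead.Mix

universe u

variable {G : Type u} [Group G] [Finite G] {p a : ℕ} {Q : Subgroup G} {w : G}

/-- Burnside: a proper subgroup `X ⊇ Q` with `N_X(Q) ≤ C_X(Q)` is `K ⋊ Q`, where `K` is a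
`p`-group containing all `p`-elements of `X`. -/
theorem normal_complement (h : Cfg G p a Q w) (X : Subgroup G) (hX : X ≠ ⊤) (hQX : Q ≤ X)
    (hNC : ∀ m ∈ X, m ∈ Subgroup.normalizer (Q : Set G) →
      m ∈ Subgroup.centralizer (Q : Set G)) :
    ∃ K : Subgroup G, K ≤ X ∧ IsPGroup p K ∧
      (∀ x ∈ X, (∃ k : ℕ, orderOf x = p ^ k) → x ∈ K) ∧
      Nat.card X = 2 ^ a * Nat.card K := by
  have hpf : Fact p.Prime := ⟨h.hp⟩
  obtain ⟨m, hm⟩ := card_of_proper h X hX hQX
  set Q' : Subgroup X := Q.subgroupOf X with hQ'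
  have hQ'card : Nat.card Q' = 2 ^ a := by
    rw [← h.Qcard]
    exact Nat.card_congr (Subgroup.subgroupOfEquivOfLe hQX).toEquiv
  have hfac : (Nat.card X).factorization 2 = a := by
    apply fact_two_of a Nat.card_pos.ne'
    · rw [hm]; exact dvd_mul_right _ _
    · intro h3
      exact h.Gcard (h3.trans (Subgroup.card_subgroup_dvd_card X))
  set P : Sylow 2 X := Sylow.ofCard Q' (by rw [hQ'card, hfac]) with hP
  have hPQ : (P : Subgroup X) = Q' := rfl
  have hNP : Subgroup.normalizer ((P : Subgroup X) : Set X) ≤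
      Subgroup.centralizer ((P : Subgroup X) : Set X) := by
    intro x hx
    rw [hPQ] at hx ⊢
    have key : ∀ y : X, y ∈ Subgroup.normalizer (Q' : Set X) →
        ∀ g ∈ Q, (y : G) * g * (y : G)⁻¹ ∈ Q := by
      intro y hy g hg
      have h1 : (⟨g, hQX hg⟩ : X) ∈ Q' := Subgroup.mem_subgroupOf.mpr hg
      have h2 := (Subgroup.mem_normalizer_iff.mp hy ⟨g, hQX hg⟩).mp h1
      exact Subgroup.mem_subgroupOf.mp h2
    have hxN : (x : G) ∈ Subgroup.normalizer (Q : Set G) := by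
      rw [Subgroup.mem_normalizer_iff]
      intro g
      refine ⟨key x hx g, fun hg => ?_⟩
      have := key x⁻¹ (inv_mem hx) _ hg
      simpa [mul_assoc] using this
    have hxC := hNC x x.2 hxN
    rw [Subgroup.mem_centralizer_iff] at hxC ⊢
    intro y hy
    apply Subtype.ext
    exact hxC y (Subgroup.mem_subgroupOf.mp hy)
  set f := MonoidHom.transferSylow P hNP with hf
  set K' : Subgroup X := f.ker with hK'
  have hcomp : Subgroup.IsComplement' K' (P : Subgroup X) :=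
    MonoidHom.ker_transferSylow_isComplement' P hNP
  have hcard := hcomp.card_mul_card
  have hPcard : Nat.card (P : Subgroup X) = 2 ^ a := hQ'card
  have hK'card : Nat.card K' = p ^ m := by
    rw [hPcard, hm, mul_comm] at hcard
    exact Nat.eq_of_mul_eq_mul_left (by positivity) hcard
  have hK'p : IsPGroup p K' := IsPGroup.of_card hK'card
  refine ⟨K'.map X.subtype, Subgroup.map_subtype_le K', hK'p.map _, ?_, ?_⟩
  · rintro x hx ⟨k, hk⟩
    refine ⟨⟨x, hx⟩, ?_, rfl⟩
    show (⟨x, hx⟩ : X) ∈ f.ker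
    rw [MonoidHom.mem_ker]
    have h1 : orderOf (⟨x, hx⟩ : X) = p ^ k := by
      rw [← hk]; exact (Subgroup.orderOf_coe (⟨x, hx⟩ : X)).symm
    have h2 : (f ⟨x, hx⟩) ^ p ^ k = 1 := by
      rw [← map_pow, ← h1, pow_orderOf_eq_one, map_one]
    have h3 : (f ⟨x, hx⟩) ^ 2 ^ a = 1 := by
      rw [← hPcard]; exact pow_card_eq_one'
    have h4 : orderOf (f ⟨x, hx⟩) ∣ Nat.gcd (p ^ k) (2 ^ a) :=
      Nat.dvd_gcd (orderOf_dvd_of_pow_eq_one h2) (orderOf_dvd_of_pow_eq_one h3)
    have hcop : Nat.Coprime (p ^ k) (2 ^ a) :=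
      Nat.Coprime.pow _ _ ((Nat.coprime_primes h.hp Nat.prime_two).mpr (p_ne_two h))
    rw [hcop.gcd_eq_one, Nat.dvd_one, orderOf_eq_one_iff] at h4
    exact h4
  · rw [Subgroup.card_map_of_injective X.subtype_injective, hK'card, hm]

/-- a subgroup generated by `p`-elements inside a `p`-group containing all `p`-elements -/
theorem closure_eq_of_pgroup {S : Set G} (hp : p.Prime) (K X : Subgroup G) (hKX : K ≤ X)
    (hK : IsPGroup p K) (hall : ∀ x ∈ X, (∃ k : ℕ, orderOf x = p ^ k) → x ∈ K)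
    (hS : ∀ x, x ∈ S ↔ x ∈ X ∧ ∃ k : ℕ, orderOf x = p ^ k) :
    Subgroup.closure S = K := by
  have hpf : Fact p.Prime := ⟨hp⟩
  apply le_antisymm
  · rw [Subgroup.closure_le]
    intro x hx
    exact hall x ((hS x).mp hx).1 ((hS x).mp hx).2
  · intro x hx
    apply Subgroup.subset_closure
    rw [hS]
    refine ⟨hKX hx, ?_⟩
    obtain ⟨k, hk⟩ := (IsPGroup.iff_orderOf.mp hK) ⟨x, hx⟩
    exact ⟨k, by rw [← hk]; exact Subgroup.orderOf_coe (⟨x, hx⟩ : K)⟩

/-- (1.2) `C_G(Q) = Q × P₁` -/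
theorem pone_spec (h : Cfg G p a Q w) :
    IsPGroup p (Pone p Q) ∧
      Nat.card (Subgroup.centralizer (Q : Set G)) = 2 ^ a * Nat.card (Pone p Q) := by
  obtain ⟨K, hKX, hKp, hall, hcard⟩ := normal_complement h (Subgroup.centralizer (Q : Set G))
    (centralizer_ne_top h) (Q_le_centralizer h) (fun m hm _ => hm)
  have : Pone p Q = K := by
    unfold Pone
    apply closure_eq_of_pgroup h.hp K _ hKX hKp hall
    intro x
    simp only [Set.mem_setOf_eq, Subgroup.mem_centralizer_iff]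
    constructor
    · rintro ⟨h1, h2⟩
      exact ⟨fun y hy => (h1 y hy).symm, h2⟩
    · rintro ⟨h1, h2⟩
      exact ⟨fun y hy => (h1 y hy).symm, h2⟩
  rw [this]
  exact ⟨hKp, hcard⟩

theorem centralizer_singleton_ne_top (h : Cfg G p a Q w) (t : G) (ht : t ∈ Q) (ht1 : t ≠ 1) :
    Subgroup.centralizer ({t} : Set G) ≠ ⊤ := by
  intro htop
  have h0 : Subgroup.zpowers t ≠ ⊥ := by
    intro hb
    exact ht1 (Subgroup.zpowers_eq_bot.mp hb)
  have h1 : Subgroup.zpowers t ≠ ⊤ := by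
    intro hb
    apply Q_ne_top h
    rw [eq_top_iff, ← hb]
    exact Subgroup.zpowers_le.mpr ht
  apply nloc h _ h0 h1
  rw [eq_top_iff]
  intro g _
  have hg : g ∈ Subgroup.centralizer ({t} : Set G) := htop ▸ Subgroup.mem_top g
  have hgt := Subgroup.mem_centralizer_singleton_iff.mp hg
  rw [Subgroup.mem_normalizer_iff]
  have hconj : ∀ i : ℤ, g * t ^ i * g⁻¹ = t ^ i := by
    intro i
    have hc : Commute g t := hgt
    have := (hc.zpow_right i).eq
    rw [this]; group
  intro x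
  constructor
  · intro hx
    obtain ⟨i, rfl⟩ := Subgroup.mem_zpowers_iff.mp hx
    rw [hconj]; exact hx
  · intro hx
    obtain ⟨i, hi⟩ := Subgroup.mem_zpowers_iff.mp hx
    have : x = g⁻¹ * (g * x * g⁻¹) * g := by group
    rw [this, ← hi]
    have h2 : g⁻¹ * t ^ i * g = t ^ i := by
      have := hconj i
      calc g⁻¹ * t ^ i * g = g⁻¹ * (g * t ^ i * g⁻¹) * g := by rw [this]
        _ = t ^ i := by group
    rw [h2]
    exact Subgroup.mem_zpowers_iff.mpr ⟨i, rfl⟩

/-- (1.5) `C_G(t) = K_t ⋊ Q` -/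
theorem kt_spec (h : Cfg G p a Q w) (t : G) (ht : t ∈ Q) (ht1 : t ≠ 1) :
    IsPGroup p (Kt p t) ∧
      Nat.card (Subgroup.centralizer ({t} : Set G)) = 2 ^ a * Nat.card (Kt p t) := by
  have hQX : Q ≤ Subgroup.centralizer ({t} : Set G) := by
    intro x hx
    rw [Subgroup.mem_centralizer_singleton_iff]
    exact h.Qab x hx t ht
  obtain ⟨K, hKX, hKp, hall, hcard⟩ := normal_complement h (Subgroup.centralizer ({t} : Set G))
    (centralizer_singleton_ne_top h t ht ht1) hQX (by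
      intro m hm hmN
      by_contra hmC
      have := Subgroup.mem_centralizer_singleton_iff.mp hm
      exact norm_fpf h m hmN hmC t ht ht1 this)
  have : Kt p t = K := by
    unfold Kt
    apply closure_eq_of_pgroup h.hp K _ hKX hKp hall
    intro x
    simp only [Set.mem_setOf_eq, Subgroup.mem_centralizer_singleton_iff]
  rw [this]
  exact ⟨hKp, hcard⟩

end Cfsg.Agent.Lib.Helper1.Mix
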