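import Mathlib
import Cfsg.Agent.Lib.Lead.MixCfg
import Cfsg.Agent.Lib.Helper1.MixP2c
import Cfsg.Agent.Lib.Helper3.MixP2c
import Cfsg.Agent.Lib.Helper5.MixP2d
import Cfsg.Agent.Lib.Helper7.MixP2a

/-!
# S4017, package P2: `Cfg → CfgB` (assembly)

Fields: `pdvd`, `nloc`, `pone_pgroup`, `cent_card`, `norm_fpf`, `kt_pgroup`, `kt_card` from
`Lib/Helper1/MixP2a,b,c`; `norm_card` from helper3 (`Lib/Helper3/MixP2c`); `norm_max` from
helper5 (`Lib/Helper5/MixP2d`); `dih`, `inv_conj` from helper7 (`Lib/Helper7/MixP2a`).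
-/

namespace Cfsg.Agent.Lib.Helper1.Mix

open Cfsg.Agent.Lib.Lead.Mix

universe u

variable {G : Type u} [Group G] [Finite G] {p a : ℕ} {Q : Subgroup G} {w : G}

/-- package P2 of S4017 -/
theorem Cfg.toCfgB (h : Cfg G p a Q w) : CfgB G p a Q w :=
  { toCfg := h
    pdvd := pdvd h
    nloc := nloc h
    pone_pgroup := (pone_spec h).1
    cent_card := (pone_spec h).2
    norm_fpf := fun m hm hmC t ht ht1 => norm_fpf h m hm hmC t ht ht1
    norm_card := Cfsg.Agent.Lib.Helper3.Mix.cfg_norm_card h (pone_spec h).1 (pone_spec h).2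
    norm_max := Cfsg.Agent.Lib.Helper5.Mix.cfg_norm_max h
    kt_pgroup := fun t ht ht1 => (kt_spec h t ht ht1).1
    kt_card := fun t ht ht1 => (kt_spec h t ht ht1).2
    dih := Cfsg.Agent.Lib.Helper7.Mix.cfg_dih h
    inv_conj := Cfsg.Agent.Lib.Helper7.Mix.cfg_inv_conj h }

end Cfsg.Agent.Lib.Helper1.Mix
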