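import Mathlib
import Cfsg.Prelude.Def_Transfer
import Cfsg.Agent.Lib.Lead.Frattini

/-!
# The squaring map of an extraspecial 2-group

For an extraspecial 2-group `P` (in the sense of `Cfsg.IsExtraspecial`) the map
`x ↦ [x ^ 2 ≠ 1]` with values in `ZMod 2` is constant on cosets of the centre and satisfies the
polarisation identity of a quadratic form.
-/

set_option autoImplicit false

namespace Cfsg.Agent.Lib.Helper1.MonQ

open scoped commutatorElement

variable {P : Type*} [Group P]

open Classical in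
/-- indicator of being different from the identity -/
noncomputable def iota (c : P) : ZMod 2 := if c = 1 then 0 else 1

/-- indicator of having a non-trivial square -/
noncomputable def sq (x : P) : ZMod 2 := iota (x ^ 2)

theorem iota_one : iota (1 : P) = 0 := by
  unfold iota; rw [if_pos rfl]

theorem iota_eq_zero_iff (c : P) : iota c = 0 ↔ c = 1 := by
  unfold iota
  split_ifs with h
  · exact ⟨fun _ => h, fun _ => rfl⟩
  · exact ⟨fun h1 => absurd h1 (by decide), fun h1 => absurd h1 h⟩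

theorem sq_eq_zero_iff (x : P) : sq x = 0 ↔ x ^ 2 = 1 := iota_eq_zero_iff _

theorem center_two (hc : Nat.card (Subgroup.center P) = 2) {c d : P}
    (hcZ : c ∈ Subgroup.center P) (hdZ : d ∈ Subgroup.center P) (hc1 : c ≠ 1) (hd1 : d ≠ 1) :
    c = d := by
  obtain ⟨b, _, huniq⟩ := (Nat.card_eq_two_iff' (1 : Subgroup.center P)).mp hc
  have h1 : (⟨c, hcZ⟩ : Subgroup.center P) = b :=
    huniq _ (fun h => hc1 (congrArg Subtype.val h))
  have h2 : (⟨d, hdZ⟩ : Subgroup.center P) = b :=
    huniq _ (fun h => hd1 (congrArg Subtype.val h))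
  exact congrArg Subtype.val (h1.trans h2.symm)

theorem center_sq (hc : Nat.card (Subgroup.center P) = 2) {c : P}
    (hcZ : c ∈ Subgroup.center P) : c ^ 2 = 1 := by
  have h : (⟨c, hcZ⟩ : Subgroup.center P) ^ Nat.card (Subgroup.center P) = 1 := pow_card_eq_one'
  rw [hc] at h
  exact congrArg Subtype.val h

theorem exists_center_ne_one (hc : Nat.card (Subgroup.center P) = 2) :
    ∃ c ∈ Subgroup.center P, c ≠ 1 := by
  obtain ⟨b, hb, _⟩ := (Nat.card_eq_two_iff' (1 : Subgroup.center P)).mp hc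
  exact ⟨b.1, b.2, fun h => hb (Subtype.ext h)⟩

theorem iota_mul (hc : Nat.card (Subgroup.center P) = 2) {c d : P}
    (hcZ : c ∈ Subgroup.center P) (hdZ : d ∈ Subgroup.center P) :
    iota (c * d) = iota c + iota d := by
  by_cases h1 : c = 1
  · rw [h1, one_mul, iota_one, zero_add]
  · by_cases h2 : d = 1
    · rw [h2, mul_one, iota_one, add_zero]
    · have hcd : c = d := center_two hc hcZ hdZ h1 h2
      have hsq : c * d = 1 := by rw [← hcd, ← pow_two]; exact center_sq hc hcZ
      rw [hsq, iota_one]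
      have e1 : iota c = 1 := by unfold iota; rw [if_neg h1]
      have e2 : iota d = 1 := by unfold iota; rw [if_neg h2]
      rw [e1, e2]
      decide

theorem sq_mul_formula {a b : P} (hz : ⁅b, a⁆ ∈ Subgroup.center P) :
    (a * b) ^ 2 = ⁅b, a⁆ * a ^ 2 * b ^ 2 := by
  have h := (Subgroup.mem_center_iff.mp hz) a
  calc (a * b) ^ 2 = a * (b * a * b⁻¹ * a⁻¹) * a * (b * b) := by rw [pow_two]; group
    _ = a * ⁅b, a⁆ * a * (b * b) := by rw [commutatorElement_def]
    _ = ⁅b, a⁆ * a * a * (b * b) := by rw [h]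
    _ = ⁅b, a⁆ * a ^ 2 * b ^ 2 := by rw [pow_two, pow_two]; group

theorem comm_mul_formula {w x y : P} (hz : ⁅w, y⁆ ∈ Subgroup.center P) :
    ⁅w, x * y⁆ = ⁅w, x⁆ * ⁅w, y⁆ := by
  have h := (Subgroup.mem_center_iff.mp hz) x
  calc ⁅w, x * y⁆ = (w * x * w⁻¹ * x⁻¹) * (x * (w * y * w⁻¹ * y⁻¹)) * x⁻¹ := by
        rw [commutatorElement_def]; group
    _ = ⁅w, x⁆ * (x * ⁅w, y⁆) * x⁻¹ := by rw [commutatorElement_def, commutatorElement_def]
    _ = ⁅w, x⁆ * (⁅w, y⁆ * x) * x⁻¹ := by rw [h]
    _ = ⁅w, x⁆ * ⁅w, y⁆ := by group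

section extra

variable [Finite P] (hE : Cfsg.IsExtraspecial 2 P)
include hE

theorem sq_mem_center (x : P) : x ^ 2 ∈ Subgroup.center P := by
  have : Fact (Nat.Prime 2) := ⟨Nat.prime_two⟩
  have h := Cfsg.Agent.Lib.Lead.pow_mem_frattini_of_isPGroup (p := 2) hE.1.1 x
  rw [hE.1.2.1] at h
  exact h

theorem comm_mem_center (x y : P) : ⁅x, y⁆ ∈ Subgroup.center P := by
  rw [← hE.1.2.2, commutator_def]
  exact Subgroup.commutator_mem_commutator (Subgroup.mem_top x) (Subgroup.mem_top y)

theorem sq_mul (a b : P) : sq (a * b) = iota ⁅b, a⁆ + sq a + sq b := by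
  unfold sq
  rw [sq_mul_formula (comm_mem_center hE b a),
    iota_mul hE.2 (mul_mem (comm_mem_center hE b a) (sq_mem_center hE a)) (sq_mem_center hE b),
    iota_mul hE.2 (comm_mem_center hE b a) (sq_mem_center hE a)]

theorem iota_comm_mul (w x y : P) : iota ⁅w, x * y⁆ = iota ⁅w, x⁆ + iota ⁅w, y⁆ := by
  rw [comm_mul_formula (comm_mem_center hE w y),
    iota_mul hE.2 (comm_mem_center hE w x) (comm_mem_center hE w y)]

/-- the polarisation identity -/
theorem sq_quad (x y w : P) :
    sq (x * y * w) + sq x + sq y + sq w = sq (x * y) + sq (x * w) + sq (y * w) := by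
  rw [sq_mul hE (x * y) w, iota_comm_mul hE w x y, sq_mul hE x y, sq_mul hE x w, sq_mul hE y w]
  ring

theorem sq_mul_center (x : P) {c : P} (hcZ : c ∈ Subgroup.center P) : sq (x * c) = sq x := by
  unfold sq
  have hcomm : Commute x c := ((Subgroup.mem_center_iff.mp hcZ) x)
  rw [hcomm.mul_pow, center_sq hE.2 hcZ, mul_one]

theorem exists_sq_ne : ∃ x : P, sq x ≠ 0 := by
  by_contra hcon
  push Not at hcon
  have hsq : ∀ x : P, x ^ 2 = 1 := fun x => (sq_eq_zero_iff x).mp (hcon x)
  have hinv : ∀ x : P, x⁻¹ = x := fun x => by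
    have := hsq x
    rw [pow_two] at this
    exact inv_eq_of_mul_eq_one_right this
  have hcomm : ∀ x y : P, ⁅x, y⁆ = 1 := by
    intro x y
    rw [commutatorElement_def, hinv x, hinv y]
    have h1 := hsq (x * y)
    rw [pow_two] at h1
    calc x * y * x * y = (x * y) * (x * y) := by group
      _ = 1 := h1
  have hbot : commutator P = ⊥ := by
    rw [commutator_def, eq_bot_iff, Subgroup.commutator_le]
    intro g₁ _ g₂ _
    rw [hcomm]
    exact Subgroup.one_mem _
  obtain ⟨c, hcZ, hc1⟩ := exists_center_ne_one hE.2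
  rw [← hE.1.2.2, hbot, Subgroup.mem_bot] at hcZ
  exact hc1 hcZ

end extra

end Cfsg.Agent.Lib.Helper1.MonQ
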