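import Mathlib
import Cfsg.Agent.Lib.Helper1.LeechIrred
import Cfsg.Agent.Lib.Helper1.LeechMono1

/-!
# A totally singular subspace of dimension 12 of the Leech lattice modulo 2

The lattice vectors with all coordinates divisible by 4 have squared length divisible by 32, and
twelve of them (`8 e_p` and eleven vectors `4 e_p - 4 e_q`) are independent modulo twice the lattice.
-/

set_option autoImplicit false
set_option maxRecDepth 100000

namespace Cfsg.Agent.Lib.Helper1.MonQ

open Cfsg Cfsg.Spor Cfsg.Agent.Lib.Helper1 Cfsg.Agent.Lib.Helper1.LeechAut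
  Cfsg.Agent.Lib.Helper1.LeechGen Cfsg.Agent.Lib.Helper1.LeechCross
  Cfsg.Agent.Lib.Helper1.LeechIrred Cfsg.Agent.Lib.Helper1.LeechMono
  Cfsg.Agent.Lib.Helper1.LeechQuad

/-- the lattice vectors all of whose coordinates are divisible by 4 -/
def M4 : AddSubgroup leechLattice where
  carrier := {v | ∀ p, (4 : ℤ) ∣ (v : GolayPt → ℤ) p}
  zero_mem' := fun p => by
    show (4 : ℤ) ∣ ((0 : leechLattice) : GolayPt → ℤ) p
    rw [AddSubgroup.coe_zero, Pi.zero_apply]
    exact dvd_zero _
  add_mem' := fun {a b} ha hb p => by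
    show (4 : ℤ) ∣ ((a + b : leechLattice) : GolayPt → ℤ) p
    rw [AddSubgroup.coe_add, Pi.add_apply]
    exact dvd_add (ha p) (hb p)
  neg_mem' := fun {a} ha p => by
    show (4 : ℤ) ∣ ((-a : leechLattice) : GolayPt → ℤ) p
    rw [AddSubgroup.coe_neg, Pi.neg_apply]
    exact (dvd_neg).mpr (ha p)

theorem mem_M4_iff (v : leechLattice) : v ∈ M4 ↔ ∀ p, (4 : ℤ) ∣ (v : GolayPt → ℤ) p := Iff.rfl

theorem sqNorm_M4 (v : leechLattice) (hv : v ∈ M4) : (32 : ℤ) ∣ sqNorm (v : GolayPt → ℤ) := by
  have hx := (mem_leechLattice_iff _).mp v.2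
  obtain ⟨m, hpar, hsum, _⟩ := (mem_leechSet_iff _).mp hx
  have hm : m % 2 = 0 := by
    have h1 := hpar none
    obtain ⟨y, hy⟩ := hv none
    unfold Int.ModEq at h1
    omega
  have h8 : (8 : ℤ) ∣ ∑ p, (v : GolayPt → ℤ) p := by
    unfold Int.ModEq at hsum
    apply Int.dvd_of_emod_eq_zero
    omega
  have h1 : ∀ p, (32 : ℤ) ∣ (v : GolayPt → ℤ) p ^ 2 - 4 * (v : GolayPt → ℤ) p := by
    intro p
    obtain ⟨y, hy⟩ := hv p
    rw [hy]
    obtain ⟨t, ht⟩ := Int.even_mul_pred_self y
    refine ⟨t, ?_⟩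
    have : (4 * y) ^ 2 - 4 * (4 * y) = 16 * (y * (y - 1)) := by ring
    rw [this, ht]
    ring
  have h2 : sqNorm (v : GolayPt → ℤ) =
      ∑ p, ((v : GolayPt → ℤ) p ^ 2 - 4 * (v : GolayPt → ℤ) p) + 4 * ∑ p, (v : GolayPt → ℤ) p := by
    unfold sqNorm
    rw [Finset.sum_sub_distrib, ← Finset.mul_sum]
    ring
  rw [h2]
  apply dvd_add (Finset.dvd_sum (fun p _ => h1 p))
  obtain ⟨k, hk⟩ := h8
  exact ⟨k, by rw [hk]; ring⟩

/-- the twelve points at the pivots of the echelon basis -/
def pt (k : ℕ) : GolayPt := gUnidx (12 + k)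

theorem pt_bit : ∀ i j : Fin 12, (bTab j.val).testBit (gIdx (pt i.val)) = decide (i = j) := by
  decide

theorem pt_ne : ∀ i : Fin 12, i ≠ 0 → pt i.val ≠ pt 0 := by decide

theorem pt0_ne_none : pt 0 ≠ none := by decide

theorem mem_supp (m : ℕ) (p : GolayPt) : p ∈ support₂ (ofMask m) ↔ m.testBit (gIdx p) = true := by
  simp only [support₂, Finset.mem_filter, Finset.mem_univ, true_and]
  exact ofMask_ne_zero_iff _ _

/-- the code words of the echelon basis, as sets -/
def cwSet (j : Fin 12) : Finset GolayPt := support₂ (ofMask (bTab j.val))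

theorem cwSet_mem (j : Fin 12) : cwSet j ∈ gC := ⟨_, bTab_mem j.val j.isLt, rfl⟩

theorem pt_mem_cwSet (i j : Fin 12) : pt i.val ∈ cwSet j ↔ i = j := by
  unfold cwSet
  rw [mem_supp, pt_bit]
  simp

/-- the twelve vectors `8 e_{p_0}` and `4 e_{p_k} - 4 e_{p_0}` -/
def bv (k : Fin 12) : GolayPt → ℤ := if k = 0 then uu (pt 0) else pm (-1) (pt k.val) (pt 0)

theorem bv_mem (k : Fin 12) : bv k ∈ leechLattice := by
  unfold bv
  split_ifs with h
  · exact uu_mem _
  · exact (pm_mem_Mn (-1) (Or.inr rfl) _ _ (pt_ne k h)).1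

theorem bv_dvd (k : Fin 12) (p : GolayPt) : (4 : ℤ) ∣ bv k p := by
  unfold bv
  split_ifs with h
  · unfold uu
    split_ifs
    · exact ⟨2, by norm_num⟩
    · exact dvd_zero _
  · unfold pm
    apply dvd_add
    · split_ifs
      · exact dvd_refl _
      · exact dvd_zero _
    · apply Dvd.dvd.mul_left
      split_ifs
      · exact dvd_refl _
      · exact dvd_zero _

/-- the twelve vectors, as lattice elements -/
noncomputable def B (k : Fin 12) : leechLattice := ⟨bv k, bv_mem k⟩

theorem B_mem (k : Fin 12) : B k ∈ M4 := fun p => bv_dvd k p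

/-- the dual vectors: `(-3, 1^23)` and twice the code words of the echelon basis -/
def dv (j : Fin 12) : GolayPt → ℤ := if j = 0 then w₀ else ind2 (cwSet j)

theorem dv_mem (j : Fin 12) : dv j ∈ leechLattice := by
  unfold dv
  split_ifs with h
  · exact w₀_mem_Mn.1
  · exact ind2_mem (cwSet_mem j)

theorem pairing (i j : Fin 12) :
    ∃ t : ℤ, dotInt (dv j) (bv i) = (if i = j then 8 else 0) + 16 * t := by
  unfold bv
  by_cases hi : i = 0
  · rw [if_pos hi, dotInt_uu]
    unfold dv
    by_cases hj : j = 0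
    · rw [if_pos hj, if_pos (hi.trans hj.symm)]
      refine ⟨0, ?_⟩
      unfold w₀
      rw [if_neg pt0_ne_none]
      norm_num
    · rw [if_neg hj, if_neg (fun h => hj (h.symm.trans hi))]
      unfold ind2
      split_ifs
      · exact ⟨1, by norm_num⟩
      · exact ⟨0, by norm_num⟩
  · rw [if_neg hi, dotInt_pm]
    unfold dv
    by_cases hj : j = 0
    · rw [if_pos hj, if_neg (fun h => hi (h.trans hj))]
      unfold w₀
      rw [if_neg pt0_ne_none]
      split_ifs
      · exact ⟨-1, by norm_num⟩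
      · exact ⟨0, by norm_num⟩
    · rw [if_neg hj]
      unfold ind2
      have h0 : pt 0 ∉ cwSet j := by
        have := pt_mem_cwSet 0 j
        intro hmem
        exact hj (this.mp hmem).symm
      rw [if_neg h0]
      by_cases hij : i = j
      · rw [if_pos hij, if_pos ((pt_mem_cwSet i j).mpr hij)]
        exact ⟨0, by norm_num⟩
      · rw [if_neg hij, if_neg (fun h => hij ((pt_mem_cwSet i j).mp h))]
        exact ⟨0, by norm_num⟩

theorem dotInt_add_right (x y z : GolayPt → ℤ) : dotInt x (y + z) = dotInt x y + dotInt x z := by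
  unfold dotInt
  rw [← Finset.sum_add_distrib]
  apply Finset.sum_congr rfl
  intro i _
  simp only [Pi.add_apply]
  ring

/-- pairing with a fixed vector, as a homomorphism on the lattice -/
noncomputable def dotHom (x : GolayPt → ℤ) : leechLattice →+ ℤ :=
  AddMonoidHom.mk' (fun v => dotInt x (v : GolayPt → ℤ)) (fun v w => by
    show dotInt x ((v + w : leechLattice) : GolayPt → ℤ) = _
    rw [AddSubgroup.coe_add, dotInt_add_right])

theorem dotHom_apply (x : GolayPt → ℤ) (v : leechLattice) :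
    dotHom x v = dotInt x (v : GolayPt → ℤ) := rfl

/-- the twelve vectors are independent modulo twice the lattice -/
theorem indep (a : Fin 12 → ℤ) (w : leechLattice) (h : ∑ i, a i • B i = w + w) (j : Fin 12) :
    (2 : ℤ) ∣ a j := by
  have h1 := congrArg (dotHom (dv j)) h
  rw [map_sum, map_add] at h1
  simp only [map_zsmul, smul_eq_mul, dotHom_apply] at h1
  choose t ht using fun i => pairing i j
  have h2 : ∀ i, a i * dotInt (dv j) ((B i : leechLattice) : GolayPt → ℤ) =
      (if i = j then 8 * a i else 0) + 16 * (a i * t i) := by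
    intro i
    show a i * dotInt (dv j) (bv i) = _
    rw [ht i]
    split_ifs <;> ring
  simp only [h2] at h1
  rw [Finset.sum_add_distrib, Finset.sum_ite_eq' Finset.univ j (fun i => 8 * a i),
    ← Finset.mul_sum] at h1
  simp only [Finset.mem_univ, if_true] at h1
  obtain ⟨s, hs⟩ := dotInt_dvd (dv j) (w : GolayPt → ℤ) (dv_mem j) w.2
  rw [hs] at h1
  exact ⟨s - ∑ i, a i * t i, by linarith⟩

end Cfsg.Agent.Lib.Helper1.MonQ
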