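import Mathlib
import Cfsg.Agent.Lib.Helper1.MonQ1
import Cfsg.Agent.Lib.Helper1.MonQ2

/-!
# Extraspecial groups whose central quotient is the Leech lattice modulo 2

If `P` is an extraspecial 2-group and `P / Z(P)` is identified with the Leech lattice modulo 2 in
such a way that every lattice automorphism is induced by a map of `P` preserving the property
`x ^ 2 = 1`, then the squaring map is the standard quadratic form and `P` has an elementary abelian
subgroup of order `2 ^ 13`.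
-/

set_option autoImplicit false

namespace Cfsg.Agent.Lib.Helper1.MonQ

open Cfsg Cfsg.Agent.Lib.Helper1.LeechQuad

theorem zmod2_eq_of_zero_iff : ∀ a b : ZMod 2, (a = 0 ↔ b = 0) → a = b := by decide

theorem comm_of_sq {P : Type*} [Group P] {x y : P} (hx : x ^ 2 = 1) (hy : y ^ 2 = 1)
    (hxy : (x * y) ^ 2 = 1) : x * y = y * x := by
  have ix : x⁻¹ = x := by
    rw [pow_two] at hx; exact inv_eq_of_mul_eq_one_right hx
  have iy : y⁻¹ = y := by
    rw [pow_two] at hy; exact inv_eq_of_mul_eq_one_right hy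
  have ixy : (x * y)⁻¹ = x * y := by
    rw [pow_two] at hxy; exact inv_eq_of_mul_eq_one_right hxy
  rw [mul_inv_rev, ix, iy] at ixy
  exact ixy.symm

section main

variable {P : Type*} [Group P] [Finite P] (hE : Cfsg.IsExtraspecial 2 P)
  (ψ : leechLattice → P ⧸ Subgroup.center P)
  (hadd : ∀ v w : leechLattice, ψ (v + w) = ψ v * ψ w)
  (hsurj : Function.Surjective ψ)
  (hker : ∀ v : leechLattice, ψ v = 1 ↔ ∃ w : leechLattice, v = w + w)
  (hinv : ∀ g : Co0, ∃ α : P → P, (∀ q : P, (α q) ^ 2 = 1 ↔ q ^ 2 = 1) ∧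
    ∀ (v : leechLattice) (q : P), ψ v = QuotientGroup.mk q → ψ (g • v) = QuotientGroup.mk (α q))

/-- the transported squaring map -/
noncomputable def Qf (v : leechLattice) : ZMod 2 := sq (Quotient.out (ψ v))

theorem out_spec (v : leechLattice) :
    (QuotientGroup.mk (Quotient.out (ψ v)) : P ⧸ Subgroup.center P) = ψ v :=
  QuotientGroup.out_eq' _

include hE in
theorem Qf_eq (v : leechLattice) (q : P) (hq : ψ v = QuotientGroup.mk q) : Qf ψ v = sq q := by
  unfold Qf
  have h1 : (QuotientGroup.mk (Quotient.out (ψ v)) : P ⧸ Subgroup.center P) = QuotientGroup.mk q := by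
    rw [out_spec, hq]
  have h2 : (Quotient.out (ψ v))⁻¹ * q ∈ Subgroup.center P := QuotientGroup.eq.mp h1
  have h3 : q = Quotient.out (ψ v) * ((Quotient.out (ψ v))⁻¹ * q) := by group
  rw [h3, sq_mul_center hE _ h2]

include hker in
theorem psi_zero : ψ 0 = 1 := (hker 0).mpr ⟨0, by simp⟩

include hker hadd in
theorem psi_neg (v : leechLattice) : ψ (-v) = (ψ v)⁻¹ := by
  have h := hadd v (-v)
  rw [add_neg_cancel, psi_zero ψ hker] at h
  exact (inv_eq_of_mul_eq_one_right h.symm).symm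

include hker hadd in
theorem psi_sub (v w : leechLattice) : ψ (v - w) = ψ v * (ψ w)⁻¹ := by
  rw [sub_eq_add_neg, hadd, psi_neg ψ hadd hker]

include hE hadd hsurj hker hinv in
theorem Qf_formula (v : leechLattice) :
    Qf ψ v = ((sqNorm (v : GolayPt → ℤ) / 16 : ℤ) : ZMod 2) := by
  apply quad_unique (Qf ψ)
  · intro v w
    have h : ψ (v + (w + w)) = ψ v := by
      rw [hadd, (hker (w + w)).mpr ⟨w, rfl⟩, mul_one]
    unfold Qf
    rw [h]
  · intro u v w
    have e1 : ∀ a b : leechLattice, ψ (a + b) =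
        QuotientGroup.mk (Quotient.out (ψ a) * Quotient.out (ψ b)) := by
      intro a b
      rw [QuotientGroup.mk_mul, out_spec, out_spec, hadd]
    have e3 : ψ (u + v + w) =
        QuotientGroup.mk (Quotient.out (ψ u) * Quotient.out (ψ v) * Quotient.out (ψ w)) := by
      rw [QuotientGroup.mk_mul, QuotientGroup.mk_mul, out_spec, out_spec, out_spec, hadd, hadd]
    rw [Qf_eq hE ψ _ _ e3, Qf_eq hE ψ _ _ (e1 u v), Qf_eq hE ψ _ _ (e1 u w),
      Qf_eq hE ψ _ _ (e1 v w)]
    exact sq_quad hE _ _ _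
  · intro g v
    obtain ⟨α, hα1, hα2⟩ := hinv g
    have h := hα2 v (Quotient.out (ψ v)) (out_spec ψ v).symm
    rw [Qf_eq hE ψ _ _ h]
    unfold Qf
    apply zmod2_eq_of_zero_iff
    rw [sq_eq_zero_iff, sq_eq_zero_iff]
    exact hα1 _
  · obtain ⟨x, hx⟩ := exists_sq_ne hE
    obtain ⟨v, hv⟩ := hsurj (QuotientGroup.mk x)
    exact ⟨v, by rw [Qf_eq hE ψ v x hv]; exact hx⟩

/-- the preimage of the image of the vectors with coordinates divisible by four -/
def E0 : Subgroup P where
  carrier := {x | ∃ v ∈ M4, ψ v = QuotientGroup.mk x}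
  one_mem' := ⟨0, M4.zero_mem, by rw [psi_zero ψ hker]; rfl⟩
  mul_mem' := by
    rintro x y ⟨v, hv, hx⟩ ⟨w, hw, hy⟩
    exact ⟨v + w, M4.add_mem hv hw, by rw [hadd, hx, hy]; rfl⟩
  inv_mem' := by
    rintro x ⟨v, hv, hx⟩
    exact ⟨-v, M4.neg_mem hv, by rw [psi_neg ψ hadd hker, hx]; rfl⟩

include hE hsurj hinv in
theorem E0_sq {x : P} (hx : x ∈ E0 ψ hadd hker) : x ^ 2 = 1 := by
  obtain ⟨v, hv, hx⟩ := hx
  rw [← sq_eq_zero_iff, ← Qf_eq hE ψ v x hx, Qf_formula hE ψ hadd hsurj hker hinv]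
  obtain ⟨k, hk⟩ := sqNorm_M4 v hv
  rw [hk]
  have : (32 * k) / 16 = 2 * k := by omega
  rw [this]
  push_cast
  have h2 : (2 : ZMod 2) = 0 := by decide
  rw [h2, zero_mul]

include hE hsurj hinv in
theorem E0_comm {x y : P} (hx : x ∈ E0 ψ hadd hker) (hy : y ∈ E0 ψ hadd hker) :
    x * y = y * x :=
  comm_of_sq (E0_sq hE ψ hadd hsurj hker hinv hx) (E0_sq hE ψ hadd hsurj hker hinv hy)
    (E0_sq hE ψ hadd hsurj hker hinv ((E0 ψ hadd hker).mul_mem hx hy))

/-- the combination of the twelve vectors with coefficients 0 and 1 -/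
noncomputable def La (a : Fin 12 → Bool) : leechLattice := ∑ i, (if a i then (1 : ℤ) else 0) • B i

theorem La_mem (a : Fin 12 → Bool) : La a ∈ M4 :=
  M4.sum_mem (fun i _ => M4.zsmul_mem (B_mem i) _)

include hE in
theorem card_E0 : 2 ^ 13 ≤ Nat.card (E0 ψ hadd hker) := by
  obtain ⟨z0, hz0Z, hz01⟩ := exists_center_ne_one hE.2
  have hmk : ∀ ε : Bool, (QuotientGroup.mk (if ε then z0 else 1) : P ⧸ Subgroup.center P) = 1 := by
    intro ε
    rw [QuotientGroup.eq_one_iff]
    cases ε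
    · exact Subgroup.one_mem _
    · exact hz0Z
  let J : (Fin 12 → Bool) × Bool → E0 ψ hadd hker := fun c =>
    ⟨Quotient.out (ψ (La c.1)) * (if c.2 then z0 else 1),
      ⟨La c.1, La_mem c.1, by rw [QuotientGroup.mk_mul, out_spec, hmk, mul_one]⟩⟩
  have hJ : Function.Injective J := by
    rintro ⟨a, ε⟩ ⟨a', ε'⟩ h
    have h0 : Quotient.out (ψ (La a)) * (if ε then z0 else 1) =
        Quotient.out (ψ (La a')) * (if ε' then z0 else 1) := congrArg Subtype.val h
    have h1 := congrArg (QuotientGroup.mk : P → P ⧸ Subgroup.center P) h0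
    rw [QuotientGroup.mk_mul, QuotientGroup.mk_mul, out_spec, out_spec, hmk, hmk, mul_one,
      mul_one] at h1
    have h2 : ψ (La a - La a') = 1 := by
      rw [psi_sub ψ hadd hker, h1, mul_inv_cancel]
    obtain ⟨w, hw⟩ := (hker _).mp h2
    have h3 : ∑ i, ((if a i then (1 : ℤ) else 0) - (if a' i then (1 : ℤ) else 0)) • B i = w + w := by
      rw [← hw]
      unfold La
      rw [← Finset.sum_sub_distrib]
      apply Finset.sum_congr rfl
      intro i _
      rw [sub_smul]
    have haa : a = a' := by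
      funext j
      obtain ⟨k, hk⟩ := indep _ w h3 j
      cases ha : a j <;> cases ha' : a' j <;> simp only [ha, ha'] at hk <;> first | rfl | (exfalso; simp at hk; omega)
    subst haa
    have h4 := mul_left_cancel h0
    have hεε : ε = ε' := by
      cases ε <;> cases ε' <;> simp at h4 <;> first | rfl | (exfalso; first | exact hz01 h4 | exact hz01 h4.symm)
    rw [hεε]
  have hcard : Nat.card ((Fin 12 → Bool) × Bool) = 2 ^ 13 := by
    rw [Nat.card_eq_fintype_card, Fintype.card_prod, Fintype.card_fun, Fintype.card_bool,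
      Fintype.card_fin]
    norm_num
  rw [← hcard]
  exact Nat.card_le_card_of_injective J hJ

include hE hadd hsurj hker hinv in
theorem exists_elem_abelian :
    ∃ E : Subgroup P, Cfsg.IsElementaryAbelian 2 E ∧ Nat.card E = 2 ^ 13 := by
  have : Fact (Nat.Prime 2) := ⟨Nat.prime_two⟩
  have hp : IsPGroup 2 (E0 ψ hadd hker) := hE.1.1.to_subgroup _
  obtain ⟨k, hk⟩ := IsPGroup.iff_card.mp hp
  have hle := card_E0 hE ψ hadd hker
  rw [hk] at hle
  have hk13 : 13 ≤ k := (Nat.pow_le_pow_iff_right (by norm_num : 1 < 2)).mp hle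
  have hdvd : 2 ^ 13 ∣ Nat.card (E0 ψ hadd hker) := by
    rw [hk]; exact pow_dvd_pow 2 hk13
  obtain ⟨K, hK⟩ := Sylow.exists_subgroup_card_pow_prime 2 hdvd
  refine ⟨K.map (E0 ψ hadd hker).subtype, ⟨?_, ?_⟩, ?_⟩
  · refine ⟨⟨fun a b => ?_⟩⟩
    have ha : (a : P) ∈ E0 ψ hadd hker := Subgroup.map_subtype_le K a.2
    have hb : (b : P) ∈ E0 ψ hadd hker := Subgroup.map_subtype_le K b.2
    exact Subtype.ext (E0_comm hE ψ hadd hsurj hker hinv ha hb)
  · intro a ha
    exact E0_sq hE ψ hadd hsurj hker hinv (Subgroup.map_subtype_le K ha)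
  · rw [Subgroup.card_map_of_injective (Subgroup.subtype_injective _), hK]

end main

end Cfsg.Agent.Lib.Helper1.MonQ
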