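import Mathlib
import Cfsg.Prelude.Def_MonsterType
import Cfsg.Agent.Lib.Helper1.MonQ3
import Cfsg.Agent.Lib.Helper3.Components7
import Cfsg.Agent.Lib.Helper8.Fitting

/-!
# The extraspecial-centralizer setting: basic facts

`z` an involution of `G`, `C = C_G(z)`, `Q = F*(C)` extraspecial.  Then `z ∈ Q`, `Z(Q) = {1, z}`,
`C_C(Q) ≤ Q`, and a non-central element `x` of `Q` is `Q`-conjugate to `x z`.
-/

set_option autoImplicit false

namespace Cfsg.Agent.Lib.Helper1.MonT

open Cfsg Cfsg.Agent.Lib.Helper1.MonQ
open scoped commutatorElement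

variable {G : Type*} [Group G] {z : G}

/-- `z` as an element of its centralizer -/
def zc (z : G) : Subgroup.centralizer ({z} : Set G) :=
  ⟨z, Subgroup.mem_centralizer_iff.mpr (fun h hh => by rw [Set.mem_singleton_iff.mp hh])⟩

theorem zc_comm (h : Subgroup.centralizer ({z} : Set G)) : h * zc z = zc z * h := by
  apply Subtype.ext
  have := (Subgroup.mem_centralizer_iff.mp h.2) z rfl
  exact this.symm

theorem zc_mem_center : zc z ∈ Subgroup.center (Subgroup.centralizer ({z} : Set G)) :=
  Subgroup.mem_center_iff.mpr zc_comm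

theorem center_nilpotent {C : Type*} [Group C] : Group.IsNilpotent (Subgroup.center C) := by
  let _ : CommGroup (Subgroup.center C) :=
    { (inferInstance : Group (Subgroup.center C)) with
      mul_comm := fun a b => Subtype.ext (b.2.comm a).symm }
  exact CommGroup.isNilpotent

variable (Q : Subgroup (Subgroup.centralizer ({z} : Set G))) [Q.Normal]

/-- conjugation of `Q` by the centralizer -/
def conjQ (h : Subgroup.centralizer ({z} : Set G)) (q : Q) : Q :=
  ⟨h * q * h⁻¹, (inferInstance : Q.Normal).conj_mem (q : Subgroup.centralizer ({z} : Set G)) q.2 h⟩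

theorem conjQ_coe (h : Subgroup.centralizer ({z} : Set G)) (q : Q) :
    ((conjQ Q h q : Q) : Subgroup.centralizer ({z} : Set G)) = h * q * h⁻¹ := rfl

section setting

variable [Finite G]
  (hF : generalizedFittingSubgroup (Subgroup.centralizer ({z} : Set G)) = Q)

include hF in
theorem zc_mem_Q : zc z ∈ Q := by
  rw [← hF]
  have h1 : Subgroup.center (Subgroup.centralizer ({z} : Set G)) ≤
      fittingSubgroup (Subgroup.centralizer ({z} : Set G)) :=
    Cfsg.Agent.Lib.Helper8.le_fittingSubgroup _ center_nilpotent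
  exact (le_sup_right : _ ≤ generalizedFittingSubgroup _) (h1 zc_mem_center)

/-- `z` as an element of `Q` -/
def zq : Q := ⟨zc z, zc_mem_Q Q hF⟩

theorem zq_comm (q : Q) : q * zq Q hF = zq Q hF * q := by
  apply Subtype.ext
  exact zc_comm (q : Subgroup.centralizer ({z} : Set G))

theorem zq_mem_center : zq Q hF ∈ Subgroup.center Q :=
  Subgroup.mem_center_iff.mpr (zq_comm Q hF)

theorem conjQ_zq (h : Subgroup.centralizer ({z} : Set G)) : conjQ Q h (zq Q hF) = zq Q hF := by
  apply Subtype.ext
  rw [conjQ_coe]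
  show h * zc z * h⁻¹ = zc z
  rw [zc_comm h, mul_inv_cancel_right]

include hF in
theorem cent_le (h : Subgroup.centralizer ({z} : Set G)) (hh : ∀ q : Q, h * q = (q : _) * h) :
    h ∈ Q := by
  have h1 : h ∈ Subgroup.centralizer
      ((generalizedFittingSubgroup (Subgroup.centralizer ({z} : Set G)) : Subgroup _) : Set _) := by
    rw [hF, Subgroup.mem_centralizer_iff]
    intro q hq
    exact (hh ⟨q, hq⟩).symm
  have h2 := Cfsg.Agent.Lib.Helper3.centralizer_generalizedFittingSubgroup_le h1
  rw [hF] at h2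
  exact h2

variable (hz2 : orderOf z = 2) (hE : IsExtraspecial 2 Q)

include hz2 in
theorem zq_ne_one : zq Q hF ≠ 1 := by
  intro h
  have h1 : z = 1 := congrArg (fun x : Q => ((x : Subgroup.centralizer ({z} : Set G)) : G)) h
  rw [h1, orderOf_one] at hz2
  exact absurd hz2 (by norm_num)

include hz2 hE in
theorem center_Q_iff (x : Q) : x ∈ Subgroup.center Q ↔ x = 1 ∨ x = zq Q hF := by
  constructor
  · intro hx
    by_cases h1 : x = 1
    · exact Or.inl h1
    · exact Or.inr (center_two hE.2 hx (zq_mem_center Q hF) h1 (zq_ne_one Q hF hz2))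
  · rintro (rfl | rfl)
    · exact Subgroup.one_mem _
    · exact zq_mem_center Q hF

include hz2 hE in
theorem zq_sq : zq Q hF * zq Q hF = 1 := by
  have := center_sq hE.2 (zq_mem_center Q hF)
  rwa [pow_two] at this

include hz2 hE in
/-- a non-central element `x` of `Q` is conjugate in `Q` to `x z` -/
theorem noncentral_swap (x : Q) (hx : x ∉ Subgroup.center Q) :
    ∃ q : Q, q * x * q⁻¹ = x * zq Q hF := by
  rw [Subgroup.mem_center_iff] at hx
  push Not at hx
  obtain ⟨q, hq⟩ := hx
  refine ⟨q, ?_⟩
  have hc : ⁅q, x⁆ ∈ Subgroup.center Q := comm_mem_center hE q x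
  have hne : ⁅q, x⁆ ≠ 1 := by
    intro h
    apply hq
    rw [commutatorElement_def] at h
    have : q * x = (q * x * q⁻¹ * x⁻¹) * (x * q) := by group
    rw [this, h, one_mul]
  rcases (center_Q_iff Q hF hz2 hE _).mp hc with h | h
  · exact absurd h hne
  · rw [commutatorElement_def] at h
    have : q * x * q⁻¹ = (q * x * q⁻¹ * x⁻¹) * x := by group
    rw [this, h, zq_comm Q hF x]

end setting

end Cfsg.Agent.Lib.Helper1.MonT
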