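import Mathlib
import Cfsg.Agent.Lib.Helper1.MonT1
import Cfsg.Agent.S0402
import Cfsg.Agent.S5592

/-!
# Monster type: a 2-subgroup centralizing a "type 2" element of `Q` lies in `Q`

Let `s0 ∈ Q` correspond to a lattice vector `v` of type 2.  The stabilizer of `v` in the lattice
automorphism group is simple, so a 2-subgroup `R` of `C = C_G(z)` centralizing `s0` and normalized by
`C_C(s0)` has trivial image in `C / Q`.
-/

set_option autoImplicit false

namespace Cfsg.Agent.Lib.Helper1.MonT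

open Cfsg Cfsg.Agent.Lib.Helper1.MonQ Cfsg.Agent.Lib.Helper1.LeechAut
open scoped commutatorElement

variable {G : Type*} [Group G] {z : G}
  (Q : Subgroup (Subgroup.centralizer ({z} : Set G))) [Q.Normal]
  (e : (Subgroup.centralizer ({z} : Set G)) ⧸ Q ≃* Spor.Co1)
  (ψ : leechLattice → Q ⧸ Subgroup.center Q)

theorem lift_C (k : Co0) : ∃ h : Subgroup.centralizer ({z} : Set G),
    (QuotientGroup.mk k : Spor.Co1) = e (QuotientGroup.mk h) := by
  obtain ⟨h, hh⟩ := QuotientGroup.mk_surjective (e.symm (QuotientGroup.mk k : Spor.Co1))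
  exact ⟨h, by rw [hh, MulEquiv.apply_symm_apply]⟩

theorem lift_Co0 (d : Subgroup.centralizer ({z} : Set G)) : ∃ k : Co0,
    (QuotientGroup.mk k : Spor.Co1) = e (QuotientGroup.mk d) := by
  obtain ⟨k, hk⟩ := QuotientGroup.mk_surjective (e (QuotientGroup.mk d))
  exact ⟨k, hk⟩

variable (hψ : IsLeechModTwoIso Q e ψ)

include hψ in
theorem equiv' (h : Subgroup.centralizer ({z} : Set G)) (k : Co0)
    (hk : (QuotientGroup.mk k : Spor.Co1) = e (QuotientGroup.mk h)) (v : leechLattice) (q : Q)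
    (hq : ψ v = QuotientGroup.mk q) : ψ (k • v) = QuotientGroup.mk (conjQ Q h q) :=
  hψ.2.2.2 h k hk v q hq

theorem sqNorm_double (w : GolayPt → ℤ) : sqNorm (w + w) = 4 * sqNorm w := by
  unfold sqNorm
  rw [Finset.mul_sum]
  apply Finset.sum_congr rfl
  intro i _
  simp only [Pi.add_apply]
  ring

include hψ in
theorem psi_ne_one (v : leechLattice)
    (hv : sqNorm (v : GolayPt → ℤ) = 32 ∨ sqNorm (v : GolayPt → ℤ) = 64) : ψ v ≠ 1 := by
  intro h
  obtain ⟨w, hw⟩ := (hψ.2.2.1 v).mp h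
  have h1 : sqNorm (v : GolayPt → ℤ) = 4 * sqNorm (w : GolayPt → ℤ) := by
    rw [hw, AddSubgroup.coe_add, sqNorm_double]
  by_cases hw0 : (w : GolayPt → ℤ) = 0
  · rw [hw0] at h1
    have : sqNorm (0 : GolayPt → ℤ) = 0 := by unfold sqNorm; simp
    rw [this] at h1
    omega
  · have := Cfsg.Agent.S0391.result (w : GolayPt → ℤ) w.2 hw0
    omega

section setting

variable [Finite G]
  (hF : generalizedFittingSubgroup (Subgroup.centralizer ({z} : Set G)) = Q)
  (hz2 : orderOf z = 2) (hE : IsExtraspecial 2 Q)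

include hz2 hE in
theorem mk_eq_cases (a b : Q)
    (h : (QuotientGroup.mk a : Q ⧸ Subgroup.center Q) = QuotientGroup.mk b) :
    b = a ∨ b = a * zq Q hF := by
  have h1 : a⁻¹ * b ∈ Subgroup.center Q := QuotientGroup.eq.mp h
  rcases (center_Q_iff Q hF hz2 hE _).mp h1 with h2 | h2
  · left
    have : b = a * (a⁻¹ * b) := by group
    rw [this, h2, mul_one]
  · right
    have : b = a * (a⁻¹ * b) := by group
    rw [this, h2]

include hψ hF hz2 hE in
/-- an automorphism fixing the class of `v` is induced by an element of `C` centralizing `s0` -/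
theorem stab_lift (v : leechLattice) (s0 : Q) (hs0 : ψ v = QuotientGroup.mk s0)
    (hnc : s0 ∉ Subgroup.center Q) (t : Co0) (ht : ψ (t • v) = ψ v) :
    ∃ h : Subgroup.centralizer ({z} : Set G),
      (QuotientGroup.mk t : Spor.Co1) = e (QuotientGroup.mk h) ∧
      h * (s0 : Subgroup.centralizer ({z} : Set G)) = (s0 : Subgroup.centralizer ({z} : Set G)) * h := by
  obtain ⟨h0, hh0⟩ := lift_C Q e t
  have h1 := equiv' Q e ψ hψ h0 t hh0 v s0 hs0
  rw [ht, hs0] at h1
  rcases mk_eq_cases Q hF hz2 hE _ _ h1 with h2 | h2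
  · refine ⟨h0, hh0, ?_⟩
    have h3 := congrArg (fun x : Q => (x : Subgroup.centralizer ({z} : Set G))) h2
    simp only [conjQ_coe] at h3
    calc h0 * (s0 : Subgroup.centralizer ({z} : Set G))
        = (h0 * (s0 : Subgroup.centralizer ({z} : Set G)) * h0⁻¹) * h0 := by group
      _ = (s0 : Subgroup.centralizer ({z} : Set G)) * h0 := by rw [h3]
  · obtain ⟨q, hq⟩ := noncentral_swap Q hF hz2 hE s0 hnc
    refine ⟨h0 * q, ?_, ?_⟩
    · have hq1 : (QuotientGroup.mk (q : Subgroup.centralizer ({z} : Set G)) :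
          (Subgroup.centralizer ({z} : Set G)) ⧸ Q) = 1 :=
        (QuotientGroup.eq_one_iff (q : Subgroup.centralizer ({z} : Set G))).mpr q.2
      rw [hh0, QuotientGroup.mk_mul, hq1, mul_one]
    · have h3 : conjQ Q (h0 * q) s0 = s0 := by
        have e1 : conjQ Q (h0 * q) s0 = conjQ Q h0 (q * s0 * q⁻¹) := by
          apply Subtype.ext
          simp only [conjQ_coe, Subgroup.coe_mul, Subgroup.coe_inv]
          group
        rw [e1, hq]
        have e2 : conjQ Q h0 (s0 * zq Q hF) = conjQ Q h0 s0 * conjQ Q h0 (zq Q hF) := by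
          apply Subtype.ext
          simp only [conjQ_coe, Subgroup.coe_mul]
          group
        rw [e2, conjQ_zq, h2, mul_assoc, zq_sq Q hF hz2 hE, mul_one]
      have h4 := congrArg (fun x : Q => (x : Subgroup.centralizer ({z} : Set G))) h3
      simp only [conjQ_coe] at h4
      have h5 : (h0 * q) * (s0 : Subgroup.centralizer ({z} : Set G)) =
          ((h0 * q) * (s0 : Subgroup.centralizer ({z} : Set G)) * (h0 * q)⁻¹) * (h0 * q) := by group
      rw [h5, h4]

include hψ hF hz2 hE in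
theorem two_subgroup_le (v : leechLattice) (hv : sqNorm (v : GolayPt → ℤ) = 32) (s0 : Q)
    (hs0 : ψ v = QuotientGroup.mk s0)
    (R : Subgroup (Subgroup.centralizer ({z} : Set G)))
    (hR2 : ∀ d ∈ R, ∃ a : ℕ, d ^ (2 ^ a) = 1)
    (hRs : ∀ d ∈ R, d * (s0 : Subgroup.centralizer ({z} : Set G)) =
      (s0 : Subgroup.centralizer ({z} : Set G)) * d)
    (hRn : ∀ h : Subgroup.centralizer ({z} : Set G),
      h * (s0 : Subgroup.centralizer ({z} : Set G)) = (s0 : Subgroup.centralizer ({z} : Set G)) * h →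
      ∀ d ∈ R, h * d * h⁻¹ ∈ R) :
    R ≤ Q := by
  obtain ⟨hsimple, hcardS⟩ := Cfsg.Agent.S0402.result v hv
  have hnc : s0 ∉ Subgroup.center Q := by
    intro hc
    apply psi_ne_one Q e ψ hψ v (Or.inl hv)
    rw [hs0]
    exact (QuotientGroup.eq_one_iff s0).mpr hc
  have hv0 : (v : GolayPt → ℤ) ≠ 0 := by
    intro h
    rw [h] at hv
    have : sqNorm (0 : GolayPt → ℤ) = 0 := by unfold sqNorm; simp
    rw [this] at hv
    omega
  -- the subgroup of the stabilizer induced by `R`
  let N : Subgroup (MulAction.stabilizer Co0 v) :=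
    { carrier := {k | ∃ d ∈ R, (QuotientGroup.mk (k : Co0) : Spor.Co1) = e (QuotientGroup.mk d)}
      one_mem' := ⟨1, R.one_mem, by simp⟩
      mul_mem' := by
        rintro a b ⟨d1, hd1, h1⟩ ⟨d2, hd2, h2⟩
        refine ⟨d1 * d2, R.mul_mem hd1 hd2, ?_⟩
        rw [Subgroup.coe_mul, QuotientGroup.mk_mul, QuotientGroup.mk_mul, map_mul, h1, h2]
      inv_mem' := by
        rintro a ⟨d1, hd1, h1⟩
        refine ⟨d1⁻¹, R.inv_mem hd1, ?_⟩
        rw [Subgroup.coe_inv, QuotientGroup.mk_inv, QuotientGroup.mk_inv, map_inv, h1] }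
  have hNn : N.Normal := by
    constructor
    rintro k ⟨d, hd, hkd⟩ t
    obtain ⟨h, hh, hcomm⟩ := stab_lift Q e ψ hψ hF hz2 hE v s0 hs0 hnc (t : Co0)
      (congrArg ψ t.2)
    refine ⟨h * d * h⁻¹, hRn h hcomm d hd, ?_⟩
    rw [Subgroup.coe_mul, Subgroup.coe_mul, Subgroup.coe_inv, QuotientGroup.mk_mul,
      QuotientGroup.mk_mul, QuotientGroup.mk_inv, QuotientGroup.mk_mul, QuotientGroup.mk_mul,
      QuotientGroup.mk_inv, map_mul, map_mul, map_inv, hkd, hh]
  -- `N` is a 2-group
  have hN2 : ∀ k ∈ N, ∃ a : ℕ, k ^ (2 ^ a) = 1 := by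
    rintro k ⟨d, hd, hkd⟩
    obtain ⟨a, ha⟩ := hR2 d hd
    refine ⟨a, ?_⟩
    have h1 : (QuotientGroup.mk ((k : Co0) ^ (2 ^ a)) : Spor.Co1) = 1 := by
      rw [QuotientGroup.mk_pow, hkd, ← map_pow, ← QuotientGroup.mk_pow, ha, QuotientGroup.mk_one,
        map_one]
    have h2 : (k : Co0) ^ (2 ^ a) ∈ Subgroup.center Co0 := (QuotientGroup.eq_one_iff _).mp h1
    have h3 : ((k ^ (2 ^ a) : MulAction.stabilizer Co0 v) : Co0) • v = v := (k ^ (2 ^ a)).2
    rw [Subgroup.coe_pow] at h3
    rcases central_cases _ h2 with h4 | h4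
    · apply Subtype.ext
      rw [Subgroup.coe_pow, h4]
      rfl
    · exfalso
      rw [h4] at h3
      have h5 := congrArg (fun x : leechLattice => (x : GolayPt → ℤ)) h3
      simp only [negC_apply] at h5
      apply hv0
      have : (v : GolayPt → ℤ) + (v : GolayPt → ℤ) = 0 := by
        nth_rewrite 1 [← h5]
        simp
      ext i
      have := congrFun this i
      simp only [Pi.add_apply, Pi.zero_apply] at this ⊢
      omega
  have hNbot : N = ⊥ := by
    rcases hNn.eq_bot_or_eq_top with h | h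
    · exact h
    · exfalso
      have hfin : Finite (MulAction.stabilizer Co0 v) := by
        apply Nat.finite_of_card_ne_zero
        rw [hcardS]
        norm_num
      have hp : IsPGroup 2 (MulAction.stabilizer Co0 v) := by
        intro k
        have hk : k ∈ N := by rw [h]; exact Subgroup.mem_top k
        exact hN2 k hk
      have : Fact (Nat.Prime 2) := ⟨Nat.prime_two⟩
      obtain ⟨n, hn⟩ := IsPGroup.iff_card.mp hp
      rw [hcardS] at hn
      have h3 : 3 ∣ 2 ^ n := by rw [← hn]; norm_num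
      have := Nat.Prime.dvd_of_dvd_pow Nat.prime_three h3
      omega
  -- conclusion
  intro d hd
  obtain ⟨k0, hk0⟩ := lift_Co0 Q e d
  have h1 := equiv' Q e ψ hψ d k0 hk0 v s0 hs0
  have h2 : conjQ Q d s0 = s0 := by
    apply Subtype.ext
    rw [conjQ_coe, hRs d hd]
    group
  rw [h2, ← hs0] at h1
  have hfix : ∀ k : Co0, (QuotientGroup.mk k : Spor.Co1) = e (QuotientGroup.mk d) → k • v = v →
      d ∈ Q := by
    intro k hk hkv
    have hkN : (⟨k, hkv⟩ : MulAction.stabilizer Co0 v) ∈ N := ⟨d, hd, hk⟩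
    rw [hNbot, Subgroup.mem_bot] at hkN
    have hk1 : k = 1 := congrArg Subtype.val hkN
    rw [hk1, QuotientGroup.mk_one] at hk
    have := (MulEquiv.map_eq_one_iff e).mp hk.symm
    exact (QuotientGroup.eq_one_iff d).mp this
  by_cases hkv : k0 • v = v
  · exact hfix k0 hk0 hkv
  · -- then `k0 • v = -v`
    have hsub : ψ (k0 • v - v) = 1 := by
      rw [psi_sub ψ hψ.1 hψ.2.2.1, h1, mul_inv_cancel]
    obtain ⟨w, hw⟩ := (hψ.2.2.1 _).mp hsub
    have hne : ((k0 • v : leechLattice) : GolayPt → ℤ) ≠ (v : GolayPt → ℤ) :=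
      fun h => hkv (Subtype.ext h)
    have hn : sqNorm ((k0 • v : leechLattice) : GolayPt → ℤ) = 32 := by
      rw [← hv]; exact k0.2.2 v
    have h5592 := Cfsg.Agent.S5592.result ((k0 • v : leechLattice) : GolayPt → ℤ)
      (v : GolayPt → ℤ) (k0 • v).2 v.2 hne (by rw [hn]; norm_num) (by rw [hv]; norm_num)
      ⟨(w : GolayPt → ℤ), w.2, by
        have := congrArg (fun x : leechLattice => (x : GolayPt → ℤ)) hw
        simp only [AddSubgroup.coe_sub, AddSubgroup.coe_add] at this
        rw [this, two_smul]⟩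
    rcases h5592 with h6 | h6
    · apply hfix (negC * k0)
      · rw [QuotientGroup.mk_mul, (QuotientGroup.eq_one_iff negC).mpr negC_central, one_mul, hk0]
      · apply Subtype.ext
        rw [mul_smul, negC_apply, h6, neg_neg]
    · exfalso
      rw [hn] at h6
      omega

end setting

end Cfsg.Agent.Lib.Helper1.MonT
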