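import Mathlib
import Cfsg.Agent.Lib.Helper1.MonT2
import Cfsg.Agent.Lib.Helper9.ExtraTransport
import Cfsg.Agent.S5422

/-!
# Monster type: the conjugates of `z` in `Q` are not of type 2
-/

set_option autoImplicit false

namespace Cfsg.Agent.Lib.Helper1.MonT

open Cfsg Cfsg.Agent.Lib.Helper1.MonQ Cfsg.Agent.Lib.Helper1.LeechAut
open scoped commutatorElement

/-- In an extraspecial 2-group of order more than 8 the centralizer of a non-central element is not
abelian. -/
theorem card_le_eight {P : Type*} [Group P] [Finite P] (hE : IsExtraspecial 2 P) (x r : P)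
    (hrx : r * x ≠ x * r)
    (habel : ∀ a b : P, a * x = x * a → b * x = x * b → a * b = b * a) : Nat.card P ≤ 8 := by
  have comm_of_iota : ∀ a b : P, iota ⁅a, b⁆ = 0 → a * b = b * a := by
    intro a b h
    have h1 := (iota_eq_zero_iff _).mp h
    rw [commutatorElement_def] at h1
    have : a * b = (a * b * a⁻¹ * b⁻¹) * (b * a) := by group
    rw [this, h1, one_mul]
  have iota_of_comm : ∀ a b : P, a * b = b * a → iota ⁅a, b⁆ = 0 := by
    intro a b h
    rw [iota_eq_zero_iff, commutatorElement_def, h]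
    group
  have iota_cases : ∀ a : ZMod 2, a = 0 ∨ a = 1 := by decide
  let Φ : P →* Multiplicative (ZMod 2 × ZMod 2) :=
    MonoidHom.mk' (fun y => Multiplicative.ofAdd (iota ⁅x, y⁆, iota ⁅r, y⁆)) (by
      intro a b
      rw [iota_comm_mul hE x a b, iota_comm_mul hE r a b]
      rfl)
  have hker : Φ.ker ≤ Subgroup.center P := by
    intro y hy
    have h0 : (iota ⁅x, y⁆, iota ⁅r, y⁆) = (0 : ZMod 2 × ZMod 2) := by
      have := MonoidHom.mem_ker.mp hy
      exact Multiplicative.ofAdd.injective this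
    have hxy : x * y = y * x := comm_of_iota x y (congrArg Prod.fst h0)
    have hry : r * y = y * r := comm_of_iota r y (congrArg Prod.snd h0)
    rw [Subgroup.mem_center_iff]
    intro p
    by_cases hp : p * x = x * p
    · exact habel p y hp hxy.symm
    · -- `p r⁻¹` commutes with `x`
      have h1 : iota ⁅x, p⁆ = 1 := by
        rcases iota_cases (iota ⁅x, p⁆) with h | h
        · exact absurd (comm_of_iota x p h).symm hp
        · exact h
      have h2 : iota ⁅x, r⁆ = 1 := by
        rcases iota_cases (iota ⁅x, r⁆) with h | h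
        · exact absurd (comm_of_iota x r h).symm hrx
        · exact h
      have h3 : iota ⁅x, r⁻¹⁆ = 1 := by
        have := iota_comm_mul hE x r r⁻¹
        rw [mul_inv_cancel, iota_of_comm x 1 (by simp), h2] at this
        rcases iota_cases (iota ⁅x, r⁻¹⁆) with h | h
        · rw [h] at this; exact absurd this (by decide)
        · exact h
      have h4 : iota ⁅x, p * r⁻¹⁆ = 0 := by
        rw [iota_comm_mul hE x p r⁻¹, h1, h3]; decide
      have h5 : (p * r⁻¹) * x = x * (p * r⁻¹) := (comm_of_iota _ _ h4).symm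
      have h6 : (p * r⁻¹) * y = y * (p * r⁻¹) := habel _ _ h5 hxy.symm
      calc p * y = (p * r⁻¹) * (r * y) := by group
        _ = (p * r⁻¹) * (y * r) := by rw [hry]
        _ = ((p * r⁻¹) * y) * r := by group
        _ = (y * (p * r⁻¹)) * r := by rw [h6]
        _ = y * p := by group
  have h1 := Subgroup.card_eq_card_quotient_mul_card_subgroup Φ.ker
  have h2 : Nat.card (P ⧸ Φ.ker) ≤ 4 := by
    have := Nat.card_le_card_of_injective _ (QuotientGroup.kerLift_injective Φ)
    have hc : Nat.card (Multiplicative (ZMod 2 × ZMod 2)) = 4 := by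
      rw [Nat.card_eq_fintype_card]; rfl
    rwa [hc] at this
  have h3 : Nat.card Φ.ker ≤ 2 := by
    have h4 := Subgroup.card_le_of_le hker
    rwa [hE.2] at h4
  calc Nat.card P = Nat.card (P ⧸ Φ.ker) * Nat.card Φ.ker := h1
    _ ≤ 4 * 2 := Nat.mul_le_mul h2 h3

variable {G : Type*} [Group G] {z : G}
  (Q : Subgroup (Subgroup.centralizer ({z} : Set G))) [Q.Normal]

/-- `Q` as a subgroup of `G` -/
def QG : Subgroup G := Q.map (Subgroup.centralizer ({z} : Set G)).subtype

theorem mem_QG_iff (x : G) : x ∈ QG Q ↔ ∃ hx : x ∈ Subgroup.centralizer ({z} : Set G),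
    (⟨x, hx⟩ : Subgroup.centralizer ({z} : Set G)) ∈ Q := by
  unfold QG
  rw [Subgroup.mem_map]
  constructor
  · rintro ⟨c, hc, rfl⟩
    exact ⟨c.2, hc⟩
  · rintro ⟨hx, hq⟩
    exact ⟨⟨x, hx⟩, hq, rfl⟩

theorem coe_mem_QG (q : Q) : ((q : Subgroup.centralizer ({z} : Set G)) : G) ∈ QG Q :=
  (mem_QG_iff Q _).mpr ⟨(q : Subgroup.centralizer ({z} : Set G)).2, q.2⟩

theorem QG_comm_z {x : G} (hx : x ∈ QG Q) : x * z = z * x := by
  obtain ⟨hxc, _⟩ := (mem_QG_iff Q x).mp hx
  exact ((Subgroup.mem_centralizer_iff.mp hxc) z rfl).symm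

/-- the isomorphism of `Q` with its image in `G` -/
noncomputable def equivQG : Q ≃* QG Q :=
  Subgroup.equivMapOfInjective Q _ (Subgroup.subtype_injective _)

theorem equivQG_coe (q : Q) : ((equivQG Q q : QG Q) : G) = ((q : Subgroup.centralizer ({z} : Set G)) : G) :=
  rfl

theorem mem_center_comm {C : Type*} [Group C] (h : C) (c : C) (hc : ∀ x : C, x * c = c * x) :
    h * c * h⁻¹ = c := by
  rw [hc h, mul_inv_cancel_right]

section setting

variable [Finite G]
  (e : (Subgroup.centralizer ({z} : Set G)) ⧸ Q ≃* Spor.Co1)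
  (ψ : leechLattice → Q ⧸ Subgroup.center Q)
  (hψ : IsLeechModTwoIso Q e ψ)
  (hF : generalizedFittingSubgroup (Subgroup.centralizer ({z} : Set G)) = Q)
  (hz2 : orderOf z = 2) (hE : IsExtraspecial 2 Q)

include hz2 in
theorem z_ne_one : z ≠ 1 := by
  intro h
  rw [h, orderOf_one] at hz2
  exact absurd hz2 (by norm_num)

include hF in
theorem z_mem_QG : z ∈ QG Q := coe_mem_QG Q (zq Q hF)

include hF hz2 hE in
/-- the centre of `Q`, as a subgroup of `G` -/
theorem mem_ZG_iff (x : G) :
    x ∈ (Subgroup.center (QG Q)).map (QG Q).subtype ↔ x = 1 ∨ x = z := by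
  rw [Subgroup.mem_map]
  constructor
  · rintro ⟨c, hc, rfl⟩
    obtain ⟨hxc, hxq⟩ := (mem_QG_iff Q c.1).mp c.2
    have hcen : (⟨⟨c.1, hxc⟩, hxq⟩ : Q) ∈ Subgroup.center Q := by
      rw [Subgroup.mem_center_iff]
      intro r
      have h1 := (Subgroup.mem_center_iff.mp hc) ⟨_, coe_mem_QG Q r⟩
      have h2 : ((r : Subgroup.centralizer ({z} : Set G)) : G) * c.1 =
          c.1 * ((r : Subgroup.centralizer ({z} : Set G)) : G) := congrArg Subtype.val h1
      apply Subtype.ext
      apply Subtype.ext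
      exact h2
    rcases (center_Q_iff Q hF hz2 hE _).mp hcen with h | h
    · left
      exact congrArg (fun q : Q => ((q : Subgroup.centralizer ({z} : Set G)) : G)) h
    · right
      exact congrArg (fun q : Q => ((q : Subgroup.centralizer ({z} : Set G)) : G)) h
  · rintro (rfl | rfl)
    · exact ⟨1, Subgroup.one_mem _, rfl⟩
    · refine ⟨⟨x, z_mem_QG Q hF⟩, ?_, rfl⟩
      rw [Subgroup.mem_center_iff]
      intro r
      apply Subtype.ext
      exact QG_comm_z Q r.2

include hF hz2 hE in
theorem hL2 : Subgroup.centralizer (QG Q : Set G) =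
    (Subgroup.center (QG Q)).map (QG Q).subtype := by
  ext x
  rw [mem_ZG_iff Q hF hz2 hE]
  constructor
  · intro hx
    have hxz : z * x = x * z := (Subgroup.mem_centralizer_iff.mp hx) z (z_mem_QG Q hF)
    have hxc : x ∈ Subgroup.centralizer ({z} : Set G) := by
      rw [Subgroup.mem_centralizer_iff]
      intro y hy
      rw [Set.mem_singleton_iff.mp hy]
      exact hxz
    have hxQ : (⟨x, hxc⟩ : Subgroup.centralizer ({z} : Set G)) ∈ Q := by
      apply cent_le Q hF
      intro q
      apply Subtype.ext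
      exact ((Subgroup.mem_centralizer_iff.mp hx) _ (coe_mem_QG Q q)).symm
    have hcen : (⟨⟨x, hxc⟩, hxQ⟩ : Q) ∈ Subgroup.center Q := by
      rw [Subgroup.mem_center_iff]
      intro r
      apply Subtype.ext
      apply Subtype.ext
      exact (Subgroup.mem_centralizer_iff.mp hx) _ (coe_mem_QG Q r)
    rcases (center_Q_iff Q hF hz2 hE _).mp hcen with h | h
    · left
      exact congrArg (fun q : Q => ((q : Subgroup.centralizer ({z} : Set G)) : G)) h
    · right
      exact congrArg (fun q : Q => ((q : Subgroup.centralizer ({z} : Set G)) : G)) h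
  · rintro (rfl | rfl)
    · exact Subgroup.one_mem _
    · rw [Subgroup.mem_centralizer_iff]
      intro y hy
      exact QG_comm_z Q hy

/-- elements of `C` normalize `Q` -/
theorem conj_mem_QG {h x : G} (hh : h ∈ Subgroup.centralizer ({z} : Set G)) (hx : x ∈ QG Q) :
    h * x * h⁻¹ ∈ QG Q := by
  obtain ⟨hxc, hxq⟩ := (mem_QG_iff Q x).mp hx
  have := (inferInstance : Q.Normal).conj_mem _ hxq ⟨h, hh⟩
  exact (mem_QG_iff Q _).mpr ⟨(⟨h, hh⟩ * ⟨x, hxc⟩ * (⟨h, hh⟩ : Subgroup.centralizer ({z} : Set G))⁻¹).2, this⟩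

include hF hz2 hE in
theorem hL3 : Subgroup.centralizer (((Subgroup.center (QG Q)).map (QG Q).subtype : Subgroup G) : Set G) ≤
    Subgroup.normalizer (QG Q : Set G) := by
  intro x hx
  have hxz : z * x = x * z :=
    (Subgroup.mem_centralizer_iff.mp hx) z ((mem_ZG_iff Q hF hz2 hE z).mpr (Or.inr rfl))
  have hxc : x ∈ Subgroup.centralizer ({z} : Set G) := by
    rw [Subgroup.mem_centralizer_iff]
    intro y hy
    rw [Set.mem_singleton_iff.mp hy]
    exact hxz
  rw [Subgroup.mem_normalizer_iff]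
  intro y
  constructor
  · intro hy
    exact conj_mem_QG Q hxc hy
  · intro hy
    have := conj_mem_QG Q (Subgroup.inv_mem _ hxc) hy
    have e1 : x⁻¹ * (x * y * x⁻¹) * x⁻¹⁻¹ = y := by group
    rwa [e1] at this

end setting

end Cfsg.Agent.Lib.Helper1.MonT
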