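import Mathlib
import Cfsg.Agent.Lib.Helper1.MonT3

/-!
# Monster type: the conjugates of `z` in `Q` are not of type 2 (main argument)
-/

set_option autoImplicit false

namespace Cfsg.Agent.Lib.Helper1.MonT

open Cfsg Cfsg.Agent.Lib.Helper1.MonQ Cfsg.Agent.Lib.Helper1.LeechAut
open scoped commutatorElement

variable {G : Type*} [Group G] {z : G}
  (Q : Subgroup (Subgroup.centralizer ({z} : Set G))) [Q.Normal]

/-- the conjugate of `Q` by `g`, as a subgroup of `G` -/
def Qg (g : G) : Subgroup G := (QG Q).map (MulAut.conj g).toMonoidHom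

theorem mem_Qg_iff (g x : G) : x ∈ Qg Q g ↔ ∃ y ∈ QG Q, g * y * g⁻¹ = x := by
  unfold Qg
  rw [Subgroup.mem_map]
  simp only [MulEquiv.coe_toMonoidHom, MulAut.conj_apply]

/-- the isomorphism of `Q` (in `G`) with its conjugate -/
noncomputable def equivQg (g : G) : QG Q ≃* Qg Q g :=
  Subgroup.equivMapOfInjective (QG Q) _ (MulAut.conj g).injective

/-- the intersection of the conjugate of `Q` with `C`, as a subgroup of `C` -/
def DD (g : G) : Subgroup (Subgroup.centralizer ({z} : Set G)) :=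
  (Qg Q g).comap (Subgroup.centralizer ({z} : Set G)).subtype

theorem D_two [Finite G] (hE : IsExtraspecial 2 Q) (g : G) :
    ∀ d ∈ (Qg Q g).comap (Subgroup.centralizer ({z} : Set G)).subtype, ∃ a : ℕ, d ^ (2 ^ a) = 1 := by
  intro d hd
  obtain ⟨y, hy, hyd⟩ := (mem_Qg_iff Q g _).mp (Subgroup.mem_comap.mp hd)
  obtain ⟨hyc, hyq⟩ := (mem_QG_iff Q y).mp hy
  obtain ⟨a, ha⟩ := hE.1.1 (⟨⟨y, hyc⟩, hyq⟩ : Q)
  refine ⟨a, ?_⟩
  have h1 : y ^ (2 ^ a) = 1 :=
    congrArg (fun q : Q => ((q : Subgroup.centralizer ({z} : Set G)) : G)) ha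
  apply Subtype.ext
  rw [Subgroup.coe_pow, Subgroup.coe_one]
  have h2 : ((d : Subgroup.centralizer ({z} : Set G)) : G) = g * y * g⁻¹ := hyd.symm
  rw [h2, conj_pow, h1]
  group

theorem D_comm (g : G) (s0 : Q)
    (hs0g : ((s0 : Subgroup.centralizer ({z} : Set G)) : G) = g * z * g⁻¹) :
    ∀ d ∈ (Qg Q g).comap (Subgroup.centralizer ({z} : Set G)).subtype,
      d * (s0 : Subgroup.centralizer ({z} : Set G)) =
      (s0 : Subgroup.centralizer ({z} : Set G)) * d := by
  intro d hd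
  obtain ⟨y, hy, hyd⟩ := (mem_Qg_iff Q g _).mp (Subgroup.mem_comap.mp hd)
  apply Subtype.ext
  rw [Subgroup.coe_mul, Subgroup.coe_mul, hs0g]
  have h2 : ((d : Subgroup.centralizer ({z} : Set G)) : G) = g * y * g⁻¹ := hyd.symm
  rw [h2]
  have h3 := QG_comm_z Q hy
  calc g * y * g⁻¹ * (g * z * g⁻¹) = g * (y * z) * g⁻¹ := by group
    _ = g * (z * y) * g⁻¹ := by rw [h3]
    _ = g * z * g⁻¹ * (g * y * g⁻¹) := by group

theorem D_norm [Finite G] (g : G) (s0 : Q)
    (hs0g : ((s0 : Subgroup.centralizer ({z} : Set G)) : G) = g * z * g⁻¹) :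
    ∀ h : Subgroup.centralizer ({z} : Set G),
      h * (s0 : Subgroup.centralizer ({z} : Set G)) = (s0 : Subgroup.centralizer ({z} : Set G)) * h →
      ∀ d ∈ (Qg Q g).comap (Subgroup.centralizer ({z} : Set G)).subtype,
        h * d * h⁻¹ ∈ (Qg Q g).comap (Subgroup.centralizer ({z} : Set G)).subtype := by
  intro h hh d hd
  obtain ⟨y, hy, hyd⟩ := (mem_Qg_iff Q g _).mp (Subgroup.mem_comap.mp hd)
  have hh' : (h : G) * (g * z * g⁻¹) = (g * z * g⁻¹) * (h : G) := by
    have := congrArg (fun c : Subgroup.centralizer ({z} : Set G) => (c : G)) hh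
    simp only [Subgroup.coe_mul] at this
    rw [hs0g] at this
    exact this
  have hh'c : g⁻¹ * (h : G) * g ∈ Subgroup.centralizer ({z} : Set G) := by
    rw [Subgroup.mem_centralizer_iff]
    intro x hx
    rw [Set.mem_singleton_iff.mp hx]
    calc z * (g⁻¹ * (h : G) * g) = g⁻¹ * ((g * z * g⁻¹) * (h : G)) * g := by group
      _ = g⁻¹ * ((h : G) * (g * z * g⁻¹)) * g := by rw [hh']
      _ = g⁻¹ * (h : G) * g * z := by group
  have h4 := conj_mem_QG Q hh'c hy
  apply Subgroup.mem_comap.mpr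
  apply (mem_Qg_iff Q g _).mpr
  refine ⟨_, h4, ?_⟩
  have h2 : ((d : Subgroup.centralizer ({z} : Set G)) : G) = g * y * g⁻¹ := hyd.symm
  simp only [Subgroup.subtype_apply, Subgroup.coe_mul, Subgroup.coe_inv]
  rw [h2]
  group

section setting

variable [Finite G]
  (e : (Subgroup.centralizer ({z} : Set G)) ⧸ Q ≃* Spor.Co1)
  (ψ : leechLattice → Q ⧸ Subgroup.center Q)
  (hψ : IsLeechModTwoIso Q e ψ)
  (hF : generalizedFittingSubgroup (Subgroup.centralizer ({z} : Set G)) = Q)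
  (hz2 : orderOf z = 2) (hE : IsExtraspecial 2 Q)

include hF hz2 hE in
/-- commutators of elements of `Q`, computed in `G` -/
theorem comm_QG_cases {a b : G} (ha : a ∈ QG Q) (hb : b ∈ QG Q) :
    a * b * a⁻¹ * b⁻¹ = 1 ∨ a * b * a⁻¹ * b⁻¹ = z := by
  obtain ⟨hac, haq⟩ := (mem_QG_iff Q a).mp ha
  obtain ⟨hbc, hbq⟩ := (mem_QG_iff Q b).mp hb
  have hc : ⁅(⟨⟨a, hac⟩, haq⟩ : Q), (⟨⟨b, hbc⟩, hbq⟩ : Q)⁆ ∈ Subgroup.center Q :=
    comm_mem_center hE _ _
  rcases (center_Q_iff Q hF hz2 hE _).mp hc with h | h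
  · left
    have := congrArg (fun q : Q => ((q : Subgroup.centralizer ({z} : Set G)) : G)) h
    rw [commutatorElement_def] at this
    exact this
  · right
    have := congrArg (fun q : Q => ((q : Subgroup.centralizer ({z} : Set G)) : G)) h
    rw [commutatorElement_def] at this
    exact this

include hF hz2 hE in
/-- if `g z g⁻¹ ∈ Q` is different from `z` then `z` lies in the conjugate of `Q` by `g` -/
theorem z_mem_Qg (hcard : Nat.card Q = 2 ^ 25) (g : G) (s0 : Q)
    (hs0g : ((s0 : Subgroup.centralizer ({z} : Set G)) : G) = g * z * g⁻¹)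
    (hs0z : ((s0 : Subgroup.centralizer ({z} : Set G)) : G) ≠ z) : z ∈ Qg Q g := by
  have hz1 : z ≠ 1 := z_ne_one hz2
  have hL1 : IsExtraspecial 2 (QG Q) :=
    Cfsg.Agent.Lib.Helper9.isExtraspecial_of_mulEquiv (equivQG Q) hE
  have hcard' : Nat.card (QG Q) = 2 ^ (2 * 12 + 1) := by
    rw [← Nat.card_congr (equivQG Q).toEquiv, hcard]
  have hzZG : z ∈ (Subgroup.center (QG Q)).map (QG Q).subtype :=
    (mem_ZG_iff Q hF hz2 hE z).mpr (Or.inr rfl)
  have hg : g ∉ Subgroup.normalizer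
      (((Subgroup.center (QG Q)).map (QG Q).subtype : Subgroup G) : Set G) := by
    intro hgn
    rw [Subgroup.mem_normalizer_iff] at hgn
    have h1 := (hgn z).mp hzZG
    rcases (mem_ZG_iff Q hF hz2 hE _).mp h1 with h | h
    · apply hz1
      have : z = g⁻¹ * (g * z * g⁻¹) * g := by group
      rw [this, h]; group
    · exact hs0z (hs0g.trans h)
  have hZg : ((Subgroup.center (QG Q)).map (QG Q).subtype).map (MulAut.conj g).toMonoidHom ≤
      QG Q := by
    intro x hx
    obtain ⟨c, hc, rfl⟩ := Subgroup.mem_map.mp hx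
    simp only [MulEquiv.coe_toMonoidHom, MulAut.conj_apply]
    rcases (mem_ZG_iff Q hF hz2 hE c).mp hc with h | h
    · rw [h]; simp only [mul_one, mul_inv_cancel]; exact Subgroup.one_mem _
    · rw [h, ← hs0g]; exact coe_mem_QG Q s0
  have h5422 := Cfsg.Agent.S5422.result (QG Q) hL1 (hL2 Q hF hz2 hE) (hL3 Q hF hz2 hE) 12
    (by norm_num) hcard' g hg hZg
  exact h5422.1 hzZG

include hψ hF hz2 hE in
theorem no_type_two (hcard : Nat.card Q = 2 ^ 25) (g : G) (s0 : Q)
    (hs0g : ((s0 : Subgroup.centralizer ({z} : Set G)) : G) = g * z * g⁻¹)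
    (hs0z : ((s0 : Subgroup.centralizer ({z} : Set G)) : G) ≠ z)
    (v : leechLattice) (hv : sqNorm (v : GolayPt → ℤ) = 32) (hs0 : ψ v = QuotientGroup.mk s0) :
    False := by
  have hz1 : z ≠ 1 := z_ne_one hz2
  have hL1 : IsExtraspecial 2 (QG Q) :=
    Cfsg.Agent.Lib.Helper9.isExtraspecial_of_mulEquiv (equivQG Q) hE
  have hcard' : Nat.card (QG Q) = 2 ^ (2 * 12 + 1) := by
    rw [← Nat.card_congr (equivQG Q).toEquiv, hcard]
  have hzZG : z ∈ (Subgroup.center (QG Q)).map (QG Q).subtype :=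
    (mem_ZG_iff Q hF hz2 hE z).mpr (Or.inr rfl)
  -- step A: `z` lies in the conjugate of `Q`
  have hzQg : z ∈ Qg Q g := z_mem_Qg Q hF hz2 hE hcard g s0 hs0g hs0z
  -- step B: `Q^g ∩ C ≤ Q`
  have hRQ : (Qg Q g).comap (Subgroup.centralizer ({z} : Set G)).subtype ≤ Q :=
    two_subgroup_le Q e ψ hψ hF hz2 hE v hv s0 hs0 _ (D_two Q hE g) (D_comm Q g s0 hs0g)
      (D_norm Q g s0 hs0g)
  -- step C: the centralizer of `z` in the conjugate of `Q` is abelian
  have hEg : IsExtraspecial 2 (Qg Q g) :=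
    Cfsg.Agent.Lib.Helper9.isExtraspecial_of_mulEquiv (equivQg Q g) hL1
  have hcardg : Nat.card (Qg Q g) = 2 ^ 25 := by
    rw [← Nat.card_congr (equivQg Q g).toEquiv, hcard']
  obtain ⟨y, hy, hyz⟩ := (mem_Qg_iff Q g z).mp hzQg
  obtain ⟨hyc, hyq⟩ := (mem_QG_iff Q y).mp hy
  have hync : (⟨⟨y, hyc⟩, hyq⟩ : Q) ∉ Subgroup.center Q := by
    intro hc
    rcases (center_Q_iff Q hF hz2 hE _).mp hc with h | h
    · have h1 : y = 1 := congrArg (fun q : Q => ((q : Subgroup.centralizer ({z} : Set G)) : G)) h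
      rw [h1] at hyz
      apply hz1
      rw [← hyz]; group
    · have h1 : y = z := congrArg (fun q : Q => ((q : Subgroup.centralizer ({z} : Set G)) : G)) h
      rw [h1] at hyz
      exact hs0z (hs0g.trans hyz)
  rw [Subgroup.mem_center_iff] at hync
  push Not at hync
  obtain ⟨r', hr'⟩ := hync
  have hr'G : ((r' : Subgroup.centralizer ({z} : Set G)) : G) * y ≠
      y * ((r' : Subgroup.centralizer ({z} : Set G)) : G) := by
    intro h
    apply hr'
    apply Subtype.ext
    apply Subtype.ext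
    exact h
  have hrmem : g * ((r' : Subgroup.centralizer ({z} : Set G)) : G) * g⁻¹ ∈ Qg Q g :=
    (mem_Qg_iff Q g _).mpr ⟨_, coe_mem_QG Q r', rfl⟩
  have hle := card_le_eight hEg (⟨z, hzQg⟩ : Qg Q g) ⟨_, hrmem⟩ (by
    intro h
    have h1 := congrArg (fun c : Qg Q g => (c : G)) h
    simp only [Subgroup.coe_mul] at h1
    apply hr'G
    have e2 : g * ((r' : Subgroup.centralizer ({z} : Set G)) : G) * g⁻¹ * (g * y * g⁻¹) =
        (g * y * g⁻¹) * (g * ((r' : Subgroup.centralizer ({z} : Set G)) : G) * g⁻¹) := by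
      rw [hyz]; exact h1
    have e1 : ((r' : Subgroup.centralizer ({z} : Set G)) : G) * y =
        g⁻¹ * (g * ((r' : Subgroup.centralizer ({z} : Set G)) : G) * g⁻¹ * (g * y * g⁻¹)) * g := by
      group
    rw [e1, e2]
    group) (by
    intro a b ha hb
    have haz : (a : G) * z = z * (a : G) := by
      have := congrArg (fun c : Qg Q g => (c : G)) ha
      simpa only [Subgroup.coe_mul] using this
    have hbz : (b : G) * z = z * (b : G) := by
      have := congrArg (fun c : Qg Q g => (c : G)) hb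
      simpa only [Subgroup.coe_mul] using this
    have hac : (a : G) ∈ Subgroup.centralizer ({z} : Set G) := by
      rw [Subgroup.mem_centralizer_iff]
      intro x hx
      rw [Set.mem_singleton_iff.mp hx]
      exact haz.symm
    have hbc : (b : G) ∈ Subgroup.centralizer ({z} : Set G) := by
      rw [Subgroup.mem_centralizer_iff]
      intro x hx
      rw [Set.mem_singleton_iff.mp hx]
      exact hbz.symm
    have haQ : (⟨(a : G), hac⟩ : Subgroup.centralizer ({z} : Set G)) ∈ Q :=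
      hRQ (Subgroup.mem_comap.mpr a.2)
    have hbQ : (⟨(b : G), hbc⟩ : Subgroup.centralizer ({z} : Set G)) ∈ Q :=
      hRQ (Subgroup.mem_comap.mpr b.2)
    have h1 := comm_QG_cases Q hF hz2 hE ((mem_QG_iff Q _).mpr ⟨hac, haQ⟩)
      ((mem_QG_iff Q _).mpr ⟨hbc, hbQ⟩)
    obtain ⟨a', ha', haa⟩ := (mem_Qg_iff Q g _).mp a.2
    obtain ⟨b', hb', hbb⟩ := (mem_Qg_iff Q g _).mp b.2
    have h2 := comm_QG_cases Q hF hz2 hE ha' hb'
    have h3 : (a : G) * (b : G) * (a : G)⁻¹ * (b : G)⁻¹ =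
        g * (a' * b' * a'⁻¹ * b'⁻¹) * g⁻¹ := by
      rw [← haa, ← hbb]; group
    have hcomm : (a : G) * (b : G) * (a : G)⁻¹ * (b : G)⁻¹ = 1 := by
      rcases h1 with h1 | h1
      · exact h1
      · exfalso
        rcases h2 with h2 | h2
        · rw [h2] at h3
          apply hz1
          rw [← h1, h3]; group
        · rw [h2, ← hs0g] at h3
          exact hs0z (h3.symm.trans h1)
    apply Subtype.ext
    simp only [Subgroup.coe_mul]
    calc (a : G) * (b : G) = ((a : G) * (b : G) * (a : G)⁻¹ * (b : G)⁻¹) * ((b : G) * (a : G)) := by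
          group
      _ = (b : G) * (a : G) := by rw [hcomm, one_mul])
  rw [hcardg] at hle
  norm_num at hle

end setting

end Cfsg.Agent.Lib.Helper1.MonT
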