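import Mathlib
import Cfsg.Agent.Lib.Helper1.MonT4
import Cfsg.Agent.S1570
import Cfsg.Agent.S0400

/-!
# Monster type: the classes of `Q` by type, and transitivity of `C` on them
-/

set_option autoImplicit false

namespace Cfsg.Agent.Lib.Helper1.MonT

open Cfsg Cfsg.Agent.Lib.Helper1.MonQ Cfsg.Agent.Lib.Helper1.LeechAut
  Cfsg.Agent.Lib.Helper1.LeechQuad
open scoped commutatorElement

variable {G : Type*} [Group G] {z : G}
  (Q : Subgroup (Subgroup.centralizer ({z} : Set G))) [Q.Normal]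

section setting

variable [Finite G]
  (e : (Subgroup.centralizer ({z} : Set G)) ⧸ Q ≃* Spor.Co1)
  (ψ : leechLattice → Q ⧸ Subgroup.center Q)
  (hψ : IsLeechModTwoIso Q e ψ)
  (hF : generalizedFittingSubgroup (Subgroup.centralizer ({z} : Set G)) = Q)
  (hz2 : orderOf z = 2) (hE : IsExtraspecial 2 Q)

include hψ in
/-- every lattice automorphism is induced by a map of `Q` preserving the property `x ^ 2 = 1` -/
theorem hinv_of : ∀ g : Co0, ∃ α : Q → Q, (∀ q : Q, (α q) ^ 2 = 1 ↔ q ^ 2 = 1) ∧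
    ∀ (v : leechLattice) (q : Q), ψ v = QuotientGroup.mk q → ψ (g • v) = QuotientGroup.mk (α q) := by
  intro g
  obtain ⟨h, hh⟩ := lift_C Q e g
  refine ⟨conjQ Q h, ?_, fun v q hq => equiv' Q e ψ hψ h g hh v q hq⟩
  intro q
  have hc : ∀ x : Subgroup.centralizer ({z} : Set G), (h * x * h⁻¹) ^ 2 = 1 ↔ x ^ 2 = 1 := by
    intro x
    rw [conj_pow]
    constructor
    · intro hx
      have : x ^ 2 = h⁻¹ * (h * x ^ 2 * h⁻¹) * h := by group
      rw [this, hx]; group
    · intro hx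
      rw [hx]; group
  constructor
  · intro hq
    have h1 := congrArg Subtype.val hq
    apply Subtype.ext
    simp only [Subgroup.coe_pow, Subgroup.coe_one, conjQ_coe] at h1 ⊢
    exact (hc q).mp h1
  · intro hq
    have h1 := congrArg Subtype.val hq
    apply Subtype.ext
    simp only [Subgroup.coe_pow, Subgroup.coe_one, conjQ_coe] at h1 ⊢
    exact (hc q).mpr h1

include hψ hE in
theorem sq_formula (x : Q) (v : leechLattice) (hv : ψ v = QuotientGroup.mk x) :
    MonQ.sq x = ((sqNorm (v : GolayPt → ℤ) / 16 : ℤ) : ZMod 2) := by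
  rw [← Qf_eq hE ψ v x hv]
  exact Qf_formula hE ψ hψ.1 hψ.2.1 hψ.2.2.1 (hinv_of Q e ψ hψ) v

include hψ in
/-- short representatives -/
theorem short_rep (x : Q) : ∃ y : leechLattice, sqNorm (y : GolayPt → ℤ) ≤ 64 ∧
    ψ y = QuotientGroup.mk x := by
  obtain ⟨v, hv⟩ := hψ.2.1 (QuotientGroup.mk x)
  obtain ⟨y, hy, hn, w, hw, hvw⟩ := Cfsg.Agent.S1570.result v.1 v.2
  refine ⟨⟨y, hy⟩, hn, ?_⟩
  have h1 : v = (⟨y, hy⟩ : leechLattice) + ((⟨w, hw⟩ : leechLattice) + ⟨w, hw⟩) := by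
    apply Subtype.ext
    change (v : GolayPt → ℤ) = y + (w + w)
    rw [two_nsmul] at hvw
    rw [← hvw]
    abel
  rw [← hv, h1, hψ.1, (hψ.2.2.1 _).mpr ⟨⟨w, hw⟩, rfl⟩, mul_one]

theorem cast_three : (((48 : ℤ) / 16 : ℤ) : ZMod 2) ≠ 0 := by decide

include hψ hF hz2 hE in
/-- a non-central involution of `Q` has type 2 or type 4 -/
theorem invol_types (x : Q) (hx2 : x ^ 2 = 1) (hxc : x ∉ Subgroup.center Q) :
    ∃ y : leechLattice, (sqNorm (y : GolayPt → ℤ) = 32 ∨ sqNorm (y : GolayPt → ℤ) = 64) ∧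
      ψ y = QuotientGroup.mk x := by
  obtain ⟨y, hn, hy⟩ := short_rep Q e ψ hψ x
  rcases short_norm y.1 y.2 hn with h | h | h | h
  · exfalso
    apply hxc
    have hy0 : y = 0 := Subtype.ext h
    rw [hy0, psi_zero ψ hψ.2.2.1] at hy
    exact (QuotientGroup.eq_one_iff x).mp hy.symm
  · exact ⟨y, Or.inl h, hy⟩
  · exfalso
    have h1 := sq_formula Q e ψ hψ hE x y hy
    rw [h, (sq_eq_zero_iff x).mpr hx2] at h1
    exact cast_three h1.symm
  · exact ⟨y, Or.inr h, hy⟩

/-- an element of `Q` from an element of `G` -/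
def mkQ (s : G) (hsc : s ∈ Subgroup.centralizer ({z} : Set G))
    (hsq : (⟨s, hsc⟩ : Subgroup.centralizer ({z} : Set G)) ∈ Q) : Q := ⟨⟨s, hsc⟩, hsq⟩

include hψ hF hz2 hE in
/-- the conjugates of `z` in `Q` other than `z` are of type 4 -/
theorem conj_type_four (hcard : Nat.card Q = 2 ^ 25) (x : Q)
    (hconj : IsConj z ((x : Subgroup.centralizer ({z} : Set G)) : G))
    (hxz : ((x : Subgroup.centralizer ({z} : Set G)) : G) ≠ z) :
    ∃ v : leechLattice, sqNorm (v : GolayPt → ℤ) = 64 ∧ ψ v = QuotientGroup.mk x := by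
  obtain ⟨g, hg⟩ := isConj_iff.mp hconj
  have hz1 : z ≠ 1 := z_ne_one hz2
  have hx2 : x ^ 2 = 1 := by
    apply Subtype.ext
    apply Subtype.ext
    simp only [Subgroup.coe_pow, Subgroup.coe_one]
    rw [← hg, conj_pow]
    have : z ^ 2 = 1 := by rw [← hz2]; exact pow_orderOf_eq_one z
    rw [this]; group
  have hxc : x ∉ Subgroup.center Q := by
    intro hc
    rcases (center_Q_iff Q hF hz2 hE x).mp hc with h | h
    · have h1 : ((x : Subgroup.centralizer ({z} : Set G)) : G) = 1 :=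
        congrArg (fun q : Q => ((q : Subgroup.centralizer ({z} : Set G)) : G)) h
      rw [← hg] at h1
      apply hz1
      have : z = g⁻¹ * (g * z * g⁻¹) * g := by group
      rw [this, h1]; group
    · exact hxz (congrArg (fun q : Q => ((q : Subgroup.centralizer ({z} : Set G)) : G)) h)
  obtain ⟨y, hy | hy, hyx⟩ := invol_types Q e ψ hψ hF hz2 hE x hx2 hxc
  · exact (no_type_two Q e ψ hψ hF hz2 hE hcard g x hg.symm hxz y hy hyx).elim
  · exact ⟨y, hy, hyx⟩

include hψ hF hz2 hE in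
/-- two non-central elements of `Q` whose lattice vectors are conjugate are conjugate under `C` -/
theorem conj_of_lattice (x y : Q) (hxc : x ∉ Subgroup.center Q) (vx vy : leechLattice)
    (hvx : ψ vx = QuotientGroup.mk x) (hvy : ψ vy = QuotientGroup.mk y) (k : Co0)
    (hk : k • vx = vy) : ∃ h : Subgroup.centralizer ({z} : Set G), conjQ Q h x = y := by
  obtain ⟨h0, hh0⟩ := lift_C Q e k
  have h1 := equiv' Q e ψ hψ h0 k hh0 vx x hvx
  rw [hk, hvy] at h1
  rcases mk_eq_cases Q hF hz2 hE _ _ h1.symm with h2 | h2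
  · exact ⟨h0, h2.symm⟩
  · have hnc : conjQ Q h0 x ∉ Subgroup.center Q := by
      intro hc
      apply hxc
      rw [Subgroup.mem_center_iff] at hc ⊢
      intro r
      have h3 := hc (conjQ Q h0 r)
      have h4 := congrArg (fun q : Q => (q : Subgroup.centralizer ({z} : Set G))) h3
      simp only [Subgroup.coe_mul, conjQ_coe] at h4
      apply Subtype.ext
      simp only [Subgroup.coe_mul]
      have e1 : (r : Subgroup.centralizer ({z} : Set G)) * (x : Subgroup.centralizer ({z} : Set G)) =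
          h0⁻¹ * (h0 * r * h0⁻¹ * (h0 * x * h0⁻¹)) * h0 := by group
      rw [e1, h4]
      group
    obtain ⟨q, hq⟩ := noncentral_swap Q hF hz2 hE _ hnc
    refine ⟨q * h0, ?_⟩
    rw [h2, ← hq]
    apply Subtype.ext
    simp only [conjQ_coe, Subgroup.coe_mul, Subgroup.coe_inv]
    group

include hψ hF hz2 hE in
/-- every element of type 4 is conjugate to `z` -/
theorem type_four_conj (hcard : Nat.card Q = 2 ^ 25)
    (hnwc : ∃ g : G, (∃ hq : g * z * g⁻¹ ∈ Subgroup.centralizer ({z} : Set G),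
      (⟨g * z * g⁻¹, hq⟩ : Subgroup.centralizer ({z} : Set G)) ∈ Q) ∧ g * z * g⁻¹ ≠ z)
    (x : Q) (v : leechLattice) (hv : sqNorm (v : GolayPt → ℤ) = 64)
    (hvx : ψ v = QuotientGroup.mk x) :
    IsConj z ((x : Subgroup.centralizer ({z} : Set G)) : G) ∧
      ((x : Subgroup.centralizer ({z} : Set G)) : G) ≠ z := by
  obtain ⟨g, ⟨hgc, hgq⟩, hgz⟩ := hnwc
  obtain ⟨v0, hv0, hv0s⟩ := conj_type_four Q e ψ hψ hF hz2 hE hcard (mkQ Q _ hgc hgq)
    (isConj_iff.mpr ⟨g, rfl⟩) hgz
  have hs0c : mkQ Q _ hgc hgq ∉ Subgroup.center Q := by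
    intro hc
    apply psi_ne_one Q e ψ hψ v0 (Or.inr hv0)
    rw [hv0s]
    exact (QuotientGroup.eq_one_iff _).mpr hc
  obtain ⟨k, hk⟩ := Cfsg.Agent.Lib.Helper1.LeechConn.trans64 v0 v hv0 hv
  obtain ⟨h, hh⟩ := conj_of_lattice Q e ψ hψ hF hz2 hE _ x hs0c v0 v hv0s hvx k hk
  have h1 : (h : G) * (g * z * g⁻¹) * (h : G)⁻¹ = ((x : Subgroup.centralizer ({z} : Set G)) : G) := by
    have := congrArg (fun q : Q => ((q : Subgroup.centralizer ({z} : Set G)) : G)) hh
    exact this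
  constructor
  · rw [isConj_iff]
    exact ⟨(h : G) * g, by rw [← h1]; group⟩
  · intro hxz
    apply psi_ne_one Q e ψ hψ v (Or.inr hv)
    rw [hvx]
    apply (QuotientGroup.eq_one_iff _).mpr
    have : x = zq Q hF := by
      apply Subtype.ext
      apply Subtype.ext
      exact hxz
    rw [this]
    exact zq_mem_center Q hF

end setting

end Cfsg.Agent.Lib.Helper1.MonT
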