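import Mathlib
import Cfsg.Agent.Lib.Helper1.LeechOrder1
import Cfsg.Agent.S0364
import Cfsg.Agent.S0365

/-!
# Normal 2-subgroups of the monomial group of the Leech lattice

A 2-subgroup of the lattice automorphism group that consists of monomial automorphisms and is
normalized by all monomial automorphisms consists of sign changes; in particular it has at most
`4096` elements.
-/

set_option autoImplicit false

namespace Cfsg.Agent.Lib.Helper1.MonU

open Cfsg Cfsg.Agent.Lib.Helper1 Cfsg.Agent.Lib.Helper1.LeechCross Cfsg.Agent.Lib.Helper1.LeechAut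
  Cfsg.Agent.Lib.Helper1.LeechGen Cfsg.Agent.Lib.Helper1.LeechMono

/-- `k` permutes the coordinate axes as `σ` does -/
def Prm (k : Co0) (σ : Equiv.Perm GolayPt) : Prop :=
  ∀ i, k • UU i = UU (σ i) ∨ k • UU i = -UU (σ i)

theorem smul_neg' (k : Co0) (v : leechLattice) : k • (-v) = -(k • v) := map_neg' k.2 v

theorem prm_mono (c : gC) (σ : M24) : Prm (mono c σ) σ.1 := by
  intro i
  have h := mono_apply c σ (UU i)
  have h3 : ((UU i : leechLattice) : GolayPt → ℤ) = uu i := rfl
  rw [h3, signedPerm_uu] at h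
  by_cases hc : σ.1 i ∈ c.1
  · right
    apply Subtype.ext
    rw [h, if_pos hc]
    rfl
  · left
    apply Subtype.ext
    rw [h, if_neg hc]
    rfl

theorem prm_one : Prm 1 1 := fun i => Or.inl (by rw [one_smul]; rfl)

theorem prm_mul {k k' : Co0} {σ σ' : Equiv.Perm GolayPt} (h : Prm k σ) (h' : Prm k' σ') :
    Prm (k * k') (σ * σ') := by
  intro i
  rw [mul_smul, Equiv.Perm.mul_apply]
  rcases h' i with e | e
  · rw [e]; exact h (σ' i)
  · rw [e, smul_neg']
    rcases h (σ' i) with e2 | e2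
    · right; rw [e2]
    · left; rw [e2, neg_neg]

theorem UU_ne_zero (i : GolayPt) : UU i ≠ 0 := by
  intro h
  have := congrArg (fun v : leechLattice => (v : GolayPt → ℤ) i) h
  change uu i i = 0 at this
  rw [uu_apply_self] at this
  norm_num at this

theorem UU_eq_or_neg {i j : GolayPt} (h : UU i = UU j ∨ UU i = -UU j) : i = j := by
  by_contra hne
  rcases h with h | h
  · have := congrArg (fun v : leechLattice => (v : GolayPt → ℤ) i) h
    change uu i i = uu j i at this
    rw [uu_apply_self, uu_apply_ne hne] at this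
    norm_num at this
  · have := congrArg (fun v : leechLattice => (v : GolayPt → ℤ) i) h
    change uu i i = -uu j i at this
    rw [uu_apply_self, uu_apply_ne hne] at this
    norm_num at this

theorem prm_unique {k : Co0} {σ τ : Equiv.Perm GolayPt} (h : Prm k σ) (h' : Prm k τ) : σ = τ := by
  apply Equiv.ext
  intro i
  apply UU_eq_or_neg
  rcases h i with e | e <;> rcases h' i with e' | e'
  · left; rw [← e, e']
  · right; rw [← e, e']
  · right
    have : UU (σ i) = -(k • UU i) := by rw [e, neg_neg]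
    rw [this, e']
  · left
    have : UU (σ i) = -(k • UU i) := by rw [e, neg_neg]
    rw [this, e', neg_neg]

theorem prm_inv {k : Co0} {σ : Equiv.Perm GolayPt} (h : Prm k σ) : Prm k⁻¹ σ⁻¹ := by
  intro i
  have hi : σ (σ⁻¹ i) = i := by simp
  rcases h (σ⁻¹ i) with e | e
  · left
    rw [hi] at e
    rw [← e, inv_smul_smul]
  · right
    rw [hi] at e
    have : UU i = -(k • UU (σ⁻¹ i)) := by rw [e, neg_neg]
    rw [this, ← smul_neg', inv_smul_smul]

theorem prm_pow {k : Co0} {σ : Equiv.Perm GolayPt} (h : Prm k σ) (n : ℕ) : Prm (k ^ n) (σ ^ n) := by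
  induction n with
  | zero => rw [pow_zero, pow_zero]; exact prm_one
  | succ n ih => rw [pow_succ, pow_succ]; exact prm_mul ih h

/-- the subgroup of sign changes contains every 2-subgroup of monomial automorphisms normalized
by the monomial group -/
theorem le_signs (K : Subgroup Co0) (hP : ∀ k ∈ K, Pres k)
    (h2 : ∀ k ∈ K, ∃ a : ℕ, k ^ (2 ^ a) = 1)
    (hn : ∀ n : Co0, Pres n → ∀ k ∈ K, n * k * n⁻¹ ∈ K) :
    ∀ k ∈ K, ∃ c : gC, k = mono c 1 := by
  let S : Subgroup M24 :=
    { carrier := {σ | ∃ k ∈ K, Prm k σ.1}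
      one_mem' := ⟨1, K.one_mem, prm_one⟩
      mul_mem' := by
        rintro σ τ ⟨k, hk, hkσ⟩ ⟨k', hk', hkτ⟩
        exact ⟨k * k', K.mul_mem hk hk', prm_mul hkσ hkτ⟩
      inv_mem' := by
        rintro σ ⟨k, hk, hkσ⟩
        exact ⟨k⁻¹, K.inv_mem hk, prm_inv hkσ⟩ }
  have hSn : S.Normal := by
    constructor
    rintro σ ⟨k, hk, hkσ⟩ τ
    refine ⟨mono ⟨∅, gC_empty⟩ τ * k * (mono ⟨∅, gC_empty⟩ τ)⁻¹,
      hn _ (mono_pres _ _) k hk, ?_⟩
    exact prm_mul (prm_mul (prm_mono _ τ) hkσ) (prm_inv (prm_mono _ τ))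
  have hsimple : IsSimpleGroup M24 := Cfsg.Agent.S0365.result
  have hSbot : S = ⊥ := by
    rcases hSn.eq_bot_or_eq_top with h | h
    · exact h
    · exfalso
      have hfin : Finite M24 := by
        apply Nat.finite_of_card_ne_zero
        rw [Cfsg.Agent.S0364.result]
        norm_num
      have hp : IsPGroup 2 M24 := by
        intro σ
        have hσ : σ ∈ S := by rw [h]; exact Subgroup.mem_top σ
        obtain ⟨k, hk, hkσ⟩ := hσ
        obtain ⟨a, ha⟩ := h2 k hk
        refine ⟨a, ?_⟩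
        have h1 := prm_pow hkσ (2 ^ a)
        rw [ha] at h1
        have h3 := prm_unique h1 prm_one
        apply Subtype.ext
        rw [Subgroup.coe_pow, h3]
        rfl
      have : Fact (Nat.Prime 2) := ⟨Nat.prime_two⟩
      obtain ⟨n, hn'⟩ := IsPGroup.iff_card.mp hp
      rw [Cfsg.Agent.S0364.result] at hn'
      have h3 : 3 ∣ 2 ^ n := by rw [← hn']; norm_num
      have := Nat.Prime.dvd_of_dvd_pow Nat.prime_three h3
      omega
  intro k hk
  obtain ⟨⟨c, σ⟩, hcσ⟩ := mono_surjective k (hP k hk)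
  have hσS : σ ∈ S := ⟨k, hk, by rw [← hcσ]; exact prm_mono c σ⟩
  rw [hSbot, Subgroup.mem_bot] at hσS
  exact ⟨c, by rw [← hcσ, hσS]⟩

theorem card_le (K : Subgroup Co0) (hP : ∀ k ∈ K, Pres k)
    (h2 : ∀ k ∈ K, ∃ a : ℕ, k ^ (2 ^ a) = 1)
    (hn : ∀ n : Co0, Pres n → ∀ k ∈ K, n * k * n⁻¹ ∈ K) : Nat.card K ≤ 4096 := by
  have h := le_signs K hP h2 hn
  choose f hf using fun k : K => h k.1 k.2
  have hinj : Function.Injective f := by
    intro a b hab
    apply Subtype.ext
    rw [hf a, hf b, hab]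
  have hfin : Finite gC := Set.toFinite _ |>.to_subtype
  have := Nat.card_le_card_of_injective f hinj
  rwa [Nat.card_coe_set_eq, ncard_gC] at this

end Cfsg.Agent.Lib.Helper1.MonU
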