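import Mathlib
import Cfsg.Agent.Lib.Helper1.MonU1
import Cfsg.Agent.Lib.Helper1.StdCross.SCCross

/-!
# The group of sign changes of the Leech lattice, and the stabilizer of the standard cross
-/

set_option autoImplicit false

namespace Cfsg.Agent.Lib.Helper1.MonU

open Cfsg Cfsg.Agent.Lib.Helper1 Cfsg.Agent.Lib.Helper1.LeechCross Cfsg.Agent.Lib.Helper1.LeechAut
  Cfsg.Agent.Lib.Helper1.LeechGen Cfsg.Agent.Lib.Helper1.LeechMono
  Cfsg.Agent.Lib.Helper1.StdCross
open scoped Pointwise

theorem card_ker_mul_range {A B : Type*} [Group A] [Group B] (f : A →* B) :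
    Nat.card A = Nat.card f.ker * Nat.card f.range := by
  rw [Subgroup.card_eq_card_quotient_mul_card_subgroup f.ker,
    Nat.card_congr (QuotientGroup.quotientKerEquivRange f).toEquiv, mul_comm]

/-- the group of sign changes -/
def TS : Subgroup Co0 where
  carrier := {k | Pres k ∧ Prm k 1}
  one_mem' := ⟨NN.one_mem, prm_one⟩
  mul_mem' := by
    rintro a b ⟨ha1, ha2⟩ ⟨hb1, hb2⟩
    exact ⟨NN.mul_mem ha1 hb1, by simpa using prm_mul ha2 hb2⟩
  inv_mem' := by
    rintro a ⟨ha1, ha2⟩
    exact ⟨NN.inv_mem ha1, by simpa using prm_inv ha2⟩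

theorem mem_TS_iff (k : Co0) : k ∈ TS ↔ ∃ c : gC, k = mono c 1 := by
  constructor
  · rintro ⟨h1, h2⟩
    obtain ⟨⟨c, σ⟩, hcσ⟩ := mono_surjective k h1
    have h3 : Prm k σ.1 := by rw [← hcσ]; exact prm_mono c σ
    have h4 : σ.1 = 1 := prm_unique h3 h2
    have h5 : σ = 1 := Subtype.ext h4
    exact ⟨c, by rw [← hcσ, h5]⟩
  · rintro ⟨c, rfl⟩
    exact ⟨mono_pres c 1, prm_mono c 1⟩

theorem card_TS : Nat.card TS = 4096 := by
  let F : gC → TS := fun c => ⟨mono c 1, (mem_TS_iff _).mpr ⟨c, rfl⟩⟩
  have hF : Function.Bijective F := by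
    constructor
    · intro a b hab
      have h1 : mono a 1 = mono b 1 := congrArg Subtype.val hab
      have h2 := mono_injective (a₁ := (a, 1)) (a₂ := (b, 1)) h1
      exact congrArg Prod.fst h2
    · rintro ⟨k, hk⟩
      obtain ⟨c, hc⟩ := (mem_TS_iff k).mp hk
      exact ⟨c, Subtype.ext hc.symm⟩
  rw [← Nat.card_congr (Equiv.ofBijective F hF), Nat.card_coe_set_eq, ncard_gC]

theorem negC_smul (v : leechLattice) : negC • v = -v := Subtype.ext (negC_apply v)

theorem negC_mem_TS : negC ∈ TS := by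
  constructor
  · intro v hv
    rw [negC_apply]
    obtain ⟨i, h | h⟩ := (mem_stdCross_iff _).mp hv
    · exact (mem_stdCross_iff _).mpr ⟨i, Or.inr (by rw [h])⟩
    · exact (mem_stdCross_iff _).mpr ⟨i, Or.inl (by rw [h, neg_neg])⟩
  · intro i
    right
    rw [negC_smul]
    rfl

theorem center_le_TS : Subgroup.center Co0 ≤ TS := by
  intro k hk
  rcases central_cases k hk with h | h
  · rw [h]; exact TS.one_mem
  · rw [h]; exact negC_mem_TS

/-- the image of the sign changes in the quotient by the centre has order `2 ^ 11` -/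
theorem card_TS_map :
    Nat.card (TS.map (QuotientGroup.mk' (Subgroup.center Co0))) = 2048 := by
  let τ : TS →* Co0 ⧸ Subgroup.center Co0 :=
    (QuotientGroup.mk' (Subgroup.center Co0)).comp TS.subtype
  have hrange : τ.range = TS.map (QuotientGroup.mk' (Subgroup.center Co0)) := by
    rw [MonoidHom.range_comp, Subgroup.range_subtype]
  have hker : τ.ker = (Subgroup.center Co0).subgroupOf TS := by
    ext k
    rw [MonoidHom.mem_ker, Subgroup.mem_subgroupOf]
    show (QuotientGroup.mk (k : Co0) : Co0 ⧸ Subgroup.center Co0) = 1 ↔ _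
    rw [QuotientGroup.eq_one_iff]
  have h1 := card_ker_mul_range τ
  rw [hker, hrange, card_TS,
    Nat.card_congr (Subgroup.subgroupOfEquivOfLe center_le_TS).toEquiv, card_center] at h1
  omega

/-- an automorphism fixing the class of `8 e_∞` modulo twice the lattice is monomial -/
theorem pres_of_cl (k : Co0)
    (h : cl ((k • UU none : leechLattice) : GolayPt → ℤ) = cl ((UU none : leechLattice) : GolayPt → ℤ)) :
    Pres k := by
  have hn : sqNorm ((UU none : leechLattice) : GolayPt → ℤ) = 64 := sqNorm_uu none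
  have h1 : k • UU none ∈ crs (UU none) := ⟨by rw [sqNorm_smul, hn], h⟩
  have h2 : k • XX = XX := by
    rw [XX_eq_crs, smul_crs, crs_eq_of_mem h1]
  intro v hv
  have hvX : v ∈ XX := hv
  have : k • v ∈ k • XX := Set.smul_mem_smul_set hvX
  rw [h2] at this
  exact this

/-- a monomial automorphism fixes the class of `8 e_∞` -/
theorem cl_of_pres (k : Co0) (hk : Pres k) :
    cl ((k • UU none : leechLattice) : GolayPt → ℤ) = cl ((UU none : leechLattice) : GolayPt → ℤ) := by
  have h1 : k • UU none ∈ XX := hk (UU none) (uu_mem_stdCross none)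
  rw [XX_eq_crs] at h1
  exact h1.2

end Cfsg.Agent.Lib.Helper1.MonU
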