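import Mathlib
import Cfsg.Agent.Lib.Helper1.MonT5
import Cfsg.Agent.Lib.Helper1.MonU2
import Cfsg.Agent.Lib.Helper6.Extra2

/-!
# Monster type: the order of `Q ∩ Q^g` (cardinalities on the group side)
-/

set_option autoImplicit false

namespace Cfsg.Agent.Lib.Helper1.MonU

open Cfsg Cfsg.Agent.Lib.Helper1.MonQ Cfsg.Agent.Lib.Helper1.MonT Cfsg.Agent.Lib.Helper1.LeechAut
  Cfsg.Agent.Lib.Helper1.LeechCross Cfsg.Agent.Lib.Helper1.LeechMono
open scoped commutatorElement

variable {G : Type*} [Group G] {z : G}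
  (Q : Subgroup (Subgroup.centralizer ({z} : Set G))) [Q.Normal]

theorem mem_DD_iff (g : G) (d : Subgroup.centralizer ({z} : Set G)) :
    d ∈ DD Q g ↔ (d : G) ∈ Qg Q g := Iff.rfl

section setting

variable [Finite G]
  (e : (Subgroup.centralizer ({z} : Set G)) ⧸ Q ≃* Spor.Co1)
  (ψ : leechLattice → Q ⧸ Subgroup.center Q)
  (hψ : IsLeechModTwoIso Q e ψ)
  (hF : generalizedFittingSubgroup (Subgroup.centralizer ({z} : Set G)) = Q)
  (hz2 : orderOf z = 2) (hE : IsExtraspecial 2 Q)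

include hF hz2 hE in
/-- `Q ∩ Q^g` is abelian -/
theorem inter_comm (g : G) (s0 : Q)
    (hs0g : ((s0 : Subgroup.centralizer ({z} : Set G)) : G) = g * z * g⁻¹)
    (hs0z : ((s0 : Subgroup.centralizer ({z} : Set G)) : G) ≠ z) {a b : G}
    (ha : a ∈ QG Q ⊓ Qg Q g) (hb : b ∈ QG Q ⊓ Qg Q g) : a * b = b * a := by
  have hz1 : z ≠ 1 := z_ne_one hz2
  have h1 := comm_QG_cases Q hF hz2 hE ha.1 hb.1
  obtain ⟨a', ha', haa⟩ := (mem_Qg_iff Q g _).mp ha.2
  obtain ⟨b', hb', hbb⟩ := (mem_Qg_iff Q g _).mp hb.2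
  have h2 := comm_QG_cases Q hF hz2 hE ha' hb'
  have h3 : a * b * a⁻¹ * b⁻¹ = g * (a' * b' * a'⁻¹ * b'⁻¹) * g⁻¹ := by
    rw [← haa, ← hbb]; group
  have hcomm : a * b * a⁻¹ * b⁻¹ = 1 := by
    rcases h1 with h1 | h1
    · exact h1
    · exfalso
      rcases h2 with h2 | h2
      · rw [h2] at h3
        apply hz1
        rw [← h1, h3]; group
      · rw [h2, ← hs0g] at h3
        exact hs0z (h3.symm.trans h1)
  calc a * b = (a * b * a⁻¹ * b⁻¹) * (b * a) := by group
    _ = b * a := by rw [hcomm, one_mul]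

include hF hz2 hE in
/-- `Q ∩ Q^g` has order at most `2 ^ 13` -/
theorem card_inter_le (hcard : Nat.card Q = 2 ^ 25) (g : G) (s0 : Q)
    (hs0g : ((s0 : Subgroup.centralizer ({z} : Set G)) : G) = g * z * g⁻¹)
    (hs0z : ((s0 : Subgroup.centralizer ({z} : Set G)) : G) ≠ z) :
    Nat.card (QG Q ⊓ Qg Q g : Subgroup G) ≤ 2 ^ 13 := by
  have hL1 : IsExtraspecial 2 (QG Q) :=
    Cfsg.Agent.Lib.Helper9.isExtraspecial_of_mulEquiv (equivQG Q) hE
  have hcard' : Nat.card (QG Q) = 2 ^ 25 := by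
    rw [← Nat.card_congr (equivQG Q).toEquiv, hcard]
  obtain ⟨hcomm, _, hZ⟩ := Cfsg.Agent.Lib.Helper6.extraspecial_two_facts hL1
  have hzQg : z ∈ Qg Q g := z_mem_Qg Q hF hz2 hE hcard g s0 hs0g hs0z
  set B : Subgroup (QG Q) := (QG Q ⊓ Qg Q g).subgroupOf (QG Q) with hB
  have hZB : Subgroup.center (QG Q) ≤ B := by
    intro c hc
    rw [hB, Subgroup.mem_subgroupOf]
    have h1 : (c : G) ∈ (Subgroup.center (QG Q)).map (QG Q).subtype := ⟨c, hc, rfl⟩
    rcases (mem_ZG_iff Q hF hz2 hE _).mp h1 with h | h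
    · rw [h]; exact Subgroup.one_mem _
    · rw [h]; exact ⟨z_mem_QG Q hF, hzQg⟩
  have h1 := Cfsg.Agent.Lib.Helper6.card_centralizer_mul_card hcomm hZ B hZB
  rw [hcard'] at h1
  have hBC : B ≤ Subgroup.centralizer (B : Set (QG Q)) := by
    intro a ha
    rw [Subgroup.mem_centralizer_iff]
    intro b hb
    apply Subtype.ext
    rw [Subgroup.coe_mul, Subgroup.coe_mul]
    exact inter_comm Q hF hz2 hE g s0 hs0g hs0z (Subgroup.mem_subgroupOf.mp hb)
      (Subgroup.mem_subgroupOf.mp ha)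
  have h2 : Nat.card B ≤ Nat.card (Subgroup.centralizer (B : Set (QG Q))) :=
    Subgroup.card_le_of_le hBC
  have h3 : Nat.card B = Nat.card (QG Q ⊓ Qg Q g : Subgroup G) :=
    Nat.card_congr (Subgroup.subgroupOfEquivOfLe inf_le_left).toEquiv
  rw [← h3]
  by_contra hcon
  push Not at hcon
  have h4 : (2 ^ 13 + 1) * (2 ^ 13 + 1) ≤
      Nat.card (Subgroup.centralizer (B : Set (QG Q))) * Nat.card B :=
    Nat.mul_le_mul (le_trans hcon h2) hcon
  rw [h1] at h4
  norm_num at h4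

include hF hz2 hE in
/-- `Q^g ∩ C` has order `2 ^ 24` -/
theorem card_DD (hcard : Nat.card Q = 2 ^ 25) (g : G) (s0 : Q)
    (hs0g : ((s0 : Subgroup.centralizer ({z} : Set G)) : G) = g * z * g⁻¹)
    (hs0z : ((s0 : Subgroup.centralizer ({z} : Set G)) : G) ≠ z) :
    Nat.card (DD Q g) = 2 ^ 24 := by
  have hz1 : z ≠ 1 := z_ne_one hz2
  have hL1 : IsExtraspecial 2 (QG Q) :=
    Cfsg.Agent.Lib.Helper9.isExtraspecial_of_mulEquiv (equivQG Q) hE
  have hEg : IsExtraspecial 2 (Qg Q g) :=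
    Cfsg.Agent.Lib.Helper9.isExtraspecial_of_mulEquiv (equivQg Q g) hL1
  have hcardg : Nat.card (Qg Q g) = 2 ^ 25 := by
    rw [← Nat.card_congr (equivQg Q g).toEquiv, ← Nat.card_congr (equivQG Q).toEquiv, hcard]
  obtain ⟨hcomm, _, hZ⟩ := Cfsg.Agent.Lib.Helper6.extraspecial_two_facts hEg
  have hzQg : z ∈ Qg Q g := z_mem_Qg Q hF hz2 hE hcard g s0 hs0g hs0z
  -- an element of the conjugate not commuting with `z`
  obtain ⟨y, hy, hyz⟩ := (mem_Qg_iff Q g z).mp hzQg
  obtain ⟨hyc, hyq⟩ := (mem_QG_iff Q y).mp hy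
  have hync : (⟨⟨y, hyc⟩, hyq⟩ : Q) ∉ Subgroup.center Q := by
    intro hc
    rcases (center_Q_iff Q hF hz2 hE _).mp hc with h | h
    · have h1 : y = 1 := congrArg (fun q : Q => ((q : Subgroup.centralizer ({z} : Set G)) : G)) h
      rw [h1] at hyz
      apply hz1
      rw [← hyz]; group
    · have h1 : y = z := congrArg (fun q : Q => ((q : Subgroup.centralizer ({z} : Set G)) : G)) h
      rw [h1] at hyz
      exact hs0z (hs0g.trans hyz)
  rw [Subgroup.mem_center_iff] at hync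
  push Not at hync
  obtain ⟨r', hr'⟩ := hync
  have hr'G : ((r' : Subgroup.centralizer ({z} : Set G)) : G) * y ≠
      y * ((r' : Subgroup.centralizer ({z} : Set G)) : G) := by
    intro h
    apply hr'
    apply Subtype.ext
    apply Subtype.ext
    exact h
  have hrmem : g * ((r' : Subgroup.centralizer ({z} : Set G)) : G) * g⁻¹ ∈ Qg Q g :=
    (mem_Qg_iff Q g _).mpr ⟨_, coe_mem_QG Q r', rfl⟩
  have hnot : (⟨z, hzQg⟩ : Qg Q g) ∉
      Subgroup.centralizer (((⊤ : Subgroup (Qg Q g)) : Set (Qg Q g))) := by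
    intro hcen
    have h := (Subgroup.mem_centralizer_iff.mp hcen) ⟨_, hrmem⟩ (Subgroup.mem_top _)
    have h1 := congrArg (fun c : Qg Q g => (c : G)) h
    simp only [Subgroup.coe_mul] at h1
    apply hr'G
    have e2 : g * ((r' : Subgroup.centralizer ({z} : Set G)) : G) * g⁻¹ * (g * y * g⁻¹) =
        (g * y * g⁻¹) * (g * ((r' : Subgroup.centralizer ({z} : Set G)) : G) * g⁻¹) := by
      rw [hyz]; exact h1
    have e1 : ((r' : Subgroup.centralizer ({z} : Set G)) : G) * y =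
        g⁻¹ * (g * ((r' : Subgroup.centralizer ({z} : Set G)) : G) * g⁻¹ * (g * y * g⁻¹)) * g := by
      group
    rw [e1, e2]
    group
  have h2 := Cfsg.Agent.Lib.Helper6.two_mul_card_inf_centralizer hcomm hZ ⊤
    (⟨z, hzQg⟩ : Qg Q g) hnot
  rw [Subgroup.card_top, hcardg] at h2
  -- the bijection with the centralizer of `z` in the conjugate
  let F : DD Q g → ((⊤ : Subgroup (Qg Q g)) ⊓
      Subgroup.centralizer ({(⟨z, hzQg⟩ : Qg Q g)} : Set (Qg Q g)) : Subgroup (Qg Q g)) :=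
    fun d => ⟨⟨((d : Subgroup.centralizer ({z} : Set G)) : G), (mem_DD_iff Q g _).mp d.2⟩,
      Subgroup.mem_inf.mpr ⟨Subgroup.mem_top _, by
        rw [Subgroup.mem_centralizer_iff]
        intro x hx
        rw [Set.mem_singleton_iff.mp hx]
        apply Subtype.ext
        simp only [Subgroup.coe_mul]
        exact (Subgroup.mem_centralizer_iff.mp (d : Subgroup.centralizer ({z} : Set G)).2) z rfl⟩⟩
  have hF' : Function.Bijective F := by
    constructor
    · intro a b hab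
      have h := congrArg (fun c => ((c : Qg Q g) : G)) (congrArg Subtype.val hab)
      apply Subtype.ext
      apply Subtype.ext
      exact h
    · rintro ⟨p, hp'⟩
      have hp := (Subgroup.mem_inf.mp hp').2
      have hpz : z * (p : G) = (p : G) * z := by
        have := (Subgroup.mem_centralizer_iff.mp hp) ⟨z, hzQg⟩ rfl
        have h := congrArg (fun c : Qg Q g => (c : G)) this
        simpa only [Subgroup.coe_mul] using h
      have hpc : (p : G) ∈ Subgroup.centralizer ({z} : Set G) := by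
        rw [Subgroup.mem_centralizer_iff]
        intro x hx
        rw [Set.mem_singleton_iff.mp hx]
        exact hpz
      refine ⟨⟨⟨(p : G), hpc⟩, (mem_DD_iff Q g _).mpr p.2⟩, ?_⟩
      apply Subtype.ext
      apply Subtype.ext
      rfl
  have h3 := Nat.card_congr (Equiv.ofBijective F hF')
  rw [h3]
  omega

end setting

end Cfsg.Agent.Lib.Helper1.MonU
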