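import Mathlib
import Cfsg.Agent.Lib.Helper1.MonU3

/-!
# Monster type: the order of `Q ∩ Q^g`
-/

set_option autoImplicit false

namespace Cfsg.Agent.Lib.Helper1.MonU

open Cfsg Cfsg.Agent.Lib.Helper1.MonQ Cfsg.Agent.Lib.Helper1.MonT Cfsg.Agent.Lib.Helper1.LeechAut
  Cfsg.Agent.Lib.Helper1.LeechCross Cfsg.Agent.Lib.Helper1.LeechMono
open scoped commutatorElement

variable {G : Type*} [Group G] {z : G}
  (Q : Subgroup (Subgroup.centralizer ({z} : Set G))) [Q.Normal]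
  (e : (Subgroup.centralizer ({z} : Set G)) ⧸ Q ≃* Spor.Co1)
  (ψ : leechLattice → Q ⧸ Subgroup.center Q)

/-- the homomorphism from `Q^g ∩ C` to the Conway group -/
noncomputable def phi (g : G) : DD Q g →* Spor.Co1 :=
  e.toMonoidHom.comp ((QuotientGroup.mk' Q).comp (DD Q g).subtype)

theorem phi_apply (g : G) (d : DD Q g) :
    phi Q e g d = e (QuotientGroup.mk (d : Subgroup.centralizer ({z} : Set G))) := rfl

theorem mem_ker_phi (g : G) (d : DD Q g) :
    d ∈ (phi Q e g).ker ↔ (d : Subgroup.centralizer ({z} : Set G)) ∈ Q := by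
  rw [MonoidHom.mem_ker, phi_apply, MulEquiv.map_eq_one_iff, QuotientGroup.eq_one_iff]

theorem card_ker_phi (g : G) :
    Nat.card (phi Q e g).ker = Nat.card (QG Q ⊓ Qg Q g : Subgroup G) := by
  let F : (phi Q e g).ker → (QG Q ⊓ Qg Q g : Subgroup G) := fun k =>
    ⟨(((k : DD Q g) : Subgroup.centralizer ({z} : Set G)) : G),
      (mem_QG_iff Q _).mpr ⟨((k : DD Q g) : Subgroup.centralizer ({z} : Set G)).2,
        (mem_ker_phi Q e g _).mp k.2⟩,
      (mem_DD_iff Q g _).mp (k : DD Q g).2⟩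
  have hF : Function.Bijective F := by
    constructor
    · intro a b hab
      have h : (((a : DD Q g) : Subgroup.centralizer ({z} : Set G)) : G) =
          (((b : DD Q g) : Subgroup.centralizer ({z} : Set G)) : G) :=
        congrArg (fun x : (QG Q ⊓ Qg Q g : Subgroup G) => (x : G)) hab
      apply Subtype.ext
      apply Subtype.ext
      apply Subtype.ext
      exact h
    · rintro ⟨x, hx1, hx2⟩
      obtain ⟨hxc, hxq⟩ := (mem_QG_iff Q x).mp hx1
      refine ⟨⟨⟨⟨x, hxc⟩, (mem_DD_iff Q g _).mpr hx2⟩, (mem_ker_phi Q e g _).mpr hxq⟩, ?_⟩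
      rfl
  exact Nat.card_congr (Equiv.ofBijective F hF)

/-- the lattice automorphisms induced by `Q^g ∩ C` -/
def KK (g : G) : Subgroup Co0 where
  carrier := {k | ∃ d ∈ DD Q g, (QuotientGroup.mk k : Spor.Co1) = e (QuotientGroup.mk d)}
  one_mem' := ⟨1, (DD Q g).one_mem, by simp⟩
  mul_mem' := by
    rintro a b ⟨d1, hd1, h1⟩ ⟨d2, hd2, h2⟩
    refine ⟨d1 * d2, (DD Q g).mul_mem hd1 hd2, ?_⟩
    rw [QuotientGroup.mk_mul, QuotientGroup.mk_mul, map_mul, h1, h2]
  inv_mem' := by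
    rintro a ⟨d1, hd1, h1⟩
    refine ⟨d1⁻¹, (DD Q g).inv_mem hd1, ?_⟩
    rw [QuotientGroup.mk_inv, QuotientGroup.mk_inv, map_inv, h1]

variable (hψ : IsLeechModTwoIso Q e ψ)

include hψ in
theorem cl_of_psi_eq [Finite G] (a b : leechLattice) (h : ψ a = ψ b) :
    cl (a : GolayPt → ℤ) = cl (b : GolayPt → ℤ) := by
  have h1 : ψ (a - b) = 1 := by rw [psi_sub ψ hψ.1 hψ.2.2.1, h, mul_inv_cancel]
  obtain ⟨w, hw⟩ := (hψ.2.2.1 _).mp h1
  rw [cl_eq_iff, mem_twoL]
  refine ⟨w, w.2, ?_⟩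
  rw [dbl_eq]
  have := congrArg (fun x : leechLattice => (x : GolayPt → ℤ)) hw
  simp only [AddSubgroup.coe_sub, AddSubgroup.coe_add] at this
  exact this.symm

include hψ in
theorem psi_eq_of_cl [Finite G] (a b : leechLattice)
    (h : cl (a : GolayPt → ℤ) = cl (b : GolayPt → ℤ)) : ψ a = ψ b := by
  rw [cl_eq_iff, mem_twoL] at h
  obtain ⟨w, hw, hwd⟩ := h
  have h1 : a - b = (⟨w, hw⟩ : leechLattice) + ⟨w, hw⟩ := by
    apply Subtype.ext
    show (a : GolayPt → ℤ) - b = w + w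
    rw [← hwd, dbl_eq]
  have h2 : ψ (a - b) = 1 := (hψ.2.2.1 _).mpr ⟨_, h1⟩
  rw [psi_sub ψ hψ.1 hψ.2.2.1] at h2
  exact mul_inv_eq_one.mp h2

section setting

variable [Finite G]
  (hF : generalizedFittingSubgroup (Subgroup.centralizer ({z} : Set G)) = Q)
  (hz2 : orderOf z = 2) (hE : IsExtraspecial 2 Q)

include hψ hF hz2 hE in
/-- in standard position the automorphisms induced by `Q^g ∩ C` are sign changes -/
theorem KK_le_TS (g : G) (s0 : Q)
    (hs0g : ((s0 : Subgroup.centralizer ({z} : Set G)) : G) = g * z * g⁻¹)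
    (hstd : ψ (UU none) = QuotientGroup.mk s0) : KK Q e g ≤ TS := by
  have hn64 : sqNorm ((UU none : leechLattice) : GolayPt → ℤ) = 64 := sqNorm_uu none
  have hnc : s0 ∉ Subgroup.center Q := by
    intro hc
    apply psi_ne_one Q e ψ hψ (UU none) (Or.inr hn64)
    rw [hstd]
    exact (QuotientGroup.eq_one_iff s0).mpr hc
  have hP : ∀ k ∈ KK Q e g, Pres k := by
    rintro k ⟨d, hd, hkd⟩
    apply pres_of_cl
    apply cl_of_psi_eq Q e ψ hψ
    rw [equiv' Q e ψ hψ d k hkd (UU none) s0 hstd, hstd]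
    congr 1
    apply Subtype.ext
    rw [conjQ_coe, D_comm Q g s0 hs0g d hd]
    group
  have h2 : ∀ k ∈ KK Q e g, ∃ a : ℕ, k ^ (2 ^ a) = 1 := by
    rintro k ⟨d, hd, hkd⟩
    obtain ⟨a, ha⟩ := D_two Q hE g d hd
    refine ⟨a + 1, ?_⟩
    have h1 : (QuotientGroup.mk (k ^ (2 ^ a)) : Spor.Co1) = 1 := by
      rw [QuotientGroup.mk_pow, hkd, ← map_pow, ← QuotientGroup.mk_pow, ha, QuotientGroup.mk_one,
        map_one]
    have h3 : k ^ (2 ^ a) ∈ Subgroup.center Co0 := (QuotientGroup.eq_one_iff _).mp h1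
    have h4 := center_sq card_center h3
    rw [pow_succ, pow_mul]
    exact h4
  have hn : ∀ n : Co0, Pres n → ∀ k ∈ KK Q e g, n * k * n⁻¹ ∈ KK Q e g := by
    rintro n hnP k ⟨d, hd, hkd⟩
    have h1 : ψ (n • UU none) = ψ (UU none) := psi_eq_of_cl Q e ψ hψ _ _ (cl_of_pres n hnP)
    obtain ⟨h, hh, hcomm⟩ := stab_lift Q e ψ hψ hF hz2 hE (UU none) s0 hstd hnc n h1
    refine ⟨h * d * h⁻¹, D_norm Q g s0 hs0g h hcomm d hd, ?_⟩
    rw [QuotientGroup.mk_mul, QuotientGroup.mk_mul, QuotientGroup.mk_inv, QuotientGroup.mk_mul,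
      QuotientGroup.mk_mul, QuotientGroup.mk_inv, map_mul, map_mul, map_inv, hkd, hh]
  intro k hk
  exact (mem_TS_iff k).mpr (le_signs (KK Q e g) hP h2 hn k hk)

include hψ hF hz2 hE in
theorem range_phi_le (g : G) (s0 : Q)
    (hs0g : ((s0 : Subgroup.centralizer ({z} : Set G)) : G) = g * z * g⁻¹)
    (hstd : ψ (UU none) = QuotientGroup.mk s0) :
    (phi Q e g).range ≤ TS.map (QuotientGroup.mk' (Subgroup.center Co0)) := by
  rintro a ⟨d, rfl⟩
  obtain ⟨k, hk⟩ := lift_Co0 Q e (d : Subgroup.centralizer ({z} : Set G))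
  have hkK : k ∈ KK Q e g := ⟨d, d.2, hk⟩
  have hkT := KK_le_TS Q e ψ hψ hF hz2 hE g s0 hs0g hstd hkK
  exact ⟨k, hkT, hk⟩

include hψ hF hz2 hE in
/-- the order of `Q ∩ Q^g`, in standard position -/
theorem card_inter_std (hcard : Nat.card Q = 2 ^ 25) (g : G) (s0 : Q)
    (hs0g : ((s0 : Subgroup.centralizer ({z} : Set G)) : G) = g * z * g⁻¹)
    (hs0z : ((s0 : Subgroup.centralizer ({z} : Set G)) : G) ≠ z)
    (hstd : ψ (UU none) = QuotientGroup.mk s0) :
    Nat.card (QG Q ⊓ Qg Q g : Subgroup G) = 2 ^ 13 ∧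
      (phi Q e g).range = TS.map (QuotientGroup.mk' (Subgroup.center Co0)) := by
  have hle := range_phi_le Q e ψ hψ hF hz2 hE g s0 hs0g hstd
  have hfin : Finite (TS.map (QuotientGroup.mk' (Subgroup.center Co0))) := by
    apply Nat.finite_of_card_ne_zero
    rw [card_TS_map]
    norm_num
  have h1 : Nat.card (phi Q e g).range ≤ 2048 := by
    rw [← card_TS_map]
    exact Subgroup.card_le_of_le hle
  have h2 := card_ker_mul_range (phi Q e g)
  rw [card_DD Q hF hz2 hE hcard g s0 hs0g hs0z, card_ker_phi] at h2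
  have h3 := card_inter_le Q hF hz2 hE hcard g s0 hs0g hs0z
  have h4 : Nat.card (QG Q ⊓ Qg Q g : Subgroup G) = 2 ^ 13 := by
    by_contra hne
    have h5 : Nat.card (QG Q ⊓ Qg Q g : Subgroup G) ≤ 2 ^ 13 - 1 := by omega
    have h6 := Nat.mul_le_mul h5 h1
    rw [← h2] at h6
    norm_num at h6
  refine ⟨h4, ?_⟩
  rw [h4] at h2
  have h7 : Nat.card (phi Q e g).range = 2048 := by omega
  apply Subgroup.eq_of_le_of_card_ge hle
  rw [card_TS_map, h7]

end setting

end Cfsg.Agent.Lib.Helper1.MonU
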