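import Mathlib
import Cfsg.Agent.Lib.Helper1.MonU4
import Cfsg.Agent.Lib.Helper1.MonT5

/-!
# Monster type: the order of `Q ∩ Q^g`, general position
-/

set_option autoImplicit false

namespace Cfsg.Agent.Lib.Helper1.MonU

open Cfsg Cfsg.Agent.Lib.Helper1.MonQ Cfsg.Agent.Lib.Helper1.MonT Cfsg.Agent.Lib.Helper1.LeechAut
  Cfsg.Agent.Lib.Helper1.LeechCross Cfsg.Agent.Lib.Helper1.LeechMono
open scoped commutatorElement

variable {G : Type*} [Group G] {z : G}
  (Q : Subgroup (Subgroup.centralizer ({z} : Set G))) [Q.Normal]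
  (e : (Subgroup.centralizer ({z} : Set G)) ⧸ Q ≃* Spor.Co1)
  (ψ : leechLattice → Q ⧸ Subgroup.center Q)

theorem map_conj_QG [Finite G] {h : G} (hh : h ∈ Subgroup.centralizer ({z} : Set G)) :
    (QG Q).map (MulAut.conj h).toMonoidHom = QG Q := by
  ext x
  rw [Subgroup.mem_map]
  constructor
  · rintro ⟨y, hy, rfl⟩
    exact conj_mem_QG Q hh hy
  · intro hx
    refine ⟨h⁻¹ * x * h, ?_, ?_⟩
    · have := conj_mem_QG Q (Subgroup.inv_mem _ hh) hx
      rwa [inv_inv] at this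
    · show h * (h⁻¹ * x * h) * h⁻¹ = x
      group

theorem map_conj_Qg (h g : G) :
    (Qg Q g).map (MulAut.conj h).toMonoidHom = Qg Q (h * g) := by
  ext x
  rw [Subgroup.mem_map, mem_Qg_iff]
  constructor
  · rintro ⟨y, hy, rfl⟩
    obtain ⟨w, hw, rfl⟩ := (mem_Qg_iff Q g y).mp hy
    refine ⟨w, hw, ?_⟩
    show h * g * w * (h * g)⁻¹ = h * (g * w * g⁻¹) * h⁻¹
    group
  · rintro ⟨w, hw, rfl⟩
    refine ⟨g * w * g⁻¹, (mem_Qg_iff Q g _).mpr ⟨w, hw, rfl⟩, ?_⟩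
    show h * (g * w * g⁻¹) * h⁻¹ = h * g * w * (h * g)⁻¹
    group

variable (hψ : IsLeechModTwoIso Q e ψ)

section setting

variable [Finite G]
  (hF : generalizedFittingSubgroup (Subgroup.centralizer ({z} : Set G)) = Q)
  (hz2 : orderOf z = 2) (hE : IsExtraspecial 2 Q)

include hψ hF hz2 hE in
/-- moving a conjugate of `z` in `Q` to standard position -/
theorem exists_std (hcard : Nat.card Q = 2 ^ 25) (g : G) (s0 : Q)
    (hs0g : ((s0 : Subgroup.centralizer ({z} : Set G)) : G) = g * z * g⁻¹)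
    (hs0z : ((s0 : Subgroup.centralizer ({z} : Set G)) : G) ≠ z) :
    ∃ (h1 : Subgroup.centralizer ({z} : Set G)) (s1 : Q),
      ((s1 : Subgroup.centralizer ({z} : Set G)) : G) = ((h1 : G) * g) * z * ((h1 : G) * g)⁻¹ ∧
      ((s1 : Subgroup.centralizer ({z} : Set G)) : G) ≠ z ∧
      ψ (UU none) = QuotientGroup.mk s1 := by
  obtain ⟨v, hv, hvs⟩ := conj_type_four Q e ψ hψ hF hz2 hE hcard s0
    (isConj_iff.mpr ⟨g, hs0g.symm⟩) hs0z
  obtain ⟨k, hk⟩ := Cfsg.Agent.Lib.Helper1.LeechConn.trans64 v (UU none) hv (sqNorm_uu none)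
  obtain ⟨h1, hh1⟩ := lift_C Q e k
  have h2 := equiv' Q e ψ hψ h1 k hh1 v s0 hvs
  rw [hk] at h2
  have h3 : ((conjQ Q h1 s0 : Subgroup.centralizer ({z} : Set G)) : G) =
      (h1 : G) * ((s0 : Subgroup.centralizer ({z} : Set G)) : G) * (h1 : G)⁻¹ := by
    rw [conjQ_coe]
    rfl
  have hcz : (h1 : G) * z = z * (h1 : G) := by
    have := Subgroup.mem_centralizer_iff.mp h1.2 z (Set.mem_singleton z)
    exact this.symm
  refine ⟨h1, conjQ Q h1 s0, ?_, ?_, h2⟩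
  · rw [h3, hs0g]
    group
  · rw [h3]
    intro h4
    apply hs0z
    have h5 : ((s0 : Subgroup.centralizer ({z} : Set G)) : G) =
        (h1 : G)⁻¹ * ((h1 : G) * ((s0 : Subgroup.centralizer ({z} : Set G)) : G) * (h1 : G)⁻¹) *
          (h1 : G) := by group
    rw [h5, h4, mul_assoc, ← hcz, ← mul_assoc, inv_mul_cancel, one_mul]

include hψ hF hz2 hE in
/-- the order of `Q ∩ Q^g` -/
theorem card_inter (hcard : Nat.card Q = 2 ^ 25) (g : G) (s0 : Q)
    (hs0g : ((s0 : Subgroup.centralizer ({z} : Set G)) : G) = g * z * g⁻¹)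
    (hs0z : ((s0 : Subgroup.centralizer ({z} : Set G)) : G) ≠ z) :
    Nat.card (QG Q ⊓ Qg Q g : Subgroup G) = 2 ^ 13 := by
  obtain ⟨h1, s1, hs1g, hs1z, hstd⟩ := exists_std Q e ψ hψ hF hz2 hE hcard g s0 hs0g hs0z
  have h5 := (card_inter_std Q e ψ hψ hF hz2 hE hcard ((h1 : G) * g) s1 hs1g hs1z hstd).1
  have hinj : Function.Injective (MulAut.conj (h1 : G)).toMonoidHom :=
    (MulAut.conj (h1 : G)).injective
  have h6 : (QG Q ⊓ Qg Q g).map (MulAut.conj (h1 : G)).toMonoidHom =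
      QG Q ⊓ Qg Q ((h1 : G) * g) := by
    rw [Subgroup.map_inf _ _ _ hinj, map_conj_QG Q h1.2, map_conj_Qg]
  rw [← h6, Subgroup.card_map_of_injective hinj] at h5
  exact h5

end setting

end Cfsg.Agent.Lib.Helper1.MonU
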