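import Mathlib
import Cfsg.Agent.Lib.Helper1.MonU2

/-!
# The monomial subgroup of the Conway group as a split extension
-/

set_option autoImplicit false

namespace Cfsg.Agent.Lib.Helper1.MonV

open Cfsg Cfsg.Agent.Lib.Helper1 Cfsg.Agent.Lib.Helper1.LeechCross Cfsg.Agent.Lib.Helper1.LeechAut
  Cfsg.Agent.Lib.Helper1.LeechGen Cfsg.Agent.Lib.Helper1.LeechMono
  Cfsg.Agent.Lib.Helper1.MonU

theorem co0_ext (a b : Co0) (h : ∀ (v : leechLattice) (p : GolayPt),
    ((a • v : leechLattice) : GolayPt → ℤ) p = ((b • v : leechLattice) : GolayPt → ℤ) p) :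
    a = b := by
  apply Subtype.ext
  apply Equiv.ext
  intro v
  apply Subtype.ext
  funext p
  exact h v p

/-- the empty code word -/
def emp : gC := ⟨∅, gC_empty⟩

theorem mono_emp_apply (σ : M24) (v : leechLattice) (p : GolayPt) :
    ((mono emp σ • v : leechLattice) : GolayPt → ℤ) p = (v : GolayPt → ℤ) (σ.1.symm p) := by
  rw [mono_apply, signedPerm_apply, if_neg (by simp [emp])]

theorem mono_one_apply (c : gC) (v : leechLattice) (p : GolayPt) :
    ((mono c 1 • v : leechLattice) : GolayPt → ℤ) p =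
      if p ∈ c.1 then -(v : GolayPt → ℤ) p else (v : GolayPt → ℤ) p := by
  rw [mono_apply, signedPerm_apply]
  rfl

/-- the permutation automorphisms -/
noncomputable def mu : M24 →* Co0 where
  toFun σ := mono emp σ
  map_one' := by
    apply co0_ext
    intro v p
    rw [mono_emp_apply, one_smul]
    rfl
  map_mul' σ τ := by
    apply co0_ext
    intro v p
    rw [mul_smul, mono_emp_apply, mono_emp_apply, mono_emp_apply]
    rfl

theorem mu_apply (σ : M24) : mu σ = mono emp σ := rfl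

theorem mu_pres (σ : M24) : Pres (mu σ) := mono_pres emp σ

theorem prm_mu (σ : M24) : Prm (mu σ) σ.1 := prm_mono emp σ

theorem eq_one_of_mu_mem {σ : M24} (h : mu σ ∈ TS) : σ = 1 :=
  Subtype.ext (prm_unique (prm_mu σ) h.2)

theorem mu_injective : Function.Injective mu := by
  rw [injective_iff_map_eq_one]
  intro σ h
  apply eq_one_of_mu_mem
  rw [h]
  exact TS.one_mem

theorem ts_comm {a b : Co0} (ha : a ∈ TS) (hb : b ∈ TS) : a * b = b * a := by
  obtain ⟨c, rfl⟩ := (mem_TS_iff a).mp ha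
  obtain ⟨c', rfl⟩ := (mem_TS_iff b).mp hb
  apply co0_ext
  intro v p
  rw [mul_smul, mul_smul, mono_one_apply, mono_one_apply, mono_one_apply, mono_one_apply]
  split_ifs <;> rfl

theorem ts_sq {a : Co0} (ha : a ∈ TS) : a ^ 2 = 1 := by
  obtain ⟨c, rfl⟩ := (mem_TS_iff a).mp ha
  apply co0_ext
  intro v p
  rw [sq, mul_smul, mono_one_apply, mono_one_apply, one_smul]
  split_ifs
  · rw [neg_neg]
  · rfl

theorem ts_le_NN : TS ≤ NN := fun _ hk => hk.1

theorem nn_decomp {n : Co0} (hn : Pres n) : ∃ t ∈ TS, ∃ σ : M24, n = t * mu σ := by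
  obtain ⟨⟨c, σ⟩, hcσ⟩ := mono_surjective n hn
  have hn' : n ∈ NN := hn
  have hm' : mu σ ∈ NN := mu_pres σ
  refine ⟨n * (mu σ)⁻¹, ⟨NN.mul_mem hn' (NN.inv_mem hm'), ?_⟩, σ, by group⟩
  have h1 : Prm n σ.1 := by rw [← hcσ]; exact prm_mono c σ
  have h2 := prm_mul h1 (prm_inv (prm_mu σ))
  rwa [mul_inv_cancel] at h2

/-- the image of the sign changes in the first Conway group -/
noncomputable def TB : Subgroup Spor.Co1 := TS.map (QuotientGroup.mk' (Subgroup.center Co0))

theorem mem_TB_iff (x : Spor.Co1) : x ∈ TB ↔ ∃ t ∈ TS, (QuotientGroup.mk t : Spor.Co1) = x := by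
  unfold TB
  rw [Subgroup.mem_map]
  rfl

theorem card_TB : Nat.card TB = 2048 := card_TS_map

theorem tb_comm {a b : Spor.Co1} (ha : a ∈ TB) (hb : b ∈ TB) : a * b = b * a := by
  obtain ⟨t, ht, rfl⟩ := (mem_TB_iff a).mp ha
  obtain ⟨t', ht', rfl⟩ := (mem_TB_iff b).mp hb
  rw [← QuotientGroup.mk_mul, ← QuotientGroup.mk_mul, ts_comm ht ht']

theorem tb_sq {a : Spor.Co1} (ha : a ∈ TB) : a ^ 2 = 1 := by
  obtain ⟨t, ht, rfl⟩ := (mem_TB_iff a).mp ha
  rw [← QuotientGroup.mk_pow, ts_sq ht, QuotientGroup.mk_one]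

theorem mem_TS_of_mk {k : Co0} (h : (QuotientGroup.mk k : Spor.Co1) ∈ TB) : k ∈ TS := by
  obtain ⟨t, ht, hk⟩ := (mem_TB_iff _).mp h
  have h1 : t⁻¹ * k ∈ Subgroup.center Co0 := QuotientGroup.eq.mp hk
  have h2 : k = t * (t⁻¹ * k) := by group
  rw [h2]
  exact TS.mul_mem ht (center_le_TS h1)

/-- the permutation automorphisms in the first Conway group -/
noncomputable def muB : M24 →* Spor.Co1 := (QuotientGroup.mk' (Subgroup.center Co0)).comp mu

theorem muB_apply (σ : M24) : muB σ = (QuotientGroup.mk (mu σ) : Spor.Co1) := rfl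

theorem eq_one_of_muB_mem {σ : M24} (h : muB σ ∈ TB) : σ = 1 :=
  eq_one_of_mu_mem (mem_TS_of_mk h)

theorem muB_injective : Function.Injective muB := by
  rw [injective_iff_map_eq_one]
  intro σ h
  apply eq_one_of_muB_mem
  rw [h]
  exact TB.one_mem

theorem mk_decomp {n : Co0} (hn : Pres n) :
    ∃ t ∈ TB, ∃ σ : M24, (QuotientGroup.mk n : Spor.Co1) = t * muB σ := by
  obtain ⟨t, ht, σ, hσ⟩ := nn_decomp hn
  refine ⟨QuotientGroup.mk t, (mem_TB_iff _).mpr ⟨t, ht, rfl⟩, σ, ?_⟩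
  rw [hσ, QuotientGroup.mk_mul]
  rfl

end Cfsg.Agent.Lib.Helper1.MonV
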