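import Mathlib
import Cfsg.Agent.Lib.Helper1.MonU5
import Cfsg.Agent.Lib.Helper1.MonV1

/-!
# Monster type: the image of `Q^g ∩ C` in `C/Q` and its normalizer
-/

set_option autoImplicit false

namespace Cfsg.Agent.Lib.Helper1.MonV

open Cfsg Cfsg.Agent.Lib.Helper1.MonQ Cfsg.Agent.Lib.Helper1.MonT Cfsg.Agent.Lib.Helper1.LeechAut
  Cfsg.Agent.Lib.Helper1.LeechCross Cfsg.Agent.Lib.Helper1.LeechMono Cfsg.Agent.Lib.Helper1.MonU
open scoped commutatorElement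

variable {G : Type*} [Group G] {z : G}
  (Q : Subgroup (Subgroup.centralizer ({z} : Set G))) [Q.Normal]
  (e : (Subgroup.centralizer ({z} : Set G)) ⧸ Q ≃* Spor.Co1)
  (ψ : leechLattice → Q ⧸ Subgroup.center Q)

/-- twisting an identification by a lattice automorphism -/
theorem iso_twist (hψ : IsLeechModTwoIso Q e ψ) (k0 : Co0) :
    IsLeechModTwoIso Q (e.trans (MulAut.conj (QuotientGroup.mk k0 : Spor.Co1)))
      (fun v => ψ (k0⁻¹ • v)) := by
  refine ⟨?_, ?_, ?_, ?_⟩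
  · intro v w
    have h : k0⁻¹ • (v + w) = k0⁻¹ • v + k0⁻¹ • w := (k0⁻¹).2.1 v w
    show ψ (k0⁻¹ • (v + w)) = ψ (k0⁻¹ • v) * ψ (k0⁻¹ • w)
    rw [h, hψ.1]
  · intro x
    obtain ⟨v, hv⟩ := hψ.2.1 x
    refine ⟨k0 • v, ?_⟩
    show ψ (k0⁻¹ • (k0 • v)) = x
    rw [inv_smul_smul, hv]
  · intro v
    show ψ (k0⁻¹ • v) = 1 ↔ _
    rw [hψ.2.2.1]
    constructor
    · rintro ⟨w, hw⟩
      refine ⟨k0 • w, ?_⟩
      have h : k0 • (w + w) = k0 • w + k0 • w := k0.2.1 w w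
      rw [← h, ← hw, smul_inv_smul]
    · rintro ⟨w, hw⟩
      refine ⟨k0⁻¹ • w, ?_⟩
      have h : k0⁻¹ • (w + w) = k0⁻¹ • w + k0⁻¹ • w := (k0⁻¹).2.1 w w
      rw [← h, ← hw]
  · intro h k hk v q hq
    have hk' : (QuotientGroup.mk (k0⁻¹ * k * k0) : Spor.Co1) = e (QuotientGroup.mk h) := by
      have h1 : (e.trans (MulAut.conj (QuotientGroup.mk k0 : Spor.Co1))) (QuotientGroup.mk h) =
          (QuotientGroup.mk k0 : Spor.Co1) * e (QuotientGroup.mk h) *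
            (QuotientGroup.mk k0 : Spor.Co1)⁻¹ := rfl
      rw [h1] at hk
      rw [QuotientGroup.mk_mul, QuotientGroup.mk_mul, QuotientGroup.mk_inv, hk]
      group
    have h2 := hψ.2.2.2 h (k0⁻¹ * k * k0) hk' (k0⁻¹ • v) q hq
    show ψ (k0⁻¹ • (k • v)) = _
    rw [← h2, mul_smul, mul_smul, smul_inv_smul]

variable (hψ : IsLeechModTwoIso Q e ψ)

section setting

variable [Finite G]
  (hF : generalizedFittingSubgroup (Subgroup.centralizer ({z} : Set G)) = Q)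
  (hz2 : orderOf z = 2) (hE : IsExtraspecial 2 Q)

include hψ hF hz2 hE in
theorem mem_E_iff (hcard : Nat.card Q = 2 ^ 25) (g : G) (s0 : Q)
    (hs0g : ((s0 : Subgroup.centralizer ({z} : Set G)) : G) = g * z * g⁻¹)
    (hs0z : ((s0 : Subgroup.centralizer ({z} : Set G)) : G) ≠ z)
    (hstd : ψ (UU none) = QuotientGroup.mk s0)
    (x : (Subgroup.centralizer ({z} : Set G)) ⧸ Q) :
    (∃ d ∈ DD Q g, (QuotientGroup.mk d : (Subgroup.centralizer ({z} : Set G)) ⧸ Q) = x) ↔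
      e x ∈ TB := by
  have h := (card_inter_std Q e ψ hψ hF hz2 hE hcard g s0 hs0g hs0z hstd).2
  constructor
  · rintro ⟨d, hd, rfl⟩
    have h1 : phi Q e g ⟨d, hd⟩ ∈ (phi Q e g).range := ⟨_, rfl⟩
    rw [h] at h1
    exact h1
  · intro hx
    have h1 : e x ∈ (phi Q e g).range := by rw [h]; exact hx
    obtain ⟨d, hd⟩ := h1
    exact ⟨d.1, d.2, e.injective hd⟩

include hψ hF hz2 hE in
theorem mem_X_iff (s0 : Q) (hnc : s0 ∉ Subgroup.center Q)
    (hstd : ψ (UU none) = QuotientGroup.mk s0)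
    (x : (Subgroup.centralizer ({z} : Set G)) ⧸ Q) :
    (∃ h : Subgroup.centralizer ({z} : Set G),
      h * (s0 : Subgroup.centralizer ({z} : Set G)) = (s0 : Subgroup.centralizer ({z} : Set G)) * h ∧
      (QuotientGroup.mk h : (Subgroup.centralizer ({z} : Set G)) ⧸ Q) = x) ↔
      ∃ n : Co0, Pres n ∧ (QuotientGroup.mk n : Spor.Co1) = e x := by
  constructor
  · rintro ⟨h, hh, rfl⟩
    obtain ⟨k, hk⟩ := lift_Co0 Q e h
    refine ⟨k, ?_, hk⟩
    apply pres_of_cl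
    apply cl_of_psi_eq Q e ψ hψ
    rw [equiv' Q e ψ hψ h k hk (UU none) s0 hstd, hstd]
    congr 1
    apply Subtype.ext
    rw [conjQ_coe, hh]
    group
  · rintro ⟨n, hn, hnx⟩
    have h1 : ψ (n • UU none) = ψ (UU none) := psi_eq_of_cl Q e ψ hψ _ _ (cl_of_pres n hn)
    obtain ⟨h, hh, hcomm⟩ := stab_lift Q e ψ hψ hF hz2 hE (UU none) s0 hstd hnc n h1
    refine ⟨h, hcomm, ?_⟩
    apply e.injective
    rw [← hh, hnx]

include hψ hF hz2 hE in
/-- the structure of the image of `Q^g ∩ C`, in standard position -/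
theorem struct_std (hcard : Nat.card Q = 2 ^ 25) (g : G) (s0 : Q)
    (hs0g : ((s0 : Subgroup.centralizer ({z} : Set G)) : G) = g * z * g⁻¹)
    (hs0z : ((s0 : Subgroup.centralizer ({z} : Set G)) : G) ≠ z)
    (hstd : ψ (UU none) = QuotientGroup.mk s0)
    (X E : Subgroup ((Subgroup.centralizer ({z} : Set G)) ⧸ Q))
    (hX : ∀ x, x ∈ X ↔ ∃ h : Subgroup.centralizer ({z} : Set G),
      h * (s0 : Subgroup.centralizer ({z} : Set G)) = (s0 : Subgroup.centralizer ({z} : Set G)) * h ∧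
      (QuotientGroup.mk h : (Subgroup.centralizer ({z} : Set G)) ⧸ Q) = x)
    (hE' : ∀ x, x ∈ E ↔ ∃ d ∈ DD Q g,
      (QuotientGroup.mk d : (Subgroup.centralizer ({z} : Set G)) ⧸ Q) = x) :
    E ≤ X ∧ (∀ x ∈ X, ∀ y ∈ E, x * y * x⁻¹ ∈ E) ∧ IsElementaryAbelian 2 E ∧
      Nat.card E = 2 ^ 11 ∧
      ∃ K : Subgroup ((Subgroup.centralizer ({z} : Set G)) ⧸ Q),
        K ≤ X ∧ E ⊓ K = ⊥ ∧ E ⊔ K = X ∧ Nonempty (K ≃* M24) := by
  have hn64 : sqNorm ((UU none : leechLattice) : GolayPt → ℤ) = 64 := sqNorm_uu none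
  have hnc : s0 ∉ Subgroup.center Q := by
    intro hc
    apply psi_ne_one Q e ψ hψ (UU none) (Or.inr hn64)
    rw [hstd]
    exact (QuotientGroup.eq_one_iff s0).mpr hc
  have hEe : ∀ x, x ∈ E ↔ e x ∈ TB := fun x =>
    (hE' x).trans (mem_E_iff Q e ψ hψ hF hz2 hE hcard g s0 hs0g hs0z hstd x)
  have hXe : ∀ x, x ∈ X ↔ ∃ n : Co0, Pres n ∧ (QuotientGroup.mk n : Spor.Co1) = e x := fun x =>
    (hX x).trans (mem_X_iff Q e ψ hψ hF hz2 hE s0 hnc hstd x)
  have hEX : E ≤ X := by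
    intro x hx
    obtain ⟨d, hd, rfl⟩ := (hE' x).mp hx
    exact (hX _).mpr ⟨d, D_comm Q g s0 hs0g d hd, rfl⟩
  refine ⟨hEX, ?_, ⟨?_, ?_⟩, ?_, ?_⟩
  · intro x hx y hy
    obtain ⟨h, hh, rfl⟩ := (hX x).mp hx
    obtain ⟨d, hd, rfl⟩ := (hE' y).mp hy
    exact (hE' _).mpr ⟨h * d * h⁻¹, D_norm Q g s0 hs0g h hh d hd, rfl⟩
  · refine ⟨⟨fun a b => ?_⟩⟩
    apply Subtype.ext
    apply e.injective
    show e ((a : (Subgroup.centralizer ({z} : Set G)) ⧸ Q) * b) = e (b * a)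
    rw [map_mul, map_mul]
    exact tb_comm ((hEe _).mp a.2) ((hEe _).mp b.2)
  · intro a ha
    apply e.injective
    rw [map_pow, map_one]
    exact tb_sq ((hEe a).mp ha)
  · have hmap : E.map e.toMonoidHom = TB := by
      ext y
      rw [Subgroup.mem_map]
      constructor
      · rintro ⟨x, hx, rfl⟩
        exact (hEe x).mp hx
      · intro hy
        refine ⟨e.symm y, (hEe _).mpr ?_, ?_⟩
        · rw [MulEquiv.apply_symm_apply]; exact hy
        · exact e.apply_symm_apply y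
    have hc := Subgroup.card_map_of_injective (K := E) (f := e.toMonoidHom) e.injective
    rw [hmap, card_TB] at hc
    rw [← hc]
    norm_num
  · let ν : M24 →* (Subgroup.centralizer ({z} : Set G)) ⧸ Q := e.symm.toMonoidHom.comp muB
    have hν : Function.Injective ν := e.symm.injective.comp muB_injective
    have hνe : ∀ σ, e (ν σ) = muB σ := fun σ => e.apply_symm_apply _
    have hKX : ν.range ≤ X := by
      rintro x ⟨σ, rfl⟩
      apply (hXe _).mpr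
      refine ⟨mu σ, mu_pres σ, ?_⟩
      rw [hνe]
      rfl
    refine ⟨ν.range, hKX, ?_, ?_, ⟨(MonoidHom.ofInjective hν).symm⟩⟩
    · rw [eq_bot_iff]
      rintro x ⟨hx1, ⟨σ, rfl⟩⟩
      have h1 := (hEe _).mp hx1
      rw [hνe] at h1
      have h2 := eq_one_of_muB_mem h1
      rw [h2, map_one]
      exact Subgroup.mem_bot.mpr rfl
    · apply le_antisymm
      · exact sup_le hEX hKX
      · intro x hx
        obtain ⟨n, hn, hnx⟩ := (hXe x).mp hx
        obtain ⟨t, ht, σ, hσ⟩ := mk_decomp hn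
        have hx' : x = e.symm t * ν σ := by
          apply e.injective
          rw [map_mul, MulEquiv.apply_symm_apply, ← hnx, hσ, hνe]
        rw [hx']
        refine Subgroup.mul_mem_sup ((hEe _).mpr ?_) ⟨σ, rfl⟩
        rw [MulEquiv.apply_symm_apply]
        exact ht

include hψ hF hz2 hE in
/-- the structure of the image of `Q^g ∩ C` -/
theorem struct (hcard : Nat.card Q = 2 ^ 25) (g : G) (s0 : Q)
    (hs0g : ((s0 : Subgroup.centralizer ({z} : Set G)) : G) = g * z * g⁻¹)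
    (hs0z : ((s0 : Subgroup.centralizer ({z} : Set G)) : G) ≠ z)
    (X E : Subgroup ((Subgroup.centralizer ({z} : Set G)) ⧸ Q))
    (hX : ∀ x, x ∈ X ↔ ∃ h : Subgroup.centralizer ({z} : Set G),
      h * (s0 : Subgroup.centralizer ({z} : Set G)) = (s0 : Subgroup.centralizer ({z} : Set G)) * h ∧
      (QuotientGroup.mk h : (Subgroup.centralizer ({z} : Set G)) ⧸ Q) = x)
    (hE' : ∀ x, x ∈ E ↔ ∃ d ∈ DD Q g,
      (QuotientGroup.mk d : (Subgroup.centralizer ({z} : Set G)) ⧸ Q) = x) :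
    E ≤ X ∧ (∀ x ∈ X, ∀ y ∈ E, x * y * x⁻¹ ∈ E) ∧ IsElementaryAbelian 2 E ∧
      Nat.card E = 2 ^ 11 ∧
      ∃ K : Subgroup ((Subgroup.centralizer ({z} : Set G)) ⧸ Q),
        K ≤ X ∧ E ⊓ K = ⊥ ∧ E ⊔ K = X ∧ Nonempty (K ≃* M24) := by
  obtain ⟨v, hv, hvs⟩ := conj_type_four Q e ψ hψ hF hz2 hE hcard s0
    (isConj_iff.mpr ⟨g, hs0g.symm⟩) hs0z
  obtain ⟨k0, hk0⟩ := Cfsg.Agent.Lib.Helper1.LeechConn.trans64 v (UU none) hv (sqNorm_uu none)
  have hψ' := iso_twist Q e ψ hψ k0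
  refine struct_std Q _ _ hψ' hF hz2 hE hcard g s0 hs0g hs0z ?_ X E hX hE'
  show ψ (k0⁻¹ • UU none) = QuotientGroup.mk s0
  rw [← hk0, inv_smul_smul, hvs]

end setting

end Cfsg.Agent.Lib.Helper1.MonV
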