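import Mathlib
import Cfsg.Agent.Lib.Helper1.MonT5

/-!
# Monster type: the commutator pairing on `Q` in lattice terms
-/

set_option autoImplicit false

namespace Cfsg.Agent.Lib.Helper1.MonW

open Cfsg Cfsg.Agent.Lib.Helper1.MonQ Cfsg.Agent.Lib.Helper1.MonT Cfsg.Agent.Lib.Helper1.LeechAut
  Cfsg.Agent.Lib.Helper1.LeechQuad
open scoped commutatorElement

/-- two vectors of type 2 congruent modulo twice the lattice are equal or opposite -/
theorem cong_short (v v' w : leechLattice) (hv : sqNorm (v : GolayPt → ℤ) = 32)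
    (hv' : sqNorm (v' : GolayPt → ℤ) = 32) (h : v - v' = w + w) : v' = v ∨ v' = -v := by
  have key : ∀ a b c : GolayPt → ℤ, a ∈ leechLattice → b ∈ leechLattice → c ∈ leechLattice →
      sqNorm a = 32 → sqNorm b = 32 → a = b + (c + c) → b = a ∨ b = -a := by
    intro a b c _ hb hc ha32 hb32 h1
    have e1 : sqNorm (c + c) = 4 * sqNorm c := sqNorm_double _
    have e2 : sqNorm (b + (c + c)) = sqNorm b + 2 * dotInt b (c + c) + sqNorm (c + c) :=
      sqNorm_add _ _
    have e3 : dotInt b (c + c) = 2 * dotInt b c := by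
      unfold dotInt
      rw [Finset.mul_sum]
      apply Finset.sum_congr rfl
      intro i _
      simp only [Pi.add_apply]
      ring
    have e4 : sqNorm (c + b) = sqNorm c + 2 * dotInt c b + sqNorm b := sqNorm_add _ _
    have e5 : dotInt c b = dotInt b c := by
      unfold dotInt
      apply Finset.sum_congr rfl
      intro i _
      ring
    rw [h1] at ha32
    rw [e2, e1, e3, hb32] at ha32
    rw [e5, hb32] at e4
    by_cases hw0 : c = 0
    · left
      rw [h1, hw0]; simp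
    · by_cases hw1 : c + b = 0
      · right
        have hb' : b = -c := by rw [← sub_eq_zero, ← hw1]; abel
        rw [h1, hb']; abel
      · exfalso
        have g1 := Cfsg.Agent.S0391.result _ hc hw0
        have g2 := Cfsg.Agent.S0391.result _ (leechLattice.add_mem hc hb) hw1
        omega
  have h1 : (v : GolayPt → ℤ) = (v' : GolayPt → ℤ) + ((w : GolayPt → ℤ) + (w : GolayPt → ℤ)) := by
    have := congrArg (fun x : leechLattice => (x : GolayPt → ℤ)) h
    simp only [AddSubgroup.coe_sub, AddSubgroup.coe_add] at this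
    rw [← this]; abel
  rcases key _ _ _ v.2 v'.2 w.2 hv hv' h1 with h2 | h2
  · left; exact Subtype.ext h2
  · right; apply Subtype.ext; rw [AddSubgroup.coe_neg]; exact h2

variable {G : Type*} [Group G] [Finite G] {z : G}
  (Q : Subgroup (Subgroup.centralizer ({z} : Set G))) [Q.Normal]
  (e : (Subgroup.centralizer ({z} : Set G)) ⧸ Q ≃* Spor.Co1)
  (ψ : leechLattice → Q ⧸ Subgroup.center Q)
  (hψ : IsLeechModTwoIso Q e ψ)
  (hF : generalizedFittingSubgroup (Subgroup.centralizer ({z} : Set G)) = Q)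
  (hz2 : orderOf z = 2) (hE : IsExtraspecial 2 Q)

include hψ hE in
/-- the commutator pairing is the inner product divided by 8, modulo 2 -/
theorem iota_comm (a b : Q) (v w : leechLattice) (hv : ψ v = QuotientGroup.mk a)
    (hw : ψ w = QuotientGroup.mk b) :
    MonQ.iota ⁅b, a⁆ = ((dotInt (v : GolayPt → ℤ) (w : GolayPt → ℤ) / 8 : ℤ) : ZMod 2) := by
  have hvw : ψ (v + w) = QuotientGroup.mk (a * b) := by rw [hψ.1, hv, hw]; rfl
  have h1 := sq_mul hE a b
  rw [sq_formula Q e ψ hψ hE a v hv, sq_formula Q e ψ hψ hE b w hw,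
    sq_formula Q e ψ hψ hE (a * b) (v + w) hvw] at h1
  obtain ⟨α, hα⟩ := Cfsg.Agent.S0392.result (v : GolayPt → ℤ) v.2
  obtain ⟨β, hβ⟩ := Cfsg.Agent.S0392.result (w : GolayPt → ℤ) w.2
  obtain ⟨γ, hγ⟩ := dotInt_dvd (v : GolayPt → ℤ) (w : GolayPt → ℤ) v.2 w.2
  have h2 : sqNorm ((v + w : leechLattice) : GolayPt → ℤ) = 16 * (α + γ + β) := by
    rw [AddSubgroup.coe_add, sqNorm_add, hα, hγ, hβ]; ring
  rw [h2, hα, hβ] at h1
  rw [hγ]
  rw [Int.mul_ediv_cancel_left _ (by norm_num : (16 : ℤ) ≠ 0),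
    Int.mul_ediv_cancel_left _ (by norm_num : (16 : ℤ) ≠ 0),
    Int.mul_ediv_cancel_left _ (by norm_num : (16 : ℤ) ≠ 0)] at h1
  rw [Int.mul_ediv_cancel_left _ (by norm_num : (8 : ℤ) ≠ 0)]
  push_cast at h1
  have key : ∀ x a g b : ZMod 2, a + g + b = x + a + b → x = g := by decide
  exact key _ _ _ _ h1

include hψ hE in
/-- two elements of `Q` commute iff the inner product of their vectors is divisible by 16 -/
theorem comm_iff (a b : Q) (v w : leechLattice) (hv : ψ v = QuotientGroup.mk a)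
    (hw : ψ w = QuotientGroup.mk b) :
    a * b = b * a ↔ (16 : ℤ) ∣ dotInt (v : GolayPt → ℤ) (w : GolayPt → ℤ) := by
  have h := iota_comm Q e ψ hψ hE a b v w hv hw
  obtain ⟨γ, hγ⟩ := dotInt_dvd (v : GolayPt → ℤ) (w : GolayPt → ℤ) v.2 w.2
  rw [hγ, Int.mul_ediv_cancel_left _ (by norm_num : (8 : ℤ) ≠ 0)] at h
  have h1 : a * b = b * a ↔ ⁅b, a⁆ = 1 := by
    rw [commutatorElement_eq_one_iff_commute]
    exact ⟨fun h => h.symm, fun h => h.symm⟩
  rw [h1, ← iota_eq_zero_iff, h, hγ]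
  rw [ZMod.intCast_zmod_eq_zero_iff_dvd]
  constructor
  · rintro ⟨δ, hδ⟩
    exact ⟨δ, by rw [hδ]; push_cast; ring⟩
  · rintro ⟨δ, hδ⟩
    refine ⟨δ, ?_⟩
    push_cast
    omega

end Cfsg.Agent.Lib.Helper1.MonW
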