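import Mathlib
import Cfsg.Agent.Lib.Helper1.MonW1
import Cfsg.Agent.Lib.Helper1.MonU2

/-!
# Monster type: the centralizer of a non-central involution of `Q` maps onto the second
Conway group
-/

set_option autoImplicit false

namespace Cfsg.Agent.Lib.Helper1.MonW

open Cfsg Cfsg.Agent.Lib.Helper1.MonQ Cfsg.Agent.Lib.Helper1.MonT Cfsg.Agent.Lib.Helper1.LeechAut
  Cfsg.Agent.Lib.Helper1.LeechQuad Cfsg.Agent.Lib.Helper1.MonU
open scoped commutatorElement

theorem sqNorm_leechU : sqNorm ((Spor.leechU : leechLattice) : GolayPt → ℤ) = 32 := by decide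

theorem leechU_ne_neg : (Spor.leechU : leechLattice) ≠ -Spor.leechU := by
  intro h
  have h1 := congrArg (fun v : leechLattice => (v : GolayPt → ℤ) none) h
  simp only [AddSubgroup.coe_neg, Pi.neg_apply] at h1
  have h2 : ((Spor.leechU : leechLattice) : GolayPt → ℤ) none = 4 := by decide
  rw [h2] at h1
  omega

theorem mem_Co2_iff (g : Equiv.Perm leechLattice) : g ∈ Spor.Co2 ↔
    g ∈ Co0 ∧ g Spor.leechU = Spor.leechU := by
  unfold Spor.Co2
  rw [Subgroup.mem_inf, MulAction.mem_stabilizer_iff]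
  rfl

/-- the second Conway group inside the automorphism group of the lattice -/
def co2Incl : ↥Spor.Co2 →* Co0 where
  toFun g := ⟨g.1, ((mem_Co2_iff g.1).mp g.2).1⟩
  map_one' := rfl
  map_mul' _ _ := rfl

theorem co2Incl_injective : Function.Injective co2Incl := by
  intro a b h
  apply Subtype.ext
  exact congrArg (fun k : Co0 => (k : Equiv.Perm leechLattice)) h

theorem co2Incl_smul (g : ↥Spor.Co2) (v : leechLattice) : co2Incl g • v = g • v := rfl

theorem co2Incl_fix (g : ↥Spor.Co2) : co2Incl g • Spor.leechU = Spor.leechU :=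
  ((mem_Co2_iff g.1).mp g.2).2

/-- the second Conway group as a stabilizer -/
def co2Stab : ↥Spor.Co2 ≃* ↥(MulAction.stabilizer Co0 Spor.leechU) where
  toFun g := ⟨co2Incl g, co2Incl_fix g⟩
  invFun h := ⟨h.1.1, (mem_Co2_iff _).mpr ⟨h.1.2, h.2⟩⟩
  left_inv _ := rfl
  right_inv _ := rfl
  map_mul' _ _ := rfl

theorem isSimpleGroup_Co2 : IsSimpleGroup ↥Spor.Co2 :=
  haveI := (Cfsg.Agent.S0402.result Spor.leechU sqNorm_leechU).1
  co2Stab.isSimpleGroup

theorem card_Co2 : Nat.card ↥Spor.Co2 = 42305421312000 := by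
  rw [Nat.card_congr co2Stab.toEquiv]
  exact (Cfsg.Agent.S0402.result Spor.leechU sqNorm_leechU).2

/-- uniqueness of the lift fixing the short vector -/
theorem lift_unique (k k' : Co0) (h : (QuotientGroup.mk k : Spor.Co1) = QuotientGroup.mk k')
    (hk : k • Spor.leechU = Spor.leechU) (hk' : k' • Spor.leechU = Spor.leechU) : k = k' := by
  have h1 : k⁻¹ * k' ∈ Subgroup.center Co0 := QuotientGroup.eq.mp h
  rcases central_cases _ h1 with h2 | h2
  · have : k' = k * (k⁻¹ * k') := by group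
    rw [this, h2, mul_one]
  · exfalso
    have h3 : k' = k * negC := by rw [← h2]; group
    rw [h3, mul_smul, negC_smul, smul_neg', hk] at hk'
    exact leechU_ne_neg hk'.symm

variable {G : Type*} [Group G] [Finite G] {z : G}
  (Q : Subgroup (Subgroup.centralizer ({z} : Set G))) [Q.Normal]
  (e : (Subgroup.centralizer ({z} : Set G)) ⧸ Q ≃* Spor.Co1)
  (ψ : leechLattice → Q ⧸ Subgroup.center Q)
  (hψ : IsLeechModTwoIso Q e ψ)
  (hF : generalizedFittingSubgroup (Subgroup.centralizer ({z} : Set G)) = Q)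
  (hz2 : orderOf z = 2) (hE : IsExtraspecial 2 Q)
  (t0 : Q) (hstd : ψ Spor.leechU = QuotientGroup.mk t0)

include hψ hstd in
theorem t0_not_center : t0 ∉ Subgroup.center Q := by
  intro hc
  apply psi_ne_one Q e ψ hψ Spor.leechU (Or.inl sqNorm_leechU)
  rw [hstd]
  exact (QuotientGroup.eq_one_iff t0).mpr hc

include hψ hstd in
/-- an element of `C` centralizing `t` induces an automorphism fixing the short vector -/
theorem exists_lift (x : Subgroup.centralizer ({z} : Set G))
    (hx : x * (t0 : Subgroup.centralizer ({z} : Set G)) =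
      (t0 : Subgroup.centralizer ({z} : Set G)) * x) :
    ∃ k : Co0, (QuotientGroup.mk k : Spor.Co1) = e (QuotientGroup.mk x) ∧
      k • Spor.leechU = Spor.leechU := by
  obtain ⟨k, hk⟩ := lift_Co0 Q e x
  have h1 := equiv' Q e ψ hψ x k hk Spor.leechU t0 hstd
  have h2 : conjQ Q x t0 = t0 := by
    apply Subtype.ext
    rw [conjQ_coe, hx]
    group
  rw [h2, ← hstd] at h1
  have h3 : ψ (Spor.leechU - k • Spor.leechU) = 1 := by
    rw [psi_sub ψ hψ.1 hψ.2.2.1, h1, mul_inv_cancel]
  obtain ⟨w, hw⟩ := (hψ.2.2.1 _).mp h3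
  have hn : sqNorm ((k • Spor.leechU : leechLattice) : GolayPt → ℤ) = 32 := by
    rw [← sqNorm_leechU]
    exact k.2.2 Spor.leechU
  rcases cong_short Spor.leechU (k • Spor.leechU) w sqNorm_leechU hn hw with h4 | h4
  · exact ⟨k, hk, h4⟩
  · refine ⟨negC * k, ?_, ?_⟩
    · rw [QuotientGroup.mk_mul, (QuotientGroup.eq_one_iff negC).mpr negC_central, one_mul, hk]
    · rw [mul_smul, h4, negC_smul, neg_neg]

/-- the centralizer of `t` in `C` -/
def CT : Subgroup (Subgroup.centralizer ({z} : Set G)) :=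
  Subgroup.centralizer ({(t0 : Subgroup.centralizer ({z} : Set G))} : Set _)

theorem mem_CT_iff (x : Subgroup.centralizer ({z} : Set G)) :
    x ∈ CT Q t0 ↔ x * (t0 : Subgroup.centralizer ({z} : Set G)) =
      (t0 : Subgroup.centralizer ({z} : Set G)) * x := by
  unfold CT
  rw [Subgroup.mem_centralizer_iff]
  constructor
  · intro h
    exact (h _ (Set.mem_singleton _)).symm
  · intro h y hy
    rw [Set.mem_singleton_iff.mp hy]
    exact h.symm

/-- the lift of an element of the centralizer of `t` -/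
noncomputable def thetaFun (x : CT Q t0) : Co0 :=
  Classical.choose (exists_lift Q e ψ hψ t0 hstd x.1 ((mem_CT_iff Q t0 x.1).mp x.2))

theorem thetaFun_mk (x : CT Q t0) :
    (QuotientGroup.mk (thetaFun Q e ψ hψ t0 hstd x) : Spor.Co1) = e (QuotientGroup.mk x.1) :=
  (Classical.choose_spec (exists_lift Q e ψ hψ t0 hstd x.1 ((mem_CT_iff Q t0 x.1).mp x.2))).1

theorem thetaFun_fix (x : CT Q t0) :
    thetaFun Q e ψ hψ t0 hstd x • Spor.leechU = Spor.leechU :=
  (Classical.choose_spec (exists_lift Q e ψ hψ t0 hstd x.1 ((mem_CT_iff Q t0 x.1).mp x.2))).2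

theorem thetaFun_eq (x : CT Q t0) (k : Co0)
    (hk : (QuotientGroup.mk k : Spor.Co1) = e (QuotientGroup.mk x.1))
    (hfix : k • Spor.leechU = Spor.leechU) : thetaFun Q e ψ hψ t0 hstd x = k :=
  lift_unique _ _ ((thetaFun_mk Q e ψ hψ t0 hstd x).trans hk.symm)
    (thetaFun_fix Q e ψ hψ t0 hstd x) hfix

/-- the homomorphism from the centralizer of `t` in `C` to the second Conway group -/
noncomputable def theta : CT Q t0 →* ↥Spor.Co2 where
  toFun x := ⟨(thetaFun Q e ψ hψ t0 hstd x : Equiv.Perm leechLattice),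
    (mem_Co2_iff _).mpr ⟨(thetaFun Q e ψ hψ t0 hstd x).2, thetaFun_fix Q e ψ hψ t0 hstd x⟩⟩
  map_one' := by
    apply Subtype.ext
    have : thetaFun Q e ψ hψ t0 hstd 1 = 1 := by
      apply thetaFun_eq
      · rw [Subgroup.coe_one, QuotientGroup.mk_one, QuotientGroup.mk_one, map_one]
      · exact one_smul _ _
    show (thetaFun Q e ψ hψ t0 hstd 1 : Equiv.Perm leechLattice) = 1
    rw [this]
    rfl
  map_mul' x y := by
    apply Subtype.ext
    have : thetaFun Q e ψ hψ t0 hstd (x * y) =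
        thetaFun Q e ψ hψ t0 hstd x * thetaFun Q e ψ hψ t0 hstd y := by
      apply thetaFun_eq
      · rw [QuotientGroup.mk_mul, thetaFun_mk, thetaFun_mk, Subgroup.coe_mul, QuotientGroup.mk_mul,
          map_mul]
      · rw [mul_smul, thetaFun_fix, thetaFun_fix]
    show (thetaFun Q e ψ hψ t0 hstd (x * y) : Equiv.Perm leechLattice) = _
    rw [this]
    rfl

theorem co2Incl_theta (x : CT Q t0) :
    co2Incl (theta Q e ψ hψ t0 hstd x) = thetaFun Q e ψ hψ t0 hstd x := rfl

theorem theta_mk (x : CT Q t0) :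
    (QuotientGroup.mk (co2Incl (theta Q e ψ hψ t0 hstd x)) : Spor.Co1) =
      e (QuotientGroup.mk x.1) := thetaFun_mk Q e ψ hψ t0 hstd x

theorem theta_eq_one_iff (x : CT Q t0) : theta Q e ψ hψ t0 hstd x = 1 ↔ x.1 ∈ Q := by
  constructor
  · intro h
    have h1 := theta_mk Q e ψ hψ t0 hstd x
    rw [h, map_one, QuotientGroup.mk_one] at h1
    have h2 := (MulEquiv.map_eq_one_iff e).mp h1.symm
    exact (QuotientGroup.eq_one_iff _).mp h2
  · intro h
    apply co2Incl_injective
    rw [map_one, co2Incl_theta]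
    apply thetaFun_eq
    · rw [QuotientGroup.mk_one, (QuotientGroup.eq_one_iff _).mpr h, map_one]
    · exact one_smul _ _

include hF hz2 hE in
theorem theta_surjective : Function.Surjective (theta Q e ψ hψ t0 hstd) := by
  intro k
  have hnc := t0_not_center Q e ψ hψ t0 hstd
  obtain ⟨h, hh, hcomm⟩ := stab_lift Q e ψ hψ hF hz2 hE Spor.leechU t0 hstd hnc (co2Incl k)
    (congrArg ψ (co2Incl_fix k))
  refine ⟨⟨h, (mem_CT_iff Q t0 h).mpr hcomm⟩, ?_⟩
  apply co2Incl_injective
  rw [co2Incl_theta]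
  exact thetaFun_eq Q e ψ hψ t0 hstd _ _ hh (co2Incl_fix k)

end Cfsg.Agent.Lib.Helper1.MonW
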