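import Mathlib
import Cfsg.Agent.Lib.Helper9.LargeExtra5
import Cfsg.Agent.Lib.Helper6.ParChar
import Cfsg.Agent.Lib.Helper1.MonU2

/-!
# Abstract lemmas: extraspecial quotients, and groups whose generalized Fitting subgroup is a
given normal 2-subgroup
-/

set_option autoImplicit false

namespace Cfsg.Agent.Lib.Helper1.MonW

open Cfsg
open scoped commutatorElement

/-- a quotient by a non-central subgroup of order 2 of the centre of a group "of extraspecial
type with an extra central involution" is extraspecial -/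
theorem extraspecial_quotient {P R : Type*} [Group P] [Finite P] [Group R] (f : P →* R)
    (hf : Function.Surjective f) (ζ τ : P) (hker : ∀ x, f x = 1 ↔ x = 1 ∨ x = τ)
    (h2 : IsPGroup 2 P)
    (hcomm : ∀ x y : P, ⁅x, y⁆ = 1 ∨ ⁅x, y⁆ = ζ) (hsq : ∀ x : P, x ^ 2 = 1 ∨ x ^ 2 = ζ)
    (hζτ : ζ ≠ τ) (hζ1 : ζ ≠ 1)
    (hcen : ∀ x : P, (∀ y, x * y = y * x) → x = 1 ∨ x = ζ ∨ x = τ ∨ x = ζ * τ)
    (hζc : ∀ y, ζ * y = y * ζ)
    (hna : ∃ x y : P, x * y ≠ y * x) : IsExtraspecial 2 R := by
  have : Finite R := Finite.of_surjective f hf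
  have hfζ : f ζ ≠ 1 := by
    intro h
    rcases (hker ζ).mp h with h1 | h1
    · exact hζ1 h1
    · exact hζτ h1
  have hfτ : f τ = 1 := (hker τ).mpr (Or.inr rfl)
  have hfζc : f ζ ∈ Subgroup.center R := by
    rw [Subgroup.mem_center_iff]
    intro r
    obtain ⟨y, rfl⟩ := hf r
    rw [← map_mul, ← map_mul, hζc y]
  have hcenR : ∀ r : R, r ∈ Subgroup.center R → r = 1 ∨ r = f ζ := by
    intro r hr
    obtain ⟨x, rfl⟩ := hf r
    rw [Subgroup.mem_center_iff] at hr
    have hx : ∀ y, x * y = y * x := by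
      intro y
      have h1 : f ⁅x, y⁆ = 1 := by
        rw [map_commutatorElement, commutatorElement_eq_one_iff_commute]
        exact (hr (f y)).symm
      have h3 : ⁅x, y⁆ = 1 := by
        rcases (hker _).mp h1 with h3 | h3
        · exact h3
        · rcases hcomm x y with h4 | h4
          · exact h4
          · exact absurd (h4.symm.trans h3) hζτ
      exact (commutatorElement_eq_one_iff_commute.mp h3)
    rcases hcen x hx with h | h | h | h
    · left; rw [h, map_one]
    · right; rw [h]
    · left; rw [h, hfτ]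
    · right; rw [h, map_mul, hfτ, mul_one]
  have hcard : Nat.card (Subgroup.center R) = 2 := by
    rw [Nat.card_eq_two_iff' (1 : Subgroup.center R)]
    refine ⟨⟨f ζ, hfζc⟩, fun h => hfζ (congrArg Subtype.val h), ?_⟩
    intro y hy
    rcases hcenR y.1 y.2 with h | h
    · exact absurd (Subtype.ext h) hy
    · exact Subtype.ext h
  apply Cfsg.Agent.Lib.Helper9.LargeExtra.isExtraspecial_of_type (h2.of_surjective f hf) hcard
  · intro a b
    obtain ⟨x, rfl⟩ := hf a
    obtain ⟨y, rfl⟩ := hf b
    rw [← map_commutatorElement]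
    rcases hcomm x y with h | h
    · rw [h, map_one]; exact Subgroup.one_mem _
    · rw [h]; exact hfζc
  · intro a
    obtain ⟨x, rfl⟩ := hf a
    rw [← map_pow]
    rcases hsq x with h | h
    · rw [h, map_one]; exact Subgroup.one_mem _
    · rw [h]; exact hfζc
  · obtain ⟨x, y, hxy⟩ := hna
    refine ⟨f x, f y, ?_⟩
    rw [← map_commutatorElement]
    rcases hcomm x y with h | h
    · exfalso
      exact hxy (commutatorElement_eq_one_iff_commute.mp h)
    · rw [h]; exact hfζ

/-- the centre of such a quotient -/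
theorem center_quotient {P R : Type*} [Group P] [Group R] (f : P →* R)
    (hf : Function.Surjective f) (ζ τ : P) (hker : ∀ x, f x = 1 ↔ x = 1 ∨ x = τ)
    (hcomm : ∀ x y : P, ⁅x, y⁆ = 1 ∨ ⁅x, y⁆ = ζ)
    (hζτ : ζ ≠ τ)
    (hcen : ∀ x : P, (∀ y, x * y = y * x) → x = 1 ∨ x = ζ ∨ x = τ ∨ x = ζ * τ)
    (hζc : ∀ y, ζ * y = y * ζ) (r : R) :
    r ∈ Subgroup.center R ↔ r = 1 ∨ r = f ζ := by
  have hfτ : f τ = 1 := (hker τ).mpr (Or.inr rfl)
  constructor
  · intro hr
    obtain ⟨x, rfl⟩ := hf r
    rw [Subgroup.mem_center_iff] at hr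
    have hx : ∀ y, x * y = y * x := by
      intro y
      have h1 : f ⁅x, y⁆ = 1 := by
        rw [map_commutatorElement, commutatorElement_eq_one_iff_commute]
        exact (hr (f y)).symm
      have h3 : ⁅x, y⁆ = 1 := by
        rcases (hker _).mp h1 with h3 | h3
        · exact h3
        · rcases hcomm x y with h4 | h4
          · exact h4
          · exact absurd (h4.symm.trans h3) hζτ
      exact (commutatorElement_eq_one_iff_commute.mp h3)
    rcases hcen x hx with h | h | h | h
    · left; rw [h, map_one]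
    · right; rw [h]
    · left; rw [h, hfτ]
    · right; rw [h, map_mul, hfτ, mul_one]
  · rintro (rfl | rfl)
    · exact Subgroup.one_mem _
    · rw [Subgroup.mem_center_iff]
      intro r
      obtain ⟨y, rfl⟩ := hf r
      rw [← map_mul, ← map_mul, hζc y]

/-- the order of a quotient by a subgroup of order two -/
theorem card_quotient_two {P R : Type*} [Group P] [Finite P] [Group R] (f : P →* R)
    (hf : Function.Surjective f) (τ : P) (hτ : τ ≠ 1) (hker : ∀ x, f x = 1 ↔ x = 1 ∨ x = τ) :
    Nat.card P = 2 * Nat.card R := by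
  have h1 := Cfsg.Agent.Lib.Helper1.MonU.card_ker_mul_range f
  have h2 : Nat.card f.ker = 2 := by
    rw [Nat.card_eq_two_iff' (1 : f.ker)]
    refine ⟨⟨τ, (hker τ).mpr (Or.inr rfl)⟩, fun h => hτ (congrArg Subtype.val h), ?_⟩
    intro y hy
    rcases (hker y.1).mp y.2 with h | h
    · exact absurd (Subtype.ext h) hy
    · exact Subtype.ext h
  have h3 : f.range = ⊤ := MonoidHom.range_eq_top.mpr hf
  rw [h2, h3, Subgroup.card_top] at h1
  exact h1

/-- a criterion for the generalized Fitting subgroup to be a given normal 2-subgroup -/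
theorem fstar_eq_of_simple_quotient {D K : Type*} [Group D] [Finite D] [Group K]
    [IsSimpleGroup K] (hK : ¬ IsPGroup 2 K) (R : Subgroup D) [hRn : R.Normal]
    (hR2 : IsPGroup 2 R) (θ : D →* K) (hsurj : Function.Surjective θ) (hker : θ.ker = R)
    (hcent : Subgroup.centralizer (R : Set D) ≤ R) :
    generalizedFittingSubgroup D = R := by
  have : Fact (Nat.Prime 2) := ⟨Nat.prime_two⟩
  have hpc : pCore 2 D = R := by
    apply le_antisymm
    · have hn : (pCore 2 D).Normal := Subgroup.sSup_normal _ (fun _ hH => hH.1)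
      have hp : IsPGroup 2 (pCore 2 D) :=
        Sylow.sSup_of_normal _ (fun _ hH => hH.2) (fun _ hH => hH.1)
      have hmn : ((pCore 2 D).map θ).Normal := hn.map θ hsurj
      rcases hmn.eq_bot_or_eq_top with h | h
      · rw [← hker]
        exact (Subgroup.map_eq_bot_iff _).mp h
      · exfalso
        apply hK
        have h1 : IsPGroup 2 ((pCore 2 D).map θ) := hp.map θ
        rw [h] at h1
        exact IsPGroup.of_equiv h1 Subgroup.topEquiv
    · exact le_sSup ⟨hRn, hR2⟩
  rw [← hpc]
  apply (Cfsg.Agent.Lib.Helper6.fstar_eq_pCore_iff_centralizer_le D).mpr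
  rw [hpc]
  exact hcent

end Cfsg.Agent.Lib.Helper1.MonW
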