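import Mathlib
import Cfsg.Agent.Lib.Helper1.MonW3
import Cfsg.Agent.Lib.Helper1.MonT5
import Cfsg.Agent.Lib.Helper6.Extra2

/-!
# Monster type: the centralizer in `Q` of a non-central involution
-/

set_option autoImplicit false

namespace Cfsg.Agent.Lib.Helper1.MonW

open Cfsg Cfsg.Agent.Lib.Helper1.MonQ Cfsg.Agent.Lib.Helper1.MonT
open scoped commutatorElement

variable {G : Type*} [Group G] [Finite G] {z : G}
  (Q : Subgroup (Subgroup.centralizer ({z} : Set G))) [Q.Normal]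
  (hF : generalizedFittingSubgroup (Subgroup.centralizer ({z} : Set G)) = Q)
  (hz2 : orderOf z = 2) (hE : IsExtraspecial 2 Q)
  (t0 : Q)

/-- the centralizer of `t` in `Q` -/
def CQ : Subgroup Q := Subgroup.centralizer ({t0} : Set Q)

omit [Finite G] [Q.Normal] in
theorem mem_CQ_iff (x : Q) : x ∈ CQ Q t0 ↔ x * t0 = t0 * x := by
  unfold CQ
  rw [Subgroup.mem_centralizer_iff]
  constructor
  · intro h
    exact (h _ (Set.mem_singleton _)).symm
  · intro h y hy
    rw [Set.mem_singleton_iff.mp hy]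
    exact h.symm

omit [Finite G] [Q.Normal] in
theorem t0_mem_CQ : t0 ∈ CQ Q t0 := (mem_CQ_iff Q t0 t0).mpr rfl

theorem zq_mem_CQ : zq Q hF ∈ CQ Q t0 := (mem_CQ_iff Q t0 _).mpr (zq_comm Q hF t0).symm

omit [Finite G] [Q.Normal] in
theorem center_le_CQ : Subgroup.center Q ≤ CQ Q t0 := by
  intro x hx
  rw [mem_CQ_iff]
  exact ((Subgroup.mem_center_iff.mp hx) t0).symm

include hE in
theorem card_CQ (hcard : Nat.card Q = 2 ^ 25) (hnc : t0 ∉ Subgroup.center Q) :
    Nat.card (CQ Q t0) = 2 ^ 24 := by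
  obtain ⟨hcomm, _, hZ⟩ := Cfsg.Agent.Lib.Helper6.extraspecial_two_facts hE
  have hg : t0 ∉ Subgroup.centralizer (((⊤ : Subgroup Q) : Subgroup Q) : Set Q) := by
    intro h
    apply hnc
    rw [Subgroup.mem_center_iff]
    intro y
    exact (Subgroup.mem_centralizer_iff.mp h) y (Subgroup.mem_top y)
  have h1 := Cfsg.Agent.Lib.Helper6.two_mul_card_inf_centralizer hcomm hZ ⊤ t0 hg
  rw [top_inf_eq, Subgroup.card_top, hcard] at h1
  unfold CQ
  omega

include hE in
theorem card_cent_CQ (hcard : Nat.card Q = 2 ^ 25) (hnc : t0 ∉ Subgroup.center Q) :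
    Nat.card (Subgroup.centralizer ((CQ Q t0 : Subgroup Q) : Set Q)) = 4 := by
  obtain ⟨hcomm, _, hZ⟩ := Cfsg.Agent.Lib.Helper6.extraspecial_two_facts hE
  have h1 := Cfsg.Agent.Lib.Helper6.card_centralizer_mul_card hcomm hZ (CQ Q t0)
    (center_le_CQ Q t0)
  rw [card_CQ Q hE t0 hcard hnc, hcard] at h1
  omega

include hF hz2 hE in
/-- the centre of the centralizer of `t` in `Q` -/
theorem cent_CQ (hcard : Nat.card Q = 2 ^ 25) (hnc : t0 ∉ Subgroup.center Q) (x : Q)
    (hx : ∀ y ∈ CQ Q t0, x * y = y * x) :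
    x = 1 ∨ x = zq Q hF ∨ x = t0 ∨ x = zq Q hF * t0 := by
  set S : Subgroup Q := Subgroup.centralizer ((CQ Q t0 : Subgroup Q) : Set Q) with hS
  have hcS : Nat.card S = 4 := card_cent_CQ Q hE t0 hcard hnc
  have hZS : Subgroup.center Q ≤ S := by
    intro c hc
    rw [hS, Subgroup.mem_centralizer_iff]
    intro y _
    exact (Subgroup.mem_center_iff.mp hc) y
  have htS : t0 ∈ S := by
    rw [hS, Subgroup.mem_centralizer_iff]
    intro y hy
    exact ((mem_CQ_iff Q t0 y).mp hy)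
  have hxS : x ∈ S := by
    rw [hS, Subgroup.mem_centralizer_iff]
    intro y hy
    exact (hx y hy).symm
  have hcZ : Nat.card ((Subgroup.center Q).subgroupOf S) = 2 := by
    rw [Nat.card_congr (Subgroup.subgroupOfEquivOfLe hZS).toEquiv]
    exact hE.2
  have hidx : ((Subgroup.center Q).subgroupOf S).index = 2 := by
    have := Subgroup.card_mul_index ((Subgroup.center Q).subgroupOf S)
    rw [hcZ, hcS] at this
    omega
  obtain ⟨a, ha⟩ := Subgroup.index_eq_two_iff.mp hidx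
  have h1 := ha ⟨t0, htS⟩
  have h1' : (⟨t0, htS⟩ : S) * a ∈ (Subgroup.center Q).subgroupOf S := by
    rcases h1 with ⟨h, _⟩ | ⟨h, _⟩
    · exact h
    · exact absurd (Subgroup.mem_subgroupOf.mp h) hnc
  by_cases hxZ : x ∈ Subgroup.center Q
  · rcases (center_Q_iff Q hF hz2 hE x).mp hxZ with h | h
    · exact Or.inl h
    · exact Or.inr (Or.inl h)
  · have h2 := ha ⟨x, hxS⟩
    have h2' : (⟨x, hxS⟩ : S) * a ∈ (Subgroup.center Q).subgroupOf S := by
      rcases h2 with ⟨h, _⟩ | ⟨h, _⟩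
      · exact h
      · exact absurd (Subgroup.mem_subgroupOf.mp h) hxZ
    have h3 := Subgroup.mul_mem _ h2' (Subgroup.inv_mem _ h1')
    have h4 : x * t0⁻¹ ∈ Subgroup.center Q := by
      have := Subgroup.mem_subgroupOf.mp h3
      simp only [Subgroup.coe_mul, Subgroup.coe_inv, mul_inv_rev] at this
      have e1 : x * (a : Q) * ((a : Q)⁻¹ * t0⁻¹) = x * t0⁻¹ := by group
      rwa [e1] at this
    rcases (center_Q_iff Q hF hz2 hE _).mp h4 with h | h
    · right; right; left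
      calc x = x * t0⁻¹ * t0 := by group
        _ = t0 := by rw [h, one_mul]
    · right; right; right
      calc x = x * t0⁻¹ * t0 := by group
        _ = zq Q hF * t0 := by rw [h]

include hE in
theorem CQ_nonabelian (hcard : Nat.card Q = 2 ^ 25) (hnc : t0 ∉ Subgroup.center Q) :
    ∃ x ∈ CQ Q t0, ∃ y ∈ CQ Q t0, x * y ≠ y * x := by
  by_contra hcon
  push Not at hcon
  have hle : CQ Q t0 ≤ Subgroup.centralizer ((CQ Q t0 : Subgroup Q) : Set Q) := by
    intro x hx
    rw [Subgroup.mem_centralizer_iff]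
    intro y hy
    exact hcon y hy x hx
  have h1 := Subgroup.card_le_of_le hle
  rw [card_CQ Q hE t0 hcard hnc, card_cent_CQ Q hE t0 hcard hnc] at h1
  norm_num at h1

include hF hz2 hE in
/-- a quotient of the centralizer of `t` in `Q` by the subgroup generated by `t` is extraspecial
of order `2 ^ 23`, with centre generated by the image of `z` -/
theorem quotient_CQ (hcard : Nat.card Q = 2 ^ 25) (hnc : t0 ∉ Subgroup.center Q)
    (ht1 : t0 ≠ 1) {R' : Type*} [Group R'] (f : ↥(CQ Q t0) →* R') (hf : Function.Surjective f)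
    (hker : ∀ x, f x = 1 ↔ x = 1 ∨ (x : Q) = t0) :
    IsExtraspecial 2 R' ∧ Nat.card R' = 2 ^ 23 ∧
      ∀ r : R', r ∈ Subgroup.center R' ↔ r = 1 ∨ r = f ⟨zq Q hF, zq_mem_CQ Q hF t0⟩ := by
  set ζ : ↥(CQ Q t0) := ⟨zq Q hF, zq_mem_CQ Q hF t0⟩ with hζ
  set τ : ↥(CQ Q t0) := ⟨t0, t0_mem_CQ Q t0⟩ with hτ
  have hker' : ∀ x, f x = 1 ↔ x = 1 ∨ x = τ := by
    intro x
    rw [hker x]
    constructor
    · rintro (h | h)
      · exact Or.inl h
      · exact Or.inr (Subtype.ext h)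
    · rintro (h | h)
      · exact Or.inl h
      · exact Or.inr (congrArg Subtype.val h)
  have h2 : IsPGroup 2 ↥(CQ Q t0) := hE.1.1.to_subgroup _
  have hcomm : ∀ x y : ↥(CQ Q t0), ⁅x, y⁆ = 1 ∨ ⁅x, y⁆ = ζ := by
    intro x y
    have h := comm_mem_center hE (x : Q) (y : Q)
    rcases (center_Q_iff Q hF hz2 hE _).mp h with h1 | h1
    · left; exact Subtype.ext h1
    · right; exact Subtype.ext h1
  have hsq : ∀ x : ↥(CQ Q t0), x ^ 2 = 1 ∨ x ^ 2 = ζ := by
    intro x
    have h := sq_mem_center hE (x : Q)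
    rcases (center_Q_iff Q hF hz2 hE _).mp h with h1 | h1
    · left; exact Subtype.ext h1
    · right; exact Subtype.ext h1
  have hζτ : ζ ≠ τ := by
    intro h
    apply hnc
    have : zq Q hF = t0 := congrArg Subtype.val h
    rw [← this]
    exact zq_mem_center Q hF
  have hζ1 : ζ ≠ 1 := by
    intro h
    exact zq_ne_one Q hF hz2 (congrArg Subtype.val h)
  have hτ1 : τ ≠ 1 := by
    intro h
    exact ht1 (congrArg Subtype.val h)
  have hcen : ∀ x : ↥(CQ Q t0), (∀ y, x * y = y * x) → x = 1 ∨ x = ζ ∨ x = τ ∨ x = ζ * τ := by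
    intro x hx
    have := cent_CQ Q hF hz2 hE t0 hcard hnc (x : Q) (fun y hy =>
      congrArg Subtype.val (hx ⟨y, hy⟩))
    rcases this with h | h | h | h
    · exact Or.inl (Subtype.ext h)
    · exact Or.inr (Or.inl (Subtype.ext h))
    · exact Or.inr (Or.inr (Or.inl (Subtype.ext h)))
    · exact Or.inr (Or.inr (Or.inr (Subtype.ext h)))
  have hζc : ∀ y, ζ * y = y * ζ := by
    intro y
    apply Subtype.ext
    exact (zq_comm Q hF (y : Q)).symm
  have hna : ∃ x y : ↥(CQ Q t0), x * y ≠ y * x := by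
    obtain ⟨x, hx, y, hy, hxy⟩ := CQ_nonabelian Q hE t0 hcard hnc
    exact ⟨⟨x, hx⟩, ⟨y, hy⟩, fun h => hxy (congrArg Subtype.val h)⟩
  refine ⟨extraspecial_quotient f hf ζ τ hker' h2 hcomm hsq hζτ hζ1 hcen hζc hna, ?_,
    center_quotient f hf ζ τ hker' hcomm hζτ hcen hζc⟩
  have h3 := card_quotient_two f hf τ hτ1 hker'
  rw [card_CQ Q hE t0 hcard hnc] at h3
  omega

end Cfsg.Agent.Lib.Helper1.MonW
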