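import Mathlib
import Cfsg.Agent.Lib.Helper1.MonW4
import Cfsg.Agent.Lib.Helper1.MonW2

/-!
# Monster type: the centralizer of a non-central involution `t` of `Q`, modulo `t`
-/

set_option autoImplicit false
set_option linter.unusedSectionVars false

namespace Cfsg.Agent.Lib.Helper1.MonW

open Cfsg Cfsg.Agent.Lib.Helper1.MonQ Cfsg.Agent.Lib.Helper1.MonT
open scoped commutatorElement

section basic

variable {G : Type*} [Group G]

theorem mem_zpowers_of_sq {t : G} (ht2 : t * t = 1) (x : G) :
    x ∈ Subgroup.zpowers t ↔ x = 1 ∨ x = t := by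
  constructor
  · rintro ⟨k, rfl⟩
    have h2 : t ^ (2 : ℤ) = 1 := by rw [zpow_two, ht2]
    rcases Int.even_or_odd' k with ⟨m, rfl | rfl⟩
    · left
      show t ^ (2 * m) = 1
      rw [zpow_mul, h2, one_zpow]
    · right
      show t ^ (2 * m + 1) = t
      rw [zpow_add, zpow_mul, h2, one_zpow, one_mul, zpow_one]
  · rintro (rfl | rfl)
    · exact Subgroup.one_mem _
    · exact Subgroup.mem_zpowers _

/-- the elements centralizing both `z` and `t` -/
def A0 (z t : G) : Subgroup G :=
  Subgroup.centralizer ({z} : Set G) ⊓ Subgroup.centralizer ({t} : Set G)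

theorem mem_A0_iff (z t x : G) : x ∈ A0 z t ↔ x * z = z * x ∧ x * t = t * x := by
  unfold A0
  rw [Subgroup.mem_inf, Subgroup.mem_centralizer_iff, Subgroup.mem_centralizer_iff]
  constructor
  · rintro ⟨h1, h2⟩
    exact ⟨(h1 z (Set.mem_singleton z)).symm, (h2 t (Set.mem_singleton t)).symm⟩
  · rintro ⟨h1, h2⟩
    refine ⟨fun y hy => ?_, fun y hy => ?_⟩
    · rw [Set.mem_singleton_iff.mp hy]; exact h1.symm
    · rw [Set.mem_singleton_iff.mp hy]; exact h2.symm

/-- inclusion into the centralizer of `z` -/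
def toCz (z t : G) : A0 z t →* Subgroup.centralizer ({z} : Set G) := Subgroup.inclusion inf_le_left

/-- inclusion into the centralizer of `t` -/
def toCt (z t : G) : A0 z t →* Subgroup.centralizer ({t} : Set G) := Subgroup.inclusion inf_le_right

theorem toCz_coe (z t : G) (x : A0 z t) : ((toCz z t x : Subgroup.centralizer ({z} : Set G)) : G) = x :=
  rfl

theorem toCt_coe (z t : G) (x : A0 z t) : ((toCt z t x : Subgroup.centralizer ({t} : Set G)) : G) = x :=
  rfl

/-- the subgroup generated by `t`, in the centralizer of `t` -/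
abbrev Nt (t : G) : Subgroup (Subgroup.centralizer ({t} : Set G)) :=
  (Subgroup.zpowers t).subgroupOf (Subgroup.centralizer ({t} : Set G))

/-- the centralizer of `t` modulo `t` -/
abbrev HH (t : G) : Type _ := ↥(Subgroup.centralizer ({t} : Set G)) ⧸ Nt t

variable (z t : G) [hn : (Nt t).Normal]

/-- the map from the joint centralizer to the quotient -/
def pi0 : A0 z t →* HH t := (QuotientGroup.mk' (Nt t)).comp (toCt z t)

theorem pi0_eq_one_iff (x : A0 z t) : pi0 z t x = 1 ↔ (x : G) ∈ Subgroup.zpowers t := by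
  unfold pi0
  rw [MonoidHom.comp_apply, QuotientGroup.mk'_apply, QuotientGroup.eq_one_iff,
    Subgroup.mem_subgroupOf]
  rfl

/-- `z` in the joint centralizer -/
def zA (hzt : z * t = t * z) : A0 z t := ⟨z, (mem_A0_iff z t z).mpr ⟨rfl, hzt⟩⟩

/-- the image of `z` in the quotient -/
def zH (hzt : z * t = t * z) : HH t := pi0 z t (zA z t hzt)

/-- the map from the joint centralizer to the centralizer of the image of `z` -/
def rho (hzt : z * t = t * z) :
    A0 z t →* ↥(Subgroup.centralizer ({zH z t hzt} : Set (HH t))) :=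
  (pi0 z t).codRestrict _ (fun x => by
    rw [Subgroup.mem_centralizer_iff]
    intro y hy
    rw [Set.mem_singleton_iff.mp hy]
    show pi0 z t (zA z t hzt) * pi0 z t x = pi0 z t x * pi0 z t (zA z t hzt)
    rw [← map_mul, ← map_mul]
    congr 1
    apply Subtype.ext
    exact ((mem_A0_iff z t x).mp x.2).1.symm)

theorem rho_coe (hzt : z * t = t * z) (x : A0 z t) :
    ((rho z t hzt x : Subgroup.centralizer ({zH z t hzt} : Set (HH t))) : HH t) = pi0 z t x := rfl

theorem rho_eq_one_iff (hzt : z * t = t * z) (ht2 : t * t = 1) (x : A0 z t) :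
    rho z t hzt x = 1 ↔ (x : G) = 1 ∨ (x : G) = t := by
  rw [← mem_zpowers_of_sq ht2, ← pi0_eq_one_iff]
  constructor
  · intro h
    have := congrArg Subtype.val h
    exact this
  · intro h
    exact Subtype.ext h

theorem rho_surjective (hzt : z * t = t * z) (ht2 : t * t = 1)
    (hnc : ∀ y : G, y * t = t * y → y⁻¹ * z * y ≠ z * t) :
    Function.Surjective (rho z t hzt) := by
  rintro ⟨c, hc⟩
  obtain ⟨y, rfl⟩ := QuotientGroup.mk_surjective c
  have h1 := (Subgroup.mem_centralizer_iff.mp hc) _ (Set.mem_singleton _)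
  have h2 : zH z t hzt = QuotientGroup.mk (toCt z t (zA z t hzt)) := rfl
  rw [h2, ← QuotientGroup.mk_mul, ← QuotientGroup.mk_mul, QuotientGroup.eq,
    Subgroup.mem_subgroupOf] at h1
  have h3 : (z * (y : G))⁻¹ * ((y : G) * z) ∈ Subgroup.zpowers t := h1
  have hyt : (y : G) * t = t * (y : G) :=
    ((Subgroup.mem_centralizer_iff.mp y.2) t (Set.mem_singleton t)).symm
  rcases (mem_zpowers_of_sq ht2 _).mp h3 with h4 | h4
  · have h5 : (y : G) * z = z * (y : G) := by
      calc (y : G) * z = (z * (y : G)) * ((z * (y : G))⁻¹ * ((y : G) * z)) := by group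
        _ = z * (y : G) := by rw [h4, mul_one]
    refine ⟨⟨(y : G), (mem_A0_iff z t _).mpr ⟨h5, hyt⟩⟩, ?_⟩
    apply Subtype.ext
    rfl
  · exfalso
    have hyt' : (y : G)⁻¹ * t = t * (y : G)⁻¹ := by
      calc (y : G)⁻¹ * t = (y : G)⁻¹ * (t * (y : G)) * (y : G)⁻¹ := by group
        _ = (y : G)⁻¹ * ((y : G) * t) * (y : G)⁻¹ := by rw [hyt]
        _ = t * (y : G)⁻¹ := by group
    apply hnc ((y : G)⁻¹) hyt'
    rw [inv_inv]
    calc (y : G) * z * (y : G)⁻¹ = (z * (y : G)) * ((z * (y : G))⁻¹ * ((y : G) * z)) * (y : G)⁻¹ := by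
          group
      _ = z * ((y : G) * t) * (y : G)⁻¹ := by rw [h4]; group
      _ = z * t := by rw [hyt]; group

end basic

section withQ

variable {G : Type*} [Group G] [Finite G] {z : G}
  (Q : Subgroup (Subgroup.centralizer ({z} : Set G))) [Q.Normal]
  (t : G) [hn : (Nt t).Normal]
  (t0 : Q) (ht0 : ((t0 : Subgroup.centralizer ({z} : Set G)) : G) = t)

include ht0 in
omit [Finite G] [Q.Normal] hn in
theorem hzt_of : z * t = t * z := by
  rw [← ht0]
  exact (Subgroup.mem_centralizer_iff.mp (t0 : Subgroup.centralizer ({z} : Set G)).2) z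
    (Set.mem_singleton z)

/-- the map from the centralizer of `t` in `Q` to the joint centralizer -/
def jj : ↥(CQ Q t0) →* A0 z t where
  toFun x := ⟨(((x : Q) : Subgroup.centralizer ({z} : Set G)) : G), (mem_A0_iff z t _).mpr
    ⟨((Subgroup.mem_centralizer_iff.mp ((x : Q) : Subgroup.centralizer ({z} : Set G)).2) z
      (Set.mem_singleton z)).symm, by
      have h := (mem_CQ_iff Q t0 (x : Q)).mp x.2
      have h2 := congrArg (fun q : Q => ((q : Subgroup.centralizer ({z} : Set G)) : G)) h
      simp only [Subgroup.coe_mul] at h2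
      rw [ht0] at h2
      exact h2⟩⟩
  map_one' := rfl
  map_mul' _ _ := rfl

omit [Finite G] [Q.Normal] hn in
theorem jj_coe (x : ↥(CQ Q t0)) :
    ((jj Q t t0 ht0 x : A0 z t) : G) = (((x : Q) : Subgroup.centralizer ({z} : Set G)) : G) := rfl

omit [Finite G] [Q.Normal] hn in
theorem jj_injective : Function.Injective (jj Q t t0 ht0) := by
  intro a b h
  have h1 : (((a : Q) : Subgroup.centralizer ({z} : Set G)) : G) =
      (((b : Q) : Subgroup.centralizer ({z} : Set G)) : G) := congrArg (fun x : A0 z t => (x : G)) h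
  exact Subtype.ext (Subtype.ext (Subtype.ext h1))

omit [Finite G] [Q.Normal] hn in
/-- the elements of the joint centralizer lying in `Q` -/
theorem mem_range_jj (a : A0 z t) :
    a ∈ (jj Q t t0 ht0).range ↔ toCz z t a ∈ Q := by
  constructor
  · rintro ⟨x, rfl⟩
    exact (x : Q).2
  · intro h
    have hc : (⟨toCz z t a, h⟩ : Q) ∈ CQ Q t0 := by
      rw [mem_CQ_iff]
      apply Subtype.ext
      apply Subtype.ext
      show (a : G) * ((t0 : Subgroup.centralizer ({z} : Set G)) : G) =
        ((t0 : Subgroup.centralizer ({z} : Set G)) : G) * (a : G)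
      rw [ht0]
      exact ((mem_A0_iff z t a).mp a.2).2
    exact ⟨⟨⟨toCz z t a, h⟩, hc⟩, Subtype.ext rfl⟩

/-- conjugation of the centralizer of `t` in `Q` by the joint centralizer -/
def cj (a : A0 z t) (x : ↥(CQ Q t0)) : ↥(CQ Q t0) :=
  ⟨conjQ Q (toCz z t a) (x : Q), by
    rw [mem_CQ_iff]
    have hx := (mem_CQ_iff Q t0 (x : Q)).mp x.2
    have ha : toCz z t a * (t0 : Subgroup.centralizer ({z} : Set G)) =
        (t0 : Subgroup.centralizer ({z} : Set G)) * toCz z t a := by
      apply Subtype.ext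
      show (a : G) * ((t0 : Subgroup.centralizer ({z} : Set G)) : G) =
        ((t0 : Subgroup.centralizer ({z} : Set G)) : G) * (a : G)
      rw [ht0]
      exact ((mem_A0_iff z t a).mp a.2).2
    have hx' : ((x : Q) : Subgroup.centralizer ({z} : Set G)) *
        (t0 : Subgroup.centralizer ({z} : Set G)) =
        (t0 : Subgroup.centralizer ({z} : Set G)) * ((x : Q) : Subgroup.centralizer ({z} : Set G)) :=
      congrArg (fun q : Q => (q : Subgroup.centralizer ({z} : Set G))) hx
    have ha' : (toCz z t a)⁻¹ * (t0 : Subgroup.centralizer ({z} : Set G)) =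
        (t0 : Subgroup.centralizer ({z} : Set G)) * (toCz z t a)⁻¹ := by
      calc (toCz z t a)⁻¹ * (t0 : Subgroup.centralizer ({z} : Set G))
          = (toCz z t a)⁻¹ * ((t0 : Subgroup.centralizer ({z} : Set G)) * toCz z t a) *
            (toCz z t a)⁻¹ := by group
        _ = (toCz z t a)⁻¹ * (toCz z t a * (t0 : Subgroup.centralizer ({z} : Set G))) *
            (toCz z t a)⁻¹ := by rw [ha]
        _ = (t0 : Subgroup.centralizer ({z} : Set G)) * (toCz z t a)⁻¹ := by group
    apply Subtype.ext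
    rw [Subgroup.coe_mul, Subgroup.coe_mul, conjQ_coe]
    calc toCz z t a * ((x : Q) : Subgroup.centralizer ({z} : Set G)) * (toCz z t a)⁻¹ *
          (t0 : Subgroup.centralizer ({z} : Set G))
        = toCz z t a * ((x : Q) : Subgroup.centralizer ({z} : Set G)) *
          ((toCz z t a)⁻¹ * (t0 : Subgroup.centralizer ({z} : Set G))) := by group
      _ = toCz z t a * (((x : Q) : Subgroup.centralizer ({z} : Set G)) *
          (t0 : Subgroup.centralizer ({z} : Set G))) * (toCz z t a)⁻¹ := by rw [ha']; group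
      _ = (toCz z t a * (t0 : Subgroup.centralizer ({z} : Set G))) *
          ((x : Q) : Subgroup.centralizer ({z} : Set G)) * (toCz z t a)⁻¹ := by rw [hx']; group
      _ = (t0 : Subgroup.centralizer ({z} : Set G)) * (toCz z t a *
          ((x : Q) : Subgroup.centralizer ({z} : Set G)) * (toCz z t a)⁻¹) := by rw [ha]; group⟩

omit [Finite G] hn in
theorem cj_coe (a : A0 z t) (x : ↥(CQ Q t0)) :
    ((cj Q t t0 ht0 a x : ↥(CQ Q t0)) : Q) = conjQ Q (toCz z t a) (x : Q) := rfl

omit [Finite G] hn in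
theorem jj_cj (a : A0 z t) (x : ↥(CQ Q t0)) :
    jj Q t t0 ht0 (cj Q t t0 ht0 a x) = a * jj Q t t0 ht0 x * a⁻¹ := by
  apply Subtype.ext
  rfl

/-- the image of the centralizer of `t` in `Q` -/
def RR : Subgroup ↥(Subgroup.centralizer ({zH z t (hzt_of Q t t0 ht0)} : Set (HH t))) :=
  ((rho z t (hzt_of Q t t0 ht0)).comp (jj Q t t0 ht0)).range

/-- the map from the centralizer of `t` in `Q` onto its image -/
def rhoR : ↥(CQ Q t0) →* ↥(RR Q t t0 ht0) :=
  ((rho z t (hzt_of Q t t0 ht0)).comp (jj Q t t0 ht0)).rangeRestrict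

omit [Finite G] in
theorem rhoR_coe (x : ↥(CQ Q t0)) :
    ((rhoR Q t t0 ht0 x : ↥(RR Q t t0 ht0)) :
      ↥(Subgroup.centralizer ({zH z t (hzt_of Q t t0 ht0)} : Set (HH t)))) =
      rho z t (hzt_of Q t t0 ht0) (jj Q t t0 ht0 x) := rfl

omit [Finite G] in
theorem rhoR_surjective : Function.Surjective (rhoR Q t t0 ht0) :=
  MonoidHom.rangeRestrict_surjective _

omit [Finite G] in
theorem rhoR_eq_one_iff (ht2 : t * t = 1) (x : ↥(CQ Q t0)) :
    rhoR Q t t0 ht0 x = 1 ↔ x = 1 ∨ (x : Q) = t0 := by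
  have h1 : rhoR Q t t0 ht0 x = 1 ↔ rho z t (hzt_of Q t t0 ht0) (jj Q t t0 ht0 x) = 1 := by
    constructor
    · intro h
      have := congrArg Subtype.val h
      exact this
    · intro h
      exact Subtype.ext h
  rw [h1, rho_eq_one_iff z t _ ht2, jj_coe]
  constructor
  · rintro (h | h)
    · left
      exact Subtype.ext (Subtype.ext (Subtype.ext h))
    · right
      rw [← ht0] at h
      exact Subtype.ext (Subtype.ext h)
  · rintro (h | h)
    · left
      rw [h]; rfl
    · right
      rw [h, ht0]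

omit [Finite G] in
theorem mem_RR_iff (d : ↥(Subgroup.centralizer ({zH z t (hzt_of Q t t0 ht0)} : Set (HH t)))) :
    d ∈ RR Q t t0 ht0 ↔ ∃ x : ↥(CQ Q t0), rho z t (hzt_of Q t t0 ht0) (jj Q t t0 ht0 x) = d :=
  Iff.rfl

end withQ

end Cfsg.Agent.Lib.Helper1.MonW
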