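import Mathlib
import Cfsg.Agent.Lib.Helper1.MonW5

/-!
# Monster type: the centralizer of the image of `z` in `C_G(t)/⟨t⟩` and the second Conway group
-/

set_option autoImplicit false
set_option linter.unusedSectionVars false

namespace Cfsg.Agent.Lib.Helper1.MonW

open Cfsg Cfsg.Agent.Lib.Helper1.MonQ Cfsg.Agent.Lib.Helper1.MonT
open scoped commutatorElement

variable {G : Type*} [Group G] [Finite G] {z : G}
  (Q : Subgroup (Subgroup.centralizer ({z} : Set G))) [Q.Normal]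
  (e : (Subgroup.centralizer ({z} : Set G)) ⧸ Q ≃* Spor.Co1)
  (ψ : leechLattice → Q ⧸ Subgroup.center Q)
  (hψ : IsLeechModTwoIso Q e ψ)
  (hF : generalizedFittingSubgroup (Subgroup.centralizer ({z} : Set G)) = Q)
  (hz2 : orderOf z = 2) (hE : IsExtraspecial 2 Q)
  (t : G) [hn : (Nt t).Normal]
  (t0 : Q) (ht0 : ((t0 : Subgroup.centralizer ({z} : Set G)) : G) = t)
  (hstd : ψ Spor.leechU = QuotientGroup.mk t0)

theorem RR_normal (hsurj : Function.Surjective (rho z t (hzt_of Q t t0 ht0))) :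
    (RR Q t t0 ht0).Normal := by
  constructor
  intro r hr d
  obtain ⟨x, rfl⟩ := (mem_RR_iff Q t t0 ht0 r).mp hr
  obtain ⟨a, rfl⟩ := hsurj d
  refine (mem_RR_iff Q t t0 ht0 _).mpr ⟨cj Q t t0 ht0 a x, ?_⟩
  rw [jj_cj, map_mul, map_mul, map_inv]

include hz2 in
theorem orderOf_zH (hzt : z * t = t * z) (ht2 : t * t = 1) (hzt' : z ≠ t) :
    orderOf (zH z t hzt) = 2 := by
  have : Fact (Nat.Prime 2) := ⟨Nat.prime_two⟩
  apply orderOf_eq_prime
  · unfold zH
    rw [← map_pow]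
    have : zA z t hzt ^ 2 = 1 := by
      apply Subtype.ext
      show z ^ 2 = 1
      rw [← hz2]
      exact pow_orderOf_eq_one z
    rw [this, map_one]
  · intro h
    rcases (mem_zpowers_of_sq ht2 _).mp ((pi0_eq_one_iff z t _).mp h) with h1 | h1
    · exact z_ne_one hz2 h1
    · exact hzt' h1

include hF hz2 hE ht0 in
/-- `z t` is not conjugate to `z` -/
theorem not_conj_zt (hnc : t0 ∉ Subgroup.center Q) (ht : ¬ IsConj z t) :
    ∀ y : G, y * t = t * y → y⁻¹ * z * y ≠ z * t := by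
  intro y _ hy
  apply ht
  obtain ⟨q, hq⟩ := noncentral_swap Q hF hz2 hE t0 hnc
  have h1 := congrArg (fun x : Q => ((x : Subgroup.centralizer ({z} : Set G)) : G)) hq
  simp only [Subgroup.coe_mul, Subgroup.coe_inv] at h1
  rw [ht0] at h1
  have h2 : ((zq Q hF : Q) : Subgroup.centralizer ({z} : Set G)) = zc z := rfl
  have h3 : ((zc z : Subgroup.centralizer ({z} : Set G)) : G) = z := rfl
  rw [h2, h3] at h1
  rw [isConj_iff]
  set q' : G := ((q : Subgroup.centralizer ({z} : Set G)) : G) with hq'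
  have hzt : z * t = t * z := hzt_of Q t t0 ht0
  refine ⟨q'⁻¹ * y⁻¹, ?_⟩
  calc q'⁻¹ * y⁻¹ * z * (q'⁻¹ * y⁻¹)⁻¹ = q'⁻¹ * (y⁻¹ * z * y) * q' := by group
    _ = q'⁻¹ * (t * z) * q' := by rw [hy, hzt]
    _ = q'⁻¹ * (q' * t * q'⁻¹) * q' := by rw [h1]
    _ = t := by group

/-- the joint centralizer inside the centralizer of `t` in `C` -/
def toCT : A0 z t →* ↥(CT Q t0) :=
  (toCz z t).codRestrict (CT Q t0) (fun a => (mem_CT_iff Q t0 _).mpr (by
    apply Subtype.ext
    show (a : G) * ((t0 : Subgroup.centralizer ({z} : Set G)) : G) =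
      ((t0 : Subgroup.centralizer ({z} : Set G)) : G) * (a : G)
    rw [ht0]
    exact ((mem_A0_iff z t a).mp a.2).2))

theorem toCT_coe (a : A0 z t) :
    ((toCT Q t t0 ht0 a : ↥(CT Q t0)) : Subgroup.centralizer ({z} : Set G)) = toCz z t a := rfl

theorem toCT_surjective : Function.Surjective (toCT Q t t0 ht0) := by
  intro x
  have hx := (mem_CT_iff Q t0 x.1).mp x.2
  have h1 : ((x : Subgroup.centralizer ({z} : Set G)) : G) ∈ A0 z t := by
    rw [mem_A0_iff]
    refine ⟨((Subgroup.mem_centralizer_iff.mp (x : Subgroup.centralizer ({z} : Set G)).2) z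
      (Set.mem_singleton z)).symm, ?_⟩
    have := congrArg (fun c : Subgroup.centralizer ({z} : Set G) => (c : G)) hx
    simp only [Subgroup.coe_mul] at this
    rw [ht0] at this
    exact this
  exact ⟨⟨_, h1⟩, Subtype.ext (Subtype.ext rfl)⟩

/-- the homomorphism from the joint centralizer to the second Conway group -/
noncomputable def thetaA : A0 z t →* ↥Spor.Co2 :=
  (theta Q e ψ hψ t0 hstd).comp (toCT Q t t0 ht0)

theorem thetaA_mk (a : A0 z t) :
    (QuotientGroup.mk (co2Incl (thetaA Q e ψ hψ t t0 ht0 hstd a)) : Spor.Co1) =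
      e (QuotientGroup.mk (toCz z t a)) :=
  theta_mk Q e ψ hψ t0 hstd (toCT Q t t0 ht0 a)

theorem thetaA_eq_one_iff (a : A0 z t) :
    thetaA Q e ψ hψ t t0 ht0 hstd a = 1 ↔ a ∈ (jj Q t t0 ht0).range :=
  (theta_eq_one_iff Q e ψ hψ t0 hstd (toCT Q t t0 ht0 a)).trans (mem_range_jj Q t t0 ht0 a).symm

include hF hz2 hE in
theorem thetaA_surjective : Function.Surjective (thetaA Q e ψ hψ t t0 ht0 hstd) :=
  (theta_surjective Q e ψ hψ hF hz2 hE t0 hstd).comp (toCT_surjective Q t t0 ht0)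

theorem ker_rho_le (ht2 : t * t = 1) :
    (rho z t (hzt_of Q t t0 ht0)).ker ≤ (thetaA Q e ψ hψ t t0 ht0 hstd).ker := by
  intro a ha
  rw [MonoidHom.mem_ker] at ha ⊢
  rw [thetaA_eq_one_iff, mem_range_jj]
  rcases (rho_eq_one_iff z t _ ht2 a).mp ha with h | h
  · have : toCz z t a = 1 := Subtype.ext h
    rw [this]
    exact Q.one_mem
  · have : toCz z t a = (t0 : Subgroup.centralizer ({z} : Set G)) := by
      apply Subtype.ext
      rw [ht0]
      exact h
    rw [this]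
    exact t0.2

/-- the homomorphism from the centralizer of the image of `z` to the second Conway group -/
noncomputable def thetaD (hsurj : Function.Surjective (rho z t (hzt_of Q t t0 ht0)))
    (ht2 : t * t = 1) :
    ↥(Subgroup.centralizer ({zH z t (hzt_of Q t t0 ht0)} : Set (HH t))) →* ↥Spor.Co2 :=
  (rho z t (hzt_of Q t t0 ht0)).liftOfSurjective hsurj
    ⟨thetaA Q e ψ hψ t t0 ht0 hstd, ker_rho_le Q e ψ hψ t t0 ht0 hstd ht2⟩

theorem thetaD_rho (hsurj : Function.Surjective (rho z t (hzt_of Q t t0 ht0)))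
    (ht2 : t * t = 1) (a : A0 z t) :
    thetaD Q e ψ hψ t t0 ht0 hstd hsurj ht2 (rho z t (hzt_of Q t t0 ht0) a) =
      thetaA Q e ψ hψ t t0 ht0 hstd a :=
  MonoidHom.liftOfRightInverse_comp_apply _ _ _ _ a

include hF hz2 hE in
theorem thetaD_surjective (hsurj : Function.Surjective (rho z t (hzt_of Q t t0 ht0)))
    (ht2 : t * t = 1) : Function.Surjective (thetaD Q e ψ hψ t t0 ht0 hstd hsurj ht2) := by
  intro k
  obtain ⟨a, ha⟩ := thetaA_surjective Q e ψ hψ hF hz2 hE t t0 ht0 hstd k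
  exact ⟨rho z t _ a, by rw [thetaD_rho, ha]⟩

theorem thetaD_ker (hsurj : Function.Surjective (rho z t (hzt_of Q t t0 ht0)))
    (ht2 : t * t = 1) : (thetaD Q e ψ hψ t t0 ht0 hstd hsurj ht2).ker = RR Q t t0 ht0 := by
  ext d
  obtain ⟨a, rfl⟩ := hsurj d
  rw [MonoidHom.mem_ker, thetaD_rho, thetaA_eq_one_iff, mem_RR_iff]
  constructor
  · rintro ⟨x, rfl⟩
    exact ⟨x, rfl⟩
  · rintro ⟨x, hx⟩
    have h1 : rho z t (hzt_of Q t t0 ht0) ((jj Q t t0 ht0 x)⁻¹ * a) = 1 := by
      rw [map_mul, map_inv, hx, inv_mul_cancel]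
    have h2 := ker_rho_le Q e ψ hψ t t0 ht0 hstd ht2 (MonoidHom.mem_ker.mpr h1)
    rw [MonoidHom.mem_ker, thetaA_eq_one_iff] at h2
    have h3 : a = jj Q t t0 ht0 x * ((jj Q t t0 ht0 x)⁻¹ * a) := by group
    rw [h3]
    exact Subgroup.mul_mem _ ⟨x, rfl⟩ h2

section quot

variable [hRn : (RR Q t t0 ht0).Normal]

/-- the centralizer of the image of `z` modulo the image of `C_Q(t)` is the second Conway
group -/
noncomputable def eD (hsurj : Function.Surjective (rho z t (hzt_of Q t t0 ht0)))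
    (ht2 : t * t = 1)
    (hsurj' : Function.Surjective (thetaD Q e ψ hψ t t0 ht0 hstd hsurj ht2)) :
    ↥(Subgroup.centralizer ({zH z t (hzt_of Q t t0 ht0)} : Set (HH t))) ⧸ RR Q t t0 ht0 ≃*
      ↥Spor.Co2 :=
  (QuotientGroup.quotientMulEquivOfEq (thetaD_ker Q e ψ hψ t t0 ht0 hstd hsurj ht2).symm).trans
    (QuotientGroup.quotientKerEquivOfSurjective _ hsurj')

theorem eD_mk (hsurj : Function.Surjective (rho z t (hzt_of Q t t0 ht0)))
    (ht2 : t * t = 1)
    (hsurj' : Function.Surjective (thetaD Q e ψ hψ t t0 ht0 hstd hsurj ht2))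
    (d : ↥(Subgroup.centralizer ({zH z t (hzt_of Q t t0 ht0)} : Set (HH t)))) :
    eD Q e ψ hψ t t0 ht0 hstd hsurj ht2 hsurj' (QuotientGroup.mk d) =
      thetaD Q e ψ hψ t t0 ht0 hstd hsurj ht2 d := rfl

end quot

end Cfsg.Agent.Lib.Helper1.MonW
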