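import Mathlib
import Cfsg.Agent.Lib.Helper1.MonW6
import Cfsg.Agent.Lib.Helper1.MonV1
import Cfsg.Agent.S0364

/-!
# Monster type: the generalized Fitting subgroup of the centralizer of the image of `z`
-/

set_option autoImplicit false
set_option linter.unusedSectionVars false

namespace Cfsg.Agent.Lib.Helper1.MonW

open Cfsg Cfsg.Agent.Lib.Helper1.MonQ Cfsg.Agent.Lib.Helper1.MonT Cfsg.Agent.Lib.Helper1.MonV
  Cfsg.Agent.Lib.Helper1.LeechMono
open scoped commutatorElement

/-! ### a permutation automorphism fixing the short vector and moving a vector orthogonal to it -/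

/-- a non-trivial element of `M24` fixing the two points of the support of the short vector -/
theorem exists_sigma : ∃ σ : M24, σ.1 none = none ∧ σ.1 (some 0) = some 0 ∧ σ ≠ 1 := by
  set S := MulAction.stabilizer ↥M24 ((none : GolayPt), (some 0 : GolayPt)) with hS
  have h1 := Subgroup.card_mul_index S
  rw [MulAction.index_stabilizer, Cfsg.Agent.S0364.result] at h1
  have h2 : (MulAction.orbit ↥M24 ((none : GolayPt), (some 0 : GolayPt))).ncard ≤ 576 := by
    have := Set.ncard_le_card (MulAction.orbit ↥M24 ((none : GolayPt), (some 0 : GolayPt)))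
    have h3 : Nat.card (GolayPt × GolayPt) = 576 := by
      rw [Nat.card_prod, Nat.card_eq_fintype_card, Fintype.card_option, ZMod.card]
    rwa [h3] at this
  have h4 : 1 < Nat.card S := by
    by_contra hcon
    push Not at hcon
    have h5 : Nat.card S * (MulAction.orbit ↥M24 ((none : GolayPt), (some 0 : GolayPt))).ncard ≤
        1 * 576 := Nat.mul_le_mul hcon h2
    omega
  have hfin : Finite S := Nat.finite_of_card_ne_zero (by omega)
  have hnt : Nontrivial S := Finite.one_lt_card_iff_nontrivial.mp h4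
  obtain ⟨σ, hσ⟩ := exists_ne (1 : S)
  have hfix : σ.1 • ((none : GolayPt), (some 0 : GolayPt)) = (none, some 0) := σ.2
  rw [Prod.smul_mk] at hfix
  refine ⟨σ.1, congrArg Prod.fst hfix, congrArg Prod.snd hfix, fun h => hσ (Subtype.ext h)⟩

/-- the vectors `(4, 4, 0^22)` with one entry at the extra point -/
def ff (c : GolayPt) : GolayPt → ℤ := fun p => if p = none ∨ p = c then 4 else 0

theorem ff_sum : ∀ c : GolayPt, c ≠ none → ∑ i, ff c i = 8 := by decide

theorem ff_mem (c : GolayPt) (hc : c ≠ none) : ff c ∈ leechLattice := by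
  apply AddSubgroup.subset_closure
  apply Spor.mem_leechSet_of_const_mod_four (ff c) 0 0 (by decide)
  · intro i
    unfold ff
    split_ifs <;> decide
  · rw [ff_sum c hc]
    decide

/-- the vectors `(4, 4, 0^22)` with one entry at the extra point, in the lattice -/
def FF (c : GolayPt) (hc : c ≠ none) : leechLattice := ⟨ff c, ff_mem c hc⟩

theorem ff_dot : ∀ c : GolayPt, c ≠ none → c ≠ some 0 → dotInt (ff c) Spor.vecU = 16 := by decide

theorem ff_norm1 : ∀ c c' : GolayPt, c ≠ none → c' ≠ none → c ≠ c' →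
    sqNorm (ff c' - ff c) = 32 := by decide

theorem ff_norm2 : ∀ c c' : GolayPt, c ≠ none → c' ≠ none → c ≠ some 0 → c' ≠ some 0 → c ≠ c' →
    sqNorm (ff c' - ff c - Spor.vecU) = 64 := by decide

theorem mu_ff (σ : M24) (hσ : σ.1 none = none) (c : GolayPt) (hc : c ≠ none)
    (hc' : σ.1 c ≠ none) : mu σ • FF c hc = FF (σ.1 c) hc' := by
  apply Subtype.ext
  funext p
  rw [mu_apply, mono_emp_apply]
  show ff c (σ.1.symm p) = ff (σ.1 c) p
  unfold ff
  have h1 : σ.1.symm p = none ↔ p = none := by
    rw [Equiv.symm_apply_eq, hσ]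
  have h2 : σ.1.symm p = c ↔ p = σ.1 c := by
    rw [Equiv.symm_apply_eq]
  simp only [h1, h2]

theorem leechU_eq : Spor.leechU = FF (some 0) (by decide) := rfl

/-- the witness: an automorphism in the second Conway group and a vector orthogonal to the short
vector whose image differs from it by a vector that is neither twice a lattice vector nor
congruent to the short vector -/
theorem exists_witness : ∃ (k : ↥Spor.Co2) (x : leechLattice),
    (16 : ℤ) ∣ dotInt (x : GolayPt → ℤ) Spor.vecU ∧
    sqNorm ((co2Incl k • x - x : leechLattice) : GolayPt → ℤ) = 32 ∧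
    sqNorm ((co2Incl k • x - x - Spor.leechU : leechLattice) : GolayPt → ℤ) = 64 := by
  obtain ⟨σ, hσ1, hσ2, hσ3⟩ := exists_sigma
  have h1 : ∃ c : GolayPt, σ.1 c ≠ c := by
    by_contra hcon
    push Not at hcon
    apply hσ3
    apply Subtype.ext
    exact Equiv.ext hcon
  obtain ⟨c, hc⟩ := h1
  have hcn : c ≠ none := by
    intro h
    rw [h] at hc
    exact hc hσ1
  have hc0 : c ≠ some 0 := by
    intro h
    rw [h] at hc
    exact hc hσ2
  have hcn' : σ.1 c ≠ none := by
    intro h
    apply hcn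
    apply σ.1.injective
    rw [h, hσ1]
  have hc0' : σ.1 c ≠ some 0 := by
    intro h
    apply hc0
    apply σ.1.injective
    rw [h, hσ2]
  have hfix : mu σ • Spor.leechU = Spor.leechU := by
    rw [leechU_eq, mu_ff σ hσ1 (some 0) (by decide) (by rw [hσ2]; decide)]
    apply Subtype.ext
    show ff (σ.1 (some 0)) = ff (some 0)
    rw [hσ2]
  let k : ↥Spor.Co2 := ⟨(mu σ : Equiv.Perm leechLattice), (mem_Co2_iff _).mpr ⟨(mu σ).2, hfix⟩⟩
  have hk : co2Incl k = mu σ := rfl
  refine ⟨k, FF c hcn, ?_, ?_, ?_⟩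
  · show (16 : ℤ) ∣ dotInt (ff c) Spor.vecU
    rw [ff_dot c hcn hc0]
  · rw [hk, mu_ff σ hσ1 c hcn hcn']
    show sqNorm (ff (σ.1 c) - ff c) = 32
    exact ff_norm1 c (σ.1 c) hcn hcn' (fun h => hc h.symm)
  · rw [hk, mu_ff σ hσ1 c hcn hcn']
    show sqNorm (ff (σ.1 c) - ff c - Spor.vecU) = 64
    exact ff_norm2 c (σ.1 c) hcn hcn' hc0 hc0' (fun h => hc h.symm)

end Cfsg.Agent.Lib.Helper1.MonW
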