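import Mathlib
import Cfsg.Agent.Lib.Helper1.MonW7

/-!
# Monster type: the generalized Fitting subgroup of the centralizer of the image of `z` (2)
-/

set_option autoImplicit false
set_option linter.unusedSectionVars false

namespace Cfsg.Agent.Lib.Helper1.MonW

open Cfsg Cfsg.Agent.Lib.Helper1.MonQ Cfsg.Agent.Lib.Helper1.MonT Cfsg.Agent.Lib.Helper1.MonV
open scoped commutatorElement

theorem not_isPGroup_Co2 : ¬ IsPGroup 2 ↥Spor.Co2 := by
  intro h
  have : Fact (Nat.Prime 2) := ⟨Nat.prime_two⟩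
  have hfin : Finite ↥Spor.Co2 := Nat.finite_of_card_ne_zero (by rw [card_Co2]; norm_num)
  obtain ⟨n, hn⟩ := IsPGroup.iff_card.mp h
  rw [card_Co2] at hn
  have h3 : 3 ∣ 2 ^ n := by rw [← hn]; norm_num
  have := Nat.Prime.dvd_of_dvd_pow Nat.prime_three h3
  norm_num at this

variable {G : Type*} [Group G] [Finite G] {z : G}
  (Q : Subgroup (Subgroup.centralizer ({z} : Set G))) [Q.Normal]
  (e : (Subgroup.centralizer ({z} : Set G)) ⧸ Q ≃* Spor.Co1)
  (ψ : leechLattice → Q ⧸ Subgroup.center Q)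
  (hψ : IsLeechModTwoIso Q e ψ)
  (hF : generalizedFittingSubgroup (Subgroup.centralizer ({z} : Set G)) = Q)
  (hz2 : orderOf z = 2) (hE : IsExtraspecial 2 Q)
  (t : G) [hn : (Nt t).Normal]
  (t0 : Q) (ht0 : ((t0 : Subgroup.centralizer ({z} : Set G)) : G) = t)
  (hstd : ψ Spor.leechU = QuotientGroup.mk t0)

include hψ hstd hF hz2 hE in
/-- the image of `C_Q(t)` contains its centralizer -/
theorem cent_RR_le (hsurj : Function.Surjective (rho z t (hzt_of Q t t0 ht0)))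
    (ht2 : t * t = 1) :
    Subgroup.centralizer (RR Q t t0 ht0 :
      Set ↥(Subgroup.centralizer ({zH z t (hzt_of Q t t0 ht0)} : Set (HH t)))) ≤ RR Q t t0 ht0 := by
  have hRn : (RR Q t t0 ht0).Normal := RR_normal Q t t0 ht0 hsurj
  have hsurj' := thetaD_surjective Q e ψ hψ hF hz2 hE t t0 ht0 hstd hsurj ht2
  have hNn : (Subgroup.centralizer (RR Q t t0 ht0 :
      Set ↥(Subgroup.centralizer ({zH z t (hzt_of Q t t0 ht0)} : Set (HH t))))).Normal :=
    inferInstance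
  have hmn := hNn.map (thetaD Q e ψ hψ t t0 ht0 hstd hsurj ht2) hsurj'
  have hsimp := isSimpleGroup_Co2
  rcases hmn.eq_bot_or_eq_top with h | h
  · intro d hd
    rw [← thetaD_ker Q e ψ hψ t t0 ht0 hstd hsurj ht2]
    exact (Subgroup.map_eq_bot_iff _).mp h hd
  · exfalso
    obtain ⟨k, x, hx16, hn32, hn64⟩ := exists_witness
    have hk : k ∈ (Subgroup.centralizer (RR Q t t0 ht0 :
      Set ↥(Subgroup.centralizer ({zH z t (hzt_of Q t t0 ht0)} : Set (HH t))))).map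
        (thetaD Q e ψ hψ t t0 ht0 hstd hsurj ht2) := by rw [h]; exact Subgroup.mem_top k
    obtain ⟨d, hd, hdk⟩ := hk
    obtain ⟨a, rfl⟩ := hsurj d
    rw [thetaD_rho] at hdk
    obtain ⟨q, hq⟩ := QuotientGroup.mk_surjective (ψ x)
    have hqC : q ∈ CQ Q t0 := by
      rw [mem_CQ_iff]
      exact (comm_iff Q e ψ hψ hE q t0 x Spor.leechU hq.symm hstd).mpr hx16
    set q' : ↥(CQ Q t0) := ⟨q, hqC⟩ with hq'
    have hcomm := (Subgroup.mem_centralizer_iff.mp hd)
      (rho z t (hzt_of Q t t0 ht0) (jj Q t t0 ht0 q')) ⟨q', rfl⟩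
    have h1 : rho z t (hzt_of Q t t0 ht0)
        (jj Q t t0 ht0 (cj Q t t0 ht0 a q') * (jj Q t t0 ht0 q')⁻¹) = 1 := by
      rw [jj_cj, map_mul, map_mul, map_mul, map_inv, map_inv, ← hcomm]
      group
    set c : Q := conjQ Q (toCz z t a) q with hc
    have hk' : (QuotientGroup.mk (co2Incl k) : Spor.Co1) = e (QuotientGroup.mk (toCz z t a)) := by
      rw [← hdk]
      exact thetaA_mk Q e ψ hψ t t0 ht0 hstd a
    have h3 : ψ (co2Incl k • x) = QuotientGroup.mk c :=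
      equiv' Q e ψ hψ (toCz z t a) (co2Incl k) hk' x q hq.symm
    have h4 : ψ (co2Incl k • x - x) = QuotientGroup.mk (c * q⁻¹) := by
      rw [psi_sub ψ hψ.1 hψ.2.2.1, h3, ← hq]
      rfl
    have h5 : ((c * q⁻¹ : Q) : Subgroup.centralizer ({z} : Set G)) =
        toCz z t (jj Q t t0 ht0 (cj Q t t0 ht0 a q') * (jj Q t t0 ht0 q')⁻¹) := by
      apply Subtype.ext
      rfl
    rcases (rho_eq_one_iff z t _ ht2 _).mp h1 with h2 | h2
    · have h6 : c * q⁻¹ = 1 := by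
        apply Subtype.ext
        apply Subtype.ext
        rw [h5]
        exact h2
      rw [h6, QuotientGroup.mk_one] at h4
      exact psi_ne_one Q e ψ hψ _ (Or.inl hn32) h4
    · have h6 : c * q⁻¹ = t0 := by
        apply Subtype.ext
        apply Subtype.ext
        rw [h5, ht0]
        exact h2
      rw [h6, ← hstd] at h4
      have h7 : ψ (co2Incl k • x - x - Spor.leechU) = 1 := by
        rw [psi_sub ψ hψ.1 hψ.2.2.1, h4, mul_inv_cancel]
      exact psi_ne_one Q e ψ hψ _ (Or.inr hn64) h7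

include hF hz2 hE hψ hstd in
/-- the structure of the image of `C_Q(t)` -/
theorem RR_struct (hcard : Nat.card Q = 2 ^ 25) (ht2 : t * t = 1) (ht1 : t ≠ 1) :
    IsExtraspecial 2 ↥(RR Q t t0 ht0) ∧ Nat.card ↥(RR Q t t0 ht0) = 2 ^ 23 ∧
      ∀ r : ↥(RR Q t t0 ht0), r ∈ Subgroup.center ↥(RR Q t t0 ht0) ↔
        r = 1 ∨ r = rhoR Q t t0 ht0 ⟨zq Q hF, zq_mem_CQ Q hF t0⟩ := by
  have hnc := t0_not_center Q e ψ hψ t0 hstd
  have ht01 : t0 ≠ 1 := by
    intro h
    apply ht1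
    rw [← ht0, h]
    rfl
  exact quotient_CQ Q hF hz2 hE t0 hcard hnc ht01 (rhoR Q t t0 ht0) (rhoR_surjective Q t t0 ht0)
    (rhoR_eq_one_iff Q t t0 ht0 ht2)

include hψ hstd hF hz2 hE in
/-- the generalized Fitting subgroup of the centralizer of the image of `z` -/
theorem fstar_D (hcard : Nat.card Q = 2 ^ 25)
    (hsurj : Function.Surjective (rho z t (hzt_of Q t t0 ht0)))
    (ht2 : t * t = 1) (ht1 : t ≠ 1) :
    generalizedFittingSubgroup ↥(Subgroup.centralizer ({zH z t (hzt_of Q t t0 ht0)} : Set (HH t))) =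
      RR Q t t0 ht0 := by
  have hRn : (RR Q t t0 ht0).Normal := RR_normal Q t t0 ht0 hsurj
  have hsimp := isSimpleGroup_Co2
  have hsurj' := thetaD_surjective Q e ψ hψ hF hz2 hE t t0 ht0 hstd hsurj ht2
  have hR2 : IsPGroup 2 ↥(RR Q t t0 ht0) :=
    (RR_struct Q e ψ hψ hF hz2 hE t t0 ht0 hstd hcard ht2 ht1).1.1.1
  exact fstar_eq_of_simple_quotient not_isPGroup_Co2 (RR Q t t0 ht0) hR2
    (thetaD Q e ψ hψ t t0 ht0 hstd hsurj ht2) hsurj'
    (thetaD_ker Q e ψ hψ t t0 ht0 hstd hsurj ht2)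
    (cent_RR_le Q e ψ hψ hF hz2 hE t t0 ht0 hstd hsurj ht2)

end Cfsg.Agent.Lib.Helper1.MonW
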