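import Mathlib
import Cfsg.Agent.Lib.Helper1.MonW8

/-!
# Monster type: the module structure of the image of `C_Q(t)` modulo its centre
-/

set_option autoImplicit false
set_option linter.unusedSectionVars false

namespace Cfsg.Agent.Lib.Helper1.MonW

open Cfsg Cfsg.Agent.Lib.Helper1.MonQ Cfsg.Agent.Lib.Helper1.MonT Cfsg.Agent.Lib.Helper1.MonV
open scoped commutatorElement

variable {G : Type*} [Group G] [Finite G] {z : G}
  (Q : Subgroup (Subgroup.centralizer ({z} : Set G))) [Q.Normal]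
  (e : (Subgroup.centralizer ({z} : Set G)) ⧸ Q ≃* Spor.Co1)
  (ψ : leechLattice → Q ⧸ Subgroup.center Q)
  (hψ : IsLeechModTwoIso Q e ψ)
  (hF : generalizedFittingSubgroup (Subgroup.centralizer ({z} : Set G)) = Q)
  (hz2 : orderOf z = 2) (hE : IsExtraspecial 2 Q)
  (t : G) [hn : (Nt t).Normal]
  (t0 : Q) (ht0 : ((t0 : Subgroup.centralizer ({z} : Set G)) : G) = t)
  (hstd : ψ Spor.leechU = QuotientGroup.mk t0)

/-- the map from `C_Q(t)` to the image modulo its centre -/
def PsiH : ↥(CQ Q t0) →* ↥(RR Q t t0 ht0) ⧸ Subgroup.center ↥(RR Q t t0 ht0) :=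
  (QuotientGroup.mk' (Subgroup.center ↥(RR Q t t0 ht0))).comp (rhoR Q t t0 ht0)

theorem PsiH_apply (q : ↥(CQ Q t0)) :
    PsiH Q t t0 ht0 q = QuotientGroup.mk (rhoR Q t t0 ht0 q) := rfl

theorem mem_leechPerpU_iff (v : leechLattice) :
    v ∈ leechPerpU ↔ (16 : ℤ) ∣ dotInt (v : GolayPt → ℤ) Spor.vecU := Iff.rfl

include hψ hE hstd in
/-- an element of `Q` lies in `C_Q(t)` iff its vector is orthogonal to the short vector -/
theorem mem_CQ_iff_perp (q : Q) (v : leechLattice) (hv : ψ v = QuotientGroup.mk q) :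
    q ∈ CQ Q t0 ↔ v ∈ leechPerpU := by
  rw [mem_CQ_iff, mem_leechPerpU_iff]
  exact comm_iff Q e ψ hψ hE q t0 v Spor.leechU hv hstd

include hψ hE hstd in
theorem exists_q (x : leechPerpU) : ∃ q : ↥(CQ Q t0),
    ψ (x : leechLattice) = QuotientGroup.mk (q : Q) := by
  obtain ⟨q, hq⟩ := QuotientGroup.mk_surjective (ψ (x : leechLattice))
  exact ⟨⟨q, (mem_CQ_iff_perp Q e ψ hψ hE t0 hstd q x hq.symm).mpr x.2⟩, hq.symm⟩

/-- a representative in `C_Q(t)` of a vector orthogonal to the short vector -/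
noncomputable def qOf (x : leechPerpU) : ↥(CQ Q t0) :=
  Classical.choose (exists_q Q e ψ hψ hE t0 hstd x)

theorem qOf_spec (x : leechPerpU) :
    ψ (x : leechLattice) = QuotientGroup.mk ((qOf Q e ψ hψ hE t0 hstd x : ↥(CQ Q t0)) : Q) :=
  Classical.choose_spec (exists_q Q e ψ hψ hE t0 hstd x)

/-- the module map -/
noncomputable def psiD (x : leechPerpU) :
    ↥(RR Q t t0 ht0) ⧸ Subgroup.center ↥(RR Q t t0 ht0) :=
  PsiH Q t t0 ht0 (qOf Q e ψ hψ hE t0 hstd x)

include hψ hstd hE hF hz2 in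
/-- the kernel of the map from `C_Q(t)` -/
theorem PsiH_eq_one_iff (hcard : Nat.card Q = 2 ^ 25) (ht2 : t * t = 1) (ht1 : t ≠ 1)
    (q : ↥(CQ Q t0)) :
    PsiH Q t t0 ht0 q = 1 ↔
      (QuotientGroup.mk (q : Q) : Q ⧸ Subgroup.center Q) = 1 ∨
      (QuotientGroup.mk (q : Q) : Q ⧸ Subgroup.center Q) = QuotientGroup.mk t0 := by
  have hst := (RR_struct Q e ψ hψ hF hz2 hE t t0 ht0 hstd hcard ht2 ht1).2.2
  have hker := rhoR_eq_one_iff Q t t0 ht0 ht2
  set ζ : ↥(CQ Q t0) := ⟨zq Q hF, zq_mem_CQ Q hF t0⟩ with hζ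
  set τ : ↥(CQ Q t0) := ⟨t0, t0_mem_CQ Q t0⟩ with hτ
  have hτ1 : rhoR Q t t0 ht0 τ = 1 := (hker τ).mpr (Or.inr rfl)
  rw [PsiH_apply, QuotientGroup.eq_one_iff, hst]
  constructor
  · rintro (h | h)
    · rcases (hker q).mp h with h1 | h1
      · left
        rw [h1]
        exact QuotientGroup.mk_one _
      · right
        rw [h1]
    · have h1 : rhoR Q t t0 ht0 (q * ζ⁻¹) = 1 := by
        rw [map_mul, map_inv, h, mul_inv_cancel]
      rcases (hker _).mp h1 with h2 | h2
      · left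
        have h3 : q = ζ := by
          calc q = q * ζ⁻¹ * ζ := by group
            _ = ζ := by rw [h2, one_mul]
        rw [h3]
        exact (QuotientGroup.eq_one_iff _).mpr (zq_mem_center Q hF)
      · right
        have h3 : (q : Q) = t0 * zq Q hF := by
          have : ((q * ζ⁻¹ : ↥(CQ Q t0)) : Q) = (q : Q) * (zq Q hF)⁻¹ := rfl
          rw [this] at h2
          calc (q : Q) = (q : Q) * (zq Q hF)⁻¹ * zq Q hF := by group
            _ = t0 * zq Q hF := by rw [h2]
        rw [h3, QuotientGroup.mk_mul, (QuotientGroup.eq_one_iff _).mpr (zq_mem_center Q hF),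
          mul_one]
  · rintro (h | h)
    · have h1 := (QuotientGroup.eq_one_iff _).mp h
      rcases (center_Q_iff Q hF hz2 hE _).mp h1 with h2 | h2
      · left
        have : q = 1 := Subtype.ext h2
        rw [this, map_one]
      · right
        have : q = ζ := Subtype.ext h2
        rw [this]
    · have h1 : t0⁻¹ * (q : Q) ∈ Subgroup.center Q := QuotientGroup.eq.mp h.symm
      rcases (center_Q_iff Q hF hz2 hE _).mp h1 with h2 | h2
      · left
        have : q = τ := by
          apply Subtype.ext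
          calc (q : Q) = t0 * (t0⁻¹ * (q : Q)) := by group
            _ = t0 := by rw [h2, mul_one]
        rw [this, hτ1]
      · right
        have : q = τ * ζ := by
          apply Subtype.ext
          calc (q : Q) = t0 * (t0⁻¹ * (q : Q)) := by group
            _ = t0 * zq Q hF := by rw [h2]
        rw [this, map_mul, hτ1, one_mul]

include hF hz2 in
/-- the module map does not depend on the chosen representative -/
theorem psiD_eq (hcard : Nat.card Q = 2 ^ 25) (ht2 : t * t = 1) (ht1 : t ≠ 1)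
    (x : leechPerpU) (q : ↥(CQ Q t0))
    (hq : ψ (x : leechLattice) = QuotientGroup.mk (q : Q)) :
    psiD Q e ψ hψ hE t t0 ht0 hstd x = PsiH Q t t0 ht0 q := by
  unfold psiD
  have h1 := qOf_spec Q e ψ hψ hE t0 hstd x
  set q0 := qOf Q e ψ hψ hE t0 hstd x with hq0
  have h2 : PsiH Q t t0 ht0 (q0⁻¹ * q) = 1 := by
    rw [PsiH_eq_one_iff Q e ψ hψ hF hz2 hE t t0 ht0 hstd hcard ht2 ht1]
    left
    show (QuotientGroup.mk ((q0 : Q)⁻¹ * (q : Q)) : Q ⧸ Subgroup.center Q) = 1
    rw [QuotientGroup.mk_mul, QuotientGroup.mk_inv, ← h1, ← hq, inv_mul_cancel]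
  rw [map_mul, map_inv] at h2
  exact inv_mul_eq_one.mp h2

end Cfsg.Agent.Lib.Helper1.MonW
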