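import Mathlib
import Cfsg.Agent.Lib.Helper1.MonW9

/-!
# Monster type: the image of `C_Q(t)` modulo its centre as a module for the second Conway group
-/

set_option autoImplicit false
set_option linter.unusedSectionVars false

namespace Cfsg.Agent.Lib.Helper1.MonW

open Cfsg Cfsg.Agent.Lib.Helper1.MonQ Cfsg.Agent.Lib.Helper1.MonT Cfsg.Agent.Lib.Helper1.MonV
open scoped commutatorElement

variable {G : Type*} [Group G] [Finite G] {z : G}
  (Q : Subgroup (Subgroup.centralizer ({z} : Set G))) [Q.Normal]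
  (e : (Subgroup.centralizer ({z} : Set G)) ⧸ Q ≃* Spor.Co1)
  (ψ : leechLattice → Q ⧸ Subgroup.center Q)
  (hψ : IsLeechModTwoIso Q e ψ)
  (hF : generalizedFittingSubgroup (Subgroup.centralizer ({z} : Set G)) = Q)
  (hz2 : orderOf z = 2) (hE : IsExtraspecial 2 Q)
  (t : G) [hn : (Nt t).Normal]
  (t0 : Q) (ht0 : ((t0 : Subgroup.centralizer ({z} : Set G)) : G) = t)
  (hstd : ψ Spor.leechU = QuotientGroup.mk t0)

include hF hz2 in
theorem psiD_add (hcard : Nat.card Q = 2 ^ 25) (ht2 : t * t = 1) (ht1 : t ≠ 1)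
    (x y : leechPerpU) :
    psiD Q e ψ hψ hE t t0 ht0 hstd (x + y) =
      psiD Q e ψ hψ hE t t0 ht0 hstd x * psiD Q e ψ hψ hE t t0 ht0 hstd y := by
  have h1 := qOf_spec Q e ψ hψ hE t0 hstd x
  have h2 := qOf_spec Q e ψ hψ hE t0 hstd y
  rw [psiD_eq Q e ψ hψ hF hz2 hE t t0 ht0 hstd hcard ht2 ht1 (x + y)
    (qOf Q e ψ hψ hE t0 hstd x * qOf Q e ψ hψ hE t0 hstd y), map_mul]
  · rfl
  · rw [AddSubgroup.coe_add, hψ.1, h1, h2]
    rfl

include hF hz2 in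
theorem psiD_surjective (hcard : Nat.card Q = 2 ^ 25) (ht2 : t * t = 1) (ht1 : t ≠ 1) :
    Function.Surjective (psiD Q e ψ hψ hE t t0 ht0 hstd) := by
  intro rb
  obtain ⟨r, rfl⟩ := QuotientGroup.mk_surjective rb
  obtain ⟨q, rfl⟩ := rhoR_surjective Q t t0 ht0 r
  obtain ⟨v, hv⟩ := hψ.2.1 (QuotientGroup.mk (q : Q))
  have hvp : v ∈ leechPerpU := (mem_CQ_iff_perp Q e ψ hψ hE t0 hstd (q : Q) v hv).mp q.2
  refine ⟨⟨v, hvp⟩, ?_⟩
  rw [psiD_eq Q e ψ hψ hF hz2 hE t t0 ht0 hstd hcard ht2 ht1 ⟨v, hvp⟩ q hv]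
  rfl

include hF hz2 in
theorem psiD_eq_one_iff (hcard : Nat.card Q = 2 ^ 25) (ht2 : t * t = 1) (ht1 : t ≠ 1)
    (x : leechPerpU) :
    psiD Q e ψ hψ hE t t0 ht0 hstd x = 1 ↔
      (∃ w : leechLattice, (x : leechLattice) = w + w) ∨
      ∃ w : leechLattice, (x : leechLattice) = Spor.leechU + (w + w) := by
  have h1 := qOf_spec Q e ψ hψ hE t0 hstd x
  unfold psiD
  rw [PsiH_eq_one_iff Q e ψ hψ hF hz2 hE t t0 ht0 hstd hcard ht2 ht1, ← h1, ← hstd,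
    hψ.2.2.1]
  have h2 : ψ (x : leechLattice) = ψ Spor.leechU ↔
      ∃ w : leechLattice, (x : leechLattice) = Spor.leechU + (w + w) := by
    have h3 : ψ (x : leechLattice) = ψ Spor.leechU ↔ ψ ((x : leechLattice) - Spor.leechU) = 1 := by
      rw [psi_sub ψ hψ.1 hψ.2.2.1, mul_inv_eq_one]
    rw [h3, hψ.2.2.1]
    constructor
    · rintro ⟨w, hw⟩
      exact ⟨w, by rw [← hw]; abel⟩
    · rintro ⟨w, hw⟩
      exact ⟨w, by rw [hw]; abel⟩
  rw [h2]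

/-- conjugation by the joint centralizer fixes the image of `z` -/
theorem cj_zeta (a : A0 z t) :
    cj Q t t0 ht0 a ⟨zq Q hF, zq_mem_CQ Q hF t0⟩ = ⟨zq Q hF, zq_mem_CQ Q hF t0⟩ := by
  apply Subtype.ext
  rw [cj_coe]
  exact conjQ_zq Q hF _

section quot

variable [hRn : (RR Q t t0 ht0).Normal]

include hF hz2 in
/-- compatibility of the module map with the action of the second Conway group -/
theorem psiD_equiv (hcard : Nat.card Q = 2 ^ 25) (ht2 : t * t = 1) (ht1 : t ≠ 1)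
    (hsurj : Function.Surjective (rho z t (hzt_of Q t t0 ht0)))
    (hsurj' : Function.Surjective (thetaD Q e ψ hψ t t0 ht0 hstd hsurj ht2))
    (h : ↥(Subgroup.centralizer ({zH z t (hzt_of Q t t0 ht0)} : Set (HH t))))
    (g : ↥Spor.Co2)
    (hg : eD Q e ψ hψ t t0 ht0 hstd hsurj ht2 hsurj' (QuotientGroup.mk h) = g)
    (x y : leechPerpU) (hxy : g • (x : leechLattice) = (y : leechLattice))
    (r : ↥(RR Q t t0 ht0))
    (hr : psiD Q e ψ hψ hE t t0 ht0 hstd x = QuotientGroup.mk r) :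
    psiD Q e ψ hψ hE t t0 ht0 hstd y = QuotientGroup.mk
      ⟨h * r * h⁻¹, hRn.conj_mem (r : ↥(Subgroup.centralizer ({zH z t (hzt_of Q t t0 ht0)} :
        Set (HH t)))) r.2 h⟩ := by
  have hst := (RR_struct Q e ψ hψ hF hz2 hE t t0 ht0 hstd hcard ht2 ht1).2.2
  obtain ⟨a, rfl⟩ := hsurj h
  rw [eD_mk, thetaD_rho] at hg
  have h1 := qOf_spec Q e ψ hψ hE t0 hstd x
  set q := qOf Q e ψ hψ hE t0 hstd x with hq
  have hk : (QuotientGroup.mk (co2Incl g) : Spor.Co1) = e (QuotientGroup.mk (toCz z t a)) := by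
    rw [← hg]
    exact thetaA_mk Q e ψ hψ t t0 ht0 hstd a
  have h2 : ψ (co2Incl g • (x : leechLattice)) =
      QuotientGroup.mk (conjQ Q (toCz z t a) (q : Q)) :=
    equiv' Q e ψ hψ (toCz z t a) (co2Incl g) hk x (q : Q) h1
  have h3 : ψ (y : leechLattice) = QuotientGroup.mk ((cj Q t t0 ht0 a q : ↥(CQ Q t0)) : Q) := by
    rw [← hxy, cj_coe, ← h2]
    rfl
  rw [psiD_eq Q e ψ hψ hF hz2 hE t t0 ht0 hstd hcard ht2 ht1 y _ h3, PsiH_apply]
  -- the central correction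
  have h4 : (rhoR Q t t0 ht0 q)⁻¹ * r ∈ Subgroup.center ↥(RR Q t t0 ht0) := by
    apply QuotientGroup.eq.mp
    rw [← hr]
    rfl
  rw [QuotientGroup.eq]
  have h5 : (rhoR Q t t0 ht0 (cj Q t t0 ht0 a q))⁻¹ *
      (⟨rho z t (hzt_of Q t t0 ht0) a * r * (rho z t (hzt_of Q t t0 ht0) a)⁻¹,
        hRn.conj_mem (r : ↥(Subgroup.centralizer ({zH z t (hzt_of Q t t0 ht0)} :
          Set (HH t)))) r.2 (rho z t (hzt_of Q t t0 ht0) a)⟩ : ↥(RR Q t t0 ht0)) =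
      (rhoR Q t t0 ht0 q)⁻¹ * r := by
    rcases (hst _).mp h4 with h6 | h6
    · have h7 : r = rhoR Q t t0 ht0 q := by
        calc r = rhoR Q t t0 ht0 q * ((rhoR Q t t0 ht0 q)⁻¹ * r) := by group
          _ = rhoR Q t t0 ht0 q := by rw [h6, mul_one]
      subst h7
      apply Subtype.ext
      show (rho z t (hzt_of Q t t0 ht0) (jj Q t t0 ht0 (cj Q t t0 ht0 a q)))⁻¹ *
        (rho z t (hzt_of Q t t0 ht0) a * rho z t (hzt_of Q t t0 ht0) (jj Q t t0 ht0 q) *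
          (rho z t (hzt_of Q t t0 ht0) a)⁻¹) =
        (rho z t (hzt_of Q t t0 ht0) (jj Q t t0 ht0 q))⁻¹ *
          rho z t (hzt_of Q t t0 ht0) (jj Q t t0 ht0 q)
      rw [jj_cj, map_mul, map_mul, map_inv]
      group
    · have h7 : r = rhoR Q t t0 ht0 q * rhoR Q t t0 ht0 ⟨zq Q hF, zq_mem_CQ Q hF t0⟩ := by
        calc r = rhoR Q t t0 ht0 q * ((rhoR Q t t0 ht0 q)⁻¹ * r) := by group
          _ = _ := by rw [h6]
      subst h7
      apply Subtype.ext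
      have h8 := congrArg (fun c => rho z t (hzt_of Q t t0 ht0) (jj Q t t0 ht0 c))
        (cj_zeta Q hF t t0 ht0 a)
      simp only [jj_cj, map_mul, map_inv] at h8
      show (rho z t (hzt_of Q t t0 ht0) (jj Q t t0 ht0 (cj Q t t0 ht0 a q)))⁻¹ *
        (rho z t (hzt_of Q t t0 ht0) a * (rho z t (hzt_of Q t t0 ht0) (jj Q t t0 ht0 q) *
          rho z t (hzt_of Q t t0 ht0) (jj Q t t0 ht0 ⟨zq Q hF, zq_mem_CQ Q hF t0⟩)) *
          (rho z t (hzt_of Q t t0 ht0) a)⁻¹) =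
        (rho z t (hzt_of Q t t0 ht0) (jj Q t t0 ht0 q))⁻¹ *
          (rho z t (hzt_of Q t t0 ht0) (jj Q t t0 ht0 q) *
            rho z t (hzt_of Q t t0 ht0) (jj Q t t0 ht0 ⟨zq Q hF, zq_mem_CQ Q hF t0⟩))
      rw [jj_cj, map_mul, map_mul, map_inv]
      calc (rho z t (hzt_of Q t t0 ht0) a * rho z t (hzt_of Q t t0 ht0) (jj Q t t0 ht0 q) *
              (rho z t (hzt_of Q t t0 ht0) a)⁻¹)⁻¹ *
            (rho z t (hzt_of Q t t0 ht0) a * (rho z t (hzt_of Q t t0 ht0) (jj Q t t0 ht0 q) *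
              rho z t (hzt_of Q t t0 ht0) (jj Q t t0 ht0 ⟨zq Q hF, zq_mem_CQ Q hF t0⟩)) *
              (rho z t (hzt_of Q t t0 ht0) a)⁻¹)
          = rho z t (hzt_of Q t t0 ht0) a *
              rho z t (hzt_of Q t t0 ht0) (jj Q t t0 ht0 ⟨zq Q hF, zq_mem_CQ Q hF t0⟩) *
              (rho z t (hzt_of Q t t0 ht0) a)⁻¹ := by group
        _ = rho z t (hzt_of Q t t0 ht0) (jj Q t t0 ht0 ⟨zq Q hF, zq_mem_CQ Q hF t0⟩) := h8
        _ = _ := by group
  rw [h5]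
  exact h4

end quot

end Cfsg.Agent.Lib.Helper1.MonW
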