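import Mathlib
import Cfsg.Agent.Lib.Helper1.MonW1
import Cfsg.Agent.Lib.Helper1.MonV2
import Cfsg.Agent.Lib.Helper1.MonQ2

/-!
# Monster type: a conjugate of `z` in `Q` under the centralizer of a non-central involution
-/

set_option autoImplicit false
set_option linter.unusedSectionVars false

namespace Cfsg.Agent.Lib.Helper1.MonW

open Cfsg Cfsg.Agent.Lib.Helper1.MonQ Cfsg.Agent.Lib.Helper1.MonT Cfsg.Agent.Lib.Helper1.MonV
  Cfsg.Agent.Lib.Helper1.MonU Cfsg.Agent.Lib.Helper1.LeechAut Cfsg.Agent.Lib.Helper1.LeechMono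
  Cfsg.Agent.Lib.Helper1.LeechQuad
open scoped commutatorElement

/-- vectors of types 2 and 4 are not congruent modulo twice the lattice -/
theorem not_cong_32_64 (v v' w : leechLattice) (hv : sqNorm (v : GolayPt → ℤ) = 32)
    (hv' : sqNorm (v' : GolayPt → ℤ) = 64) (h : v - v' = w + w) : False := by
  have key : ∀ a b c : GolayPt → ℤ, a ∈ leechLattice → b ∈ leechLattice → c ∈ leechLattice →
      sqNorm a = 32 → sqNorm b = 64 → a = b + (c + c) → False := by
    intro a b c _ hb hc ha32 hb64 h1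
    have e1 : sqNorm (c + c) = 4 * sqNorm c := sqNorm_double _
    have e2 : sqNorm (b + (c + c)) = sqNorm b + 2 * dotInt b (c + c) + sqNorm (c + c) :=
      sqNorm_add _ _
    have e3 : dotInt b (c + c) = 2 * dotInt b c := by
      unfold dotInt
      rw [Finset.mul_sum]
      apply Finset.sum_congr rfl
      intro i _
      simp only [Pi.add_apply]
      ring
    have e4 : sqNorm (c + b) = sqNorm c + 2 * dotInt c b + sqNorm b := sqNorm_add _ _
    have e5 : dotInt c b = dotInt b c := by
      unfold dotInt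
      apply Finset.sum_congr rfl
      intro i _
      ring
    have ha32' := ha32
    rw [h1] at ha32
    rw [e2, e1, e3, hb64] at ha32
    rw [e5, hb64] at e4
    by_cases hw0 : c = 0
    · rw [hw0] at h1
      have : a = b := by rw [h1]; simp
      rw [this, hb64] at ha32'
      omega
    · by_cases hw1 : c + b = 0
      · have hac : a = c := by
          rw [h1]
          calc b + (c + c) = (c + b) + c := by abel
            _ = c := by rw [hw1, zero_add]
        rw [hac] at ha32'
        have h0 : sqNorm (c + b) = 0 := by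
          rw [hw1]; unfold sqNorm; simp
        omega
      · have g1 := Cfsg.Agent.S0391.result _ hc hw0
        have g2 := Cfsg.Agent.S0391.result _ (leechLattice.add_mem hc hb) hw1
        omega
  have h1 : (v : GolayPt → ℤ) = (v' : GolayPt → ℤ) + ((w : GolayPt → ℤ) + (w : GolayPt → ℤ)) := by
    have := congrArg (fun x : leechLattice => (x : GolayPt → ℤ)) h
    simp only [AddSubgroup.coe_sub, AddSubgroup.coe_add] at this
    rw [← this]; abel
  exact key _ _ _ v.2 v'.2 w.2 hv hv' h1

theorem sqNorm_diff_cw : sqNorm (fun p : GolayPt =>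
    (if p ∈ cwSet 2 then -ind2 (cwSet 1) p else ind2 (cwSet 1) p) - ind2 (cwSet 1) p) = 32 := by
  decide

variable {G : Type*} [Group G] [Finite G] {z : G}
  (Q : Subgroup (Subgroup.centralizer ({z} : Set G))) [Q.Normal]
  (e : (Subgroup.centralizer ({z} : Set G)) ⧸ Q ≃* Spor.Co1)
  (ψ : leechLattice → Q ⧸ Subgroup.center Q)
  (hψ : IsLeechModTwoIso Q e ψ)
  (hF : generalizedFittingSubgroup (Subgroup.centralizer ({z} : Set G)) = Q)
  (hz2 : orderOf z = 2) (hE : IsExtraspecial 2 Q)

include hψ hF hz2 hE in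
/-- an element of type 2 is not conjugate to `z` -/
theorem type_two_not_conj (hcard : Nat.card Q = 2 ^ 25) (x : Q) (w : leechLattice)
    (hw : sqNorm (w : GolayPt → ℤ) = 32) (hwx : ψ w = QuotientGroup.mk x) :
    ¬ IsConj z ((x : Subgroup.centralizer ({z} : Set G)) : G) := by
  intro hconj
  have hxz : ((x : Subgroup.centralizer ({z} : Set G)) : G) ≠ z := by
    intro h
    apply psi_ne_one Q e ψ hψ w (Or.inl hw)
    rw [hwx]
    apply (QuotientGroup.eq_one_iff _).mpr
    have : x = zq Q hF := Subtype.ext (Subtype.ext h)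
    rw [this]
    exact zq_mem_center Q hF
  obtain ⟨v', hv', hv'x⟩ := conj_type_four Q e ψ hψ hF hz2 hE hcard x hconj hxz
  have h1 : ψ (w - v') = 1 := by
    rw [psi_sub ψ hψ.1 hψ.2.2.1, hwx, hv'x, mul_inv_cancel]
  obtain ⟨u, hu⟩ := (hψ.2.2.1 _).mp h1
  exact not_cong_32_64 w v' u hw hv' hu

include hψ hF hz2 hE in
/-- in standard position, `Q ∩ Q^g` contains an element of type 2 -/
theorem exists_type_two_inter (hcard : Nat.card Q = 2 ^ 25) (g : G) (s0 : Q)
    (hs0g : ((s0 : Subgroup.centralizer ({z} : Set G)) : G) = g * z * g⁻¹)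
    (hs0z : ((s0 : Subgroup.centralizer ({z} : Set G)) : G) ≠ z)
    (hstd : ψ (UU none) = QuotientGroup.mk s0) :
    ∃ (t1 : Q) (w : leechLattice), sqNorm (w : GolayPt → ℤ) = 32 ∧ ψ w = QuotientGroup.mk t1 ∧
      ((t1 : Subgroup.centralizer ({z} : Set G)) : G) ∈ Qg Q g := by
  have hrange := (card_inter_std Q e ψ hψ hF hz2 hE hcard g s0 hs0g hs0z hstd).2
  set vO : leechLattice := ⟨ind2 (cwSet 1), ind2_mem (cwSet_mem 1)⟩ with hvO
  set kC : Co0 := mono ⟨cwSet 2, cwSet_mem 2⟩ 1 with hkC
  obtain ⟨x, hx⟩ := QuotientGroup.mk_surjective (ψ vO)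
  have hkT : kC ∈ TS := (mem_TS_iff kC).mpr ⟨_, rfl⟩
  have h1 : (QuotientGroup.mk kC : Spor.Co1) ∈ (phi Q e g).range := by
    rw [hrange]
    exact ⟨kC, hkT, rfl⟩
  obtain ⟨d, hd⟩ := h1
  have hd' : (QuotientGroup.mk kC : Spor.Co1) =
      e (QuotientGroup.mk (d : Subgroup.centralizer ({z} : Set G))) := hd.symm
  have h2 := equiv' Q e ψ hψ (d : Subgroup.centralizer ({z} : Set G)) kC hd' vO x hx.symm
  refine ⟨conjQ Q (d : Subgroup.centralizer ({z} : Set G)) x * x⁻¹, kC • vO - vO, ?_, ?_, ?_⟩
  · have h3 : ((kC • vO - vO : leechLattice) : GolayPt → ℤ) = fun p : GolayPt =>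
        (if p ∈ cwSet 2 then -ind2 (cwSet 1) p else ind2 (cwSet 1) p) - ind2 (cwSet 1) p := by
      funext p
      rw [AddSubgroup.coe_sub, Pi.sub_apply, hkC, mono_one_apply]
    rw [h3]
    exact sqNorm_diff_cw
  · rw [psi_sub ψ hψ.1 hψ.2.2.1, h2, ← hx]
    rfl
  · -- membership in the conjugate of `Q`
    have hcomm : x * s0 = s0 * x := by
      rw [comm_iff Q e ψ hψ hE x s0 vO (UU none) hx.symm hstd]
      have : dotInt ((vO : leechLattice) : GolayPt → ℤ) ((UU none : leechLattice) : GolayPt → ℤ) =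
          8 * ind2 (cwSet 1) none := dotInt_uu _ _
      rw [this]
      unfold ind2
      split_ifs
      · norm_num
      · norm_num
    have hcomm' : (x : Subgroup.centralizer ({z} : Set G)) *
        (s0 : Subgroup.centralizer ({z} : Set G)) =
        (s0 : Subgroup.centralizer ({z} : Set G)) * (x : Subgroup.centralizer ({z} : Set G)) :=
      congrArg (fun q : Q => (q : Subgroup.centralizer ({z} : Set G))) hcomm
    have h4 := D_norm Q g s0 hs0g (x : Subgroup.centralizer ({z} : Set G)) hcomm'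
      ((d : Subgroup.centralizer ({z} : Set G))⁻¹) (Subgroup.inv_mem _ d.2)
    have h5 : (d : Subgroup.centralizer ({z} : Set G)) *
        ((x : Subgroup.centralizer ({z} : Set G)) * (d : Subgroup.centralizer ({z} : Set G))⁻¹ *
          (x : Subgroup.centralizer ({z} : Set G))⁻¹) ∈ DD Q g := Subgroup.mul_mem _ d.2 h4
    have h6 : ((conjQ Q (d : Subgroup.centralizer ({z} : Set G)) x * x⁻¹ : Q) :
        Subgroup.centralizer ({z} : Set G)) = (d : Subgroup.centralizer ({z} : Set G)) *
        ((x : Subgroup.centralizer ({z} : Set G)) * (d : Subgroup.centralizer ({z} : Set G))⁻¹ *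
          (x : Subgroup.centralizer ({z} : Set G))⁻¹) := by
      rw [Subgroup.coe_mul, conjQ_coe, Subgroup.coe_inv]
      group
    rw [h6]
    exact (mem_DD_iff Q g _).mp h5

end Cfsg.Agent.Lib.Helper1.MonW
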