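import Mathlib
import Cfsg.Agent.Lib.Helper1.MonW11
import Cfsg.Agent.Lib.Helper1.MonW10

/-!
# Monster type: the centralizer of a non-central involution of `Q`, modulo that involution, is of
Baby Monster type
-/

set_option autoImplicit false
set_option linter.unusedSectionVars false

namespace Cfsg.Agent.Lib.Helper1.MonW

open Cfsg Cfsg.Agent.Lib.Helper1.MonQ Cfsg.Agent.Lib.Helper1.MonT Cfsg.Agent.Lib.Helper1.MonV
  Cfsg.Agent.Lib.Helper1.MonU Cfsg.Agent.Lib.Helper1.LeechAut Cfsg.Agent.Lib.Helper1.LeechMono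
  Cfsg.Agent.Lib.Helper1.LeechQuad Cfsg.Agent.Lib.Helper1.StdCross
open scoped commutatorElement

variable {G : Type*} [Group G] [Finite G] {z : G}
  (Q : Subgroup (Subgroup.centralizer ({z} : Set G))) [Q.Normal]
  (e : (Subgroup.centralizer ({z} : Set G)) ⧸ Q ≃* Spor.Co1)
  (ψ : leechLattice → Q ⧸ Subgroup.center Q)
  (hψ : IsLeechModTwoIso Q e ψ)
  (hF : generalizedFittingSubgroup (Subgroup.centralizer ({z} : Set G)) = Q)
  (hz2 : orderOf z = 2) (hE : IsExtraspecial 2 Q)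

include hψ hF hz2 hE in
/-- an element of type 2 of `Q ∩ Q^g` is centralized by an element conjugating `z` to `g z g⁻¹` -/
theorem exists_centralizing (hcard : Nat.card Q = 2 ^ 25)
    (hnwc : ∃ g : G, (∃ hq : g * z * g⁻¹ ∈ Subgroup.centralizer ({z} : Set G),
      (⟨g * z * g⁻¹, hq⟩ : Subgroup.centralizer ({z} : Set G)) ∈ Q) ∧ g * z * g⁻¹ ≠ z)
    (g1 : G) (s0 : Q)
    (hs0g : ((s0 : Subgroup.centralizer ({z} : Set G)) : G) = g1 * z * g1⁻¹)
    (t1 : Q) (w : leechLattice) (hw : sqNorm (w : GolayPt → ℤ) = 32)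
    (hwt : ψ w = QuotientGroup.mk t1)
    (hmem : ((t1 : Subgroup.centralizer ({z} : Set G)) : G) ∈ Qg Q g1) :
    ∃ g' : G, g' * ((t1 : Subgroup.centralizer ({z} : Set G)) : G) =
        ((t1 : Subgroup.centralizer ({z} : Set G)) : G) * g' ∧
      g' * z * g'⁻¹ = ((s0 : Subgroup.centralizer ({z} : Set G)) : G) := by
  obtain ⟨y, hyQ, hy⟩ := (mem_Qg_iff Q g1 _).mp hmem
  obtain ⟨hyc, hyq⟩ := (mem_QG_iff Q y).mp hyQ
  set t2 : Q := ⟨⟨y, hyc⟩, hyq⟩ with ht2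
  set t1G : G := ((t1 : Subgroup.centralizer ({z} : Set G)) : G) with ht1G
  have ht1nc := type_two_not_conj Q e ψ hψ hF hz2 hE hcard t1 w hw hwt
  have ht1sq : t1 ^ 2 = 1 := by
    apply (sq_eq_zero_iff t1).mp
    rw [sq_formula Q e ψ hψ hE t1 w hwt, hw]
    decide
  have ht1sqG : t1G ^ 2 = 1 :=
    congrArg (fun q : Q => ((q : Subgroup.centralizer ({z} : Set G)) : G)) ht1sq
  have hysq : y ^ 2 = 1 := by
    rw [← hy, conj_pow] at ht1sqG
    calc y ^ 2 = g1⁻¹ * (g1 * y ^ 2 * g1⁻¹) * g1 := by group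
      _ = 1 := by rw [ht1sqG]; group
  have ht2sq : t2 ^ 2 = 1 := by
    apply Subtype.ext
    apply Subtype.ext
    exact hysq
  have ht2nc : t2 ∉ Subgroup.center Q := by
    intro hc
    rcases (center_Q_iff Q hF hz2 hE t2).mp hc with h | h
    · have hy1 : y = 1 :=
        congrArg (fun q : Q => ((q : Subgroup.centralizer ({z} : Set G)) : G)) h
      apply psi_ne_one Q e ψ hψ w (Or.inl hw)
      rw [hwt]
      apply (QuotientGroup.eq_one_iff _).mpr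
      have : t1 = 1 := by
        apply Subtype.ext
        apply Subtype.ext
        show t1G = 1
        rw [← hy, hy1]
        group
      rw [this]
      exact Subgroup.one_mem _
    · have hyz : y = z :=
        congrArg (fun q : Q => ((q : Subgroup.centralizer ({z} : Set G)) : G)) h
      apply ht1nc
      rw [isConj_iff]
      refine ⟨g1, ?_⟩
      show g1 * z * g1⁻¹ = t1G
      rw [← hy, hyz]
  obtain ⟨y2, hy2n, hy2⟩ := invol_types Q e ψ hψ hF hz2 hE t2 ht2sq ht2nc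
  have hy232 : sqNorm (y2 : GolayPt → ℤ) = 32 := by
    rcases hy2n with h | h
    · exact h
    · exfalso
      obtain ⟨hc, _⟩ := type_four_conj Q e ψ hψ hF hz2 hE hcard hnwc t2 y2 h hy2
      apply ht1nc
      obtain ⟨c, hc⟩ := isConj_iff.mp hc
      rw [isConj_iff]
      refine ⟨g1 * c, ?_⟩
      have hc' : c * z * c⁻¹ = y := hc
      show g1 * c * z * (g1 * c)⁻¹ = t1G
      rw [← hy, ← hc']
      group
  obtain ⟨k, hk⟩ := Cfsg.Agent.S0400.result y2 w hy232 hw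
  obtain ⟨c, hc⟩ := conj_of_lattice Q e ψ hψ hF hz2 hE t2 t1 ht2nc y2 w hy2 hwt k hk
  have hc' : (c : G) * y * (c : G)⁻¹ = t1G :=
    congrArg (fun q : Q => ((q : Subgroup.centralizer ({z} : Set G)) : G)) hc
  have hcz : z * (c : G) = (c : G) * z :=
    (Subgroup.mem_centralizer_iff.mp c.2) z (Set.mem_singleton z)
  refine ⟨g1 * (c : G)⁻¹, ?_, ?_⟩
  · have h1 : g1 * (c : G)⁻¹ * t1G * (g1 * (c : G)⁻¹)⁻¹ = t1G := by
      calc g1 * (c : G)⁻¹ * t1G * (g1 * (c : G)⁻¹)⁻¹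
          = g1 * ((c : G)⁻¹ * t1G * (c : G)) * g1⁻¹ := by group
        _ = g1 * y * g1⁻¹ := by rw [← hc']; group
        _ = t1G := hy
    calc g1 * (c : G)⁻¹ * t1G = (g1 * (c : G)⁻¹ * t1G * (g1 * (c : G)⁻¹)⁻¹) * (g1 * (c : G)⁻¹) := by
          group
      _ = t1G * (g1 * (c : G)⁻¹) := by rw [h1]
  · rw [hs0g]
    calc g1 * (c : G)⁻¹ * z * (g1 * (c : G)⁻¹)⁻¹ = g1 * ((c : G)⁻¹ * (z * (c : G))) * g1⁻¹ := by
          group
      _ = g1 * z * g1⁻¹ := by rw [hcz]; group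

include hψ hF hz2 hE in
/-- the centralizer of an element of type 2 of `Q` contains an element conjugating `z` to
another element of `Q` -/
theorem exists_conj_in_Ct (hcard : Nat.card Q = 2 ^ 25)
    (hnwc : ∃ g : G, (∃ hq : g * z * g⁻¹ ∈ Subgroup.centralizer ({z} : Set G),
      (⟨g * z * g⁻¹, hq⟩ : Subgroup.centralizer ({z} : Set G)) ∈ Q) ∧ g * z * g⁻¹ ≠ z)
    (t0 : Q) (vt : leechLattice) (hvt : sqNorm (vt : GolayPt → ℤ) = 32)
    (hψt : ψ vt = QuotientGroup.mk t0) :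
    ∃ g : G, g * ((t0 : Subgroup.centralizer ({z} : Set G)) : G) =
        ((t0 : Subgroup.centralizer ({z} : Set G)) : G) * g ∧
      (∃ hc : g * z * g⁻¹ ∈ Subgroup.centralizer ({z} : Set G),
        (⟨g * z * g⁻¹, hc⟩ : Subgroup.centralizer ({z} : Set G)) ∈ Q) ∧ g * z * g⁻¹ ≠ z := by
  obtain ⟨g1, ⟨hgc, hgq⟩, hgz⟩ := hnwc
  have hnwc' : ∃ g : G, (∃ hq : g * z * g⁻¹ ∈ Subgroup.centralizer ({z} : Set G),
      (⟨g * z * g⁻¹, hq⟩ : Subgroup.centralizer ({z} : Set G)) ∈ Q) ∧ g * z * g⁻¹ ≠ z :=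
    ⟨g1, ⟨hgc, hgq⟩, hgz⟩
  set s0 : Q := mkQ Q _ hgc hgq with hs0
  have hs0g : ((s0 : Subgroup.centralizer ({z} : Set G)) : G) = g1 * z * g1⁻¹ := rfl
  obtain ⟨v, hv, hvs⟩ := conj_type_four Q e ψ hψ hF hz2 hE hcard s0
    (isConj_iff.mpr ⟨g1, rfl⟩) hgz
  obtain ⟨k0, hk0⟩ := Cfsg.Agent.Lib.Helper1.LeechConn.trans64 v (UU none) hv (sqNorm_uu none)
  have hψ' := iso_twist Q e ψ hψ k0
  have hstd' : (fun v => ψ (k0⁻¹ • v)) (UU none) = QuotientGroup.mk s0 := by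
    show ψ (k0⁻¹ • UU none) = QuotientGroup.mk s0
    rw [← hk0, inv_smul_smul, hvs]
  obtain ⟨t1, w, hw, hwt, hmem⟩ := exists_type_two_inter Q _ _ hψ' hF hz2 hE hcard g1 s0 hs0g hgz
    hstd'
  obtain ⟨g', hg't, hg'z⟩ := exists_centralizing Q _ _ hψ' hF hz2 hE hcard hnwc' g1 s0 hs0g t1 w hw
    hwt hmem
  have hvt' : (fun v => ψ (k0⁻¹ • v)) (k0 • vt) = QuotientGroup.mk t0 := by
    show ψ (k0⁻¹ • (k0 • vt)) = QuotientGroup.mk t0
    rw [inv_smul_smul, hψt]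
  have hvtn : sqNorm ((k0 • vt : leechLattice) : GolayPt → ℤ) = 32 := by
    rw [sqNorm_smul, hvt]
  have ht1nc : t1 ∉ Subgroup.center Q := by
    intro hc
    apply psi_ne_one Q _ _ hψ' w (Or.inl hw)
    rw [hwt]
    exact (QuotientGroup.eq_one_iff _).mpr hc
  obtain ⟨k, hk⟩ := Cfsg.Agent.S0400.result w (k0 • vt) hw hvtn
  obtain ⟨h, hh⟩ := conj_of_lattice Q _ _ hψ' hF hz2 hE t1 t0 ht1nc w (k0 • vt) hwt hvt' k hk
  set t1G : G := ((t1 : Subgroup.centralizer ({z} : Set G)) : G) with ht1G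
  set t0G : G := ((t0 : Subgroup.centralizer ({z} : Set G)) : G) with ht0G
  have hh' : (h : G) * t1G * (h : G)⁻¹ = t0G :=
    congrArg (fun q : Q => ((q : Subgroup.centralizer ({z} : Set G)) : G)) hh
  have hhz : z * (h : G) = (h : G) * z :=
    (Subgroup.mem_centralizer_iff.mp h.2) z (Set.mem_singleton z)
  have hconj : (h : G) * g' * (h : G)⁻¹ * z * ((h : G) * g' * (h : G)⁻¹)⁻¹ =
      ((conjQ Q h s0 : Q) : Subgroup.centralizer ({z} : Set G)) := by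
    have e1 : ((conjQ Q h s0 : Q) : Subgroup.centralizer ({z} : Set G)) =
        h * (s0 : Subgroup.centralizer ({z} : Set G)) * h⁻¹ := conjQ_coe Q h s0
    rw [e1, Subgroup.coe_mul, Subgroup.coe_mul, Subgroup.coe_inv, ← hg'z]
    calc (h : G) * g' * (h : G)⁻¹ * z * ((h : G) * g' * (h : G)⁻¹)⁻¹
        = (h : G) * g' * ((h : G)⁻¹ * (z * (h : G))) * g'⁻¹ * (h : G)⁻¹ := by group
      _ = (h : G) * (g' * z * g'⁻¹) * (h : G)⁻¹ := by rw [hhz]; group
  refine ⟨(h : G) * g' * (h : G)⁻¹, ?_, ?_, ?_⟩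
  · have h1 : (h : G) * g' * (h : G)⁻¹ * t0G * ((h : G) * g' * (h : G)⁻¹)⁻¹ = t0G := by
      calc (h : G) * g' * (h : G)⁻¹ * t0G * ((h : G) * g' * (h : G)⁻¹)⁻¹
          = (h : G) * (g' * ((h : G)⁻¹ * t0G * (h : G))) * g'⁻¹ * (h : G)⁻¹ := by group
        _ = (h : G) * (g' * t1G) * g'⁻¹ * (h : G)⁻¹ := by rw [← hh']; group
        _ = (h : G) * (t1G * g') * g'⁻¹ * (h : G)⁻¹ := by rw [hg't]
        _ = (h : G) * t1G * (h : G)⁻¹ := by group
        _ = t0G := hh'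
    calc (h : G) * g' * (h : G)⁻¹ * t0G
        = ((h : G) * g' * (h : G)⁻¹ * t0G * ((h : G) * g' * (h : G)⁻¹)⁻¹) *
          ((h : G) * g' * (h : G)⁻¹) := by group
      _ = t0G * ((h : G) * g' * (h : G)⁻¹) := by rw [h1]
  · rw [hconj]
    exact ⟨(conjQ Q h s0 : Q).1.2, (conjQ Q h s0 : Q).2⟩
  · rw [hconj]
    intro hcz
    apply hgz
    have e1 : ((conjQ Q h s0 : Q) : Subgroup.centralizer ({z} : Set G)) =
        h * (s0 : Subgroup.centralizer ({z} : Set G)) * h⁻¹ := conjQ_coe Q h s0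
    rw [e1, Subgroup.coe_mul, Subgroup.coe_mul, Subgroup.coe_inv, hs0g] at hcz
    calc g1 * z * g1⁻¹ = (h : G)⁻¹ * ((h : G) * (g1 * z * g1⁻¹) * (h : G)⁻¹) * (h : G) := by group
      _ = (h : G)⁻¹ * (z * (h : G)) := by rw [hcz]; group
      _ = z := by rw [hhz]; group

end Cfsg.Agent.Lib.Helper1.MonW
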