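import Mathlib
import Cfsg.Agent.Lib.Helper1.MonW12

/-!
# Monster type: the centralizer of a non-central involution of `Q`, modulo that involution, is of
Baby Monster type (assembly)
-/

set_option autoImplicit false
set_option linter.unusedSectionVars false

namespace Cfsg.Agent.Lib.Helper1.MonW

open Cfsg Cfsg.Agent.Lib.Helper1.MonQ Cfsg.Agent.Lib.Helper1.MonT Cfsg.Agent.Lib.Helper1.MonV
  Cfsg.Agent.Lib.Helper1.MonU Cfsg.Agent.Lib.Helper1.LeechAut
open scoped commutatorElement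

variable {G : Type*} [Group G] [Finite G] {z : G}
  (Q : Subgroup (Subgroup.centralizer ({z} : Set G))) [Q.Normal]
  (e : (Subgroup.centralizer ({z} : Set G)) ⧸ Q ≃* Spor.Co1)
  (ψ : leechLattice → Q ⧸ Subgroup.center Q)
  (hψ : IsLeechModTwoIso Q e ψ)
  (hF : generalizedFittingSubgroup (Subgroup.centralizer ({z} : Set G)) = Q)
  (hz2 : orderOf z = 2) (hE : IsExtraspecial 2 Q)
  (t : G) [hn : (Nt t).Normal]
  (t0 : Q) (ht0 : ((t0 : Subgroup.centralizer ({z} : Set G)) : G) = t)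

/-- the image of `z` is not weakly closed in the image of `C_Q(t)` -/
theorem nwc_HH (ht2 : t * t = 1) (g : G) (hgt : g * t = t * g)
    (hc : g * z * g⁻¹ ∈ Subgroup.centralizer ({z} : Set G))
    (hq : (⟨g * z * g⁻¹, hc⟩ : Subgroup.centralizer ({z} : Set G)) ∈ Q)
    (hne : g * z * g⁻¹ ≠ z) (hne' : g * z * g⁻¹ ≠ z * t) :
    ∃ gb : HH t, (∃ hq' : gb * zH z t (hzt_of Q t t0 ht0) * gb⁻¹ ∈
        Subgroup.centralizer ({zH z t (hzt_of Q t t0 ht0)} : Set (HH t)),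
      (⟨gb * zH z t (hzt_of Q t t0 ht0) * gb⁻¹, hq'⟩ :
        Subgroup.centralizer ({zH z t (hzt_of Q t t0 ht0)} : Set (HH t))) ∈ RR Q t t0 ht0) ∧
      gb * zH z t (hzt_of Q t t0 ht0) * gb⁻¹ ≠ zH z t (hzt_of Q t t0 ht0) := by
  have hzt : z * t = t * z := hzt_of Q t t0 ht0
  have hgC : g ∈ Subgroup.centralizer ({t} : Set G) := by
    rw [Subgroup.mem_centralizer_iff]
    intro y hy
    rw [Set.mem_singleton_iff.mp hy]
    exact hgt.symm
  set gC : Subgroup.centralizer ({t} : Set G) := ⟨g, hgC⟩ with hgCdef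
  have hst : g * z * g⁻¹ * t = t * (g * z * g⁻¹) := by
    have hgt' : g⁻¹ * t = t * g⁻¹ := by
      calc g⁻¹ * t = g⁻¹ * (t * g) * g⁻¹ := by group
        _ = g⁻¹ * (g * t) * g⁻¹ := by rw [hgt]
        _ = t * g⁻¹ := by group
    calc g * z * g⁻¹ * t = g * z * (g⁻¹ * t) := by group
      _ = g * (z * t) * g⁻¹ := by rw [hgt']; group
      _ = (g * t) * z * g⁻¹ := by rw [hzt]; group
      _ = t * (g * z * g⁻¹) := by rw [hgt]; group
  have hsz : g * z * g⁻¹ * z = z * (g * z * g⁻¹) :=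
    ((Subgroup.mem_centralizer_iff.mp hc) z (Set.mem_singleton z)).symm
  have hsA : g * z * g⁻¹ ∈ A0 z t := (mem_A0_iff z t _).mpr ⟨hsz, hst⟩
  set sA : A0 z t := ⟨g * z * g⁻¹, hsA⟩ with hsAdef
  have hsQ : (⟨⟨g * z * g⁻¹, hc⟩, hq⟩ : Q) ∈ CQ Q t0 := by
    rw [mem_CQ_iff]
    apply Subtype.ext
    apply Subtype.ext
    show g * z * g⁻¹ * ((t0 : Subgroup.centralizer ({z} : Set G)) : G) =
      ((t0 : Subgroup.centralizer ({z} : Set G)) : G) * (g * z * g⁻¹)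
    rw [ht0]
    exact hst
  set sQ : ↥(CQ Q t0) := ⟨⟨⟨g * z * g⁻¹, hc⟩, hq⟩, hsQ⟩ with hsQdef
  have hjj : jj Q t t0 ht0 sQ = sA := Subtype.ext rfl
  have heq : (QuotientGroup.mk gC : HH t) * zH z t hzt * (QuotientGroup.mk gC : HH t)⁻¹ =
      pi0 z t sA := by
    show (QuotientGroup.mk (gC * toCt z t (zA z t hzt) * gC⁻¹) : HH t) =
      QuotientGroup.mk (toCt z t sA)
    congr 1
  refine ⟨QuotientGroup.mk gC, ⟨?_, ?_⟩, ?_⟩
  · rw [heq]
    exact (rho z t hzt sA).2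
  · apply (mem_RR_iff Q t t0 ht0 _).mpr
    refine ⟨sQ, ?_⟩
    apply Subtype.ext
    rw [rho_coe, hjj]
    exact heq.symm
  · rw [heq]
    intro h
    have h1 : pi0 z t (sA * (zA z t hzt)⁻¹) = 1 := by
      rw [map_mul, map_inv, h]
      exact mul_inv_cancel _
    have h2 := (mem_zpowers_of_sq ht2 _).mp ((pi0_eq_one_iff z t _).mp h1)
    have h3 : ((sA * (zA z t hzt)⁻¹ : A0 z t) : G) = g * z * g⁻¹ * z⁻¹ := rfl
    rw [h3] at h2
    rcases h2 with h4 | h4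
    · apply hne
      calc g * z * g⁻¹ = (g * z * g⁻¹ * z⁻¹) * z := by group
        _ = z := by rw [h4, one_mul]
    · apply hne'
      calc g * z * g⁻¹ = (g * z * g⁻¹ * z⁻¹) * z := by group
        _ = t * z := by rw [h4]
        _ = z * t := hzt.symm

include hψ hF hz2 hE ht0 in
/-- the centralizer of `t` modulo `t` is of Baby Monster type, in standard position -/
theorem baby_std (hcard : Nat.card Q = 2 ^ 25)
    (hnwc : ∃ g : G, (∃ hq : g * z * g⁻¹ ∈ Subgroup.centralizer ({z} : Set G),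
      (⟨g * z * g⁻¹, hq⟩ : Subgroup.centralizer ({z} : Set G)) ∈ Q) ∧ g * z * g⁻¹ ≠ z)
    (hstd : ψ Spor.leechU = QuotientGroup.mk t0)
    (ht2o : orderOf t = 2) (ht : ¬ IsConj z t) : IsOfBabyMonsterType (HH t) := by
  have ht2 : t * t = 1 := by
    have := pow_orderOf_eq_one t
    rwa [ht2o, pow_two] at this
  have ht1 : t ≠ 1 := by
    intro h
    rw [h, orderOf_one] at ht2o
    omega
  have hzt : z * t = t * z := hzt_of Q t t0 ht0
  have hzt' : z ≠ t := fun h => ht (h ▸ IsConj.refl z)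
  have hnc := t0_not_center Q e ψ hψ t0 hstd
  have hnconj := not_conj_zt Q hF hz2 hE t t0 ht0 hnc ht
  have hsurj : Function.Surjective (rho z t (hzt_of Q t t0 ht0)) :=
    rho_surjective z t hzt ht2 hnconj
  have hsurj' := thetaD_surjective Q e ψ hψ hF hz2 hE t t0 ht0 hstd hsurj ht2
  have hRn : (RR Q t t0 ht0).Normal := RR_normal Q t t0 ht0 hsurj
  have hst := RR_struct Q e ψ hψ hF hz2 hE t t0 ht0 hstd hcard ht2 ht1
  obtain ⟨g, hgt, ⟨hgc, hgq⟩, hgz⟩ := exists_conj_in_Ct Q e ψ hψ hF hz2 hE hcard hnwc t0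
    Spor.leechU sqNorm_leechU hstd
  rw [ht0] at hgt
  have hgzt : g * z * g⁻¹ ≠ z * t := by
    intro h
    have hgt' : g⁻¹ * t = t * g⁻¹ := by
      calc g⁻¹ * t = g⁻¹ * (t * g) * g⁻¹ := by group
        _ = g⁻¹ * (g * t) * g⁻¹ := by rw [hgt]
        _ = t * g⁻¹ := by group
    apply hnconj g⁻¹ hgt'
    rw [inv_inv]
    exact h
  refine ⟨zH z t (hzt_of Q t t0 ht0), RR Q t t0 ht0, hRn,
    ⟨orderOf_zH hz2 t hzt ht2 hzt', fstar_D Q e ψ hψ hF hz2 hE t t0 ht0 hstd hcard hsurj ht2 ht1,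
      hst.1, by rw [hst.2.1], nwc_HH Q t t0 ht0 ht2 g hgt hgc hgq hgz hgzt⟩,
    eD Q e ψ hψ t t0 ht0 hstd hsurj ht2 hsurj', psiD Q e ψ hψ hE t t0 ht0 hstd,
    psiD_add Q e ψ hψ hF hz2 hE t t0 ht0 hstd hcard ht2 ht1,
    psiD_surjective Q e ψ hψ hF hz2 hE t t0 ht0 hstd hcard ht2 ht1,
    psiD_eq_one_iff Q e ψ hψ hF hz2 hE t t0 ht0 hstd hcard ht2 ht1, ?_⟩
  intro h g' hg' x y hxy q hq
  exact psiD_equiv Q e ψ hψ hF hz2 hE t t0 ht0 hstd hcard ht2 ht1 hsurj hsurj' h g' hg' x y hxy q hq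

include hψ hF hz2 hE ht0 in
/-- the centralizer of `t` modulo `t` is of Baby Monster type -/
theorem baby (hcard : Nat.card Q = 2 ^ 25)
    (hnwc : ∃ g : G, (∃ hq : g * z * g⁻¹ ∈ Subgroup.centralizer ({z} : Set G),
      (⟨g * z * g⁻¹, hq⟩ : Subgroup.centralizer ({z} : Set G)) ∈ Q) ∧ g * z * g⁻¹ ≠ z)
    (ht2o : orderOf t = 2) (ht : ¬ IsConj z t) : IsOfBabyMonsterType (HH t) := by
  have ht2 : t * t = 1 := by
    have := pow_orderOf_eq_one t
    rwa [ht2o, pow_two] at this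
  have ht1 : t ≠ 1 := by
    intro h
    rw [h, orderOf_one] at ht2o
    omega
  have ht0sq : t0 ^ 2 = 1 := by
    apply Subtype.ext
    apply Subtype.ext
    show ((t0 : Subgroup.centralizer ({z} : Set G)) : G) ^ 2 = 1
    rw [ht0, pow_two, ht2]
  have ht0nc : t0 ∉ Subgroup.center Q := by
    intro hc
    rcases (center_Q_iff Q hF hz2 hE t0).mp hc with h | h
    · apply ht1
      rw [← ht0, h]
      rfl
    · apply ht
      rw [← ht0, h]
      exact IsConj.refl z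
  obtain ⟨vt, hvtn, hvt⟩ := invol_types Q e ψ hψ hF hz2 hE t0 ht0sq ht0nc
  have hvt32 : sqNorm (vt : GolayPt → ℤ) = 32 := by
    rcases hvtn with h | h
    · exact h
    · exfalso
      obtain ⟨hc, _⟩ := type_four_conj Q e ψ hψ hF hz2 hE hcard hnwc t0 vt h hvt
      rw [ht0] at hc
      exact ht hc
  obtain ⟨k0, hk0⟩ := Cfsg.Agent.S0400.result vt Spor.leechU hvt32 sqNorm_leechU
  have hψ' := iso_twist Q e ψ hψ k0
  refine baby_std Q _ _ hψ' hF hz2 hE t t0 ht0 hcard hnwc ?_ ht2o ht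
  show ψ (k0⁻¹ • Spor.leechU) = QuotientGroup.mk t0
  rw [← hk0, inv_smul_smul, hvt]

end Cfsg.Agent.Lib.Helper1.MonW
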