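import Mathlib

set_option autoImplicit false

/-!
# S5956 (PSp on nondegenerate `m`-spaces): basic definition
-/

namespace Cfsg.Agent.Lib.Helper1.NDSp

open Module

/-- `T` fixes a nondegenerate subspace of dimension `m` -/
def FixND {F : Type*} [Field F] {V : Type*} [AddCommGroup V] [Module F V]
    (B : LinearMap.BilinForm F V) (T : V →ₗ[F] V) (m : ℕ) : Prop :=
  ∃ W : Submodule F V, finrank F W = m ∧ (∀ u ∈ W, u ≠ 0 → ∃ v ∈ W, B u v ≠ 0) ∧ W.map T ≤ W

end Cfsg.Agent.Lib.Helper1.NDSp
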