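import Mathlib
import Cfsg.Agent.Lib.Helper1.SpBlk3

set_option autoImplicit false
set_option linter.unusedSectionVars false

/-!
Invariant orthogonal decompositions for an isometry of odd prime order `r ≠ p`.
-/

namespace Cfsg.Agent.Lib.Helper1.SpBlk

open Module Polynomial Cfsg.Agent.H9SemiInv Cfsg.Agent.Lib.Helper9.H9Elus

theorem even_blockDim (i : ℕ) : Even (blockDim i) := by
  unfold blockDim
  split_ifs with h
  · exact h
  · exact even_two_mul i

section orth
variable {F V : Type*} [Field F] [AddCommGroup V] [Module F V] [FiniteDimensional F V]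
variable {B : LinearMap.BilinForm F V}

theorem iSupIndep_of_orth (hB : B.IsAlt) {ι : Type*} (D : ι → Submodule F V)
    (hnd : ∀ j, Nd B (D j)) (horth : ∀ j j', j ≠ j' → D j' ≤ B.orthogonal (D j)) :
    iSupIndep D := by
  rw [iSupIndep_def]
  intro j
  have h1 : (⨆ k, ⨆ (_ : k ≠ j), D k) ≤ B.orthogonal (D j) :=
    iSup_le fun k => iSup_le fun hk => horth j k (Ne.symm hk)
  exact ((hnd j).disjoint hB).mono_right h1

end orth

section finite
variable {F V : Type*} [Field F] [Fintype F] {p : ℕ} [Fact p.Prime] [CharP F p]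
  [AddCommGroup V] [Module F V] [FiniteDimensional F V]
variable {B : LinearMap.BilinForm F V}

theorem dvd_finrank_inf_movK (hB : B.IsAlt) (r : ℕ) [Fact r.Prime] (hrp : r ≠ p) (hr2 : r ≠ 2)
    (T : V →ₗ[F] V) (hT : ∀ u v, B (T u) (T v) = B u v) (hTr : T ^ r = 1)
    {M : Submodule F V} (hM : Nd B M) (hMinv : Inv T M) :
    blockDim (orderOf ((Fintype.card F : ℕ) : ZMod r)) ∣ finrank F ↥(M ⊓ movK r T) :=
  (exists_nd_of_dvd hB T hT (Fact.out : r.Prime).pos hTr (movK r T) _ (blockDim_pos r hrp)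
    (fun _ hNS hN hNinv hne => exists_block hB r hrp hr2 T hT hTr hNS hN hNinv hne) _
    (M ⊓ movK r T) inf_le_right (nd_inf_movK hB r hrp T hT hTr hM hMinv)
    (hMinv.inf (inv_movK r T)) rfl).1

/-- sub-blocks with prescribed fixed and moved dimensions -/
theorem exists_sub (hB : B.IsAlt) (r : ℕ) [Fact r.Prime] (hrp : r ≠ p) (hr2 : r ≠ 2)
    (T : V →ₗ[F] V) (hT : ∀ u v, B (T u) (T v) = B u v) (hTr : T ^ r = 1)
    {M : Submodule F V} (hM : Nd B M) (hMinv : Inv T M) (f g : ℕ) (hf : Even f)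
    (hfε : f ≤ finrank F ↥(M ⊓ fixE T))
    (hg : blockDim (orderOf ((Fintype.card F : ℕ) : ZMod r)) ∣ g)
    (hgκ : g ≤ finrank F ↥(M ⊓ movK r T)) :
    ∃ D : Submodule F V, D ≤ M ∧ Nd B D ∧ Inv T D ∧ finrank F ↥(D ⊓ fixE T) = f ∧
      finrank F D = f + g := by
  have hr : 0 < r := (Fact.out : r.Prime).pos
  obtain ⟨DE, hDEle, hDE, hDEinv, hDEfin⟩ :=
    (exists_nd_of_dvd hB T hT hr hTr (fixE T) 2 (by norm_num)
      (fun N hNS hN _ hne => by
        obtain ⟨P, hPN, hP, hPfin⟩ := hN.exists_plane hB hne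
        exact ⟨P, hPN, hP, inv_of_le_fixE (hPN.trans hNS), hPfin⟩) _
      (M ⊓ fixE T) inf_le_right (nd_inf_fixE r hrp T hT hTr hM hMinv)
      (hMinv.inf (inv_fixE T)) rfl).2 f (even_iff_two_dvd.1 hf) hfε
  obtain ⟨DK, hDKle, hDK, hDKinv, hDKfin⟩ :=
    (exists_nd_of_dvd hB T hT hr hTr (movK r T) _ (blockDim_pos r hrp)
      (fun _ hNS hN hNinv hne => exists_block hB r hrp hr2 T hT hTr hNS hN hNinv hne) _
      (M ⊓ movK r T) inf_le_right (nd_inf_movK hB r hrp T hT hTr hM hMinv)
      (hMinv.inf (inv_movK r T)) rfl).2 g hg hgκ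
  have hdis : Disjoint DE DK :=
    (disjoint_fixE_movK r hrp T hTr).mono (hDEle.trans inf_le_right) (hDKle.trans inf_le_right)
  refine ⟨DE ⊔ DK, sup_le (hDEle.trans inf_le_left) (hDKle.trans inf_le_left), ?_,
    hDEinv.sup hDKinv, ?_, ?_⟩
  · apply hDE.sup hB hDK
    intro v hv u hu
    exact fixE_orth_movK r hrp T hT (hDEle hu).2 (hDKle hv).2
  · rw [sup_inf_fixE T hDEinv hDKinv hdis]
    have h1 : DE ⊓ fixE T = DE := inf_eq_left.2 (hDEle.trans inf_le_right)
    have h2 : DK ⊓ fixE T = ⊥ := by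
      rw [eq_bot_iff]
      intro x hx
      have : x ∈ fixE T ⊓ movK r T := ⟨hx.2, (hDKle hx.1).2⟩
      rwa [(disjoint_fixE_movK r hrp T hTr).eq_bot] at this
    rw [h1, h2, sup_bot_eq, hDEfin]
  · rw [finrank_sup_of_disjoint hdis, hDEfin, hDKfin]

/-- peeling off invariant nondegenerate summands of dimension `a` -/
theorem exists_decomp (hB : B.IsAlt) (r : ℕ) [Fact r.Prime] (hrp : r ≠ p) (hr2 : r ≠ 2)
    (T : V →ₗ[F] V) (hT : ∀ u v, B (T u) (T v) = B u v) (hTr : T ^ r = 1)
    (a : ℕ) (hae : Even a) :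
    ∀ t : ℕ, ∀ M : Submodule F V, Nd B M → Inv T M → finrank F M = t * a →
      t * (a % blockDim (orderOf ((Fintype.card F : ℕ) : ZMod r))) ≤ finrank F ↥(M ⊓ fixE T) →
      ∃ D : Fin t → Submodule F V, (∀ j, D j ≤ M) ∧ (∀ j, Nd B (D j)) ∧ (∀ j, Inv T (D j)) ∧
        (∀ j, finrank F (D j) = a) ∧ (∀ j j', j ≠ j' → D j' ≤ B.orthogonal (D j)) ∧
        iSup D = M := by
  have hr : 0 < r := (Fact.out : r.Prime).pos
  set c := blockDim (orderOf ((Fintype.card F : ℕ) : ZMod r)) with hc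
  have hcpos : 0 < c := blockDim_pos r hrp
  have hceven : Even c := even_blockDim _
  intro t
  induction t with
  | zero =>
    intro M _ _ hfin _
    rw [zero_mul] at hfin
    have hM0 : M = ⊥ := Submodule.finrank_eq_zero.1 hfin
    refine ⟨fun j => j.elim0, fun j => j.elim0, fun j => j.elim0, fun j => j.elim0,
      fun j => j.elim0, fun j => j.elim0, ?_⟩
    rw [hM0, iSup_of_empty]
  | succ t ih =>
    intro M hM hMinv hfin hε
    set ε := finrank F ↥(M ⊓ fixE T) with hεdef
    set κ := finrank F ↥(M ⊓ movK r T) with hκdef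
    have hεκ : ε + κ = (t + 1) * a := by rw [← hfin]; exact finrank_inf_fixE_add r hrp T hTr hMinv
    have hcκ : c ∣ κ := dvd_finrank_inf_movK hB r hrp hr2 T hT hTr hM hMinv
    set ℓ := a % c with hℓ
    set a' := a / c with ha'
    have hdiv : c * a' + ℓ = a := Nat.div_add_mod a c
    have hta : (t + 1) * a = t * a + a := by ring
    have htl : (t + 1) * ℓ = t * ℓ + ℓ := by ring
    rw [htl] at hε
    have hℓa : ℓ ≤ a := Nat.mod_le a c
    have htℓa : t * ℓ ≤ t * a := Nat.mul_le_mul_left t hℓa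
    -- choose g, f
    obtain ⟨g, hcg, hgκ, hga, hcase⟩ : ∃ g, c ∣ g ∧ g ≤ κ ∧ g ≤ a ∧
        ((g = c * a') ∨ (g = κ ∧ κ < c * a')) := by
      by_cases hle : c * a' ≤ κ
      · exact ⟨c * a', dvd_mul_right c a', hle, by omega, Or.inl rfl⟩
      · exact ⟨κ, hcκ, le_refl _, by omega, Or.inr ⟨rfl, by omega⟩⟩
    have hgeven : Even g := by
      obtain ⟨k, hk⟩ := hcg
      rw [hk]
      exact hceven.mul_right k
    have hfeven : Even (a - g) := (Nat.even_sub hga).2 ⟨fun _ => hgeven, fun _ => hae⟩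
    have hfε : a - g ≤ ε := by
      rcases hcase with h1 | ⟨h1, h2⟩
      · omega
      · omega
    obtain ⟨D₀, hD₀M, hD₀, hD₀inv, hD₀ε, hD₀fin⟩ :=
      exists_sub hB r hrp hr2 T hT hTr hM hMinv (a - g) g hfeven hfε hcg hgκ
    have hD₀a : finrank F D₀ = a := by omega
    set M' := M ⊓ B.orthogonal D₀ with hM'
    have hM'nd : Nd B M' := hM.inf_orthogonal hB hD₀ hD₀M
    have hM'inv : Inv T M' := hMinv.inf (inv_orthogonal hT hr hTr hD₀inv)
    have hsum := hD₀.finrank_inf_orthogonal_self hB hD₀M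
    have hM'fin : finrank F M' = t * a := by
      have : finrank F M' = finrank F ↥(M ⊓ B.orthogonal D₀) := rfl
      omega
    have hdis : Disjoint D₀ M' := hD₀.disjoint_inf_orthogonal hB M
    have hsup : D₀ ⊔ M' = M := hD₀.sup_inf_orthogonal hB hD₀M
    have hεadd := finrank_sup_inf_fixE T hD₀inv hM'inv hdis
    rw [hsup] at hεadd
    have hε' : t * ℓ ≤ finrank F ↥(M' ⊓ fixE T) := by
      have h3 : ε = finrank F ↥(D₀ ⊓ fixE T) + finrank F ↥(M' ⊓ fixE T) := hεadd
      rcases hcase with h1 | ⟨h1, h2⟩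
      · omega
      · omega
    obtain ⟨D', hD'M', hD'nd, hD'inv, hD'fin, hD'orth, hD'sup⟩ := ih M' hM'nd hM'inv hM'fin hε'
    set D : Fin (t + 1) → Submodule F V :=
      fun j => Fin.cases (motive := fun _ => Submodule F V) D₀ D' j with hD
    have hD0 : D 0 = D₀ := rfl
    have hDs : ∀ k : Fin t, D k.succ = D' k := fun k => by simp [hD]
    refine ⟨D, ?_, ?_, ?_, ?_, ?_, ?_⟩
    · intro j
      refine Fin.cases ?_ (fun k => ?_) j
      · exact hD₀M
      · rw [hDs]; exact (hD'M' k).trans inf_le_left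
    · intro j
      refine Fin.cases ?_ (fun k => ?_) j
      · exact hD₀
      · rw [hDs]; exact hD'nd k
    · intro j
      refine Fin.cases ?_ (fun k => ?_) j
      · exact hD₀inv
      · rw [hDs]; exact hD'inv k
    · intro j
      refine Fin.cases ?_ (fun k => ?_) j
      · exact hD₀a
      · rw [hDs]; exact hD'fin k
    · intro j j'
      refine Fin.cases ?_ (fun k => ?_) j
      · refine Fin.cases ?_ (fun k' => ?_) j'
        · intro h; exact absurd rfl h
        · intro _
          rw [hDs, hD0]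
          exact (hD'M' k').trans inf_le_right
      · refine Fin.cases ?_ (fun k' => ?_) j'
        · intro _
          rw [hDs, hD0]
          intro v hv u hu
          show B u v = 0
          rw [alt_swap hB]
          rw [(hD'M' k hu).2 v hv, neg_zero]
        · intro h
          rw [hDs, hDs]
          exact hD'orth k k' (fun h' => h (by rw [h']))
    · apply le_antisymm
      · apply iSup_le
        intro j
        refine Fin.cases ?_ (fun k => ?_) j
        · exact hD₀M
        · rw [hDs]; exact (hD'M' k).trans inf_le_left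
      · rw [← hsup]
        apply sup_le
        · exact le_iSup D 0
        · rw [← hD'sup]
          apply iSup_le
          intro k
          rw [← hDs]
          exact le_iSup D k.succ

/-- an invariant orthogonal decomposition of the whole space -/
theorem exists_full_decomp (hB : B.IsAlt) (hnd : Nd B ⊤) (r : ℕ) [Fact r.Prime] (hrp : r ≠ p)
    (hr2 : r ≠ 2) (T : V →ₗ[F] V) (hT : ∀ u v, B (T u) (T v) = B u v) (hTr : T ^ r = 1)
    (a t : ℕ) (hae : Even a) (hdim : finrank F V = t * a)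
    (hcond : finrank F V % blockDim (orderOf ((Fintype.card F : ℕ) : ZMod r)) =
      t * (a % blockDim (orderOf ((Fintype.card F : ℕ) : ZMod r)))) :
    ∃ D : Fin t → Submodule F V, (∀ j, Nd B (D j)) ∧ (∀ j, Inv T (D j)) ∧
      (∀ j, finrank F (D j) = a) ∧ (∀ j j', j ≠ j' → D j' ≤ B.orthogonal (D j)) ∧
      iSup D = ⊤ := by
  have hinv : Inv T (⊤ : Submodule F V) := fun _ _ => Submodule.mem_top
  have hfin : finrank F (⊤ : Submodule F V) = t * a := by rw [finrank_top, hdim]
  have h1 := finrank_inf_fixE_add r hrp T hTr hinv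
  have h2 := dvd_finrank_inf_movK hB r hrp hr2 T hT hTr hnd hinv
  rw [finrank_top] at h1
  have h3 : t * (a % blockDim (orderOf ((Fintype.card F : ℕ) : ZMod r))) ≤
      finrank F ↥((⊤ : Submodule F V) ⊓ fixE T) := by
    rw [← hcond]
    obtain ⟨k, hk⟩ := h2
    have h4 : finrank F V % blockDim (orderOf ((Fintype.card F : ℕ) : ZMod r)) =
        finrank F ↥((⊤ : Submodule F V) ⊓ fixE T) %
          blockDim (orderOf ((Fintype.card F : ℕ) : ZMod r)) := by
      rw [← h1, hk, Nat.add_mul_mod_self_left]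
    rw [h4]
    exact Nat.mod_le _ _
  obtain ⟨D, -, hDnd, hDinv, hDfin, hDorth, hDsup⟩ :=
    exists_decomp hB r hrp hr2 T hT hTr a hae t ⊤ hnd hinv hfin h3
  exact ⟨D, hDnd, hDinv, hDfin, hDorth, hDsup⟩

end finite

end Cfsg.Agent.Lib.Helper1.SpBlk
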