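import Mathlib
import Cfsg.Agent.Lib.Helper1.SpBlk4

set_option autoImplicit false
set_option linter.unusedSectionVars false

/-!
An isometry of odd prime order permuting the summands of an orthogonal decomposition:
nontrivial cycles force a large moved part and a large fixed space.
-/

namespace Cfsg.Agent.Lib.Helper1.SpBlk

open Module Polynomial Cfsg.Agent.H9SemiInv Cfsg.Agent.Lib.Helper9.H9Elus

section general
variable {F V : Type*} [Field F] [AddCommGroup V] [Module F V] [FiniteDimensional F V]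
variable {B : LinearMap.BilinForm F V}

/-- an orthogonal decomposition into nondegenerate subspaces of dimension `a` -/
structure OD (B : LinearMap.BilinForm F V) (a : ℕ) {t : ℕ} (D : Fin t → Submodule F V) : Prop where
  nd : ∀ j, Nd B (D j)
  orth : ∀ j j', j ≠ j' → D j' ≤ B.orthogonal (D j)
  sup : iSup D = ⊤
  fin : ∀ j, finrank F (D j) = a

variable {a t : ℕ} {D : Fin t → Submodule F V}

theorem OD.indep (hB : B.IsAlt) (h : OD B a D) : iSupIndep D :=
  iSupIndep_of_orth hB D h.nd h.orth

theorem OD.ne_bot (h : OD B a D) (ha : 0 < a) (j : Fin t) : D j ≠ ⊥ := by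
  intro h0
  have := h.fin j
  rw [h0, finrank_bot] at this
  omega

theorem OD.injective (hB : B.IsAlt) (h : OD B a D) (ha : 0 < a) : Function.Injective D :=
  (h.indep hB).injective (h.ne_bot ha)

/-- a vector orthogonal to all summands is zero -/
theorem OD.eq_zero (hB : B.IsAlt) (hnd : Nd B ⊤) (h : OD B a D) {v : V}
    (hv : ∀ k, ∀ w ∈ D k, B w v = 0) : v = 0 := by
  apply hnd v Submodule.mem_top
  intro w _
  have h1 : iSup D ≤ LinearMap.ker (LinearMap.flip B v) := by
    apply iSup_le
    intro k w hw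
    rw [LinearMap.mem_ker, LinearMap.flip_apply]
    exact hv k w hw
  have h2 : w ∈ LinearMap.ker (LinearMap.flip B v) := h1 (by rw [h.sup]; exact Submodule.mem_top)
  rw [LinearMap.mem_ker, LinearMap.flip_apply] at h2
  rw [alt_swap hB, h2, neg_zero]

variable {T : V →ₗ[F] V} {σ : Equiv.Perm (Fin t)}

theorem map_pow_eq (hσ : ∀ j, (D j).map T = D (σ j)) (m : ℕ) (j : Fin t) :
    (D j).map (T ^ m) = D ((σ ^ m) j) := by
  induction m with
  | zero =>
    rw [pow_zero, pow_zero, Module.End.one_eq_id, Submodule.map_id, Equiv.Perm.one_apply]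
  | succ m ih =>
    rw [pow_succ', pow_succ', Module.End.mul_eq_comp, Submodule.map_comp, ih, hσ,
      Equiv.Perm.mul_apply]

theorem pow_apply_mem (hσ : ∀ j, (D j).map T = D (σ j)) (m : ℕ) (j : Fin t) {w : V}
    (hw : w ∈ D j) : (T ^ m) w ∈ D ((σ ^ m) j) := by
  rw [← map_pow_eq hσ m j]
  exact Submodule.mem_map_of_mem hw

theorem perm_pow_eq (hB : B.IsAlt) (h : OD B a D) (ha : 0 < a)
    (hσ : ∀ j, (D j).map T = D (σ j)) {r : ℕ} (hTr : T ^ r = 1) (j : Fin t) :
    (σ ^ r) j = j := by
  apply h.injective hB ha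
  rw [← map_pow_eq hσ r j, hTr]
  exact Submodule.map_id _

theorem perm_pow_ne (hB : B.IsAlt) (h : OD B a D) (ha : 0 < a)
    (hσ : ∀ j, (D j).map T = D (σ j)) {r : ℕ} (hr : r.Prime) (hTr : T ^ r = 1) {j : Fin t}
    (hj : σ j ≠ j) {m : ℕ} (hm0 : 0 < m) (hmr : m < r) : (σ ^ m) j ≠ j := by
  intro hm
  have h1 : Function.IsPeriodicPt σ m j := by
    show (⇑σ)^[m] j = j
    rw [Equiv.Perm.iterate_eq_pow]; exact hm
  have h2 : Function.IsPeriodicPt σ r j := by
    show (⇑σ)^[r] j = j
    rw [Equiv.Perm.iterate_eq_pow]; exact perm_pow_eq hB h ha hσ hTr j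
  have h3 := h1.gcd h2
  have h4 : Nat.gcd m r = 1 :=
    Nat.Coprime.symm ((Nat.Prime.coprime_iff_not_dvd hr).2 (Nat.not_dvd_of_pos_of_lt hm0 hmr))
  rw [h4] at h3
  exact hj h3

theorem perm_pow_inj (hB : B.IsAlt) (h : OD B a D) (ha : 0 < a)
    (hσ : ∀ j, (D j).map T = D (σ j)) {r : ℕ} (hr : r.Prime) (hTr : T ^ r = 1) {j : Fin t}
    (hj : σ j ≠ j) {m m' : ℕ} (hm : m < r) (hm' : m' < r) (heq : (σ ^ m) j = (σ ^ m') j) :
    m = m' := by
  by_contra hne
  have key : ∀ m m' : ℕ, m < m' → m' < r → (σ ^ m) j = (σ ^ m') j → False := by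
    intro m m' hlt hm' heq
    have h1 : m' = m + (m' - m) := by omega
    rw [h1, pow_add, Equiv.Perm.mul_apply] at heq
    have h2 := (σ ^ m).injective heq
    exact perm_pow_ne hB h ha hσ hr hTr hj (by omega) (by omega) h2.symm
  rcases Nat.lt_or_gt_of_ne hne with h1 | h1
  · exact key m m' h1 hm' heq
  · exact key m' m h1 hm heq.symm

theorem pow_apply_fixE {v : V} (hv : v ∈ fixE T) (n : ℕ) : (T ^ n) v = v := by
  induction n with
  | zero => simp
  | succ n ih => rw [pow_succ, Module.End.mul_apply, (mem_fixE T v).1 hv, ih]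

end general

section finite
variable {F V : Type*} [Field F] [Fintype F] {p : ℕ} [Fact p.Prime] [CharP F p]
  [AddCommGroup V] [Module F V] [FiniteDimensional F V]
variable {B : LinearMap.BilinForm F V}
variable {a t : ℕ} {D : Fin t → Submodule F V} {T : V →ₗ[F] V} {σ : Equiv.Perm (Fin t)}

theorem finrank_fixE_add_movK (r : ℕ) [Fact r.Prime] (hrp : r ≠ p) (hTr : T ^ r = 1) :
    finrank F (fixE T) + finrank F (movK r T) = finrank F V := by
  have h1 := finrank_inf_fixE_add r hrp T hTr (M := ⊤) (fun _ _ => Submodule.mem_top)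
  rw [top_inf_eq, top_inf_eq, finrank_top] at h1
  exact h1

/-- a nontrivial cycle forces a large moved part -/
theorem le_finrank_movK_of_moved (hB : B.IsAlt) (hnd : Nd B ⊤) (h : OD B a D) (ha : 0 < a)
    (hT : ∀ u v, B (T u) (T v) = B u v) (hσ : ∀ j, (D j).map T = D (σ j))
    (r : ℕ) [Fact r.Prime] (hrp : r ≠ p) (hTr : T ^ r = 1) {j : Fin t} (hj : σ j ≠ j) :
    (r - 1) * a ≤ finrank F (movK r T) := by
  classical
  have hr : r.Prime := Fact.out
  set O : Finset (Fin t) := (Finset.range (r - 1)).image (fun m => (σ ^ m) j) with hO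
  have hOcard : O.card = r - 1 := by
    rw [hO, Finset.card_image_of_injOn, Finset.card_range]
    intro m hm m' hm' heq
    have h1 := Finset.mem_range.1 (Finset.mem_coe.1 hm)
    have h2 := Finset.mem_range.1 (Finset.mem_coe.1 hm')
    exact perm_pow_inj hB h ha hσ hr hTr hj (by omega) (by omega) heq
  have hlast : (σ ^ (r - 1)) j ∉ O := by
    intro hmem
    obtain ⟨m, hm, heq⟩ := Finset.mem_image.1 hmem
    have h1 := Finset.mem_range.1 hm
    have h2 := perm_pow_inj hB h ha hσ hr hTr hj (by omega) (by have := hr.pos; omega) heq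
    omega
  set S' := ⨆ l ∈ O, D l with hS'
  have hS'fin : finrank F S' = (r - 1) * a := by
    rw [hS', finrank_biSup D (h.indep hB) a h.fin O, hOcard]
  have hdis : Disjoint S' (fixE T) := by
    rw [Submodule.disjoint_def]
    intro v hvS hvE
    apply h.eq_zero hB hnd
    have hvO : ∀ k', k' ∉ O → ∀ w ∈ D k', B w v = 0 := by
      intro k' hk' w hw
      have h1 : S' ≤ B.orthogonal (D k') := by
        apply iSup₂_le
        intro l hl
        apply h.orth k' l
        rintro rfl
        exact hk' hl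
      exact h1 hvS w hw
    intro k w hw
    have hex : ∃ n, (σ ^ n) k ∉ O := by
      by_cases hk : k ∈ O
      · obtain ⟨m, hm, rfl⟩ := Finset.mem_image.1 hk
        have h1 := Finset.mem_range.1 hm
        refine ⟨r - 1 - m, ?_⟩
        rw [← Equiv.Perm.mul_apply, ← pow_add]
        have : r - 1 - m + m = r - 1 := by omega
        rw [this]
        exact hlast
      · exact ⟨0, by rw [pow_zero, Equiv.Perm.one_apply]; exact hk⟩
    obtain ⟨n, hn⟩ := hex
    rw [← isom_pow hT n w v, pow_apply_fixE hvE n]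
    exact hvO _ hn _ (pow_apply_mem hσ n k hw)
  have h1 : finrank F ↥(S' ⊔ fixE T) = finrank F S' + finrank F (fixE T) :=
    finrank_sup_of_disjoint hdis
  have h2 : finrank F ↥(S' ⊔ fixE T) ≤ finrank F V := Submodule.finrank_le _
  have h3 := finrank_fixE_add_movK (T := T) r hrp hTr
  omega

/-- a nontrivial cycle forces a large fixed space -/
theorem le_finrank_fixE_of_moved (hB : B.IsAlt) (h : OD B a D) (ha : 0 < a)
    (hσ : ∀ j, (D j).map T = D (σ j))
    {r : ℕ} (hr : r.Prime) (hTr : T ^ r = 1) {j : Fin t} (hj : σ j ≠ j) :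
    a ≤ finrank F (fixE T) := by
  set N : V →ₗ[F] V := ∑ m ∈ Finset.range r, T ^ m with hN
  have hTN : ∀ v, N v ∈ fixE T := by
    intro v
    rw [mem_fixE]
    have h1 : (T - 1) * N = 0 := by rw [hN, mul_geom_sum, hTr, sub_self]
    have h2 : ((T - 1) * N) v = 0 := by rw [h1]; rfl
    rw [Module.End.mul_apply, LinearMap.sub_apply, Module.End.one_apply, sub_eq_zero] at h2
    exact h2
  set f : D j →ₗ[F] V := N.domRestrict (D j) with hf
  have hinj : Function.Injective f := by
    rw [← LinearMap.ker_eq_bot, LinearMap.ker_eq_bot']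
    intro v hv
    apply Subtype.ext
    apply h.nd j v v.2
    intro u hu
    have h1 : N (v : V) = 0 := hv
    have h2 : B (N (v : V)) u = B (v : V) u := by
      rw [hN, LinearMap.sum_apply, map_sum, LinearMap.sum_apply]
      rw [Finset.sum_eq_single 0]
      · rw [pow_zero, Module.End.one_apply]
      · intro m hm hm0
        have hmr := Finset.mem_range.1 hm
        have hne : (σ ^ m) j ≠ j :=
          perm_pow_ne hB h ha hσ hr hTr hj (Nat.pos_of_ne_zero hm0) hmr
        exact h.orth _ _ hne hu _ (pow_apply_mem hσ m j v.2)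
      · intro h0
        exact absurd (Finset.mem_range.2 hr.pos) h0
    rw [← h2, h1, map_zero, LinearMap.zero_apply]
  have h1 : finrank F (D j) = finrank F (LinearMap.range f) :=
    (LinearMap.finrank_range_of_inj hinj).symm
  have h2 : LinearMap.range f ≤ fixE T := by
    rintro _ ⟨v, rfl⟩
    exact hTN _
  have h3 := Submodule.finrank_mono h2
  rw [← h.fin j]
  omega

theorem inv_of_perm_fix (hσ : ∀ j, (D j).map T = D (σ j)) (hfix : ∀ j, σ j = j) (j : Fin t) :
    Inv T (D j) := by
  rw [inv_iff, hσ j, hfix j]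

/-- one block: the block dimension is at most `a` -/
theorem blockDim_le_of_one_block (hB : B.IsAlt) (hnd : Nd B ⊤) (h : OD B a D) (ha : 0 < a)
    (hT : ∀ u v, B (T u) (T v) = B u v) (hσ : ∀ j, (D j).map T = D (σ j))
    (r : ℕ) [Fact r.Prime] (hrp : r ≠ p) (hr2 : r ≠ 2) (hTr : T ^ r = 1)
    (hκpos : 0 < finrank F (movK r T)) (hκlt : finrank F (movK r T) < (r - 1) * a) :
    blockDim (orderOf ((Fintype.card F : ℕ) : ZMod r)) ≤ a := by
  have hfix : ∀ j, σ j = j := by
    intro j
    by_contra hj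
    have := le_finrank_movK_of_moved hB hnd h ha hT hσ r hrp hTr hj
    omega
  have hinv := inv_of_perm_fix hσ hfix
  have hex : ∃ j, D j ⊓ movK r T ≠ ⊥ := by
    by_contra hcon
    push Not at hcon
    have h1 : ∀ j, D j ≤ fixE T := by
      intro j
      have h2 := inf_fixE_sup_inf_movK r hrp T hTr (hinv j)
      rw [hcon j, sup_bot_eq] at h2
      rw [← h2]
      exact inf_le_right
    have h3 : (⊤ : Submodule F V) ≤ fixE T := by
      rw [← h.sup]
      exact iSup_le h1
    have h4 : movK r T ≤ fixE T ⊓ movK r T := le_inf (le_top.trans h3) le_rfl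
    rw [(disjoint_fixE_movK r hrp T hTr).eq_bot, le_bot_iff] at h4
    rw [h4, finrank_bot] at hκpos
    omega
  obtain ⟨j, hj⟩ := hex
  have hdvd := dvd_finrank_inf_movK hB r hrp hr2 T hT hTr (h.nd j) (hinv j)
  have hpos : 0 < finrank F ↥(D j ⊓ movK r T) := by
    rw [Nat.pos_iff_ne_zero]
    intro h0
    exact hj (Submodule.finrank_eq_zero.1 h0)
  have h5 := Nat.le_of_dvd hpos hdvd
  have h6 : finrank F ↥(D j ⊓ movK r T) ≤ finrank F (D j) := Submodule.finrank_mono inf_le_left
  rw [h.fin j] at h6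
  omega

/-- small fixed space: `t * (a % c)` is at most its dimension -/
theorem mul_mod_le_of_small_fix (hB : B.IsAlt) (h : OD B a D) (ha : 0 < a)
    (hT : ∀ u v, B (T u) (T v) = B u v) (hσ : ∀ j, (D j).map T = D (σ j))
    (r : ℕ) [Fact r.Prime] (hrp : r ≠ p) (hr2 : r ≠ 2) (hTr : T ^ r = 1)
    (hεlt : finrank F (fixE T) < a) :
    t * (a % blockDim (orderOf ((Fintype.card F : ℕ) : ZMod r))) ≤ finrank F (fixE T) := by
  classical
  have hr : r.Prime := Fact.out
  have hfix : ∀ j, σ j = j := by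
    intro j
    by_contra hj
    have := le_finrank_fixE_of_moved hB h ha hσ hr hTr hj
    omega
  have hinv := inv_of_perm_fix hσ hfix
  set c := blockDim (orderOf ((Fintype.card F : ℕ) : ZMod r)) with hc
  have hmod : ∀ j, a % c ≤ finrank F ↥(D j ⊓ fixE T) := by
    intro j
    have h1 := finrank_inf_fixE_add r hrp T hTr (hinv j)
    rw [h.fin j] at h1
    obtain ⟨k, hk⟩ := dvd_finrank_inf_movK hB r hrp hr2 T hT hTr (h.nd j) (hinv j)
    have h2 : a % c = finrank F ↥(D j ⊓ fixE T) % c := by
      rw [← h1, hk, Nat.add_mul_mod_self_left]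
    rw [h2]
    exact Nat.mod_le _ _
  have hex : ∀ j, ∃ U : Submodule F V, U ≤ D j ⊓ fixE T ∧ finrank F U = a % c :=
    fun j => exists_sub_finrank _ _ (hmod j)
  choose U hUle hUfin using hex
  have hUindep : iSupIndep U := (h.indep hB).mono (fun j => (hUle j).trans inf_le_left)
  have h1 := finrank_biSup U hUindep (a % c) hUfin Finset.univ
  rw [Finset.card_univ, Fintype.card_fin] at h1
  have h2 : (⨆ j ∈ (Finset.univ : Finset (Fin t)), U j) ≤ fixE T :=
    iSup₂_le fun j _ => (hUle j).trans inf_le_right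
  have h3 := Submodule.finrank_mono h2
  omega

end finite

end Cfsg.Agent.Lib.Helper1.SpBlk
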