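import Mathlib
import Cfsg.Agent.Lib.Helper1.SpBlk5
import Cfsg.Agent.Lib.Helper9.Elus6
import Cfsg.Agent.Lib.Helper7.CarveL5
import Cfsg.Agent.Lib.Helper2.SpIsom
import Cfsg.Agent.S0245

set_option autoImplicit false
set_option linter.unusedSectionVars false

/-!
Model elements of odd prime order `r ≠ p` in `Sp_{2d}(F)` with a prescribed number of blocks.
-/

namespace Cfsg.Agent.Lib.Helper1.SpBlk

open Module Polynomial Cfsg.Agent.H9SemiInv Cfsg.Agent.Lib.Helper9.H9Elus
  Cfsg.Agent.Lib.Helper2.SpIsom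

universe u

section prod
variable {F : Type*} [Field F] {W₁ W₂ : Type*} [AddCommGroup W₁] [Module F W₁]
  [AddCommGroup W₂] [Module F W₂]

/-- the product of two submodules is linearly equivalent to the product type -/
def prodSubEquiv (p : Submodule F W₁) (q : Submodule F W₂) : ↥(p.prod q) ≃ₗ[F] (p × q) where
  toFun x := (⟨x.1.1, x.2.1⟩, ⟨x.1.2, x.2.2⟩)
  invFun y := ⟨(y.1.1, y.2.1), ⟨y.1.2, y.2.2⟩⟩
  map_add' _ _ := rfl
  map_smul' _ _ := rfl
  left_inv _ := rfl
  right_inv _ := rfl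

theorem finrank_prod_sub [FiniteDimensional F W₁] [FiniteDimensional F W₂]
    (p : Submodule F W₁) (q : Submodule F W₂) :
    finrank F ↥(p.prod q) = finrank F p + finrank F q := by
  rw [(prodSubEquiv p q).finrank_eq, Module.finrank_prod]

theorem ker_prodMap_sub_one (T₁ : W₁ →ₗ[F] W₁) (T₂ : W₂ →ₗ[F] W₂) :
    LinearMap.ker (T₁.prodMap T₂ - 1) =
      (LinearMap.ker (T₁ - 1)).prod (LinearMap.ker (T₂ - 1)) := by
  have h1 : T₁.prodMap T₂ - 1 = (T₁ - 1).prodMap (T₂ - 1) := by
    apply LinearMap.ext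
    intro x
    rfl
  rw [h1, LinearMap.ker_prodMap]

end prod

/-- an abstract symplectic space of dimension `2 n` with an isometry of order dividing `r` whose
fixed space has dimension `ε`. -/
def HasModel (F : Type u) [Field F] (r n ε : ℕ) : Prop :=
  ∃ (W : Type u) (_ : AddCommGroup W) (_ : Module F W) (_ : FiniteDimensional F W)
    (B : LinearMap.BilinForm F W) (T : W →ₗ[F] W), B.IsAlt ∧
    (∀ x, (∀ y, B x y = 0) → x = 0) ∧ finrank F W = 2 * n ∧
    (∀ x y, B (T x) (T y) = B x y) ∧ T ^ r = 1 ∧ finrank F (LinearMap.ker (T - 1)) = ε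

section models
variable {F : Type u} [Field F]

theorem finrank_std (n : ℕ) : finrank F (Fin n ⊕ Fin n → F) = 2 * n := by
  rw [Module.finrank_fintype_fun_eq_card, Fintype.card_sum, Fintype.card_fin]
  ring

theorem hasModel_triv (r n : ℕ) : HasModel F r n (2 * n) := by
  refine ⟨(Fin n ⊕ Fin n → F), inferInstance, inferInstance, inferInstance, sympBilin n F, 1,
    sympBilin_isAlt, ?_, finrank_std n, fun _ _ => rfl, one_pow r, ?_⟩
  · intro x hx
    apply sympForm_nondeg x
    intro y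
    rw [← sympBilin_apply]
    exact hx y
  · rw [sub_self, LinearMap.ker_zero, finrank_top, finrank_std]

theorem hasModel_prod {r n₁ n₂ ε₁ ε₂ : ℕ} (h₁ : HasModel F r n₁ ε₁) (h₂ : HasModel F r n₂ ε₂) :
    HasModel F r (n₁ + n₂) (ε₁ + ε₂) := by
  obtain ⟨W₁, i1, i2, i3, B₁, T₁, hB₁, hnd₁, hfin₁, hT₁, hTr₁, hε₁⟩ := h₁
  obtain ⟨W₂, j1, j2, j3, B₂, T₂, hB₂, hnd₂, hfin₂, hT₂, hTr₂, hε₂⟩ := h₂
  set B : LinearMap.BilinForm F (W₁ × W₂) :=
    B₁.comp (LinearMap.fst F W₁ W₂) (LinearMap.fst F W₁ W₂) +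
      B₂.comp (LinearMap.snd F W₁ W₂) (LinearMap.snd F W₁ W₂) with hB
  have hBapp : ∀ x y : W₁ × W₂, B x y = B₁ x.1 y.1 + B₂ x.2 y.2 := fun x y => rfl
  refine ⟨W₁ × W₂, inferInstance, inferInstance, inferInstance, B, T₁.prodMap T₂, ?_, ?_, ?_, ?_,
    ?_, ?_⟩
  · intro x
    rw [hBapp, hB₁ x.1, hB₂ x.2, add_zero]
  · intro x hx
    have e1 : x.1 = 0 := by
      apply hnd₁
      intro y
      have := hx (y, 0)
      rw [hBapp] at this
      simpa using this
    have e2 : x.2 = 0 := by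
      apply hnd₂
      intro y
      have := hx (0, y)
      rw [hBapp] at this
      simpa using this
    exact Prod.ext e1 e2
  · rw [Module.finrank_prod, hfin₁, hfin₂]
    ring
  · intro x y
    rw [hBapp, hBapp]
    show B₁ (T₁ x.1) (T₁ y.1) + B₂ (T₂ x.2) (T₂ y.2) = _
    rw [hT₁, hT₂]
  · have hpow : ∀ k : ℕ, (T₁.prodMap T₂) ^ k = (T₁ ^ k).prodMap (T₂ ^ k) := by
      intro k
      induction k with
      | zero => rfl
      | succ k ih => rw [pow_succ, ih, pow_succ, pow_succ, LinearMap.prodMap_mul]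
    rw [hpow, hTr₁, hTr₂]
    rfl
  · rw [ker_prodMap_sub_one, finrank_prod_sub, hε₁, hε₂]

theorem hasModel_blocks {r h : ℕ} (hb : HasModel F r h 0) (e : ℕ) : HasModel F r (e * h) 0 := by
  induction e with
  | zero =>
    have := hasModel_triv (F := F) r 0
    simpa using this
  | succ e ih =>
    have := hasModel_prod ih hb
    have e1 : e * h + h = (e + 1) * h := by ring
    rw [e1] at this
    exact this

/-- from a model to a symplectic matrix -/
theorem exists_sp_of_model {r d ε : ℕ} (h : HasModel F r d ε) :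
    ∃ x : Matrix.symplecticGroup (Fin d) F, x ^ r = 1 ∧
      finrank F (LinearMap.ker
        (Matrix.toLin' (x : Matrix (Fin d ⊕ Fin d) (Fin d ⊕ Fin d) F) - 1)) = ε := by
  obtain ⟨W, i1, i2, i3, B, T, hB, hnd, hfin, hT, hTr, hε⟩ := h
  obtain ⟨x, hxr, hrank⟩ :=
    Cfsg.Agent.Lib.Helper7.CarveL5Aux.exists_sp_of_isometry B hB hnd hfin T hT r hTr
  refine ⟨x, hxr, ?_⟩
  have h1 := LinearMap.finrank_range_add_finrank_ker
    (Matrix.toLin' (x : Matrix (Fin d ⊕ Fin d) (Fin d ⊕ Fin d) F) - 1)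
  have h2 := LinearMap.finrank_range_add_finrank_ker (T - 1)
  rw [finrank_std] at h1
  omega

end models

section cauchy
variable {F : Type u} [Field F] [Fintype F] {p : ℕ} [Fact p.Prime] [CharP F p]

theorem toLin_isom {n : ℕ} (y : Matrix.symplecticGroup (Fin n) F) (u v : Fin n ⊕ Fin n → F) :
    sympBilin n F (Matrix.toLin' (y : Matrix (Fin n ⊕ Fin n) (Fin n ⊕ Fin n) F) u)
      (Matrix.toLin' (y : Matrix (Fin n ⊕ Fin n) (Fin n ⊕ Fin n) F) v) = sympBilin n F u v := by
  rw [sympBilin_apply, sympBilin_apply, Matrix.toLin'_apply, Matrix.toLin'_apply]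
  exact Cfsg.Agent.Lib.Helper1.SpBasic.form_mulVec y u v

theorem toLin_pow_eq_one {n r : ℕ} (y : Matrix.symplecticGroup (Fin n) F) (hy : y ^ r = 1) :
    (Matrix.toLin' (y : Matrix (Fin n ⊕ Fin n) (Fin n ⊕ Fin n) F)) ^ r = 1 := by
  rw [← Matrix.toLin'_pow]
  have h1 : (y : Matrix (Fin n ⊕ Fin n) (Fin n ⊕ Fin n) F) ^ r = 1 := by
    have := congrArg (fun z : Matrix.symplecticGroup (Fin n) F =>
      (z : Matrix (Fin n ⊕ Fin n) (Fin n ⊕ Fin n) F)) hy
    simpa using this
  rw [h1, Matrix.toLin'_one]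
  rfl

theorem nd_top_symp (n : ℕ) : Nd (sympBilin n F) ⊤ := by
  intro u _ hu
  apply sympForm_nondeg u
  intro y
  rw [← sympBilin_apply]
  exact hu y Submodule.mem_top

theorem fixE_eq_ker {V : Type*} [AddCommGroup V] [Module F V] [FiniteDimensional F V]
    (T : V →ₗ[F] V) :
    fixE T = LinearMap.ker (T - 1) := by
  ext v
  rw [mem_fixE, LinearMap.mem_ker, LinearMap.sub_apply, Module.End.one_apply, sub_eq_zero]

/-- a one-block model from Cauchy's theorem -/
theorem hasModel_cauchy (r : ℕ) [Fact r.Prime] (hrp : r ≠ p) (hr2 : r ≠ 2) (h : ℕ)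
    (hh : 2 * h = blockDim (orderOf ((Fintype.card F : ℕ) : ZMod r))) : HasModel F r h 0 := by
  have hrprime : r.Prime := Fact.out
  have hcpos := blockDim_pos (F := F) r hrp
  have hhpos : 0 < h := by omega
  have hq1 : 1 ≤ Fintype.card F := Fintype.card_pos
  -- `r` divides the order of `Sp_{2h}(q)`
  have hcard := Cfsg.Agent.S0245.result (F := F) (q := Fintype.card F) rfl h
  have hdvd : r ∣ Nat.card (Matrix.symplecticGroup (Fin h) F) := by
    rw [hcard]
    apply Dvd.dvd.mul_left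
    apply Dvd.dvd.trans _ (Finset.dvd_prod_of_mem _ (Finset.mem_range.2 (by omega : h - 1 < h)))
    have e1 : 2 * (h - 1 + 1) = blockDim (orderOf ((Fintype.card F : ℕ) : ZMod r)) := by
      rw [← hh]; omega
    rw [e1, ← orderOf_dvd_iff_dvd r (Fintype.card F) hq1]
    unfold blockDim
    split_ifs
    · exact dvd_refl _
    · exact Dvd.intro_left 2 rfl
  have : Finite (Matrix.symplecticGroup (Fin h) F) := by
    apply Nat.finite_of_card_ne_zero
    intro h0
    rw [h0] at hdvd
    rw [hcard] at h0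
    have : 0 < Fintype.card F ^ h ^ 2 *
        ∏ i ∈ Finset.range h, (Fintype.card F ^ (2 * (i + 1)) - 1) := by
      apply Nat.mul_pos (Nat.pow_pos hq1)
      apply Finset.prod_pos
      intro i _
      have : 1 < Fintype.card F ^ (2 * (i + 1)) := Nat.one_lt_pow (by omega) Fintype.one_lt_card
      omega
    omega
  obtain ⟨y, hy⟩ := exists_prime_orderOf_dvd_card' r hdvd
  set T := Matrix.toLin' (y : Matrix (Fin h ⊕ Fin h) (Fin h ⊕ Fin h) F) with hT
  have hyr : y ^ r = 1 := by rw [← hy]; exact pow_orderOf_eq_one y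
  have hTr : T ^ r = 1 := toLin_pow_eq_one y hyr
  have hTisom : ∀ u v, sympBilin h F (T u) (T v) = sympBilin h F u v := toLin_isom y
  have hnd := nd_top_symp (F := F) h
  have hinv : Inv T (⊤ : Submodule F (Fin h ⊕ Fin h → F)) := fun _ _ => Submodule.mem_top
  have hdvdκ := dvd_finrank_inf_movK sympBilin_isAlt r hrp hr2 T hTisom hTr hnd hinv
  rw [top_inf_eq] at hdvdκ
  have hsum := finrank_fixE_add_movK (T := T) r hrp hTr
  rw [finrank_std] at hsum
  have hκpos : 0 < finrank F (movK r T) := by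
    rw [Nat.pos_iff_ne_zero]
    intro h0
    have h1 : finrank F (fixE T) = finrank F (Fin h ⊕ Fin h → F) := by
      rw [finrank_std]; omega
    have h2 : fixE T = ⊤ := Submodule.eq_top_of_finrank_eq h1
    have h3 : T = 1 := by
      apply LinearMap.ext
      intro v
      have : v ∈ fixE T := by rw [h2]; exact Submodule.mem_top
      exact (mem_fixE T v).1 this
    have h4 : (y : Matrix (Fin h ⊕ Fin h) (Fin h ⊕ Fin h) F) = 1 := by
      apply Matrix.toLin'.injective
      rw [← hT, h3, Matrix.toLin'_one]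
      rfl
    have h5 : y = 1 := Subtype.ext h4
    rw [h5, orderOf_one] at hy
    exact hrprime.one_lt.ne' hy.symm
  have hle := Nat.le_of_dvd hκpos hdvdκ
  have hε : finrank F (fixE T) = 0 := by omega
  refine ⟨(Fin h ⊕ Fin h → F), inferInstance, inferInstance, inferInstance, sympBilin h F, T,
    sympBilin_isAlt, ?_, finrank_std h, hTisom, hTr, ?_⟩
  · intro x hx
    apply sympForm_nondeg x
    intro y
    rw [← sympBilin_apply]
    exact hx y
  · rw [← fixE_eq_ker, hε]

/-- an element of `Sp_{2d}(F)` of order dividing `r` with exactly `e` blocks -/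
theorem exists_sp_blocks (r : ℕ) [Fact r.Prime] (hrp : r ≠ p) (hr2 : r ≠ 2) (d e : ℕ)
    (he : e * blockDim (orderOf ((Fintype.card F : ℕ) : ZMod r)) ≤ 2 * d) :
    ∃ x : Matrix.symplecticGroup (Fin d) F, x ^ r = 1 ∧
      finrank F (fixE (Matrix.toLin' (x : Matrix (Fin d ⊕ Fin d) (Fin d ⊕ Fin d) F))) + 
        e * blockDim (orderOf ((Fintype.card F : ℕ) : ZMod r)) = 2 * d := by
  obtain ⟨h, hh⟩ := even_blockDim (orderOf ((Fintype.card F : ℕ) : ZMod r))
  have hh' : 2 * h = blockDim (orderOf ((Fintype.card F : ℕ) : ZMod r)) := by omega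
  have hb := hasModel_cauchy (F := F) r hrp hr2 h hh'
  have hbl := hasModel_blocks hb e
  have heh : e * h ≤ d := by
    rw [← hh'] at he
    have : e * (2 * h) = 2 * (e * h) := by ring
    omega
  have hm := hasModel_prod hbl (hasModel_triv (F := F) r (d - e * h))
  have e1 : e * h + (d - e * h) = d := by omega
  rw [e1, zero_add] at hm
  obtain ⟨x, hxr, hxε⟩ := exists_sp_of_model hm
  refine ⟨x, hxr, ?_⟩
  rw [fixE_eq_ker, hxε, ← hh']
  have : e * (2 * h) = 2 * (e * h) := by ring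
  omega

end cauchy

end Cfsg.Agent.Lib.Helper1.SpBlk
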