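import Mathlib
import Cfsg.Prelude
import Cfsg.Agent.Lib.Helper1.SpBasic

set_option autoImplicit false

namespace Cfsg.Agent.Lib.Helper1.SpPoint

open Cfsg.Agent.Lib.Helper1.SpBasic Cfsg.Agent.Lib.Helper2.Symp Matrix

variable {F : Type*} [Field F] {m : ℕ}

/-- nondegeneracy. -/
theorem eq_zero_of_forall_form (x : Fin m ⊕ Fin m → F)
    (h : ∀ w, Cfsg.sympForm m F w x = 0) : x = 0 := by
  by_contra hx
  obtain ⟨p, hp⟩ := Cfsg.Agent.S0271.exists_partner m x hx
  have := h p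
  rw [sympForm_swap, hp] at this
  simp at this

/-- two nonzero vectors have a common non-orthogonal vector. -/
theorem exists_both_ne (a b : Fin m ⊕ Fin m → F) (ha : a ≠ 0) (hb : b ≠ 0) :
    ∃ s, Cfsg.sympForm m F a s ≠ 0 ∧ Cfsg.sympForm m F b s ≠ 0 := by
  obtain ⟨s₁, h₁⟩ := Cfsg.Agent.S0271.exists_partner m a ha
  obtain ⟨s₂, h₂⟩ := Cfsg.Agent.S0271.exists_partner m b hb
  by_cases h3 : Cfsg.sympForm m F b s₁ = 0
  · by_cases h4 : Cfsg.sympForm m F a s₂ = 0
    · refine ⟨s₁ + s₂, ?_, ?_⟩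
      · rw [sympForm_add_right, h₁, h4, add_zero]; exact one_ne_zero
      · rw [sympForm_add_right, h3, h₂, zero_add]; exact one_ne_zero
    · exact ⟨s₂, h4, by rw [h₂]; exact one_ne_zero⟩
  · exact ⟨s₁, by rw [h₁]; exact one_ne_zero, h3⟩

/-- for `q` not a multiple of `v`, some vector is orthogonal to `v` but not to `q`. -/
theorem exists_orth_ne (v q : Fin m ⊕ Fin m → F) (hv : v ≠ 0) (hq : ∀ a : F, q ≠ a • v) :
    ∃ w, Cfsg.sympForm m F w v = 0 ∧ Cfsg.sympForm m F w q ≠ 0 := by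
  by_contra hcon
  push Not at hcon
  obtain ⟨p₀, hp₀⟩ := Cfsg.Agent.S0271.exists_partner m v hv
  have hp₀' : Cfsg.sympForm m F p₀ v = -1 := by rw [sympForm_swap, hp₀]
  apply hq (-(Cfsg.sympForm m F p₀ q))
  have : q - (-(Cfsg.sympForm m F p₀ q)) • v = 0 := by
    apply eq_zero_of_forall_form
    intro w
    have h1 := hcon (w + Cfsg.sympForm m F w v • p₀) (by
      rw [sympForm_add_left, sympForm_smul_left, hp₀']; ring)
    rw [sympForm_add_left, sympForm_smul_left] at h1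
    rw [sympForm_sub_right, sympForm_smul_right]
    linear_combination h1
  exact sub_eq_zero.mp this

/-- the stabilizer of the point spanned by `v`. -/
def pointStab (v : Fin m ⊕ Fin m → F) : Subgroup (Matrix.symplecticGroup (Fin m) F) where
  carrier := {A | ∃ a : F, a ≠ 0 ∧ (A : Matrix (Fin m ⊕ Fin m) (Fin m ⊕ Fin m) F) *ᵥ v = a • v}
  one_mem' := ⟨1, one_ne_zero, by rw [coe_one_mulVec, one_smul]⟩
  mul_mem' := by
    rintro A B ⟨a, ha, hA⟩ ⟨b, hb, hB⟩
    refine ⟨b * a, mul_ne_zero hb ha, ?_⟩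
    rw [coe_mul_mulVec, hB, Matrix.mulVec_smul, hA, smul_smul]
  inv_mem' := by
    rintro A ⟨a, ha, hA⟩
    refine ⟨a⁻¹, inv_ne_zero ha, ?_⟩
    have h1 := inv_mulVec_mulVec A v
    rw [hA, Matrix.mulVec_smul] at h1
    calc ((A⁻¹ : Matrix.symplecticGroup (Fin m) F) :
          Matrix (Fin m ⊕ Fin m) (Fin m ⊕ Fin m) F) *ᵥ v
        = a⁻¹ • (a • (((A⁻¹ : Matrix.symplecticGroup (Fin m) F) :
          Matrix (Fin m ⊕ Fin m) (Fin m ⊕ Fin m) F) *ᵥ v)) := by
            rw [smul_smul, inv_mul_cancel₀ ha, one_smul]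
      _ = a⁻¹ • v := by rw [h1]

theorem mem_pointStab (v : Fin m ⊕ Fin m → F) (A : Matrix.symplecticGroup (Fin m) F) :
    A ∈ pointStab v ↔
      ∃ a : F, a ≠ 0 ∧ (A : Matrix (Fin m ⊕ Fin m) (Fin m ⊕ Fin m) F) *ᵥ v = a • v := Iff.rfl

theorem mem_pointStab_of_smul {v : Fin m ⊕ Fin m → F} (hv : v ≠ 0)
    (A : Matrix.symplecticGroup (Fin m) F) (a : F)
    (h : (A : Matrix (Fin m ⊕ Fin m) (Fin m ⊕ Fin m) F) *ᵥ v = a • v) : A ∈ pointStab v := by
  refine ⟨a, ?_, h⟩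
  rintro rfl
  rw [zero_smul] at h
  have := inv_mulVec_mulVec A v
  rw [h, Matrix.mulVec_zero] at this
  exact hv this.symm

/-- first case of maximality: an overgroup of the point stabilizer containing an element moving
`v` to a non-orthogonal vector is everything. -/
theorem eq_top_of_moves_nonorth (v : Fin m ⊕ Fin m → F) (hv : v ≠ 0)
    (M : Subgroup (Matrix.symplecticGroup (Fin m) F)) (hPM : pointStab v ≤ M)
    (h : Matrix.symplecticGroup (Fin m) F) (hM : h ∈ M)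
    (hne : Cfsg.sympForm m F v ((h : Matrix (Fin m ⊕ Fin m) (Fin m ⊕ Fin m) F) *ᵥ v) ≠ 0) :
    M = ⊤ := by
  set q := (h : Matrix (Fin m ⊕ Fin m) (Fin m ⊕ Fin m) F) *ᵥ v with hq
  -- sub-case (a)
  have hA : ∀ g : Matrix.symplecticGroup (Fin m) F,
      Cfsg.sympForm m F v ((g : Matrix (Fin m ⊕ Fin m) (Fin m ⊕ Fin m) F) *ᵥ v) ≠ 0 → g ∈ M := by
    intro g hg
    set y := (g : Matrix (Fin m ⊕ Fin m) (Fin m ⊕ Fin m) F) *ᵥ v with hy
    have h1 : Cfsg.sympForm m F v ((Cfsg.sympForm m F v q)⁻¹ • q) = 1 := by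
      rw [sympForm_smul_right, inv_mul_cancel₀ hne]
    have h2 : Cfsg.sympForm m F v ((Cfsg.sympForm m F v y)⁻¹ • y) = 1 := by
      rw [sympForm_smul_right, inv_mul_cancel₀ hg]
    obtain ⟨k, -, hkv, hkq⟩ := transitive_on_hyperbolic_pairs v _ v _ h1 h2
    rw [Matrix.mulVec_smul] at hkq
    have hkq' : (k : Matrix (Fin m ⊕ Fin m) (Fin m ⊕ Fin m) F) *ᵥ q =
        (Cfsg.sympForm m F v q * (Cfsg.sympForm m F v y)⁻¹) • y := by
      have := congrArg (fun z => Cfsg.sympForm m F v q • z) hkq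
      simp only [smul_smul, mul_inv_cancel₀ hne, one_smul] at this
      exact this
    have hkP : k ∈ pointStab v := ⟨1, one_ne_zero, by rw [hkv, one_smul]⟩
    have hkM : k ∈ M := hPM hkP
    have h3 : g⁻¹ * (k * h) ∈ pointStab v := by
      apply mem_pointStab_of_smul hv _ (Cfsg.sympForm m F v q * (Cfsg.sympForm m F v y)⁻¹)
      rw [coe_mul_mulVec, coe_mul_mulVec, ← hq, hkq', Matrix.mulVec_smul, hy, inv_mulVec_mulVec]
    have h4 : g = (k * h) * (g⁻¹ * (k * h))⁻¹ := by group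
    rw [h4]
    exact M.mul_mem (M.mul_mem hkM hM) (M.inv_mem (hPM h3))
  rw [eq_top_iff]
  intro g _
  set y := (g : Matrix (Fin m ⊕ Fin m) (Fin m ⊕ Fin m) F) *ᵥ v with hy
  by_cases hg : Cfsg.sympForm m F v y = 0
  · have hy0 : y ≠ 0 := by
      intro h0
      have := inv_mulVec_mulVec g v
      rw [← hy, h0, Matrix.mulVec_zero] at this
      exact hv this.symm
    obtain ⟨s, hs1, hs2⟩ := exists_both_ne v y hv hy0
    have hs0 : s ≠ 0 := by
      rintro rfl
      apply hs1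
      rw [sympForm_swap, ← zero_smul F (0 : Fin m ⊕ Fin m → F), sympForm_smul_left, zero_mul,
        neg_zero]
    obtain ⟨g₁, hg₁⟩ := Cfsg.Agent.S0271.result m v s hv hs0
    have hg₁M : g₁ ∈ M := hA g₁ (by rw [hg₁]; exact hs1)
    have h5 : g₁⁻¹ * g ∈ M := by
      apply hA
      rw [coe_mul_mulVec, ← hy, sympForm_swap, form_inv_mulVec, hg₁, neg_ne_zero]
      exact hs2
    have : g = g₁ * (g₁⁻¹ * g) := by group
    rw [this]
    exact M.mul_mem hg₁M h5
  · exact hA g hg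

/-- the point stabilizer is a maximal subgroup (in the form we need). -/
theorem eq_top_of_pointStab_lt (v : Fin m ⊕ Fin m → F) (hv : v ≠ 0)
    (M : Subgroup (Matrix.symplecticGroup (Fin m) F)) (hPM : pointStab v ≤ M)
    (h : Matrix.symplecticGroup (Fin m) F) (hM : h ∈ M) (hP : h ∉ pointStab v) :
    M = ⊤ := by
  set q := (h : Matrix (Fin m ⊕ Fin m) (Fin m ⊕ Fin m) F) *ᵥ v with hq
  by_cases hne : Cfsg.sympForm m F v q = 0
  · have hqv : ∀ a : F, q ≠ a • v := by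
      intro a hqa
      exact hP (mem_pointStab_of_smul hv h a hqa)
    obtain ⟨w, hw1, hw2⟩ := exists_orth_ne v q hv hqv
    have hkP : T w (1 : F) ∈ pointStab v := by
      refine ⟨1, one_ne_zero, ?_⟩
      rw [T_mulVec, sympForm_swap, hw1, neg_zero, mul_zero, zero_smul, add_zero, one_smul]
    have hkM : T w (1 : F) ∈ M := hPM hkP
    have h' : h⁻¹ * (T w (1 : F) * h) ∈ M := M.mul_mem (M.inv_mem hM) (M.mul_mem hkM hM)
    apply eq_top_of_moves_nonorth v hv M hPM _ h'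
    rw [coe_mul_mulVec, coe_mul_mulVec, ← hq, sympForm_swap, form_inv_mulVec, ← hq, T_mulVec,
      sympForm_add_left, sympForm_self, zero_add, sympForm_smul_left, one_mul, neg_ne_zero]
    have hqw : Cfsg.sympForm m F q w ≠ 0 := by
      rw [sympForm_swap, neg_ne_zero]; exact hw2
    exact mul_ne_zero hqw hw2
  · exact eq_top_of_moves_nonorth v hv M hPM h hM hne

end Cfsg.Agent.Lib.Helper1.SpPoint
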