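import Mathlib
import Cfsg.Agent.Lib.Helper1.SpBlk6
import Cfsg.Agent.Lib.Helper9.SpDecomp1
import Cfsg.Agent.Lib.Helper1.SpCard

set_option autoImplicit false
set_option linter.unusedSectionVars false

/-!
The set of orthogonal decompositions of the standard symplectic space: `Sp` is transitive on it,
`S_t` acts freely on it; hence a prime dividing the number of unordered decompositions divides
`|Sp_{2d}(q)|`.
-/

namespace Cfsg.Agent.Lib.Helper1.SpBlk

open Module Cfsg.Agent.H9SemiInv Cfsg.Agent.Lib.Helper2.SpIsom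

/-- a free action of `S_t` by reindexing -/
theorem factorial_dvd_card_subtype {α : Type*} (t : ℕ) (P : (Fin t → α) → Prop)
    (hperm : ∀ D, P D → ∀ σ : Equiv.Perm (Fin t), P (fun j => D (σ j)))
    (hinj : ∀ D, P D → Function.Injective D) :
    t.factorial ∣ Nat.card {D : Fin t → α // P D} := by
  let _inst : MulAction (Equiv.Perm (Fin t)) {D : Fin t → α // P D} :=
    { smul := fun σ D => ⟨fun j => D.1 (σ⁻¹ j), hperm D.1 D.2 σ⁻¹⟩
      one_smul := fun D => Subtype.ext (funext fun j => by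
        show D.1 ((1 : Equiv.Perm (Fin t))⁻¹ j) = D.1 j
        rw [inv_one, Equiv.Perm.one_apply])
      mul_smul := fun σ τ D => Subtype.ext (funext fun j => by
        show D.1 ((σ * τ)⁻¹ j) = D.1 (τ⁻¹ (σ⁻¹ j))
        rw [mul_inv_rev, Equiv.Perm.mul_apply]) }
  have hsmul : ∀ (σ : Equiv.Perm (Fin t)) (D : {D : Fin t → α // P D}) (j : Fin t),
      (σ • D).1 j = D.1 (σ⁻¹ j) := fun _ _ _ => rfl
  have hfree : ∀ D : {D : Fin t → α // P D},
      MulAction.stabilizer (Equiv.Perm (Fin t)) D = ⊥ := by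
    intro D
    rw [eq_bot_iff]
    intro σ hσ
    rw [MulAction.mem_stabilizer_iff] at hσ
    rw [Subgroup.mem_bot]
    have h1 : ∀ j, D.1 (σ⁻¹ j) = D.1 j := by
      intro j
      rw [← hsmul, hσ]
    have h2 : ∀ j, σ⁻¹ j = j := fun j => hinj D.1 D.2 (h1 j)
    have h3 : σ⁻¹ = 1 := Equiv.ext h2
    exact inv_eq_one.1 h3
  have e := MulAction.selfEquivOrbitsQuotientProd hfree
  rw [Nat.card_congr e, Nat.card_prod, Nat.card_eq_fintype_card (α := Equiv.Perm (Fin t)),
    Fintype.card_perm, Fintype.card_fin]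
  exact Dvd.intro_left _ rfl

section symp
variable {F : Type*} [Field F] {d : ℕ}

/-- the property defining the set of ordered orthogonal decompositions -/
def IsOrthDec (d : ℕ) (F : Type*) [Field F] (a : ℕ) {t : ℕ}
    (D : Fin t → Submodule F (Fin d ⊕ Fin d → F)) : Prop :=
  Cfsg.Geo.IsMDecomposition a D ∧
    (∀ j, ∀ u ∈ D j, u ≠ 0 → ∃ v ∈ D j, Cfsg.sympForm d F u v ≠ 0) ∧
    (∀ j j', j ≠ j' → ∀ u ∈ D j, ∀ v ∈ D j', Cfsg.sympForm d F u v = 0)

variable {a t : ℕ} {D : Fin t → Submodule F (Fin d ⊕ Fin d → F)}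

theorem IsOrthDec.od (h : IsOrthDec d F a D) : OD (sympBilin d F) a D where
  nd := by
    intro j u hu hu'
    by_contra hu0
    obtain ⟨v, hv, hne⟩ := h.2.1 j u hu hu0
    apply hne
    rw [← sympBilin_apply]
    exact hu' v hv
  orth := by
    intro j j' hjj' v hv n hn
    show sympBilin d F n v = 0
    rw [sympBilin_apply]
    exact h.2.2 j j' hjj' n hn v hv
  sup := h.1.iSup_eq_top
  fin := h.1.finrank_eq

theorem isOrthDec_of_od (ht : 2 ≤ t) (ha : 0 < a) (h : OD (sympBilin d F) a D) :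
    IsOrthDec d F a D := by
  refine ⟨⟨ht, ha, h.fin, h.indep sympBilin_isAlt, h.sup⟩, ?_, ?_⟩
  · intro j u hu hu0
    by_contra hcon
    push Not at hcon
    apply hu0
    apply h.nd j u hu
    intro v hv
    rw [sympBilin_apply]
    exact hcon v hv
  · intro j j' hjj' u hu v hv
    rw [← sympBilin_apply]
    exact h.orth j j' hjj' hv u hu

/-- `Sp` is transitive on ordered orthogonal decompositions -/
theorem exists_sp_map_eq {D D' : Fin t → Submodule F (Fin d ⊕ Fin d → F)}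
    (h : IsOrthDec d F a D) (h' : IsOrthDec d F a D') :
    ∃ g : Matrix.symplecticGroup (Fin d) F,
      ∀ j, (D j).map (Matrix.toLin' (g : Matrix (Fin d ⊕ Fin d) (Fin d ⊕ Fin d) F)) = D' j := by
  classical
  have hND : ∀ {E : Fin t → Submodule F (Fin d ⊕ Fin d → F)}, IsOrthDec d F a E →
      Cfsg.Geo.IsNondegenerateMDecomposition (Cfsg.sympForm d F) a E := by
    intro E hE
    refine ⟨hE.1, ?_, ?_⟩
    · intro i w hw hw0
      obtain ⟨x, hx, hne⟩ := hE.2.1 i w hw hw0
      refine ⟨⟨x, hx, ?_⟩, ⟨x, hx, hne⟩⟩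
      rw [Cfsg.Agent.Lib.Helper2.Symp.sympForm_swap]
      exact neg_ne_zero.2 hne
    · intro i j hij u hu v hv
      exact hE.2.2 i j hij u hu v hv
  obtain ⟨k₁, hk₁, ⟨𝔅⟩⟩ := Cfsg.Agent.H9SpDecomp.exists_adapted D a (hND h)
  obtain ⟨k₂, hk₂, ⟨𝔅'⟩⟩ := Cfsg.Agent.H9SpDecomp.exists_adapted D' a (hND h')
  obtain rfl : k₁ = k₂ := by omega
  set e : (Fin d ⊕ Fin d → F) ≃ₗ[F] (Fin d ⊕ Fin d → F) := 𝔅.b.equiv 𝔅'.b (Equiv.refl _) with he
  have he_apply : ∀ i x, e (𝔅.b (i, x)) = 𝔅'.b (i, x) := by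
    intro i x
    rw [he, Basis.equiv_apply]
    rfl
  have hform : ∀ u v, sympBilin d F (e u) (e v) = sympBilin d F u v := by
    have h1 : (sympBilin d F).comp (e : (Fin d ⊕ Fin d → F) →ₗ[F] (Fin d ⊕ Fin d → F))
        (e : (Fin d ⊕ Fin d → F) →ₗ[F] (Fin d ⊕ Fin d → F)) = sympBilin d F := by
      apply LinearMap.BilinForm.ext_basis 𝔅.b
      rintro ⟨i, x⟩ ⟨j, y⟩
      rw [LinearMap.BilinForm.comp_apply]
      show sympBilin d F (e (𝔅.b (i, x))) (e (𝔅.b (j, y))) = _
      rw [he_apply, he_apply, sympBilin_apply, sympBilin_apply, 𝔅.form, 𝔅'.form]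
    intro u v
    conv_rhs => rw [← h1]
    rfl
  set A : Matrix (Fin d ⊕ Fin d) (Fin d ⊕ Fin d) F :=
    LinearMap.toMatrix' (e : (Fin d ⊕ Fin d → F) →ₗ[F] (Fin d ⊕ Fin d → F)) with hA
  have hAmul : ∀ x, A.mulVec x = e x := by
    intro x
    rw [hA, LinearMap.toMatrix'_mulVec]
    rfl
  have hAmem : A ∈ Matrix.symplecticGroup (Fin d) F := by
    rw [Cfsg.Agent.Lib.Helper1.SpCard.mem_symplectic_iff_form]
    intro x y
    rw [hAmul, hAmul, ← sympBilin_apply, ← sympBilin_apply, hform]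
  refine ⟨⟨A, hAmem⟩, ?_⟩
  intro j
  have hlin : Matrix.toLin' A = (e : (Fin d ⊕ Fin d → F) →ₗ[F] (Fin d ⊕ Fin d → F)) := by
    rw [hA, Matrix.toLin'_toMatrix']
  show (D j).map (Matrix.toLin' A) = D' j
  rw [hlin, 𝔅.span j, 𝔅'.span j, Submodule.map_span]
  congr 1
  ext v
  constructor
  · rintro ⟨_, ⟨x, rfl⟩, rfl⟩
    exact ⟨x, (he_apply j x).symm⟩
  · rintro ⟨x, rfl⟩
    exact ⟨_, ⟨x, rfl⟩, he_apply j x⟩

theorem od_map (g : Matrix.symplecticGroup (Fin d) F) (h : OD (sympBilin d F) a D) :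
    OD (sympBilin d F) a (fun j => (D j).map
      (Matrix.toLin' (g : Matrix (Fin d ⊕ Fin d) (Fin d ⊕ Fin d) F))) := by
  set T := Matrix.toLin' (g : Matrix (Fin d ⊕ Fin d) (Fin d ⊕ Fin d) F) with hT
  have hisom : ∀ u v, sympBilin d F (T u) (T v) = sympBilin d F u v := by
    intro u v
    rw [sympBilin_apply, sympBilin_apply, hT, Matrix.toLin'_apply, Matrix.toLin'_apply]
    exact Cfsg.Agent.Lib.Helper1.SpBasic.form_mulVec g u v
  have hsurj : Function.Surjective T := by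
    intro v
    refine ⟨Matrix.toLin' ((g⁻¹ : Matrix.symplecticGroup (Fin d) F) :
      Matrix (Fin d ⊕ Fin d) (Fin d ⊕ Fin d) F) v, ?_⟩
    rw [hT, ← LinearMap.comp_apply, ← Matrix.toLin'_mul]
    have h1 : (g : Matrix (Fin d ⊕ Fin d) (Fin d ⊕ Fin d) F) *
        ((g⁻¹ : Matrix.symplecticGroup (Fin d) F) : Matrix (Fin d ⊕ Fin d) (Fin d ⊕ Fin d) F) =
          1 := by
      rw [← MulMemClass.coe_mul, mul_inv_cancel, OneMemClass.coe_one]
    rw [h1, Matrix.toLin'_one]
    rfl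
  have hinj : Function.Injective T := by
    rw [← LinearMap.ker_eq_bot, LinearMap.ker_eq_bot']
    intro u hu
    apply sympForm_nondeg u
    intro y
    obtain ⟨y', rfl⟩ := hsurj y
    rw [← sympBilin_apply]
    have h2 := hisom u y'
    rw [hu, map_zero, LinearMap.zero_apply] at h2
    -- `sympBilin u (T y')`: use surjectivity again on `u = 0`? argue directly
    have h3 : sympBilin d F u y' = 0 := h2.symm
    -- all `y'` give zero, so `u = 0`, hence the claim
    have hu0 : u = 0 := by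
      apply sympForm_nondeg u
      intro z
      rw [← sympBilin_apply]
      have h4 := hisom u z
      rw [hu, map_zero, LinearMap.zero_apply] at h4
      exact h4.symm
    rw [hu0, map_zero, LinearMap.zero_apply]
  refine ⟨?_, ?_, ?_, ?_⟩
  · rintro j _ ⟨u₀, hu₀, rfl⟩ hu
    have h1 : u₀ = 0 := by
      apply h.nd j u₀ hu₀
      intro v₀ hv₀
      rw [← hisom]
      exact hu _ (Submodule.mem_map_of_mem hv₀)
    rw [h1, map_zero]
  · rintro j j' hjj' _ ⟨v₀, hv₀, rfl⟩ _ ⟨n₀, hn₀, rfl⟩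
    show sympBilin d F (T n₀) (T v₀) = 0
    rw [hisom]
    exact h.orth j j' hjj' hv₀ n₀ hn₀
  · show (⨆ j, (D j).map T) = ⊤
    rw [← Submodule.map_iSup, h.sup, Submodule.map_top, LinearMap.range_eq_top]
    exact hsurj
  · intro j
    show finrank F ↥((D j).map T) = a
    rw [← h.fin j]
    exact (Submodule.equivMapOfInjective T hinj (D j)).finrank_eq.symm

theorem od_perm (σ : Equiv.Perm (Fin t)) (h : OD (sympBilin d F) a D) :
    OD (sympBilin d F) a (fun j => D (σ j)) where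
  nd := fun j => h.nd (σ j)
  orth := fun j j' hjj' => h.orth (σ j) (σ j') (fun h' => hjj' (σ.injective h'))
  sup := by
    show (⨆ j, D (σ j)) = ⊤
    rw [← h.sup]
    exact Equiv.iSup_comp (g := D) σ
  fin := fun j => h.fin (σ j)

end symp

section count
variable {F : Type*} [Field F] [Fintype F] {p : ℕ} [Fact p.Prime] [CharP F p] {d a t : ℕ}

theorem exists_isOrthDec (r : ℕ) [Fact r.Prime] (hrp : r ≠ p) (hr2 : r ≠ 2) (ht : 2 ≤ t)
    (ha : 0 < a) (hae : Even a) (hat : 2 * d = a * t) :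
    ∃ D : Fin t → Submodule F (Fin d ⊕ Fin d → F), IsOrthDec d F a D := by
  have hinv : Inv (1 : (Fin d ⊕ Fin d → F) →ₗ[F] (Fin d ⊕ Fin d → F)) ⊤ :=
    fun _ _ => Submodule.mem_top
  have hfix : fixE (1 : (Fin d ⊕ Fin d → F) →ₗ[F] (Fin d ⊕ Fin d → F)) = ⊤ := by
    rw [eq_top_iff]
    intro v _
    rw [mem_fixE]
    rfl
  have hfin : finrank F (⊤ : Submodule F (Fin d ⊕ Fin d → F)) = t * a := by
    rw [finrank_top, finrank_std, hat, mul_comm]
  obtain ⟨D, -, hnd, -, hDfin, horth, hsup⟩ :=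
    exists_decomp (B := sympBilin d F) sympBilin_isAlt r hrp hr2 1 (fun _ _ => rfl) (one_pow r) a
      hae t ⊤ (nd_top_symp d) hinv hfin (by
        rw [hfix, top_inf_eq, hfin]
        exact Nat.mul_le_mul_left t (Nat.mod_le _ _))
  exact ⟨D, isOrthDec_of_od ht ha ⟨hnd, horth, hsup, hDfin⟩⟩

theorem card_isOrthDec_dvd (r : ℕ) [Fact r.Prime] (hrp : r ≠ p) (hr2 : r ≠ 2) (ht : 2 ≤ t)
    (ha : 0 < a) (hae : Even a) (hat : 2 * d = a * t) :
    Nat.card {D : Fin t → Submodule F (Fin d ⊕ Fin d → F) // IsOrthDec d F a D} ∣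
      Nat.card (Matrix.symplecticGroup (Fin d) F) := by
  let _inst : MulAction (Matrix.symplecticGroup (Fin d) F)
      {D : Fin t → Submodule F (Fin d ⊕ Fin d → F) // IsOrthDec d F a D} :=
    { smul := fun g D => ⟨fun j => (D.1 j).map
          (Matrix.toLin' (g : Matrix (Fin d ⊕ Fin d) (Fin d ⊕ Fin d) F)),
        isOrthDec_of_od ht ha (od_map g D.2.od)⟩
      one_smul := fun D => Subtype.ext (funext fun j => by
        show (D.1 j).map (Matrix.toLin' ((1 : Matrix.symplecticGroup (Fin d) F) :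
          Matrix (Fin d ⊕ Fin d) (Fin d ⊕ Fin d) F)) = D.1 j
        rw [OneMemClass.coe_one, Matrix.toLin'_one, Submodule.map_id])
      mul_smul := fun g h D => Subtype.ext (funext fun j => by
        show (D.1 j).map (Matrix.toLin' ((g * h : Matrix.symplecticGroup (Fin d) F) :
          Matrix (Fin d ⊕ Fin d) (Fin d ⊕ Fin d) F)) =
          ((D.1 j).map (Matrix.toLin' (h : Matrix (Fin d ⊕ Fin d) (Fin d ⊕ Fin d) F))).map
            (Matrix.toLin' (g : Matrix (Fin d ⊕ Fin d) (Fin d ⊕ Fin d) F))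
        rw [MulMemClass.coe_mul, Matrix.toLin'_mul, Submodule.map_comp]) }
  have htrans : MulAction.IsPretransitive (Matrix.symplecticGroup (Fin d) F)
      {D : Fin t → Submodule F (Fin d ⊕ Fin d → F) // IsOrthDec d F a D} := by
    constructor
    intro D D'
    obtain ⟨g, hg⟩ := exists_sp_map_eq D.2 D'.2
    exact ⟨g, Subtype.ext (funext hg)⟩
  obtain ⟨D₀, hD₀⟩ := exists_isOrthDec (F := F) (d := d) (a := a) (t := t) r hrp hr2 ht ha hae hat
  have h1 := MulAction.index_stabilizer_of_transitive (G := Matrix.symplecticGroup (Fin d) F)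
    (x := (⟨D₀, hD₀⟩ : {D : Fin t → Submodule F (Fin d ⊕ Fin d → F) // IsOrthDec d F a D}))
  rw [← h1]
  exact Subgroup.index_dvd_card _

theorem blockDim_le_of_dvd_aux (r : ℕ) [Fact r.Prime] (hrp : r ≠ p)
    (hdvd : r ∣ Nat.card (Matrix.symplecticGroup (Fin d) F)) :
    blockDim (orderOf ((Fintype.card F : ℕ) : ZMod r)) ≤ 2 * d := by
  have hrprime : r.Prime := Fact.out
  rw [Cfsg.Agent.S0245.result (F := F) (q := Fintype.card F) rfl d] at hdvd
  rcases (Nat.Prime.dvd_mul hrprime).1 hdvd with h1 | h1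
  · exfalso
    have h2 := hrprime.dvd_of_dvd_pow h1
    obtain ⟨n, hp, hn⟩ := FiniteField.card F p
    rw [hn] at h2
    have h3 := hrprime.dvd_of_dvd_pow h2
    exact hrp ((Nat.prime_dvd_prime_iff_eq hrprime hp).1 h3)
  · obtain ⟨i, hi, h2⟩ := (Prime.dvd_finsetProd_iff hrprime.prime _).1 h1
    have hi' := Finset.mem_range.1 hi
    have h3 := (Cfsg.Agent.Lib.Helper9.H9Elus.orderOf_dvd_iff_dvd r (Fintype.card F)
      Fintype.card_pos (2 * (i + 1))).2 h2
    have h4 : blockDim (orderOf ((Fintype.card F : ℕ) : ZMod r)) ≤ 2 * (i + 1) := by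
      unfold blockDim
      split_ifs with hev
      · exact Nat.le_of_dvd (by omega) h3
      · have hodd : Odd (orderOf ((Fintype.card F : ℕ) : ZMod r)) := Nat.not_even_iff_odd.1 hev
        have hcop : Nat.Coprime (orderOf ((Fintype.card F : ℕ) : ZMod r)) 2 :=
          (Nat.coprime_two_right).2 hodd
        have h5 : orderOf ((Fintype.card F : ℕ) : ZMod r) ∣ i + 1 :=
          hcop.dvd_of_dvd_mul_left h3
        have := Nat.le_of_dvd (by omega) h5
        omega
    omega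

/-- a prime dividing the number of unordered decompositions divides `|Sp|` -/
theorem blockDim_le_of_dvd (r : ℕ) [Fact r.Prime] (hrp : r ≠ p) (hr2 : r ≠ 2) (ht : 2 ≤ t)
    (ha : 0 < a) (hae : Even a) (hat : 2 * d = a * t)
    (hΩ : r ∣ Nat.card {D : Fin t → Submodule F (Fin d ⊕ Fin d → F) // IsOrthDec d F a D} /
      t.factorial) :
    blockDim (orderOf ((Fintype.card F : ℕ) : ZMod r)) ≤ 2 * d := by
  apply blockDim_le_of_dvd_aux r hrp
  have h1 : t.factorial ∣
      Nat.card {D : Fin t → Submodule F (Fin d ⊕ Fin d → F) // IsOrthDec d F a D} := by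
    apply factorial_dvd_card_subtype
    · intro D hD σ
      exact isOrthDec_of_od ht ha (od_perm σ hD.od)
    · intro D hD
      exact hD.od.injective sympBilin_isAlt ha
  have h2 := card_isOrthDec_dvd (F := F) (d := d) (a := a) (t := t) r hrp hr2 ht ha hae hat
  refine Dvd.dvd.trans ?_ h2
  rw [← Nat.div_mul_cancel h1]
  exact Dvd.dvd.mul_right hΩ _

end count

end Cfsg.Agent.Lib.Helper1.SpBlk
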