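import Mathlib
import Cfsg.Agent.Lib.Helper1.SpBlk7

set_option autoImplicit false
set_option linter.unusedSectionVars false

/-!
Elements of odd prime order `r ≠ p` of `Sp_{2d}(q)` and orthogonal decompositions `a^t`:
both directions of the Burness–Giudici criterion.
-/

namespace Cfsg.Agent.Lib.Helper1.SpBlk

open Module Cfsg.Agent.H9SemiInv Cfsg.Agent.Lib.Helper2.SpIsom

theorem mod_arith (a t c : ℕ) (h : t * (a % c) ≤ (a * t) % c) : (a * t) % c = t * (a % c) := by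
  have h1 : (a * t) % c = (t * (a % c)) % c := by
    conv_lhs => rw [← Nat.div_add_mod a c]
    rw [add_mul, mul_assoc, Nat.mul_add_mod, mul_comm]
  have h2 : (t * (a % c)) % c ≤ t * (a % c) := Nat.mod_le _ _
  rw [h1] at h ⊢
  have h3 : (t * (a % c)) % c = t * (a % c) := le_antisymm h2 h
  exact h3

section
variable {F : Type*} [Field F] [Fintype F] {p : ℕ} [Fact p.Prime] [CharP F p]

theorem natCast_card_ne_zero (r : ℕ) [Fact r.Prime] (hrp : r ≠ p) :
    ((Fintype.card F : ℕ) : ZMod r) ≠ 0 := by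
  have hrprime : r.Prime := Fact.out
  intro h0
  rw [ZMod.natCast_eq_zero_iff] at h0
  obtain ⟨n, hp, hn⟩ := FiniteField.card F p
  rw [hn] at h0
  have h3 := hrprime.dvd_of_dvd_pow h0
  exact hrp ((Nat.prime_dvd_prime_iff_eq hrprime hp).1 h3)

theorem blockDim_le_pred (r : ℕ) [Fact r.Prime] (hrp : r ≠ p) (hr2 : r ≠ 2) :
    blockDim (orderOf ((Fintype.card F : ℕ) : ZMod r)) ≤ r - 1 := by
  have hrprime : r.Prime := Fact.out
  have h1 : orderOf ((Fintype.card F : ℕ) : ZMod r) ∣ r - 1 :=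
    orderOf_dvd_of_pow_eq_one (ZMod.pow_card_sub_one_eq_one (natCast_card_ne_zero r hrp))
  have hodd : Odd r := hrprime.odd_of_ne_two hr2
  have h2 : 2 ∣ r - 1 := by
    obtain ⟨k, hk⟩ := hodd
    exact ⟨k, by omega⟩
  have hpos : 0 < r - 1 := by have := hrprime.two_le; omega
  unfold blockDim
  split_ifs with hev
  · exact Nat.le_of_dvd hpos h1
  · have hcop : Nat.Coprime 2 (orderOf ((Fintype.card F : ℕ) : ZMod r)) :=
      (Nat.coprime_two_left).2 (Nat.not_even_iff_odd.1 hev)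
    exact Nat.le_of_dvd hpos (hcop.mul_dvd_of_dvd_of_dvd h2 h1)

variable {d : ℕ}

theorem exists_form_ne_zero (hd : 1 ≤ d) :
    ∃ u v : Fin d ⊕ Fin d → F, Cfsg.sympForm d F u v ≠ 0 := by
  classical
  set u₀ : Fin d ⊕ Fin d → F := Pi.single (Sum.inl ⟨0, by omega⟩) 1 with hu₀
  have hu₀0 : u₀ ≠ 0 := by
    intro h
    have := congrFun h (Sum.inl ⟨0, by omega⟩)
    simp [hu₀] at this
  by_contra hcon
  push Not at hcon
  exact hu₀0 (sympForm_nondeg u₀ (hcon u₀))

/-- a scalar symplectic matrix is `± 1` -/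
theorem scalar_sq_eq_one (hd : 1 ≤ d) (y : Matrix.symplecticGroup (Fin d) F) (z : F)
    (hy : (y : Matrix (Fin d ⊕ Fin d) (Fin d ⊕ Fin d) F) = z • 1) : z * z = 1 := by
  obtain ⟨u, v, huv⟩ := exists_form_ne_zero (F := F) hd
  have h1 := Cfsg.Agent.Lib.Helper1.SpBasic.form_mulVec y u v
  rw [hy, Matrix.smul_mulVec, Matrix.smul_mulVec, Matrix.one_mulVec, Matrix.one_mulVec,
    ← sympBilin_apply, ← sympBilin_apply] at h1
  simp only [map_smul, LinearMap.smul_apply, smul_eq_mul] at h1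
  have h2 : (z * z - 1) * sympBilin d F u v = 0 := by
    rw [sub_mul, one_mul, mul_assoc, h1, sub_self]
  rw [sympBilin_apply] at h2
  exact sub_eq_zero.1 ((mul_eq_zero.1 h2).resolve_right huv)

theorem coe_pow_sp (x : Matrix.symplecticGroup (Fin d) F) (r : ℕ) :
    ((x ^ r : Matrix.symplecticGroup (Fin d) F) : Matrix (Fin d ⊕ Fin d) (Fin d ⊕ Fin d) F) =
      (x : Matrix (Fin d ⊕ Fin d) (Fin d ⊕ Fin d) F) ^ r := SubmonoidClass.coe_pow x r

theorem pow_eq_self_of_sq {z : F} (hz : z * z = 1) {r : ℕ} (hodd : Odd r) : z ^ r = z := by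
  obtain ⟨k, hk⟩ := hodd
  rw [hk, pow_succ, pow_mul, pow_two, hz, one_pow, one_mul]

/-- an element with `x ^ r = 1` moving something is not scalar -/
theorem nonscalar_of_fix_lt (r : ℕ) [Fact r.Prime] (hr2 : r ≠ 2)
    (x : Matrix.symplecticGroup (Fin d) F) (hxr : x ^ r = 1)
    (hε : finrank F (fixE (Matrix.toLin' (x : Matrix (Fin d ⊕ Fin d) (Fin d ⊕ Fin d) F))) < 2 * d)
    (z : F) : (x : Matrix (Fin d ⊕ Fin d) (Fin d ⊕ Fin d) F) ≠ z • 1 := by
  have hrprime : r.Prime := Fact.out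
  intro hx
  have hd : 1 ≤ d := by omega
  have hz := scalar_sq_eq_one hd x z hx
  have h1 : (x : Matrix (Fin d ⊕ Fin d) (Fin d ⊕ Fin d) F) ^ r = 1 := by
    rw [← coe_pow_sp, hxr]; rfl
  rw [hx, smul_pow, one_pow, pow_eq_self_of_sq hz (hrprime.odd_of_ne_two hr2)] at h1
  have hz1 : z = 1 := by
    have := congrFun (congrFun h1 (Sum.inl ⟨0, by omega⟩)) (Sum.inl ⟨0, by omega⟩)
    simpa using this
  rw [hz1, one_smul] at hx
  have h2 : fixE (Matrix.toLin' (x : Matrix (Fin d ⊕ Fin d) (Fin d ⊕ Fin d) F)) = ⊤ := by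
    rw [eq_top_iff]
    intro v _
    rw [mem_fixE, hx, Matrix.toLin'_one]
    rfl
  rw [h2, finrank_top, finrank_std] at hε
  omega

/-- necessity -/
theorem cond_of_forall (r : ℕ) [Fact r.Prime] (hrp : r ≠ p) (hr2 : r ≠ 2) (a t : ℕ)
    (hat : 2 * d = a * t) (ha : 2 ≤ a) (hae : Even a) (ht : 2 ≤ t)
    (hΩ : r ∣ Nat.card {D : Fin t → Submodule F (Fin d ⊕ Fin d → F) // IsOrthDec d F a D} /
      t.factorial)
    (H : ∀ x : Matrix.symplecticGroup (Fin d) F,
      (∃ z : F, ((x ^ r : Matrix.symplecticGroup (Fin d) F) :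
        Matrix (Fin d ⊕ Fin d) (Fin d ⊕ Fin d) F) = z • 1) →
      (∀ z : F, (x : Matrix (Fin d ⊕ Fin d) (Fin d ⊕ Fin d) F) ≠ z • 1) →
      ∃ D : Fin t → Submodule F (Fin d ⊕ Fin d → F), IsOrthDec d F a D ∧
        ∃ σ : Equiv.Perm (Fin t), ∀ j, (D j).map
          (Matrix.toLin' (x : Matrix (Fin d ⊕ Fin d) (Fin d ⊕ Fin d) F)) = D (σ j)) :
    blockDim (orderOf ((Fintype.card F : ℕ) : ZMod r)) ≤ a ∧
      (2 * d) % blockDim (orderOf ((Fintype.card F : ℕ) : ZMod r)) =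
        t * (a % blockDim (orderOf ((Fintype.card F : ℕ) : ZMod r))) := by
  have hrprime : r.Prime := Fact.out
  have hcpos : 0 < blockDim (orderOf ((Fintype.card F : ℕ) : ZMod r)) := blockDim_pos r hrp
  have hapos : 0 < a := by omega
  have hc2d : blockDim (orderOf ((Fintype.card F : ℕ) : ZMod r)) ≤ 2 * d :=
    blockDim_le_of_dvd r hrp hr2 ht hapos hae hat hΩ
  have hcr : blockDim (orderOf ((Fintype.card F : ℕ) : ZMod r)) ≤ r - 1 :=
    blockDim_le_pred r hrp hr2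
  have hr3 : 3 ≤ r := by
    have := hrprime.two_le
    omega
  -- one block
  have hca : blockDim (orderOf ((Fintype.card F : ℕ) : ZMod r)) ≤ a := by
    obtain ⟨x, hxr, hxε⟩ := exists_sp_blocks (F := F) r hrp hr2 d 1 (by rw [one_mul]; exact hc2d)
    rw [one_mul] at hxε
    have hns := nonscalar_of_fix_lt r hr2 x hxr (by omega)
    obtain ⟨D, hD, σ, hσ⟩ := H x ⟨1, by rw [hxr, one_smul]; rfl⟩ hns
    have hTr := toLin_pow_eq_one x hxr
    have hsum := finrank_fixE_add_movK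
      (T := Matrix.toLin' (x : Matrix (Fin d ⊕ Fin d) (Fin d ⊕ Fin d) F)) r hrp hTr
    rw [finrank_std] at hsum
    apply blockDim_le_of_one_block sympBilin_isAlt (nd_top_symp d) hD.od hapos (toLin_isom x) hσ
      r hrp hr2 hTr (by omega)
    have h1 : (r - 1) * 2 ≤ (r - 1) * a := Nat.mul_le_mul_left _ ha
    omega
  refine ⟨hca, ?_⟩
  -- maximal number of blocks
  obtain ⟨x, hxr, hxε⟩ := exists_sp_blocks (F := F) r hrp hr2 d
    (2 * d / blockDim (orderOf ((Fintype.card F : ℕ) : ZMod r))) (Nat.div_mul_le_self _ _)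
  have hdm := Nat.div_add_mod (2 * d) (blockDim (orderOf ((Fintype.card F : ℕ) : ZMod r)))
  have hmodlt : (2 * d) % blockDim (orderOf ((Fintype.card F : ℕ) : ZMod r)) <
      blockDim (orderOf ((Fintype.card F : ℕ) : ZMod r)) := Nat.mod_lt _ hcpos
  have hcomm : 2 * d / blockDim (orderOf ((Fintype.card F : ℕ) : ZMod r)) *
      blockDim (orderOf ((Fintype.card F : ℕ) : ZMod r)) =
      blockDim (orderOf ((Fintype.card F : ℕ) : ZMod r)) *
        (2 * d / blockDim (orderOf ((Fintype.card F : ℕ) : ZMod r))) := mul_comm _ _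
  have hε : finrank F (fixE (Matrix.toLin' (x : Matrix (Fin d ⊕ Fin d) (Fin d ⊕ Fin d) F))) =
      (2 * d) % blockDim (orderOf ((Fintype.card F : ℕ) : ZMod r)) := by
    omega
  have hns := nonscalar_of_fix_lt r hr2 x hxr (by rw [hε]; omega)
  obtain ⟨D, hD, σ, hσ⟩ := H x ⟨1, by rw [hxr, one_smul]; rfl⟩ hns
  have hTr := toLin_pow_eq_one x hxr
  have h1 := mul_mod_le_of_small_fix sympBilin_isAlt hD.od hapos (toLin_isom x) hσ r hrp hr2 hTr
    (by rw [hε]; omega)
  rw [hε] at h1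
  rw [hat] at h1 ⊢
  exact mod_arith a t _ h1

/-- sufficiency -/
theorem exists_of_cond (r : ℕ) [Fact r.Prime] (hrp : r ≠ p) (hr2 : r ≠ 2) (hd : 1 ≤ d) (a t : ℕ)
    (hat : 2 * d = a * t) (ha : 2 ≤ a) (hae : Even a) (ht : 2 ≤ t)
    (hcond : (2 * d) % blockDim (orderOf ((Fintype.card F : ℕ) : ZMod r)) =
        t * (a % blockDim (orderOf ((Fintype.card F : ℕ) : ZMod r))))
    (x : Matrix.symplecticGroup (Fin d) F)
    (hx : ∃ z : F, ((x ^ r : Matrix.symplecticGroup (Fin d) F) :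
        Matrix (Fin d ⊕ Fin d) (Fin d ⊕ Fin d) F) = z • 1) :
    ∃ D : Fin t → Submodule F (Fin d ⊕ Fin d → F), IsOrthDec d F a D ∧
      ∃ σ : Equiv.Perm (Fin t), ∀ j, (D j).map
        (Matrix.toLin' (x : Matrix (Fin d ⊕ Fin d) (Fin d ⊕ Fin d) F)) = D (σ j) := by
  have hrprime : r.Prime := Fact.out
  have hodd : Odd r := hrprime.odd_of_ne_two hr2
  obtain ⟨z, hz⟩ := hx
  have hzz : z * z = 1 := scalar_sq_eq_one hd (x ^ r) z hz
  have hz0 : z ≠ 0 := by
    rintro rfl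
    rw [mul_zero] at hzz
    exact zero_ne_one hzz
  set T := Matrix.toLin' (x : Matrix (Fin d ⊕ Fin d) (Fin d ⊕ Fin d) F) with hT
  have hTr : T ^ r = z • 1 := by
    rw [hT, ← Matrix.toLin'_pow, ← coe_pow_sp, hz, map_smul, Matrix.toLin'_one]
    rfl
  set T' := z • T with hT'
  have hT'r : T' ^ r = 1 := by
    rw [hT', smul_pow, hTr, smul_smul, pow_eq_self_of_sq hzz hodd, hzz, one_smul]
  have hT'isom : ∀ u v, sympBilin d F (T' u) (T' v) = sympBilin d F u v := by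
    intro u v
    rw [hT']
    simp only [LinearMap.smul_apply, map_smul, smul_eq_mul]
    rw [← mul_assoc, hzz, one_mul]
    exact toLin_isom x u v
  have hdim : finrank F (Fin d ⊕ Fin d → F) = t * a := by rw [finrank_std, hat, mul_comm]
  rw [← finrank_std (F := F) d] at hcond
  obtain ⟨D, hDnd, hDinv, hDfin, hDorth, hDsup⟩ :=
    exists_full_decomp sympBilin_isAlt (nd_top_symp d) r hrp hr2 T' hT'isom hT'r a t hae hdim hcond
  refine ⟨D, isOrthDec_of_od ht (by omega) ⟨hDnd, hDorth, hDsup, hDfin⟩, 1, ?_⟩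
  intro j
  rw [Equiv.Perm.one_apply]
  have h1 : T = z • T' := by rw [hT', smul_smul, hzz, one_smul]
  rw [h1, Submodule.map_smul _ _ z hz0]
  exact map_eq_of_inv hrprime.pos hT'r (hDinv j)

end

end Cfsg.Agent.Lib.Helper1.SpBlk
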