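import Mathlib

set_option autoImplicit false

/-!
# S5955 (PSp on totally isotropic `m`-spaces): basic definitions
-/

namespace Cfsg.Agent.Lib.Helper1.TISp

open Module Polynomial

universe u

/-- `T` fixes a totally isotropic subspace of dimension `m` -/
def FixTI {F : Type*} [Field F] {V : Type*} [AddCommGroup V] [Module F V]
    (B : LinearMap.BilinForm F V) (T : V →ₗ[F] V) (m : ℕ) : Prop :=
  ∃ W : Submodule F V, finrank F W = m ∧ (∀ u ∈ W, ∀ v ∈ W, B u v = 0) ∧ W.map T ≤ W

/-- a symplectic space of dimension `2 h` with an isometry `T`, `T ^ r = 1`, annihilated by `g` -/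
def BlockModel (F : Type u) [Field F] (r h : ℕ) (g : F[X]) : Prop :=
  ∃ (W : Type u) (_ : AddCommGroup W) (_ : Module F W) (_ : FiniteDimensional F W)
    (B : LinearMap.BilinForm F W) (T : W →ₗ[F] W), B.IsAlt ∧
    (∀ x, (∀ y, B x y = 0) → x = 0) ∧ finrank F W = 2 * h ∧
    (∀ x y, B (T x) (T y) = B x y) ∧ T ^ r = 1 ∧ aeval T g = 0

end Cfsg.Agent.Lib.Helper1.TISp
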