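import Mathlib
import Cfsg.Agent.Lib.Helper1.TISp0
import Cfsg.Agent.Lib.Helper1.SpBlk8
import Cfsg.Agent.Lib.Helper4.EqDec5

set_option autoImplicit false
set_option linter.unusedSectionVars false

/-!
# S5955: invariant totally isotropic subspaces of isometries of symplectic spaces, generalities
-/

namespace Cfsg.Agent.Lib.Helper1.TISp

open Module Polynomial Cfsg.Agent.H9SemiInv Cfsg.Agent.Lib.Helper9.H9Elus
  Cfsg.Agent.Lib.Helper2.SpIsom Cfsg.Agent.Lib.Helper1.SpBlk

universe u

section general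
variable {F V : Type*} [Field F] [AddCommGroup V] [Module F V] [FiniteDimensional F V]
variable {B : LinearMap.BilinForm F V}

/-- totally isotropic subspaces -/
def TI (B : LinearMap.BilinForm F V) (Z : Submodule F V) : Prop := ∀ u ∈ Z, ∀ v ∈ Z, B u v = 0

theorem TI.le_orthogonal {Z : Submodule F V} (h : TI B Z) : Z ≤ B.orthogonal Z :=
  fun v hv u hu => h u hu v hv

theorem TI.mono {Z Z' : Submodule F V} (h : TI B Z) (hle : Z' ≤ Z) : TI B Z' :=
  fun u hu v hv => h u (hle hu) v (hle hv)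

theorem ti_bot : TI B ⊥ := by
  intro u hu v _
  rw [(Submodule.mem_bot F).1 hu, map_zero, LinearMap.zero_apply]

/-- a totally isotropic subspace of a nondegenerate space has at most half the dimension -/
theorem TI.two_mul_finrank_le (hB : B.IsAlt) {M Z : Submodule F V} (hM : Nd B M) (hZM : Z ≤ M)
    (hZ : TI B Z) : 2 * finrank F Z ≤ finrank F M := by
  have h1 := hM.finrank_inf_orthogonal hB hZM
  have h2 : finrank F Z ≤ finrank F ↥(M ⊓ B.orthogonal Z) :=
    Submodule.finrank_mono (le_inf hZM hZ.le_orthogonal)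
  omega

/-- the sum of two totally isotropic subspaces orthogonal to each other -/
theorem TI.sup (hB : B.IsAlt) {Z Z' : Submodule F V} (hZ : TI B Z) (hZ' : TI B Z')
    (horth : ∀ u ∈ Z, ∀ v ∈ Z', B u v = 0) : TI B (Z ⊔ Z') := by
  intro u hu v hv
  obtain ⟨a, ha, a', ha', rfl⟩ := Submodule.mem_sup.1 hu
  obtain ⟨b, hb, b', hb', rfl⟩ := Submodule.mem_sup.1 hv
  rw [map_add, map_add, LinearMap.add_apply, LinearMap.add_apply, hZ a ha b hb, hZ' a' ha' b' hb',
    horth a ha b' hb', alt_swap hB a' b, horth b hb a' ha', neg_zero, add_zero, add_zero]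

theorem fixTI_iff (T : V →ₗ[F] V) (m : ℕ) :
    FixTI B T m ↔ ∃ W : Submodule F V, finrank F W = m ∧ TI B W ∧ Inv T W := by
  constructor
  · rintro ⟨W, h1, h2, h3⟩
    exact ⟨W, h1, h2, (inv_iff T W).2 h3⟩
  · rintro ⟨W, h1, h2, h3⟩
    exact ⟨W, h1, h2, (inv_iff T W).1 h3⟩

/-- a maximal invariant totally isotropic subspace -/
theorem exists_max_ti (T : V →ₗ[F] V) :
    ∃ W : Submodule F V, TI B W ∧ Inv T W ∧
      ∀ W' : Submodule F V, TI B W' → Inv T W' → finrank F W' ≤ finrank F W := by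
  classical
  have h0 : ∃ W : Submodule F V, TI B W ∧ Inv T W ∧ finrank F W = 0 :=
    ⟨⊥, ti_bot, fun x hx => by rw [(Submodule.mem_bot F).1 hx, map_zero]; exact Submodule.zero_mem _,
      finrank_bot F V⟩
  obtain ⟨W, hW1, hW2, hW3⟩ := Nat.findGreatest_spec
    (P := fun n => ∃ W : Submodule F V, TI B W ∧ Inv T W ∧ finrank F W = n) (Nat.zero_le (finrank F V)) h0
  refine ⟨W, hW1, hW2, fun W' hW'1 hW'2 => ?_⟩
  rw [hW3]
  exact Nat.le_findGreatest
    (P := fun n => ∃ W : Submodule F V, TI B W ∧ Inv T W ∧ finrank F W = n)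
    (Submodule.finrank_le W') ⟨W', hW'1, hW'2, rfl⟩

end general

section finite
variable {F V : Type*} [Field F] [Fintype F] {p : ℕ} [Fact p.Prime] [CharP F p]
  [AddCommGroup V] [Module F V] [FiniteDimensional F V]
variable {B : LinearMap.BilinForm F V}

/-- the orthogonal of a subspace of a nondegenerate space -/
theorem finrank_add_finrank_orthogonal (hB : B.IsAlt) (hnd : Nd B ⊤) (W : Submodule F V) :
    finrank F W + finrank F (B.orthogonal W) = finrank F V := by
  have h1 := hnd.finrank_inf_orthogonal hB (le_top : W ≤ ⊤)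
  rw [top_inf_eq, finrank_top] at h1
  omega

/-- the anisotropic complement of a maximal invariant totally isotropic subspace -/
theorem exists_aniso (hB : B.IsAlt) (r : ℕ) [Fact r.Prime] (hrp : r ≠ p) (T : V →ₗ[F] V)
    (hT : ∀ u v, B (T u) (T v) = B u v) (hTr : T ^ r = 1) {W : Submodule F V} (hW : TI B W)
    (hWinv : Inv T W)
    (hmax : ∀ W' : Submodule F V, TI B W' → Inv T W' → finrank F W' ≤ finrank F W) :
    ∃ A : Submodule F V, A ≤ B.orthogonal W ∧ Inv T A ∧ Disjoint W A ∧
      W ⊔ A = B.orthogonal W ∧ ∀ Z : Submodule F V, Z ≤ A → TI B Z → Inv T Z → Z = ⊥ := by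
  have hr : 0 < r := (Fact.out : r.Prime).pos
  have hss := isSemisimple_of_pow_eq_one r hrp T hTr
  obtain ⟨A, hA, hAinv, hdis, hfr⟩ := exists_rel_compl T hss (B.orthogonal W)
    (inv_orthogonal hT hr hTr hWinv) W hW.le_orthogonal hWinv
  refine ⟨A, hA, hAinv, hdis, ?_, ?_⟩
  · apply Submodule.eq_of_le_of_finrank_eq (sup_le hW.le_orthogonal hA)
    rw [finrank_sup_of_disjoint hdis, hfr]
  · intro Z hZA hZ hZinv
    have hti : TI B (W ⊔ Z) := hW.sup hB hZ (fun u hu v hv => hA (hZA hv) u hu)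
    have hdis' : Disjoint W Z := hdis.mono_right hZA
    have h1 := hmax (W ⊔ Z) hti (hWinv.sup hZinv)
    rw [finrank_sup_of_disjoint hdis'] at h1
    apply Submodule.finrank_eq_zero.1
    omega

/-- the anisotropic part has no fixed vectors -/
theorem aniso_inf_fixE (hB : B.IsAlt) (T : V →ₗ[F] V) {A : Submodule F V}
    (hA : ∀ Z : Submodule F V, Z ≤ A → TI B Z → Inv T Z → Z = ⊥) : A ⊓ fixE T = ⊥ := by
  rw [eq_bot_iff]
  intro v hv
  rw [Submodule.mem_bot]
  have h1 : Submodule.span F {v} = ⊥ := by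
    apply hA
    · rw [Submodule.span_singleton_le_iff_mem]
      exact hv.1
    · intro a ha b hb
      obtain ⟨s, rfl⟩ := Submodule.mem_span_singleton.1 ha
      obtain ⟨t, rfl⟩ := Submodule.mem_span_singleton.1 hb
      rw [map_smul, map_smul, LinearMap.smul_apply, hB v, smul_zero, smul_zero]
    · intro a ha
      obtain ⟨s, rfl⟩ := Submodule.mem_span_singleton.1 ha
      rw [map_smul, (mem_fixE T v).1 hv.2]
      exact Submodule.smul_mem _ s (Submodule.mem_span_singleton_self v)
  exact Submodule.span_singleton_eq_bot.1 h1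

/-- a maximal invariant totally isotropic subspace contains a maximal totally isotropic subspace
of the fixed space -/
theorem two_mul_finrank_inf_fixE (hB : B.IsAlt) (hnd : Nd B ⊤) (r : ℕ) [Fact r.Prime]
    (hrp : r ≠ p) (T : V →ₗ[F] V) (hT : ∀ u v, B (T u) (T v) = B u v) (hTr : T ^ r = 1)
    {W A : Submodule F V} (hWinv : Inv T W) (hAinv : Inv T A) (hdis : Disjoint W A)
    (hsup : W ⊔ A = B.orthogonal W) (hAfix : A ⊓ fixE T = ⊥) :
    2 * finrank F ↥(W ⊓ fixE T) = finrank F (fixE T) := by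
  have hfix : Nd B (fixE T) := by
    have := nd_inf_fixE r hrp T hT hTr hnd (fun x _ => Submodule.mem_top)
    rwa [top_inf_eq] at this
  have h1 := hfix.finrank_inf_orthogonal hB (inf_le_right : W ⊓ fixE T ≤ fixE T)
  have h2 : fixE T ⊓ B.orthogonal (W ⊓ fixE T) = fixE T ⊓ B.orthogonal W := by
    apply le_antisymm
    · rintro v ⟨hvf, hvo⟩
      refine ⟨hvf, ?_⟩
      intro w hw
      have hw' : w ∈ (W ⊓ fixE T) ⊔ (W ⊓ movK r T) := by
        rw [inf_fixE_sup_inf_movK r hrp T hTr hWinv]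
        exact hw
      obtain ⟨a, ha, b, hb, rfl⟩ := Submodule.mem_sup.1 hw'
      show B (a + b) v = 0
      rw [map_add, LinearMap.add_apply, hvo a ha, alt_swap hB b v,
        fixE_orth_movK r hrp T hT hvf hb.2, neg_zero, add_zero]
    · exact inf_le_inf_left _ (LinearMap.BilinForm.orthogonal_le inf_le_left)
  have h3 : fixE T ⊓ B.orthogonal W = W ⊓ fixE T := by
    rw [← hsup, inf_comm, sup_inf_fixE T hWinv hAinv hdis, hAfix, sup_bot_eq]
  rw [h2, h3] at h1
  omega

end finite

end Cfsg.Agent.Lib.Helper1.TISp
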