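import Mathlib
import Cfsg.Agent.Lib.Helper1.TISp1

set_option autoImplicit false
set_option linter.unusedSectionVars false

/-!
# S5955: semisimple isometries of odd prime order fix totally isotropic subspaces
-/

namespace Cfsg.Agent.Lib.Helper1.TISp

open Module Polynomial Cfsg.Agent.H9SemiInv Cfsg.Agent.Lib.Helper9.H9Elus
  Cfsg.Agent.Lib.Helper2.SpIsom Cfsg.Agent.Lib.Helper1.SpBlk

universe u

section general
variable {F V : Type*} [Field F] [AddCommGroup V] [Module F V] [FiniteDimensional F V]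
variable {B : LinearMap.BilinForm F V}

theorem ti_span {S : Set V} (h : ∀ s ∈ S, ∀ t ∈ S, B s t = 0) : TI B (Submodule.span F S) := by
  intro u hu
  induction hu using Submodule.span_induction with
  | mem s hs =>
    intro v hv
    have h1 : Submodule.span F S ≤ LinearMap.ker (B s) :=
      Submodule.span_le.2 (fun t ht => LinearMap.mem_ker.2 (h s hs t ht))
    exact LinearMap.mem_ker.1 (h1 hv)
  | zero => intro v _; rw [map_zero, LinearMap.zero_apply]
  | add x y _ _ hx hy => intro v hv; rw [map_add, LinearMap.add_apply, hx v hv, hy v hv, add_zero]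
  | smul a x _ hx => intro v hv; rw [map_smul, LinearMap.smul_apply, hx v hv, smul_zero]

end general

section finite
variable {F V : Type*} [Field F] [Fintype F] {p : ℕ} [Fact p.Prime] [CharP F p]
  [AddCommGroup V] [Module F V] [FiniteDimensional F V]
variable {B : LinearMap.BilinForm F V}

theorem aniso_le_movK (r : ℕ) [Fact r.Prime] (hrp : r ≠ p) (T : V →ₗ[F] V) (hTr : T ^ r = 1)
    {A : Submodule F V} (hAinv : Inv T A) (hAfix : A ⊓ fixE T = ⊥) : A ≤ movK r T := by
  have h := inf_fixE_sup_inf_movK r hrp T hTr hAinv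
  rw [hAfix, bot_sup_eq] at h
  intro v hv
  have h1 : v ∈ A ⊓ movK r T := by rw [h]; exact hv
  exact h1.2

/-- for `i` odd the anisotropic part is trivial -/
theorem aniso_eq_bot_of_odd (hB : B.IsAlt) (r : ℕ) [Fact r.Prime] (hrp : r ≠ p) (T : V →ₗ[F] V)
    (hT : ∀ u v, B (T u) (T v) = B u v) (hTr : T ^ r = 1)
    (hodd : Odd (orderOf ((Fintype.card F : ℕ) : ZMod r)))
    {A : Submodule F V} (hAinv : Inv T A) (hAfix : A ⊓ fixE T = ⊥)
    (hA : ∀ Z : Submodule F V, Z ≤ A → TI B Z → Inv T Z → Z = ⊥) : A = ⊥ := by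
  by_contra hne
  have hr : 0 < r := (Fact.out : r.Prime).pos
  have hAK := aniso_le_movK r hrp T hTr hAinv hAfix
  obtain ⟨U, hUA, hUinv, hUfr⟩ := hmin_cyclotomic r hrp T A hAK hAinv hne
  have h1 : U ⊓ B.orthogonal U = ⊥ := by
    apply hA
    · exact inf_le_left.trans hUA
    · intro u hu v hv
      exact hv.2 u hu.1
    · exact hUinv.inf (inv_orthogonal hT hr hTr hUinv)
  have h2 := (nd_of_inf_orthogonal_eq_bot hB h1).even_finrank hB
  rw [hUfr] at h2
  exact (Nat.not_even_iff_odd.2 hodd) h2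

/-- the anisotropic part has dimension at most `r - 1` (Chevalley--Warning as a hypothesis) -/
theorem finrank_aniso_le (hB : B.IsAlt) (r : ℕ) [Fact r.Prime] (hr2 : r ≠ 2) (T : V →ₗ[F] V)
    (hT : ∀ u v, B (T u) (T v) = B u v) (hTr : T ^ r = 1)
    (hCW : ∀ (n : ℕ) (Φ : Fin n → LinearMap.BilinForm F V) (A : Submodule F V),
      2 * n < finrank F A → ∃ v ∈ A, v ≠ 0 ∧ ∀ j, Φ j v v = 0)
    {A : Submodule F V} (hAinv : Inv T A)
    (hA : ∀ Z : Submodule F V, Z ≤ A → TI B Z → Inv T Z → Z = ⊥) : finrank F A ≤ r - 1 := by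
  by_contra hcon
  push Not at hcon
  have hrpr : r.Prime := Fact.out
  have hr3 : 3 ≤ r := by have := hrpr.two_le; omega
  have hodd : r % 2 = 1 := by
    rcases hrpr.eq_two_or_odd with h | h
    · exact absurd h hr2
    · exact h
  obtain ⟨v, hvA, hv0, hv⟩ := hCW ((r - 1) / 2)
    (fun j => LinearMap.comp B (T ^ ((j : ℕ) + 1))) A (by omega)
  have hv' : ∀ k, 1 ≤ k → k ≤ (r - 1) / 2 → B ((T ^ k) v) v = 0 := by
    intro k hk1 hk2
    have h1 := hv ⟨k - 1, by omega⟩
    rw [LinearMap.comp_apply] at h1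
    simp only at h1
    rwa [Nat.sub_add_cancel hk1] at h1
  have hsmall : ∀ k, k < r → B ((T ^ k) v) v = 0 := by
    intro k hk
    rcases Nat.eq_zero_or_pos k with h0 | h0
    · rw [h0, pow_zero, Module.End.one_apply]; exact hB v
    by_cases hk2 : k ≤ (r - 1) / 2
    · exact hv' k h0 hk2
    · have h1 : (T ^ k) ((T ^ (r - k)) v) = v := by
        rw [← Module.End.mul_apply, ← pow_add, show k + (r - k) = r by omega, hTr,
          Module.End.one_apply]
      calc B ((T ^ k) v) v = B ((T ^ k) v) ((T ^ k) ((T ^ (r - k)) v)) := by rw [h1]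
        _ = B v ((T ^ (r - k)) v) := isom_pow hT k _ _
        _ = - B ((T ^ (r - k)) v) v := alt_swap hB _ _
        _ = 0 := by rw [hv' (r - k) (by omega) (by omega), neg_zero]
  have hall : ∀ k, B ((T ^ k) v) v = 0 := by
    intro k
    rw [pow_eq_pow_mod k hTr]
    exact hsmall _ (Nat.mod_lt _ hrpr.pos)
  have hpair : ∀ a b, a ≤ b → B ((T ^ a) v) ((T ^ b) v) = 0 := by
    intro a b hab
    have h1 : (T ^ b) v = (T ^ a) ((T ^ (b - a)) v) := by
      rw [← Module.End.mul_apply, ← pow_add, Nat.add_sub_cancel' hab]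
    rw [h1, isom_pow hT a, alt_swap hB, hall, neg_zero]
  have hZti : TI B (Submodule.span F (Set.range fun k : Fin r => (T ^ (k : ℕ)) v)) := by
    apply ti_span
    rintro _ ⟨a, rfl⟩ _ ⟨b, rfl⟩
    rcases le_total (a : ℕ) (b : ℕ) with hab | hab
    · exact hpair _ _ hab
    · show B ((T ^ (a : ℕ)) v) ((T ^ (b : ℕ)) v) = 0
      rw [alt_swap hB, hpair _ _ hab, neg_zero]
  have hZinv := Cfsg.Agent.Lib.Helper4.EqDec.inv_span_iterates T r (by omega) 1
    (by rw [hTr, one_smul]) v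
  have hZA : Submodule.span F (Set.range fun k : Fin r => (T ^ (k : ℕ)) v) ≤ A := by
    rw [Submodule.span_le]
    rintro _ ⟨k, rfl⟩
    exact Inv.pow' hAinv k v hvA
  have hZ0 := hA _ hZA hZti hZinv
  have hvZ : v ∈ Submodule.span F (Set.range fun k : Fin r => (T ^ (k : ℕ)) v) := by
    apply Submodule.subset_span
    exact ⟨⟨0, hrpr.pos⟩, by simp⟩
  rw [hZ0, Submodule.mem_bot] at hvZ
  exact hv0 hvZ

/-- invariant subspaces of an invariant subspace, of all admissible dimensions -/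
theorem exists_inv_sub (r : ℕ) [Fact r.Prime] (hrp : r ≠ p) (T : V →ₗ[F] V) (hTr : T ^ r = 1)
    {W : Submodule F V} (hWinv : Inv T W) (b s : ℕ) (hb : b ≤ finrank F ↥(W ⊓ fixE T))
    (hs : orderOf ((Fintype.card F : ℕ) : ZMod r) * s ≤ finrank F ↥(W ⊓ movK r T)) :
    ∃ W' : Submodule F V, W' ≤ W ∧ Inv T W' ∧
      finrank F W' = b + orderOf ((Fintype.card F : ℕ) : ZMod r) * s := by
  obtain ⟨W₁, hW₁, hW₁fr⟩ := exists_sub_finrank (W ⊓ fixE T) b hb
  have hss := isSemisimple_of_pow_eq_one r hrp T hTr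
  have hinvK : Inv T (W ⊓ movK r T) := hWinv.inf (inv_movK r T)
  obtain ⟨-, hex⟩ := exists_inv_mul T hss _ (order_pos (F := F) r hrp) (W ⊓ movK r T) hinvK
    (fun Z hZ hZinv hZne => hmin_cyclotomic r hrp T Z (hZ.trans inf_le_right) hZinv hZne)
  obtain ⟨W₂, hW₂, hW₂inv, hW₂fr⟩ := hex s hs
  have hdis : Disjoint W₁ W₂ :=
    (disjoint_fixE_movK r hrp T hTr).mono (hW₁.trans inf_le_right) (hW₂.trans inf_le_right)
  refine ⟨W₁ ⊔ W₂, sup_le (hW₁.trans inf_le_left) (hW₂.trans inf_le_left),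
    (inv_of_le_fixE (hW₁.trans inf_le_right)).sup hW₂inv, ?_⟩
  rw [finrank_sup_of_disjoint hdis, hW₁fr, hW₂fr]

/-- `blockDim i` divides the dimension of the moved part -/
theorem blockDim_dvd_finrank_movK (hB : B.IsAlt) (hnd : Nd B ⊤) (r : ℕ) [Fact r.Prime]
    (hrp : r ≠ p) (T : V →ₗ[F] V) (hT : ∀ u v, B (T u) (T v) = B u v) (hTr : T ^ r = 1) :
    blockDim (orderOf ((Fintype.card F : ℕ) : ZMod r)) ∣ finrank F (movK r T) := by
  have h1 : orderOf ((Fintype.card F : ℕ) : ZMod r) ∣ finrank F (movK r T) :=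
    dvd_finrank_of_le_movK r hrp T hTr (inv_movK r T) le_rfl
  unfold blockDim
  split_ifs with hev
  · exact h1
  · have hnd' : Nd B (movK r T) := by
      have := nd_inf_movK hB r hrp T hT hTr hnd (fun x _ => Submodule.mem_top)
      rwa [top_inf_eq] at this
    have h2 : 2 ∣ finrank F (movK r T) := (hnd'.even_finrank hB).two_dvd
    have hodd := Nat.not_even_iff_odd.1 hev
    exact Nat.Coprime.mul_dvd_of_dvd_of_dvd (Nat.coprime_two_left.2 hodd) h2 h1

end finite

end Cfsg.Agent.Lib.Helper1.TISp
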