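import Mathlib
import Cfsg.Agent.Lib.Helper1.TISp2

set_option autoImplicit false
set_option linter.unusedSectionVars false

/-!
# S5955: the positive direction for odd primes `r ≠ p`
-/

namespace Cfsg.Agent.Lib.Helper1.TISp

open Module Polynomial Cfsg.Agent.H9SemiInv Cfsg.Agent.Lib.Helper9.H9Elus
  Cfsg.Agent.Lib.Helper2.SpIsom Cfsg.Agent.Lib.Helper1.SpBlk

universe u

section finite
variable {F V : Type*} [Field F] [Fintype F] {p : ℕ} [Fact p.Prime] [CharP F p]
  [AddCommGroup V] [Module F V] [FiniteDimensional F V]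
variable {B : LinearMap.BilinForm F V}

/-- pure arithmetic: the choice of the dimensions of the two parts -/
theorem arith_choice (i m d a sW fa r : ℕ) (hi : 1 ≤ i) (hmd : m ≤ d)
    (hrm : m % i ≤ a) (h2d : 2 * a + 2 * (i * sW) + fa = 2 * d)
    (hfa : Odd i → fa = 0) (hfa' : fa ≤ r - 1) (hifa : i ∣ fa) (hir : i ∣ r - 1)
    (h1 : 2 * (m % i) ≤ (2 * d) % i ∨ Odd i)
    (h2 : Odd i ∨ (r - 1) / i + 2 * (m / i) ≤ (2 * d) / i) :
    ∃ b s, b ≤ a ∧ s ≤ sW ∧ b + i * s = m := by
  have hm := Nat.div_add_mod m i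
  by_cases hc : m / i ≤ sW
  · exact ⟨m % i, m / i, hrm, hc, by omega⟩
  · push Not at hc
    have hlt : i * sW ≤ i * (m / i) := Nat.mul_le_mul_left i hc.le
    refine ⟨m - i * sW, sW, ?_, le_rfl, by omega⟩
    rcases h2 with hodd | h2
    · have := hfa hodd
      omega
    · rcases h1 with h1 | hodd
      · obtain ⟨f, hf⟩ := hifa
        have hrt : i * ((r - 1) / i) = r - 1 := Nat.mul_div_cancel' hir
        have hft : f ≤ (r - 1) / i := by
          apply Nat.le_of_mul_le_mul_left _ hi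
          rw [hrt, ← hf]
          exact hfa'
        have h3 : i * (2 * (m / i) + f) ≤ i * ((2 * d) / i) := Nat.mul_le_mul_left i (by omega)
        have h4 : i * (2 * (m / i) + f) = 2 * (i * (m / i)) + i * f := by ring
        have h5 := Nat.div_add_mod (2 * d) i
        omega
      · have := hfa hodd
        omega

/-- **ELU**: a semisimple isometry of odd prime order fixes a totally isotropic `m`-space under
the arithmetic conditions of S5955 -/
theorem fixTI_of_cond (hB : B.IsAlt) (hnd : Nd B ⊤) (r : ℕ) [Fact r.Prime] (hrp : r ≠ p)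
    (hr2 : r ≠ 2)
    (hCW : ∀ (n : ℕ) (Φ : Fin n → LinearMap.BilinForm F V) (A : Submodule F V),
      2 * n < finrank F A → ∃ v ∈ A, v ≠ 0 ∧ ∀ j, Φ j v v = 0)
    (T : V →ₗ[F] V) (hT : ∀ u v, B (T u) (T v) = B u v) (hTr : T ^ r = 1)
    (d m : ℕ) (hdim : finrank F V = 2 * d) (hmd : m ≤ d)
    (h1 : 2 * (m % orderOf ((Fintype.card F : ℕ) : ZMod r)) ≤
      (2 * d) % blockDim (orderOf ((Fintype.card F : ℕ) : ZMod r)))
    (h2 : Odd (orderOf ((Fintype.card F : ℕ) : ZMod r)) ∨
      (r - 1) / orderOf ((Fintype.card F : ℕ) : ZMod r) +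
        2 * (m / orderOf ((Fintype.card F : ℕ) : ZMod r)) ≤
        (2 * d) / orderOf ((Fintype.card F : ℕ) : ZMod r)) : FixTI B T m := by
  have hi := order_pos (F := F) r hrp
  have hrpr : r.Prime := Fact.out
  obtain ⟨W, hWti, hWinv, hWmax⟩ := exists_max_ti (B := B) T
  obtain ⟨A, hAorth, hAinv, hdis, hsup, hAan⟩ :=
    exists_aniso hB r hrp T hT hTr hWti hWinv hWmax
  have hAfix := aniso_inf_fixE hB T hAan
  have e2 := two_mul_finrank_inf_fixE hB hnd r hrp T hT hTr hWinv hAinv hdis hsup hAfix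
  have e1 := finrank_inf_fixE_add r hrp T hTr hWinv
  have e3 := finrank_fixE_add_movK (T := T) r hrp hTr
  have e4 := finrank_add_finrank_orthogonal hB hnd W
  have e5 : finrank F W + finrank F A = finrank F (B.orthogonal W) := by
    rw [← hsup, finrank_sup_of_disjoint hdis]
  obtain ⟨sW, hsW⟩ : orderOf ((Fintype.card F : ℕ) : ZMod r) ∣ finrank F ↥(W ⊓ movK r T) :=
    dvd_finrank_of_le_movK r hrp T hTr (hWinv.inf (inv_movK r T)) inf_le_right
  have hAK := aniso_le_movK r hrp T hTr hAinv hAfix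
  have hiA : orderOf ((Fintype.card F : ℕ) : ZMod r) ∣ finrank F A :=
    dvd_finrank_of_le_movK r hrp T hTr hAinv hAK
  have hcM := blockDim_dvd_finrank_movK hB hnd r hrp T hT hTr
  have hir : orderOf ((Fintype.card F : ℕ) : ZMod r) ∣ r - 1 := by
    have h := ZMod.orderOf_dvd_card_sub_one (p := r) (a := ((Fintype.card F : ℕ) : ZMod r)) ?_
    · exact h
    · intro h0
      have h3 := orderOf_eq_zero_iff.2 (fun hfin : IsOfFinOrder ((Fintype.card F : ℕ) : ZMod r) => by
        obtain ⟨n, hn, hn1⟩ := hfin.exists_pow_eq_one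
        rw [h0, zero_pow hn.ne'] at hn1
        exact zero_ne_one hn1)
      omega
  -- `m % i ≤ a`
  have hrm : m % orderOf ((Fintype.card F : ℕ) : ZMod r) ≤ finrank F ↥(W ⊓ fixE T) := by
    obtain ⟨e, he⟩ := hcM
    have h3 : (2 * d) % blockDim (orderOf ((Fintype.card F : ℕ) : ZMod r)) =
        (finrank F (fixE T)) % blockDim (orderOf ((Fintype.card F : ℕ) : ZMod r)) := by
      rw [← hdim, ← e3, he, Nat.add_mul_mod_self_left]
    have h4 := Nat.mod_le (finrank F (fixE T)) (blockDim (orderOf ((Fintype.card F : ℕ) : ZMod r)))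
    omega
  have hfa : Odd (orderOf ((Fintype.card F : ℕ) : ZMod r)) → finrank F A = 0 := by
    intro hodd
    rw [aniso_eq_bot_of_odd hB r hrp T hT hTr hodd hAinv hAfix hAan, finrank_bot]
  have hfa' := finrank_aniso_le hB r hr2 T hT hTr hCW hAinv hAan
  have h1' : 2 * (m % orderOf ((Fintype.card F : ℕ) : ZMod r)) ≤
      (2 * d) % orderOf ((Fintype.card F : ℕ) : ZMod r) ∨
      Odd (orderOf ((Fintype.card F : ℕ) : ZMod r)) := by
    rcases Nat.even_or_odd (orderOf ((Fintype.card F : ℕ) : ZMod r)) with hev | hodd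
    · left
      unfold blockDim at h1
      rwa [if_pos hev] at h1
    · exact Or.inr hodd
  obtain ⟨b, s, hb, hs, hbs⟩ := arith_choice (orderOf ((Fintype.card F : ℕ) : ZMod r)) m d
    (finrank F ↥(W ⊓ fixE T)) sW (finrank F A) r hi hmd hrm (by rw [← hsW]; omega) hfa hfa'
    hiA hir h1' h2
  obtain ⟨W', hW'W, hW'inv, hW'fr⟩ := exists_inv_sub r hrp T hTr hWinv b s hb
    (by rw [hsW]; exact Nat.mul_le_mul_left _ hs)
  rw [fixTI_iff]
  exact ⟨W', by rw [hW'fr, hbs], hWti.mono hW'W, hW'inv⟩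

end finite

end Cfsg.Agent.Lib.Helper1.TISp
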