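import Mathlib

set_option autoImplicit false

/-!
# S5955, PK-CW: Chevalley--Warning for several bilinear forms on a subspace
-/

namespace Cfsg.Agent.Lib.Helper1.TISp

open Module

theorem exists_ne_zero_common_zero {F : Type*} [Field F] [Fintype F] {V : Type*} [AddCommGroup V]
    [Module F V] [FiniteDimensional F V] (n : ℕ) (Φ : Fin n → LinearMap.BilinForm F V)
    (A : Submodule F V) (hA : 2 * n < finrank F A) :
    ∃ v ∈ A, v ≠ 0 ∧ ∀ j, Φ j v v = 0 := by
  classical
  obtain ⟨p, hp⟩ := CharP.exists F
  have hpp : p.Prime := by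
    rcases CharP.char_is_prime_or_zero F p with h | h
    · exact h
    · exfalso
      subst h
      have := CharP.charP_to_charZero F
      exact not_finite F
  let b := Module.finBasis F A
  let f : Fin n → MvPolynomial (Fin (finrank F A)) F := fun j =>
    ∑ k, ∑ l, MvPolynomial.C (Φ j (b k : V) (b l : V)) * MvPolynomial.X k * MvPolynomial.X l
  have hdeg : ∀ j, (f j).totalDegree ≤ 2 := by
    intro j
    refine (MvPolynomial.totalDegree_finsetSum _ _).trans ?_
    apply Finset.sup_le
    intro k _
    refine (MvPolynomial.totalDegree_finsetSum _ _).trans ?_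
    apply Finset.sup_le
    intro l _
    refine (MvPolynomial.totalDegree_mul _ _).trans ?_
    have h1 := MvPolynomial.totalDegree_mul (MvPolynomial.C (Φ j (b k : V) (b l : V)))
      (MvPolynomial.X k : MvPolynomial (Fin (finrank F A)) F)
    rw [MvPolynomial.totalDegree_C, zero_add, MvPolynomial.totalDegree_X] at h1
    rw [MvPolynomial.totalDegree_X]
    omega
  have hsum : ∑ j ∈ (Finset.univ : Finset (Fin n)), (f j).totalDegree <
      Fintype.card (Fin (finrank F A)) := by
    calc ∑ j ∈ (Finset.univ : Finset (Fin n)), (f j).totalDegree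
        ≤ ∑ _j ∈ (Finset.univ : Finset (Fin n)), 2 := Finset.sum_le_sum (fun j _ => hdeg j)
      _ = 2 * n := by simp [mul_comm]
      _ < Fintype.card (Fin (finrank F A)) := by rw [Fintype.card_fin]; exact hA
  have hdvd := char_dvd_card_solutions_of_sum_lt p hsum
  have hcoe : ∀ x : Fin (finrank F A) → F,
      ((b.equivFun.symm x : A) : V) = ∑ k, x k • (b k : V) := by
    intro x
    rw [Basis.equivFun_symm_apply, Submodule.coe_sum]
    rfl
  have heval : ∀ (x : Fin (finrank F A) → F) (j : Fin n),
      MvPolynomial.eval x (f j) = Φ j (b.equivFun.symm x : A) (b.equivFun.symm x : A) := by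
    intro x j
    rw [hcoe x]
    simp only [f, map_sum, map_mul, MvPolynomial.eval_C, MvPolynomial.eval_X, LinearMap.sum_apply,
      map_smul, LinearMap.smul_apply, smul_eq_mul]
    rw [Finset.sum_comm]
    apply Finset.sum_congr rfl
    intro k _
    rw [Finset.mul_sum]
    apply Finset.sum_congr rfl
    intro l _
    ring
  have hzero : ∀ j ∈ (Finset.univ : Finset (Fin n)),
      MvPolynomial.eval (0 : Fin (finrank F A) → F) (f j) = 0 := by
    intro j _
    rw [heval, map_zero]
    simp
  rw [Fintype.card_eq_nat_card] at hdvd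
  have _ne : Nonempty {x : Fin (finrank F A) → F //
      ∀ j ∈ (Finset.univ : Finset (Fin n)), MvPolynomial.eval x (f j) = 0} := ⟨⟨0, hzero⟩⟩
  have hcard : 1 < Nat.card {x : Fin (finrank F A) → F //
      ∀ j ∈ (Finset.univ : Finset (Fin n)), MvPolynomial.eval x (f j) = 0} :=
    lt_of_lt_of_le hpp.one_lt (Nat.le_of_dvd Nat.card_pos hdvd)
  have _nt := (Finite.one_lt_card_iff_nontrivial).1 hcard
  obtain ⟨⟨x, hx⟩, hne⟩ := exists_ne (⟨0, hzero⟩ : {x : Fin (finrank F A) → F //
      ∀ j ∈ (Finset.univ : Finset (Fin n)), MvPolynomial.eval x (f j) = 0})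
  have hx0 : x ≠ 0 := fun h => hne (Subtype.ext h)
  refine ⟨((b.equivFun.symm x : A) : V), (b.equivFun.symm x).2, ?_, ?_⟩
  · intro h
    apply hx0
    have h1 : b.equivFun.symm x = 0 := Subtype.ext h
    exact (LinearEquiv.map_eq_zero_iff b.equivFun.symm).1 h1
  · intro j
    rw [← heval]
    exact hx j (Finset.mem_univ j)

end Cfsg.Agent.Lib.Helper1.TISp
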