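import Mathlib
import Cfsg.Agent.Lib.Helper1.TISp3
import Cfsg.Agent.Lib.Helper1.TISp_CW

set_option autoImplicit false
set_option linter.unusedSectionVars false

/-!
# S5955: the symplectic group; positive direction, first derangements, arithmetic
-/

namespace Cfsg.Agent.Lib.Helper1.TISp

open Module Polynomial Cfsg.Agent.H9SemiInv Cfsg.Agent.Lib.Helper9.H9Elus
  Cfsg.Agent.Lib.Helper2.SpIsom Cfsg.Agent.Lib.Helper1.SpBlk

universe u

section arith

theorem dvd_pow_sub_one_iff (r : ℕ) [Fact r.Prime] (q n : ℕ) (hq : 1 ≤ q) :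
    r ∣ q ^ n - 1 ↔ orderOf ((q : ℕ) : ZMod r) ∣ n := by
  rw [orderOf_dvd_iff_pow_eq_one]
  have h1 : 1 ≤ q ^ n := Nat.one_le_pow _ _ hq
  rw [← ZMod.natCast_eq_zero_iff, Nat.cast_sub h1, Nat.cast_pow, Nat.cast_one, sub_eq_zero]

theorem blockDim_dvd_of_dvd (i n : ℕ) (h : i ∣ 2 * n) : blockDim i ∣ 2 * n := by
  unfold blockDim
  split_ifs with hev
  · exact h
  · have hodd := Nat.not_even_iff_odd.1 hev
    have h1 : i ∣ n := Nat.Coprime.dvd_of_dvd_mul_left (Nat.coprime_two_right.2 hodd) h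
    exact Nat.mul_dvd_mul_left 2 h1

end arith

section general
variable {F : Type*} [Field F] [Fintype F]
  {V : Type*} [AddCommGroup V] [Module F V] [FiniteDimensional F V]
  {B : LinearMap.BilinForm F V}

theorem fixE_one : fixE (1 : V →ₗ[F] V) = ⊤ := by
  rw [eq_top_iff]
  intro v _
  rw [mem_fixE, Module.End.one_apply]

/-- totally isotropic subspaces of all dimensions up to `d` exist -/
theorem exists_ti (hB : B.IsAlt) (hnd : Nd B ⊤) (d m : ℕ) (hdim : finrank F V = 2 * d)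
    (hmd : m ≤ d) : ∃ W : Submodule F V, finrank F W = m ∧ TI B W := by
  obtain ⟨p, hp⟩ := CharP.exists F
  have _instp : Fact p.Prime := ⟨CharP.char_is_prime F p⟩
  obtain ⟨r, hr, hrp⟩ : ∃ r : ℕ, r.Prime ∧ r ≠ p := by
    by_cases hp : p = 2
    · exact ⟨3, Nat.prime_three, by omega⟩
    · exact ⟨2, Nat.prime_two, fun h => hp h.symm⟩
  have _inst : Fact r.Prime := ⟨hr⟩
  have hT : ∀ u v : V, B ((1 : V →ₗ[F] V) u) ((1 : V →ₗ[F] V) v) = B u v := fun u v => rfl
  have hTr : (1 : V →ₗ[F] V) ^ r = 1 := one_pow r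
  obtain ⟨W, hWti, hWinv, hWmax⟩ := exists_max_ti (B := B) (1 : V →ₗ[F] V)
  obtain ⟨A, hAorth, hAinv, hdis, hsup, hAan⟩ :=
    exists_aniso hB r hrp (1 : V →ₗ[F] V) hT hTr hWti hWinv hWmax
  have hAfix := aniso_inf_fixE hB (1 : V →ₗ[F] V) hAan
  have e2 := two_mul_finrank_inf_fixE hB hnd r hrp (1 : V →ₗ[F] V) hT hTr hWinv hAinv hdis hsup
    hAfix
  rw [fixE_one, inf_top_eq, finrank_top, hdim] at e2
  obtain ⟨W', hW'W, hW'fr⟩ := exists_sub_finrank W m (by omega)
  exact ⟨W', hW'fr, hWti.mono hW'W⟩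

end general

section sp
variable {F : Type*} [Field F] [Fintype F] {p : ℕ} [Fact p.Prime] [CharP F p] {d : ℕ}

/-- a scalar matrix fixes a totally isotropic `m`-space -/
theorem not_scalar_of_not_fixTI (m : ℕ) (hmd : m ≤ d) (x : Matrix.symplecticGroup (Fin d) F)
    (hx : ¬ FixTI (sympBilin d F)
      (Matrix.toLin' (x : Matrix (Fin d ⊕ Fin d) (Fin d ⊕ Fin d) F)) m) (z : F) :
    (x : Matrix (Fin d ⊕ Fin d) (Fin d ⊕ Fin d) F) ≠ z • 1 := by
  intro h
  apply hx
  obtain ⟨W, hWfr, hWti⟩ := exists_ti (F := F) sympBilin_isAlt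
    (nd_top_symp d) d m (finrank_std d) hmd
  refine ⟨W, hWfr, hWti, ?_⟩
  rw [h, map_smul, Matrix.toLin'_one]
  rintro _ ⟨w, hw, rfl⟩
  rw [LinearMap.smul_apply, LinearMap.id_apply]
  exact W.smul_mem z hw

/-- the positive direction for odd `r ≠ p` -/
theorem fixTI_of_cond_sp (r : ℕ) [Fact r.Prime] (hrp : r ≠ p) (hr2 : r ≠ 2) (hd : 1 ≤ d) (m : ℕ)
    (hmd : m ≤ d)
    (h1 : 2 * (m % orderOf ((Fintype.card F : ℕ) : ZMod r)) ≤
      (2 * d) % blockDim (orderOf ((Fintype.card F : ℕ) : ZMod r)))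
    (h2 : Odd (orderOf ((Fintype.card F : ℕ) : ZMod r)) ∨
      (r - 1) / orderOf ((Fintype.card F : ℕ) : ZMod r) +
        2 * (m / orderOf ((Fintype.card F : ℕ) : ZMod r)) ≤
        (2 * d) / orderOf ((Fintype.card F : ℕ) : ZMod r))
    (x : Matrix.symplecticGroup (Fin d) F)
    (hx : ∃ z : F, ((x ^ r : Matrix.symplecticGroup (Fin d) F) :
        Matrix (Fin d ⊕ Fin d) (Fin d ⊕ Fin d) F) = z • 1) :
    FixTI (sympBilin d F) (Matrix.toLin' (x : Matrix (Fin d ⊕ Fin d) (Fin d ⊕ Fin d) F)) m := by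
  have hrprime : r.Prime := Fact.out
  have hodd : Odd r := hrprime.odd_of_ne_two hr2
  obtain ⟨z, hz⟩ := hx
  have hzz : z * z = 1 := scalar_sq_eq_one hd (x ^ r) z hz
  have hz0 : z ≠ 0 := by
    rintro rfl
    rw [mul_zero] at hzz
    exact zero_ne_one hzz
  set T := Matrix.toLin' (x : Matrix (Fin d ⊕ Fin d) (Fin d ⊕ Fin d) F) with hT
  have hTr : T ^ r = z • 1 := by
    rw [hT, ← Matrix.toLin'_pow, ← coe_pow_sp, hz, map_smul, Matrix.toLin'_one]
    rfl
  set T' := z • T with hT'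
  have hT'r : T' ^ r = 1 := by
    rw [hT', _root_.smul_pow, hTr, smul_smul, pow_eq_self_of_sq hzz hodd, hzz, one_smul]
  have hT'isom : ∀ u v, sympBilin d F (T' u) (T' v) = sympBilin d F u v := by
    intro u v
    rw [hT']
    simp only [LinearMap.smul_apply, map_smul, smul_eq_mul]
    rw [← mul_assoc, hzz, one_mul]
    exact toLin_isom x u v
  have hCW : ∀ (n : ℕ) (Φ : Fin n → LinearMap.BilinForm F (Fin d ⊕ Fin d → F))
      (A : Submodule F (Fin d ⊕ Fin d → F)),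
      2 * n < finrank F A → ∃ v ∈ A, v ≠ 0 ∧ ∀ j, Φ j v v = 0 :=
    fun n Φ A hA => exists_ne_zero_common_zero n Φ A hA
  have hfix : FixTI (sympBilin d F) T' m :=
    fixTI_of_cond (p := p) (B := sympBilin d F) sympBilin_isAlt (nd_top_symp d) r hrp hr2
      hCW T' hT'isom hT'r d m (finrank_std d) hmd h1 h2
  obtain ⟨W, hWfr, hWti, hWinv⟩ := hfix
  refine ⟨W, hWfr, hWti, ?_⟩
  have h3 : T = z • T' := by rw [hT', smul_smul, hzz, one_smul]
  rw [h3, Submodule.map_smul _ _ z hz0]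
  exact hWinv

/-- **DER1**: the element with the maximal number of blocks -/
theorem exists_not_fixTI_of_not_B (r : ℕ) [Fact r.Prime] (hrp : r ≠ p) (hr2 : r ≠ 2) (m : ℕ)
    (hnB : (2 * d) % blockDim (orderOf ((Fintype.card F : ℕ) : ZMod r)) <
      2 * (m % orderOf ((Fintype.card F : ℕ) : ZMod r))) :
    ∃ x : Matrix.symplecticGroup (Fin d) F, x ^ r = 1 ∧
      ¬ FixTI (sympBilin d F)
        (Matrix.toLin' (x : Matrix (Fin d ⊕ Fin d) (Fin d ⊕ Fin d) F)) m := by
  have hcpos : 0 < blockDim (orderOf ((Fintype.card F : ℕ) : ZMod r)) := blockDim_pos r hrp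
  obtain ⟨x, hxr, hxε⟩ := exists_sp_blocks (F := F) r hrp hr2 d
    (2 * d / blockDim (orderOf ((Fintype.card F : ℕ) : ZMod r))) (Nat.div_mul_le_self _ _)
  have hdm := Nat.div_add_mod (2 * d) (blockDim (orderOf ((Fintype.card F : ℕ) : ZMod r)))
  have hcomm : 2 * d / blockDim (orderOf ((Fintype.card F : ℕ) : ZMod r)) *
      blockDim (orderOf ((Fintype.card F : ℕ) : ZMod r)) =
      blockDim (orderOf ((Fintype.card F : ℕ) : ZMod r)) *
        (2 * d / blockDim (orderOf ((Fintype.card F : ℕ) : ZMod r))) := mul_comm _ _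
  have hε : finrank F (fixE (Matrix.toLin' (x : Matrix (Fin d ⊕ Fin d) (Fin d ⊕ Fin d) F))) =
      (2 * d) % blockDim (orderOf ((Fintype.card F : ℕ) : ZMod r)) := by
    omega
  refine ⟨x, hxr, ?_⟩
  rintro ⟨W, hWfr, hWti, hWinv⟩
  have hTr := toLin_pow_eq_one x hxr
  have hWinv' : Inv (Matrix.toLin' (x : Matrix (Fin d ⊕ Fin d) (Fin d ⊕ Fin d) F)) W :=
    (inv_iff _ W).2 hWinv
  have e1 := finrank_inf_fixE_add r hrp _ hTr hWinv'
  have hfix : Nd (sympBilin d F)
      (fixE (Matrix.toLin' (x : Matrix (Fin d ⊕ Fin d) (Fin d ⊕ Fin d) F))) := by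
    have := nd_inf_fixE r hrp _ (toLin_isom x) hTr (nd_top_symp d)
      (fun x _ => Submodule.mem_top)
    rwa [top_inf_eq] at this
  have hti' : TI (sympBilin d F) W := hWti
  have e2 := TI.two_mul_finrank_le sympBilin_isAlt hfix
    (inf_le_right : W ⊓ fixE (Matrix.toLin' (x : Matrix (Fin d ⊕ Fin d) (Fin d ⊕ Fin d) F)) ≤ _)
    (hti'.mono inf_le_left)
  obtain ⟨s, hs⟩ := dvd_finrank_of_le_movK r hrp _ hTr (hWinv'.inf (inv_movK r _))
    (inf_le_right : W ⊓ movK r (Matrix.toLin' (x : Matrix (Fin d ⊕ Fin d) (Fin d ⊕ Fin d) F)) ≤ _)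
  have h3 : m % orderOf ((Fintype.card F : ℕ) : ZMod r) ≤
      finrank F ↥(W ⊓ fixE (Matrix.toLin' (x : Matrix (Fin d ⊕ Fin d) (Fin d ⊕ Fin d) F))) := by
    rw [← hWfr, ← e1, hs, Nat.add_mul_mod_self_left]
    exact Nat.mod_le _ _
  omega

/-- transfer of an abstract isometry to the symplectic group, with the coordinates -/
theorem exists_sp_isom {W : Type*} [AddCommGroup W] [Module F W] [FiniteDimensional F W]
    (B : LinearMap.BilinForm F W) (hB : B.IsAlt) (hnd : ∀ x, (∀ y, B x y = 0) → x = 0)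
    {n : ℕ} (hdim : finrank F W = 2 * n) (T : W →ₗ[F] W)
    (hpres : ∀ x y, B (T x) (T y) = B x y) (r : ℕ) (hT : T ^ r = 1) :
    ∃ (x : Matrix.symplecticGroup (Fin n) F) (e : W ≃ₗ[F] (Fin n ⊕ Fin n → F)), x ^ r = 1 ∧
      (∀ u v, sympBilin n F (e u) (e v) = B u v) ∧
      ∀ v, Matrix.toLin' (x : Matrix (Fin n ⊕ Fin n) (Fin n ⊕ Fin n) F) (e v) = e (T v) := by
  classical
  obtain ⟨m, b, hm, hb⟩ := Cfsg.Agent.Lib.Helper5.AltForm.exists_symplectic_basis hB hnd
  obtain rfl : m = n := by omega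
  have hgram : LinearMap.BilinForm.toMatrix b B = Matrix.J (Fin m) F := by
    ext x y
    rw [LinearMap.BilinForm.toMatrix_apply, hb]
  have hmem : LinearMap.toMatrix b b T ∈ Matrix.symplecticGroup (Fin m) F := by
    rw [SymplecticGroup.mem_iff']
    have h1 := LinearMap.BilinForm.toMatrix_comp b b B T T
    have h2 : B.comp T T = B := by
      ext x y
      simp [hpres]
    rw [h2, hgram] at h1
    exact h1.symm
  have hform : ∀ u v, Cfsg.sympForm m F (b.equivFun u) (b.equivFun v) = B u v := by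
    intro u v
    rw [LinearMap.BilinForm.apply_eq_dotProduct_toMatrix_mulVec b B u v, hgram]
    rfl
  refine ⟨⟨LinearMap.toMatrix b b T, hmem⟩, b.equivFun, ?_, ?_, ?_⟩
  · apply Subtype.ext
    rw [SubmonoidClass.coe_pow]
    show (LinearMap.toMatrix b b T) ^ r = 1
    rw [LinearMap.toMatrix_pow, hT, LinearMap.toMatrix_one]
  · intro u v
    rw [sympBilin_apply]
    exact hform u v
  · intro v
    show Matrix.toLin' (LinearMap.toMatrix b b T) (b.equivFun v) = b.equivFun (T v)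
    rw [Matrix.toLin'_apply, Basis.equivFun_apply, Basis.equivFun_apply]
    exact LinearMap.toMatrix_mulVec_repr b b T v

/-- an abstract model without invariant totally isotropic `m`-spaces gives a derangement -/
theorem exists_not_fixTI_of_model {W : Type*} [AddCommGroup W] [Module F W]
    [FiniteDimensional F W]
    (B : LinearMap.BilinForm F W) (hB : B.IsAlt) (hnd : ∀ x, (∀ y, B x y = 0) → x = 0)
    (hdim : finrank F W = 2 * d) (T : W →ₗ[F] W)
    (hpres : ∀ x y, B (T x) (T y) = B x y) (r : ℕ) (hT : T ^ r = 1) (m : ℕ)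
    (hno : ∀ Z : Submodule F W, Inv T Z → TI B Z → finrank F Z ≠ m) :
    ∃ x : Matrix.symplecticGroup (Fin d) F, x ^ r = 1 ∧
      ¬ FixTI (sympBilin d F)
        (Matrix.toLin' (x : Matrix (Fin d ⊕ Fin d) (Fin d ⊕ Fin d) F)) m := by
  obtain ⟨x, e, hxr, hform, hint⟩ := exists_sp_isom B hB hnd hdim T hpres r hT
  refine ⟨x, hxr, ?_⟩
  rintro ⟨Z, hZfr, hZti, hZinv⟩
  apply hno (Z.comap e.toLinearMap)
  · intro v hv
    rw [Submodule.mem_comap] at hv ⊢
    show e (T v) ∈ Z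
    rw [← hint]
    exact hZinv (Submodule.mem_map_of_mem hv)
  · intro u hu v hv
    rw [← hform]
    exact hZti _ hu _ hv
  · rw [← hZfr]
    have h1 : Z.comap e.toLinearMap = Z.map e.symm.toLinearMap :=
      Submodule.comap_equiv_eq_map_symm e Z
    rw [h1]
    exact LinearEquiv.finrank_map_eq e.symm Z

end sp

end Cfsg.Agent.Lib.Helper1.TISp
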