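import Mathlib
import Cfsg.Agent.Lib.Helper1.NDSp0
import Cfsg.Agent.Lib.Helper1.TISp4

set_option autoImplicit false
set_option linter.unusedSectionVars false

/-!
# S5956: odd primes `r ≠ p`
-/

namespace Cfsg.Agent.Lib.Helper1.NDSp

open Module Polynomial Cfsg.Agent.H9SemiInv Cfsg.Agent.Lib.Helper9.H9Elus
  Cfsg.Agent.Lib.Helper2.SpIsom Cfsg.Agent.Lib.Helper1.SpBlk Cfsg.Agent.Lib.Helper1.TISp

section general
variable {F V : Type*} [Field F] [AddCommGroup V] [Module F V] [FiniteDimensional F V]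
variable {B : LinearMap.BilinForm F V}

theorem nd_iff (B : LinearMap.BilinForm F V) (W : Submodule F V) :
    (∀ u ∈ W, u ≠ 0 → ∃ v ∈ W, B u v ≠ 0) ↔ Nd B W := by
  constructor
  · intro h u hu hu'
    by_contra h0
    obtain ⟨v, hv, hne⟩ := h u hu h0
    exact hne (hu' v hv)
  · intro h u hu h0
    by_contra hcon
    push Not at hcon
    exact h0 (h u hu hcon)

theorem fixND_iff (T : V →ₗ[F] V) (m : ℕ) :
    FixND B T m ↔ ∃ W : Submodule F V, finrank F W = m ∧ Nd B W ∧ Inv T W := by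
  constructor
  · rintro ⟨W, h1, h2, h3⟩
    exact ⟨W, h1, (nd_iff B W).1 h2, (inv_iff T W).2 h3⟩
  · rintro ⟨W, h1, h2, h3⟩
    exact ⟨W, h1, (nd_iff B W).2 h2, (inv_iff T W).1 h3⟩

end general

section finite
variable {F V : Type*} [Field F] [Fintype F] {p : ℕ} [Fact p.Prime] [CharP F p]
  [AddCommGroup V] [Module F V] [FiniteDimensional F V]
variable {B : LinearMap.BilinForm F V}

/-- the positive direction for odd `r ≠ p` -/
theorem fixND_of_cond (hB : B.IsAlt) (hnd : Nd B ⊤) (r : ℕ) [Fact r.Prime] (hrp : r ≠ p)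
    (hr2 : r ≠ 2) (T : V →ₗ[F] V) (hT : ∀ u v, B (T u) (T v) = B u v) (hTr : T ^ r = 1)
    (d m : ℕ) (hdim : finrank F V = 2 * d) (hme : Even m) (hmd : m ≤ 2 * d)
    (h1 : m % blockDim (orderOf ((Fintype.card F : ℕ) : ZMod r)) ≤
      (2 * d) % blockDim (orderOf ((Fintype.card F : ℕ) : ZMod r))) : FixND B T m := by
  have hcpos : 0 < blockDim (orderOf ((Fintype.card F : ℕ) : ZMod r)) := blockDim_pos r hrp
  obtain ⟨c', hc'⟩ := even_blockDim (orderOf ((Fintype.card F : ℕ) : ZMod r))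
  obtain ⟨e, he⟩ := blockDim_dvd_finrank_movK hB hnd r hrp T hT hTr
  have e3 := finrank_fixE_add_movK (T := T) r hrp hTr
  have hinv : Inv T (⊤ : Submodule F V) := fun _ _ => Submodule.mem_top
  have hmodle : (2 * d) % blockDim (orderOf ((Fintype.card F : ℕ) : ZMod r)) ≤
      finrank F (fixE T) := by
    have h3 : (2 * d) % blockDim (orderOf ((Fintype.card F : ℕ) : ZMod r)) =
        (finrank F (fixE T)) % blockDim (orderOf ((Fintype.card F : ℕ) : ZMod r)) := by
      rw [← hdim, ← e3, he, Nat.add_mul_mod_self_left]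
    rw [h3]
    exact Nat.mod_le _ _
  have hdm := Nat.div_add_mod m (blockDim (orderOf ((Fintype.card F : ℕ) : ZMod r)))
  obtain ⟨m', hm'⟩ := hme
  -- the number of blocks used
  obtain ⟨s, hs1, hs2, hs3⟩ : ∃ s : ℕ, s ≤ e ∧
      blockDim (orderOf ((Fintype.card F : ℕ) : ZMod r)) * s ≤ m ∧
      m - blockDim (orderOf ((Fintype.card F : ℕ) : ZMod r)) * s ≤ finrank F (fixE T) := by
    by_cases hc : m / blockDim (orderOf ((Fintype.card F : ℕ) : ZMod r)) ≤ e
    · exact ⟨m / blockDim (orderOf ((Fintype.card F : ℕ) : ZMod r)), hc, by omega, by omega⟩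
    · push Not at hc
      have h3 : blockDim (orderOf ((Fintype.card F : ℕ) : ZMod r)) * e ≤
          blockDim (orderOf ((Fintype.card F : ℕ) : ZMod r)) *
            (m / blockDim (orderOf ((Fintype.card F : ℕ) : ZMod r))) :=
        Nat.mul_le_mul_left _ hc.le
      exact ⟨e, le_rfl, by omega, by omega⟩
  have hse : blockDim (orderOf ((Fintype.card F : ℕ) : ZMod r)) * s ≤
      blockDim (orderOf ((Fintype.card F : ℕ) : ZMod r)) * e := Nat.mul_le_mul_left _ hs1
  have hfev : Even (m - blockDim (orderOf ((Fintype.card F : ℕ) : ZMod r)) * s) := by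
    rw [hc', hm']
    refine ⟨m' - c' * s, ?_⟩
    have h4 : (c' + c') * s = c' * s + c' * s := by ring
    rw [h4]
    have h5 : c' * s + c' * s ≤ m' + m' := by
      rw [← h4, ← hc', ← hm']
      exact hs2
    omega
  obtain ⟨D, -, hDnd, hDinv, -, hDfr⟩ := exists_sub hB r hrp hr2 T hT hTr hnd hinv
    (m - blockDim (orderOf ((Fintype.card F : ℕ) : ZMod r)) * s)
    (blockDim (orderOf ((Fintype.card F : ℕ) : ZMod r)) * s) hfev
    (by rw [top_inf_eq]; exact hs3) (dvd_mul_right _ _) (by rw [top_inf_eq, he]; exact hse)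
  rw [fixND_iff]
  exact ⟨D, by rw [hDfr]; omega, hDnd, hDinv⟩

/-- nondegenerate subspaces of every even dimension exist -/
theorem exists_nd (hB : B.IsAlt) (hnd : Nd B ⊤) (m : ℕ) (hme : Even m)
    (hm : m ≤ finrank F V) : ∃ W : Submodule F V, finrank F W = m ∧ Nd B W := by
  obtain ⟨p, hp⟩ := CharP.exists F
  have _instp : Fact p.Prime := ⟨CharP.char_is_prime F p⟩
  obtain ⟨r, hr, hrp, hr2⟩ : ∃ r : ℕ, r.Prime ∧ r ≠ p ∧ r ≠ 2 := by
    by_cases hp : p = 3
    · exact ⟨5, by norm_num, by omega, by omega⟩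
    · exact ⟨3, Nat.prime_three, fun h => hp h.symm, by omega⟩
  have _inst : Fact r.Prime := ⟨hr⟩
  have hT : ∀ u v : V, B ((1 : V →ₗ[F] V) u) ((1 : V →ₗ[F] V) v) = B u v := fun u v => rfl
  have hTr : (1 : V →ₗ[F] V) ^ r = 1 := one_pow r
  have hinv : Inv (1 : V →ₗ[F] V) (⊤ : Submodule F V) := fun _ _ => Submodule.mem_top
  obtain ⟨D, -, hDnd, -, -, hDfr⟩ := exists_sub hB r hrp hr2 (1 : V →ₗ[F] V) hT hTr hnd hinv
    m 0 hme (by rw [fixE_one, top_inf_eq, finrank_top]; exact hm) (dvd_zero _) (Nat.zero_le _)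
  exact ⟨D, by rw [hDfr, add_zero], hDnd⟩

end finite

section sp
variable {F : Type*} [Field F] [Fintype F] {p : ℕ} [Fact p.Prime] [CharP F p] {d : ℕ}

/-- a scalar matrix fixes a nondegenerate `m`-space -/
theorem not_scalar_of_not_fixND (m : ℕ) (hme : Even m) (hmd : m ≤ 2 * d)
    (x : Matrix.symplecticGroup (Fin d) F)
    (hx : ¬ FixND (sympBilin d F)
      (Matrix.toLin' (x : Matrix (Fin d ⊕ Fin d) (Fin d ⊕ Fin d) F)) m) (z : F) :
    (x : Matrix (Fin d ⊕ Fin d) (Fin d ⊕ Fin d) F) ≠ z • 1 := by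
  intro h
  apply hx
  obtain ⟨W, hWfr, hWnd⟩ := exists_nd (F := F) sympBilin_isAlt
    (nd_top_symp d) m hme (by rw [finrank_std]; exact hmd)
  refine ⟨W, hWfr, (nd_iff _ W).2 hWnd, ?_⟩
  rw [h, map_smul, Matrix.toLin'_one]
  rintro _ ⟨w, hw, rfl⟩
  rw [LinearMap.smul_apply, LinearMap.id_apply]
  exact W.smul_mem z hw

/-- the positive direction for odd `r ≠ p`, in the symplectic group -/
theorem fixND_of_cond_sp (r : ℕ) [Fact r.Prime] (hrp : r ≠ p) (hr2 : r ≠ 2) (hd : 1 ≤ d) (m : ℕ)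
    (hme : Even m) (hmd : m ≤ 2 * d)
    (h1 : m % blockDim (orderOf ((Fintype.card F : ℕ) : ZMod r)) ≤
      (2 * d) % blockDim (orderOf ((Fintype.card F : ℕ) : ZMod r)))
    (x : Matrix.symplecticGroup (Fin d) F)
    (hx : ∃ z : F, ((x ^ r : Matrix.symplecticGroup (Fin d) F) :
        Matrix (Fin d ⊕ Fin d) (Fin d ⊕ Fin d) F) = z • 1) :
    FixND (sympBilin d F) (Matrix.toLin' (x : Matrix (Fin d ⊕ Fin d) (Fin d ⊕ Fin d) F)) m := by
  have hrprime : r.Prime := Fact.out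
  have hodd : Odd r := hrprime.odd_of_ne_two hr2
  obtain ⟨z, hz⟩ := hx
  have hzz : z * z = 1 := scalar_sq_eq_one hd (x ^ r) z hz
  have hz0 : z ≠ 0 := by
    rintro rfl
    rw [mul_zero] at hzz
    exact zero_ne_one hzz
  set T := Matrix.toLin' (x : Matrix (Fin d ⊕ Fin d) (Fin d ⊕ Fin d) F) with hT
  have hTr : T ^ r = z • 1 := by
    rw [hT, ← Matrix.toLin'_pow, ← coe_pow_sp, hz, map_smul, Matrix.toLin'_one]
    rfl
  set T' := z • T with hT'
  have hT'r : T' ^ r = 1 := by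
    rw [hT', _root_.smul_pow, hTr, smul_smul, pow_eq_self_of_sq hzz hodd, hzz, one_smul]
  have hT'isom : ∀ u v, sympBilin d F (T' u) (T' v) = sympBilin d F u v := by
    intro u v
    rw [hT']
    simp only [LinearMap.smul_apply, map_smul, smul_eq_mul]
    rw [← mul_assoc, hzz, one_mul]
    exact toLin_isom x u v
  have hfix : FixND (sympBilin d F) T' m :=
    fixND_of_cond (p := p) (B := sympBilin d F) sympBilin_isAlt (nd_top_symp d) r hrp hr2
      T' hT'isom hT'r d m (finrank_std d) hme hmd h1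
  obtain ⟨W, hWfr, hWnd, hWinv⟩ := hfix
  refine ⟨W, hWfr, hWnd, ?_⟩
  have h3 : T = z • T' := by rw [hT', smul_smul, hzz, one_smul]
  rw [h3, Submodule.map_smul _ _ z hz0]
  exact hWinv

/-- the necessity of the conditions for odd `r ≠ p` -/
theorem cond_of_forall_fixND (r : ℕ) [Fact r.Prime] (hrp : r ≠ p) (hr2 : r ≠ 2) (m : ℕ)
    (hmd : m ≤ 2 * d)
    (hcnt : ∃ j, 2 * j < m ∧ r ∣ Fintype.card F ^ (2 * (d - j)) - 1)
    (H : ∀ x : Matrix.symplecticGroup (Fin d) F, x ^ r = 1 →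
      FixND (sympBilin d F) (Matrix.toLin' (x : Matrix (Fin d ⊕ Fin d) (Fin d ⊕ Fin d) F)) m) :
    blockDim (orderOf ((Fintype.card F : ℕ) : ZMod r)) ≤ m ∧
      m % blockDim (orderOf ((Fintype.card F : ℕ) : ZMod r)) ≤
        (2 * d) % blockDim (orderOf ((Fintype.card F : ℕ) : ZMod r)) := by
  have hcpos : 0 < blockDim (orderOf ((Fintype.card F : ℕ) : ZMod r)) := blockDim_pos r hrp
  obtain ⟨j, hjm, hj⟩ := hcnt
  have hij : orderOf ((Fintype.card F : ℕ) : ZMod r) ∣ 2 * (d - j) :=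
    (dvd_pow_sub_one_iff r (Fintype.card F) (2 * (d - j)) Fintype.card_pos).1 hj
  obtain ⟨e', he'⟩ := blockDim_dvd_of_dvd _ _ hij
  have h2d : 2 * d = 2 * j + blockDim (orderOf ((Fintype.card F : ℕ) : ZMod r)) * e' := by omega
  have hmod : (2 * d) % blockDim (orderOf ((Fintype.card F : ℕ) : ZMod r)) ≤ 2 * j := by
    rw [h2d, Nat.add_mul_mod_self_left]
    exact Nat.mod_le _ _
  -- the element with the maximal number of blocks
  obtain ⟨x, hxr, hxε⟩ := exists_sp_blocks (F := F) r hrp hr2 d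
    (2 * d / blockDim (orderOf ((Fintype.card F : ℕ) : ZMod r))) (Nat.div_mul_le_self _ _)
  have hdm := Nat.div_add_mod (2 * d) (blockDim (orderOf ((Fintype.card F : ℕ) : ZMod r)))
  have hcomm : 2 * d / blockDim (orderOf ((Fintype.card F : ℕ) : ZMod r)) *
      blockDim (orderOf ((Fintype.card F : ℕ) : ZMod r)) =
      blockDim (orderOf ((Fintype.card F : ℕ) : ZMod r)) *
        (2 * d / blockDim (orderOf ((Fintype.card F : ℕ) : ZMod r))) := mul_comm _ _
  have hε : finrank F (fixE (Matrix.toLin' (x : Matrix (Fin d ⊕ Fin d) (Fin d ⊕ Fin d) F))) =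
      (2 * d) % blockDim (orderOf ((Fintype.card F : ℕ) : ZMod r)) := by
    omega
  have hklt : (2 * d) % blockDim (orderOf ((Fintype.card F : ℕ) : ZMod r)) <
      blockDim (orderOf ((Fintype.card F : ℕ) : ZMod r)) := Nat.mod_lt _ hcpos
  obtain ⟨W, hWfr, hWnd, hWinv⟩ := (fixND_iff _ m).1 (H x hxr)
  have hTr := toLin_pow_eq_one x hxr
  have e1 := finrank_inf_fixE_add r hrp _ hTr hWinv
  have e2 : finrank F ↥(W ⊓ fixE (Matrix.toLin' (x : Matrix (Fin d ⊕ Fin d) (Fin d ⊕ Fin d) F)))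
      ≤ finrank F (fixE (Matrix.toLin' (x : Matrix (Fin d ⊕ Fin d) (Fin d ⊕ Fin d) F))) :=
    Submodule.finrank_mono inf_le_right
  obtain ⟨s, hs⟩ := dvd_finrank_inf_movK sympBilin_isAlt r hrp hr2 _ (toLin_isom x) hTr hWnd hWinv
  have h3 : m % blockDim (orderOf ((Fintype.card F : ℕ) : ZMod r)) =
      finrank F ↥(W ⊓ fixE (Matrix.toLin' (x : Matrix (Fin d ⊕ Fin d) (Fin d ⊕ Fin d) F))) := by
    rw [← hWfr, ← e1, hs, Nat.add_mul_mod_self_left]
    exact Nat.mod_eq_of_lt (by omega)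
  have hB : m % blockDim (orderOf ((Fintype.card F : ℕ) : ZMod r)) ≤
      (2 * d) % blockDim (orderOf ((Fintype.card F : ℕ) : ZMod r)) := by omega
  refine ⟨?_, hB⟩
  by_contra hcon
  push Not at hcon
  rw [Nat.mod_eq_of_lt hcon] at hB
  omega

end sp

end Cfsg.Agent.Lib.Helper1.NDSp
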