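import Mathlib
import Cfsg.Agent.Lib.Helper1.NDSp1
import Cfsg.Agent.Lib.Helper5.UniO3

set_option autoImplicit false
set_option linter.unusedSectionVars false

/-!
# S5956: Jordan types on invariant subspaces; odd parts of unipotent isometries of alternating
spaces come in pairs
-/

namespace Cfsg.Agent.Lib.Helper1.NDSp

open Module Cfsg.Agent.H9SemiInv Cfsg.Agent.Lib.Helper1.SpBlk Cfsg.Agent.Lib.Helper5
  Cfsg.Agent.Lib.Helper5.UniO

section jt
variable {F V : Type*} [Field F] [AddCommGroup V] [Module F V]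

/-- the Jordan type of `N` on the invariant subspace `M` -/
def JTon (N : Module.End F V) (M : Submodule F V) (μ : Multiset ℕ) : Prop :=
  (∀ a ∈ μ, 0 < a) ∧
    ∀ k, finrank F ↥(M ⊓ LinearMap.ker (N ^ k)) = (μ.map (fun a => min a k)).sum

variable {N : Module.End F V} {M : Submodule F V} {μ ν : Multiset ℕ}

theorem jtOn_top : JTon N ⊤ μ ↔ HasJT N μ := by
  constructor
  · rintro ⟨h1, h2⟩
    refine ⟨h1, fun k => ?_⟩
    have h3 := h2 k
    rwa [top_inf_eq] at h3
  · rintro ⟨h1, h2⟩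
    refine ⟨h1, fun k => ?_⟩
    rw [top_inf_eq]
    exact h2 k

theorem JTon.unique (h : JTon N M μ) (h' : JTon N M ν) : μ = ν :=
  multiset_eq_of_sum_min_eq μ ν h.1 h'.1 (fun k => by rw [← h.2 k, ← h'.2 k])

theorem finrank_ker_restrict_pow (N : Module.End F V) (M : Submodule F V)
    (hM : ∀ v ∈ M, N v ∈ M) (k : ℕ) :
    finrank F (LinearMap.ker ((N.restrict hM) ^ k)) = finrank F ↥(M ⊓ LinearMap.ker (N ^ k)) := by
  rw [Module.End.pow_restrict k hM]
  exact finrank_ker_restrict (N ^ k) M _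

theorem jtOn_iff_restrict (N : Module.End F V) (M : Submodule F V) (hM : ∀ v ∈ M, N v ∈ M)
    (μ : Multiset ℕ) : JTon N M μ ↔ HasJT (N.restrict hM) μ := by
  unfold JTon HasJT
  constructor <;> rintro ⟨h1, h2⟩ <;> refine ⟨h1, fun k => ?_⟩
  · rw [finrank_ker_restrict_pow, h2]
  · rw [← finrank_ker_restrict_pow N M hM, h2]

variable [FiniteDimensional F V]

theorem exists_jtOn (hM : ∀ v ∈ M, N v ∈ M) (hN : IsNilpotent N) : ∃ μ, JTon N M μ := by
  obtain ⟨μ, hμ⟩ := exists_hasJT (N.restrict hM) (isNilpotent_restrict N M hM hN)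
  exact ⟨μ, (jtOn_iff_restrict N M hM μ).2 hμ⟩

theorem JTon.sum_eq (h : JTon N M μ) (hM : ∀ v ∈ M, N v ∈ M) (hN : IsNilpotent N) :
    μ.sum = finrank F M :=
  ((jtOn_iff_restrict N M hM μ).1 h).sum_eq (isNilpotent_restrict N M hM hN)

theorem JTon.le_of_le_ker (h : JTon N M μ) (hM : ∀ v ∈ M, N v ∈ M) (hN : IsNilpotent N) {k : ℕ}
    (hk : M ≤ LinearMap.ker (N ^ k)) : ∀ a ∈ μ, a ≤ k := by
  have h1 := h.2 k
  rw [inf_eq_left.2 hk, ← h.sum_eq hM hN] at h1
  exact (sum_min_eq_sum_iff μ k).1 h1.symm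

theorem JTon.mem_of_not_le_ker (h : JTon N M μ) (hM : ∀ v ∈ M, N v ∈ M) (hN : IsNilpotent N)
    {a : ℕ} (ha : 1 ≤ a) (hk : M ≤ LinearMap.ker (N ^ a))
    (hk' : ¬ M ≤ LinearMap.ker (N ^ (a - 1))) : a ∈ μ := by
  by_contra hcon
  apply hk'
  have hle := h.le_of_le_ker hM hN hk
  have hle' : ∀ b ∈ μ, b ≤ a - 1 := by
    intro b hb
    have h1 := hle b hb
    have h2 : b ≠ a := fun h0 => hcon (h0 ▸ hb)
    omega
  have h1 := h.2 (a - 1)
  rw [(sum_min_eq_sum_iff μ (a - 1)).2 hle', h.sum_eq hM hN] at h1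
  have h2 : M ⊓ LinearMap.ker (N ^ (a - 1)) = M :=
    Submodule.eq_of_le_of_finrank_eq inf_le_left h1
  rw [← h2]
  exact inf_le_right

theorem sup_inf_ker_pow {Z M' : Submodule F V} (hZ : ∀ v ∈ Z, N v ∈ Z) (hM' : ∀ v ∈ M', N v ∈ M')
    (hdis : Disjoint Z M') (k : ℕ) :
    (Z ⊔ M') ⊓ LinearMap.ker (N ^ k) =
      (Z ⊓ LinearMap.ker (N ^ k)) ⊔ (M' ⊓ LinearMap.ker (N ^ k)) := by
  have hZk : ∀ v ∈ Z, (N ^ k) v ∈ Z := fun v hv => Module.End.pow_apply_mem_of_forall_mem k hZ v hv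
  have hM'k : ∀ v ∈ M', (N ^ k) v ∈ M' :=
    fun v hv => Module.End.pow_apply_mem_of_forall_mem k hM' v hv
  apply le_antisymm
  · rintro v ⟨hv, hvk⟩
    obtain ⟨z, hz, m', hm', rfl⟩ := Submodule.mem_sup.1 hv
    replace hvk : (N ^ k) (z + m') = 0 := LinearMap.mem_ker.1 hvk
    rw [map_add] at hvk
    have h1 : (N ^ k) z = -(N ^ k) m' := eq_neg_of_add_eq_zero_left hvk
    have h2 : (N ^ k) z ∈ Z ⊓ M' := ⟨hZk z hz, by rw [h1]; exact M'.neg_mem (hM'k m' hm')⟩
    rw [hdis.eq_bot, Submodule.mem_bot] at h2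
    have h3 : (N ^ k) m' = 0 := by rw [h2, zero_add] at hvk; exact hvk
    exact Submodule.add_mem_sup ⟨hz, LinearMap.mem_ker.2 h2⟩ ⟨hm', LinearMap.mem_ker.2 h3⟩
  · exact sup_le (inf_le_inf_right _ le_sup_left) (inf_le_inf_right _ le_sup_right)

theorem JTon.add {Z M' : Submodule F V} {μ₁ μ₂ : Multiset ℕ} (hZ : ∀ v ∈ Z, N v ∈ Z)
    (hM' : ∀ v ∈ M', N v ∈ M') (hdis : Disjoint Z M') (h₁ : JTon N Z μ₁) (h₂ : JTon N M' μ₂) :
    JTon N (Z ⊔ M') (μ₁ + μ₂) := by
  refine ⟨?_, fun k => ?_⟩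
  · intro a ha
    rcases Multiset.mem_add.1 ha with ha | ha
    · exact h₁.1 a ha
    · exact h₂.1 a ha
  · rw [sup_inf_ker_pow hZ hM' hdis k,
      finrank_sup_of_disjoint (hdis.mono inf_le_left inf_le_left), h₁.2 k, h₂.2 k,
      Multiset.map_add, Multiset.sum_add]

end jt

section par
variable {F V : Type*} [Field F] [AddCommGroup V] [Module F V] [FiniteDimensional F V]

theorem even_finrank_sub_ker_pow_alt (h2 : (2 : F) ≠ 0)
    (B : LinearMap.BilinForm F V) (hB : B.IsAlt) (hnd : ∀ x, (∀ y, B x y = 0) → x = 0)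
    (x : V ≃ₗ[F] V) (hx : ∀ u v, B (x u) (x v) = B u v)
    (hnil : IsNilpotent (x.toLinearMap - 1)) (k : ℕ) (hk : Even k) :
    Even (finrank F V - finrank F (LinearMap.ker ((x.toLinearMap - 1) ^ k))) := by
  set S : Module.End F V := x.toLinearMap - x.symm.toLinearMap with hS
  let γ : LinearMap.BilinForm F V := (B : V →ₗ[F] V →ₗ[F] F) ∘ₗ (S ^ k)
  have hγ : ∀ u v, γ u v = B ((S ^ k) u) v := fun u v => rfl
  have halt : γ.IsAlt := by
    intro u
    have h1 := skew_pow B S (skew_sub_symm B x hx) k u u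
    rw [hk.neg_one_pow, one_mul, alt_swap hB u ((S ^ k) u)] at h1
    have h3 : (2 : F) * B ((S ^ k) u) u = 0 := by
      rw [two_mul]
      nth_rewrite 1 [h1]
      exact neg_add_cancel _
    rw [hγ]
    rcases mul_eq_zero.1 h3 with h | h
    · exact absurd h h2
    · exact h
  have hker : LinearMap.ker γ = LinearMap.ker ((x.toLinearMap - 1) ^ k) := by
    have hBk : LinearMap.ker B = ⊥ := by
      rw [LinearMap.ker_eq_bot']
      intro m hm
      apply hnd
      intro y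
      rw [hm, LinearMap.zero_apply]
    show LinearMap.ker (B ∘ₗ (S ^ k)) = _
    rw [LinearMap.ker_comp_of_ker_eq_bot _ hBk, hS, ker_pow_sub_symm h2 x hnil k]
  have := AltForm.even_finrank_sub_ker halt
  rwa [hker] at this

/-- odd parts of the Jordan type of a unipotent isometry of an alternating space come in pairs
(version for linear equivalences) -/
theorem HasJT.even_count_of_alt_equiv (h2 : (2 : F) ≠ 0)
    (B : LinearMap.BilinForm F V) (hB : B.IsAlt) (hnd : ∀ x, (∀ y, B x y = 0) → x = 0)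
    (x : V ≃ₗ[F] V) (hx : ∀ u v, B (x u) (x v) = B u v)
    (hnil : IsNilpotent (x.toLinearMap - 1)) {μ : Multiset ℕ} (h : HasJT (x.toLinearMap - 1) μ) :
    ∀ a, Odd a → Even (μ.count a) := by
  intro a ha
  have hpos : 0 < a := ha.pos
  have h1 := h.count_add a hpos
  have hev1 : Even (a - 1) := by
    obtain ⟨r, hr⟩ := ha
    exact ⟨r, by omega⟩
  have hev2 : Even (a + 1) := ha.add_one
  have h3 := even_finrank_sub_ker_pow_alt h2 B hB hnd x hx hnil (a - 1) hev1
  have h4 := even_finrank_sub_ker_pow_alt h2 B hB hnd x hx hnil (a + 1) hev2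
  have h5 : finrank F (LinearMap.ker ((x.toLinearMap - 1 : Module.End F V) ^ (a - 1))) ≤
      finrank F V := Submodule.finrank_le _
  have h6 : finrank F (LinearMap.ker ((x.toLinearMap - 1 : Module.End F V) ^ (a + 1))) ≤
      finrank F V := Submodule.finrank_le _
  rw [Nat.even_iff] at h3 h4 ⊢
  omega

theorem injective_of_isometry (B : LinearMap.BilinForm F V)
    (hnd : ∀ x, (∀ y, B x y = 0) → x = 0) (T : V →ₗ[F] V)
    (hT : ∀ u v, B (T u) (T v) = B u v) : Function.Injective T := by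
  rw [← LinearMap.ker_eq_bot, LinearMap.ker_eq_bot']
  intro v hv
  apply hnd
  intro w
  rw [← hT, hv, map_zero, LinearMap.zero_apply]

/-- odd parts of the Jordan type of a unipotent isometry of an alternating space come in pairs -/
theorem HasJT.even_count_of_alt_isometry (h2 : (2 : F) ≠ 0)
    (B : LinearMap.BilinForm F V) (hB : B.IsAlt) (hnd : ∀ x, (∀ y, B x y = 0) → x = 0)
    (T : V →ₗ[F] V) (hT : ∀ u v, B (T u) (T v) = B u v) (hnil : IsNilpotent (T - 1))
    {μ : Multiset ℕ} (h : HasJT (T - 1) μ) : ∀ a : ℕ, Odd a → Even (μ.count a) := by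
  have hinj := injective_of_isometry B hnd T hT
  let x : V ≃ₗ[F] V := LinearEquiv.ofInjectiveEndo T hinj
  have hx1 : x.toLinearMap = T := by
    ext v
    rfl
  exact HasJT.even_count_of_alt_equiv h2 B hB hnd x (fun u v => hT u v) (by rw [hx1]; exact hnil)
    (by rw [hx1]; exact h)

/-- the same on a nondegenerate invariant subspace -/
theorem JTon.even_count_of_alt (h2 : (2 : F) ≠ 0) (B : LinearMap.BilinForm F V) (hB : B.IsAlt)
    (T : V →ₗ[F] V) (hT : ∀ u v, B (T u) (T v) = B u v) (hnil : IsNilpotent (T - 1))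
    {M : Submodule F V} (hMnd : Nd B M) (hMinv : Inv T M) {μ : Multiset ℕ}
    (h : JTon (T - 1) M μ) : ∀ a : ℕ, Odd a → Even (μ.count a) := by
  have hNM : ∀ v ∈ M, (T - 1 : Module.End F V) v ∈ M := by
    intro v hv
    rw [LinearMap.sub_apply, Module.End.one_apply]
    exact M.sub_mem (hMinv v hv) hv
  have hres : ∀ x : M, (∀ y : M, B.restrict M x y = 0) → x = 0 := by
    rintro ⟨x, hx⟩ hxy
    apply Subtype.ext
    exact hMnd x hx (fun y hy => hxy ⟨y, hy⟩)
  have hTM : ∀ v ∈ M, T v ∈ M := hMinv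
  have h1 : (T.restrict hTM) - 1 = (T - 1 : Module.End F V).restrict hNM := by
    ext ⟨a, ha⟩ : 2
    rfl
  apply HasJT.even_count_of_alt_isometry h2 (B.restrict M) (fun x => hB x) hres (T.restrict hTM)
    (fun u v => hT u v)
  · rw [h1]
    exact isNilpotent_restrict _ M hNM hnil
  · rw [h1]
    exact (jtOn_iff_restrict _ M hNM μ).1 h

end par

end Cfsg.Agent.Lib.Helper1.NDSp
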