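import Mathlib
import Cfsg.Agent.Lib.Helper1.NDSp2

set_option autoImplicit false
set_option linter.unusedSectionVars false

/-!
# S5956: splitting off a nondegenerate block (one even block or two odd blocks) of a unipotent
isometry of an alternating space
-/

namespace Cfsg.Agent.Lib.Helper1.NDSp

open Module Cfsg.Agent.H9SemiInv Cfsg.Agent.Lib.Helper1.SpBlk Cfsg.Agent.Lib.Helper5
  Cfsg.Agent.Lib.Helper5.UniO

section gram
variable {F V : Type*} [Field F] [AddCommGroup V] [Module F V]
variable {B : LinearMap.BilinForm F V} {T : V →ₗ[F] V}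

theorem adj_one (hT : ∀ u v, B (T u) (T v) = B u v) (u w : V) :
    B ((T - 1 : Module.End F V) u) w = - B (T u) ((T - 1 : Module.End F V) w) := by
  simp only [LinearMap.sub_apply, Module.End.one_apply, map_sub, hT]
  ring

theorem commute_sub_one (T : V →ₗ[F] V) : Commute (T - 1 : Module.End F V) T :=
  (Commute.refl T).sub_left (Commute.one_left T)

theorem adj_pow (hT : ∀ u v, B (T u) (T v) = B u v) (j : ℕ) (u z : V) :
    B (((T - 1 : Module.End F V) ^ j) u) z =
      (-1) ^ j * B ((T ^ j) u) (((T - 1 : Module.End F V) ^ j) z) := by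
  induction j generalizing u z with
  | zero => simp
  | succ j ih =>
    have e1 : ((T - 1 : Module.End F V) ^ (j + 1)) u =
        (T - 1 : Module.End F V) (((T - 1 : Module.End F V) ^ j) u) := by
      rw [pow_succ', Module.End.mul_apply]
    have e2 : T (((T - 1 : Module.End F V) ^ j) u) = ((T - 1 : Module.End F V) ^ j) (T u) := by
      have h := ((commute_sub_one T).pow_left j).eq
      have h' := congrArg (fun f : Module.End F V => f u) h
      simpa [Module.End.mul_apply] using h'.symm
    have e3 : ((T - 1 : Module.End F V) ^ (j + 1)) z =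
        ((T - 1 : Module.End F V) ^ j) ((T - 1 : Module.End F V) z) := by
      rw [pow_succ, Module.End.mul_apply]
    have e4 : (T ^ (j + 1)) u = (T ^ j) (T u) := by
      rw [pow_succ, Module.End.mul_apply]
    rw [e1, adj_one hT, e2, ih, e3, e4, pow_succ]
    ring

theorem pow_sub_one_apply (T : V →ₗ[F] V) (j : ℕ) (x : V) :
    (T ^ j) x - x = (T - 1 : Module.End F V) ((∑ i ∈ Finset.range j, T ^ i) x) := by
  have h := mul_geom_sum T j
  have h' := congrArg (fun f : Module.End F V => f x) h
  simp only [Module.End.mul_apply, LinearMap.sub_apply, Module.End.one_apply] at h'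
  rw [← h', LinearMap.sub_apply, Module.End.one_apply]

theorem pow_add_apply_eq_zero (N : Module.End F V) {a n : ℕ} {y : V} (hy : (N ^ a) y = 0)
    (h : a ≤ n) : (N ^ n) y = 0 := by
  obtain ⟨k, rfl⟩ := Nat.exists_eq_add_of_le h
  rw [add_comm, pow_add, Module.End.mul_apply, hy, map_zero]

theorem gram_zero (hT : ∀ u v, B (T u) (T v) = B u v) (x y : V) {a j k : ℕ}
    (hy : ((T - 1 : Module.End F V) ^ a) y = 0) (h : a ≤ j + k) :
    B (((T - 1 : Module.End F V) ^ j) x) (((T - 1 : Module.End F V) ^ k) y) = 0 := by
  rw [adj_pow hT, ← Module.End.mul_apply, ← pow_add, pow_add_apply_eq_zero _ hy h, map_zero,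
    mul_zero]

theorem gram_anti (hT : ∀ u v, B (T u) (T v) = B u v) (x y : V) {a j k : ℕ}
    (hy : ((T - 1 : Module.End F V) ^ a) y = 0) (h : j + k + 1 = a) :
    B (((T - 1 : Module.End F V) ^ j) x) (((T - 1 : Module.End F V) ^ k) y) =
      (-1) ^ j * B x (((T - 1 : Module.End F V) ^ (a - 1)) y) := by
  rw [adj_pow hT, ← Module.End.mul_apply, ← pow_add, show j + k = a - 1 by omega]
  congr 1
  have h1 : (T ^ j) x = x + (T - 1 : Module.End F V) ((∑ i ∈ Finset.range j, T ^ i) x) := by
    rw [← pow_sub_one_apply]
    abel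
  rw [h1, map_add, LinearMap.add_apply, adj_one hT, ← Module.End.mul_apply
    (T - 1 : Module.End F V), ← pow_succ', show a - 1 + 1 = a by omega, hy, map_zero, neg_zero,
    add_zero]

end gram

section block
variable {F V : Type*} [Field F] [AddCommGroup V] [Module F V] [FiniteDimensional F V]
variable {B : LinearMap.BilinForm F V} {T : V →ₗ[F] V}

/-- the key computation: a combination of the vectors `N ^ j (x c)` orthogonal to all of them
is trivial -/
theorem block_core (hT : ∀ u v, B (T u) (T v) = B u v) {κ : Type*} [Fintype κ] [DecidableEq κ]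
    (a : ℕ) (x : κ → V) (hx : ∀ c, ((T - 1 : Module.End F V) ^ a) (x c) = 0)
    (hg : ∀ β : κ → F, (∀ c', ∑ c, β c * B (x c) (((T - 1 : Module.End F V) ^ (a - 1)) (x c')) = 0) →
      β = 0)
    (α : Fin a × κ → F)
    (hα : ∀ (k : ℕ) (c' : κ), k < a →
      B (∑ i, α i • ((T - 1 : Module.End F V) ^ (i.1 : ℕ)) (x i.2))
        (((T - 1 : Module.End F V) ^ k) (x c')) = 0) : α = 0 := by
  have key : ∀ t : ℕ, ∀ ht : t < a, ∀ c, α (⟨t, ht⟩, c) = 0 := by
    intro t
    induction t using Nat.strong_induction_on with
    | _ t ih =>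
      intro ht
      have h1 : (fun c => α (⟨t, ht⟩, c)) = 0 := by
        apply hg
        intro c'
        have h2 := hα (a - 1 - t) c' (by omega)
        rw [map_sum, LinearMap.sum_apply, Fintype.sum_prod_type] at h2
        rw [Finset.sum_eq_single (⟨t, ht⟩ : Fin a)] at h2
        · have h3 : ∀ c, B (α (⟨t, ht⟩, c) • ((T - 1 : Module.End F V) ^ t) (x c))
              (((T - 1 : Module.End F V) ^ (a - 1 - t)) (x c')) =
              (-1) ^ t * (α (⟨t, ht⟩, c) *
                B (x c) (((T - 1 : Module.End F V) ^ (a - 1)) (x c'))) := by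
            intro c
            rw [map_smul, LinearMap.smul_apply, smul_eq_mul,
              gram_anti hT (x c) (x c') (hx c') (show t + (a - 1 - t) + 1 = a by omega)]
            ring
          simp only [h3] at h2
          rw [← Finset.mul_sum] at h2
          rcases mul_eq_zero.1 h2 with h4 | h4
          · exact absurd h4 (pow_ne_zero _ (neg_ne_zero.2 one_ne_zero))
          · exact h4
        · intro j _ hj
          apply Finset.sum_eq_zero
          intro c _
          rcases lt_or_gt_of_ne (fun h0 : (j : ℕ) = t => hj (Fin.ext h0)) with hlt | hgt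
          · rw [ih j hlt j.2 c, zero_smul, map_zero, LinearMap.zero_apply]
          · rw [map_smul, LinearMap.smul_apply,
              gram_zero hT (x c) (x c') (hx c') (show a ≤ (j : ℕ) + (a - 1 - t) by omega),
              smul_zero]
        · intro h0
          exact absurd (Finset.mem_univ _) h0
      intro c
      exact congrFun h1 c
  funext ⟨⟨t, ht⟩, c⟩
  exact key t ht c

/-- the vectors `N ^ j (x c)` are independent and span a nondegenerate invariant subspace -/
theorem block_nd (hT : ∀ u v, B (T u) (T v) = B u v) {κ : Type*} [Fintype κ] [DecidableEq κ]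
    (a : ℕ) (x : κ → V) (hx : ∀ c, ((T - 1 : Module.End F V) ^ a) (x c) = 0)
    (hg : ∀ β : κ → F, (∀ c', ∑ c, β c * B (x c) (((T - 1 : Module.End F V) ^ (a - 1)) (x c')) = 0) →
      β = 0) :
    LinearIndependent F (fun i : Fin a × κ => ((T - 1 : Module.End F V) ^ (i.1 : ℕ)) (x i.2)) ∧
    Nd B (Submodule.span F (Set.range
      (fun i : Fin a × κ => ((T - 1 : Module.End F V) ^ (i.1 : ℕ)) (x i.2)))) ∧
    Inv T (Submodule.span F (Set.range
      (fun i : Fin a × κ => ((T - 1 : Module.End F V) ^ (i.1 : ℕ)) (x i.2)))) := by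
  refine ⟨?_, ?_, ?_⟩
  · rw [Fintype.linearIndependent_iff]
    intro α hα i
    have h1 := block_core hT a x hx hg α (fun k c' _ => by rw [hα, map_zero, LinearMap.zero_apply])
    rw [h1]
    rfl
  · intro z hz hz'
    obtain ⟨α, rfl⟩ := (Submodule.mem_span_range_iff_exists_fun F).1 hz
    have h1 := block_core hT a x hx hg α (fun k c' hk => by
      apply hz'
      apply Submodule.subset_span
      exact ⟨(⟨k, hk⟩, c'), rfl⟩)
    rw [h1]
    simp
  · have hN : ∀ v ∈ Submodule.span F (Set.range
        (fun i : Fin a × κ => ((T - 1 : Module.End F V) ^ (i.1 : ℕ)) (x i.2))),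
        (T - 1 : Module.End F V) v ∈ Submodule.span F (Set.range
        (fun i : Fin a × κ => ((T - 1 : Module.End F V) ^ (i.1 : ℕ)) (x i.2))) := by
      intro v hv
      have h1 : Submodule.span F (Set.range
          (fun i : Fin a × κ => ((T - 1 : Module.End F V) ^ (i.1 : ℕ)) (x i.2))) ≤
          (Submodule.span F (Set.range
          (fun i : Fin a × κ => ((T - 1 : Module.End F V) ^ (i.1 : ℕ)) (x i.2)))).comap
            (T - 1 : Module.End F V) := by
        rw [Submodule.span_le]
        rintro _ ⟨⟨⟨j, hj⟩, c⟩, rfl⟩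
        rw [SetLike.mem_coe, Submodule.mem_comap]
        show (T - 1 : Module.End F V) (((T - 1 : Module.End F V) ^ j) (x c)) ∈ _
        rw [← Module.End.mul_apply, ← pow_succ']
        by_cases hj1 : j + 1 < a
        · apply Submodule.subset_span
          exact ⟨(⟨j + 1, hj1⟩, c), rfl⟩
        · rw [show j + 1 = a by omega, hx c]
          exact Submodule.zero_mem _
      exact h1 hv
    intro v hv
    have h2 := hN v hv
    rw [LinearMap.sub_apply, Module.End.one_apply] at h2
    have h3 := Submodule.add_mem _ h2 hv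
    rwa [sub_add_cancel] at h3

end block

end Cfsg.Agent.Lib.Helper1.NDSp
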