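import Mathlib
import Cfsg.Agent.Lib.Helper1.NDSp3

set_option autoImplicit false
set_option linter.unusedSectionVars false

/-!
# S5956: the orthogonal decomposition of a unipotent isometry of an alternating space
(characteristic not two) and its invariant nondegenerate subspaces
-/

namespace Cfsg.Agent.Lib.Helper1.NDSp

open Module Cfsg.Agent.H9SemiInv Cfsg.Agent.Lib.Helper1.SpBlk Cfsg.Agent.Lib.Helper5
  Cfsg.Agent.Lib.Helper5.UniO

section dec
variable {F V : Type*} [Field F] [AddCommGroup V] [Module F V] [FiniteDimensional F V]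
variable {B : LinearMap.BilinForm F V} {T : V →ₗ[F] V}

theorem inv_sub_one {Z : Submodule F V} (hZ : Inv T Z) :
    ∀ v ∈ Z, (T - 1 : Module.End F V) v ∈ Z := by
  intro v hv
  rw [LinearMap.sub_apply, Module.End.one_apply]
  exact Z.sub_mem (hZ v hv) hv

theorem inv_orthogonal_of_injective (hT : ∀ u v, B (T u) (T v) = B u v)
    (hinj : Function.Injective T) {Z : Submodule F V} (hZ : Inv T Z) :
    Inv T (B.orthogonal Z) := by
  have hmap : Z.map T = Z := by
    apply Submodule.eq_of_le_of_finrank_eq ((inv_iff T Z).1 hZ)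
    exact (Submodule.equivMapOfInjective T hinj Z).finrank_eq.symm
  intro v hv z hz
  rw [← hmap] at hz
  obtain ⟨z', hz', rfl⟩ := hz
  show B (T z') (T v) = 0
  rw [hT]
  exact hv z' hz'

theorem multiset_eq_singleton {l : Multiset ℕ} {a : ℕ} (hpos : ∀ b ∈ l, 0 < b) (ha : a ∈ l)
    (hsum : l.sum = a) : l = {a} := by
  obtain ⟨l', rfl⟩ := Multiset.exists_cons_of_mem ha
  rw [Multiset.sum_cons] at hsum
  have h0 : l'.sum = 0 := by omega
  have h1 : l' = 0 := by
    apply Multiset.eq_zero_of_forall_notMem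
    intro b hb
    have h2 := hpos b (Multiset.mem_cons_of_mem hb)
    have h3 := Multiset.le_sum_of_mem hb
    omega
  rw [h1]
  rfl

theorem multiset_eq_pair {l : Multiset ℕ} {a : ℕ} (hpos : ∀ b ∈ l, 0 < b)
    (ha : 2 ≤ l.count a) (hsum : l.sum = 2 * a) : l = {a, a} := by
  have h1 : Multiset.replicate 2 a ≤ l := Multiset.le_count_iff_replicate_le.1 ha
  obtain ⟨l', rfl⟩ := Multiset.le_iff_exists_add.1 h1
  rw [Multiset.sum_add, Multiset.sum_replicate, smul_eq_mul] at hsum
  have h0 : l'.sum = 0 := by omega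
  have h2 : l' = 0 := by
    apply Multiset.eq_zero_of_forall_notMem
    intro b hb
    have h2 := hpos b (Multiset.mem_add.2 (Or.inr hb))
    have h3 := Multiset.le_sum_of_mem hb
    omega
  rw [h2, add_zero]
  rfl

/-- splitting off one even block or two equal odd blocks -/
theorem exists_block (h2 : (2 : F) ≠ 0) (hB : B.IsAlt) (hT : ∀ u v, B (T u) (T v) = B u v)
    (hnil : IsNilpotent (T - 1 : Module.End F V)) {M : Submodule F V} (hMnd : Nd B M)
    (hMinv : Inv T M) (hne : M ≠ ⊥) :
    ∃ (Z : Submodule F V) (a : ℕ), Z ≤ M ∧ Nd B Z ∧ Inv T Z ∧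
      ((Even a ∧ JTon (T - 1 : Module.End F V) Z {a}) ∨
        (Odd a ∧ JTon (T - 1 : Module.End F V) Z {a, a})) := by
  classical
  have hNM := inv_sub_one hMinv
  have hNMk : ∀ k : ℕ, ∀ v ∈ M, ((T - 1 : Module.End F V) ^ k) v ∈ M :=
    fun k v hv => Module.End.pow_apply_mem_of_forall_mem k hNM v hv
  have hex : ∃ a : ℕ, M ≤ LinearMap.ker ((T - 1 : Module.End F V) ^ a) := by
    obtain ⟨n, hn⟩ := hnil
    exact ⟨n, by rw [hn, LinearMap.ker_zero]; exact le_top⟩
  have ha := Nat.find_spec hex
  have hmin := fun k => Nat.find_min hex (m := k)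
  set a := Nat.find hex with hadef
  have ha1 : 1 ≤ a := by
    by_contra hcon
    have h0 : a = 0 := by omega
    rw [h0, pow_zero] at ha
    apply hne
    rw [eq_bot_iff]
    intro v hv
    have := ha hv
    rw [LinearMap.mem_ker, Module.End.one_apply] at this
    rw [this]
    exact Submodule.zero_mem _
  have hk' : ¬ M ≤ LinearMap.ker ((T - 1 : Module.End F V) ^ (a - 1)) := hmin (a - 1) (by omega)
  have hxa : ∀ v ∈ M, ((T - 1 : Module.End F V) ^ a) v = 0 := fun v hv => LinearMap.mem_ker.1 (ha hv)
  obtain ⟨w, hwM, hw⟩ := SetLike.not_le_iff_exists.1 hk'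
  rw [LinearMap.mem_ker] at hw
  -- a partner of `w`
  obtain ⟨u, huM, hu⟩ : ∃ u ∈ M, B u (((T - 1 : Module.End F V) ^ (a - 1)) w) ≠ 0 := by
    by_contra hcon
    push Not at hcon
    apply hw
    apply hMnd _ (hNMk (a - 1) w hwM)
    intro v hv
    rw [alt_swap hB, hcon v hv, neg_zero]
  -- the symmetry of `γ`
  have hsym : ∀ x y : V, y ∈ M →
      B y (((T - 1 : Module.End F V) ^ (a - 1)) x) =
        (-1) ^ a * B x (((T - 1 : Module.End F V) ^ (a - 1)) y) := by
    intro x y hy
    have h1 := gram_anti hT x y (a := a) (j := a - 1) (k := 0) (hxa y hy) (by omega)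
    rw [pow_zero, Module.End.one_apply] at h1
    rw [alt_swap hB, h1]
    have h3 : ((-1 : F)) ^ a = (-1) ^ (a - 1) * (-1) := by
      rw [← pow_succ, show a - 1 + 1 = a by omega]
    rw [h3]
    ring
  rcases Nat.even_or_odd a with hev | hodd
  · -- one even block
    obtain ⟨v, hvM, hv⟩ : ∃ v ∈ M, B v (((T - 1 : Module.End F V) ^ (a - 1)) v) ≠ 0 := by
      by_contra hcon
      push Not at hcon
      have h1 := hcon (u + w) (M.add_mem huM hwM)
      simp only [map_add, LinearMap.add_apply] at h1
      have e1 := hcon u huM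
      have e2 := hcon w hwM
      have e3 := hsym u w hwM
      rw [hev.neg_one_pow, one_mul] at e3
      have h3 : (2 : F) * B u (((T - 1 : Module.End F V) ^ (a - 1)) w) = 0 := by
        linear_combination h1 - e1 - e2 - e3
      rcases mul_eq_zero.1 h3 with h | h
      · exact h2 h
      · exact hu h
    have hx : ∀ c : Unit, ((T - 1 : Module.End F V) ^ a) ((fun _ : Unit => v) c) = 0 :=
      fun _ => hxa v hvM
    have hg : ∀ β : Unit → F, (∀ c', ∑ c, β c *
        B ((fun _ : Unit => v) c) (((T - 1 : Module.End F V) ^ (a - 1)) ((fun _ : Unit => v) c'))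
          = 0) → β = 0 := by
      intro β hβ
      have h1 := hβ ()
      rw [Fintype.sum_unique] at h1
      funext c
      rcases mul_eq_zero.1 h1 with h | h
      · exact h
      · exact absurd h hv
    obtain ⟨hli, hZnd, hZinv⟩ := block_nd hT a (fun _ : Unit => v) hx hg
    refine ⟨_, a, ?_, hZnd, hZinv, Or.inl ⟨hev, ?_⟩⟩
    · rw [Submodule.span_le]
      rintro _ ⟨i, rfl⟩
      exact hNMk _ v hvM
    · have hNZ := inv_sub_one hZinv
      obtain ⟨l, hl⟩ := exists_jtOn (M := Submodule.span F (Set.range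
        (fun i : Fin a × Unit => ((T - 1 : Module.End F V) ^ (i.1 : ℕ)) v))) hNZ hnil
      have hZM : Submodule.span F (Set.range
          (fun i : Fin a × Unit => ((T - 1 : Module.End F V) ^ (i.1 : ℕ)) v)) ≤ M := by
        rw [Submodule.span_le]
        rintro _ ⟨i, rfl⟩
        exact hNMk _ v hvM
      have hvZ : v ∈ Submodule.span F (Set.range
          (fun i : Fin a × Unit => ((T - 1 : Module.End F V) ^ (i.1 : ℕ)) v)) := by
        apply Submodule.subset_span
        exact ⟨(⟨0, by omega⟩, ()), by simp⟩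
      have hmem : a ∈ l := by
        apply hl.mem_of_not_le_ker hNZ hnil ha1 (hZM.trans ha)
        intro hle
        have h3 := LinearMap.mem_ker.1 (hle hvZ)
        rw [h3, map_zero] at hv
        exact hv rfl
      have hsum : l.sum = a := by
        rw [hl.sum_eq hNZ hnil, finrank_span_eq_card hli, Fintype.card_prod, Fintype.card_fin,
          Fintype.card_unit, mul_one]
      rw [← multiset_eq_singleton hl.1 hmem hsum]
      exact hl
  · -- two odd blocks
    have hzero : ∀ y ∈ M, B y (((T - 1 : Module.End F V) ^ (a - 1)) y) = 0 := by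
      intro y hy
      have h1 := hsym y y hy
      rw [hodd.neg_one_pow, neg_one_mul] at h1
      have h3 : (2 : F) * B y (((T - 1 : Module.End F V) ^ (a - 1)) y) = 0 := by
        rw [two_mul]
        nth_rewrite 1 [h1]
        exact neg_add_cancel _
      rcases mul_eq_zero.1 h3 with h | h
      · exact absurd h h2
      · exact h
    have hwu : B w (((T - 1 : Module.End F V) ^ (a - 1)) u) =
        - B u (((T - 1 : Module.End F V) ^ (a - 1)) w) := by
      rw [hsym u w hwM, hodd.neg_one_pow, neg_one_mul]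
    have hx : ∀ c : Fin 2, ((T - 1 : Module.End F V) ^ a) (![u, w] c) = 0 := by
      intro c
      fin_cases c
      · exact hxa u huM
      · exact hxa w hwM
    have hg : ∀ β : Fin 2 → F, (∀ c', ∑ c, β c *
        B (![u, w] c) (((T - 1 : Module.End F V) ^ (a - 1)) (![u, w] c')) = 0) → β = 0 := by
      intro β hβ
      have h0 := hβ 0
      have h1 := hβ 1
      rw [Fin.sum_univ_two] at h0 h1
      simp only [Matrix.cons_val_zero, Matrix.cons_val_one] at h0 h1
      rw [hzero u huM, mul_zero, zero_add, hwu] at h0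
      rw [hzero w hwM, mul_zero, add_zero] at h1
      funext c
      fin_cases c
      · rcases mul_eq_zero.1 h1 with h | h
        · exact h
        · exact absurd h hu
      · rcases mul_eq_zero.1 h0 with h | h
        · exact h
        · exact absurd (neg_eq_zero.1 h) hu
    obtain ⟨hli, hZnd, hZinv⟩ := block_nd hT a ![u, w] hx hg
    have hxM : ∀ c : Fin 2, ![u, w] c ∈ M := by
      intro c
      fin_cases c
      · exact huM
      · exact hwM
    have hZM : Submodule.span F (Set.range
        (fun i : Fin a × Fin 2 => ((T - 1 : Module.End F V) ^ (i.1 : ℕ)) (![u, w] i.2))) ≤ M := by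
      rw [Submodule.span_le]
      rintro _ ⟨i, rfl⟩
      exact hNMk _ _ (hxM i.2)
    refine ⟨_, a, hZM, hZnd, hZinv, Or.inr ⟨hodd, ?_⟩⟩
    have hNZ := inv_sub_one hZinv
    obtain ⟨l, hl⟩ := exists_jtOn (M := Submodule.span F (Set.range
      (fun i : Fin a × Fin 2 => ((T - 1 : Module.End F V) ^ (i.1 : ℕ)) (![u, w] i.2)))) hNZ hnil
    have hwZ : w ∈ Submodule.span F (Set.range
        (fun i : Fin a × Fin 2 => ((T - 1 : Module.End F V) ^ (i.1 : ℕ)) (![u, w] i.2))) := by
      apply Submodule.subset_span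
      exact ⟨(⟨0, by omega⟩, 1), by simp⟩
    have hmem : a ∈ l := by
      apply hl.mem_of_not_le_ker hNZ hnil ha1 (hZM.trans ha)
      intro hle
      exact hw (LinearMap.mem_ker.1 (hle hwZ))
    have hsum : l.sum = 2 * a := by
      rw [hl.sum_eq hNZ hnil, finrank_span_eq_card hli, Fintype.card_prod, Fintype.card_fin,
        Fintype.card_fin, mul_comm]
    have hevc := hl.even_count_of_alt h2 B hB T hT hnil hZnd hZinv a hodd
    have hc1 : 1 ≤ l.count a := Multiset.count_pos.2 hmem
    have hc2 : 2 ≤ l.count a := by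
      obtain ⟨t, ht⟩ := hevc
      omega
    rw [← multiset_eq_pair hl.1 hc2 hsum]
    exact hl

end dec

end Cfsg.Agent.Lib.Helper1.NDSp
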