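import Mathlib
import Cfsg.Agent.Lib.Helper1.NDSp4

set_option autoImplicit false
set_option linter.unusedSectionVars false

/-!
# S5956: invariant nondegenerate subspaces of a unipotent isometry from sub-partitions
-/

namespace Cfsg.Agent.Lib.Helper1.NDSp

open Module Cfsg.Agent.H9SemiInv Cfsg.Agent.Lib.Helper1.SpBlk Cfsg.Agent.Lib.Helper5
  Cfsg.Agent.Lib.Helper5.UniO

section ms

theorem ms_le_of_count_le {ν l μ' : Multiset ℕ} {a : ℕ} (hν : ν ≤ l + μ')
    (hl : ∀ b, b ≠ a → l.count b = 0) (hc : ν.count a ≤ μ'.count a) : ν ≤ μ' := by
  rw [Multiset.le_iff_count]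
  intro b
  by_cases hb : b = a
  · rw [hb]
    exact hc
  · have h1 := Multiset.le_iff_count.1 hν b
    rw [Multiset.count_add, hl b hb, zero_add] at h1
    exact h1

end ms

section dec
variable {F V : Type*} [Field F] [AddCommGroup V] [Module F V] [FiniteDimensional F V]
variable {B : LinearMap.BilinForm F V} {T : V →ₗ[F] V}

/-- the induction: sub-partitions of symplectic type are realised by invariant nondegenerate
subspaces -/
theorem exists_nd_of_sub (h2 : (2 : F) ≠ 0) (hB : B.IsAlt) (hT : ∀ u v, B (T u) (T v) = B u v)
    (hinj : Function.Injective T) (hnil : IsNilpotent (T - 1 : Module.End F V)) :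
    ∀ n : ℕ, ∀ M : Submodule F V, Nd B M → Inv T M → finrank F M = n →
      ∀ μ : Multiset ℕ, JTon (T - 1 : Module.End F V) M μ → ∀ ν : Multiset ℕ, ν ≤ μ →
        (∀ a : ℕ, Odd a → Even (ν.count a)) →
        ∃ W : Submodule F V, W ≤ M ∧ Nd B W ∧ Inv T W ∧ finrank F W = ν.sum := by
  intro n
  induction n using Nat.strong_induction_on with
  | _ n ih =>
    intro M hMnd hMinv hMfr μ hμ ν hνμ hν2
    have hNM := inv_sub_one hMinv
    by_cases hne : M = ⊥
    · have h1 : μ.sum = 0 := by rw [hμ.sum_eq hNM hnil, hne, finrank_bot]
      have h3 : ν.sum = 0 := by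
        obtain ⟨ρ, hρ⟩ := Multiset.le_iff_exists_add.1 hνμ
        have h4 : μ.sum = ν.sum + ρ.sum := by rw [hρ, Multiset.sum_add]
        omega
      refine ⟨⊥, bot_le, nd_bot, ?_, ?_⟩
      · intro x hx
        rw [(Submodule.mem_bot F).1 hx, map_zero]
        exact Submodule.zero_mem _
      · rw [finrank_bot, h3]
    · obtain ⟨Z, a, hZM, hZnd, hZinv, hZjt⟩ := exists_block h2 hB hT hnil hMnd hMinv hne
      have hNZ := inv_sub_one hZinv
      -- the complement
      have hM'nd : Nd B (M ⊓ B.orthogonal Z) := hMnd.inf_orthogonal hB hZnd hZM
      have hM'inv : Inv T (M ⊓ B.orthogonal Z) :=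
        hMinv.inf (inv_orthogonal_of_injective hT hinj hZinv)
      have hNM' := inv_sub_one hM'inv
      have hdis : Disjoint Z (M ⊓ B.orthogonal Z) := hZnd.disjoint_inf_orthogonal hB M
      have hsup : Z ⊔ (M ⊓ B.orthogonal Z) = M := hZnd.sup_inf_orthogonal hB hZM
      have hfr := hZnd.finrank_inf_orthogonal_self hB hZM
      obtain ⟨μ', hμ'⟩ := exists_jtOn (M := M ⊓ B.orthogonal Z) hNM' hnil
      have hμ'2 := hμ'.even_count_of_alt h2 B hB T hT hnil hM'nd hM'inv
      -- the general step: given the type `l` of `Z`
      have step : ∀ l : Multiset ℕ, JTon (T - 1 : Module.End F V) Z l → 0 < l.sum →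
          (∀ b, b ≠ a → l.count b = 0) →
          (ν.count a ≤ μ'.count a ∨ ∃ ν'' : Multiset ℕ, ν = l + ν'' ∧ ν'' ≤ μ' ∧
            ∀ b : ℕ, Odd b → Even (ν''.count b)) →
          ∃ W : Submodule F V, W ≤ M ∧ Nd B W ∧ Inv T W ∧ finrank F W = ν.sum := by
        intro l hl hlpos hlc hcases
        have hZfr : finrank F Z = l.sum := (hl.sum_eq hNZ hnil).symm
        have hlt : finrank F ↥(M ⊓ B.orthogonal Z) < n := by omega
        have hμeq : μ = l + μ' := by
          have h1 := JTon.add hNZ hNM' hdis hl hμ'
          rw [hsup] at h1
          exact hμ.unique h1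
        rcases hcases with hc | ⟨ν'', hνeq, hν''le, hν''2⟩
        · have hle : ν ≤ μ' := ms_le_of_count_le (hμeq ▸ hνμ) hlc hc
          obtain ⟨W, hWM', hWnd, hWinv, hWfr⟩ :=
            ih _ hlt (M ⊓ B.orthogonal Z) hM'nd hM'inv rfl μ' hμ' ν hle hν2
          exact ⟨W, hWM'.trans inf_le_left, hWnd, hWinv, hWfr⟩
        · obtain ⟨W, hWM', hWnd, hWinv, hWfr⟩ :=
            ih _ hlt (M ⊓ B.orthogonal Z) hM'nd hM'inv rfl μ' hμ' ν'' hν''le hν''2
          refine ⟨Z ⊔ W, sup_le hZM (hWM'.trans inf_le_left),
            hZnd.sup hB hWnd (hWM'.trans inf_le_right), hZinv.sup hWinv, ?_⟩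
          rw [finrank_sup_of_disjoint (hdis.mono_right hWM'), hZfr, hWfr, hνeq, Multiset.sum_add]
      rcases hZjt with ⟨hev, hl⟩ | ⟨hodd, hl⟩
      · -- one even block
        have ha0 : 0 < a := hl.1 a (Multiset.mem_singleton_self a)
        apply step {a} hl (by rw [Multiset.sum_singleton]; exact ha0)
        · intro b hb
          rw [Multiset.count_singleton, if_neg hb]
        · by_cases hc : ν.count a ≤ μ'.count a
          · exact Or.inl hc
          · right
            push Not at hc
            have hmem : a ∈ ν := Multiset.count_pos.1 (by omega)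
            have hμeq : μ = {a} + μ' := by
              have h1 := JTon.add hNZ hNM' hdis hl hμ'
              rw [hsup] at h1
              exact hμ.unique h1
            refine ⟨ν.erase a, ?_, ?_, ?_⟩
            · rw [Multiset.singleton_add, Multiset.cons_erase hmem]
            · rw [Multiset.le_iff_count]
              intro b
              have h1 := Multiset.le_iff_count.1 hνμ b
              rw [hμeq, Multiset.count_add, Multiset.count_singleton] at h1
              by_cases hb : b = a
              · rw [hb, Multiset.count_erase_self]
                rw [hb, if_pos rfl] at h1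
                omega
              · rw [Multiset.count_erase_of_ne hb]
                rw [if_neg hb, zero_add] at h1
                exact h1
            · intro b hb
              have hba : b ≠ a := by
                rintro rfl
                exact (Nat.not_even_iff_odd.2 hb) hev
              rw [Multiset.count_erase_of_ne hba]
              exact hν2 b hb
      · -- two odd blocks
        have ha0 : 0 < a := hodd.pos
        apply step {a, a} hl (by
          rw [Multiset.insert_eq_cons, Multiset.sum_cons, Multiset.sum_singleton]; omega)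
        · intro b hb
          rw [Multiset.insert_eq_cons, Multiset.count_cons_of_ne hb, Multiset.count_singleton,
            if_neg hb]
        · by_cases hc : ν.count a ≤ μ'.count a
          · exact Or.inl hc
          · right
            push Not at hc
            have hμeq : μ = {a, a} + μ' := by
              have h1 := JTon.add hNZ hNM' hdis hl hμ'
              rw [hsup] at h1
              exact hμ.unique h1
            have hca : μ.count a = 2 + μ'.count a := by
              rw [hμeq, Multiset.count_add, Multiset.insert_eq_cons, Multiset.count_cons_self,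
                Multiset.count_singleton, if_pos rfl]
            have hνa := Multiset.le_iff_count.1 hνμ a
            obtain ⟨t1, ht1⟩ := hν2 a hodd
            obtain ⟨t2, ht2⟩ := hμ'2 a hodd
            have hcount : ν.count a = μ'.count a + 2 := by omega
            have hmem : a ∈ ν := Multiset.count_pos.1 (by omega)
            have hmem' : a ∈ ν.erase a := by
              apply Multiset.count_pos.1
              rw [Multiset.count_erase_self]
              omega
            refine ⟨(ν.erase a).erase a, ?_, ?_, ?_⟩
            · rw [Multiset.insert_eq_cons, Multiset.cons_add, Multiset.singleton_add,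
                Multiset.cons_erase hmem', Multiset.cons_erase hmem]
            · rw [Multiset.le_iff_count]
              intro b
              have h1 := Multiset.le_iff_count.1 hνμ b
              by_cases hb : b = a
              · rw [hb, Multiset.count_erase_self, Multiset.count_erase_self]
                omega
              · rw [Multiset.count_erase_of_ne hb, Multiset.count_erase_of_ne hb]
                rw [hμeq, Multiset.count_add, Multiset.insert_eq_cons,
                  Multiset.count_cons_of_ne hb, Multiset.count_singleton, if_neg hb,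
                  zero_add] at h1
                exact h1
            · intro b hb
              by_cases hba : b = a
              · rw [hba, Multiset.count_erase_self, Multiset.count_erase_self]
                exact ⟨t2, by omega⟩
              · rw [Multiset.count_erase_of_ne hba, Multiset.count_erase_of_ne hba]
                exact hν2 b hb

/-- **PK-UDEC**: a unipotent isometry fixes nondegenerate subspaces of the dimensions given by the
sub-partitions of symplectic type of its Jordan type -/
theorem fixND_of_unipotent (h2 : (2 : F) ≠ 0)
    (B : LinearMap.BilinForm F V) (hB : B.IsAlt) (hnd : ∀ x, (∀ y, B x y = 0) → x = 0)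
    (T : V →ₗ[F] V) (hT : ∀ u v, B (T u) (T v) = B u v) (hnil : IsNilpotent (T - 1))
    {μ : Multiset ℕ} (hμ : HasJT (T - 1) μ) (m : ℕ) (ν : Multiset ℕ) (hν : ν ≤ μ)
    (hsum : ν.sum = m) (hν2 : ∀ a : ℕ, Odd a → Even (ν.count a)) : FixND B T m := by
  have hndtop : Nd B ⊤ := fun u _ hu => hnd u (fun y => hu y Submodule.mem_top)
  obtain ⟨W, -, hWnd, hWinv, hWfr⟩ := exists_nd_of_sub h2 hB hT (injective_of_isometry B hnd T hT)
    hnil _ ⊤ hndtop (fun _ _ => Submodule.mem_top) rfl μ (jtOn_top.2 hμ) ν hν hν2
  rw [fixND_iff]
  exact ⟨W, by rw [hWfr, hsum], hWnd, hWinv⟩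

end dec

end Cfsg.Agent.Lib.Helper1.NDSp
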