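import Mathlib
import Cfsg.Agent.Lib.Helper1.TISp4

set_option autoImplicit false
set_option linter.unusedSectionVars false

/-!
# S5955: models with small invariant totally isotropic subspaces
-/

namespace Cfsg.Agent.Lib.Helper1.TISp

open Module Polynomial Cfsg.Agent.H9SemiInv Cfsg.Agent.Lib.Helper9.H9Elus
  Cfsg.Agent.Lib.Helper2.SpIsom Cfsg.Agent.Lib.Helper1.SpBlk

universe u

section prod
variable {F : Type*} [Field F] {W₁ W₂ : Type*} [AddCommGroup W₁] [Module F W₁]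
  [AddCommGroup W₂] [Module F W₂]

/-- the orthogonal sum of two forms -/
def prodForm (B₁ : LinearMap.BilinForm F W₁) (B₂ : LinearMap.BilinForm F W₂) :
    LinearMap.BilinForm F (W₁ × W₂) :=
  B₁.comp (LinearMap.fst F W₁ W₂) (LinearMap.fst F W₁ W₂) +
    B₂.comp (LinearMap.snd F W₁ W₂) (LinearMap.snd F W₁ W₂)

theorem prodForm_apply (B₁ : LinearMap.BilinForm F W₁) (B₂ : LinearMap.BilinForm F W₂)
    (x y : W₁ × W₂) : prodForm B₁ B₂ x y = B₁ x.1 y.1 + B₂ x.2 y.2 := rfl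

variable {B₁ : LinearMap.BilinForm F W₁} {B₂ : LinearMap.BilinForm F W₂}
  {T₁ : W₁ →ₗ[F] W₁} {T₂ : W₂ →ₗ[F] W₂}

theorem prodForm_isAlt (h₁ : B₁.IsAlt) (h₂ : B₂.IsAlt) : (prodForm B₁ B₂).IsAlt := by
  intro x
  rw [prodForm_apply, h₁ x.1, h₂ x.2, add_zero]

theorem prodForm_nondeg (hnd₁ : ∀ x, (∀ y, B₁ x y = 0) → x = 0)
    (hnd₂ : ∀ x, (∀ y, B₂ x y = 0) → x = 0) :
    ∀ x, (∀ y, prodForm B₁ B₂ x y = 0) → x = 0 := by
  intro x hx
  have e1 : x.1 = 0 := by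
    apply hnd₁
    intro y
    have := hx (y, 0)
    rw [prodForm_apply] at this
    simpa using this
  have e2 : x.2 = 0 := by
    apply hnd₂
    intro y
    have := hx (0, y)
    rw [prodForm_apply] at this
    simpa using this
  exact Prod.ext e1 e2

theorem prodForm_isom (hT₁ : ∀ x y, B₁ (T₁ x) (T₁ y) = B₁ x y)
    (hT₂ : ∀ x y, B₂ (T₂ x) (T₂ y) = B₂ x y) (x y : W₁ × W₂) :
    prodForm B₁ B₂ (T₁.prodMap T₂ x) (T₁.prodMap T₂ y) = prodForm B₁ B₂ x y := by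
  rw [prodForm_apply, prodForm_apply]
  show B₁ (T₁ x.1) (T₁ y.1) + B₂ (T₂ x.2) (T₂ y.2) = _
  rw [hT₁, hT₂]

theorem prodMap_pow' (T₁ : W₁ →ₗ[F] W₁) (T₂ : W₂ →ₗ[F] W₂) (k : ℕ) :
    (T₁.prodMap T₂) ^ k = (T₁ ^ k).prodMap (T₂ ^ k) := by
  induction k with
  | zero => rfl
  | succ k ih => rw [pow_succ, ih, pow_succ, pow_succ, LinearMap.prodMap_mul]

theorem prodMap_pow_eq_one {r : ℕ} (h₁ : T₁ ^ r = 1) (h₂ : T₂ ^ r = 1) :
    (T₁.prodMap T₂) ^ r = 1 := by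
  rw [prodMap_pow', h₁, h₂]
  rfl

theorem aeval_prodMap (T₁ : W₁ →ₗ[F] W₁) (T₂ : W₂ →ₗ[F] W₂) (P : F[X]) :
    aeval (T₁.prodMap T₂) P = (aeval T₁ P).prodMap (aeval T₂ P) := by
  have h1 := aeval_algHom_apply (LinearMap.prodMapAlgHom F W₁ W₂)
    ((T₁, T₂) : Module.End F W₁ × Module.End F W₂) P
  rw [aeval_prod_apply] at h1
  exact h1

variable [FiniteDimensional F W₁] [FiniteDimensional F W₂]

theorem fst_mem_of_coprime {P₁ P₂ : F[X]} (hcop : IsCoprime P₁ P₂) (h₁ : aeval T₁ P₁ = 0)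
    (h₂ : aeval T₂ P₂ = 0) {Z : Submodule F (W₁ × W₂)} (hZ : Inv (T₁.prodMap T₂) Z)
    {v : W₁ × W₂} (hv : v ∈ Z) : ((v.1, 0) : W₁ × W₂) ∈ Z := by
  obtain ⟨a, b, hab⟩ := hcop
  have hE := Inv.aeval hZ (b * P₂) v hv
  rw [aeval_prodMap] at hE
  have e1 : aeval T₁ (b * P₂) = 1 := by
    have h3 : b * P₂ = 1 - a * P₁ := by rw [← hab]; ring
    rw [h3, map_sub, map_one, map_mul, h₁, mul_zero, sub_zero]
  have e2 : aeval T₂ (b * P₂) = 0 := by rw [map_mul, h₂, mul_zero]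
  rw [e1, e2] at hE
  exact hE

theorem snd_mem_of_coprime {P₁ P₂ : F[X]} (hcop : IsCoprime P₁ P₂) (h₁ : aeval T₁ P₁ = 0)
    (h₂ : aeval T₂ P₂ = 0) {Z : Submodule F (W₁ × W₂)} (hZ : Inv (T₁.prodMap T₂) Z)
    {v : W₁ × W₂} (hv : v ∈ Z) : ((0, v.2) : W₁ × W₂) ∈ Z := by
  have h3 := Z.sub_mem hv (fst_mem_of_coprime hcop h₁ h₂ hZ hv)
  have h4 : v - (v.1, 0) = ((0, v.2) : W₁ × W₂) := by
    apply Prod.ext <;> simp
  rwa [h4] at h3

/-- the invariant totally isotropic subspaces of a product with coprime annihilators -/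
theorem finrank_le_of_coprime {P₁ P₂ : F[X]} (hcop : IsCoprime P₁ P₂) (h₁ : aeval T₁ P₁ = 0)
    (h₂ : aeval T₂ P₂ = 0) {M₁ M₂ : ℕ}
    (hb₁ : ∀ Z : Submodule F W₁, Inv T₁ Z → TI B₁ Z → finrank F Z ≤ M₁)
    (hb₂ : ∀ Z : Submodule F W₂, Inv T₂ Z → TI B₂ Z → finrank F Z ≤ M₂)
    {Z : Submodule F (W₁ × W₂)} (hZ : Inv (T₁.prodMap T₂) Z) (hti : TI (prodForm B₁ B₂) Z) :
    finrank F Z ≤ M₁ + M₂ := by
  have hZeq : Z = (Z.comap (LinearMap.inl F W₁ W₂)).prod (Z.comap (LinearMap.inr F W₁ W₂)) := by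
    ext v
    rw [Submodule.mem_prod, Submodule.mem_comap, Submodule.mem_comap]
    constructor
    · intro hv
      exact ⟨fst_mem_of_coprime hcop h₁ h₂ hZ hv, snd_mem_of_coprime hcop h₁ h₂ hZ hv⟩
    · rintro ⟨h3, h4⟩
      have h5 : v = LinearMap.inl F W₁ W₂ v.1 + LinearMap.inr F W₁ W₂ v.2 := by
        apply Prod.ext <;> simp
      rw [h5]
      exact Z.add_mem h3 h4
  rw [hZeq, finrank_prod_sub]
  apply add_le_add
  · apply hb₁
    · intro v hv
      rw [Submodule.mem_comap] at hv ⊢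
      have h3 := hZ _ hv
      have h4 : (T₁.prodMap T₂) (LinearMap.inl F W₁ W₂ v) = LinearMap.inl F W₁ W₂ (T₁ v) := by
        apply Prod.ext <;> simp
      rwa [h4] at h3
    · intro u hu v hv
      rw [Submodule.mem_comap] at hu hv
      have h3 := hti _ hu _ hv
      rw [prodForm_apply] at h3
      simpa using h3
  · apply hb₂
    · intro v hv
      rw [Submodule.mem_comap] at hv ⊢
      have h3 := hZ _ hv
      have h4 : (T₁.prodMap T₂) (LinearMap.inr F W₁ W₂ v) = LinearMap.inr F W₁ W₂ (T₂ v) := by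
        apply Prod.ext <;> simp
      rwa [h4] at h3
    · intro u hu v hv
      rw [Submodule.mem_comap] at hu hv
      have h3 := hti _ hu _ hv
      rw [prodForm_apply] at h3
      simpa using h3

end prod

/-- a symplectic space with an isometry `T`, `T ^ r = 1`, annihilated by `P`, all of whose invariant
totally isotropic subspaces have dimension at most `Mb` -/
def TIModel (F : Type u) [Field F] (r n : ℕ) (P : F[X]) (Mb : ℕ) : Prop :=
  ∃ (W : Type u) (_ : AddCommGroup W) (_ : Module F W) (_ : FiniteDimensional F W)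
    (B : LinearMap.BilinForm F W) (T : W →ₗ[F] W), B.IsAlt ∧
    (∀ x, (∀ y, B x y = 0) → x = 0) ∧ finrank F W = n ∧
    (∀ x y, B (T x) (T y) = B x y) ∧ T ^ r = 1 ∧ aeval T P = 0 ∧
    ∀ Z : Submodule F W, Inv T Z → TI B Z → finrank F Z ≤ Mb

section models
variable {F : Type u} [Field F]

theorem tiModel_of_block {r h : ℕ} {g : F[X]} (hb : BlockModel F r h g) :
    TIModel F r (2 * h) g (2 * h) := by
  obtain ⟨W, i1, i2, i3, B, T, hB, hnd, hfin, hT, hTr, hg⟩ := hb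
  refine ⟨W, i1, i2, i3, B, T, hB, hnd, hfin, hT, hTr, hg, ?_⟩
  intro Z _ _
  rw [← hfin]
  exact Submodule.finrank_le Z

theorem tiModel_prod_same {r n₁ n₂ M₁ M₂ : ℕ} {P : F[X]} (h₁ : TIModel F r n₁ P M₁)
    (h₂ : TIModel F r n₂ P M₂) : TIModel F r (n₁ + n₂) P (n₁ + n₂) := by
  obtain ⟨W₁, i1, i2, i3, B₁, T₁, hB₁, hnd₁, hfin₁, hT₁, hTr₁, hP₁, -⟩ := h₁
  obtain ⟨W₂, j1, j2, j3, B₂, T₂, hB₂, hnd₂, hfin₂, hT₂, hTr₂, hP₂, -⟩ := h₂
  refine ⟨W₁ × W₂, inferInstance, inferInstance, inferInstance, prodForm B₁ B₂, T₁.prodMap T₂,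
    prodForm_isAlt hB₁ hB₂, prodForm_nondeg hnd₁ hnd₂, ?_, prodForm_isom hT₁ hT₂,
    prodMap_pow_eq_one hTr₁ hTr₂, ?_, ?_⟩
  · rw [Module.finrank_prod, hfin₁, hfin₂]
  · rw [aeval_prodMap, hP₁, hP₂]
    rfl
  · intro Z _ _
    have h3 := Submodule.finrank_le Z
    rw [Module.finrank_prod, hfin₁, hfin₂] at h3
    exact h3

theorem tiModel_prod {r n₁ n₂ M₁ M₂ : ℕ} {P₁ P₂ : F[X]} (hcop : IsCoprime P₁ P₂)
    (h₁ : TIModel F r n₁ P₁ M₁) (h₂ : TIModel F r n₂ P₂ M₂) :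
    TIModel F r (n₁ + n₂) (P₁ * P₂) (M₁ + M₂) := by
  obtain ⟨W₁, i1, i2, i3, B₁, T₁, hB₁, hnd₁, hfin₁, hT₁, hTr₁, hP₁, hb₁⟩ := h₁
  obtain ⟨W₂, j1, j2, j3, B₂, T₂, hB₂, hnd₂, hfin₂, hT₂, hTr₂, hP₂, hb₂⟩ := h₂
  refine ⟨W₁ × W₂, inferInstance, inferInstance, inferInstance, prodForm B₁ B₂, T₁.prodMap T₂,
    prodForm_isAlt hB₁ hB₂, prodForm_nondeg hnd₁ hnd₂, ?_, prodForm_isom hT₁ hT₂,
    prodMap_pow_eq_one hTr₁ hTr₂, ?_, ?_⟩
  · rw [Module.finrank_prod, hfin₁, hfin₂]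
  · rw [aeval_prodMap, map_mul, map_mul, hP₁, hP₂, zero_mul, mul_zero]
    rfl
  · intro Z hZ hti
    exact finrank_le_of_coprime hcop hP₁ hP₂ hb₁ hb₂ hZ hti

theorem tiModel_pow {r h : ℕ} {g : F[X]} (hb : BlockModel F r h g) (a : ℕ) :
    TIModel F r ((a + 1) * (2 * h)) g ((a + 1) * (2 * h)) := by
  induction a with
  | zero =>
    rw [zero_add, one_mul]
    exact tiModel_of_block hb
  | succ a ih =>
    have h1 := tiModel_prod_same ih (tiModel_of_block hb)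
    have e1 : (a + 1) * (2 * h) + 2 * h = (a + 1 + 1) * (2 * h) := by ring
    rw [e1] at h1
    exact h1

end models

section finite
variable {F : Type u} [Field F] [Fintype F] {p : ℕ} [Fact p.Prime] [CharP F p]

theorem tiModel_triv (r n : ℕ) : TIModel F r (2 * n) (X - 1) n := by
  refine ⟨(Fin n ⊕ Fin n → F), inferInstance, inferInstance, inferInstance, sympBilin n F, 1,
    sympBilin_isAlt, ?_, finrank_std n, fun _ _ => rfl, one_pow r, ?_, ?_⟩
  · intro x hx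
    apply sympForm_nondeg x
    intro y
    rw [← sympBilin_apply]
    exact hx y
  · rw [map_sub, aeval_X, map_one, sub_self]
  · intro Z _ hZ
    have h1 := TI.two_mul_finrank_le sympBilin_isAlt (nd_top_symp (F := F) n) (le_top : Z ≤ ⊤) hZ
    rw [finrank_top, finrank_std] at h1
    omega

/-- the sharp bound for a power of one block -/
theorem tiModel_pow_bound (r : ℕ) [Fact r.Prime] (hrp : r ≠ p) {h : ℕ}
    (hi : orderOf ((Fintype.card F : ℕ) : ZMod r) = 2 * h) {g : F[X]}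
    (hg : g ∣ cyclotomic r F) (hb : BlockModel F r h g) (a : ℕ) (ha : 1 ≤ a) :
    TIModel F r (a * (2 * h)) g ((2 * h) * (a / 2)) := by
  obtain ⟨a', rfl⟩ : ∃ a', a = a' + 1 := ⟨a - 1, by omega⟩
  obtain ⟨W, i1, i2, i3, B, T, hB, hnd, hfin, hT, hTr, hP, -⟩ := tiModel_pow hb a'
  refine ⟨W, i1, i2, i3, B, T, hB, hnd, hfin, hT, hTr, hP, ?_⟩
  intro Z hZ hti
  have hndtop : Nd B ⊤ := fun u _ hu => hnd u (fun y => hu y Submodule.mem_top)
  have h1 := TI.two_mul_finrank_le hB hndtop (le_top : Z ≤ ⊤) hti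
  rw [finrank_top, hfin] at h1
  have hcyc : aeval T (cyclotomic r F) = 0 := by
    obtain ⟨g', hg'⟩ := hg
    rw [hg', map_mul, hP, zero_mul]
  have hZK : Z ≤ movK r T := by
    intro v _
    show v ∈ LinearMap.ker (aeval T (cyclotomic r F))
    rw [LinearMap.mem_ker, hcyc, LinearMap.zero_apply]
  obtain ⟨s, hs⟩ := dvd_finrank_of_le_movK r hrp T hTr hZ hZK
  rw [hi] at hs
  rw [hs] at h1 ⊢
  apply Nat.mul_le_mul_left
  have hh : 0 < 2 * h := by
    have := order_pos (F := F) r hrp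
    omega
  have h2 : (2 * h) * (2 * s) ≤ (2 * h) * (a' + 1) := by
    calc (2 * h) * (2 * s) = 2 * (2 * h * s) := by ring
      _ ≤ (a' + 1) * (2 * h) := h1
      _ = (2 * h) * (a' + 1) := by ring
  have h3 := Nat.le_of_mul_le_mul_left h2 hh
  omega

/-- the chain of models: a trivial part, a power of the first block and single further blocks -/
theorem exists_chain (r : ℕ) [Fact r.Prime] (hrp : r ≠ p) {h : ℕ}
    (hi : orderOf ((Fintype.card F : ℕ) : ZMod r) = 2 * h) {t : ℕ} (g : Fin t → F[X])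
    (hg : ∀ l, g l ∣ cyclotomic r F) (hcop : ∀ l l', l ≠ l' → IsCoprime (g l) (g l'))
    (hb : ∀ l, BlockModel F r h (g l)) (ntriv a₀ : ℕ) (ha₀ : 1 ≤ a₀) :
    ∀ s, 1 ≤ s → s ≤ t → ∃ P : F[X], (∀ l : Fin t, s ≤ (l : ℕ) → IsCoprime P (g l)) ∧
      TIModel F r (2 * ntriv + (2 * h) * (a₀ + s - 1)) P (ntriv + (2 * h) * (a₀ / 2)) := by
  have hX : ∀ l, IsCoprime (X - 1 : F[X]) (g l) := fun l =>
    IsCoprime.of_isCoprime_of_dvd_right (isCoprime_X_sub_one_cyclotomic r hrp) (hg l)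
  intro s hs1
  induction s, hs1 using Nat.le_induction with
  | base =>
    intro ht
    refine ⟨(X - 1) * g ⟨0, by omega⟩, ?_, ?_⟩
    · intro l hl
      apply IsCoprime.mul_left (hX l)
      apply hcop
      intro h0
      rw [← h0] at hl
      simp at hl
    · have h1 := tiModel_prod (hX ⟨0, by omega⟩) (tiModel_triv (F := F) r ntriv)
        (tiModel_pow_bound r hrp hi (hg ⟨0, by omega⟩) (hb ⟨0, by omega⟩) a₀ ha₀)
      have e1 : 2 * ntriv + a₀ * (2 * h) = 2 * ntriv + (2 * h) * (a₀ + 1 - 1) := by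
        rw [Nat.add_sub_cancel, mul_comm a₀]
      rw [e1] at h1
      exact h1
  | succ s hs1 ih =>
    intro ht
    obtain ⟨P, hPcop, hP⟩ := ih (by omega)
    refine ⟨P * g ⟨s, by omega⟩, ?_, ?_⟩
    · intro l hl
      apply IsCoprime.mul_left (hPcop l (by omega))
      apply hcop
      intro h0
      rw [← h0] at hl
      simp at hl
    · have h1 := tiModel_prod (hPcop ⟨s, by omega⟩ le_rfl) hP
        (tiModel_pow_bound r hrp hi (hg ⟨s, by omega⟩) (hb ⟨s, by omega⟩) 1 le_rfl)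
      have e1 : 2 * ntriv + (2 * h) * (a₀ + s - 1) + 1 * (2 * h) =
          2 * ntriv + (2 * h) * (a₀ + (s + 1) - 1) := by
        have : a₀ + (s + 1) - 1 = (a₀ + s - 1) + 1 := by omega
        rw [this]
        ring
      have e2 : ntriv + (2 * h) * (a₀ / 2) + (2 * h) * (1 / 2) = ntriv + (2 * h) * (a₀ / 2) := by
        norm_num
      rw [e1, e2] at h1
      exact h1

end finite

end Cfsg.Agent.Lib.Helper1.TISp
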