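import Mathlib
import Cfsg.Agent.Lib.Helper1.NDSp5
import Cfsg.Agent.Lib.Helper1.TISp5
import Cfsg.Agent.Lib.Helper5.UniO4

set_option autoImplicit false
set_option linter.unusedSectionVars false

/-!
# S5956: unipotent derangements on nondegenerate subspaces (odd characteristic)
-/

namespace Cfsg.Agent.Lib.Helper1.NDSp

open Module Polynomial Cfsg.Agent.H9SemiInv Cfsg.Agent.Lib.Helper2.SpIsom
  Cfsg.Agent.Lib.Helper1.SpBlk Cfsg.Agent.Lib.Helper1.TISp Cfsg.Agent.Lib.Helper5.UniO

universe u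

section nec
variable {F V : Type*} [Field F] [AddCommGroup V] [Module F V] [FiniteDimensional F V]

/-- an invariant nondegenerate subspace gives a sub-multiset of the Jordan type -/
theorem exists_sub_of_fixND (h2 : (2 : F) ≠ 0) (B : LinearMap.BilinForm F V) (hB : B.IsAlt)
    (hnd : ∀ x, (∀ y, B x y = 0) → x = 0) (T : V →ₗ[F] V) (hT : ∀ u v, B (T u) (T v) = B u v)
    (hnil : IsNilpotent (T - 1)) {μ : Multiset ℕ} (hμ : HasJT (T - 1) μ) (m : ℕ)
    (h : FixND B T m) : ∃ ν ≤ μ, ν.sum = m ∧ ∀ a : ℕ, Odd a → Even (ν.count a) := by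
  obtain ⟨W, hWfr, hWnd, hWinv⟩ := (fixND_iff T m).1 h
  have hinj := injective_of_isometry B hnd T hT
  have hW'inv : Inv T (⊤ ⊓ B.orthogonal W) :=
    Inv.inf (fun _ _ => Submodule.mem_top) (inv_orthogonal_of_injective hT hinj hWinv)
  have hNW := inv_sub_one hWinv
  have hNW' := inv_sub_one hW'inv
  obtain ⟨ν, hν⟩ := exists_jtOn hNW hnil
  obtain ⟨ν', hν'⟩ := exists_jtOn hNW' hnil
  have hadd := JTon.add hNW hNW' (hWnd.disjoint_inf_orthogonal hB ⊤) hν hν'
  rw [hWnd.sup_inf_orthogonal hB le_top] at hadd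
  have hμeq : μ = ν + ν' := (jtOn_top.2 hμ).unique hadd
  refine ⟨ν, ?_, ?_, ?_⟩
  · rw [hμeq]
    exact Multiset.le_add_right _ _
  · rw [hν.sum_eq hNW hnil, hWfr]
  · exact hν.even_count_of_alt h2 B hB T hT hnil hWnd hWinv

/-- Frobenius for `T - 1` -/
theorem sub_one_pow_char (p : ℕ) [Fact p.Prime] [CharP F p] (T : Module.End F V) :
    (T - 1) ^ p = T ^ p - 1 := by
  have h1 : ((X : F[X]) - 1) ^ p = X ^ p - 1 := by
    rw [sub_pow_char, one_pow]
  have h2 := congrArg (aeval T) h1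
  simpa using h2

end nec

section real
variable {F : Type u} [Field F]

/-- `μ` is the Jordan type of a unipotent isometry of some symplectic space -/
def RealSp (F : Type u) [Field F] (μ : Multiset ℕ) : Prop :=
  ∃ (W : Type u) (_ : AddCommGroup W) (_ : Module F W) (_ : FiniteDimensional F W)
    (B : LinearMap.BilinForm F W) (T : W →ₗ[F] W),
    B.IsAlt ∧ (∀ x, (∀ y, B x y = 0) → x = 0) ∧ finrank F W = μ.sum ∧
      (∀ u v, B (T u) (T v) = B u v) ∧ HasJT (T - 1 : Module.End F W) μ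

theorem realSp_zero : RealSp F 0 := by
  refine ⟨PUnit.{u + 1}, inferInstance, inferInstance, inferInstance, 0, 1, ?_, ?_, ?_, ?_,
    hasJT_of_subsingleton _⟩
  · intro x
    rfl
  · intro x _
    exact Subsingleton.elim _ _
  · rw [Multiset.sum_zero]
    exact Module.finrank_zero_of_subsingleton
  · intro u v
    rfl

theorem antiB_flip (n : ℕ) (u v : Fin (n + 1) → F) :
    antiB F n v u = (-1 : F) ^ n * antiB F n u v := by
  rw [antiB_apply, antiB_apply, Finset.mul_sum, ← Equiv.sum_comp Fin.revPerm]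
  apply Finset.sum_congr rfl
  intro i _
  rw [Fin.revPerm_apply, Fin.rev_rev, Fin.val_rev]
  have hs : (-1 : F) ^ (n + 1 - ((i : ℕ) + 1)) = (-1 : F) ^ n * (-1 : F) ^ (i : ℕ) := by
    have hi : (i : ℕ) ≤ n := Nat.lt_succ_iff.1 i.isLt
    have h1 : (-1 : F) ^ (n + 1 - ((i : ℕ) + 1)) * (-1 : F) ^ (i : ℕ) = (-1 : F) ^ n := by
      rw [← pow_add]
      have : n + 1 - ((i : ℕ) + 1) + (i : ℕ) = n := by omega
      rw [this]
    have h3 : (-1 : F) ^ (i : ℕ) * (-1 : F) ^ (i : ℕ) = 1 := by
      rw [← pow_add]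
      exact (Even.add_self _).neg_one_pow
    calc (-1 : F) ^ (n + 1 - ((i : ℕ) + 1))
        = (-1 : F) ^ (n + 1 - ((i : ℕ) + 1)) * ((-1 : F) ^ (i : ℕ) * (-1 : F) ^ (i : ℕ)) := by
          rw [h3, mul_one]
      _ = (-1 : F) ^ n * (-1 : F) ^ (i : ℕ) := by rw [← mul_assoc, h1]
  rw [hs]
  ring

theorem antiB_isAlt (h2 : (2 : F) ≠ 0) (n : ℕ) (hn : Odd n) : (antiB F n).IsAlt := by
  intro u
  have h1 := antiB_flip n u u
  rw [hn.neg_one_pow] at h1
  have h3 : (2 : F) * antiB F n u u = 0 := by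
    linear_combination h1
  rcases mul_eq_zero.1 h3 with h | h
  · exact absurd h h2
  · exact h

theorem realSp_single (h2 : (2 : F) ≠ 0) (n : ℕ) (hn : Odd n) : RealSp F {n + 1} := by
  obtain ⟨x, hx, hker⟩ := exists_cayley h2 (antiB F n) (shift F n) ⟨n + 1, shift_pow_eq_zero n⟩
    (antiB_skew n)
  refine ⟨Fin (n + 1) → F, inferInstance, inferInstance, inferInstance, antiB F n,
    x.toLinearMap, antiB_isAlt h2 n hn, antiB_left_zero n, ?_, hx,
    (hasJT_shift n).of_ker_eq hker⟩
  rw [Multiset.sum_singleton, Module.finrank_fintype_fun_eq_card, Fintype.card_fin]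

/-- the form on two copies of `F^(n+1)` pairing the two copies -/
def pairB (F : Type u) [Field F] (n : ℕ) :
    LinearMap.BilinForm F ((Fin (n + 1) → F) × (Fin (n + 1) → F)) :=
  (antiB F n).comp (LinearMap.fst F _ _) (LinearMap.snd F _ _) -
    ((-1 : F) ^ n) • (antiB F n).comp (LinearMap.snd F _ _) (LinearMap.fst F _ _)

theorem pairB_apply (n : ℕ) (x y : (Fin (n + 1) → F) × (Fin (n + 1) → F)) :
    pairB F n x y = antiB F n x.1 y.2 - (-1 : F) ^ n * antiB F n x.2 y.1 := rfl

theorem neg_one_pow_mul_self (n : ℕ) : ((-1 : F) ^ n) * ((-1 : F) ^ n) = 1 := by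
  rw [← pow_add]
  exact (Even.add_self _).neg_one_pow

theorem pairB_isAlt (n : ℕ) : (pairB F n).IsAlt := by
  intro x
  rw [pairB_apply, antiB_flip n x.1 x.2, ← mul_assoc, neg_one_pow_mul_self, one_mul, sub_self]

theorem pairB_nondeg (n : ℕ) (x : (Fin (n + 1) → F) × (Fin (n + 1) → F))
    (hx : ∀ y, pairB F n x y = 0) : x = 0 := by
  have e1 : x.1 = 0 := by
    apply antiB_left_zero n
    intro v
    have := hx (0, v)
    rw [pairB_apply] at this
    simpa using this
  have e2 : x.2 = 0 := by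
    apply antiB_left_zero n
    intro v
    have := hx (v, 0)
    rw [pairB_apply] at this
    have h3 : (-1 : F) ^ n * antiB F n x.2 v = 0 := by simpa using this
    rcases mul_eq_zero.1 h3 with h | h
    · exact absurd h (pow_ne_zero _ (neg_ne_zero.2 one_ne_zero))
    · exact h
  exact Prod.ext e1 e2

theorem pairB_skew (n : ℕ) (x y : (Fin (n + 1) → F) × (Fin (n + 1) → F)) :
    pairB F n ((shift F n).prodMap (shift F n) x) y =
      - pairB F n x ((shift F n).prodMap (shift F n) y) := by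
  rw [pairB_apply, pairB_apply]
  show antiB F n (shift F n x.1) y.2 - (-1 : F) ^ n * antiB F n (shift F n x.2) y.1 =
    -(antiB F n x.1 (shift F n y.2) - (-1 : F) ^ n * antiB F n x.2 (shift F n y.1))
  rw [antiB_skew, antiB_skew]
  ring

theorem realSp_pair (h2 : (2 : F) ≠ 0) (n : ℕ) : RealSp F ({n + 1} + {n + 1}) := by
  have hnil : IsNilpotent ((shift F n).prodMap (shift F n)) := by
    refine ⟨n + 1, ?_⟩
    rw [prodMap_pow', shift_pow_eq_zero]
    exact LinearMap.prodMap_zero
  obtain ⟨x, hx, hker⟩ := exists_cayley h2 (pairB F n) ((shift F n).prodMap (shift F n)) hnil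
    (pairB_skew n)
  refine ⟨(Fin (n + 1) → F) × (Fin (n + 1) → F), inferInstance, inferInstance, inferInstance,
    pairB F n, x.toLinearMap, pairB_isAlt n, pairB_nondeg n, ?_, hx,
    ((hasJT_shift n).prodMap (hasJT_shift n)).of_ker_eq hker⟩
  rw [Multiset.sum_add, Multiset.sum_singleton, Module.finrank_prod,
    Module.finrank_fintype_fun_eq_card, Fintype.card_fin]

theorem realSp_add {μ₁ μ₂ : Multiset ℕ} (h₁ : RealSp F μ₁) (h₂ : RealSp F μ₂) :
    RealSp F (μ₁ + μ₂) := by
  obtain ⟨W₁, _, _, _, B₁, T₁, ha₁, hn₁, hd₁, hi₁, hj₁⟩ := h₁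
  obtain ⟨W₂, _, _, _, B₂, T₂, ha₂, hn₂, hd₂, hi₂, hj₂⟩ := h₂
  refine ⟨W₁ × W₂, inferInstance, inferInstance, inferInstance, prodForm B₁ B₂,
    T₁.prodMap T₂, prodForm_isAlt ha₁ ha₂, prodForm_nondeg hn₁ hn₂, ?_,
    prodForm_isom hi₁ hi₂, ?_⟩
  · rw [Module.finrank_prod, hd₁, hd₂, Multiset.sum_add]
  · have : (T₁.prodMap T₂ - 1 : Module.End F (W₁ × W₂))
        = (T₁ - 1 : Module.End F W₁).prodMap (T₂ - 1 : Module.End F W₂) := by
      apply LinearMap.ext
      rintro ⟨a, b⟩
      rfl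
    rw [this]
    exact hj₁.prodMap hj₂

theorem count_erase_erase_odd (μ : Multiset ℕ) (e : ℕ)
    (hev : ∀ f : ℕ, Odd f → Even (μ.count f)) (hcnt : 2 ≤ μ.count e) :
    ∀ f : ℕ, Odd f → Even (((μ.erase e).erase e).count f) := by
  intro f hf
  have := hev f hf
  by_cases hfe : f = e
  · subst hfe
    rw [Multiset.count_erase_self, Multiset.count_erase_self]
    rw [Nat.even_iff] at this ⊢
    omega
  · rw [Multiset.count_erase_of_ne hfe, Multiset.count_erase_of_ne hfe]
    exact this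

theorem realSp_of (h2 : (2 : F) ≠ 0) (μ : Multiset ℕ) (hpos : ∀ a ∈ μ, 0 < a)
    (hev : ∀ e : ℕ, Odd e → Even (μ.count e)) : RealSp F μ := by
  induction hn : Multiset.card μ using Nat.strong_induction_on generalizing μ with
  | _ n ih =>
    by_cases h0 : μ = 0
    · rw [h0]
      exact realSp_zero
    by_cases heven : ∃ a ∈ μ, Even a
    · obtain ⟨a, ha, hae⟩ := heven
      have hμ : μ = {a} + μ.erase a := by
        rw [Multiset.singleton_add, Multiset.cons_erase ha]
      have hapos := hpos a ha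
      obtain ⟨n', rfl⟩ : ∃ n', a = n' + 1 := ⟨a - 1, by omega⟩
      have hn'odd : Odd n' := by
        rcases Nat.even_or_odd n' with h | h
        · exact absurd hae (Nat.not_even_iff_odd.2 h.add_one)
        · exact h
      rw [hμ]
      apply realSp_add (realSp_single h2 n' hn'odd)
      apply ih (Multiset.card (μ.erase (n' + 1))) _ (μ.erase (n' + 1)) _ _ rfl
      · have := Multiset.card_erase_add_one ha
        omega
      · intro b hb
        exact hpos b (Multiset.mem_of_mem_erase hb)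
      · intro f hf
        rw [Multiset.count_erase_of_ne]
        · exact hev f hf
        · rintro rfl
          exact (Nat.not_even_iff_odd.2 hf) hae
    · obtain ⟨e, he⟩ := Multiset.exists_mem_of_ne_zero h0
      have heo : Odd e := by
        by_contra hne
        exact heven ⟨e, he, Nat.not_odd_iff_even.1 hne⟩
      have hcnt : 2 ≤ μ.count e := by
        have h4 := hev e heo
        have h5 : 0 < μ.count e := Multiset.count_pos.2 he
        obtain ⟨r, hr⟩ := h4
        omega
      have hmem2 : e ∈ μ.erase e := by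
        rw [← Multiset.count_pos, Multiset.count_erase_self]
        omega
      have hμ : μ = ({e} + {e}) + (μ.erase e).erase e := by
        rw [Multiset.singleton_add, Multiset.cons_add, Multiset.singleton_add,
          Multiset.cons_erase hmem2, Multiset.cons_erase he]
      have hepos := hpos e he
      obtain ⟨n', rfl⟩ : ∃ n', e = n' + 1 := ⟨e - 1, by omega⟩
      rw [hμ]
      apply realSp_add (realSp_pair h2 n')
      apply ih (Multiset.card ((μ.erase (n' + 1)).erase (n' + 1))) _ _ _ _ rfl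
      · have h6 := Multiset.card_erase_add_one he
        have h7 := Multiset.card_erase_add_one hmem2
        omega
      · intro b hb
        exact hpos b (Multiset.mem_of_mem_erase (Multiset.mem_of_mem_erase hb))
      · exact count_erase_erase_odd μ (n' + 1) hev hcnt

end real

section sp
variable {F : Type u} [Field F] [Fintype F] {p : ℕ} [Fact p.Prime] [CharP F p]

/-- an abstract model without invariant nondegenerate `m`-spaces gives a derangement -/
theorem exists_not_fixND_of_model {W : Type*} [AddCommGroup W] [Module F W]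
    [FiniteDimensional F W] {d : ℕ}
    (B : LinearMap.BilinForm F W) (hB : B.IsAlt) (hnd : ∀ x, (∀ y, B x y = 0) → x = 0)
    (hdim : finrank F W = 2 * d) (T : W →ₗ[F] W)
    (hpres : ∀ x y, B (T x) (T y) = B x y) (r : ℕ) (hT : T ^ r = 1) (m : ℕ)
    (hno : ¬ FixND B T m) :
    ∃ x : Matrix.symplecticGroup (Fin d) F, x ^ r = 1 ∧
      ¬ FixND (sympBilin d F)
        (Matrix.toLin' (x : Matrix (Fin d ⊕ Fin d) (Fin d ⊕ Fin d) F)) m := by
  obtain ⟨x, e, hxr, hform, hint⟩ := exists_sp_isom B hB hnd hdim T hpres r hT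
  refine ⟨x, hxr, ?_⟩
  rintro ⟨Z, hZfr, hZnd, hZmap⟩
  apply hno
  refine ⟨Z.comap e.toLinearMap, ?_, ?_, ?_⟩
  · rw [← hZfr]
    have h1 : Z.comap e.toLinearMap = Z.map e.symm.toLinearMap :=
      Submodule.comap_equiv_eq_map_symm e Z
    rw [h1]
    exact LinearEquiv.finrank_map_eq e.symm Z
  · intro u hu hu0
    rw [Submodule.mem_comap] at hu
    have hne : e u ≠ 0 := by
      intro h0
      exact hu0 (e.map_eq_zero_iff.1 h0)
    obtain ⟨v', hv', hne'⟩ := hZnd (e u) hu hne
    refine ⟨e.symm v', ?_, ?_⟩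
    · rw [Submodule.mem_comap]
      show e (e.symm v') ∈ Z
      rw [LinearEquiv.apply_symm_apply]
      exact hv'
    · rw [← hform, LinearEquiv.apply_symm_apply]
      exact hne'
  · rintro _ ⟨v, hv, rfl⟩
    have hv' : e v ∈ Z := hv
    rw [Submodule.mem_comap]
    show e (T v) ∈ Z
    rw [← hint]
    exact hZmap (Submodule.mem_map_of_mem hv')

/-- PK-UNEC: unipotent derangements in odd characteristic -/
theorem exists_unipotent_not_fixND (hp2 : p ≠ 2) (d m : ℕ) (μ : Multiset ℕ)
    (hμ1 : ∀ a ∈ μ, 0 < a ∧ a ≤ p) (hμ2 : ∀ a : ℕ, Odd a → Even (μ.count a))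
    (hsum : μ.sum = 2 * d)
    (hno : ¬ ∃ ν ≤ μ, ν.sum = m ∧ ∀ a : ℕ, Odd a → Even (ν.count a)) :
    ∃ x : Matrix.symplecticGroup (Fin d) F, x ^ p = 1 ∧
      ¬ FixND (sympBilin d F)
        (Matrix.toLin' (x : Matrix (Fin d ⊕ Fin d) (Fin d ⊕ Fin d) F)) m := by
  have h2 : (2 : F) ≠ 0 := by
    intro h
    have h3 : ((2 : ℕ) : F) = 0 := by exact_mod_cast h
    rw [CharP.cast_eq_zero_iff F p] at h3
    have hp : p.Prime := Fact.out
    exact hp2 ((Nat.prime_dvd_prime_iff_eq hp Nat.prime_two).1 h3)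
  obtain ⟨W, _, _, _, B, T, hB, hnd, hdim, hiso, hjt⟩ :=
    realSp_of (F := F) h2 μ (fun a ha => (hμ1 a ha).1) hμ2
  have hnp : (T - 1 : Module.End F W) ^ p = 0 :=
    hjt.pow_eq_zero hdim.symm (fun a ha => (hμ1 a ha).2)
  have hTp : T ^ p = 1 := by
    have h1 := sub_one_pow_char p T
    rw [hnp] at h1
    exact (sub_eq_zero.1 h1.symm)
  have hnil : IsNilpotent (T - 1 : Module.End F W) := ⟨p, hnp⟩
  apply exists_not_fixND_of_model B hB hnd (hdim.trans hsum) T hiso p hTp m
  intro hfix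
  exact hno (exists_sub_of_fixND h2 B hB hnd T hiso hnil hjt m hfix)

end sp

end Cfsg.Agent.Lib.Helper1.NDSp
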