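import Mathlib
import Cfsg.Agent.Lib.Helper1.NDSp6
import Cfsg.Agent.Lib.Helper1.NDSp1
import Cfsg.Agent.Lib.Helper9.NDSp_R2
import Cfsg.Agent.Lib.Helper9.NDSp_CH2
import Cfsg.Agent.Lib.Lead.NDSp_CNT2

set_option autoImplicit false
set_option linter.unusedSectionVars false

/-!
# S5956: the positive directions inside the symplectic group, for `r = p` and `r = 2`
-/

namespace Cfsg.Agent.Lib.Helper1.NDSp

open Module Polynomial Cfsg.Agent.H9SemiInv Cfsg.Agent.Lib.Helper2.SpIsom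
  Cfsg.Agent.Lib.Helper1.SpBlk Cfsg.Agent.Lib.Helper1.TISp Cfsg.Agent.Lib.Helper5.UniO

universe u

section sp
variable {F : Type u} [Field F] [Fintype F] {p : ℕ} [Fact p.Prime] [CharP F p] {d : ℕ}

theorem nondeg_symp (d : ℕ) :
    ∀ x : Fin d ⊕ Fin d → F, (∀ y, sympBilin d F x y = 0) → x = 0 := by
  intro x hx
  apply sympForm_nondeg x
  intro y
  rw [← sympBilin_apply]
  exact hx y

theorem two_ne_zero_of_char (hp2 : p ≠ 2) : (2 : F) ≠ 0 := by
  intro h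
  have h3 : ((2 : ℕ) : F) = 0 := by exact_mod_cast h
  rw [CharP.cast_eq_zero_iff F p] at h3
  have hp : p.Prime := Fact.out
  exact hp2 ((Nat.prime_dvd_prime_iff_eq hp Nat.prime_two).1 h3)

theorem two_eq_zero_of_char (hp2 : p = 2) : (2 : F) = 0 := by
  have h3 : ((2 : ℕ) : F) = 0 := by
    rw [CharP.cast_eq_zero_iff F p, hp2]
  exact_mod_cast h3

/-- the positive direction for `r = p` odd -/
theorem fixND_of_unipotent_sp (hp2 : p ≠ 2) (hd : 1 ≤ d) (m : ℕ)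
    (hμ : ∀ μ : Multiset ℕ, (∀ a ∈ μ, 0 < a ∧ a ≤ p) → (∀ a : ℕ, Odd a → Even (μ.count a)) →
      μ.sum = 2 * d → ∃ ν : Multiset ℕ, ν ≤ μ ∧ ν.sum = m ∧ ∀ a : ℕ, Odd a → Even (ν.count a))
    (x : Matrix.symplecticGroup (Fin d) F)
    (hx : ∃ z : F, ((x ^ p : Matrix.symplecticGroup (Fin d) F) :
        Matrix (Fin d ⊕ Fin d) (Fin d ⊕ Fin d) F) = z • 1) :
    FixND (sympBilin d F) (Matrix.toLin' (x : Matrix (Fin d ⊕ Fin d) (Fin d ⊕ Fin d) F)) m := by
  have hpprime : p.Prime := Fact.out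
  have hodd : Odd p := hpprime.odd_of_ne_two hp2
  have h2 : (2 : F) ≠ 0 := two_ne_zero_of_char (p := p) hp2
  obtain ⟨z, hz⟩ := hx
  have hzz : z * z = 1 := scalar_sq_eq_one hd (x ^ p) z hz
  have hz0 : z ≠ 0 := by
    rintro rfl
    rw [mul_zero] at hzz
    exact zero_ne_one hzz
  set T := Matrix.toLin' (x : Matrix (Fin d ⊕ Fin d) (Fin d ⊕ Fin d) F) with hT
  have hTr : T ^ p = z • 1 := by
    rw [hT, ← Matrix.toLin'_pow, ← coe_pow_sp, hz, map_smul, Matrix.toLin'_one]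
    rfl
  set T' := z • T with hT'
  have hT'r : T' ^ p = 1 := by
    rw [hT', _root_.smul_pow, hTr, smul_smul, pow_eq_self_of_sq hzz hodd, hzz, one_smul]
  have hT'isom : ∀ u v, sympBilin d F (T' u) (T' v) = sympBilin d F u v := by
    intro u v
    rw [hT']
    simp only [LinearMap.smul_apply, map_smul, smul_eq_mul]
    rw [← mul_assoc, hzz, one_mul]
    exact toLin_isom x u v
  have hnp : (T' - 1 : Module.End F (Fin d ⊕ Fin d → F)) ^ p = 0 := by
    rw [sub_one_pow_char p T', hT'r, sub_self]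
  have hnil : IsNilpotent (T' - 1 : Module.End F (Fin d ⊕ Fin d → F)) := ⟨p, hnp⟩
  obtain ⟨μ, hjt⟩ := exists_hasJT (T' - 1 : Module.End F (Fin d ⊕ Fin d → F)) hnil
  have hle := hjt.le_of_pow_eq_zero hnp
  have hev := HasJT.even_count_of_alt_isometry h2 (sympBilin d F) sympBilin_isAlt (nondeg_symp d)
    T' hT'isom hnil hjt
  have hsum : μ.sum = 2 * d := by
    rw [hjt.sum_eq hnil, finrank_std]
  obtain ⟨ν, hν, hνs, hν2⟩ := hμ μ (fun a ha => ⟨hjt.1 a ha, hle a ha⟩) hev hsum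
  have hfix : FixND (sympBilin d F) T' m :=
    fixND_of_unipotent h2 (sympBilin d F) sympBilin_isAlt (nondeg_symp d) T' hT'isom hnil hjt m ν
      hν hνs hν2
  obtain ⟨W, hWfr, hWnd, hWinv⟩ := hfix
  refine ⟨W, hWfr, hWnd, ?_⟩
  have h3 : T = z • T' := by rw [hT', smul_smul, hzz, one_smul]
  rw [h3, Submodule.map_smul _ _ z hz0]
  exact hWinv

/-- the positive direction for `r = p = 2` -/
theorem fixND_of_involution_sp (hp2 : p = 2) (hd : 1 ≤ d) (m : ℕ) (hme : Even m)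
    (hmd : m ≤ 2 * d) (hcond : (2 * d) % 4 = 2 ∨ m % 4 = 0)
    (x : Matrix.symplecticGroup (Fin d) F)
    (hx : ∃ z : F, ((x ^ 2 : Matrix.symplecticGroup (Fin d) F) :
        Matrix (Fin d ⊕ Fin d) (Fin d ⊕ Fin d) F) = z • 1) :
    FixND (sympBilin d F) (Matrix.toLin' (x : Matrix (Fin d ⊕ Fin d) (Fin d ⊕ Fin d) F)) m := by
  have h2 : (2 : F) = 0 := two_eq_zero_of_char (p := p) hp2
  obtain ⟨z, hz⟩ := hx
  have hzz : z * z = 1 := scalar_sq_eq_one hd (x ^ 2) z hz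
  have hz1 : z = 1 := by
    have h3 : (z + 1) * (z + 1) = 0 := by
      have : (z + 1) * (z + 1) = z * z + 2 * z + 1 := by ring
      rw [this, hzz, h2, zero_mul, add_zero]
      have : (1 : F) + 1 = 2 := by norm_num
      rw [this, h2]
    have h4 : z + 1 = 0 := by
      rcases mul_eq_zero.1 h3 with h | h <;> exact h
    have h5 : (1 : F) + 1 = 0 := by
      have : (1 : F) + 1 = 2 := by norm_num
      rw [this, h2]
    have h6 : z = -1 := eq_neg_of_add_eq_zero_left h4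
    rw [h6]
    exact (eq_neg_of_add_eq_zero_left h5).symm
  have hT2 : (Matrix.toLin' (x : Matrix (Fin d ⊕ Fin d) (Fin d ⊕ Fin d) F)) ^ 2 = 1 := by
    rw [← Matrix.toLin'_pow, ← coe_pow_sp, hz, hz1, one_smul, Matrix.toLin'_one]
    rfl
  apply fixND_of_sq_eq_one_char_two h2 (sympBilin d F) sympBilin_isAlt (nondeg_symp d)
    (Matrix.toLin' (x : Matrix (Fin d ⊕ Fin d) (Fin d ⊕ Fin d) F)) (toLin_isom x) hT2 m hme
  · rw [finrank_std]
    exact hmd
  · rw [finrank_std]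
    exact hcond

/-- the positive direction for `r = 2 ≠ p` -/
theorem fixND_of_sq_sp (hp2 : p ≠ 2) (m : ℕ) (hme : Even m) (hmd : m ≤ 2 * d)
    (x : Matrix.symplecticGroup (Fin d) F)
    (hx : ∃ z : F, ((x ^ 2 : Matrix.symplecticGroup (Fin d) F) :
        Matrix (Fin d ⊕ Fin d) (Fin d ⊕ Fin d) F) = z • 1) :
    FixND (sympBilin d F) (Matrix.toLin' (x : Matrix (Fin d ⊕ Fin d) (Fin d ⊕ Fin d) F)) m := by
  have h2 : (2 : F) ≠ 0 := two_ne_zero_of_char (p := p) hp2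
  obtain ⟨z, hz⟩ := hx
  have hT2 : (Matrix.toLin' (x : Matrix (Fin d ⊕ Fin d) (Fin d ⊕ Fin d) F)) ^ 2 = z • 1 := by
    rw [← Matrix.toLin'_pow, ← coe_pow_sp, hz, map_smul, Matrix.toLin'_one]
    rfl
  apply fixND_of_sq_eq_smul h2 (sympBilin d F) sympBilin_isAlt (nondeg_symp d)
    (Matrix.toLin' (x : Matrix (Fin d ⊕ Fin d) (Fin d ⊕ Fin d) F)) (toLin_isom x) z hT2 m hme
  rw [finrank_std]
  exact hmd

end sp

end Cfsg.Agent.Lib.Helper1.NDSp
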