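import Mathlib
import Cfsg.Agent.Lib.Helper1.NDSp5
import Cfsg.Agent.Lib.Helper2.HermFrames

set_option autoImplicit false
set_option linter.unusedSectionVars false

/-!
# S5954: unipotent isometries of Hermitian spaces; nondegenerate invariant subspaces
-/

namespace Cfsg.Agent.Lib.Helper1.NDU

open Module Cfsg.Agent.H9SemiInv Cfsg.Agent.Lib.Helper5.PSLCoset Cfsg.Agent.Lib.Helper5.UniO
  Cfsg.Agent.Lib.Helper2.HermDecomp Cfsg.Agent.Lib.Helper2.HermFrames Cfsg.Agent.Lib.Helper1.NDSp

section basic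
variable {F V : Type*} [Field F] [AddCommGroup V] [Module F V] {σ : F ≃+* F} {H : V → V → F}

/-- nondegenerate subspaces of a sesquilinear space -/
def NdH (H : V → V → F) (W : Submodule F V) : Prop :=
  ∀ u ∈ W, (∀ v ∈ W, H u v = 0) → u = 0

theorem ndH_bot : NdH H (⊥ : Submodule F V) := fun _ hu _ => (Submodule.mem_bot F).1 hu

theorem ndH_iff (H : V → V → F) (W : Submodule F V) :
    (∀ u ∈ W, u ≠ 0 → ∃ v ∈ W, H u v ≠ 0) ↔ NdH H W := by
  constructor
  · intro h u hu hu'
    by_contra h0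
    obtain ⟨v, hv, hne⟩ := h u hu h0
    exact hne (hu' v hv)
  · intro h u hu h0
    by_contra hcon
    push Not at hcon
    exact h0 (h u hu hcon)

theorem swap_zero (h : IsHerm σ H) {x y : V} (hxy : H x y = 0) : H y x = 0 := by
  rw [h.symm x y, hxy, map_zero]

theorem swap_ne (h : IsHerm σ H) {x y : V} (hxy : H x y ≠ 0) : H y x ≠ 0 :=
  fun h0 => hxy (swap_zero h h0)

theorem NdH.disjoint (h : IsHerm σ H) {W : Submodule F V} (hW : NdH H W) :
    Disjoint W (orthoCompl h W) := by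
  rw [Submodule.disjoint_def]
  intro x hx hx'
  apply hW x hx
  intro v hv
  exact swap_zero h (hx' v hv)

theorem NdH.sup (h : IsHerm σ H) {N₁ N₂ : Submodule F V} (h₁ : NdH H N₁) (h₂ : NdH H N₂)
    (horth : N₂ ≤ orthoCompl h N₁) : NdH H (N₁ ⊔ N₂) := by
  intro w hw hw'
  obtain ⟨n₁, hn₁, n₂, hn₂, rfl⟩ := Submodule.mem_sup.1 hw
  have e1 : n₁ = 0 := by
    apply h₁ n₁ hn₁
    intro v hv
    have := hw' v (Submodule.mem_sup_left hv)
    rw [h.add_left, swap_zero h (horth hn₂ v hv), add_zero] at this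
    exact this
  have e2 : n₂ = 0 := by
    apply h₂ n₂ hn₂
    intro v hv
    have := hw' v (Submodule.mem_sup_right hv)
    rw [h.add_left, horth hv n₁ hn₁, zero_add] at this
    exact this
  rw [e1, e2, add_zero]

theorem injective_of_isometryH (h : IsHerm σ H) (hnd : ∀ v, (∀ w, H v w = 0) → v = 0)
    (T : V →ₗ[F] V) (hT : ∀ u v, H (T u) (T v) = H u v) : Function.Injective T := by
  rw [← LinearMap.ker_eq_bot, LinearMap.ker_eq_bot']
  intro v hv
  apply hnd
  intro w
  rw [← hT, hv, h.zero_left]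

variable [FiniteDimensional F V]

theorem inv_orthoCompl_of_injective (h : IsHerm σ H) {T : V →ₗ[F] V}
    (hT : ∀ u v, H (T u) (T v) = H u v)
    (hinj : Function.Injective T) {Z : Submodule F V} (hZ : Inv T Z) :
    Inv T (orthoCompl h Z) := by
  have hmap : Z.map T = Z := by
    apply Submodule.eq_of_le_of_finrank_eq ((inv_iff T Z).1 hZ)
    exact (Submodule.equivMapOfInjective T hinj Z).finrank_eq.symm
  intro v hv z hz
  rw [← hmap] at hz
  obtain ⟨z', hz', rfl⟩ := hz
  rw [hT]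
  exact hv z' hz'

variable [Finite F]

theorem NdH.isCompl (hσ : orderOf σ = 2) (h : IsHerm σ H)
    (hnd : ∀ v, (∀ w, H v w = 0) → v = 0) {W : Submodule F V} (hW : NdH H W) :
    IsCompl W (orthoCompl h W) :=
  ⟨hW.disjoint h, codisjoint_iff.2
    (Submodule.eq_top_of_disjoint W (orthoCompl h W) (finrank_orthoCompl hσ h hnd W).ge
      (hW.disjoint h))⟩

theorem NdH.sup_inf_orthoCompl (hσ : orderOf σ = 2) (h : IsHerm σ H)
    (hnd : ∀ v, (∀ w, H v w = 0) → v = 0) {M N : Submodule F V} (hN : NdH H N) (hNM : N ≤ M) :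
    N ⊔ (M ⊓ orthoCompl h N) = M := by
  have hc := hN.isCompl hσ h hnd
  have h1 : (N ⊔ orthoCompl h N) ⊓ M = N ⊔ (orthoCompl h N ⊓ M) := sup_inf_assoc_of_le _ hNM
  rw [hc.sup_eq_top, top_inf_eq] at h1
  rw [inf_comm, ← h1]

theorem NdH.disjoint_inf_orthoCompl (h : IsHerm σ H) {N : Submodule F V} (M : Submodule F V)
    (hN : NdH H N) : Disjoint N (M ⊓ orthoCompl h N) :=
  (hN.disjoint h).mono_right inf_le_right

theorem NdH.finrank_inf_orthoCompl_self (hσ : orderOf σ = 2) (h : IsHerm σ H)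
    (hnd : ∀ v, (∀ w, H v w = 0) → v = 0) {M N : Submodule F V} (hN : NdH H N) (hNM : N ≤ M) :
    finrank F N + finrank F ↥(M ⊓ orthoCompl h N) = finrank F M := by
  rw [← finrank_sup_of_disjoint (hN.disjoint_inf_orthoCompl h M),
    hN.sup_inf_orthoCompl hσ h hnd hNM]

theorem NdH.inf_orthoCompl (hσ : orderOf σ = 2) (h : IsHerm σ H)
    (hnd : ∀ v, (∀ w, H v w = 0) → v = 0) {M N : Submodule F V} (hM : NdH H M) (hN : NdH H N)
    (hNM : N ≤ M) : NdH H (M ⊓ orthoCompl h N) := by
  intro u hu hu'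
  apply hM u hu.1
  intro w hw
  have hw' : w ∈ N ⊔ (M ⊓ orthoCompl h N) := by
    rw [hN.sup_inf_orthoCompl hσ h hnd hNM]
    exact hw
  obtain ⟨n, hn, m', hm', rfl⟩ := Submodule.mem_sup.1 hw'
  rw [h.add_right, hu' m' hm', add_zero]
  exact swap_zero h (hu.2 n hn)

end basic

section gram
variable {F V : Type*} [Field F] [AddCommGroup V] [Module F V] {σ : F ≃+* F} {H : V → V → F}
  {T : V →ₗ[F] V}

theorem adj_oneH (h : IsHerm σ H) (hT : ∀ u v, H (T u) (T v) = H u v) (u w : V) :
    H ((T - 1 : Module.End F V) u) w = - H (T u) ((T - 1 : Module.End F V) w) := by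
  simp only [LinearMap.sub_apply, Module.End.one_apply]
  rw [h.sub_left, h.sub_right, hT]
  ring

theorem adj_powH (h : IsHerm σ H) (hT : ∀ u v, H (T u) (T v) = H u v) (j : ℕ) (u z : V) :
    H (((T - 1 : Module.End F V) ^ j) u) z =
      (-1) ^ j * H ((T ^ j) u) (((T - 1 : Module.End F V) ^ j) z) := by
  induction j generalizing u z with
  | zero => simp
  | succ j ih =>
    have e1 : ((T - 1 : Module.End F V) ^ (j + 1)) u =
        (T - 1 : Module.End F V) (((T - 1 : Module.End F V) ^ j) u) := by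
      rw [pow_succ', Module.End.mul_apply]
    have e2 : T (((T - 1 : Module.End F V) ^ j) u) = ((T - 1 : Module.End F V) ^ j) (T u) := by
      have h0 := ((commute_sub_one T).pow_left j).eq
      have h' := congrArg (fun f : Module.End F V => f u) h0
      simpa [Module.End.mul_apply] using h'.symm
    have e3 : ((T - 1 : Module.End F V) ^ (j + 1)) z =
        ((T - 1 : Module.End F V) ^ j) ((T - 1 : Module.End F V) z) := by
      rw [pow_succ, Module.End.mul_apply]
    have e4 : (T ^ (j + 1)) u = (T ^ j) (T u) := by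
      rw [pow_succ, Module.End.mul_apply]
    rw [e1, adj_oneH h hT, e2, ih, e3, e4, pow_succ]
    ring

theorem gram_zeroH (h : IsHerm σ H) (hT : ∀ u v, H (T u) (T v) = H u v) (x y : V) {a j k : ℕ}
    (hy : ((T - 1 : Module.End F V) ^ a) y = 0) (hle : a ≤ j + k) :
    H (((T - 1 : Module.End F V) ^ j) x) (((T - 1 : Module.End F V) ^ k) y) = 0 := by
  rw [adj_powH h hT, ← Module.End.mul_apply, ← pow_add, pow_add_apply_eq_zero _ hy hle,
    h.zero_right, mul_zero]

theorem gram_antiH (h : IsHerm σ H) (hT : ∀ u v, H (T u) (T v) = H u v) (x y : V) {a j k : ℕ}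
    (hy : ((T - 1 : Module.End F V) ^ a) y = 0) (hjk : j + k + 1 = a) :
    H (((T - 1 : Module.End F V) ^ j) x) (((T - 1 : Module.End F V) ^ k) y) =
      (-1) ^ j * H x (((T - 1 : Module.End F V) ^ (a - 1)) y) := by
  rw [adj_powH h hT, ← Module.End.mul_apply, ← pow_add, show j + k = a - 1 by omega]
  congr 1
  have h1 : (T ^ j) x = x + (T - 1 : Module.End F V) ((∑ i ∈ Finset.range j, T ^ i) x) := by
    rw [← pow_sub_one_apply]
    abel
  rw [h1, h.add_left, adj_oneH h hT, ← Module.End.mul_apply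
    (T - 1 : Module.End F V), ← pow_succ', show a - 1 + 1 = a by omega, hy, h.zero_right, neg_zero,
    add_zero]

end gram

end Cfsg.Agent.Lib.Helper1.NDU
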