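import Mathlib
import Cfsg.Agent.Lib.Helper1.NDU1

set_option autoImplicit false
set_option linter.unusedSectionVars false

/-!
# S5954: splitting off a nondegenerate Jordan block of a unipotent isometry of a Hermitian space
-/

namespace Cfsg.Agent.Lib.Helper1.NDU

open Module Cfsg.Agent.H9SemiInv Cfsg.Agent.Lib.Helper5.PSLCoset Cfsg.Agent.Lib.Helper5.UniO
  Cfsg.Agent.Lib.Helper2.HermDecomp Cfsg.Agent.Lib.Helper2.HermFrames Cfsg.Agent.Lib.Helper1.NDSp

section block
variable {F V : Type*} [Field F] [AddCommGroup V] [Module F V] [FiniteDimensional F V]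
  {σ : F ≃+* F} {H : V → V → F} {T : V →ₗ[F] V}

theorem sum_leftH (h : IsHerm σ H) {ι : Type*} (s : Finset ι) (f : ι → V) (w : V) :
    H (∑ i ∈ s, f i) w = ∑ i ∈ s, H (f i) w := by
  classical
  induction s using Finset.induction_on with
  | empty => simp [h.zero_left]
  | insert i s hi ih => rw [Finset.sum_insert hi, Finset.sum_insert hi, h.add_left, ih]

/-- the key computation: a combination of the vectors `N ^ j x` orthogonal to all of them
is trivial -/
theorem block_coreH (h : IsHerm σ H) (hT : ∀ u v, H (T u) (T v) = H u v)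
    (a : ℕ) (x : V) (hx : ((T - 1 : Module.End F V) ^ a) x = 0)
    (hg : H x (((T - 1 : Module.End F V) ^ (a - 1)) x) ≠ 0)
    (α : Fin a → F)
    (hα : ∀ k : ℕ, k < a →
      H (∑ i, α i • ((T - 1 : Module.End F V) ^ (i : ℕ)) x)
        (((T - 1 : Module.End F V) ^ k) x) = 0) : α = 0 := by
  have key : ∀ t : ℕ, ∀ ht : t < a, α ⟨t, ht⟩ = 0 := by
    intro t
    induction t using Nat.strong_induction_on with
    | _ t ih =>
      intro ht
      have h2 := hα (a - 1 - t) (by omega)
      rw [sum_leftH h] at h2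
      rw [Finset.sum_eq_single (⟨t, ht⟩ : Fin a)] at h2
      · rw [h.smul_left,
          gram_antiH h hT x x hx (show t + (a - 1 - t) + 1 = a by omega)] at h2
        rcases mul_eq_zero.1 h2 with h4 | h4
        · exact h4
        · rcases mul_eq_zero.1 h4 with h5 | h5
          · exact absurd h5 (pow_ne_zero _ (neg_ne_zero.2 one_ne_zero))
          · exact absurd h5 hg
      · intro j _ hj
        rcases lt_or_gt_of_ne (fun h0 : (j : ℕ) = t => hj (Fin.ext h0)) with hlt | hgt
        · rw [ih j hlt j.2, zero_smul, h.zero_left]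
        · rw [h.smul_left,
            gram_zeroH h hT x x hx (show a ≤ (j : ℕ) + (a - 1 - t) by omega), mul_zero]
      · intro h0
        exact absurd (Finset.mem_univ _) h0
  funext ⟨t, ht⟩
  exact key t ht

/-- the vectors `N ^ j x` are independent and span a nondegenerate invariant subspace -/
theorem block_ndH (h : IsHerm σ H) (hT : ∀ u v, H (T u) (T v) = H u v)
    (a : ℕ) (x : V) (hx : ((T - 1 : Module.End F V) ^ a) x = 0)
    (hg : H x (((T - 1 : Module.End F V) ^ (a - 1)) x) ≠ 0) :
    LinearIndependent F (fun i : Fin a => ((T - 1 : Module.End F V) ^ (i : ℕ)) x) ∧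
    NdH H (Submodule.span F (Set.range
      (fun i : Fin a => ((T - 1 : Module.End F V) ^ (i : ℕ)) x))) ∧
    Inv T (Submodule.span F (Set.range
      (fun i : Fin a => ((T - 1 : Module.End F V) ^ (i : ℕ)) x))) := by
  refine ⟨?_, ?_, ?_⟩
  · rw [Fintype.linearIndependent_iff]
    intro α hα i
    have h1 := block_coreH h hT a x hx hg α (fun k _ => by rw [hα, h.zero_left])
    rw [h1]
    rfl
  · intro z hz hz'
    obtain ⟨α, rfl⟩ := (Submodule.mem_span_range_iff_exists_fun F).1 hz
    have h1 := block_coreH h hT a x hx hg α (fun k hk => by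
      apply hz'
      apply Submodule.subset_span
      exact ⟨⟨k, hk⟩, rfl⟩)
    rw [h1]
    simp
  · have hN : ∀ v ∈ Submodule.span F (Set.range
        (fun i : Fin a => ((T - 1 : Module.End F V) ^ (i : ℕ)) x)),
        (T - 1 : Module.End F V) v ∈ Submodule.span F (Set.range
        (fun i : Fin a => ((T - 1 : Module.End F V) ^ (i : ℕ)) x)) := by
      intro v hv
      have h1 : Submodule.span F (Set.range
          (fun i : Fin a => ((T - 1 : Module.End F V) ^ (i : ℕ)) x)) ≤
          (Submodule.span F (Set.range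
          (fun i : Fin a => ((T - 1 : Module.End F V) ^ (i : ℕ)) x))).comap
            (T - 1 : Module.End F V) := by
        rw [Submodule.span_le]
        rintro _ ⟨⟨j, hj⟩, rfl⟩
        rw [SetLike.mem_coe, Submodule.mem_comap]
        show (T - 1 : Module.End F V) (((T - 1 : Module.End F V) ^ j) x) ∈ _
        rw [← Module.End.mul_apply, ← pow_succ']
        by_cases hj1 : j + 1 < a
        · apply Submodule.subset_span
          exact ⟨⟨j + 1, hj1⟩, rfl⟩
        · rw [show j + 1 = a by omega, hx]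
          exact Submodule.zero_mem _
      exact h1 hv
    intro v hv
    have h2 := hN v hv
    rw [LinearMap.sub_apply, Module.End.one_apply] at h2
    have h3 := Submodule.add_mem _ h2 hv
    rwa [sub_add_cancel] at h3

/-- splitting off one block -/
theorem exists_blockH (hσ : ∃ c : F, σ c ≠ c) (h : IsHerm σ H)
    (hT : ∀ u v, H (T u) (T v) = H u v)
    (hnil : IsNilpotent (T - 1 : Module.End F V)) {M : Submodule F V} (hMnd : NdH H M)
    (hMinv : Inv T M) (hne : M ≠ ⊥) :
    ∃ (Z : Submodule F V) (a : ℕ), Z ≤ M ∧ NdH H Z ∧ Inv T Z ∧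
      JTon (T - 1 : Module.End F V) Z {a} := by
  classical
  have hNM := inv_sub_one hMinv
  have hNMk : ∀ k : ℕ, ∀ v ∈ M, ((T - 1 : Module.End F V) ^ k) v ∈ M :=
    fun k v hv => Module.End.pow_apply_mem_of_forall_mem k hNM v hv
  have hex : ∃ a : ℕ, M ≤ LinearMap.ker ((T - 1 : Module.End F V) ^ a) := by
    obtain ⟨n, hn⟩ := hnil
    exact ⟨n, by rw [hn, LinearMap.ker_zero]; exact le_top⟩
  have ha := Nat.find_spec hex
  have hmin := fun k => Nat.find_min hex (m := k)
  set a := Nat.find hex with hadef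
  have ha1 : 1 ≤ a := by
    by_contra hcon
    have h0 : a = 0 := by omega
    rw [h0, pow_zero] at ha
    apply hne
    rw [eq_bot_iff]
    intro v hv
    have := ha hv
    rw [LinearMap.mem_ker, Module.End.one_apply] at this
    rw [this]
    exact Submodule.zero_mem _
  have hk' : ¬ M ≤ LinearMap.ker ((T - 1 : Module.End F V) ^ (a - 1)) := hmin (a - 1) (by omega)
  have hxa : ∀ v ∈ M, ((T - 1 : Module.End F V) ^ a) v = 0 := fun v hv => LinearMap.mem_ker.1 (ha hv)
  obtain ⟨w, hwM, hw⟩ := SetLike.not_le_iff_exists.1 hk'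
  rw [LinearMap.mem_ker] at hw
  -- a partner of `w`
  obtain ⟨u, huM, hu⟩ : ∃ u ∈ M, H u (((T - 1 : Module.End F V) ^ (a - 1)) w) ≠ 0 := by
    by_contra hcon
    push Not at hcon
    apply hw
    apply hMnd _ (hNMk (a - 1) w hwM)
    intro v hv
    exact swap_zero h (hcon v hv)
  -- the symmetry of `γ`
  have hsym : ∀ x y : V, y ∈ M →
      H y (((T - 1 : Module.End F V) ^ (a - 1)) x) =
        (-1) ^ (a - 1) * σ (H x (((T - 1 : Module.End F V) ^ (a - 1)) y)) := by
    intro x y hy
    have h1 := gram_antiH h hT x y (a := a) (j := a - 1) (k := 0) (hxa y hy) (by omega)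
    rw [pow_zero, Module.End.one_apply] at h1
    rw [h.symm (((T - 1 : Module.End F V) ^ (a - 1)) x) y, h1, map_mul, map_pow, map_neg, map_one]
  obtain ⟨v, hvM, hv⟩ : ∃ v ∈ M, H v (((T - 1 : Module.End F V) ^ (a - 1)) v) ≠ 0 := by
    by_contra hcon
    push Not at hcon
    obtain ⟨c, hc⟩ := hσ
    have key : ∀ c' : F, c' * H u (((T - 1 : Module.End F V) ^ (a - 1)) w) +
        (-1) ^ (a - 1) * (σ c' * σ (H u (((T - 1 : Module.End F V) ^ (a - 1)) w))) = 0 := by
      intro c'
      have h1 := hcon (c' • u + w) (M.add_mem (M.smul_mem c' huM) hwM)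
      have e1 := hcon (c' • u) (M.smul_mem c' huM)
      have e2 := hcon w hwM
      have e3 := hsym (c' • u) w hwM
      rw [map_add, h.add_left, h.add_right, h.add_right, e1, e2] at h1
      rw [h.smul_left, map_mul] at e3
      rw [e3, h.smul_left] at h1
      linear_combination h1
    have k1 := key 1
    have k2 := key c
    rw [map_one, one_mul, one_mul] at k1
    have h3 : (-1 : F) ^ (a - 1) * ((σ c - c) * σ (H u (((T - 1 : Module.End F V) ^ (a - 1)) w)))
        = 0 := by
      linear_combination k2 - c * k1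
    rcases mul_eq_zero.1 h3 with h4 | h4
    · exact absurd h4 (pow_ne_zero _ (neg_ne_zero.2 one_ne_zero))
    · rcases mul_eq_zero.1 h4 with h5 | h5
      · exact hc (sub_eq_zero.1 h5)
      · exact hu ((map_eq_zero_iff σ σ.injective).1 h5)
  obtain ⟨hli, hZnd, hZinv⟩ := block_ndH h hT a v (hxa v hvM) hv
  have hZM : Submodule.span F (Set.range
      (fun i : Fin a => ((T - 1 : Module.End F V) ^ (i : ℕ)) v)) ≤ M := by
    rw [Submodule.span_le]
    rintro _ ⟨i, rfl⟩
    exact hNMk _ v hvM
  refine ⟨_, a, hZM, hZnd, hZinv, ?_⟩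
  have hNZ := inv_sub_one hZinv
  obtain ⟨l, hl⟩ := exists_jtOn (M := Submodule.span F (Set.range
    (fun i : Fin a => ((T - 1 : Module.End F V) ^ (i : ℕ)) v))) hNZ hnil
  have hvZ : v ∈ Submodule.span F (Set.range
      (fun i : Fin a => ((T - 1 : Module.End F V) ^ (i : ℕ)) v)) := by
    apply Submodule.subset_span
    exact ⟨⟨0, by omega⟩, by simp⟩
  have hmem : a ∈ l := by
    apply hl.mem_of_not_le_ker hNZ hnil ha1 (hZM.trans ha)
    intro hle
    have h3 := LinearMap.mem_ker.1 (hle hvZ)
    rw [h3, h.zero_right] at hv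
    exact hv rfl
  have hsum : l.sum = a := by
    rw [hl.sum_eq hNZ hnil, finrank_span_eq_card hli, Fintype.card_fin]
  rw [← multiset_eq_singleton hl.1 hmem hsum]
  exact hl

end block

section dec
variable {F V : Type*} [Field F] [Finite F] [AddCommGroup V] [Module F V] [FiniteDimensional F V]
  {σ : F ≃+* F} {H : V → V → F} {T : V →ₗ[F] V}

theorem exists_ne_of_orderOf (hσ : orderOf σ = 2) : ∃ c : F, σ c ≠ c := by
  by_contra hcon
  push Not at hcon
  have h1 : σ = 1 := by
    ext c
    exact hcon c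
  rw [h1, orderOf_one] at hσ
  omega

/-- the induction: all sub-multisets of the Jordan type are realised by nondegenerate invariant
subspaces -/
theorem exists_ndH_of_sub (hσ : orderOf σ = 2) (h : IsHerm σ H)
    (hnd : ∀ v, (∀ w, H v w = 0) → v = 0) (hT : ∀ u v, H (T u) (T v) = H u v)
    (hnil : IsNilpotent (T - 1 : Module.End F V)) :
    ∀ n : ℕ, ∀ M : Submodule F V, NdH H M → Inv T M → finrank F M = n →
      ∀ μ : Multiset ℕ, JTon (T - 1 : Module.End F V) M μ → ∀ ν : Multiset ℕ, ν ≤ μ →
        ∃ W : Submodule F V, W ≤ M ∧ NdH H W ∧ Inv T W ∧ finrank F W = ν.sum := by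
  have hinj := injective_of_isometryH h hnd T hT
  intro n
  induction n using Nat.strong_induction_on with
  | _ n ih =>
    intro M hMnd hMinv hMfr μ hμ ν hνμ
    have hNM := inv_sub_one hMinv
    by_cases hne : M = ⊥
    · have h1 : μ.sum = 0 := by rw [hμ.sum_eq hNM hnil, hne, finrank_bot]
      have h3 : ν.sum = 0 := by
        obtain ⟨ρ, hρ⟩ := Multiset.le_iff_exists_add.1 hνμ
        have h4 : μ.sum = ν.sum + ρ.sum := by rw [hρ, Multiset.sum_add]
        omega
      refine ⟨⊥, bot_le, ndH_bot, ?_, ?_⟩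
      · intro x hx
        rw [(Submodule.mem_bot F).1 hx, map_zero]
        exact Submodule.zero_mem _
      · rw [finrank_bot, h3]
    · obtain ⟨Z, a, hZM, hZnd, hZinv, hl⟩ :=
        exists_blockH (exists_ne_of_orderOf hσ) h hT hnil hMnd hMinv hne
      have hNZ := inv_sub_one hZinv
      have hM'nd : NdH H (M ⊓ orthoCompl h Z) := hMnd.inf_orthoCompl hσ h hnd hZnd hZM
      have hM'inv : Inv T (M ⊓ orthoCompl h Z) :=
        hMinv.inf (inv_orthoCompl_of_injective h hT hinj hZinv)
      have hNM' := inv_sub_one hM'inv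
      have hdis : Disjoint Z (M ⊓ orthoCompl h Z) := hZnd.disjoint_inf_orthoCompl h M
      have hsup : Z ⊔ (M ⊓ orthoCompl h Z) = M := hZnd.sup_inf_orthoCompl hσ h hnd hZM
      have hfr := hZnd.finrank_inf_orthoCompl_self hσ h hnd hZM
      obtain ⟨μ', hμ'⟩ := exists_jtOn (M := M ⊓ orthoCompl h Z) hNM' hnil
      have ha0 : 0 < a := hl.1 a (Multiset.mem_singleton_self a)
      have hZfr : finrank F Z = a := by
        rw [← hl.sum_eq hNZ hnil, Multiset.sum_singleton]
      have hlt : finrank F ↥(M ⊓ orthoCompl h Z) < n := by omega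
      have hμeq : μ = {a} + μ' := by
        have h1 := JTon.add hNZ hNM' hdis hl hμ'
        rw [hsup] at h1
        exact hμ.unique h1
      by_cases hc : ν.count a ≤ μ'.count a
      · have hle : ν ≤ μ' := by
          apply ms_le_of_count_le (l := {a}) (hμeq ▸ hνμ) _ hc
          intro b hb
          rw [Multiset.count_singleton, if_neg hb]
        obtain ⟨W, hWM', hWnd, hWinv, hWfr⟩ :=
          ih _ hlt (M ⊓ orthoCompl h Z) hM'nd hM'inv rfl μ' hμ' ν hle
        exact ⟨W, hWM'.trans inf_le_left, hWnd, hWinv, hWfr⟩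
      · push Not at hc
        have hmem : a ∈ ν := Multiset.count_pos.1 (by omega)
        have hle : ν.erase a ≤ μ' := by
          rw [Multiset.le_iff_count]
          intro b
          have h1 := Multiset.le_iff_count.1 hνμ b
          rw [hμeq, Multiset.count_add, Multiset.count_singleton] at h1
          by_cases hb : b = a
          · rw [hb, Multiset.count_erase_self]
            rw [hb, if_pos rfl] at h1
            omega
          · rw [Multiset.count_erase_of_ne hb]
            rw [if_neg hb, zero_add] at h1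
            exact h1
        obtain ⟨W, hWM', hWnd, hWinv, hWfr⟩ :=
          ih _ hlt (M ⊓ orthoCompl h Z) hM'nd hM'inv rfl μ' hμ' (ν.erase a) hle
        refine ⟨Z ⊔ W, sup_le hZM (hWM'.trans inf_le_left),
          hZnd.sup h hWnd (hWM'.trans inf_le_right), hZinv.sup hWinv, ?_⟩
        rw [finrank_sup_of_disjoint (hdis.mono_right hWM'), hZfr, hWfr]
        have h5 : ν = a ::ₘ ν.erase a := (Multiset.cons_erase hmem).symm
        conv_rhs => rw [h5, Multiset.sum_cons]

/-- **UDEC-H**: a unipotent isometry of a Hermitian space fixes nondegenerate subspaces of all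
the dimensions given by the sub-multisets of its Jordan type -/
theorem fixNDH_of_unipotent (hσ : orderOf σ = 2) (h : IsHerm σ H)
    (hnd : ∀ v, (∀ w, H v w = 0) → v = 0) (T : V →ₗ[F] V)
    (hT : ∀ u v, H (T u) (T v) = H u v) (hnil : IsNilpotent (T - 1 : Module.End F V))
    {μ : Multiset ℕ} (hμ : HasJT (T - 1 : Module.End F V) μ) (m : ℕ) (ν : Multiset ℕ)
    (hν : ν ≤ μ) (hsum : ν.sum = m) :
    ∃ W : Submodule F V, finrank F W = m ∧ (∀ u ∈ W, u ≠ 0 → ∃ v ∈ W, H u v ≠ 0) ∧
      W.map T ≤ W := by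
  have hndtop : NdH H (⊤ : Submodule F V) := fun u _ hu => hnd u (fun y => hu y Submodule.mem_top)
  obtain ⟨W, -, hWnd, hWinv, hWfr⟩ := exists_ndH_of_sub hσ h hnd hT hnil _ ⊤ hndtop
    (fun _ _ => Submodule.mem_top) rfl μ (jtOn_top.2 hμ) ν hν
  exact ⟨W, by rw [hWfr, hsum], (ndH_iff H W).2 hWnd, (inv_iff T W).1 hWinv⟩

/-- the converse: an invariant nondegenerate subspace gives a sub-multiset of the Jordan type -/
theorem exists_sub_of_fixNDH (hσ : orderOf σ = 2) (h : IsHerm σ H)
    (hnd : ∀ v, (∀ w, H v w = 0) → v = 0) (T : V →ₗ[F] V)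
    (hT : ∀ u v, H (T u) (T v) = H u v) (hnil : IsNilpotent (T - 1 : Module.End F V))
    {μ : Multiset ℕ} (hμ : HasJT (T - 1 : Module.End F V) μ) (m : ℕ)
    (hfix : ∃ W : Submodule F V, finrank F W = m ∧ (∀ u ∈ W, u ≠ 0 → ∃ v ∈ W, H u v ≠ 0) ∧
      W.map T ≤ W) : ∃ ν ≤ μ, ν.sum = m := by
  obtain ⟨W, hWfr, hWnd', hWinv'⟩ := hfix
  have hWnd : NdH H W := (ndH_iff H W).1 hWnd'
  have hWinv : Inv T W := (inv_iff T W).2 hWinv'
  have hinj := injective_of_isometryH h hnd T hT
  have hW'inv : Inv T (⊤ ⊓ orthoCompl h W) :=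
    Inv.inf (fun _ _ => Submodule.mem_top) (inv_orthoCompl_of_injective h hT hinj hWinv)
  have hNW := inv_sub_one hWinv
  have hNW' := inv_sub_one hW'inv
  obtain ⟨ν, hν⟩ := exists_jtOn hNW hnil
  obtain ⟨ν', hν'⟩ := exists_jtOn hNW' hnil
  have hadd := JTon.add hNW hNW' (hWnd.disjoint_inf_orthoCompl h ⊤) hν hν'
  rw [hWnd.sup_inf_orthoCompl hσ h hnd le_top] at hadd
  have hμeq : μ = ν + ν' := (jtOn_top.2 hμ).unique hadd
  refine ⟨ν, ?_, ?_⟩
  · rw [hμeq]
    exact Multiset.le_add_right _ _
  · rw [hν.sum_eq hNW hnil, hWfr]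

end dec

end Cfsg.Agent.Lib.Helper1.NDU
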