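import Mathlib
import Cfsg.Agent.Lib.Helper1.NDU2
import Cfsg.Agent.Lib.Helper1.NDSp6

set_option autoImplicit false
set_option linter.unusedSectionVars false

/-!
# S5954: realisation of every partition by a unipotent isometry of a Hermitian space
(any characteristic, generalised Cayley transform of shift blocks)
-/

namespace Cfsg.Agent.Lib.Helper1.NDU

open Module Cfsg.Agent.H9SemiInv Cfsg.Agent.Lib.Helper5.PSLCoset Cfsg.Agent.Lib.Helper5.UniO
  Cfsg.Agent.Lib.Helper2.HermDecomp Cfsg.Agent.Lib.Helper2.HermFrames Cfsg.Agent.Lib.Helper1.NDSp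

universe u

section cayley
variable {F V : Type*} [Field F] [AddCommGroup V] [Module F V] {σ : F ≃+* F} {H : V → V → F}

/-- The (generalised) Cayley transform of a nilpotent skew-adjoint endomorphism of a Hermitian
space: `(1 + a N) (1 - σ a N)⁻¹`, any characteristic. -/
theorem exists_cayleyH (h : IsHerm σ H) (a : F) (ha : a + σ a ≠ 0) (hσ2 : ∀ c : F, σ (σ c) = c)
    (N : Module.End F V) (hN : IsNilpotent N) (hskew : ∀ u v, H (N u) v = - H u (N v)) :
    ∃ x : V ≃ₗ[F] V, (∀ u v, H (x u) (x v) = H u v) ∧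
      ∀ k, LinearMap.ker ((x.toLinearMap - 1 : Module.End F V) ^ k) = LinearMap.ker (N ^ k) := by
  have hA : IsNilpotent (a • N) := hN.smul a
  have hB : IsNilpotent (σ a • N) := hN.smul (σ a)
  let ua : (Module.End F V)ˣ := hB.isUnit_one_sub.unit
  let ub : (Module.End F V)ˣ := hA.isUnit_one_add.unit
  have hua : (ua : Module.End F V) = 1 - σ a • N := rfl
  have hub : (ub : Module.End F V) = 1 + a • N := rfl
  let y : (Module.End F V)ˣ := ub * ua⁻¹
  let x : V ≃ₗ[F] V := LinearMap.GeneralLinearGroup.toLinearEquiv y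
  have hxv : ∀ v, x v = (ub : Module.End F V) (((ua⁻¹ : (Module.End F V)ˣ) : Module.End F V) v) :=
    fun v => rfl
  have haa : ∀ v, (ua : Module.End F V) (((ua⁻¹ : (Module.End F V)ˣ) : Module.End F V) v) = v := by
    intro v
    rw [← Module.End.mul_apply, ← Units.val_mul, mul_inv_cancel, Units.val_one,
      Module.End.one_apply]
  refine ⟨x, ?_, ?_⟩
  · intro u v
    set u' := ((ua⁻¹ : (Module.End F V)ˣ) : Module.End F V) u with hu'
    set v' := ((ua⁻¹ : (Module.End F V)ˣ) : Module.End F V) v with hv'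
    have hu : u = u' - σ a • N u' := by
      have := haa u
      rw [hua, LinearMap.sub_apply, Module.End.one_apply, LinearMap.smul_apply] at this
      exact this.symm
    have hv : v = v' - σ a • N v' := by
      have := haa v
      rw [hua, LinearMap.sub_apply, Module.End.one_apply, LinearMap.smul_apply] at this
      exact this.symm
    rw [hxv, hxv, hub, LinearMap.add_apply, LinearMap.add_apply, Module.End.one_apply,
      Module.End.one_apply, LinearMap.smul_apply, LinearMap.smul_apply]
    conv_rhs => rw [hu, hv]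
    rw [h.add_left, h.add_right, h.add_right, h.sub_left, h.sub_right, h.sub_right,
      h.smul_left, h.smul_left, h.smul_right, h.smul_right, h.smul_left, h.smul_left,
      h.smul_right, h.smul_right, hσ2, hskew u' v', hskew u' (N v')]
    ring
  · intro k
    have hcomm : Commute ((ua⁻¹ : (Module.End F V)ˣ) : Module.End F V) N := by
      have h1 : Commute (ua : Module.End F V) N := by
        rw [hua]
        exact (Commute.one_left N).sub_left ((Commute.refl N).smul_left (σ a))
      exact h1.units_inv_left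
    set c : Module.End F V := (a + σ a) • ((ua⁻¹ : (Module.End F V)ˣ) : Module.End F V) with hc
    have hcN : Commute c N := by
      rw [hc]
      exact hcomm.smul_left _
    have hx1 : (x.toLinearMap - 1 : Module.End F V) = c * N := by
      have h3 : (x.toLinearMap : Module.End F V)
          = (ub : Module.End F V) * ((ua⁻¹ : (Module.End F V)ˣ) : Module.End F V) := rfl
      have h4 : (1 : Module.End F V)
          = (ua : Module.End F V) * ((ua⁻¹ : (Module.End F V)ˣ) : Module.End F V) := by
        rw [← Units.val_mul, mul_inv_cancel, Units.val_one]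
      rw [h3]
      nth_rewrite 1 [h4]
      rw [← sub_mul, hua, hub, hc, smul_mul_assoc, hcomm.eq]
      have h5 : (1 + a • N - (1 - σ a • N) : Module.End F V) = (a + σ a) • N := by
        rw [add_smul]
        abel
      rw [h5, smul_mul_assoc]
    have hcinj : LinearMap.ker c = ⊥ := by
      rw [LinearMap.ker_eq_bot']
      intro v hv
      rw [hc, LinearMap.smul_apply] at hv
      rcases smul_eq_zero.1 hv with h' | h'
      · exact absurd h' ha
      · have := congrArg (ua : Module.End F V) h'
        rw [haa, map_zero] at this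
        exact this
    rw [hx1]
    exact ker_mul_pow_of_commute c N hcN hcinj k

theorem exists_trace_ne_zero (hσ : ∃ c : F, σ c ≠ c) : ∃ a : F, a + σ a ≠ 0 := by
  by_cases h2 : (2 : F) = 0
  · obtain ⟨c, hc⟩ := hσ
    refine ⟨c, ?_⟩
    intro h0
    apply hc
    have h1 : σ c = -c := eq_neg_of_add_eq_zero_right h0
    have h3 : c + c = 0 := by rw [← two_mul, h2, zero_mul]
    rw [h1]
    exact (eq_neg_of_add_eq_zero_left h3).symm
  · refine ⟨1, ?_⟩
    rw [map_one]
    intro h0
    apply h2
    rw [← h0]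
    norm_num

end cayley

section anti
variable {F : Type u} [Field F] (σ : F ≃+* F)

/-- the anti-diagonal sesquilinear form with alternating signs, scaled by `l` -/
def antiH (l : F) (n : ℕ) (u v : Fin (n + 1) → F) : F :=
  l * antiB F n u (fun i => σ (v i))

theorem map_antiB (n : ℕ) (u v : Fin (n + 1) → F) :
    σ (antiB F n u v) = antiB F n (fun i => σ (u i)) (fun i => σ (v i)) := by
  rw [antiB_apply, antiB_apply, map_sum]
  apply Finset.sum_congr rfl
  intro i _
  rw [map_mul, map_mul, map_pow, map_neg, map_one]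

theorem shift_comp (n : ℕ) (v : Fin (n + 1) → F) :
    (fun i => σ (shift F n v i)) = shift F n (fun i => σ (v i)) := by
  funext i
  refine Fin.cases ?_ (fun j => ?_) i
  · rw [shift_zero, shift_zero, map_zero]
  · rw [shift_succ, shift_succ]

variable {σ}

theorem isHerm_antiH (hσ2 : ∀ a : F, σ (σ a) = a) (n : ℕ) (l : F)
    (hl : σ l = (-1 : F) ^ n * l) : IsHerm σ (antiH σ l n) where
  add_left := by
    intro u v w
    unfold antiH
    rw [map_add, LinearMap.add_apply, mul_add]
  smul_left := by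
    intro a v w
    unfold antiH
    rw [map_smul, LinearMap.smul_apply, smul_eq_mul]
    ring
  symm := by
    intro v w
    unfold antiH
    rw [map_mul, map_antiB, hl]
    have h1 : (fun i => σ ((fun i => σ (w i)) i)) = w := by
      funext i
      exact hσ2 (w i)
    rw [h1, antiB_flip n (fun i => σ (v i)) w]
    ring

theorem antiH_nondeg (hσ2 : ∀ a : F, σ (σ a) = a) (n : ℕ) (l : F) (hl0 : l ≠ 0)
    (u : Fin (n + 1) → F) (hu : ∀ v, antiH σ l n u v = 0) : u = 0 := by
  apply antiB_left_zero n
  intro v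
  have h1 := hu (fun i => σ (v i))
  unfold antiH at h1
  have h2 : (fun i => σ ((fun i => σ (v i)) i)) = v := by
    funext i
    exact hσ2 (v i)
  rw [h2] at h1
  rcases mul_eq_zero.1 h1 with h | h
  · exact absurd h hl0
  · exact h

theorem antiH_skew (n : ℕ) (l : F) (u v : Fin (n + 1) → F) :
    antiH σ l n (shift F n u) v = - antiH σ l n u (shift F n v) := by
  unfold antiH
  rw [antiB_skew, shift_comp]
  ring

theorem exists_scalar (hσ : ∃ c : F, σ c ≠ c) (hσ2 : ∀ a : F, σ (σ a) = a) (n : ℕ) :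
    ∃ l : F, l ≠ 0 ∧ σ l = (-1 : F) ^ n * l := by
  rcases Nat.even_or_odd n with hn | hn
  · exact ⟨1, one_ne_zero, by rw [hn.neg_one_pow, map_one, one_mul]⟩
  · obtain ⟨c, hc⟩ := hσ
    refine ⟨c - σ c, ?_, ?_⟩
    · intro h0
      exact hc (sub_eq_zero.1 h0).symm
    · rw [hn.neg_one_pow, map_sub, hσ2]
      ring

end anti

section real
variable {F : Type u} [Field F] {σ : F ≃+* F}

/-- `μ` is the Jordan type of a unipotent isometry of some Hermitian space -/
def RealU (F : Type u) [Field F] (σ : F ≃+* F) (μ : Multiset ℕ) : Prop :=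
  ∃ (W : Type u) (_ : AddCommGroup W) (_ : Module F W) (_ : FiniteDimensional F W)
    (H : W → W → F) (T : W →ₗ[F] W),
    IsHerm σ H ∧ (∀ v, (∀ w, H v w = 0) → v = 0) ∧ finrank F W = μ.sum ∧
      (∀ u v, H (T u) (T v) = H u v) ∧ HasJT (T - 1 : Module.End F W) μ

theorem realU_zero : RealU F σ 0 := by
  refine ⟨PUnit.{u + 1}, inferInstance, inferInstance, inferInstance, fun _ _ => 0, 1, ?_, ?_, ?_,
    ?_, hasJT_of_subsingleton _⟩
  · exact ⟨fun _ _ _ => (add_zero 0).symm, fun a _ _ => (mul_zero a).symm,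
      fun _ _ => (map_zero σ).symm⟩
  · intro x _
    exact Subsingleton.elim _ _
  · rw [Multiset.sum_zero]
    exact Module.finrank_zero_of_subsingleton
  · intro u v
    rfl

theorem realU_single (hσ : ∃ c : F, σ c ≠ c) (hσ2 : ∀ a : F, σ (σ a) = a)
    (n : ℕ) : RealU F σ {n + 1} := by
  obtain ⟨l, hl0, hl⟩ := exists_scalar hσ hσ2 n
  have hH := isHerm_antiH hσ2 n l hl
  obtain ⟨a, ha⟩ := exists_trace_ne_zero hσ
  obtain ⟨x, hx, hker⟩ := exists_cayleyH hH a ha hσ2 (shift F n) ⟨n + 1, shift_pow_eq_zero n⟩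
    (antiH_skew n l)
  refine ⟨Fin (n + 1) → F, inferInstance, inferInstance, inferInstance, antiH σ l n,
    x.toLinearMap, hH, antiH_nondeg hσ2 n l hl0, ?_, hx,
    (hasJT_shift n).of_ker_eq hker⟩
  rw [Multiset.sum_singleton, Module.finrank_fintype_fun_eq_card, Fintype.card_fin]

theorem realU_add {μ₁ μ₂ : Multiset ℕ} (h₁ : RealU F σ μ₁) (h₂ : RealU F σ μ₂) :
    RealU F σ (μ₁ + μ₂) := by
  obtain ⟨W₁, _, _, _, H₁, T₁, ha₁, hn₁, hd₁, hi₁, hj₁⟩ := h₁
  obtain ⟨W₂, _, _, _, H₂, T₂, ha₂, hn₂, hd₂, hi₂, hj₂⟩ := h₂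
  refine ⟨W₁ × W₂, inferInstance, inferInstance, inferInstance,
    fun x y => H₁ x.1 y.1 + H₂ x.2 y.2, T₁.prodMap T₂, ?_, ?_, ?_, ?_, ?_⟩
  · refine ⟨?_, ?_, ?_⟩
    · intro u v w
      show H₁ (u.1 + v.1) w.1 + H₂ (u.2 + v.2) w.2 = _
      rw [ha₁.add_left, ha₂.add_left]
      ring
    · intro a v w
      show H₁ (a • v.1) w.1 + H₂ (a • v.2) w.2 = _
      rw [ha₁.smul_left, ha₂.smul_left]
      ring
    · intro v w
      show H₁ w.1 v.1 + H₂ w.2 v.2 = σ (H₁ v.1 w.1 + H₂ v.2 w.2)
      rw [map_add, ← ha₁.symm, ← ha₂.symm]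
  · intro x hx
    have e1 : x.1 = 0 := by
      apply hn₁
      intro y
      have := hx (y, 0)
      simp only [ha₂.zero_right, add_zero] at this
      exact this
    have e2 : x.2 = 0 := by
      apply hn₂
      intro y
      have := hx (0, y)
      simp only [ha₁.zero_right, zero_add] at this
      exact this
    exact Prod.ext e1 e2
  · rw [Module.finrank_prod, hd₁, hd₂, Multiset.sum_add]
  · intro x y
    show H₁ (T₁ x.1) (T₁ y.1) + H₂ (T₂ x.2) (T₂ y.2) = _
    rw [hi₁, hi₂]
  · have : (T₁.prodMap T₂ - 1 : Module.End F (W₁ × W₂))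
        = (T₁ - 1 : Module.End F W₁).prodMap (T₂ - 1 : Module.End F W₂) := by
      apply LinearMap.ext
      rintro ⟨a, b⟩
      rfl
    rw [this]
    exact hj₁.prodMap hj₂

theorem realU_of (hσ : ∃ c : F, σ c ≠ c) (hσ2 : ∀ a : F, σ (σ a) = a)
    (μ : Multiset ℕ) (hpos : ∀ a ∈ μ, 0 < a) : RealU F σ μ := by
  induction μ using Multiset.induction_on with
  | empty => exact realU_zero
  | cons a s ih =>
    have ha := hpos a (Multiset.mem_cons_self a s)
    obtain ⟨n, rfl⟩ : ∃ n, a = n + 1 := ⟨a - 1, by omega⟩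
    rw [← Multiset.singleton_add]
    exact realU_add (realU_single hσ hσ2 n)
      (ih (fun b hb => hpos b (Multiset.mem_cons_of_mem hb)))

end real

end Cfsg.Agent.Lib.Helper1.NDU
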