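import Mathlib
import Cfsg.Agent.Lib.Helper1.NDU3
import Cfsg.Agent.Lib.Helper2.GUIsom
import Cfsg.Agent.Lib.Helper4.SimU2

set_option autoImplicit false
set_option linter.unusedSectionVars false

/-!
# S5954: the unipotent elements of `SU_n(q)` and nondegenerate subspaces
-/

namespace Cfsg.Agent.Lib.Helper1.NDU

open Module Cfsg.Agent.H9SemiInv Cfsg.Agent.Lib.Helper5.PSLCoset Cfsg.Agent.Lib.Helper5.UniO
  Cfsg.Agent.Lib.Helper2.HermDecomp Cfsg.Agent.Lib.Helper2.HermFrames Cfsg.Agent.Lib.Helper1.NDSp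

universe u

section su
variable {F : Type u} [Field F] [Fintype F] {p : ℕ} [Fact p.Prime] [CharP F p]

theorem eq_one_of_pow_char (a : F) (h : a ^ p = 1) : a = 1 := by
  have hp : p.Prime := Fact.out
  have h1 : (a - 1) ^ p = 0 := by rw [sub_pow_char, h, one_pow, sub_self]
  exact sub_eq_zero.1 ((pow_eq_zero_iff hp.ne_zero).1 h1)

theorem exists_pow_char_eq (z : F) : ∃ z' : F, z' ^ p = z := by
  have hinj : Function.Injective (frobenius F p) := frobenius_inj F p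
  have hsurj : Function.Surjective (frobenius F p) := Finite.injective_iff_surjective.1 hinj
  obtain ⟨z', hz'⟩ := hsurj z
  exact ⟨z', hz'⟩

theorem mem_su_iff {n q : ℕ} (x : Matrix.SpecialLinearGroup (Fin n) F) :
    x ∈ Cfsg.SU n F q ↔ ∀ u v : Fin n → F,
      Cfsg.hermForm n F q (Matrix.toLin' (x : Matrix (Fin n) (Fin n) F) u)
        (Matrix.toLin' (x : Matrix (Fin n) (Fin n) F) v) = Cfsg.hermForm n F q u v :=
  Iff.rfl

theorem sl_pow_coe {n : ℕ} (x : Matrix.SpecialLinearGroup (Fin n) F) (k : ℕ) :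
    ((x ^ k : Matrix.SpecialLinearGroup (Fin n) F) : Matrix (Fin n) (Fin n) F) =
      (x : Matrix (Fin n) (Fin n) F) ^ k :=
  Matrix.SpecialLinearGroup.coe_pow x k

/-- transfer of an abstract isometry of `p`-power order one to `SU_n(q)` -/
theorem exists_su_of_model {q : ℕ} {W : Type*} [AddCommGroup W] [Module F W]
    [FiniteDimensional F W] {σ : F ≃+* F} (hσ : orderOf σ = 2) (hσq : ∀ a : F, σ a = a ^ q)
    (H : W → W → F) (h : IsHerm σ H) (hnd : ∀ v, (∀ w, H v w = 0) → v = 0) (n : ℕ)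
    (hdim : finrank F W = n) (T : W →ₗ[F] W) (hT : ∀ u v, H (T u) (T v) = H u v)
    (hTp : T ^ p = 1) :
    ∃ (x : Matrix.SpecialLinearGroup (Fin n) F) (g : (Fin n → F) ≃ₗ[F] W),
      x ∈ Cfsg.SU n F q ∧ x ^ p = 1 ∧ (∀ u v, H (g u) (g v) = Cfsg.hermForm n F q u v) ∧
      ∀ v, g (Matrix.toLin' (x : Matrix (Fin n) (Fin n) F) v) = T (g v) := by
  have hnd' : Cfsg.Agent.Lib.Helper4.SimU.Nondeg H := by
    intro v hv
    by_contra hcon
    push Not at hcon
    exact hv (hnd v hcon)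
  obtain ⟨g, hg⟩ := Cfsg.Agent.Lib.Helper4.SimU.exists_std_equiv hσ h hnd' n hdim
  have hform : ∀ u v, H (g u) (g v) = Cfsg.hermForm n F q u v := by
    intro u v
    rw [hg]
    unfold Cfsg.hermForm
    apply Finset.sum_congr rfl
    intro i _
    rw [hσq]
  set T' : (Fin n → F) →ₗ[F] (Fin n → F) :=
    g.symm.toLinearMap ∘ₗ T ∘ₗ g.toLinearMap with hT'
  have hT'v : ∀ v, g (T' v) = T (g v) := by
    intro v
    rw [hT']
    simp
  have hT'pow : ∀ k : ℕ, ∀ v, g ((T' ^ k) v) = (T ^ k) (g v) := by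
    intro k
    induction k with
    | zero => intro v; simp
    | succ k ih =>
      intro v
      rw [pow_succ', Module.End.mul_apply, hT'v, ih, pow_succ', Module.End.mul_apply]
  have hT'p : T' ^ p = 1 := by
    apply LinearMap.ext
    intro v
    apply g.injective
    rw [hT'pow, hTp, Module.End.one_apply, Module.End.one_apply]
  set X : Matrix (Fin n) (Fin n) F := LinearMap.toMatrix' T' with hX
  have hXlin : Matrix.toLin' X = T' := Matrix.toLin'_toMatrix' T'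
  have hXp : X ^ p = 1 := by
    apply Matrix.toLin'.injective
    rw [Matrix.toLin'_pow, hXlin, hT'p, Matrix.toLin'_one]
    rfl
  have hdet : X.det = 1 := by
    apply eq_one_of_pow_char (p := p)
    rw [← Matrix.det_pow, hXp, Matrix.det_one]
  obtain ⟨xs, hxs⟩ : ∃ xs : Matrix.SpecialLinearGroup (Fin n) F,
      (xs : Matrix (Fin n) (Fin n) F) = X := ⟨⟨X, hdet⟩, rfl⟩
  refine ⟨xs, g, ?_, ?_, hform, ?_⟩
  · rw [mem_su_iff, hxs]
    intro u v
    rw [hXlin, ← hform, ← hform, hT'v, hT'v, hT]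
  · apply Subtype.ext
    rw [sl_pow_coe, hxs]
    exact hXp
  · intro v
    rw [hxs, hXlin, hT'v]

/-- unipotent elements of `SU_n(q)` of every Jordan type with parts at most `p` -/
theorem exists_unipotent_su_jt {q : ℕ} (hq : Fintype.card F = q ^ 2)
    (n : ℕ) (μ : Multiset ℕ) (hμ1 : ∀ a ∈ μ, 0 < a ∧ a ≤ p) (hsum : μ.sum = n) :
    ∃ x : Matrix.SpecialLinearGroup (Fin n) F, x ∈ Cfsg.SU n F q ∧ x ^ p = 1 ∧
      HasJT (Matrix.toLin' (x : Matrix (Fin n) (Fin n) F) - 1 : Module.End F (Fin n → F)) μ := by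
  obtain ⟨σ, hσ, hσq⟩ := Cfsg.Agent.Lib.Helper2.HermDecomp.exists_sigma hq
  have hσ2 := Cfsg.Agent.Lib.Helper2.WittHerm.sigma_sigma hσ
  obtain ⟨W, _, _, _, H, T, hH, hnd, hdim, hiso, hjt⟩ :=
    realU_of (F := F) (σ := σ) (exists_ne_of_orderOf hσ) hσ2 μ (fun a ha => (hμ1 a ha).1)
  have hnp : (T - 1 : Module.End F W) ^ p = 0 :=
    hjt.pow_eq_zero hdim.symm (fun a ha => (hμ1 a ha).2)
  have hTp : T ^ p = 1 := by
    have h1 := sub_one_pow_char p T
    rw [hnp] at h1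
    exact (sub_eq_zero.1 h1.symm)
  obtain ⟨x, g, hxsu, hxp, hform, hint⟩ :=
    exists_su_of_model (p := p) hσ hσq H hH hnd n (hdim.trans hsum) T hiso hTp
  refine ⟨x, hxsu, hxp, ?_⟩
  apply hjt.of_intertwine g.symm
  intro u
  apply g.injective
  rw [LinearEquiv.apply_symm_apply, LinearMap.sub_apply, LinearMap.sub_apply,
    Module.End.one_apply, Module.End.one_apply, map_sub, hint, LinearEquiv.apply_symm_apply]

/-- **UNEC-H**: unipotent derangements of `SU_n(q)` on nondegenerate `m`-spaces -/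
theorem exists_unipotent_not_fixNDH {q : ℕ} (hq : Fintype.card F = q ^ 2)
    (n m : ℕ) (μ : Multiset ℕ) (hμ1 : ∀ a ∈ μ, 0 < a ∧ a ≤ p) (hsum : μ.sum = n)
    (hno : ¬ ∃ ν : Multiset ℕ, ν ≤ μ ∧ ν.sum = m) :
    ∃ x : Matrix.SpecialLinearGroup (Fin n) F, x ∈ Cfsg.SU n F q ∧ x ^ p = 1 ∧
      ¬ ∃ W : Submodule F (Fin n → F), finrank F W = m ∧
        (∀ u ∈ W, u ≠ 0 → ∃ v ∈ W, Cfsg.hermForm n F q u v ≠ 0) ∧
        W.map (Matrix.toLin' (x : Matrix (Fin n) (Fin n) F)) ≤ W := by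
  obtain ⟨σ, hσ, hσq⟩ := Cfsg.Agent.Lib.Helper2.HermDecomp.exists_sigma hq
  have hσ2 := Cfsg.Agent.Lib.Helper2.WittHerm.sigma_sigma hσ
  have hq0 : q ≠ 0 := by
    rintro rfl
    rw [zero_pow two_ne_zero] at hq
    exact Fintype.card_ne_zero hq
  obtain ⟨x, hxsu, hxp, hjt'⟩ := exists_unipotent_su_jt (p := p) hq n μ hμ1 hsum
  refine ⟨x, hxsu, hxp, ?_⟩
  intro hfix
  apply hno
  have hH' := Cfsg.Agent.Lib.Helper2.GUIsom.isHerm_hermForm (F := F) n q σ hσ2 hσq
  have hnd' := Cfsg.Agent.Lib.Helper2.GUIsom.hermForm_nondeg (F := F) n q hq0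
  have hnp' : (Matrix.toLin' (x : Matrix (Fin n) (Fin n) F) - 1 :
      Module.End F (Fin n → F)) ^ p = 0 := by
    have hdim' : μ.sum = finrank F (Fin n → F) := by
      rw [hsum, Module.finrank_fintype_fun_eq_card, Fintype.card_fin]
    exact hjt'.pow_eq_zero hdim' (fun a ha => (hμ1 a ha).2)
  exact exists_sub_of_fixNDH hσ hH' hnd' _ ((mem_su_iff x).1 hxsu) ⟨p, hnp'⟩ hjt' m hfix

/-- **UPOS-SU**: the positive direction for `r = p` (any characteristic) -/
theorem fixNDH_of_unipotent_su {q : ℕ} (hq : Fintype.card F = q ^ 2) (n m : ℕ) (hn : 1 ≤ n)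
    (hμ : ∀ μ : Multiset ℕ, (∀ a ∈ μ, 0 < a ∧ a ≤ p) → μ.sum = n →
      ∃ ν : Multiset ℕ, ν ≤ μ ∧ ν.sum = m)
    (x : Matrix.SpecialLinearGroup (Fin n) F) (hx : x ∈ Cfsg.SU n F q)
    (hxp : ∃ z : F, ((x ^ p : Matrix.SpecialLinearGroup (Fin n) F) :
      Matrix (Fin n) (Fin n) F) = z • (1 : Matrix (Fin n) (Fin n) F)) :
    ∃ W : Submodule F (Fin n → F), finrank F W = m ∧
      (∀ u ∈ W, u ≠ 0 → ∃ v ∈ W, Cfsg.hermForm n F q u v ≠ 0) ∧
      W.map (Matrix.toLin' (x : Matrix (Fin n) (Fin n) F)) ≤ W := by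
  classical
  obtain ⟨σ, hσ, hσq⟩ := Cfsg.Agent.Lib.Helper2.HermDecomp.exists_sigma hq
  have hσ2 := Cfsg.Agent.Lib.Helper2.WittHerm.sigma_sigma hσ
  have hq0 : q ≠ 0 := by
    rintro rfl
    rw [zero_pow two_ne_zero] at hq
    exact Fintype.card_ne_zero hq
  have hH := Cfsg.Agent.Lib.Helper2.GUIsom.isHerm_hermForm (F := F) n q σ hσ2 hσq
  have hnd := Cfsg.Agent.Lib.Helper2.GUIsom.hermForm_nondeg (F := F) n q hq0
  obtain ⟨z, hz⟩ := hxp
  set T := Matrix.toLin' (x : Matrix (Fin n) (Fin n) F) with hTdef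
  have hTiso : ∀ u v, Cfsg.hermForm n F q (T u) (T v) = Cfsg.hermForm n F q u v :=
    (mem_su_iff x).1 hx
  have hTp : T ^ p = z • 1 := by
    rw [hTdef, ← Matrix.toLin'_pow, ← sl_pow_coe, hz, map_smul, Matrix.toLin'_one]
    rfl
  -- `z * σ z = 1`
  have hzz : z * σ z = 1 := by
    have h1 : ∀ u v, Cfsg.hermForm n F q ((T ^ p) u) ((T ^ p) v) = Cfsg.hermForm n F q u v := by
      intro u v
      have : ∀ k : ℕ, ∀ u v, Cfsg.hermForm n F q ((T ^ k) u) ((T ^ k) v) =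
          Cfsg.hermForm n F q u v := by
        intro k
        induction k with
        | zero => intro u v; simp
        | succ k ih =>
          intro u v
          rw [pow_succ', Module.End.mul_apply, Module.End.mul_apply, hTiso, ih]
      exact this p u v
    have h3 := h1 (Pi.single ⟨0, hn⟩ 1) (Pi.single ⟨0, hn⟩ 1)
    rw [hTp, LinearMap.smul_apply, Module.End.one_apply, hH.smul_left, hH.smul_right] at h3
    have h4 : Cfsg.hermForm n F q (Pi.single (⟨0, hn⟩ : Fin n) (1 : F))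
        (Pi.single (⟨0, hn⟩ : Fin n) (1 : F)) = 1 := by
      unfold Cfsg.hermForm
      rw [Finset.sum_eq_single (⟨0, hn⟩ : Fin n)]
      · simp
      · intro j _ hj
        rw [Pi.single_eq_of_ne hj, zero_mul]
      · intro h0
        exact absurd (Finset.mem_univ _) h0
    rw [h4, mul_one] at h3
    exact h3
  obtain ⟨z', hz'⟩ := exists_pow_char_eq (p := p) z
  have hz'z' : z' * σ z' = 1 := by
    apply eq_one_of_pow_char (p := p)
    rw [mul_pow, ← map_pow, hz', hzz]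
  have hz'0 : z' ≠ 0 := by
    rintro rfl
    rw [zero_mul] at hz'z'
    exact zero_ne_one hz'z'
  set T' := z'⁻¹ • T with hT'
  have hT'p : T' ^ p = 1 := by
    rw [hT', _root_.smul_pow, hTp, smul_smul, inv_pow, hz']
    have hz0 : z ≠ 0 := by
      rintro rfl
      rw [zero_mul] at hzz
      exact zero_ne_one hzz
    rw [inv_mul_cancel₀ hz0, one_smul]
  have hT'iso : ∀ u v, Cfsg.hermForm n F q (T' u) (T' v) = Cfsg.hermForm n F q u v := by
    intro u v
    rw [hT', LinearMap.smul_apply, LinearMap.smul_apply, hH.smul_left, hH.smul_right, hTiso,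
      ← mul_assoc, map_inv₀, ← mul_inv, hz'z', inv_one, one_mul]
  have hnp : (T' - 1 : Module.End F (Fin n → F)) ^ p = 0 := by
    rw [sub_one_pow_char p T', hT'p, sub_self]
  have hnil : IsNilpotent (T' - 1 : Module.End F (Fin n → F)) := ⟨p, hnp⟩
  obtain ⟨μ, hjt⟩ := exists_hasJT (T' - 1 : Module.End F (Fin n → F)) hnil
  have hle := hjt.le_of_pow_eq_zero hnp
  have hsum : μ.sum = n := by
    rw [hjt.sum_eq hnil, Module.finrank_fintype_fun_eq_card, Fintype.card_fin]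
  obtain ⟨ν, hν, hνs⟩ := hμ μ (fun a ha => ⟨hjt.1 a ha, hle a ha⟩) hsum
  obtain ⟨W, hWfr, hWnd, hWinv⟩ :=
    fixNDH_of_unipotent hσ hH hnd T' hT'iso hnil hjt m ν hν hνs
  refine ⟨W, hWfr, hWnd, ?_⟩
  have h3 : T = z' • T' := by rw [hT', smul_smul, mul_inv_cancel₀ hz'0, one_smul]
  rw [h3, Submodule.map_smul _ _ z' hz'0]
  exact hWinv

end su

end Cfsg.Agent.Lib.Helper1.NDU
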