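import Mathlib
import Cfsg.Prelude.Def_Classical
import Cfsg.Agent.Lib.Helper4.NDU0
import Cfsg.Agent.Lib.Helper1.HermCount

set_option autoImplicit false
set_option linter.unusedSectionVars false

/-! S5954 packages PK-OBLK-S and PK-OBLK-C: the fixed space and the moved part of a semisimple
isometry of a Hermitian space; counting vectors of norm one. -/

namespace Cfsg.Agent.Lib.Helper4.NDU

open Module Polynomial
open Cfsg.Agent.Lib.Helper5.PSLCoset Cfsg.Agent.H9SemiInv Cfsg.Agent.Lib.Helper4.SimU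
open Cfsg.Agent.Lib.Helper2.HermDecomp Cfsg.Agent.Lib.Helper5.UniO
open Cfsg.Agent.Lib.Helper1.SpBlk (fixE movK)

section abstract
variable {F : Type*} [Field F] [Fintype F] {p : ℕ} [Fact p.Prime] [CharP F p] {q : ℕ}
  {σ : F ≃+* F} {V : Type*} [AddCommGroup V] [Module F V] [FiniteDimensional F V] {H : V → V → F}

theorem oblk_sum_right (h : IsHerm σ H) {ι : Type*} (s : Finset ι) (f : ι → V) (w : V) :
    H w (∑ i ∈ s, f i) = ∑ i ∈ s, H w (f i) := by
  classical
  induction s using Finset.induction_on with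
  | empty => simp [h.zero_right]
  | insert i s hi ih => rw [Finset.sum_insert hi, Finset.sum_insert hi, h.add_right, ih]

theorem oblk_isom (y : V →ₗ[F] V) (hy : IsSim H y 1) (u v : V) : H (y u) (y v) = H u v := by
  rw [hy u v, one_mul]

theorem oblk_isom_pow (y : V →ₗ[F] V) (hy : IsSim H y 1) (j : ℕ) (u v : V) :
    H ((y ^ j) u) ((y ^ j) v) = H u v := by
  induction j generalizing u v with
  | zero => simp
  | succ j ih =>
    rw [pow_succ, Module.End.mul_apply, Module.End.mul_apply, ih, oblk_isom y hy]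

/-- the fixed space is orthogonal to the moved part -/
theorem oblk_fixE_orth_movK (r : ℕ) [Fact r.Prime] (hrp : r ≠ p) (h : IsHerm σ H)
    (y : V →ₗ[F] V) (hy : IsSim H y 1) {u v : V} (hu : u ∈ fixE y) (hv : v ∈ movK r y) :
    H u v = 0 := by
  have hu' := (Cfsg.Agent.Lib.Helper1.SpBlk.mem_fixE y u).1 hu
  have hv' : aeval y (cyclotomic r F) v = 0 := LinearMap.mem_ker.1 hv
  rw [cyclotomic_prime, map_sum, LinearMap.sum_apply] at hv'
  have h1 : ∀ j : ℕ, H u ((y ^ j) v) = H u v := by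
    intro j
    have h2 : (y ^ j) u = u := by
      induction j with
      | zero => simp
      | succ j ih => rw [pow_succ, Module.End.mul_apply, hu', ih]
    conv_lhs => rw [← h2]
    exact oblk_isom_pow y hy j u v
  have h3 : H u (∑ j ∈ Finset.range r, (aeval y (X ^ j : F[X])) v) = 0 := by
    rw [hv', h.zero_right]
  rw [oblk_sum_right h] at h3
  have h4 : ∀ j ∈ Finset.range r, H u ((aeval y (X ^ j : F[X])) v) = H u v := by
    intro j _
    rw [map_pow, aeval_X, h1]
  rw [Finset.sum_congr rfl h4, Finset.sum_const, Finset.card_range, nsmul_eq_mul] at h3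
  exact (mul_eq_zero.1 h3).resolve_left
    (Cfsg.Agent.Lib.Helper9.H9Elus.cast_ne_zero_of_ne (F := F) r hrp)

/-- OBLK-S -/
theorem nd_inf_fixE_herm (r : ℕ) [Fact r.Prime] (hrp : r ≠ p) (h : IsHerm σ H) (y : V →ₗ[F] V)
    (hy : IsSim H y 1) (hyr : y ^ r = 1) {N : Submodule F V} (hN : Nd H N) (hNinv : Inv y N) :
    Nd H (N ⊓ fixE y) := by
  have h1 := Cfsg.Agent.Lib.Helper1.SpBlk.inf_fixE_sup_inf_movK r hrp y hyr hNinv
  rw [← h1] at hN
  apply Nd.of_sup h hN
  intro v hv u hu
  exact oblk_fixE_orth_movK r hrp h y hy hu.2 hv.2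

/-- OBLK-S -/
theorem nd_inf_movK_herm (r : ℕ) [Fact r.Prime] (hrp : r ≠ p) (h : IsHerm σ H) (y : V →ₗ[F] V)
    (hy : IsSim H y 1) (hyr : y ^ r = 1) {N : Submodule F V} (hN : Nd H N) (hNinv : Inv y N) :
    Nd H (N ⊓ movK r y) := by
  have h1 := Cfsg.Agent.Lib.Helper1.SpBlk.inf_fixE_sup_inf_movK r hrp y hyr hNinv
  rw [← h1] at hN
  apply Nd.of_sup_right h hN
  intro v hv u hu
  exact oblk_fixE_orth_movK r hrp h y hy hu.2 hv.2

end abstract

section count
variable {F : Type*} [Field F] [Fintype F] {p : ℕ} [Fact p.Prime] [CharP F p] {q : ℕ}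

/-- a fixed point free isometry of prime order `r` of the standard Hermitian space: `r` divides
the number of vectors of norm one -/
theorem oblk_dvd_cnt (k r : ℕ) [Fact r.Prime] (τ : (Fin k → F) →ₗ[F] (Fin k → F))
    (hτ : ∀ u v, Cfsg.hermForm k F q (τ u) (τ v) = Cfsg.hermForm k F q u v)
    (hτr : τ ^ r = 1) (hfpf : ∀ v, τ v = v → v = 0) :
    r ∣ Cfsg.Agent.Lib.Helper1.HermCount.cnt F q k 1 := by
  classical
  rw [← Cfsg.Agent.Lib.Helper1.HermCount.natCard_eq_cnt]
  set α := {v : Fin k → F // Cfsg.hermForm k F q v v = 1} with hα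
  let f : Function.End α := fun v => ⟨τ v.1, by rw [hτ]; exact v.2⟩
  have hpow : ∀ (j : ℕ) (v : α), ((f ^ j) v).1 = (τ ^ j) v.1 := by
    intro j
    induction j with
    | zero => intro v; rfl
    | succ j ih =>
      intro v
      rw [pow_succ, pow_succ, Module.End.mul_apply]
      show ((f ^ j) (f v)).1 = _
      rw [ih]
  have hf : f ^ r ^ 1 = 1 := by
    funext v
    apply Subtype.ext
    rw [pow_one, hpow, hτr]
    rfl
  have hmod := Equiv.Perm.card_fixedPoints_modEq (p := r) (n := 1) hf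
  rw [Fintype.card_eq_nat_card, Fintype.card_eq_nat_card] at hmod
  have hempty : IsEmpty ↥(Function.fixedPoints f) := by
    constructor
    rintro ⟨v, hv⟩
    have h1 : τ v.1 = v.1 := congrArg Subtype.val hv
    have h2 := hfpf v.1 h1
    have h3 := v.2
    rw [h2] at h3
    unfold Cfsg.hermForm at h3
    simp only [Pi.zero_apply, zero_mul, Finset.sum_const_zero] at h3
    exact zero_ne_one h3
  have h0 : Nat.card ↥(Function.fixedPoints f) = 0 := Nat.card_of_isEmpty
  rw [h0] at hmod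
  exact (Nat.modEq_zero_iff_dvd).1 hmod

end count

section abstract2
variable {F : Type*} [Field F] [Fintype F] {p : ℕ} [Fact p.Prime] [CharP F p] {q : ℕ}
  {σ : F ≃+* F} {V : Type*} [AddCommGroup V] [Module F V] [FiniteDimensional F V] {H : V → V → F}

/-- OBLK-C -/
theorem dvd_of_nd_le_movK (hF : Fintype.card F = q ^ 2) (hσ : orderOf σ = 2)
    (hσq : ∀ a, σ a = a ^ q) (h : IsHerm σ H) (r : ℕ) [Fact r.Prime] (hrp : r ≠ p)
    (y : V →ₗ[F] V) (hy : IsSim H y 1) (hyr : y ^ r = 1) {D : Submodule F V}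
    (hDK : D ≤ movK r y) (hD : Nd H D) (hDinv : Inv y D) (hne : D ≠ ⊥) :
    (r : ℤ) ∣ (q : ℤ) ^ (finrank F D) - (-1) ^ (finrank F D) := by
  classical
  have _ := hne
  have hrprime : r.Prime := Fact.out
  have hpprime : p.Prime := Fact.out
  set k := finrank F D with hk
  -- the restricted form
  have hHD := isHerm_restrict h D
  have hndD : Nondeg (fun x y : D => H (x : V) (y : V)) := by
    intro x hx
    by_contra hcon
    push Not at hcon
    apply hx
    apply Subtype.ext
    apply hD x x.2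
    intro v hv
    exact hcon ⟨v, hv⟩
  obtain ⟨g, hg⟩ := exists_std_equiv hσ hHD hndD k rfl
  have hform : ∀ u v : Fin k → F, H ((g u : D) : V) ((g v : D) : V) = Cfsg.hermForm k F q u v := by
    intro u v
    rw [hg]
    unfold Cfsg.hermForm
    apply Finset.sum_congr rfl
    intro i _
    rw [hσq]
  -- the restriction of `y`
  set yD : D →ₗ[F] D := y.restrict hDinv with hyD
  set τ : (Fin k → F) →ₗ[F] (Fin k → F) := g.symm.toLinearMap ∘ₗ yD ∘ₗ g.toLinearMap with hτdef
  have hτv : ∀ v, ((g (τ v) : D) : V) = y ((g v : D) : V) := by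
    intro v
    rw [hτdef]
    simp only [LinearMap.comp_apply, LinearEquiv.coe_coe, LinearEquiv.apply_symm_apply]
    rfl
  have hτpow : ∀ (j : ℕ) (v : Fin k → F), ((g ((τ ^ j) v) : D) : V) = (y ^ j) ((g v : D) : V) := by
    intro j
    induction j with
    | zero => intro v; simp
    | succ j ih =>
      intro v
      rw [pow_succ', Module.End.mul_apply, hτv, ih, pow_succ', Module.End.mul_apply]
  have hτr : τ ^ r = 1 := by
    apply LinearMap.ext
    intro v
    apply g.injective
    apply Subtype.ext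
    rw [hτpow, hyr, Module.End.one_apply, Module.End.one_apply]
  have hτiso : ∀ u v, Cfsg.hermForm k F q (τ u) (τ v) = Cfsg.hermForm k F q u v := by
    intro u v
    rw [← hform, ← hform, hτv, hτv, oblk_isom y hy]
  have hfpf : ∀ v, τ v = v → v = 0 := by
    intro v hv
    have h1 : y ((g v : D) : V) = ((g v : D) : V) := by rw [← hτv, hv]
    have h2 : ((g v : D) : V) ∈ fixE y ⊓ movK r y :=
      ⟨(Cfsg.Agent.Lib.Helper1.SpBlk.mem_fixE y _).2 h1, hDK (g v).2⟩
    rw [(Cfsg.Agent.Lib.Helper1.SpBlk.disjoint_fixE_movK r hrp y hyr).eq_bot,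
      Submodule.mem_bot] at h2
    have h3 : g v = 0 := Subtype.ext h2
    exact g.map_eq_zero_iff.1 h3
  have hdvd := oblk_dvd_cnt (q := q) k r τ hτiso hτr hfpf
  have hcf := (Cfsg.Agent.Lib.Helper1.HermCount.closed_forms (F := F) hF k).1
  have h1 : (r : ℤ) ∣ (q : ℤ) * (Cfsg.Agent.Lib.Helper1.HermCount.cnt F q k (1 : F) : ℤ) :=
    Dvd.dvd.mul_left (Int.natCast_dvd_natCast.2 hdvd) _
  rw [hcf] at h1
  have hrq : ¬ (r : ℤ) ∣ (q : ℤ) ^ k := by
    intro h2
    have h3 : r ∣ q ^ k := Int.natCast_dvd_natCast.1 (by exact_mod_cast h2)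
    have h4 : r ∣ q := hrprime.dvd_of_dvd_pow h3
    have h5 : r ∣ Fintype.card F := by
      rw [hF]
      exact Dvd.dvd.mul_right h4 _ |>.trans (by rw [pow_two])
    obtain ⟨n, -, hn⟩ := FiniteField.card F p
    rw [hn] at h5
    have h6 := hrprime.dvd_of_dvd_pow h5
    exact hrp ((Nat.prime_dvd_prime_iff_eq hrprime hpprime).1 h6)
  exact (Int.Prime.dvd_mul' hrprime h1).resolve_left hrq

end abstract2

end Cfsg.Agent.Lib.Helper4.NDU
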