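import Mathlib
import Cfsg.Prelude.Def_Classical
import Cfsg.Agent.Lib.Helper4.NDU0
import Cfsg.Agent.Lib.Helper1.NDU_OBLK1

set_option autoImplicit false
set_option linter.unusedSectionVars false

/-! S5954 package PK-OBLK-A: the self-dual blocks of a semisimple isometry of a Hermitian space. -/

namespace Cfsg.Agent.Lib.Helper4.NDU

open Module Polynomial
open Cfsg.Agent.Lib.Helper5.PSLCoset Cfsg.Agent.H9SemiInv Cfsg.Agent.Lib.Helper4.SimU
open Cfsg.Agent.Lib.Helper2.HermDecomp Cfsg.Agent.Lib.Helper5.UniO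
open Cfsg.Agent.Lib.Helper1.SpBlk (fixE movK)

section poly
variable {F : Type*} [Field F] [Fintype F] {q : ℕ} {σ : F ≃+* F}

/-- `s ^ q` is the `q`-expansion of the `σ`-twist of `s` -/
theorem oblk_expand_q (hF : Fintype.card F = q ^ 2) (hσq : ∀ a, σ a = a ^ q) (s : F[X]) :
    expand F q (s.map (σ : F →+* F)) = s ^ q := by
  classical
  obtain ⟨p, hchar⟩ := CharP.exists F
  obtain ⟨n, hp, hn⟩ := FiniteField.card F p
  have _inst : Fact p.Prime := ⟨hp⟩
  have hq : q ∣ p ^ (n : ℕ) := by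
    rw [← hn, hF, pow_two]
    exact Dvd.intro _ rfl
  obtain ⟨a, -, rfl⟩ := (Nat.dvd_prime_pow hp).1 hq
  have h1 : (σ : F →+* F) = iterateFrobenius F p a := by
    apply RingHom.ext
    intro x
    rw [iterateFrobenius_def]
    exact hσq x
  rw [h1, ← Polynomial.map_expand]
  exact map_iterateFrobenius_expand (p := p) s a

theorem oblk_expand_q_pow (hF : Fintype.card F = q ^ 2) (hσq : ∀ a, σ a = a ^ q) (c : ℕ)
    (hc : Odd c) (s : F[X]) :
    expand F (q ^ c) (s.map (σ : F →+* F)) = s ^ (q ^ c) := by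
  obtain ⟨j, rfl⟩ := hc
  have h1 : q ^ (2 * j + 1) = Fintype.card F ^ j * q := by
    rw [hF, pow_succ, pow_mul]
  rw [h1, expand_mul, oblk_expand_q hF hσq, Cfsg.Agent.Lib.Helper1.SpBlk.expand_card_pow, ← pow_mul,
    mul_comm]

end poly

section abstract
variable {F : Type*} [Field F] [Fintype F] {p : ℕ} [Fact p.Prime] [CharP F p] {q : ℕ}
  {σ : F ≃+* F} {V : Type*} [AddCommGroup V] [Module F V] [FiniteDimensional F V] {H : V → V → F}

/-- the adjoint of a polynomial in `y` is the twisted polynomial in `y⁻¹ = y ^ (r - 1)` -/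
theorem oblk_adjoint_aeval (hσ2 : ∀ a : F, σ (σ a) = a) (h : IsHerm σ H) (y : V →ₗ[F] V)
    (hy : IsSim H y 1) {r : ℕ} (hr : 0 < r) (hyr : y ^ r = 1) (s : F[X]) (u v : V) :
    H (aeval y s u) v = H u (aeval (y ^ (r - 1)) (s.map (σ : F →+* F)) v) := by
  induction s using Polynomial.induction_on' with
  | add p q hp hq =>
    rw [map_add, Polynomial.map_add, map_add, LinearMap.add_apply, LinearMap.add_apply,
      h.add_left, h.add_right, hp, hq]
  | monomial n a =>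
    rw [Polynomial.map_monomial, aeval_monomial, aeval_monomial, Module.algebraMap_end_eq_smul_id,
      Module.algebraMap_end_eq_smul_id,
      Module.End.mul_apply, Module.End.mul_apply, LinearMap.smul_apply, LinearMap.smul_apply,
      LinearMap.id_apply, LinearMap.id_apply, h.smul_left, h.smul_right, RingHom.coe_coe, hσ2]
    congr 1
    have h1 : (y ^ n) (((y ^ (r - 1)) ^ n) v) = v := by
      have h2 : y ^ n * (y ^ (r - 1)) ^ n = 1 := by
        have hc : Commute y (y ^ (r - 1)) := (Commute.refl y).pow_right _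
        rw [← hc.mul_pow, ← pow_succ', Nat.sub_add_cancel hr, hyr, one_pow]
      calc (y ^ n) (((y ^ (r - 1)) ^ n) v) = (y ^ n * (y ^ (r - 1)) ^ n) v := rfl
        _ = v := by rw [h2]; rfl
    conv_lhs => rw [← h1]
    exact oblk_isom_pow y hy n _ _

/-- self-duality: if `r ∣ q ^ c + 1`, `c` odd, then `(σ s) (y⁻¹) = s (y) ^ (q ^ c)` -/
theorem oblk_aeval_inv_eq_pow (hF : Fintype.card F = q ^ 2) (hσq : ∀ a, σ a = a ^ q)
    (y : V →ₗ[F] V) {r : ℕ} (hr : 0 < r) (hyr : y ^ r = 1) (c : ℕ) (hc : Odd c)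
    (hrq : r ∣ q ^ c + 1) (s : F[X]) :
    aeval (y ^ (r - 1)) (s.map (σ : F →+* F)) = (aeval y s) ^ (q ^ c) := by
  have h1 : y ^ (q ^ c) = y ^ (r - 1) := by
    obtain ⟨k, hk⟩ := hrq
    have h2 : y ^ (q ^ c) * y = 1 := by
      rw [← pow_succ, hk, pow_mul, hyr, one_pow]
    have h3 : y * y ^ (r - 1) = 1 := by rw [← pow_succ', Nat.sub_add_cancel hr, hyr]
    calc y ^ (q ^ c) = y ^ (q ^ c) * (y * y ^ (r - 1)) := by
          rw [h3, mul_one]
      _ = (y ^ (q ^ c) * y) * y ^ (r - 1) := by rw [mul_assoc]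
      _ = y ^ (r - 1) := by rw [h2, one_mul]
  rw [← h1, ← expand_aeval, oblk_expand_q_pow hF hσq c hc, map_pow]

/-- components for coprime polynomials are orthogonal (self-dual case) -/
theorem oblk_orth_of_coprime (hF : Fintype.card F = q ^ 2) (hσ2 : ∀ a : F, σ (σ a) = a)
    (hσq : ∀ a, σ a = a ^ q) (h : IsHerm σ H) (y : V →ₗ[F] V) (hy : IsSim H y 1)
    {r : ℕ} (hr : 0 < r) (hyr : y ^ r = 1) (c : ℕ) (hc : Odd c) (hrq : r ∣ q ^ c + 1)
    (g₁ g₂ : F[X]) (hcop : IsCoprime g₁ g₂) (u v : V) (hu : aeval y g₁ u = 0)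
    (hv : aeval y g₂ v = 0) : H u v = 0 := by
  obtain ⟨a, b, hab⟩ := hcop
  have h1 : v = aeval y g₁ (aeval y a v) := by
    have h2 := congrArg (fun t : F[X] => aeval y t v) hab
    simp only [map_add, LinearMap.add_apply, map_one, Module.End.one_apply, map_mul,
      Module.End.mul_apply] at h2
    rw [hv, map_zero, add_zero] at h2
    rw [← Module.End.mul_apply, ← map_mul, mul_comm, map_mul, Module.End.mul_apply]
    exact h2.symm
  apply herm_swap_zero h
  rw [h1, oblk_adjoint_aeval hσ2 h y hy hr hyr, oblk_aeval_inv_eq_pow hF hσq y hr hyr c hc hrq]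
  have hpos : 0 < q ^ c := by
    apply Nat.pow_pos
    rcases Nat.eq_zero_or_pos q with h0 | h0
    · rw [h0, zero_pow two_ne_zero] at hF
      exact absurd hF Fintype.card_ne_zero
    · exact h0
  obtain ⟨k, hk⟩ : ∃ k, q ^ c = k + 1 := ⟨q ^ c - 1, by omega⟩
  rw [hk, pow_succ, Module.End.mul_apply, hu, map_zero, h.zero_right]

/-- OBLK-A (self-dual case) -/
theorem exists_block_selfdual (hF : Fintype.card F = q ^ 2) (hσ : orderOf σ = 2)
    (hσq : ∀ a, σ a = a ^ q) (h : IsHerm σ H) (r : ℕ) [Fact r.Prime] (hrp : r ≠ p)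
    (y : V →ₗ[F] V) (hy : IsSim H y 1) (hyr : y ^ r = 1) (c : ℕ) (hcodd : Odd c)
    (hrc : r ∣ q ^ c + 1) (he : orderOf ((Fintype.card F : ℕ) : ZMod r) = c)
    {N : Submodule F V} (hNK : N ≤ movK r y) (hN : Nd H N) (hNinv : Inv y N) (hne : N ≠ ⊥) :
    ∃ D : Submodule F V, D ≤ N ∧ Nd H D ∧ Inv y D ∧ finrank F D = c := by
  classical
  have hrprime : r.Prime := Fact.out
  have hr : 0 < r := hrprime.pos
  have hσ2 := Cfsg.Agent.Lib.Helper2.WittHerm.sigma_sigma hσ
  have hσ1 : σ ≠ 1 := by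
    intro h1
    rw [h1, orderOf_one] at hσ
    omega
  have hinj : Function.Injective y := by
    have h1 : y ^ (r - 1) * y = 1 := by rw [← pow_succ, Nat.sub_add_cancel hr, hyr]
    intro a b hab
    have := congrArg (y ^ (r - 1)) hab
    rw [← Module.End.mul_apply, ← Module.End.mul_apply, h1] at this
    exact this
  -- an irreducible factor with nonzero kernel in `N`
  obtain ⟨w, hwN, hw0⟩ := Submodule.exists_mem_ne_zero_of_ne_bot hne
  obtain ⟨g, hg, hgd, v₀, hv₀N, hv₀0, hgv₀⟩ :=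
    Cfsg.Agent.Lib.Helper9.H9Elus.exists_irreducible_kernel y N hNinv
    (cyclotomic r F) (cyclotomic_ne_zero r F) w hwN hw0 (LinearMap.mem_ker.1 (hNK hwN))
  have hdeg := Cfsg.Agent.Lib.Helper9.H9Elus.natDegree_of_dvd_cyclotomic r hrp g hg hgd
  obtain ⟨h', hh'eq⟩ := hgd
  have hsq : Squarefree (cyclotomic r F) := by
    have : NeZero ((r : ℕ) : F) := ⟨Cfsg.Agent.Lib.Helper9.H9Elus.cast_ne_zero_of_ne r hrp⟩
    exact (separable_cyclotomic r F).squarefree
  have hcop : IsCoprime g h' := by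
    rw [hg.coprime_iff_not_dvd]
    rintro ⟨k, hk⟩
    have h1 : g * g ∣ cyclotomic r F := ⟨k, by rw [hh'eq, hk]; ring⟩
    exact hg.not_isUnit (hsq g h1)
  set N₁ := N ⊓ LinearMap.ker (aeval y g) with hN₁
  set N₂ := N ⊓ LinearMap.ker (aeval y h') with hN₂
  have hN₁inv : Inv y N₁ := hNinv.inf (Cfsg.Agent.Lib.Helper1.SpBlk.inv_ker_aeval' y g)
  have hsup : N₁ ⊔ N₂ = N := by
    apply Cfsg.Agent.Lib.Helper1.SpBlk.inf_ker_sup_inf_ker y hNinv g h' hcop
    intro m hm
    rw [← hh'eq]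
    exact LinearMap.mem_ker.1 (hNK hm)
  have hN₁nd : Nd H N₁ := by
    rw [← hsup] at hN
    apply Nd.of_sup h hN
    intro n' hn' n hn
    exact oblk_orth_of_coprime hF hσ2 hσq h y hy hr hyr c hcodd hrc g h' hcop n n'
      (LinearMap.mem_ker.1 hn.2) (LinearMap.mem_ker.1 hn'.2)
  have hv₀N₁ : v₀ ∈ N₁ := ⟨hv₀N, LinearMap.mem_ker.2 hgv₀⟩
  have hN₁ne : N₁ ≠ ⊥ := by
    intro h0
    rw [h0, Submodule.mem_bot] at hv₀N₁
    exact hv₀0 hv₀N₁
  obtain ⟨u, huN₁, huu⟩ := Nd.exists_aniso hσ1 h hN₁nd hN₁ne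
  have hu0 : u ≠ 0 := by
    rintro rfl
    exact huu (h.zero_left 0)
  obtain ⟨Z, huZ, hZinv, hZfin, hZmin⟩ :=
    Cfsg.Agent.Lib.Helper1.SpBlk.exists_cyclic_mem y g hg u hu0 (LinearMap.mem_ker.1 huN₁.2)
  have hZN₁ : Z ≤ N₁ := hZmin N₁ hN₁inv huN₁
  have hZN : Z ≤ N := hZN₁.trans inf_le_left
  set Y := Z ⊓ orthoCompl h Z with hY
  have hYinv : Inv y Y := hZinv.inf (inv_orthoCompl h y hy hinj hZinv)
  have hdvd := Cfsg.Agent.Lib.Helper1.SpBlk.dvd_finrank_of_le_movK r hrp y hyr hYinv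
    ((inf_le_left.trans hZN).trans hNK)
  have hle : finrank F Y ≤ finrank F Z := Submodule.finrank_mono inf_le_left
  have hYbot : Y = ⊥ := by
    rcases Nat.eq_zero_or_pos (finrank F Y) with h0 | hpos
    · exact Submodule.finrank_eq_zero.1 h0
    · exfalso
      have hYZ : finrank F Y = finrank F Z := by
        have := Nat.le_of_dvd hpos hdvd
        rw [hZfin, hdeg] at hle ⊢
        omega
      have hYeq : Y = Z := Submodule.eq_of_le_of_finrank_eq inf_le_left hYZ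
      have hti : Z ≤ orthoCompl h Z := by
        have h6 : Y ≤ orthoCompl h Z := inf_le_right
        rwa [hYeq] at h6
      exact huu (hti huZ u huZ)
  refine ⟨Z, hZN, ?_, hZinv, by rw [hZfin, hdeg, he]⟩
  intro z hz hz'
  have : z ∈ Y := ⟨hz, fun w hw => herm_swap_zero h (hz' w hw)⟩
  rw [hYbot, Submodule.mem_bot] at this
  exact this

end abstract

end Cfsg.Agent.Lib.Helper4.NDU
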