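import Mathlib
import Cfsg.Prelude.Def_Classical
import Cfsg.Agent.Lib.Helper4.NDU0
import Cfsg.Agent.Lib.Helper1.NDU_OBLK1

set_option autoImplicit false
set_option linter.unusedSectionVars false

/-! S5954 package PK-OBLK-B: the paired blocks of a semisimple isometry of a Hermitian space. -/

namespace Cfsg.Agent.Lib.Helper4.NDU

open Module Polynomial
open Cfsg.Agent.Lib.Helper5.PSLCoset Cfsg.Agent.H9SemiInv Cfsg.Agent.Lib.Helper4.SimU
open Cfsg.Agent.Lib.Helper2.HermDecomp Cfsg.Agent.Lib.Helper5.UniO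
open Cfsg.Agent.Lib.Helper1.SpBlk (fixE movK)

section abstract
variable {F : Type*} [Field F] [Fintype F] {p : ℕ} [Fact p.Prime] [CharP F p] {q : ℕ}
  {σ : F ≃+* F} {V : Type*} [AddCommGroup V] [Module F V] [FiniteDimensional F V] {H : V → V → F}

/-- the relative orthogonal complement inside a nondegenerate subspace has the complementary
dimension -/
theorem oblk_finrank_inf_orth (hσ : orderOf σ = 2) (h : IsHerm σ H) {M U : Submodule F V}
    (hM : Nd H M) (hU : U ≤ M) :
    finrank F ↥(M ⊓ orthoCompl h U) + finrank F U = finrank F M := by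
  have hHM := isHerm_restrict h M
  have hndM : ∀ x : M, (∀ y : M, H (x : V) (y : V) = 0) → x = 0 := by
    intro x hx
    apply Subtype.ext
    apply hM x x.2
    intro v hv
    exact hx ⟨v, hv⟩
  set U' : Submodule F M := U.comap M.subtype with hU'
  have h1 := Cfsg.Agent.Lib.Helper2.HermFrames.finrank_orthoCompl hσ hHM hndM U'
  have h2 : finrank F U' = finrank F U :=
    (Submodule.comapSubtypeEquivOfLe hU).finrank_eq
  have h3 : (orthoCompl hHM U').map M.subtype = M ⊓ orthoCompl h U := by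
    ext v
    constructor
    · rintro ⟨x, hx, rfl⟩
      refine ⟨x.2, ?_⟩
      intro w hw
      exact hx ⟨w, hU hw⟩ hw
    · rintro ⟨hvM, hv⟩
      refine ⟨⟨v, hvM⟩, ?_, rfl⟩
      intro w hw
      exact hv w.1 hw
  have h4 : finrank F ↥((orthoCompl hHM U').map M.subtype) = finrank F ↥(orthoCompl hHM U') :=
    Submodule.finrank_map_subtype_eq M (orthoCompl hHM U')
  rw [← h3, h4]
  omega

/-- pairing a totally isotropic invariant subspace with an invariant partner -/
theorem oblk_exists_pair (hσ : orderOf σ = 2) (h : IsHerm σ H) (y : V →ₗ[F] V)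
    (hy : IsSim H y 1) (hinj : Function.Injective y)
    (hss : Module.End.IsSemisimple y)
    {M U : Submodule F V} (hM : Nd H M) (hMinv : Inv y M) (hU : U ≤ M) (hUinv : Inv y U)
    (hti : U ≤ orthoCompl h U) :
    ∃ D : Submodule F V, D ≤ M ∧ Nd H D ∧ Inv y D ∧ finrank F D = 2 * finrank F U := by
  set W := M ⊓ orthoCompl h U with hW
  have hWinv : Inv y W := hMinv.inf (inv_orthoCompl h y hy hinj hUinv)
  have hUW : U ≤ W := le_inf hU hti
  obtain ⟨C', hC'M, hC'inv, hdis, hfin⟩ :=
    Cfsg.Agent.Lib.Helper9.H9Elus.exists_rel_compl y hss M hMinv W inf_le_left hWinv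
  have h1 := oblk_finrank_inf_orth hσ h hM hU
  have hC'fin : finrank F C' = finrank F U := by
    have : finrank F W = finrank F ↥(M ⊓ orthoCompl h U) := rfl
    omega
  have hWC : W ⊔ C' = M := by
    apply Submodule.eq_of_le_of_finrank_eq (sup_le inf_le_left hC'M)
    rw [finrank_sup_of_disjoint hdis, hfin]
  have hdisU : Disjoint U C' := hdis.mono_left hUW
  refine ⟨U ⊔ C', sup_le hU hC'M, ?_, hUinv.sup hC'inv, ?_⟩
  · intro w hw hw'
    obtain ⟨u, hu, c, hc, rfl⟩ := Submodule.mem_sup.1 hw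
    have hc0 : c = 0 := by
      have hcW : c ∈ W := by
        refine ⟨hC'M hc, ?_⟩
        intro u₁ hu₁
        have h2 := hw' u₁ (Submodule.mem_sup_left hu₁)
        rw [h.add_left, hti hu₁ u hu, zero_add] at h2
        exact herm_swap_zero h h2
      have : c ∈ W ⊓ C' := ⟨hcW, hc⟩
      rw [hdis.eq_bot, Submodule.mem_bot] at this
      exact this
    rw [hc0, add_zero] at hw' ⊢
    apply hM u (hU hu)
    intro m hm
    rw [← hWC] at hm
    obtain ⟨w₁, hw₁, c₁, hc₁, rfl⟩ := Submodule.mem_sup.1 hm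
    rw [h.add_right, hw₁.2 u hu, zero_add]
    exact hw' c₁ (Submodule.mem_sup_right hc₁)
  · rw [finrank_sup_of_disjoint hdisU, hC'fin]
    ring

/-- OBLK-B (paired case) -/
theorem exists_block_paired (hF : Fintype.card F = q ^ 2) (hσ : orderOf σ = 2)
    (hσq : ∀ a, σ a = a ^ q) (h : IsHerm σ H) (r : ℕ) [Fact r.Prime] (hrp : r ≠ p)
    (y : V →ₗ[F] V) (hy : IsSim H y 1) (hyr : y ^ r = 1) (e : ℕ)
    (he : orderOf ((Fintype.card F : ℕ) : ZMod r) = e)
    (hno : ¬ (r : ℤ) ∣ (q : ℤ) ^ e - (-1) ^ e)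
    {N : Submodule F V} (hNK : N ≤ movK r y) (hN : Nd H N) (hNinv : Inv y N) (hne : N ≠ ⊥) :
    ∃ D : Submodule F V, D ≤ N ∧ Nd H D ∧ Inv y D ∧ finrank F D = 2 * e := by
  classical
  have hrprime : r.Prime := Fact.out
  have hr : 0 < r := hrprime.pos
  have hinj : Function.Injective y := by
    have h1 : y ^ (r - 1) * y = 1 := by rw [← pow_succ, Nat.sub_add_cancel hr, hyr]
    intro a b hab
    have := congrArg (y ^ (r - 1)) hab
    rw [← Module.End.mul_apply, ← Module.End.mul_apply, h1] at this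
    exact this
  obtain ⟨U, hUN, hUinv, hUfin⟩ :=
    Cfsg.Agent.Lib.Helper9.H9Elus.hmin_cyclotomic r hrp y N hNK hNinv hne
  rw [he] at hUfin
  have hi1 := Cfsg.Agent.Lib.Helper9.H9Elus.order_pos (F := F) r hrp
  rw [he] at hi1
  set Y := U ⊓ orthoCompl h U with hY
  have hYinv : Inv y Y := hUinv.inf (inv_orthoCompl h y hy hinj hUinv)
  have hdvd := Cfsg.Agent.Lib.Helper1.SpBlk.dvd_finrank_of_le_movK r hrp y hyr hYinv
    ((inf_le_left.trans hUN).trans hNK)
  rw [he] at hdvd
  have hle : finrank F Y ≤ finrank F U := Submodule.finrank_mono inf_le_left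
  have hUne : U ≠ ⊥ := by
    intro h0
    rw [h0, finrank_bot] at hUfin
    omega
  rcases Nat.eq_zero_or_pos (finrank F Y) with h0 | hpos
  · exfalso
    have hYbot : Y = ⊥ := Submodule.finrank_eq_zero.1 h0
    have hUnd : Nd H U := by
      intro z hz hz'
      have : z ∈ Y := ⟨hz, fun w hw => herm_swap_zero h (hz' w hw)⟩
      rw [hYbot, Submodule.mem_bot] at this
      exact this
    have h3 := dvd_of_nd_le_movK hF hσ hσq h r hrp y hy hyr (hUN.trans hNK) hUnd hUinv hUne
    rw [hUfin] at h3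
    exact hno h3
  · have hYU : finrank F Y = finrank F U := by
      have := Nat.le_of_dvd hpos hdvd
      omega
    have hYeq : Y = U := Submodule.eq_of_le_of_finrank_eq inf_le_left hYU
    have hti : U ≤ orthoCompl h U := by
      have h6 : Y ≤ orthoCompl h U := inf_le_right
      rwa [hYeq] at h6
    obtain ⟨D, hDM, hD, hDinv, hDfin⟩ := oblk_exists_pair hσ h y hy hinj
      (Cfsg.Agent.Lib.Helper9.H9Elus.isSemisimple_of_pow_eq_one r hrp y hyr) hN hNinv hUN hUinv hti
    exact ⟨D, hDM, hD, hDinv, by rw [hDfin, hUfin]⟩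

end abstract

end Cfsg.Agent.Lib.Helper4.NDU
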