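import Mathlib
import Cfsg.Prelude.Def_Classical
import Cfsg.Agent.Lib.Helper4.NDU0
import Cfsg.Agent.Lib.Helper1.NDU4

set_option autoImplicit false
set_option linter.unusedSectionVars false

/-! S5954 packages PK-UBLK, PK-USUB, PK-UMOD (wrappers over `Helper1.NDU1-4`). -/

namespace Cfsg.Agent.Lib.Helper4.NDU

open Module Polynomial
open Cfsg.Agent.Lib.Helper5.PSLCoset Cfsg.Agent.H9SemiInv Cfsg.Agent.Lib.Helper4.SimU
open Cfsg.Agent.Lib.Helper2.HermDecomp Cfsg.Agent.Lib.Helper5.UniO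
open Cfsg.Agent.Lib.Helper1.SpBlk (fixE movK)

section abstract
variable {F : Type*} [Field F] [Fintype F] {p : ℕ} [Fact p.Prime] [CharP F p] {q : ℕ}
  {σ : F ≃+* F} {V : Type*} [AddCommGroup V] [Module F V] [FiniteDimensional F V] {H : V → V → F}

/-- PK-UBLK -/
theorem exists_block_unipotent (hσ : orderOf σ = 2) (h : IsHerm σ H) (T : V →ₗ[F] V)
    (hT : IsSim H T 1) (k : ℕ) (hk : (T - 1) ^ k = 0) {N : Submodule F V} (hN : Nd H N)
    (hNinv : Inv T N) (hne : N ≠ ⊥) :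
    ∃ D : Submodule F V, D ≤ N ∧ Nd H D ∧ Inv T D ∧ 0 < finrank F D ∧ finrank F D ≤ k := by
  have hT' : ∀ u v, H (T u) (T v) = H u v := fun u v => by rw [hT u v, one_mul]
  have hnil : IsNilpotent (T - 1 : Module.End F V) := ⟨k, hk⟩
  obtain ⟨Z, a, hZN, hZnd, hZinv, hl⟩ := Cfsg.Agent.Lib.Helper1.NDU.exists_blockH
    (Cfsg.Agent.Lib.Helper1.NDU.exists_ne_of_orderOf hσ) h hT' hnil hN hNinv hne
  have hNZ := Cfsg.Agent.Lib.Helper1.NDSp.inv_sub_one hZinv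
  have hfr : finrank F Z = a := by
    rw [← hl.sum_eq hNZ hnil, Multiset.sum_singleton]
  have ha0 : 0 < a := hl.1 a (Multiset.mem_singleton_self a)
  have hak : a ≤ k := by
    apply hl.le_of_le_ker hNZ hnil (k := k) _ a (Multiset.mem_singleton_self a)
    rw [hk, LinearMap.ker_zero]
    exact le_top
  exact ⟨Z, hZN, hZnd, hZinv, by omega, by omega⟩

/-- PK-USUB (with the nilpotency hypothesis) -/
theorem exists_sub_of_fixND (h : IsHerm σ H) (T : V →ₗ[F] V) (hT : IsSim H T 1)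
    (hinj : Function.Injective T) (hnil : IsNilpotent (T - 1 : Module.End F V))
    {μ : Multiset ℕ} (hμ : HasJT (T - 1) μ) {m : ℕ}
    (hfix : FixND H T m) : ∃ ν : Multiset ℕ, ν ≤ μ ∧ ν.sum = m := by
  obtain ⟨W, hWfr, hWnd, hWinv⟩ := (fixND_iff H T m).1 hfix
  have hW'inv : Inv T (orthoCompl h W) := inv_orthoCompl h T hT hinj hWinv
  have hNW := Cfsg.Agent.Lib.Helper1.NDSp.inv_sub_one hWinv
  have hNW' := Cfsg.Agent.Lib.Helper1.NDSp.inv_sub_one hW'inv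
  obtain ⟨ν, hν⟩ := Cfsg.Agent.Lib.Helper1.NDSp.exists_jtOn hNW hnil
  obtain ⟨ν', hν'⟩ := Cfsg.Agent.Lib.Helper1.NDSp.exists_jtOn hNW' hnil
  have hadd := Cfsg.Agent.Lib.Helper1.NDSp.JTon.add hNW hNW' (hWnd.disjoint h) hν hν'
  rw [hWnd.sup_orthoCompl h] at hadd
  have hμeq : μ = ν + ν' := (Cfsg.Agent.Lib.Helper1.NDSp.jtOn_top.2 hμ).unique hadd
  refine ⟨ν, ?_, ?_⟩
  · rw [hμeq]
    exact Multiset.le_add_right _ _
  · rw [hν.sum_eq hNW hnil, hWfr]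

end abstract

section models
variable {F : Type*} [Field F] [Fintype F] {p : ℕ} [Fact p.Prime] [CharP F p] {q : ℕ}

/-- PK-UMOD -/
theorem exists_unipotent_su (hF : Fintype.card F = q ^ 2) (n : ℕ) (μ : Multiset ℕ)
    (hμ : ∀ a ∈ μ, 0 < a ∧ a ≤ p) (hsum : μ.sum = n) :
    ∃ x : Matrix.SpecialLinearGroup (Fin n) F, x ∈ Cfsg.SU n F q ∧ x ^ p = 1 ∧
      HasJT (Matrix.toLin' (x : Matrix (Fin n) (Fin n) F) - 1) μ :=
  Cfsg.Agent.Lib.Helper1.NDU.exists_unipotent_su_jt (p := p) hF n μ hμ hsum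

end models

end Cfsg.Agent.Lib.Helper4.NDU
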