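import Mathlib
import Cfsg.Agent.Lib.Helper2.NSubA
import Cfsg.Agent.Lib.Helper5.AltTwoMax1

/-! S5121, packages B4/B5 in hypothesis form (B1, B2, B3 as explicit hypotheses). -/

set_option autoImplicit false

namespace Cfsg.Agent.Lib.Helper1.NSubB4a

open Cfsg Cfsg.Agent.Lib.Helper2.NSub

variable {p : ℕ} [Fact p.Prime] {G : Type*} [Group G]

/-- `p'`-part and `p`-part of an element of finite order -/
theorem exists_parts [Finite G] (g : G) : ∃ a b : G, a ∈ Subgroup.zpowers g ∧ b ∈ Subgroup.zpowers g ∧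
    g = a * b ∧ (orderOf a).Coprime p ∧ ∃ k : ℕ, b ^ p ^ k = 1 := by
  have hp : p.Prime := Fact.out
  obtain ⟨k, m, hm, hn⟩ := Nat.exists_eq_pow_mul_and_not_dvd (orderOf_pos g).ne' p hp.ne_one
  have hcop : Nat.Coprime (p ^ k) m := Nat.Coprime.pow_left k ((Nat.Prime.coprime_iff_not_dvd hp).2 hm)
  have hb := Int.gcd_eq_gcd_ab (p ^ k : ℕ) m
  have hg1 : Int.gcd ((p ^ k : ℕ) : ℤ) (m : ℤ) = 1 := by
    rw [Int.gcd_natCast_natCast]; exact hcop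
  rw [hg1] at hb
  set x := Int.gcdA (p ^ k : ℕ) m
  set y := Int.gcdB (p ^ k : ℕ) m
  refine ⟨g ^ (((p ^ k : ℕ) : ℤ) * x), g ^ ((m : ℤ) * y), ⟨_, rfl⟩, ⟨_, rfl⟩, ?_, ?_, k, ?_⟩
  · rw [← zpow_add, ← hb]; simp
  · have h1 : (g ^ (((p ^ k : ℕ) : ℤ) * x)) ^ m = 1 := by
      rw [← zpow_natCast, ← zpow_mul]
      have e : ((p ^ k : ℕ) : ℤ) * x * (m : ℤ) = ((orderOf g : ℕ) : ℤ) * x := by
        rw [hn]; push_cast; ring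
      rw [e, zpow_mul, zpow_natCast, pow_orderOf_eq_one, one_zpow]
    have h2 : orderOf (g ^ (((p ^ k : ℕ) : ℤ) * x)) ∣ m := orderOf_dvd_of_pow_eq_one h1
    exact Nat.Coprime.coprime_dvd_left h2 ((Nat.Prime.coprime_iff_not_dvd hp).2 hm).symm
  · rw [← zpow_natCast, ← zpow_mul]
    have e : (m : ℤ) * y * ((p ^ k : ℕ) : ℤ) = ((orderOf g : ℕ) : ℤ) * y := by
      rw [hn]; push_cast; ring
    rw [e, zpow_mul, zpow_natCast, pow_orderOf_eq_one, one_zpow]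

/-- a `p`-subgroup of a normal subgroup `N` is `N`-conjugate into a given Sylow subgroup of `G` -/
theorem exists_conj_le_sylow [Finite G] (S : Sylow p G) (N : Subgroup G) [N.Normal] (A : Subgroup G)
    (hA : IsPGroup p A) (hAN : A ≤ N) : ∃ b ∈ N, ∀ a ∈ A, b * a * b⁻¹ ∈ (S : Subgroup G) := by
  obtain ⟨Q, hQ⟩ := Cfsg.Agent.Lib.Helper5.AltTwoMax.exists_sylow_inf_normal S N
  have hA' : IsPGroup p (A.subgroupOf N) := hA.comap_of_injective _ (Subgroup.subtype_injective _)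
  obtain ⟨Q', hQ'⟩ := hA'.exists_le_sylow
  obtain ⟨n, hn⟩ := MulAction.exists_smul_eq N Q' Q
  refine ⟨(n : G), n.2, ?_⟩
  intro a ha
  have h1 : (⟨a, hAN ha⟩ : N) ∈ (Q' : Subgroup N) := hQ' (by rw [Subgroup.mem_subgroupOf]; exact ha)
  have h2 : n * (⟨a, hAN ha⟩ : N) * n⁻¹ ∈ ((n • Q' : Sylow p N) : Subgroup N) := by
    rw [Sylow.coe_subgroup_smul]
    have := Subgroup.smul_mem_pointwise_smul _ (MulAut.conj n) _ h1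
    simpa [MulAut.smul_def] using this
  rw [hn, hQ, Subgroup.mem_subgroupOf] at h2
  exact h2.1

section B

variable (D : Setting p G) (H₁ : Subgroup G) [H₁.Normal] (hC : D.C ≤ H₁) (hT : D.T ≤ H₁)

theorem X_le : D.X H₁ ≤ H₁ := by
  unfold Setting.X
  rw [Subgroup.closure_le]
  intro x hx
  exact hx.1

theorem X_le_N₁ : D.X H₁ ≤ D.N₁ := by
  unfold Setting.X
  rw [Subgroup.closure_le]
  intro x hx
  exact hx.2.1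

theorem X_le_H : D.X H₁ ≤ D.H H₁ := le_sup_right

theorem T_le_H : D.T ≤ D.H H₁ := le_sup_left

include hT in
/-- B4a -/
theorem H_le' : D.H H₁ ≤ H₁ ∧ ∀ h ∈ D.H H₁, h ∈ D.N₁set := by
  refine ⟨sup_le hT (X_le D H₁), ?_⟩
  have h1 : D.H H₁ ≤ D.N₁ := sup_le (fun t ht => D.T_le_N₁ t ht) (X_le_N₁ D H₁)
  intro h hh
  exact h1 hh

variable [Finite G]

include hT in
/-- B4b from B3 -/
theorem H_inf_C_of (hB3 : (D.S : Subgroup G) ⊓ D.H H₁ = D.T) : D.H H₁ ⊓ D.C ≤ D.R := by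
  intro x hx
  have hxN : x ∈ D.N₁set := (H_le' D H₁ hT).2 x hx.1
  have hxQ : x ∈ D.Q := D.stab_le x hxN hx.2
  have hxT : x ∈ D.T := by
    rw [← hB3]
    exact ⟨D.Q_le_S hxQ, hx.1⟩
  exact D.cent_T_le x hxT hx.2

/-- B4c from B1 and B2 -/
theorem H₂_eq_of
    (hB1 : ∀ s : G, s ∈ (D.S : Subgroup G) → s ∈ H₁ → s ∈ D.N₁set →
      ∃ t ∈ D.T, ∃ z ∈ D.C, z ∈ D.N₁set ∧ s = t * z)
    (hB2 : (D.H H₁).Normal)
    (g : G) (hg1 : g ∈ H₁) (hg2 : g ∈ D.N₁set) :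
    ∃ h ∈ D.H H₁, ∃ z ∈ D.C, z ∈ D.N₁set ∧ g = h * z := by
  obtain ⟨a, b, ha, hb, hab, hcop, k, hk⟩ := exists_parts (p := p) g
  have hH₂ : Subgroup.zpowers g ≤ H₁ ⊓ D.N₁ := by
    rw [Subgroup.zpowers_le]
    exact ⟨hg1, hg2⟩
  have haX : a ∈ D.X H₁ := Subgroup.subset_closure ⟨(hH₂ ha).1, (hH₂ ha).2, hcop⟩
  -- the `p`-part
  have hbp : IsPGroup p (Subgroup.zpowers b) := by
    rintro ⟨x, hx⟩
    obtain ⟨i, rfl⟩ := Subgroup.mem_zpowers_iff.mp hx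
    refine ⟨k, ?_⟩
    apply Subtype.ext
    simp only [Subgroup.coe_pow, Subgroup.coe_one]
    rw [← zpow_natCast, ← zpow_mul, mul_comm, zpow_mul, zpow_natCast, hk, one_zpow]
  have hbN : Subgroup.zpowers b ≤ H₁ ⊓ D.N₁ := by
    rw [Subgroup.zpowers_le]
    exact hH₂ hb
  obtain ⟨c, hc, hcS⟩ := exists_conj_le_sylow D.S (H₁ ⊓ D.N₁) (Subgroup.zpowers b) hbp hbN
  have h1 : c * b * c⁻¹ ∈ (D.S : Subgroup G) := hcS b (Subgroup.mem_zpowers b)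
  have h2 : c * b * c⁻¹ ∈ H₁ ⊓ D.N₁ :=
    (inferInstance : (H₁ ⊓ D.N₁).Normal).conj_mem b (hH₂ hb) c
  obtain ⟨t, ht, z, hz, hzN, htz⟩ := hB1 _ h1 h2.1 h2.2
  have h3 : c⁻¹ * t * c⁻¹⁻¹ ∈ D.H H₁ := hB2.conj_mem t (T_le_H D H₁ ht) c⁻¹
  have h4 : c⁻¹ * z * c⁻¹⁻¹ ∈ D.C := D.C_normal.conj_mem z hz c⁻¹
  have h5 : c⁻¹ * z * c⁻¹⁻¹ ∈ D.N₁ := D.N₁_normal.conj_mem z hzN c⁻¹
  refine ⟨a * (c⁻¹ * t * c⁻¹⁻¹), (D.H H₁).mul_mem (X_le_H D H₁ haX) h3, c⁻¹ * z * c⁻¹⁻¹, h4, h5, ?_⟩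
  have e : b = c⁻¹ * (c * b * c⁻¹) * c := by group
  rw [hab]
  conv_lhs => rw [e, htz]
  group

include hC hT in
/-- B5 (Frattini) from B4c -/
theorem H₁_eq_of (hsyl : (D.S : Subgroup G) ⊓ H₁ ≤ D.T ⊔ D.C)
    (hB4c : ∀ g : G, g ∈ H₁ → g ∈ D.N₁set → ∃ h ∈ D.H H₁, ∃ z ∈ D.C, z ∈ D.N₁set ∧ g = h * z)
    (hlift : ∀ g ∈ H₁, (∀ s ∈ (D.S : Subgroup G) ⊓ H₁, g * s * g⁻¹ ∈ (D.S : Subgroup G)) →
      ∃ h ∈ H₁, h ∈ D.N₁set ∧ h⁻¹ * g ∈ D.C) :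
    ∀ g ∈ H₁, ∃ h ∈ D.H H₁, h⁻¹ * g ∈ D.C := by
  intro g hg
  -- `B' = (H₁ ⊓ N₁) ⊔ C`
  have hB'le : (H₁ ⊓ D.N₁) ⊔ D.C ≤ H₁ := sup_le inf_le_left hC
  have hTB' : D.T ≤ (H₁ ⊓ D.N₁) ⊔ D.C :=
    le_trans (le_inf hT (fun t ht => D.T_le_N₁ t ht)) le_sup_left
  have hS₁B' : (D.S : Subgroup G) ⊓ H₁ ≤ (H₁ ⊓ D.N₁) ⊔ D.C :=
    le_trans hsyl (sup_le hTB' le_sup_right)
  -- `A = g S₁ g⁻¹`
  have hAp : IsPGroup p (((D.S : Subgroup G) ⊓ H₁).map (MulAut.conj g).toMonoidHom) :=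
    (D.S.isPGroup'.to_le inf_le_left).map _
  have hAB' : ((D.S : Subgroup G) ⊓ H₁).map (MulAut.conj g).toMonoidHom ≤ (H₁ ⊓ D.N₁) ⊔ D.C := by
    rintro _ ⟨s, hs, rfl⟩
    exact (inferInstance : ((H₁ ⊓ D.N₁) ⊔ D.C).Normal).conj_mem s (hS₁B' hs) g
  obtain ⟨b, hb, hbS⟩ := exists_conj_le_sylow D.S ((H₁ ⊓ D.N₁) ⊔ D.C) _ hAp hAB'
  have hbg : b * g ∈ H₁ := H₁.mul_mem (hB'le hb) hg
  have hnorm : ∀ s ∈ (D.S : Subgroup G) ⊓ H₁, (b * g) * s * (b * g)⁻¹ ∈ (D.S : Subgroup G) := by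
    intro s hs
    have h1 := hbS (g * s * g⁻¹) ⟨s, hs, by simp [MulAut.conj_apply]⟩
    have e : (b * g) * s * (b * g)⁻¹ = b * (g * s * g⁻¹) * b⁻¹ := by group
    rw [e]; exact h1
  obtain ⟨h', hh'1, hh'2, hh'C⟩ := hlift (b * g) hbg hnorm
  -- `g ∈ B'`
  have hgB' : g ∈ (H₁ ⊓ D.N₁) ⊔ D.C := by
    have e : g = b⁻¹ * (h' * (h'⁻¹ * (b * g))) := by group
    rw [e]
    refine Subgroup.mul_mem _ (Subgroup.inv_mem _ hb) (Subgroup.mul_mem _ ?_ ?_)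
    · exact (le_sup_left : H₁ ⊓ D.N₁ ≤ _) ⟨hh'1, hh'2⟩
    · exact (le_sup_right : D.C ≤ _) hh'C
  rw [← SetLike.mem_coe, Subgroup.mul_normal] at hgB'
  obtain ⟨h₂, hh₂, c, hc, rfl⟩ := hgB'
  obtain ⟨h, hh, z, hz, _, rfl⟩ := hB4c h₂ hh₂.1 hh₂.2
  refine ⟨h, hh, ?_⟩
  have e : h⁻¹ * (h * z * c) = z * c := by group
  rw [e]
  exact D.C.mul_mem hz hc

end B

end Cfsg.Agent.Lib.Helper1.NSubB4a
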