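import Mathlib
import Cfsg.Agent.Lib.Helper1.NSubB4a
import Cfsg.Agent.Lib.Helper4.NSubB1
import Cfsg.Agent.Lib.Helper4.NSubB3

/-! S5121, packages B4 and B5: exact skeleton statements. -/

set_option autoImplicit false

namespace Cfsg.Agent.Lib.Helper1.NSubB4

open Cfsg Cfsg.Agent.Lib.Helper2.NSub

variable {p : ℕ} [Fact p.Prime] {G : Type*} [Group G] [Finite G]

section B

variable (D : Setting p G) (H₁ : Subgroup G) [H₁.Normal] (hC : D.C ≤ H₁) (hT : D.T ≤ H₁)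
  (hsyl : (D.S : Subgroup G) ⊓ H₁ ≤ D.T ⊔ D.C)
include hC hT hsyl

/-- B4a -/
theorem H_le : D.H H₁ ≤ H₁ ∧ ∀ h ∈ D.H H₁, h ∈ D.N₁set :=
  Cfsg.Agent.Lib.Helper1.NSubB4a.H_le' D H₁ hT

/-- B4b -/
theorem H_inf_C : D.H H₁ ⊓ D.C ≤ D.R :=
  Cfsg.Agent.Lib.Helper1.NSubB4a.H_inf_C_of D H₁ hT
    (Cfsg.Agent.Lib.Helper4.NSubB3.sylow_inf_H D H₁ hC hT hsyl)

/-- B4c: `H₁ ∩ N₁ = H · (C ∩ N₁)` -/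
theorem H₂_eq (g : G) (hg1 : g ∈ H₁) (hg2 : g ∈ D.N₁set) :
    ∃ h ∈ D.H H₁, ∃ z ∈ D.C, z ∈ D.N₁set ∧ g = h * z :=
  Cfsg.Agent.Lib.Helper1.NSubB4a.H₂_eq_of D H₁
    (fun s hs hs1 hs2 => Cfsg.Agent.Lib.Helper4.NSubB1.sylow_inf_H₂ D H₁ hC hT hsyl s hs hs1 hs2)
    (Cfsg.Agent.Lib.Helper4.NSubB1.H_normal D H₁ hC hT hsyl) g hg1 hg2

/-- B5 (Frattini) -/
theorem H₁_eq
    (hlift : ∀ g ∈ H₁, (∀ s ∈ (D.S : Subgroup G) ⊓ H₁, g * s * g⁻¹ ∈ (D.S : Subgroup G)) →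
      ∃ h ∈ H₁, h ∈ D.N₁set ∧ h⁻¹ * g ∈ D.C) :
    ∀ g ∈ H₁, ∃ h ∈ D.H H₁, h⁻¹ * g ∈ D.C :=
  Cfsg.Agent.Lib.Helper1.NSubB4a.H₁_eq_of D H₁ hC hT hsyl
    (fun g hg1 hg2 => H₂_eq D H₁ hC hT hsyl g hg1 hg2) hlift

end B

end Cfsg.Agent.Lib.Helper1.NSubB4
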