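import Mathlib
import Cfsg.Agent.Lib.Helper1.NSubB4a

/-! S5121, package C6 (uniqueness of `H`) in hypothesis form: B2, B4b and `E = F_T(H)` are explicit
hypotheses. -/

set_option autoImplicit false

namespace Cfsg.Agent.Lib.Helper1.NSubC6a

open Cfsg Cfsg.Agent.Lib.Helper2.NSub Cfsg.FusionSystem Cfsg.Agent.Lib.Helper1.NSubB4a

variable {p : ℕ} [Fact p.Prime] {G : Type*} [Group G] [Finite G]

/-- if `T` is a Sylow subgroup of `H'` then `S ∩ H' ≤ T` -/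
theorem sylow_inf_le (D : Setting p G) (H' : Subgroup G)
    (hs : ∃ R : Sylow p H', (R : Subgroup H') = D.T.subgroupOf H') :
    (D.S : Subgroup G) ⊓ H' ≤ D.T := by
  obtain ⟨R₀, hR₀⟩ := hs
  have h1 : IsPGroup p (((D.S : Subgroup G) ⊓ H').subgroupOf H') :=
    (D.S.isPGroup'.to_le inf_le_left).comap_of_injective _ (Subgroup.subtype_injective _)
  have h2 : (R₀ : Subgroup H') ≤ ((D.S : Subgroup G) ⊓ H').subgroupOf H' := by
    rw [hR₀]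
    intro x hx
    rw [Subgroup.mem_subgroupOf] at hx ⊢
    exact ⟨D.hTS hx, x.2⟩
  have h3 := R₀.is_maximal' h1 h2
  intro x hx
  have h4 : (⟨x, hx.2⟩ : H') ∈ ((D.S : Subgroup G) ⊓ H').subgroupOf H' := by
    rw [Subgroup.mem_subgroupOf]; exact hx
  rw [h3, hR₀, Subgroup.mem_subgroupOf] at h4
  exact h4

/-- C6 from B2, B4b and `E = F_T(H)` -/
theorem unique_H_of (D : Setting p G) (E : Cfsg.FusionSystem D.T) (H₁ : Subgroup G) [H₁.Normal]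
    (hH₁ : ∀ g : G, g ∈ H₁ ↔ conjHom D.R g ∈ E.Hom D.R)
    (hB2 : (D.H H₁).Normal) (hB4b : D.H H₁ ⊓ D.C ≤ D.R)
    (hTH : D.T ≤ D.H H₁)
    (hEH : ∀ P : Subgroup G, E.Hom P = (Cfsg.fusionSystemOfSubgroup (D.H H₁) D.T hTH).Hom P)
    (H' : Subgroup G) (hTH' : D.T ≤ H') (hn : H'.Normal)
    (hs : ∃ R : Sylow p H', (R : Subgroup H') = D.T.subgroupOf H')
    (hfs : ∀ P : Subgroup G, E.Hom P = (Cfsg.fusionSystemOfSubgroup H' D.T hTH').Hom P) :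
    H' = D.H H₁ := by
  have hST := sylow_inf_le D H' hs
  -- (iii) `H' ≤ N₁`
  have hN₁ : ∀ h' ∈ H', h' ∈ D.N₁set := by
    intro h' hh' q hq
    have h1 : h' * q * h'⁻¹ * q⁻¹ ∈ H' := by
      have e : h' * q * h'⁻¹ * q⁻¹ = h' * (q * h'⁻¹ * q⁻¹) := by group
      rw [e]
      exact H'.mul_mem hh' (hn.conj_mem _ (H'.inv_mem hh') q)
    have h2 : h' * q * h'⁻¹ * q⁻¹ ∈ D.Q := D.Q.mul_mem (D.Q_conj_mem h' q hq) (D.Q.inv_mem hq)
    exact ⟨hST ⟨D.Q_le_S h2, h1⟩, h2⟩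
  -- (iv) `H' ≤ H₁`
  have hH'H₁ : H' ≤ H₁ := by
    intro h' hh'
    rw [hH₁, hfs]
    refine ⟨D.R_le_T, fun x => ?_, h', hh', fun x => rfl⟩
    exact D.R_le_T (D.R_conj_mem h' x x.2)
  -- (v) `H' ≤ H`
  have hle : H' ≤ D.H H₁ := by
    intro h' hh'
    obtain ⟨a, b, ha, hb, hab, hcop, k, hk⟩ := exists_parts (p := p) h'
    have hz : Subgroup.zpowers h' ≤ H' := by
      rw [Subgroup.zpowers_le]; exact hh'
    have haX : a ∈ D.X H₁ :=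
      Subgroup.subset_closure ⟨hH'H₁ (hz ha), hN₁ a (hz ha), hcop⟩
    have hbp : IsPGroup p (Subgroup.zpowers b) := by
      rintro ⟨x, hx⟩
      obtain ⟨i, rfl⟩ := Subgroup.mem_zpowers_iff.mp hx
      refine ⟨k, ?_⟩
      apply Subtype.ext
      simp only [Subgroup.coe_pow, Subgroup.coe_one]
      rw [← zpow_natCast, ← zpow_mul, mul_comm, zpow_mul, zpow_natCast, hk, one_zpow]
    have hbH' : Subgroup.zpowers b ≤ H' := by
      rw [Subgroup.zpowers_le]; exact hz hb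
    have := hn
    obtain ⟨c, hc, hcS⟩ := exists_conj_le_sylow D.S H' (Subgroup.zpowers b) hbp hbH'
    have h1 : c * b * c⁻¹ ∈ D.T :=
      hST ⟨hcS b (Subgroup.mem_zpowers b), hn.conj_mem b (hz hb) c⟩
    have h2 : c⁻¹ * (c * b * c⁻¹) * c⁻¹⁻¹ ∈ D.H H₁ := hB2.conj_mem _ (hTH h1) c⁻¹
    have e : b = c⁻¹ * (c * b * c⁻¹) * c⁻¹⁻¹ := by group
    rw [hab]
    refine (D.H H₁).mul_mem (X_le_H D H₁ haX) ?_
    rw [e]; exact h2
  -- (vi) `H ≤ H'`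
  refine le_antisymm hle ?_
  intro h hh
  have h1 : conjHom D.R h ∈ (Cfsg.fusionSystemOfSubgroup (D.H H₁) D.T hTH).Hom D.R := by
    refine ⟨D.R_le_T, fun x => ?_, h, hh, fun x => rfl⟩
    exact D.R_le_T (D.R_conj_mem h x x.2)
  rw [← hEH, hfs] at h1
  obtain ⟨-, -, g, hg, hgx⟩ := h1
  have h2 : g⁻¹ * h ∈ D.C := by
    rw [D.mem_C_iff]
    intro r hr
    have h3 : h * r * h⁻¹ = g * r * g⁻¹ := hgx ⟨r, hr⟩
    have e : r * (g⁻¹ * h) = g⁻¹ * (g * r * g⁻¹) * h := by group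
    rw [e, ← h3]
    group
  have h4 : g⁻¹ * h ∈ D.H H₁ := (D.H H₁).mul_mem ((D.H H₁).inv_mem (hle hg)) hh
  have h5 : g⁻¹ * h ∈ H' := hTH' (D.R_le_T (hB4b ⟨h4, h2⟩))
  have e : h = g * (g⁻¹ * h) := by group
  rw [e]
  exact H'.mul_mem hg h5

end Cfsg.Agent.Lib.Helper1.NSubC6a
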