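import Mathlib
import Cfsg.Agent.Lib.Helper1.NSubB4
import Cfsg.Agent.Lib.Helper1.NSubC6a
import Cfsg.Agent.Lib.Helper6.NSubC4
import Cfsg.Agent.Lib.Helper4.NSubC5

/-! S5121, package C6 (uniqueness of `H`): exact skeleton statement. -/

set_option autoImplicit false

namespace Cfsg.Agent.Lib.Helper1.NSubC6

open Cfsg Cfsg.Agent.Lib.Helper2.NSub Cfsg.FusionSystem

variable {p : ℕ} [Fact p.Prime] {G : Type*} [Group G] [Finite G]

section C'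

variable (D : Setting p G) (E : Cfsg.FusionSystem D.T)
  (hE : E.IsNormalIn (Cfsg.groupFusionSystem (D.S : Subgroup G)) p)
include hE

/-- C6: uniqueness -/
theorem unique_H (H₁ : Subgroup G) [H₁.Normal] (hH₁ : ∀ g : G, g ∈ H₁ ↔ conjHom D.R g ∈ E.Hom D.R)
    (hC : D.C ≤ H₁) (hT : D.T ≤ H₁) (hsyl : (D.S : Subgroup G) ⊓ H₁ ≤ D.T ⊔ D.C)
    (H' : Subgroup G) (hTH' : D.T ≤ H') (hn : H'.Normal)
    (hs : ∃ R : Sylow p H', (R : Subgroup H') = D.T.subgroupOf H')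
    (hfs : ∀ P : Subgroup G, E.Hom P = (Cfsg.fusionSystemOfSubgroup H' D.T hTH').Hom P) :
    H' = D.H H₁ := by
  have hTH : D.T ≤ D.H H₁ := le_sup_left
  refine Cfsg.Agent.Lib.Helper1.NSubC6a.unique_H_of D E H₁ hH₁
    (Cfsg.Agent.Lib.Helper4.NSubB1.H_normal D H₁ hC hT hsyl)
    (Cfsg.Agent.Lib.Helper1.NSubB4.H_inf_C D H₁ hC hT hsyl) hTH (fun P => ?_) H' hTH' hn hs hfs
  exact Set.Subset.antisymm
    (Cfsg.Agent.Lib.Helper4.NSubC5.le_fsos D E hE H₁ hH₁ hC hT hsyl hTH P)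
    (Cfsg.Agent.Lib.Helper6.NSubC4.fsos_le D E hE H₁ hH₁ hC hT hsyl hTH P)

end C'

end Cfsg.Agent.Lib.Helper1.NSubC6
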