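import Mathlib
import Cfsg.Agent.Lib.Helper8.SmTwoB
import Cfsg.Agent.Lib.Helper4.NgpDefs
import Cfsg.Agent.Lib.Helper4.NgpNCS

set_option autoImplicit false

/-! S1904 package NH: P. Hall's argument. -/

namespace Cfsg.Agent.Lib.Helper4.Ngp

open Cfsg.Agent.Lib.Helper8.SmTwo
open scoped commutatorElement

universe u

variable {G : Type u} [Group G]

/-- membership in `Z = X ⊓ C(X)` -/
theorem nh_mem_Z {X : Subgroup G} {z : G} :
    z ∈ X ⊓ Subgroup.centralizer (X : Set G) ↔ z ∈ X ∧ ∀ x ∈ X, x * z = z * x := by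
  rw [Subgroup.mem_inf, Subgroup.mem_centralizer_iff]
  rfl

/-- conjugation by an element normalizing `X` preserves `Z(X)` -/
theorem nh_conj_Z {X : Subgroup G} {g : G} (hg : g ∈ Subgroup.normalizer (X : Set G)) {z : G}
    (hz : z ∈ X ⊓ Subgroup.centralizer (X : Set G)) :
    g * z * g⁻¹ ∈ X ⊓ Subgroup.centralizer (X : Set G) := by
  rw [nh_mem_Z] at hz ⊢
  refine ⟨conj_mem_of_mem_normalizer hg hz.1, fun x hx => ?_⟩
  have h := hz.2 (g⁻¹ * x * g) (conj_inv_mem_of_mem_normalizer hg hx)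
  have e1 : x * (g * z * g⁻¹) = g * ((g⁻¹ * x * g) * z) * g⁻¹ := by group
  have e2 : g * z * g⁻¹ * x = g * (z * (g⁻¹ * x * g)) * g⁻¹ := by group
  rw [e1, e2, h]

/-- the subgroup `M = {m ∈ X | m² ∈ Z ∧ ⁅m, X⁆ ⊆ Z}` -/
def nh_M (X : Subgroup G) : Subgroup G where
  carrier := {m | m ∈ X ∧ m ^ 2 ∈ X ⊓ Subgroup.centralizer (X : Set G) ∧
    ∀ x ∈ X, ⁅m, x⁆ ∈ X ⊓ Subgroup.centralizer (X : Set G)}
  one_mem' := by
    refine ⟨X.one_mem, by simp, fun x _ => ?_⟩
    rw [commutatorElement_def]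
    simp
  mul_mem' := by
    rintro m n ⟨hm, hm2, hmc⟩ ⟨hn, hn2, hnc⟩
    have hcomm : ∀ x ∈ X, ⁅m * n, x⁆ = ⁅n, x⁆ * ⁅m, x⁆ := by
      intro x hx
      have hc := (nh_mem_Z.mp (hnc x hx)).2 m hm
      rw [commutatorElement_def, commutatorElement_def, commutatorElement_def] at *
      have e : m * n * x * (m * n)⁻¹ * x⁻¹ = m * (n * x * n⁻¹ * x⁻¹) * m⁻¹ * (m * x * m⁻¹ * x⁻¹) := by
        group
      rw [e, hc]
      group
    refine ⟨X.mul_mem hm hn, ?_, fun x hx => ?_⟩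
    · -- (mn)² = ⁅n,m⁆ m² n²
      have hc := (nh_mem_Z.mp (hnc m hm)).2
      have e : (m * n) ^ 2 = ⁅n, m⁆ * m ^ 2 * n ^ 2 := by
        have h1 := hc m hm
        rw [commutatorElement_def] at h1 ⊢
        have e1 : (m * n) ^ 2 = m * (n * m * n⁻¹ * m⁻¹) * m * n * n := by
          rw [pow_two]; group
        rw [e1, h1, pow_two, pow_two]
        simp only [mul_assoc]
      rw [e]
      exact Subgroup.mul_mem _ (Subgroup.mul_mem _ (hnc m hm) hm2) hn2
    · rw [hcomm x hx]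
      exact Subgroup.mul_mem _ (hnc x hx) (hmc x hx)
  inv_mem' := by
    rintro m ⟨hm, hm2, hmc⟩
    refine ⟨X.inv_mem hm, ?_, fun x hx => ?_⟩
    · rw [inv_pow]
      exact Subgroup.inv_mem _ hm2
    · have hc := (nh_mem_Z.mp (hmc x hx)).2 m hm
      have e : ⁅m⁻¹, x⁆ = (⁅m, x⁆)⁻¹ := by
        have hcm : Commute m ⁅m, x⁆ := hc
        have hcm' : m * (⁅m, x⁆)⁻¹ = (⁅m, x⁆)⁻¹ * m := hcm.inv_right
        have e1 : ⁅m⁻¹, x⁆ = m⁻¹ * ((⁅m, x⁆)⁻¹ * m) := by
          rw [commutatorElement_def, commutatorElement_def]; group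
        rw [e1, ← hcm']
        group
      rw [e]
      exact Subgroup.inv_mem _ (hmc x hx)

theorem nh_mem_M {X : Subgroup G} {m : G} :
    m ∈ nh_M X ↔ m ∈ X ∧ m ^ 2 ∈ X ⊓ Subgroup.centralizer (X : Set G) ∧
      ∀ x ∈ X, ⁅m, x⁆ ∈ X ⊓ Subgroup.centralizer (X : Set G) := Iff.rfl

theorem nh_M_le (X : Subgroup G) : nh_M X ≤ X := fun _ hm => hm.1

theorem nh_Z_le_M (X : Subgroup G) : X ⊓ Subgroup.centralizer (X : Set G) ≤ nh_M X := by
  intro z hz
  have hz' := nh_mem_Z.mp hz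
  refine ⟨hz'.1, Subgroup.pow_mem _ hz 2, fun x hx => ?_⟩
  have : ⁅z, x⁆ = 1 := by
    rw [commutatorElement_def, ← hz'.2 x hx]
    group
  rw [this]
  exact Subgroup.one_mem _

theorem nh_conj_M {X : Subgroup G} {g : G} (hg : g ∈ Subgroup.normalizer (X : Set G)) {m : G}
    (hm : m ∈ nh_M X) : g * m * g⁻¹ ∈ nh_M X := by
  obtain ⟨hmX, hm2, hmc⟩ := hm
  refine ⟨conj_mem_of_mem_normalizer hg hmX, ?_, fun x hx => ?_⟩
  · rw [conj_pow]
    exact nh_conj_Z hg hm2
  · have h := hmc (g⁻¹ * x * g) (conj_inv_mem_of_mem_normalizer hg hx)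
    have e : ⁅g * m * g⁻¹, x⁆ = g * ⁅m, g⁻¹ * x * g⁆ * g⁻¹ := by
      rw [commutatorElement_def, commutatorElement_def]
      group
    rw [e]
    exact nh_conj_Z hg h

theorem nh_normalizer_le_M (X : Subgroup G) :
    Subgroup.normalizer (X : Set G) ≤ Subgroup.normalizer (nh_M X : Set G) := by
  intro g hg
  refine mem_normalizer_of_conj_mem (fun k hk => nh_conj_M hg hk) (fun k hk => ?_)
  have := nh_conj_M (Subgroup.inv_mem _ hg) hk
  simpa using this

/-- conjugation by `g ∈ N(X)` preserves `X ⊓ C(M)` and `M ⊓ C(M)` -/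
theorem nh_conj_cent {X : Subgroup G} {g : G} (hg : g ∈ Subgroup.normalizer (X : Set G)) {k : G}
    (hk : k ∈ Subgroup.centralizer (nh_M X : Set G)) :
    g * k * g⁻¹ ∈ Subgroup.centralizer (nh_M X : Set G) := by
  rw [Subgroup.mem_centralizer_iff] at hk ⊢
  intro m hm
  have hm' : g⁻¹ * m * g ∈ nh_M X := by
    have := nh_conj_M (Subgroup.inv_mem _ hg) hm
    simpa using this
  have h := hk _ hm'
  have e1 : m * (g * k * g⁻¹) = g * ((g⁻¹ * m * g) * k) * g⁻¹ := by group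
  have e2 : g * k * g⁻¹ * m = g * (k * (g⁻¹ * m * g)) * g⁻¹ := by group
  rw [e1, e2, h]

theorem nh_main [Finite G] (X A : Subgroup G) (_hX : IsPGroup 2 X)
    (hAX : A ≤ Subgroup.normalizer (X : Set G))
    (hall : ∀ K : Subgroup G, Inv X A K → IsAb K → K ≤ Subgroup.centralizer (X : Set G))
    (hncs : ∀ N C : Subgroup G, N ≤ C → C ≤ X → X ≤ Subgroup.normalizer (N : Set G) →
      X ≤ Subgroup.normalizer (C : Set G) → N ≠ C →
      ∃ c ∈ C, c ∉ N ∧ c ^ 2 ∈ N ∧ ∀ x ∈ X, ⁅c, x⁆ ∈ N) :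
    phi2 X ≤ Subgroup.centralizer (X : Set G) := by
  set Z := X ⊓ Subgroup.centralizer (X : Set G) with hZ
  set M := nh_M X with hM
  have hXN : X ≤ Subgroup.normalizer (X : Set G) := Subgroup.le_normalizer
  -- (a) Z(M) ≤ C(X)
  have ha : M ⊓ Subgroup.centralizer (M : Set G) ≤ Subgroup.centralizer (X : Set G) := by
    apply hall
    · have key : ∀ g ∈ Subgroup.normalizer (X : Set G),
          g ∈ Subgroup.normalizer ((M ⊓ Subgroup.centralizer (M : Set G) : Subgroup G) : Set G) := by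
        intro g hg
        refine mem_normalizer_of_conj_mem (fun k hk => ?_) (fun k hk => ?_)
        · exact ⟨nh_conj_M hg hk.1, nh_conj_cent hg hk.2⟩
        · have h1 := nh_conj_M (Subgroup.inv_mem _ hg) hk.1
          have h2 := nh_conj_cent (Subgroup.inv_mem _ hg) hk.2
          simp only [inv_inv] at h1 h2
          exact ⟨h1, h2⟩
      exact ⟨inf_le_left.trans (nh_M_le X), fun g hg => key g (hXN hg), fun g hg => key g (hAX hg)⟩
    · intro a ha b hb
      exact (Subgroup.mem_centralizer_iff.mp hb.2 a ha.1)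
  -- (b) X ⊓ C(M) = Z
  have hb : X ⊓ Subgroup.centralizer (M : Set G) ≤ Z := by
    by_contra hne
    have hZC : Z ≤ X ⊓ Subgroup.centralizer (M : Set G) := by
      intro z hz
      refine Subgroup.mem_inf.mpr ⟨hz.1, ?_⟩
      rw [Subgroup.mem_centralizer_iff]
      intro m hm
      exact (nh_mem_Z.mp hz).2 m (nh_M_le X hm)
    have hne' : Z ≠ X ⊓ Subgroup.centralizer (M : Set G) := by
      intro h
      exact hne h.ge
    obtain ⟨c, hcC, hcZ, hc2, hcx⟩ := hncs Z (X ⊓ Subgroup.centralizer (M : Set G)) hZC inf_le_left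
      (fun g hg => mem_normalizer_of_conj_mem (fun k hk => nh_conj_Z (hXN hg) hk)
        (fun k hk => by
          have := nh_conj_Z (Subgroup.inv_mem _ (hXN hg)) hk
          simp only [inv_inv] at this
          exact this))
      (fun g hg => mem_normalizer_of_conj_mem
        (fun k hk => ⟨conj_mem_of_mem_normalizer (hXN hg) hk.1, nh_conj_cent (hXN hg) hk.2⟩)
        (fun k hk => by
          have h1 := conj_inv_mem_of_mem_normalizer (hXN hg) hk.1
          have h2 := nh_conj_cent (Subgroup.inv_mem _ (hXN hg)) hk.2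
          simp only [inv_inv] at h2
          exact ⟨h1, h2⟩))
      hne'
    have hcM : c ∈ M := ⟨hcC.1, hc2, hcx⟩
    exact hcZ ⟨hcC.1, ha ⟨hcM, hcC.2⟩⟩
  have hZc : Z ≤ Subgroup.centralizer (X : Set G) := inf_le_right
  -- (c) X' ≤ C(M)
  have hMX : ⁅M, X⁆ ≤ Z := by
    rw [Subgroup.commutator_le]
    intro m hm x hx
    exact hm.2.2 x hx
  have hZX : ⁅Z, X⁆ = ⊥ := Subgroup.commutator_eq_bot_iff_le_centralizer.mpr hZc
  have h1 : ⁅⁅X, M⁆, X⁆ = ⊥ := by
    rw [Subgroup.commutator_comm X M]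
    exact le_bot_iff.mp (hZX ▸ Subgroup.commutator_mono hMX le_rfl)
  have h2 : ⁅⁅M, X⁆, X⁆ = ⊥ :=
    le_bot_iff.mp (hZX ▸ Subgroup.commutator_mono hMX le_rfl)
  have h3 : ⁅⁅X, X⁆, M⁆ = ⊥ := Subgroup.commutator_commutator_eq_bot_of_rotate h1 h2
  have hc : ⁅X, X⁆ ≤ Subgroup.centralizer (M : Set G) :=
    Subgroup.commutator_eq_bot_iff_le_centralizer.mp h3
  have hXX : ⁅X, X⁆ ≤ X := by
    rw [Subgroup.commutator_le]
    intro a ha b hb
    rw [commutatorElement_def]
    exact X.mul_mem (X.mul_mem (X.mul_mem ha hb) (X.inv_mem ha)) (X.inv_mem hb)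
  -- (d) squares
  have hd : ∀ x ∈ X, x ^ 2 ∈ Subgroup.centralizer (M : Set G) := by
    intro x hx
    rw [Subgroup.mem_centralizer_iff]
    intro m hm
    obtain ⟨hmX, hm2, hmc⟩ := hm
    have hcZ := hmc x hx
    set c := ⁅m, x⁆ with hcdef
    have hcc := (nh_mem_Z.mp hcZ).2
    have hmx : m * x = c * x * m := by
      rw [hcdef, commutatorElement_def]
      group
    -- c² = ⁅m², x⁆ = 1
    have hm2c := (nh_mem_Z.mp hm2).2 x hx
    rw [pow_two] at hm2c
    have hc2 : c * c = 1 := by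
      have e : m * m * x = c * c * (x * (m * m)) := by
        calc m * m * x = m * (m * x) := by group
          _ = m * (c * x * m) := by rw [hmx]
          _ = (m * c) * x * m := by group
          _ = (c * m) * x * m := by rw [hcc m hmX]
          _ = c * (m * x) * m := by group
          _ = c * (c * x * m) * m := by rw [hmx]
          _ = c * c * (x * (m * m)) := by group
      rw [← hm2c] at e
      have : c * c * (x * (m * m)) = 1 * (x * (m * m)) := by rw [one_mul]; exact e.symm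
      exact mul_right_cancel this
    rw [pow_two]
    calc m * (x * x) = (m * x) * x := by group
      _ = c * x * m * x := by rw [hmx]
      _ = c * x * (m * x) := by group
      _ = c * x * (c * x * m) := by rw [hmx]
      _ = c * (x * c) * x * m := by group
      _ = c * (c * x) * x * m := by rw [hcc x hx]
      _ = (c * c) * (x * x) * m := by group
      _ = x * x * m := by rw [hc2, one_mul]
  show ⁅X, X⁆ ⊔ Subgroup.closure {g : G | ∃ x ∈ X, g = x ^ 2} ≤ Subgroup.centralizer (X : Set G)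
  refine sup_le ?_ ?_
  · exact fun y hy => hZc (hb ⟨hXX hy, hc hy⟩)
  · rw [Subgroup.closure_le]
    rintro g ⟨x, hx, rfl⟩
    exact hZc (hb ⟨X.pow_mem hx 2, hd x hx⟩)

theorem phi2_le_center_of_central [Finite G] (X A : Subgroup G) (hX : IsPGroup 2 X)
    (hAX : A ≤ Subgroup.normalizer (X : Set G))
    (hall : ∀ K : Subgroup G, Inv X A K → IsAb K → K ≤ Subgroup.centralizer (X : Set G)) :
    phi2 X ≤ Subgroup.centralizer (X : Set G) :=
  nh_main X A hX hAX hall
    (fun N C hNC hCX hXN hXC hne => exists_central_section_elt X N C hX hNC hCX hXN hXC hne)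

end Cfsg.Agent.Lib.Helper4.Ngp
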