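import Mathlib
import Cfsg.Agent.Lib.Helper1.NoNormalFour2
import Cfsg.Agent.Lib.Helper1.Conj

set_option autoImplicit false

namespace Cfsg.Agent.Lib.Helper1

open Cfsg.Agent.Lib.Lead

theorem mem_normalizer_of_forall_conj_mem {G : Type*} [Group G] (V : Subgroup G) [Finite V]
    (g : G) (h : ∀ v ∈ V, g * v * g⁻¹ ∈ V) : g ∈ Subgroup.normalizer (V : Set G) := by
  have h1 : cj g V ≤ V := by
    rintro _ ⟨v, hv, rfl⟩
    exact h v hv
  have h2 : cj g V = V := Subgroup.eq_of_le_of_card_ge h1 (by rw [card_cj])
  exact mem_normalizer_of_cj_eq h2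

/-- a subgroup containing a subgroup `H` of index two and an element outside `H` is everything -/
theorem eq_top_of_index_two_of_mem {G : Type*} [Group G] (H N : Subgroup G) (hH : H.index = 2)
    (hle : H ≤ N) (b : G) (hbN : b ∈ N) (hbH : b ∉ H) : N = ⊤ := by
  rw [eq_top_iff]
  intro g _
  by_cases hg : g ∈ H
  · exact hle hg
  · have h1 : g * b ∈ H := by
      rw [Subgroup.mul_mem_iff_of_index_two hH]
      exact ⟨fun h => absurd h hg, fun h => absurd h hbH⟩
    have h2 : g = (g * b) * b⁻¹ := by group
    rw [h2]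
    exact N.mul_mem (hle h1) (N.inv_mem hbN)

/-- the four-group `{1, z, b, zb}` is normal when `a b a⁻¹ = z b` and `⟨a⟩` has index two -/
theorem fourOf_normal_of_index_two {G : Type*} [Group G] (a b z : G)
    (hidx : (Subgroup.zpowers a).index = 2) (hb : b ∉ Subgroup.zpowers a)
    (hbb : b * b = 1) (hzz : z * z = 1) (hza : z ∈ Subgroup.zpowers a) (hzb : z * b = b * z)
    (hab : a * b * a⁻¹ = z * b) : (fourOf z b hzz hbb hzb).Normal := by
  have hfin : Finite (fourOf z b hzz hbb hzb) := by
    have : (fourOf z b hzz hbb hzb : Set G) ⊆ ({1, z, b, z * b} : Set G) := by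
      intro g hg
      rcases hg with h | h | h | h <;> simp [h]
    exact Set.Finite.subset (Set.toFinite _) this
  have hz_a : a * z * a⁻¹ = z := by
    obtain ⟨k, rfl⟩ := Subgroup.mem_zpowers_iff.mp hza
    group
  have haN : a ∈ Subgroup.normalizer ((fourOf z b hzz hbb hzb : Subgroup G) : Set G) := by
    apply mem_normalizer_of_forall_conj_mem
    intro v hv
    rw [mem_fourOf] at hv ⊢
    rcases hv with rfl | rfl | rfl | rfl
    · left; group
    · right; left; exact hz_a
    · right; right; right; exact hab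
    · right; right; left
      have h1 : a * (z * b) * a⁻¹ = (a * z * a⁻¹) * (a * b * a⁻¹) := by group
      rw [h1, hz_a, hab, ← mul_assoc, hzz, one_mul]
  have hbN : b ∈ Subgroup.normalizer ((fourOf z b hzz hbb hzb : Subgroup G) : Set G) := by
    apply Subgroup.le_normalizer
    rw [mem_fourOf]
    right; right; left; rfl
  have htop : Subgroup.normalizer ((fourOf z b hzz hbb hzb : Subgroup G) : Set G) = ⊤ :=
    eq_top_of_index_two_of_mem (Subgroup.zpowers a) _ hidx (Subgroup.zpowers_le.mpr haN) b hbN hb
  exact Subgroup.normalizer_eq_top_iff.mp htop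

end Cfsg.Agent.Lib.Helper1
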