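import Mathlib
import Cfsg.Prelude.Def_Blocks
import Cfsg.Prelude.Def_BlockRank
import Cfsg.Agent.Lib.Helper1.O7920f

/-!
# Simple groups of order 4080: the prime 17 (part a)

Elements of order 17 are self-centralizing, there are 120 Sylow 17-subgroups, the normalizer of
one of them has order 34, and the principal 17-block contains an irreducible character of
degree 16 with value `-1` on elements of order 17.  From this, exactly 255 elements have even order.
-/

set_option autoImplicit false
set_option linter.unusedSectionVars false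

namespace Cfsg.Agent.Lib.Helper1.O4080

open Cfsg Cfsg.Agent.Lib.Helper8 Cfsg.Agent.Lib.Helper1 Cfsg.Agent.Lib.Helper4
open Cfsg.Agent.Lib.Helper1.O7920
open scoped ComplexConjugate
open scoped Pointwise

universe u

section

variable {G : Type u} [Group G] [Fintype G] [IsSimpleGroup G]

/-- the Sylow 17 numerics of a simple group of order 4080 -/
theorem seventeen_sylow (hG : Nat.card G = 4080) {x : G} (hx : orderOf x = 17) :
    Nat.card (Sylow 17 G) = 120 ∧
    (Subgroup.centralizer ((Subgroup.zpowers x : Subgroup G) : Set G)).relIndex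
        (Subgroup.normalizer ((Subgroup.zpowers x : Subgroup G) : Set G)) = 2 ∧
    Nat.card (Subgroup.centralizer ((Subgroup.zpowers x : Subgroup G) : Set G)) = 17 := by
  have : Fact (Nat.Prime 17) := ⟨by norm_num⟩
  have hsq : ¬ 17 ^ 2 ∣ Nat.card G := by rw [hG]; norm_num
  obtain ⟨P, hP⟩ := exists_sylow_zpowers hx hsq
  have h1 := card_sylow_mul_card_normalizer P
  rw [hP, ← relIndex_mul_card' (Subgroup.centralizer_le_normalizer _), hG] at h1
  have hmod := card_sylow_modEq_one 17 G
  have hf1 := relIndex_ne_one hx hsq (by rw [hG]; norm_num)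
  have hzC : Subgroup.zpowers x ≤
      Subgroup.centralizer ((Subgroup.zpowers x : Subgroup G) : Set G) := by
    intro t ht
    rw [d1_mem_centralizer_zpowers]
    obtain ⟨i, rfl⟩ := Subgroup.mem_zpowers_iff.1 ht
    exact (Commute.zpow_left (Commute.refl x) i).eq
  have h17 : 17 ∣ Nat.card (Subgroup.centralizer ((Subgroup.zpowers x : Subgroup G) : Set G)) := by
    have := Subgroup.card_dvd_of_le hzC
    rwa [Nat.card_zpowers, hx] at this
  have hn1 : Nat.card (Sylow 17 G) ≠ 1 := by
    intro hn
    have : Subsingleton (Sylow 17 G) := (Nat.card_eq_one_iff_unique.1 hn).1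
    have hnorm : (P : Subgroup G).Normal := Sylow.normal_of_subsingleton P
    rcases hnorm.eq_bot_or_eq_top with h | h
    · have h2 : Nat.card (P : Subgroup G) = 1 := by rw [h, Subgroup.card_bot]
      rw [hP, Nat.card_zpowers, hx] at h2
      omega
    · have h2 : Nat.card (P : Subgroup G) = 4080 := by rw [h, Subgroup.card_top, hG]
      rw [hP, Nat.card_zpowers, hx] at h2
      omega
  generalize Nat.card (Sylow 17 G) = n at *
  generalize (Subgroup.centralizer ((Subgroup.zpowers x : Subgroup G) : Set G)).relIndex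
        (Subgroup.normalizer ((Subgroup.zpowers x : Subgroup G) : Set G)) = f at *
  generalize Nat.card (Subgroup.centralizer ((Subgroup.zpowers x : Subgroup G) : Set G)) = c at *
  obtain ⟨c', rfl⟩ := h17
  have h2 : n * (f * c') = 240 := by
    have : 17 * (n * (f * c')) = 17 * 240 := by
      have h3 : n * (f * (17 * c')) = 17 * (n * (f * c')) := by ring
      omega
    omega
  unfold Nat.ModEq at hmod
  have hn : n ∣ 240 := ⟨_, h2.symm⟩
  have hn' : n ≤ 240 := Nat.le_of_dvd (by norm_num) hn
  have hn120 : n = 120 := by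
    interval_cases n <;> omega
  subst hn120
  have h3 : f * c' = 2 := by omega
  have hf : f ∣ 2 := ⟨_, h3.symm⟩
  have hf' : f ≤ 2 := Nat.le_of_dvd (by norm_num) hf
  have hf2 : f = 2 := by
    interval_cases f <;> omega
  subst hf2
  refine ⟨rfl, rfl, ?_⟩
  omega

/-- elements of order 17 are self-centralizing -/
theorem seventeen_self (hG : Nat.card G = 4080) {x : G} (hx : orderOf x = 17) (t : G)
    (ht : t * x = x * t) : t ∈ Subgroup.zpowers x := by
  have h := (seventeen_sylow hG hx).2.2
  have hzC : Subgroup.zpowers x ≤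
      Subgroup.centralizer ((Subgroup.zpowers x : Subgroup G) : Set G) := by
    intro t ht
    rw [d1_mem_centralizer_zpowers]
    obtain ⟨i, rfl⟩ := Subgroup.mem_zpowers_iff.1 ht
    exact (Commute.zpow_left (Commute.refl x) i).eq
  have heq : Subgroup.zpowers x =
      Subgroup.centralizer ((Subgroup.zpowers x : Subgroup G) : Set G) := by
    apply Subgroup.eq_of_le_of_card_ge hzC
    rw [h, Nat.card_zpowers, hx]
  rw [heq, d1_mem_centralizer_zpowers]
  exact ht

end

theorem deg_arith : ∀ d : ℕ, d ≤ 63 → d ∣ 4080 → (d % 17 = 1 ∨ d % 17 = 16) →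
    d = 1 ∨ d = 16 := by decide

section

variable {G : Type u} [Group G] [Fintype G] [IsSimpleGroup G]
variable [Fintype (IrrCharacter G)] [DecidableEq (IrrCharacter G)]

/-- the two characters of degree 16 and 15 in the principal 17-block -/
theorem seventeen_char (hG : Nat.card G = 4080) {M : Ideal AlgInt} (hM : IsPModular 17 M) {x : G}
    (hx : orderOf x = 17) :
    ∃ χ θ : IrrCharacter G, deg χ = 16 ∧ deg θ = 15 ∧
      (∀ k : ℕ, ¬ 17 ∣ k → (χ : G → ℂ) (x ^ k) = -1) ∧
      (∀ g : G, ¬ 17 ∣ orderOf g → (θ : G → ℂ) g = (χ : G → ℂ) g - 1) := by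
  have : Fact (Nat.Prime 17) := ⟨by norm_num⟩
  have hMp := isPModular_isPrime hM
  have hsq : ¬ 17 ^ 2 ∣ Nat.card G := by rw [hG]; norm_num
  obtain ⟨f, X, Y, εX, ε, hf, hfdvd, bd, hmem, hval, hrel⟩ := exists_blockData 17 hM hx hsq
  have hf2 : f = 2 := by
    rw [← hf]
    exact (seventeen_sylow hG hx).2.1
  subst hf2
  have hperf : commutator G = ⊤ := commutator_eq_top (by rw [hG]; norm_num)
  have hdvd : ∀ χ : IrrCharacter G, deg χ ∣ 4080 := fun χ => by
    have := charDegree_dvd_card χ.2
    rwa [hG] at this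
  have hsum : ∑ χ : IrrCharacter G, deg χ ^ 2 = 4080 := by
    have := sum_charDegree_sq G
    rwa [hG] at this
  have hone : deg (trivIrr G) = 1 := by
    have h1 := deg_cast (trivIrr G)
    rw [trivIrr_apply] at h1
    exact_mod_cast h1.symm
  have hlin : ∀ χ : IrrCharacter G, deg χ = 1 → χ = trivIrr G := by
    intro χ h
    have h1 : (χ : G → ℂ) 1 = 1 := by
      rw [deg_cast, h]
      norm_num
    apply Subtype.ext
    funext g
    rw [linear_eq_one hperf χ.2 h1 g, trivIrr_apply]
  have ht0 : trivIrr G ∈ X ∪ Y := (hmem _).2 (trivIrr_mem_principalBlock hMp.ne_top)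
  have ht0X : trivIrr G ∈ X := by
    rcases Finset.mem_union.1 ht0 with h | h
    · exact h
    · exfalso
      have h1 := bd.degY _ h
      rw [hone] at h1
      unfold Int.ModEq at h1
      rcases bd.signY with h2 | h2 <;> rw [h2] at h1 <;> omega
  obtain ⟨χ, hχX, hχne⟩ := Finset.exists_mem_ne (by rw [bd.cardX]; norm_num) (trivIrr G)
  have hXeq : X = {trivIrr G, χ} := by
    symm
    apply Finset.eq_of_subset_of_card_le
    · intro a ha
      rcases Finset.mem_insert.1 ha with rfl | ha
      · exact ht0X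
      · rw [Finset.mem_singleton.1 ha]
        exact hχX
    · rw [bd.cardX, Finset.card_pair hχne.symm]
  have hε0 : εX (trivIrr G) = 1 := by
    obtain ⟨h1, h2⟩ := bd.signX _ ht0X
    rw [hone] at h2
    unfold Int.ModEq at h2
    rcases h1 with h1 | h1
    · exact h1
    · rw [h1] at h2
      omega
  have hle : deg χ ≤ 63 := by
    have h1 : ∑ ψ ∈ ({χ, trivIrr G} : Finset (IrrCharacter G)), deg ψ ^ 2 ≤ 4080 := by
      rw [← hsum]
      exact Finset.sum_le_sum_of_subset (Finset.subset_univ _)
    rw [Finset.sum_pair hχne, hone] at h1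
    nlinarith
  have hχ1 : deg χ ≠ 1 := fun h => hχne (hlin χ h)
  obtain ⟨hs1, hs2⟩ := bd.signX _ hχX
  have hmod : deg χ % 17 = 1 ∨ deg χ % 17 = 16 := by
    unfold Int.ModEq at hs2
    rcases hs1 with h1 | h1 <;> rw [h1] at hs2 <;> omega
  have hχ16 : deg χ = 16 := by
    rcases deg_arith _ hle (hdvd χ) hmod with h | h
    · exact absurd h hχ1
    · exact h
  have hεχ : εX χ = -1 := by
    rw [hχ16] at hs2
    unfold Int.ModEq at hs2
    rcases hs1 with h1 | h1
    · rw [h1] at hs2
      omega
    · exact h1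
  have hYne : Y.Nonempty := by
    rw [← Finset.card_pos, bd.cardY]
    norm_num
  obtain ⟨θ, hθ⟩ := hYne
  have heqn := bd.eqn θ hθ
  rw [hXeq, Finset.sum_pair hχne.symm, hε0, hεχ, hone, hχ16] at heqn
  have hθpos : 0 < deg θ := Nat.pos_of_dvd_of_pos (hdvd θ) (by norm_num)
  have hε : ε = -1 := by
    rcases bd.signY with h | h
    · rw [h] at heqn
      omega
    · exact h
  have hθ15 : deg θ = 15 := by
    rw [hε] at heqn
    omega
  refine ⟨χ, θ, hχ16, hθ15, ?_, ?_⟩
  · intro k hk
    have h1 := hval χ hχX k hk 1 (by rw [one_mul, mul_one]) (by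
      rw [orderOf_one]
      norm_num)
    rw [mul_one, hεχ] at h1
    rw [h1]
    norm_num
  · intro g hg
    have h1 := hrel θ hθ g hg
    rw [hXeq, Finset.sum_pair hχne.symm, hε0, hεχ, hε, trivIrr_apply] at h1
    push_cast at h1
    linear_combination -h1

end

section

variable {G : Type u} [Group G] [Fintype G] [IsSimpleGroup G]

/-- elements of order divisible by 17 have order 17 -/
theorem orderOf_eq_seventeen (hG : Nat.card G = 4080) {g : G} (hg : 17 ∣ orderOf g) :
    orderOf g = 17 := by
  have ho : orderOf g ≠ 0 := (orderOf_pos g).ne'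
  have hy : orderOf (g ^ (orderOf g / 17)) = 17 := orderOf_pow_orderOf_div ho hg
  have hmem := seventeen_self hG hy g (by rw [← pow_succ, ← pow_succ'])
  have h1 : orderOf g ∣ 17 := by
    rw [← hy]
    exact orderOf_dvd_of_mem_zpowers hmem
  exact Nat.dvd_antisymm h1 hg

/-- elements of order 17 are conjugate to powers of a fixed one -/
theorem conj_of_seventeen (hG : Nat.card G = 4080) {x : G} (hx : orderOf x = 17) {g : G}
    (hg : orderOf g = 17) : ∃ (c : G) (k : ℕ), ¬ 17 ∣ k ∧ g = c * x ^ k * c⁻¹ := by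
  have : Fact (Nat.Prime 17) := ⟨by norm_num⟩
  have hsq : ¬ 17 ^ 2 ∣ Nat.card G := by rw [hG]; norm_num
  obtain ⟨P, hP⟩ := exists_sylow_zpowers hx hsq
  obtain ⟨Q, hQ⟩ := exists_sylow_zpowers hg hsq
  obtain ⟨c, hc⟩ := MulAction.exists_smul_eq G P Q
  have h3 : (Q : Subgroup G) = MulAut.conj c • (P : Subgroup G) := by
    rw [← hc]
    rfl
  have hgQ : g ∈ (Q : Subgroup G) := by
    rw [hQ]
    exact Subgroup.mem_zpowers g
  rw [h3, hP, Subgroup.mem_pointwise_smul_iff_inv_smul_mem] at hgQ
  have h4 : (MulAut.conj c)⁻¹ • g = c⁻¹ * g * c := by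
    simp only [MulAut.smul_def, MulAut.conj_inv_apply]
  rw [h4, ← mem_powers_iff_mem_zpowers, Submonoid.mem_powers_iff] at hgQ
  obtain ⟨k, hk⟩ := hgQ
  refine ⟨c, k, ?_, ?_⟩
  · intro h17
    rw [← hx, orderOf_dvd_iff_pow_eq_one] at h17
    rw [h17] at hk
    have hg1 : g = 1 := by
      have : g = c * (c⁻¹ * g * c) * c⁻¹ := by group
      rw [this, ← hk]
      group
    rw [hg1, orderOf_one] at hg
    omega
  · rw [hk]
    group

omit [Fintype G] [IsSimpleGroup G] in
/-- the prime divisors of element orders -/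
theorem prime_dvd_orderOf [Finite G] (hG : Nat.card G = 4080) {g : G} {q : ℕ} (hq : q.Prime)
    (hqg : q ∣ orderOf g) : q = 2 ∨ q = 3 ∨ q = 5 ∨ q = 17 := by
  have hq4080 : q ∣ 4080 := by
    rw [← hG]
    exact hqg.trans (orderOf_dvd_natCard g)
  have h4080 : (4080 : ℕ) = 2 ^ 4 * (3 * (5 * 17)) := by norm_num
  rw [h4080] at hq4080
  rcases (Nat.Prime.dvd_mul hq).1 hq4080 with h | h
  · left
    exact (Nat.prime_dvd_prime_iff_eq hq (by norm_num)).1 (hq.dvd_of_dvd_pow h)
  · rcases (Nat.Prime.dvd_mul hq).1 h with h | h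
    · right; left
      exact (Nat.prime_dvd_prime_iff_eq hq (by norm_num)).1 h
    · rcases (Nat.Prime.dvd_mul hq).1 h with h | h
      · right; right; left
        exact (Nat.prime_dvd_prime_iff_eq hq (by norm_num)).1 h
      · right; right; right
        exact (Nat.prime_dvd_prime_iff_eq hq (by norm_num)).1 h

/-- the character of degree 16: its values -/
theorem exists_char_sixteen (hG : Nat.card G = 4080) :
    ∃ χ : IrrCharacter G, (χ : G → ℂ) 1 = 16 ∧
      (∀ g : G, 2 ∣ orderOf g → (χ : G → ℂ) g = 0) ∧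
      (∀ g : G, 17 ∣ orderOf g → (χ : G → ℂ) g = -1) ∧
      (∀ g : G, ¬ 17 ∣ orderOf g → (3 ∣ orderOf g ∨ 5 ∣ orderOf g) → (χ : G → ℂ) g = 1) := by
  classical
  have : Fintype (IrrCharacter G) := Fintype.ofFinite _
  have h17 : Fact (Nat.Prime 17) := ⟨by norm_num⟩
  have h2 : Fact (Nat.Prime 2) := ⟨by norm_num⟩
  have h3 : Fact (Nat.Prime 3) := ⟨by norm_num⟩
  have h5 : Fact (Nat.Prime 5) := ⟨by norm_num⟩
  obtain ⟨M, hM⟩ := exists_isPModular 17
  obtain ⟨x, hx⟩ := exists_prime_orderOf_dvd_card' (G := G) 17 (by rw [hG]; norm_num)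
  obtain ⟨χ, θ, hχ16, hθ15, hval, hrel⟩ := seventeen_char hG hM hx
  refine ⟨χ, ?_, ?_, ?_, ?_⟩
  · rw [deg_cast, hχ16]
    norm_num
  · intro g hg
    apply vanish_of_defect_zero 2 χ _ hg
    rw [hG]
    have : charDegree (χ : G → ℂ) = 16 := hχ16
    rw [this]
    norm_num
  · intro g hg17
    obtain ⟨c, k, hk, rfl⟩ := conj_of_seventeen hG hx (orderOf_eq_seventeen hG hg17)
    rw [isClassFunction_irr χ.2 (x ^ k) c]
    exact hval k hk
  · intro g hg17 hq
    have hdeg : charDegree (θ : G → ℂ) = 15 := hθ15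
    have hθ0 : (θ : G → ℂ) g = 0 := by
      rcases hq with hqg | hqg
      · apply vanish_of_defect_zero 3 θ _ hqg
        rw [hG, hdeg]
        norm_num
      · apply vanish_of_defect_zero 5 θ _ hqg
        rw [hG, hdeg]
        norm_num
    have h1 := hrel g hg17
    rw [hθ0] at h1
    linear_combination -h1

/-- an element of even order has order a power of two -/
theorem prime_eq_two_of_even (hG : Nat.card G = 4080) {g : G} (hg : 2 ∣ orderOf g) {q : ℕ}
    (hq : q.Prime) (hqg : q ∣ orderOf g) : q = 2 := by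
  obtain ⟨χ, -, hχ2, -, hχ4⟩ := exists_char_sixteen hG
  have h17 : ¬ 17 ∣ orderOf g := by
    intro h
    rw [orderOf_eq_seventeen hG h] at hg
    omega
  rcases prime_dvd_orderOf hG hq hqg with rfl | rfl | rfl | rfl
  · rfl
  · have h1 := hχ4 g h17 (Or.inl hqg)
    rw [hχ2 g hg] at h1
    norm_num at h1
  · have h1 := hχ4 g h17 (Or.inr hqg)
    rw [hχ2 g hg] at h1
    norm_num at h1
  · exact absurd hqg h17

/-- **exactly 255 elements of a simple group of order 4080 have even order** -/
theorem card_even_order (hG : Nat.card G = 4080) : Nat.card {g : G // 2 ∣ orderOf g} = 255 := by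
  classical
  obtain ⟨χ, hχ1, hχ2, hχ3, hχ4⟩ := exists_char_sixteen hG
  have hinner := classInner_irr_self χ.2
  unfold classInner at hinner
  rw [hG] at hinner
  have hsum : ∑ g : G, (χ : G → ℂ) g * conj ((χ : G → ℂ) g) = 4080 := by
    have h4080 : ((4080 : ℕ) : ℂ) ≠ 0 := by norm_num
    field_simp at hinner
    rw [hinner]
    norm_num
  have hpt : ∀ g : G, 1 - (χ : G → ℂ) g * conj ((χ : G → ℂ) g) =
      (if g = 1 then (-255 : ℂ) else 0) + (if 2 ∣ orderOf g then (1 : ℂ) else 0) := by
    intro g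
    by_cases hg1 : g = 1
    · subst hg1
      rw [if_pos rfl, if_neg (by rw [orderOf_one]; norm_num), hχ1]
      simp only [map_ofNat]
      norm_num
    · rw [if_neg hg1]
      by_cases hg2 : 2 ∣ orderOf g
      · rw [if_pos hg2, hχ2 g hg2]
        simp
      · rw [if_neg hg2]
        by_cases hg17 : 17 ∣ orderOf g
        · rw [hχ3 g hg17]
          simp
        · have hne : orderOf g ≠ 1 := fun h => hg1 (orderOf_eq_one_iff.1 h)
          obtain ⟨q, hq, hqg⟩ := Nat.exists_prime_and_dvd hne
          have h1 : (χ : G → ℂ) g = 1 := by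
            rcases prime_dvd_orderOf hG hq hqg with rfl | rfl | rfl | rfl
            · exact absurd hqg hg2
            · exact hχ4 g hg17 (Or.inl hqg)
            · exact hχ4 g hg17 (Or.inr hqg)
            · exact absurd hqg hg17
          rw [h1]
          simp
  have hsum2 : ∑ g : G, (1 - (χ : G → ℂ) g * conj ((χ : G → ℂ) g)) = 0 := by
    rw [Finset.sum_sub_distrib, hsum, Finset.sum_const, Finset.card_univ,
      ← Nat.card_eq_fintype_card, hG]
    simp
  rw [Finset.sum_congr rfl (fun g _ => hpt g), Finset.sum_add_distrib, Finset.sum_ite_eq'] at hsum2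
  simp only [Finset.mem_univ, if_true] at hsum2
  rw [Finset.sum_boole] at hsum2
  rw [Nat.card_eq_fintype_card, Fintype.card_subtype]
  have : ((Finset.univ.filter fun g : G => 2 ∣ orderOf g).card : ℂ) = 255 := by
    linear_combination hsum2
  exact_mod_cast this

end

end Cfsg.Agent.Lib.Helper1.O4080
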