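import Mathlib
import Cfsg.Agent.Lib.Helper1.O4080a
import Cfsg.Agent.Lib.Helper1.ConjCount
import Cfsg.Agent.S1230

/-!
# Simple groups of order 4080: the involutions (part b)

The centralizer of every involution is elementary abelian of order 16, so that the group is
`PSL₂(16)` by the characterization of `PSL₂(2ⁿ)` through its involution centralizers.
-/

set_option autoImplicit false
set_option linter.unusedSectionVars false

namespace Cfsg.Agent.Lib.Helper1.O4080

open Cfsg

universe u

section

variable {G : Type u} [Group G] [Finite G] [IsSimpleGroup G]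

/-- every element commuting with an involution has 2-power order -/
theorem orderOf_of_comm_invol (hG : Nat.card G = 4080) {t : G} (ht : orderOf t = 2) {c : G}
    (hc : c * t = t * c) : ∃ k : ℕ, orderOf c = 2 ^ k := by
  classical
  have : Fintype G := Fintype.ofFinite G
  refine ⟨_, Nat.eq_prime_pow_of_unique_prime_dvd (orderOf_pos c).ne' ?_⟩
  intro q hq hqc
  by_contra hq2
  have hd : orderOf (c ^ (orderOf c / q)) = q :=
    orderOf_pow_orderOf_div (orderOf_pos c).ne' hqc
  have hcomm : Commute t (c ^ (orderOf c / q)) :=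
    Commute.pow_right (show Commute t c from hc.symm) _
  have hcop : Nat.Coprime (orderOf t) (orderOf (c ^ (orderOf c / q))) := by
    rw [ht, hd]
    exact (Nat.coprime_primes Nat.prime_two hq).2 (Ne.symm hq2)
  have ho : orderOf (t * c ^ (orderOf c / q)) = 2 * q := by
    rw [hcomm.orderOf_mul_eq_mul_orderOf_of_coprime hcop, ht, hd]
  exact hq2 (prime_eq_two_of_even hG (g := t * c ^ (orderOf c / q))
    (by rw [ho]; exact dvd_mul_right 2 q) hq (by rw [ho]; exact dvd_mul_left q 2))

/-- the centralizer of an involution has order dividing 16 -/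
theorem card_centralizer_dvd (hG : Nat.card G = 4080) {t : G} (ht : orderOf t = 2) :
    Nat.card (Subgroup.centralizer ({t} : Set G)) ∣ 16 := by
  have hp : IsPGroup 2 (Subgroup.centralizer ({t} : Set G)) := by
    intro c
    obtain ⟨k, hk⟩ := orderOf_of_comm_invol hG ht (Subgroup.mem_centralizer_singleton_iff.1 c.2)
    refine ⟨k, ?_⟩
    apply Subtype.ext
    rw [Subgroup.coe_pow, ← hk, pow_orderOf_eq_one]
    rfl
  have : Fact (Nat.Prime 2) := ⟨Nat.prime_two⟩
  obtain ⟨n, hn⟩ := IsPGroup.iff_card.1 hp
  rw [hn]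
  have hdvd : 2 ^ n ∣ 4080 := by
    rw [← hn, ← hG]
    exact Subgroup.card_subgroup_dvd_card _
  have hn4 : n ≤ 4 := by
    by_contra h
    have h5 : 5 ≤ n := by omega
    have := (pow_dvd_pow 2 h5).trans hdvd
    omega
  exact pow_dvd_pow 2 hn4

/-- every element of even order is conjugate to any given involution -/
theorem isConj_of_even (hG : Nat.card G = 4080) {t : G} (ht : orderOf t = 2) {g : G}
    (hg : 2 ∣ orderOf g) : IsConj t g := by
  classical
  have : Fintype G := Fintype.ofFinite G
  have h1 := Cfsg.Agent.Lib.Helper1.card_isConj_mul_card_centralizer t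
  have h2 := card_centralizer_dvd hG ht
  have h3 := card_even_order hG
  have hconj : ∀ v : G, IsConj t v → 2 ∣ orderOf v := by
    intro v hv
    obtain ⟨c, rfl⟩ := isConj_iff.1 hv
    have := (MulAut.conj c).orderOf_eq t
    rw [MulAut.conj_apply] at this
    rw [this, ht]
  let f : {v : G // IsConj t v} → {g : G // 2 ∣ orderOf g} := fun v => ⟨v.1, hconj v.1 v.2⟩
  have hf : Function.Injective f := by
    intro a b hab
    apply Subtype.ext
    have h4 : (f a).1 = (f b).1 := by rw [hab]
    exact h4
  have hle : Nat.card {g : G // 2 ∣ orderOf g} ≤ Nat.card {v : G // IsConj t v} := by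
    rw [h3]
    have h16 : Nat.card (Subgroup.centralizer ({t} : Set G)) ≤ 16 :=
      Nat.le_of_dvd (by norm_num) h2
    rw [hG] at h1
    by_contra hlt
    have : Nat.card {v : G // IsConj t v} ≤ 254 := by omega
    have := Nat.mul_le_mul this h16
    omega
  obtain ⟨v, hv⟩ := (hf.bijective_of_nat_card_le hle).2 ⟨g, hg⟩
  have hvg : v.1 = g := congrArg Subtype.val hv
  rw [← hvg]
  exact v.2

/-- every element of even order is an involution -/
theorem orderOf_eq_two_of_even (hG : Nat.card G = 4080) {g : G} (hg : 2 ∣ orderOf g) :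
    orderOf g = 2 := by
  have ht : orderOf (g ^ (orderOf g / 2)) = 2 :=
    orderOf_pow_orderOf_div (orderOf_pos g).ne' hg
  obtain ⟨c, hc⟩ := isConj_iff.1 (isConj_of_even hG ht hg)
  have := (MulAut.conj c).orderOf_eq (g ^ (orderOf g / 2))
  rw [MulAut.conj_apply, hc, ht] at this
  exact this

/-- the centralizer of an involution is elementary abelian -/
theorem centralizer_invol (hG : Nat.card G = 4080) {t : G} (ht : orderOf t = 2) :
    IsMulCommutative (Subgroup.centralizer ({t} : Set G)) ∧
      ∀ c ∈ Subgroup.centralizer ({t} : Set G), c ^ 2 = 1 := by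
  have hsq : ∀ c ∈ Subgroup.centralizer ({t} : Set G), c ^ 2 = 1 := by
    intro c hc
    obtain ⟨k, hk⟩ := orderOf_of_comm_invol hG ht (Subgroup.mem_centralizer_singleton_iff.1 hc)
    rcases Nat.eq_zero_or_pos k with rfl | hk0
    · rw [pow_zero, orderOf_eq_one_iff] at hk
      rw [hk, one_pow]
    · have h2 : 2 ∣ orderOf c := by
        rw [hk]
        exact dvd_pow_self 2 hk0.ne'
      rw [← orderOf_eq_two_of_even hG h2, pow_orderOf_eq_one]
  refine ⟨⟨⟨fun a b => ?_⟩⟩, hsq⟩
  apply Subtype.ext
  have ha := hsq a.1 a.2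
  have hb := hsq b.1 b.2
  have hab := hsq (a.1 * b.1) (mul_mem a.2 b.2)
  rw [Subgroup.coe_mul, Subgroup.coe_mul]
  rw [sq] at ha hb hab
  calc a.1 * b.1 = a.1 * (a.1 * b.1 * (a.1 * b.1)) * b.1 := by rw [hab, mul_one]
    _ = a.1 * a.1 * (b.1 * a.1) * (b.1 * b.1) := by group
    _ = b.1 * a.1 := by rw [ha, hb, one_mul, mul_one]

/-- **A simple group of order 4080 is `PSL₂` of a field with 16 elements.** -/
theorem exists_equiv_psl (hG : Nat.card G = 4080) :
    ∃ (F : Type) (_ : Field F) (_ : Fintype F), Fintype.card F = 16 ∧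
      Nonempty (G ≃* Matrix.ProjectiveSpecialLinearGroup (Fin 2) F) := by
  have : Fact (Nat.Prime 2) := ⟨Nat.prime_two⟩
  obtain ⟨T⟩ := (inferInstance : Nonempty (Sylow 2 G))
  have hT : Nat.card T = 16 := by
    have h1 := T.card_eq_multiplicity
    have h2 : (Nat.card G).factorization 2 = 4 := by
      rw [hG]
      have h4080 : (4080 : ℕ) = 2 ^ 4 * 255 := by norm_num
      rw [h4080, Nat.factorization_mul (by norm_num) (by norm_num),
        Nat.Prime.factorization_pow Nat.prime_two]
      simp [Nat.factorization_eq_zero_of_not_dvd (show ¬ 2 ∣ 255 by norm_num)]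
    rw [h2] at h1
    rw [h1]
    norm_num
  have hnc : ¬ IsCyclic (T : Subgroup G) := by
    intro hcyc
    obtain ⟨g, hg⟩ := IsCyclic.exists_ofOrder_eq_natCard (α := (T : Subgroup G))
    rw [hT] at hg
    have hg' : orderOf (g : G) = 16 := by rw [Subgroup.orderOf_coe, hg]
    have := orderOf_eq_two_of_even hG (g := (g : G)) (by rw [hg']; norm_num)
    omega
  have hnn : ¬ (T : Subgroup G).Normal := by
    intro hnorm
    rcases hnorm.eq_bot_or_eq_top with h | h
    · have h2 : Nat.card (T : Subgroup G) = 1 := by rw [h, Subgroup.card_bot]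
      omega
    · have h2 : Nat.card (T : Subgroup G) = 4080 := by rw [h, Subgroup.card_top, hG]
      omega
  obtain ⟨F, hF1, hF2, hcard, he⟩ := Cfsg.Agent.S1230.result T hnc hnn
    (fun t ht => centralizer_invol hG ht)
  exact ⟨F, hF1, hF2, by rw [hcard, hT], he⟩

end

end Cfsg.Agent.Lib.Helper1.O4080
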