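import Mathlib
import Cfsg.Prelude.Def_Blocks
import Cfsg.Prelude.Def_BlockRank
import Cfsg.Agent.Lib.Helper1.O7920f

/-!
# Simple groups of order 7920: the prime 5 and the character degrees (part g)
-/

set_option autoImplicit false
set_option linter.unusedSectionVars false

namespace Cfsg.Agent.Lib.Helper1.O7920

open Cfsg Cfsg.Agent.Lib.Helper8 Cfsg.Agent.Lib.Helper1 Cfsg.Agent.Lib.Helper4
open scoped ComplexConjugate

universe u

theorem dvd_nine_of {k : ℕ} (h1 : k ∣ 1584) (h2 : ¬ 2 ∣ k) (h3 : ¬ 11 ∣ k) :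
    k = 1 ∨ k = 3 ∨ k = 9 := by
  have hc2 : Nat.Coprime k 16 := by
    have : Nat.Coprime k 2 := ((Nat.Prime.coprime_iff_not_dvd Nat.prime_two).2 h2).symm
    exact Nat.Coprime.pow_right 4 this
  have hc11 : Nat.Coprime k 11 :=
    ((Nat.Prime.coprime_iff_not_dvd (by norm_num : Nat.Prime 11)).2 h3).symm
  have h4 : k ∣ 99 := hc2.dvd_of_dvd_mul_left (by norm_num at h1 ⊢; exact h1)
  have h5 : k ∣ 9 := hc11.dvd_of_dvd_mul_right (by norm_num at h4 ⊢; exact h4)
  have h6 : k ≤ 9 := Nat.le_of_dvd (by norm_num) h5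
  have h7 : 0 < k := Nat.pos_of_dvd_of_pos h5 (by norm_num)
  interval_cases k <;> omega

section

variable {G : Type u} [Group G] [Fintype G] [IsSimpleGroup G] [Fintype (IrrCharacter G)]
  [DecidableEq (IrrCharacter G)]

/-- **The prime 5**, given that no involution and no element of order 11 centralizes an element
of order 5. -/
theorem five_data (hG : Nat.card G = 7920) {M : Ideal AlgInt} (hM : IsPModular 5 M) {r : G}
    (hr : orderOf r = 5) (hno2 : ∀ y : G, orderOf y = 2 → y * r = r * y → False)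
    (hno11 : ∀ z : G, orderOf z = 11 → z * r = r * z → False) :
    (∀ χ : IrrCharacter G, ¬ 5 ∣ deg χ → χ ∈ principalBlock M G) ∧
    ∃ (X Y : Finset (IrrCharacter G)) (εX : IrrCharacter G → ℤ) (ε : ℤ),
      BlockData (deg (G := G)) 5 4 X Y εX ε ∧ (∀ χ, χ ∈ X ∪ Y ↔ χ ∈ principalBlock M G) := by
  classical
  have : Fact (Nat.Prime 5) := ⟨by norm_num⟩
  have hsq : ¬ 5 ^ 2 ∣ Nat.card G := by
    rw [hG]
    norm_num
  obtain ⟨f, X, Y, εX, ε, hf, hfdvd, bd, hmem, _, _⟩ := exists_blockData 5 hM hr hsq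
  have hf1 : f ≠ 1 := by
    rw [← hf]
    exact relIndex_ne_one hr hsq (by rw [hG]; norm_num)
  have hf' : f = 2 ∨ f = 4 := by
    have h1 : f ∣ 4 := hfdvd
    have h2 : f ≤ 4 := Nat.le_of_dvd (by norm_num) h1
    have h3 : 0 < f := Nat.pos_of_dvd_of_pos h1 (by norm_num)
    interval_cases f <;> omega
  set C := Subgroup.centralizer ((Subgroup.zpowers r : Subgroup G) : Set G) with hC
  have hrC : Subgroup.zpowers r ≤ C := by
    intro t ht
    rw [hC, d1_mem_centralizer_zpowers]
    obtain ⟨i, rfl⟩ := Subgroup.mem_zpowers_iff.1 ht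
    exact (Commute.zpow_left (Commute.refl r) i).eq
  have h5C : 5 ∣ Nat.card C := by
    have := Subgroup.card_dvd_of_le hrC
    rw [Nat.card_zpowers, hr] at this
    exact this
  obtain ⟨k, hk⟩ := h5C
  have hCG : Nat.card C ∣ 7920 := hG ▸ Subgroup.card_subgroup_dvd_card C
  have hk1584 : k ∣ 1584 := by
    rw [hk] at hCG
    exact Nat.dvd_of_mul_dvd_mul_left (by norm_num : 0 < 5) (by norm_num at hCG ⊢; exact hCG)
  have hcauchy : ∀ q : ℕ, q.Prime → q ∣ Nat.card C → ∃ y : G, orderOf y = q ∧ y * r = r * y := by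
    intro q hq hqC
    have : Fact q.Prime := ⟨hq⟩
    obtain ⟨y, hy⟩ := exists_prime_orderOf_dvd_card' q hqC
    refine ⟨(y : G), by rw [Subgroup.orderOf_coe, hy], ?_⟩
    exact (d1_mem_centralizer_zpowers r y).1 y.2
  have hk2 : ¬ 2 ∣ k := by
    intro h
    obtain ⟨y, hy, hyr⟩ := hcauchy 2 Nat.prime_two (hk ▸ h.mul_left 5)
    exact hno2 y hy hyr
  have hk11 : ¬ 11 ∣ k := by
    intro h
    obtain ⟨z, hz, hzr⟩ := hcauchy 11 (by norm_num) (hk ▸ h.mul_left 5)
    exact hno11 z hz hzr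
  obtain ⟨n, hn1, hn2⟩ := sylow_equation hr hsq
  rw [hf, ← hC, hk, hG] at hn2
  have hfk : f = 4 ∧ k = 1 := by
    rcases dvd_nine_of hk1584 hk2 hk11 with h | h | h <;> rcases hf' with h' | h' <;>
      rw [h, h'] at hn2 <;> omega
  obtain ⟨hf4, hk1⟩ := hfk
  subst hf4
  have hself : ∀ t : G, t * r = r * t → t ∈ Subgroup.zpowers r := by
    intro t ht
    have heq : Subgroup.zpowers r = C := by
      apply Subgroup.eq_of_le_of_card_ge hrC
      rw [Nat.card_zpowers, hr, hk, hk1]
    rw [heq, hC, d1_mem_centralizer_zpowers]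
    exact ht
  refine ⟨fun χ hχ => mem_principal_of_self_centralizing 5 hM hr hsq hself χ hχ, X, Y, εX, ε, bd,
    hmem⟩


/-- no element of order 11 commutes with an element of order 5 -/
theorem no11 (hG : Nat.card G = 7920) {M : Ideal AlgInt} (hM : IsPModular 11 M) {r z : G}
    (hr : orderOf r = 5) (hz : orderOf z = 11) (hzr : z * r = r * z) : False := by
  have h := (eleven_data hG hM hz).1 r hzr.symm
  have h1 := Subgroup.orderOf_dvd_natCard (Subgroup.zpowers z) h
  rw [Nat.card_zpowers, hz, hr] at h1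
  omega

/-- Case L: a character of degree 5 prevents involutions from centralizing elements of order 5 -/
theorem no2_caseL (hG : Nat.card G = 7920) {θ : IrrCharacter G} (hθ : deg θ = 5) {r y : G}
    (hr : orderOf r = 5) (hy : orderOf y = 2) (hyr : y * r = r * y) : False := by
  have h0 : ¬ 5 ∣ Nat.card G / charDegree (θ : G → ℂ) := by
    rw [hG]
    show ¬ 5 ∣ 7920 / deg θ
    rw [hθ]
    norm_num
  obtain ⟨a, d, hd, hval, hle⟩ := value_at_invol_of_defect_zero θ h0 hr hy hyr
  have hd5 : d = 5 := by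
    rw [deg_cast, hθ] at hd
    exact_mod_cast hd.symm
  subst hd5
  have ha : a = 0 ∨ a = 1 := by omega
  have hsq : (θ : G → ℂ) y * (θ : G → ℂ) y = (θ : G → ℂ) 1 * (θ : G → ℂ) 1 := by
    rcases ha with rfl | rfl <;> rw [hval, hd] <;> push_cast <;> ring
  have h1 := eq_one_of_sq_eq θ.2 (d := 5) hd (by norm_num) hsq
  rw [h1, orderOf_one] at hy
  omega

/-- Case M: the characters of degree 16 prevent involutions from centralizing elements of order 5 -/
theorem no2_caseM (hG : Nat.card G = 7920) {X Y : Finset (IrrCharacter G)}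
    {εX : IrrCharacter G → ℤ} {ε : ℤ} (bd : BlockData (deg (G := G)) 11 5 X Y εX ε)
    (ht0X : trivIrr G ∈ X)
    (hrel : ∀ θ ∈ Y, ∀ g : G, ¬ 11 ∣ orderOf g →
      (ε : ℂ) * (θ : G → ℂ) g = ∑ χ ∈ X, (εX χ : ℂ) * (χ : G → ℂ) g)
    (hY16 : ∀ θ ∈ Y, deg θ = 16)
    (h12 : ((X.erase (trivIrr G)).filter (fun χ => deg χ = 12)).card = 0)
    {r y : G} (hr : orderOf r = 5) (hy : orderOf y = 2) (hyr : y * r = r * y) : False := by
  have dd := degData hG
  have : Fact (Nat.Prime 2) := ⟨Nat.prime_two⟩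
  obtain ⟨θ, hθ⟩ : Y.Nonempty := by
    rw [← Finset.card_pos, bd.cardY]
    norm_num
  have hθy : (θ : G → ℂ) y = 0 := by
    apply vanish_of_defect_zero 2 θ
    · rw [hG]
      show ¬ 2 ∣ 7920 / deg θ
      rw [hY16 θ hθ]
      norm_num
    · rw [hy]
  have h1 := hrel θ hθ y (by rw [hy]; norm_num)
  rw [hθy, mul_zero, ← Finset.add_sum_erase X _ ht0X, bd.sign_t0 dd ht0X, trivIrr_apply] at h1
  have key : ∀ χ ∈ X.erase (trivIrr G), ∃ m : ℤ,
      (εX χ : ℂ) * (χ : G → ℂ) y = ((5 * m : ℤ) : ℂ) := by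
    intro χ hχ
    have hχX : χ ∈ X := Finset.mem_of_mem_erase hχ
    have hne : χ ≠ trivIrr G := Finset.ne_of_mem_erase hχ
    have hcases : (deg χ = 10 ∧ εX χ = -1) ∨ (deg χ = 45 ∧ εX χ = 1) := by
      rcases bd.memX11 dd hχX with h | h | h | h
      · exact absurd (dd.uniq χ h.1) hne
      · exact Or.inl h
      · exfalso
        have : 0 < ((X.erase (trivIrr G)).filter (fun χ => deg χ = 12)).card := by
          rw [Finset.card_pos]
          exact ⟨χ, Finset.mem_filter.2 ⟨hχ, h.1⟩⟩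
        omega
      · exact Or.inr h
    have h0 : ¬ 5 ∣ Nat.card G / charDegree (χ : G → ℂ) := by
      rw [hG]
      show ¬ 5 ∣ 7920 / deg χ
      rcases hcases with h | h <;> rw [h.1] <;> norm_num
    obtain ⟨a, d, hd, hval, _⟩ := value_at_invol_of_defect_zero χ h0 hr hy hyr
    rw [deg_cast] at hd
    have hdd : d = deg χ := by exact_mod_cast hd.symm
    rcases hcases with h | h
    · refine ⟨2 - 2 * a, ?_⟩
      rw [hval, hdd, h.1, h.2]
      push_cast
      ring
    · refine ⟨2 * a - 9, ?_⟩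
      rw [hval, hdd, h.1, h.2]
      push_cast
      ring
  have hsum : ∃ m : ℤ, ∑ χ ∈ X.erase (trivIrr G), (εX χ : ℂ) * (χ : G → ℂ) y =
      ((5 * m : ℤ) : ℂ) := by
    apply Finset.sum_induction _ (fun z : ℂ => ∃ m : ℤ, z = ((5 * m : ℤ) : ℂ))
    · rintro a b ⟨m, rfl⟩ ⟨m', rfl⟩
      exact ⟨m + m', by push_cast; ring⟩
    · exact ⟨0, by simp⟩
    · exact key
  obtain ⟨m, hm⟩ := hsum
  rw [hm] at h1
  have h2 : (0 : ℤ) = 1 + 5 * m := by
    have : ((0 : ℤ) : ℂ) = ((1 + 5 * m : ℤ) : ℂ) := by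
      push_cast at h1 ⊢
      linear_combination h1
    exact_mod_cast this
  omega


/-- **The character degrees of a simple group of order 7920.** -/
theorem degrees_7920 (hG : Nat.card G = 7920) :
    Fintype.card (IrrCharacter G) = 10 ∧ ∀ n : ℕ,
      (Finset.univ.filter (fun χ : IrrCharacter G => deg χ = n)).card =
        (if n = 1 ∨ n = 11 ∨ n = 44 ∨ n = 45 ∨ n = 55 then 1 else if n = 10 then 3
          else if n = 16 then 2 else 0) := by
  have h11 : Fact (Nat.Prime 11) := ⟨by norm_num⟩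
  have h5 : Fact (Nat.Prime 5) := ⟨by norm_num⟩
  obtain ⟨M11, hM11⟩ := exists_isPModular 11
  obtain ⟨M5, hM5⟩ := exists_isPModular 5
  have hM11p := isPModular_isPrime hM11
  have hM5p := isPModular_isPrime hM5
  obtain ⟨x, hx⟩ := exists_prime_orderOf_dvd_card' (G := G) 11 (by rw [hG]; norm_num)
  obtain ⟨r, hr⟩ := exists_prime_orderOf_dvd_card' (G := G) 5 (by rw [hG]; norm_num)
  have hsq11 : ¬ 11 ^ 2 ∣ Nat.card G := by
    rw [hG]
    norm_num
  obtain ⟨hself, X, Y, εX, ε, bd, hmem, hrel⟩ := eleven_data hG hM11 hx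
  have dd := degData hG
  have ht0 : trivIrr G ∈ X ∪ Y := (hmem _).2 (trivIrr_mem_principalBlock hM11p.ne_top)
  obtain ⟨h0X, hε, hcases⟩ := bd.five11 dd ht0
  have h11out : ∀ χ : IrrCharacter G, χ ∉ X ∪ Y → 11 ∣ deg χ := by
    intro χ hχ
    by_contra h
    exact hχ ((hmem χ).2 (mem_principal_of_self_centralizing 11 hM11 hx hsq11 hself χ h))
  have hno11 : ∀ z : G, orderOf z = 11 → z * r = r * z → False :=
    fun z hz hzr => no11 hG hM11 hr hz hzr
  have hYne : Y.Nonempty := by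
    rw [← Finset.card_pos, bd.cardY]
    norm_num
  have hdisj := bd.disj
  rcases hcases with ⟨hY5, c12, c45, c10⟩ | ⟨hY16, c12, c45, c10⟩
  · -- case L
    exfalso
    obtain ⟨θ, hθ⟩ := hYne
    have hno2 : ∀ y : G, orderOf y = 2 → y * r = r * y → False :=
      fun y hy hyr => no2_caseL hG (hY5 θ hθ) hr hy hyr
    obtain ⟨_, X5, Y5, εX5, ε5, bd5, hmem5⟩ := five_data hG hM5 hr hno2 hno11
    have ht05 : trivIrr G ∈ X5 ∪ Y5 := (hmem5 _).2 (trivIrr_mem_principalBlock hM5p.ne_top)
    apply caseL_false dd bd5 ht05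
    intro χ
    by_cases hχ : χ ∈ X ∪ Y
    · rw [Finset.mem_union] at hχ
      rcases hχ with hχ | hχ
      · rcases bd.memX11 dd hχ with h | h | h | h
        · exact Or.inl h.1
        · exact Or.inr (Or.inr (Or.inl h.1))
        · exact Or.inr (Or.inr (Or.inr (Or.inl h.1)))
        · exfalso
          have hne : χ ≠ trivIrr G := by
            rintro rfl
            have := dd.one
            omega
          have : 0 < ((X.erase (trivIrr G)).filter (fun χ => deg χ = 45)).card := by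
            rw [Finset.card_pos]
            exact ⟨χ, Finset.mem_filter.2 ⟨Finset.mem_erase.2 ⟨hne, hχ⟩, h.1⟩⟩
          omega
      · exact Or.inr (Or.inl (hY5 χ hχ))
    · exact Or.inr (Or.inr (Or.inr (Or.inr (h11out χ hχ))))
  · -- case M
    have hno2 : ∀ y : G, orderOf y = 2 → y * r = r * y → False :=
      fun y hy hyr => no2_caseM hG bd h0X hrel hY16 c12 hr hy hyr
    obtain ⟨h5all, X5, Y5, εX5, ε5, bd5, hmem5⟩ := five_data hG hM5 hr hno2 hno11
    have ht05 : trivIrr G ∈ X5 ∪ Y5 := (hmem5 _).2 (trivIrr_mem_principalBlock hM5p.ne_top)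
    have hXmem : ∀ χ ∈ X, deg χ = 1 ∨ deg χ = 10 ∨ deg χ = 45 := by
      intro χ hχ
      rcases bd.memX11 dd hχ with h | h | h | h
      · exact Or.inl h.1
      · exact Or.inr (Or.inl h.1)
      · exfalso
        have hne : χ ≠ trivIrr G := by
          rintro rfl
          have := dd.one
          omega
        have : 0 < ((X.erase (trivIrr G)).filter (fun χ => deg χ = 12)).card := by
          rw [Finset.card_pos]
          exact ⟨χ, Finset.mem_filter.2 ⟨Finset.mem_erase.2 ⟨hne, hχ⟩, h.1⟩⟩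
        omega
      · exact Or.inr (Or.inr h.1)
    have h0mem : ∀ χ ∈ X ∪ Y, deg χ = 1 ∨ deg χ = 10 ∨ deg χ = 45 ∨ deg χ = 16 := by
      intro χ hχ
      rw [Finset.mem_union] at hχ
      rcases hχ with hχ | hχ
      · rcases hXmem χ hχ with h | h | h
        · exact Or.inl h
        · exact Or.inr (Or.inl h)
        · exact Or.inr (Or.inr (Or.inl h))
      · exact Or.inr (Or.inr (Or.inr (hY16 χ hχ)))
    have havail : ∀ χ : IrrCharacter G, deg χ = 1 ∨ deg χ = 10 ∨ deg χ = 16 ∨ deg χ = 45 ∨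
        11 ∣ deg χ := by
      intro χ
      by_cases hχ : χ ∈ X ∪ Y
      · rcases h0mem χ hχ with h | h | h | h
        · exact Or.inl h
        · exact Or.inr (Or.inl h)
        · exact Or.inr (Or.inr (Or.inr (Or.inl h)))
        · exact Or.inr (Or.inr (Or.inl h))
      · exact Or.inr (Or.inr (Or.inr (Or.inr (h11out χ hχ))))
    obtain ⟨h5mem, h5_11, h5_44⟩ := caseM_counts dd bd5 ht05 havail
    have h5out : ∀ χ : IrrCharacter G, χ ∉ X5 ∪ Y5 → 5 ∣ deg χ := by
      intro χ hχ
      by_contra h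
      exact hχ ((hmem5 χ).2 (h5all χ h))
    have hfiltX : ∀ n, n ≠ 1 → n ≠ 16 → (X ∪ Y).filter (fun χ => deg χ = n) =
        (X.erase (trivIrr G)).filter (fun χ => deg χ = n) := by
      intro n hn1 hn16
      ext χ
      rw [Finset.mem_filter, Finset.mem_filter, Finset.mem_union, Finset.mem_erase]
      constructor
      · rintro ⟨hχ | hχ, h⟩
        · refine ⟨⟨?_, hχ⟩, h⟩
          rintro rfl
          rw [dd.one] at h
          exact hn1 h.symm
        · rw [hY16 χ hχ] at h
          exact absurd h.symm hn16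
      · rintro ⟨⟨_, hχ⟩, h⟩
        exact ⟨Or.inl hχ, h⟩
    have h0_10 : ((X ∪ Y).filter (fun χ => deg χ = 10)).card = 3 := by
      rw [hfiltX 10 (by norm_num) (by norm_num), c10]
    have h0_45 : ((X ∪ Y).filter (fun χ => deg χ = 45)).card = 1 := by
      rw [hfiltX 45 (by norm_num) (by norm_num), c45]
    have h0_16 : ((X ∪ Y).filter (fun χ => deg χ = 16)).card = 2 := by
      have : (X ∪ Y).filter (fun χ => deg χ = 16) = Y := by
        ext χ
        rw [Finset.mem_filter, Finset.mem_union]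
        constructor
        · rintro ⟨hχ | hχ, h⟩
          · rcases hXmem χ hχ with h' | h' | h' <;> omega
          · exact hχ
        · intro hχ
          exact ⟨Or.inr hχ, hY16 χ hχ⟩
      rw [this, bd.cardY]
    exact final_count dd (X ∪ Y) (X5 ∪ Y5) h0mem h11out h0_10 h0_45 h0_16 h5mem h5out h5_11 h5_44

end

end Cfsg.Agent.Lib.Helper1.O7920
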