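import Mathlib
import Cfsg.Agent.S0287
import Cfsg.Agent.Lib.Helper2.QuadStd
import Cfsg.Agent.Lib.Helper2.CentOmega6
import Cfsg.Agent.Lib.Helper2.LongRoot18
import Cfsg.Agent.Lib.Helper2.CDGen

/-!
# The group `Ω₈⁺(2)` acting on the 256 coded vectors
-/

set_option autoImplicit false
set_option maxRecDepth 100000

namespace Cfsg.Agent.Lib.Helper1.O8

open Matrix Equiv Cfsg.Agent.Lib.Helper5.QuadGlue Cfsg.Agent.Lib.Helper2
  Cfsg.Agent.Lib.Helper2.CDG

/-- the quadratic form -/
noncomputable abbrev QF : QuadraticForm (ZMod 2) (Fin 4 ⊕ Fin 4 → ZMod 2) := QP 4 (ZMod 2)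

/-- the orthogonal group -/
abbrev O8 := ↥(Cfsg.isometryGroup (ZMod 2) ⇑QF)

/-- the group -/
abbrev G8 := ↥(Cfsg.Omega (ZMod 2) ⇑QF)

/-- the vectors -/
abbrev V8 := Fin 4 ⊕ Fin 4 → ZMod 2

/-- the vector with a given code -/
def dec (n : Fin 256) : V8 := fun i =>
  match i with
  | .inl i => if n.val.testBit i.val then 1 else 0
  | .inr i => if n.val.testBit (4 + i.val) then 1 else 0

/-- the code of a vector -/
def enc (x : V8) : Fin 256 :=
  Fin.ofNat 256 ((x (.inl 0)).val + 2 * (x (.inl 1)).val + 4 * (x (.inl 2)).val +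
    8 * (x (.inl 3)).val + 16 * (x (.inr 0)).val + 32 * (x (.inr 1)).val +
    64 * (x (.inr 2)).val + 128 * (x (.inr 3)).val)

theorem enc_dec : ∀ n : Fin 256, enc (dec n) = n := by decide +kernel

theorem dec_injective : Function.Injective dec :=
  Function.LeftInverse.injective enc_dec

theorem dec_surjective : Function.Surjective dec := by
  have hc : Fintype.card V8 = Fintype.card (Fin 256) := by
    rw [Fintype.card_fun, Fintype.card_sum, Fintype.card_fin, ZMod.card, Fintype.card_fin]
    norm_num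
  exact ((Fintype.bijective_iff_injective_and_card dec).mpr ⟨dec_injective, hc.symm⟩).2

theorem dec_enc (x : V8) : dec (enc x) = x := by
  obtain ⟨n, rfl⟩ := dec_surjective x
  rw [enc_dec]

/-- the matrix of an isometry -/
abbrev mat (g : O8) : Matrix (Fin 4 ⊕ Fin 4) (Fin 4 ⊕ Fin 4) (ZMod 2) :=
  ((g : Matrix.GeneralLinearGroup (Fin 4 ⊕ Fin 4) (ZMod 2)) : Matrix _ _ (ZMod 2))

theorem inv_mulVec_mulVec (g : O8) (x : V8) : mat g⁻¹ *ᵥ (mat g *ᵥ x) = x := by
  rw [← mul_mulVec, inv_mul_cancel, one_mulVec']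

theorem mulVec_inv_mulVec (g : O8) (x : V8) : mat g *ᵥ (mat g⁻¹ *ᵥ x) = x := by
  rw [← mul_mulVec, mul_inv_cancel, one_mulVec']

/-- the action of the orthogonal group on the coded vectors -/
noncomputable def φO : O8 →* Perm (Fin 256) where
  toFun g :=
    { toFun := fun n => enc (mat g *ᵥ dec n)
      invFun := fun n => enc (mat g⁻¹ *ᵥ dec n)
      left_inv := fun n => by
        show enc (mat g⁻¹ *ᵥ dec (enc (mat g *ᵥ dec n))) = n
        rw [dec_enc, inv_mulVec_mulVec, enc_dec]
      right_inv := fun n => by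
        show enc (mat g *ᵥ dec (enc (mat g⁻¹ *ᵥ dec n))) = n
        rw [dec_enc, mulVec_inv_mulVec, enc_dec] }
  map_one' := by
    apply Equiv.ext
    intro n
    show enc (mat 1 *ᵥ dec n) = n
    rw [one_mulVec', enc_dec]
  map_mul' g h := by
    apply Equiv.ext
    intro n
    show enc (mat (g * h) *ᵥ dec n) = enc (mat g *ᵥ dec (enc (mat h *ᵥ dec n)))
    rw [dec_enc, mul_mulVec]

theorem φO_apply (g : O8) (n : Fin 256) : φO g n = enc (mat g *ᵥ dec n) := rfl

theorem dec_φO (g : O8) (n : Fin 256) : dec (φO g n) = mat g *ᵥ dec n := by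
  rw [φO_apply, dec_enc]

theorem φO_injective : Function.Injective φO := by
  intro g h hgh
  apply iso_ext
  intro x
  obtain ⟨n, rfl⟩ := dec_surjective x
  rw [← dec_φO, ← dec_φO, hgh]

/-- the action of the group on the coded vectors -/
noncomputable def φ : G8 →* Perm (Fin 256) := φO.comp (Subgroup.subtype _)

theorem φ_apply (g : G8) : φ g = φO g.1 := rfl

theorem φ_injective : Function.Injective φ :=
  φO_injective.comp Subtype.val_injective

/-- the quadratic form on the codes -/
def qN (n : ℕ) : Bool :=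
  (n.testBit 0 && n.testBit 4) ^^ (n.testBit 1 && n.testBit 5) ^^ (n.testBit 2 && n.testBit 6) ^^
    (n.testBit 3 && n.testBit 7)

/-- the polar form on the codes -/
def bN (n k : ℕ) : Bool := qN (n ^^^ k) ^^ qN n ^^ qN k

/-- the reflections on the codes -/
def rfN (k n : ℕ) : ℕ := if bN n k then n ^^^ k else n

theorem q_chk : ∀ k : Fin 256, Cfsg.quadFormPlus 4 (ZMod 2) (dec k) = if qN k.val then 1 else 0 := by
  decide +kernel

theorem QF_dec (k : Fin 256) : QF (dec k) = if qN k.val then 1 else 0 := by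
  rw [QP_apply]; exact q_chk k

theorem rf_chk : ∀ k n : Fin 256, qN k.val = true →
    (enc (dec n - ((Cfsg.quadFormPlus 4 (ZMod 2) (dec k))⁻¹ *
      (Cfsg.quadFormPlus 4 (ZMod 2) (dec k + dec n) - Cfsg.quadFormPlus 4 (ZMod 2) (dec k) -
        Cfsg.quadFormPlus 4 (ZMod 2) (dec n))) • dec k)).val = rfN k.val n.val := by
  decide +kernel

/-- the reflection with the vector of code `k` -/
noncomputable def rf (k : Fin 256) : O8 :=
  if h : QF (dec k) ≠ 0 then refl QF (dec k) h else 1

theorem QF_ne_zero (k : Fin 256) (hk : qN k.val = true) : QF (dec k) ≠ 0 := by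
  rw [QF_dec, if_pos hk]; exact one_ne_zero

theorem rf_eq (k : Fin 256) (hk : qN k.val = true) : rf k = refl QF (dec k) (QF_ne_zero k hk) := by
  unfold rf
  rw [dif_pos (QF_ne_zero k hk)]

theorem φO_rf (k n : Fin 256) (hk : qN k.val = true) : (φO (rf k) n).val = rfN k.val n.val := by
  rw [φO_apply, rf_eq k hk, refl_mulVec]
  have h := rf_chk k n hk
  unfold QuadraticMap.polar
  rw [QP_apply, QP_apply, QP_apply]
  exact h

theorem rf_mul_self (k : Fin 256) : rf k * rf k = 1 := by
  unfold rf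
  split_ifs with h
  · exact refl_mul_self _ h
  · exact one_mul 1

end Cfsg.Agent.Lib.Helper1.O8
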