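import Mathlib
import Cfsg.Agent.Lib.Helper1.O8A

/-!
# The group `Ω₈⁺(2)`: its order, it is simple, and it is isomorphic to the projective group over
any field with two elements
-/

set_option autoImplicit false

namespace Cfsg.Agent.Lib.Helper1.O8

open Matrix Equiv Cfsg.Agent.Lib.Helper5.QuadGlue Cfsg.Agent.Lib.Helper2
  Cfsg.Agent.Lib.Helper2.CDG

section congr

variable {F F' : Type*} [Field F] [Field F'] {ι : Type} [Fintype ι] [DecidableEq ι]

/-- the isomorphism of general linear groups induced by an isomorphism of fields -/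
def glCongr (φ : F ≃+* F') : GL ι F ≃* GL ι F' :=
  Units.mapEquiv (RingEquiv.mapMatrix φ).toMulEquiv

theorem coe_glCongr (φ : F ≃+* F') (g : GL ι F) :
    ((glCongr φ g : GL ι F') : Matrix ι ι F') = (g : Matrix ι ι F).map φ := rfl

theorem glCongr_symm_apply (φ : F ≃+* F') (g : GL ι F') :
    glCongr φ (glCongr (ι := ι) φ.symm g) = g := by
  apply Units.ext
  rw [coe_glCongr, coe_glCongr]
  ext i j
  simp

theorem glCongr_mulVec (φ : F ≃+* F') (g : GL ι F) (w : ι → F) :
    (Units.coeHom (Matrix ι ι F') (glCongr φ g)) *ᵥ (φ ∘ w) =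
      φ ∘ ((Units.coeHom (Matrix ι ι F) g) *ᵥ w) := by
  ext i
  exact (RingHom.map_mulVec (φ : F →+* F') (g : Matrix ι ι F) w i).symm

theorem glCongr_mem (φ : F ≃+* F') (Q : (ι → F) → F) (Q' : (ι → F') → F')
    (hQ : ∀ v, Q' (φ ∘ v) = φ (Q v)) (g : GL ι F) (hg : g ∈ Cfsg.isometryGroup F Q) :
    glCongr φ g ∈ Cfsg.isometryGroup F' Q' := by
  intro u' _
  have hu : u' = φ ∘ (φ.symm ∘ u') := by ext i; simp
  show Q' ((Units.coeHom (Matrix ι ι F') (glCongr φ g)) *ᵥ u') = Q' u'
  rw [hu, glCongr_mulVec, hQ, hQ]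
  exact congrArg φ (hg _ (φ.symm ∘ u'))

theorem map_isometryGroup (φ : F ≃+* F') (Q : (ι → F) → F) (Q' : (ι → F') → F')
    (hQ : ∀ v, Q' (φ ∘ v) = φ (Q v)) :
    (Cfsg.isometryGroup F Q).map (glCongr φ).toMonoidHom = Cfsg.isometryGroup F' Q' := by
  have hQ' : ∀ v, Q (φ.symm ∘ v) = φ.symm (Q' v) := by
    intro v
    apply φ.injective
    rw [← hQ, RingEquiv.apply_symm_apply]
    congr 1
    ext i; simp
  ext g'
  constructor
  · rintro ⟨g, hg, rfl⟩
    exact glCongr_mem φ Q Q' hQ g hg
  · intro hg'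
    exact ⟨glCongr φ.symm g', glCongr_mem φ.symm Q' Q hQ' g' hg', glCongr_symm_apply φ g'⟩

/-- the isometry groups over isomorphic fields are isomorphic -/
noncomputable def isoCongr (φ : F ≃+* F') (Q : (ι → F) → F) (Q' : (ι → F') → F')
    (hQ : ∀ v, Q' (φ ∘ v) = φ (Q v)) :
    ↥(Cfsg.isometryGroup F Q) ≃* ↥(Cfsg.isometryGroup F' Q') :=
  (MulEquiv.subgroupMap (glCongr φ) (Cfsg.isometryGroup F Q)).trans
    (MulEquiv.subgroupCongr (map_isometryGroup φ Q Q' hQ))

end congr

/-- the commutator subgroups of isomorphic groups are isomorphic -/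
noncomputable def commCongr {A B : Type*} [Group A] [Group B] (e : A ≃* B) :
    ↥(commutator A) ≃* ↥(commutator B) :=
  (MulEquiv.subgroupMap e (commutator A)).trans (MulEquiv.subgroupCongr (by
    rw [commutator_def, commutator_def]
    have h := Subgroup.map_commutator (⊤ : Subgroup A) ⊤ e.toMonoidHom
    rw [Subgroup.map_top_of_surjective e.toMonoidHom e.surjective] at h
    exact h))

theorem QF_nondeg : (QuadraticMap.polarBilin QF).Nondegenerate := QuadStd.QP_nondeg 4

theorem card_idx : Fintype.card (Fin 4 ⊕ Fin 4) = 8 := by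
  rw [Fintype.card_sum, Fintype.card_fin]

theorem two_eq_zero : (2 : ZMod 2) = 0 := by decide

/-- the order of the orthogonal group -/
theorem card_O8 : Nat.card O8 = 348364800 := by
  have h := Cfsg.Agent.S0287.result (F := ZMod 2) (q := 2) (ZMod.card 2) 4 (by norm_num)
  rw [← QuadStd.QP_coe] at h
  rw [h]
  decide

theorem index_G8 : (Cfsg.Omega (ZMod 2) ⇑QF).index = 2 :=
  CentO.index_two two_eq_zero QF_nondeg (Or.inr (by rw [card_idx]; norm_num))
    (by rw [card_idx]; norm_num)

/-- the order of the group -/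
theorem card_G8 : Nat.card G8 = 174182400 := by
  have h := Subgroup.card_mul_index (Cfsg.Omega (ZMod 2) ⇑QF)
  rw [index_G8, card_O8] at h
  have h' : Nat.card G8 * 2 = 348364800 := h
  omega

instance finite_G8 : Finite G8 := Nat.finite_of_card_ne_zero (by rw [card_G8]; norm_num)

theorem center_eq_bot {F : Type*} [Field F] [Fintype F] (h2 : (2 : F) = 0) :
    Subgroup.center ↥(Cfsg.Omega F ⇑(QP 4 F)) = ⊥ := by
  classical
  have h := CentO.card_center_of_not (Q := QP 4 F) (QuadStd.QP_nondeg 4)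
    (by rw [card_idx]; norm_num) (Or.inl h2)
  exact Subgroup.card_eq_one.mp h

/-- the group is isomorphic to the projective group over a field with two elements -/
noncomputable def pOmegaEquiv {F : Type*} [Field F] [Fintype F] (hF : Fintype.card F = 2) :
    G8 ≃* Cfsg.POmega F ⇑(QP 4 F) :=
  haveI : Fact (Nat.Prime 2) := ⟨Nat.prime_two⟩
  have h2 : (2 : F) = 0 := by
    have h := Nat.cast_card_eq_zero F
    rw [hF] at h
    exact_mod_cast h
  (commCongr (isoCongr (ZMod.ringEquivOfPrime F Nat.prime_two hF) ⇑QF ⇑(QP 4 F) (by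
    intro v
    rw [QP_apply, QP_apply]
    unfold Cfsg.quadFormPlus
    rw [map_sum]
    apply Finset.sum_congr rfl
    intro i _
    rw [map_mul]
    rfl))).trans
    ((QuotientGroup.quotientBot).symm.trans
      (QuotientGroup.quotientMulEquivOfEq (center_eq_bot h2).symm))

instance isSimpleGroup_G8 : IsSimpleGroup G8 := by
  haveI : IsSimpleGroup (Cfsg.POmega (ZMod 2) ⇑QF) :=
    LongRoot.simple_POmega QF_nondeg (by rw [card_idx]; norm_num)
  exact (pOmegaEquiv (F := ZMod 2) (ZMod.card 2)).isSimpleGroup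

end Cfsg.Agent.Lib.Helper1.O8
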