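import Mathlib
import Cfsg.Agent.Lib.Helper1.O8Z
import Cfsg.Agent.Lib.Helper1.O8Dat
import Cfsg.Agent.Lib.Helper1.MatCode3
import Cfsg.Agent.Lib.Helper2.Spinor3
import Cfsg.Agent.S2635

/-!
# The group `Ω₈⁺(2)`: two generators of order 7, their tables on the 256 coded vectors, and words
-/

set_option autoImplicit false
set_option maxRecDepth 100000

namespace Cfsg.Agent.Lib.Helper1.O8

open Matrix Equiv Cfsg.Agent.Lib.Helper5.QuadGlue Cfsg.Agent.Lib.Helper2
  Cfsg.Agent.Lib.Helper2.CDG Cfsg.Agent.Lib.Helper1.MatCode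

theorem comm_eq_closure : commutator O8 = Subgroup.closure {g : O8 | ∃ u v : V8, QF u ≠ 0 ∧
    QF v ≠ 0 ∧ mat g = Cfsg.reflectionMatrix ⇑QF u * Cfsg.reflectionMatrix ⇑QF v} :=
  Cfsg.Agent.S2635.aux two_eq_zero (by rw [card_idx]; norm_num)
    (Or.inr (by rw [card_idx]; norm_num)) QF QF_nondeg

theorem rf_mul_mem (k l : Fin 256) (hk : qN k.val = true) (hl : qN l.val = true) :
    rf k * rf l ∈ Cfsg.Omega (ZMod 2) ⇑QF := by
  show rf k * rf l ∈ commutator O8
  rw [comm_eq_closure]
  apply Subgroup.subset_closure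
  refine ⟨dec k, dec l, QF_ne_zero k hk, QF_ne_zero l hl, ?_⟩
  rw [rf_eq k hk, rf_eq l hl]
  rfl

theorem φO_rf2 (k l : Fin 256) (hk : qN k.val = true) (hl : qN l.val = true) (n : Fin 256)
    (y : ℕ) (hy : n.val = y) : (φO (rf k * rf l) n).val = rfN k.val (rfN l.val y) := by
  rw [map_mul, Perm.mul_apply, φO_rf _ _ hk, φO_rf _ _ hl, hy]

/-- the generators, in the orthogonal group -/
noncomputable def aO : O8 := rf 68 * rf 116 * (rf 53 * rf 69) * (rf 214 * rf 54)

noncomputable def bO : O8 := rf 209 * rf 99 * (rf 23 * rf 78) * (rf 182 * rf 34)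

theorem aO_mem : aO ∈ Cfsg.Omega (ZMod 2) ⇑QF :=
  Subgroup.mul_mem _ (Subgroup.mul_mem _ (rf_mul_mem 68 116 (by decide) (by decide))
    (rf_mul_mem 53 69 (by decide) (by decide))) (rf_mul_mem 214 54 (by decide) (by decide))

theorem bO_mem : bO ∈ Cfsg.Omega (ZMod 2) ⇑QF :=
  Subgroup.mul_mem _ (Subgroup.mul_mem _ (rf_mul_mem 209 99 (by decide) (by decide))
    (rf_mul_mem 23 78 (by decide) (by decide))) (rf_mul_mem 182 34 (by decide) (by decide))

/-- the generators -/
noncomputable def gA : G8 := ⟨aO, aO_mem⟩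

noncomputable def gB : G8 := ⟨bO, bO_mem⟩

/-- the generators -/
noncomputable abbrev GG : List G8 := [gA, gB]

theorem tabA_chk : ∀ x : Fin 256,
    rfN 68 (rfN 116 (rfN 53 (rfN 69 (rfN 214 (rfN 54 x.val))))) = fT 0 x.val := by decide +kernel

theorem tabB_chk : ∀ x : Fin 256,
    rfN 209 (rfN 99 (rfN 23 (rfN 78 (rfN 182 (rfN 34 x.val))))) = fT 1 x.val := by decide +kernel

theorem φ_gA (x : Fin 256) : (φ gA x).val = fT 0 x.val := by
  rw [← tabA_chk x]
  show (φO aO x).val = _
  unfold aO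
  rw [map_mul, map_mul, Perm.mul_apply, Perm.mul_apply]
  exact φO_rf2 68 116 (by decide) (by decide) _ _
    (φO_rf2 53 69 (by decide) (by decide) _ _ (φO_rf2 214 54 (by decide) (by decide) _ _ rfl))

theorem φ_gB (x : Fin 256) : (φ gB x).val = fT 1 x.val := by
  rw [← tabB_chk x]
  show (φO bO x).val = _
  unfold bO
  rw [map_mul, map_mul, Perm.mul_apply, Perm.mul_apply]
  exact φO_rf2 209 99 (by decide) (by decide) _ _
    (φO_rf2 23 78 (by decide) (by decide) _ _ (φO_rf2 182 34 (by decide) (by decide) _ _ rfl))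

/-- the action of a word on a point, on the tables -/
def wordTab (w : List ℕ) (x : ℕ) : ℕ := w.foldr (fun i x => fT i x) x

theorem φ_GG (i : ℕ) (hi : i < 2) (x : Fin 256) : (φ (GG.getD i 1) x).val = fT i x.val := by
  interval_cases i
  · exact φ_gA x
  · exact φ_gB x

theorem φ_wordProd (w : List ℕ) (hw : ∀ i ∈ w, i < 2) (x : Fin 256) :
    (φ (wordProd GG w) x).val = wordTab w x.val := by
  induction w with
  | nil => simp [wordProd_nil, wordTab]
  | cons i w ih =>
    rw [wordProd_cons, map_mul, Perm.mul_apply, φ_GG i (hw i (by simp))]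
    rw [ih (fun i' hi' => hw i' (by simp [hi']))]
    rfl

/-- the boolean comparison of two words -/
def wordBeq (w w' : List ℕ) : Bool :=
  (w.all fun i => decide (i < 2)) && (w'.all fun i => decide (i < 2)) &&
    (List.range 256).all fun x => wordTab w x == wordTab w' x

theorem eq_of_wordBeq (w w' : List ℕ) (h : wordBeq w w' = true) :
    wordProd GG w = wordProd GG w' := by
  unfold wordBeq at h
  simp only [Bool.and_eq_true, List.all_eq_true, decide_eq_true_eq, beq_iff_eq, List.mem_range]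
    at h
  obtain ⟨⟨h1, h2⟩, h3⟩ := h
  apply φ_injective
  apply Equiv.ext
  intro x
  apply Fin.ext
  rw [φ_wordProd w h1, φ_wordProd w' h2]
  exact h3 x.val x.isLt

theorem wordProd_replicate' {Γ : Type*} [Group Γ] (G : List Γ) (i n : ℕ) :
    wordProd G (List.replicate n i) = (G.getD i 1) ^ n := by
  induction n with
  | zero => simp [wordProd_nil]
  | succ n ih => rw [List.replicate_succ, wordProd_cons, ih, pow_succ']

theorem gA_pow : gA ^ 7 = 1 := by
  have h := eq_of_wordBeq (List.replicate 7 0) [] (by decide +kernel)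
  rwa [wordProd_replicate', wordProd_nil] at h

theorem gB_pow : gB ^ 7 = 1 := by
  have h := eq_of_wordBeq (List.replicate 7 1) [] (by decide +kernel)
  rwa [wordProd_replicate', wordProd_nil] at h

theorem hrel : ∀ w ∈ relsL, wordProd GG w.1 = wordProd GG w.2 := by
  have h : relsL.all (fun w => wordBeq w.1 w.2) = true := by decide +kernel
  rw [List.all_eq_true] at h
  intro w hw
  exact eq_of_wordBeq _ _ (h w hw)

end Cfsg.Agent.Lib.Helper1.O8
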