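import Mathlib
import Cfsg.Agent.Lib.Helper1.StemZD3
import Cfsg.Agent.Lib.Helper1.StemZE2
import Cfsg.Agent.Lib.Helper1.O8Dat

set_option autoImplicit false
set_option maxRecDepth 100000
set_option maxHeartbeats 8000000

/-! The group `Ω₈⁺(2)` acting on the 120 nonsingular vectors: the tables and the certificates for
the kernels that are 2-groups, 3-groups and 5-groups. -/

namespace Cfsg.Agent.Lib.Helper1.O8C

open Cfsg.Agent.Lib.Helper1 Cfsg.Agent.Lib.Helper1.O8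

def PLN : ℕ := 0xa8713ee85b957c8ffe9e98323acae362e579ee3d1bb591ef6af4a336399c46896d97d6dad4c8df4764562ae2e9ac6b93d1d817f2f7d3dd887fb1e4a74d538c77bc8ba2fb4eb84f7a2e4451f88e72bb35b254b6455e13746cc5bf1fa6a99a192359152bc6f127c931228aad8dfdcb631d264c5c65c72fc411

/-- the codes of the nonsingular vectors, in the order of the tree -/
def PL (j : ℕ) : ℕ := (PLN >>> (8 * j)) % 2 ^ 8

def piN : List ℕ := [0x150531b4300d05d0ec200c8771ac720fc1e1d8041a4751d0661cc220b8711c01211c2a1b8411b06f16055130601586a1681c10c68008671946418c100f41a138620506112c5f1285e0e05c16c000305915c360900a1180e018511485013c4d0b0281244805845110421003e0f0080e8390dc350cc310bc2d0ac180a4270982508c2107c1d06c1905c1504c1103c0d02c0901c0500c01, 0x108610242d1dc520f86a1cc671d0491d4641c4651d801014631345e1c8210a4231bc5c164621c0031b86d1b06b1a0570c43c1a44016c261982b1201f1145f03c3a01c50074600441b05c5d0d40b09c5a160561542f150531103713c510344e1304b1283311c460e4431043f0f4250ec130e0360d0320c02e0b02a0002805419090220801e0701a06016050120400e0300a0200601002]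
def parL : List (ℕ × ℕ) := [(0, 0), (0, 0), (1, 0), (0, 1), (1, 1), (0, 2), (1, 2), (0, 3), (1, 3), (0, 4), (1, 4), (0, 5), (1, 5), (0, 6), (1, 6), (0, 7), (1, 7), (0, 8), (1, 8), (0, 9), (1, 9), (0, 10), (1, 10), (0, 11), (1, 11), (0, 12), (1, 12), (0, 13), (1, 13), (0, 14), (1, 14), (0, 15), (1, 15), (0, 16), (1, 16), (0, 17), (1, 17), (0, 18), (0, 19), (0, 20), (1, 20), (0, 21), (1, 22), (0, 23), (1, 23), (0, 24), (1, 24), (0, 25), (1, 25), (0, 26), (1, 26), (0, 27), (1, 27), (0, 28), (1, 28), (0, 29), (1, 29), (0, 30), (0, 31), (1, 31), (0, 33), (1, 33), (0, 34), (1, 34), (0, 35), (1, 35), (0, 36), (1, 36), (0, 37), (0, 38), (1, 38), (1, 39), (0, 40), (0, 41), (1, 41), (1, 42), (1, 43), (0, 44), (1, 44), (0, 45), (0, 46), (1, 46), (0, 47), (1, 50), (1, 51), (1, 53), (1, 54), (0, 55), (1, 55), (0, 56), (1, 56), (0, 59), (0, 60),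 (1, 60), (0, 62), (0, 64), (1, 64), (0, 66), (0, 68), (0, 73), (0, 74), (0, 75), (1, 75), (0, 76), (0, 78), (1, 79), (0, 82), (1, 84), (1, 85), (1, 86), (1, 87), (0, 88), (1, 89), (0, 96), (1, 97), (0, 99), (0, 101), (0, 102), (1, 103), (0, 110)]

/-- the data of the labelled action -/
def D : StemSA.SAData where
  k := 2
  m := 120
  pi := fun i j => (piN.getD i 0 >>> (10 * j)) % 2 ^ 10
  par := fun j => parL.getD j (0, 0)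
  ords := [7, 7]
  rels := relsL
  specs := []
  Bm := fun _ => 0

def specsL : List (ℕ × ℕ) := [(0, 1), (0, 2), (0, 3), (0, 4), (0, 5), (0, 6), (0, 7), (0, 8), (0, 9), (0, 10), (0, 11), (0, 12), (0, 13), (0, 14), (0, 15), (0, 16), (0, 17), (0, 18), (0, 19), (0, 20), (0, 21), (0, 22), (0, 23), (0, 24), (0, 25), (0, 26), (0, 27), (0, 28), (0, 29), (0, 30), (0, 31), (0, 32), (0, 33), (0, 34), (0, 35), (0, 36), (0, 37), (0, 38), (0, 39), (0, 40), (0, 41), (0, 42), (0, 43), (0, 44), (0, 45), (0, 46), (0, 47), (0, 48), (0, 49), (0, 50), (0, 51), (0, 52), (0, 53), (0, 54), (0, 55), (0, 56), (0, 57), (0, 58), (0, 59), (0, 60), (0, 61), (0, 62), (0, 63), (0, 64), (0, 65), (0, 66), (0, 67), (0, 68), (0, 69), (0, 70), (0, 71), (0, 72), (0, 73), (0, 74), (0, 75), (0, 76), (0, 77), (0, 78), (0, 79), (0, 80), (0, 81), (0, 82), (0, 83), (0, 84),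 (0, 85), (0, 86), (0, 87), (0, 88), (0, 89), (0, 90), (0, 91), (0, 92), (0, 93), (0, 94), (0, 95), (0, 96), (0, 97), (0, 98), (0, 99), (0, 100), (0, 101), (0, 102), (0, 103), (0, 104), (0, 105), (0, 106), (0, 107), (0, 108), (0, 109), (0, 110), (0, 111), (0, 112), (0, 113), (0, 114), (0, 115), (0, 116), (0, 117), (0, 118), (0, 119), (1, 0), (1, 2), (1, 4), (1, 6), (1, 8), (1, 10), (1, 12), (1, 14), (1, 16), (1, 18), (1, 20), (1, 28), (1, 48), (1, 54), (1, 56), (1, 59), (1, 63), (1, 76), (2, 0), (2, 1), (2, 3), (2, 5), (2, 7), (2, 9), (2, 11), (2, 13), (2, 15), (2, 23), (2, 27), (2, 29), (2, 31), (2, 38), (2, 60), (2, 77), (2, 82), (2, 92), (3, 0), (3, 1), (3, 2), (3, 3), (3, 5), (3, 6), (3, 7), (3, 8), (3, 9), (3, 10), (3, 11), (3, 12), (3, 13), (3, 15), (3, 16), (3, 17), (3, 18), (3, 19), (3, 21), (3, 22), (3, 23), (3, 29), (3,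 30), (3, 33), (3, 35), (3, 36), (3, 39), (3, 42), (3, 47), (4, 0), (4, 1), (4, 2), (4, 3), (4, 4), (4, 5), (4, 6), (4, 7), (4, 8), (4, 9), (4, 10), (4, 11), (4, 12), (4, 13), (4, 14), (4, 15), (4, 16), (4, 17), (4, 18), (4, 19), (4, 20), (4, 21), (4, 22), (4, 23), (4, 24), (4, 25), (4, 26), (4, 27), (4, 28), (4, 29), (4, 30), (4, 31), (4, 32), (4, 33), (4, 34), (4, 35), (4, 36), (4, 37), (4, 38), (4, 39), (4, 40), (4, 41), (4, 42), (4, 43), (4, 44), (4, 45), (4, 46), (4, 47), (4, 48), (4, 49), (4, 50), (4, 51), (4, 52), (4, 53), (4, 54), (4, 55), (4, 59)]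

def BmL : List (List ℕ) := [[0x1, 0x4, 0x10, 0x40, 0x100, 0x400, 0x1000, 0x4000, 0x10000, 0x40000, 0x100000, 0x400000, 0x1000000, 0x4000000, 0x10000000, 0x40000000, 0x100000000, 0x400000000, 0x1000000000, 0x2000000000, 0x4000000000, 0x10000000000, 0xec2b84b0a67262261dc2f0aca45ea000000000000000000000000a0061b, 0x40000000000, 0x100000000000, 0x400000000000, 0x1000000000000, 0x4000000000000, 0x10000000000000, 0x40000000000000, 0x100000000000000, 0x200000000000000],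
  [0x1a5f601c9b05fce12e33e2d9bbd39c88000000000000000000000800040c0, 0x800000000000000, 0x2000000000000000, 0x8000000000000000, 0x20000000000000000, 0x80000000000000000, 0x100000000000000000, 0x1e000e7934ef1517ba0d5f80dada778800000000000000000004000280300, 0x800000000000000000, 0x1000000000000000000, 0x2000000000000000000000000000000000000000000000000000000000000, 0x16bb437b6c10df5938e40705fbafa060000000000000000000c0000000000, 0x10000000000000000000, 0x40000000000000000000, 0x80000000000000000000, 0x200000000000000000000, 0x32451c8bcafa01ea0f3b6135dea7c58800000000100000000a28001a80f00, 0x3443c3c2e21b1e9cb851f3abdba7ebe800000000000000001028002280b30, 0x116d2ce22b1c9589c878a9deaaddd02000000000000000002000002002830, 0x60defe68b462269f9254f7c3d7538780000000000020000400200404112b, 0x280279d6a29042727754aa67b4f8a8680000000000000000802800428112b,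 0x37ef9285679e44850dd175140d841270000000000000000100288082913a7, 0x1000000000000000000000000000000000, 0x4000000000000000000000, 0x10000000000000000000000, 0xc8210d2ef1c84da77fda77ebc2c8e0800000000000000100000020002830, 0x800000000000000200000040004045, 0x40000000000000000000000, 0x80000000000000000000000, 0x3f57b1d839f26c7362af1ea116d9b2d00000000000000108002811028a367, 0x200000000000000000000000, 0x3b4dccc6ea93dd734a743ff612a7b4280000000000200400003820038814c],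
  [0x400000000000000000000000, 0x318f7d05a7ed4c182e54af6b9d0760680000000000401000000840009018c, 0x1000000000000000000000000, 0x12ec9e10d52750c2748ed648c80819500000000000004000000080009018c, 0x2000000000000000000000000, 0x2257157dab7cd78b19b254f7b45e4fe8000000000201000000aa0006c061b, 0x324e2c24695d3cf54174bcd7e6d2d3d00000000000020000002a0022c0a1b, 0x254c2313be72bd84c6e3e201b8ef04f80000000000040100002c10020824c, 0xba2a8c909c2137541a5222a86bf76200000000000080000000800008814c, 0x4000000000000000000000000, 0x8000000000000000000000000, 0x10000000000000000000000000, 0x40000000000000000000000000, 0x16bb437b6c10df5938e40705fbafa07000000000010000000080000400410, 0x80000000000000000000000000, 0xc00bbed516e37b7e89e4b38be76107800000000040040000100800810497, 0xc0b90c1d0ee32f7ca9f5c9a9e766c3000000000080000000200008801430, 0x2f1ca81f19c25087fc346c4cdf7a360800000020100000080228010a82730,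 0x200000000000000000000000000, 0x25d4395a16043cf5535ff5157c9d07f00000000240000002202800a281b30, 0xd22be5a0c14df068ea3b1335d0068f0000008008000080040004040110a7, 0x90922ea10a837c9eedc5d29a71e9ac800000001008000010040008401430, 0x3aa501d3610a0f5a049d42733219b81000000003000000030028000280300, 0xc120e82d450ee7d4801d8199e5e29400000000c000000000000000000000, 0x4000000000000000000000000000, 0x1d4c22c2ef1a8347726f00cc71bcadf800800011000000090000018003000, 0x1d029c6025fe8e40ab924c90e4b0c200000000200000100800004100120a7, 0x15863c0be1a0800fe01f6f4811997cb802000044000000440000050006067, 0x2ba2a8c909c2137541a5222a86bf7e200000008000000080000810008814c, 0x12ac5205f7ca8fd6515efba63194a5a80000010000040080000410008814c, 0x2a6a796084826643c59e236214aed948000002000000020000282002a83c0, 0xd48cdc4c481e6b2c51bd8bc328a1c30080004100000080800004100120a7],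
  [0x10000000000000000000000000000, 0x3be40244b7707672c74e298e93f23e4000001000000020000228800a90797, 0x2a6a796084826643c59e236214aec948000020000000800000292002a83c0, 0x40000000000000000000000000000, 0x264a2643b624bf80201ea842643d89d000028000006000000018000180300, 0x80000000000000000000000000000, 0x100000000000000000000000000000, 0xf01363fe37d426202825bd1f5b460a000140000048000000140000c00000, 0x2257157dab7cd78b19b254f7b45e4fc8000800000200000000a800068071b, 0xf8b8f922865267e227400ce23e9b32200140000048000000140000c00000, 0xc8210d2ef1c84da77fda77ebc2c8c0800200000200000000400021002830, 0x196656a789a6a0b4616b6c8110345ce000400000800004004000204009067, 0x5797a9f333274eaf217a9f913ba2918208010010000200100008080110a7, 0x239786c2f568c2d145de9d9cc3db19500140000280000002402800c280300, 0x400000000000000000000000000000, 0x1d7f2260ff4c7bf4807971c73483fd6004000008000000042000012002830,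 0x1717add85f841a53eb283a658959803808000010000000080000090006067, 0xda608524957455ea336402995bbbfe0100008000000084000004400140c0, 0x10829893ac62a98c756aae33fda69760200011000000208000009000180c0, 0x280279d6a29042727754aa67b4f8a9684000400000100000803800438112b, 0x31d455f1512b933576c9ee82786ad1e88001000000400000080800108091b, 0x27f63ae0207900964edf66a9a57d78490102000200400002000800808112b, 0x16f2a3ceacbe607a99e8b1503fd7f6aa00040000408000002040002400c00, 0x15028a03a4e31a57cd8a9e52d926abac02000004800000044000014003000, 0x2, 0x8, 0x20, 0x80, 0x200, 0x800, 0x2000, 0x8000],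
  [0x20000, 0x80000, 0x200000, 0x800000, 0x2000000, 0x8000000, 0x20000000, 0x80000000, 0x200000000, 0x800000000, 0xc08a97f2404e0c65709fcc162715dc800000000000000000000001020897, 0xfc24eb379f3b36ea1020ea00dbb57800000000000000000000000140300, 0x8000000000, 0x17402b57271e6b231addd05c3346856800000000000000000000000100209, 0x20000000000, 0x80000000000, 0x200000000000, 0x800000000000, 0x2000000000000, 0x8000000000000, 0x20000000000000, 0x80000000000000, 0x17bc0fbc10815015f0cdf0b633bd30100000000000000000000002004212b, 0x400000000000000, 0x1bd77984d70d955d40cddee4c7613870000000000000000000010800240c0, 0x1000000000000000, 0x4000000000000000, 0x10000000000000000, 0x40000000000000000, 0x2a336fbd35f38433d60c2318f15ad8b0000000000000001000290202a23a7, 0x200000000000000000, 0x400000000000000000],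
  [0x11cdb1a1a7d84faa74d0bbc152ffce580000000000000000400800408112b, 0x2000000000000000000, 0x4000000000000000000, 0x8000000000000000000, 0x20000000000000000000, 0x18ca50281aa523c3bbf08844011a029000000000000000000100000801430, 0x100000000000000000000, 0x2d2cb83e3d79634016afa9aadc1f59a000000000040000000528001a80f00, 0x260f7a4c0d1ff9c5f2e724c4ae8a2f7000000000000000040828011282b30, 0x340f63912f465c749d280e9d8fde7b90000000000000800010290022a0b97, 0x400000000000000000000, 0x800000000000000000000, 0x10b618aa16c5bfa650460865f12d4b2800000000000000008400005001830, 0x1000000000000000000000, 0x2000000000000000000000, 0x8000000000000000000000, 0x20000000000000000000000, 0x244df2a0df3d7d079eec35bbc16f2d180000000000000010002c02020222b, 0x201a0ba1f77ad6f8431fa6c742ec76a800000000000000200028040284757, 0x3e642b5768afd6cef52ca95accc7bd1800000000000000410028048285367,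 0x100000000000000000000000, 0x706eafcdffe6b7dad28ca253a87ef9800000000000001000000100408457, 0x20a02a740ce93b7b0fed0804a2c0eb8800000000000002000028204289367, 0x11a5318cb3bebac1d184154f3829abe0000000000000040000002000180c0, 0x800000000000000000000000, 0x92fdaa6aeae4c8a22af319179806610000000000000100000004100120a7, 0x2e086746d4271da0ce819d764dbbafc800000000080020000228800a90797, 0x11a5318cb3bebac1d184154f3a29abe0000000000000400000008000100c0, 0x1b58f6a380fdb95b8706f477cfee7be0000000000000802000010400240c0, 0x14136cc692f21ca0dfc823ffc111a0b00000000000010000000200004414c, 0xb64801e1c54e14a2c7e1a165f4304100000040000020800000240005018c, 0x1ba885faf3170c9d7e5ebb816456d68000000000005000000060000c0000],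
  [0x378802424a91c6ea2178564a71d8b5680000000000080000002004020424c, 0x1bcbc7b618b38346c738109db5399c9000000000001800000018000180300, 0xfc923864c0e9e8377a1492a59cc3b600000000000200000005000050061b, 0x20000000000000000000000000, 0x12dc5f0ef5a3036d9d531d2409c6c3c00000000000800000004200044051b, 0x20c69b7de4af4e2ef3d39bd8b3f713e0000000400100004000a8040684757, 0x2eb38f29af36b4c870edbf90deeb2e70000000000200080000a8400690797, 0x100000000000000000000000000, 0x22ba5241acbdc7a134219007f2c2b4a800000000080000800228100a88757, 0xf4d9e9358c133d759315c2d0adc76d800000000100000001200002800c00, 0x39ee41f7703261b4a1d64bc0666ddc8000000004200000040428011282b30, 0x4d4d437e3fce3f16849569fc4ed099000080000420000002080002400c00, 0x400000000000000000000000000, 0x800000000000000000000000000, 0x1000000000000000000000000000, 0x2000000000000000000000000000, 0x2a07d333291b1903a5eed805cc7b72b800000008000000040028010282327,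 0x8000000000000000000000000000, 0x2f51dcd634b8a3906800793f01c8f5f8000020200000800800290102a23a7, 0x3af30d9ffc5b68c3b9aa837e3e7b20f800000050000000480028050286367, 0x400000000000000000000000000000000000000, 0x153c24ab5bff447a49e915d5c104a6580400010800000084000011000a067, 0x3a8344ddda48e6f05eab90578c9e04f0000002000000020000286002983c0, 0x1671fc96a5f97ca4c68c4e1c0f49fcb00000040000000800001040011028c, 0x29b565d570c8dfb5ddc575b5a46cc1e8000008000000080000285002983c0, 0x20000000000000000000000000000, 0x1cfd42ad405e09ea1404d8f8f4d69718000022000000820000012000280c0, 0x352f21117eb4ac0775accdacec09ff70000040000110000000b800078051b, 0x38225443e2a5f8decf1be33512928d980000c000003000000028000280300, 0x3bcaa2498a9e6476b26019c20305b0b80001000000400000000800008011b, 0x40000000020000004000000020000200208, 0x200000000000000000000000000000],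
  [0x3f1e767e69628787da294f5dc6e8b9280009000002400000008800048051b, 0x3d417887aa0bde880be8fdb9761f83c010100800040008000128400a90797, 0x3ff68da3710b5f0fb81cda7e61628ee80020800020200000043800138091b, 0x2c5a391a665f986c8b0979dd47f6a0c10042000080400000400800408112b, 0x1227eea33a8d9362136cef8f082694e00080000100100001001000810122b, 0x3bad3977c6a81586a30263c449df3eb88101000200400002000800808112b, 0x5e5dea636295840245b33b12b113af002040004008000040040010402430, 0x8dbbed54977afb8369c164aa57660304400400800100004001001010222b, 0x28ce6e13f5ee2d3b48d2ec511275cf1808200010200000080428011282b30, 0x207bf2678d5e391542ec547279ed7ac01000080000000a0000286002983c0, 0x171be97370ccd4e04dd1c666b639091820001000200020000400801010897, 0x35452c5568c7bf3cddddc542a49f19944200400400100004003801038212b, 0x2367695fdc0d364518f2eb8058c53c288001000000400000010800088051b,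 0x3d9788bbc187d7c6ffd9c21c11096e9900020000004000000008000080000, 0x2b10762236d7ed14c85cbe37fb45ef6a00041000008020000068800690797, 0x2410832c02d58eff5808cba47f94c49c020000040000200400288102923a7, 0x200000800004000000000000000000000000000000, 0x672fc47476db6441f54d1dcafc3876000000000000000000000000000000]]

def ysL : List (List ((ℕ × ℕ) × ℕ)) := [[((0, 9), 2), ((0, 10), 2), ((0, 20), 2), ((0, 22), 2), ((0, 40), 2), ((0, 42), 2), ((1, 6), 3), ((1, 8), 2), ((1, 12), 2), ((1, 14), 2), ((1, 16), 2), ((1, 18), 3), ((1, 48), 2), ((1, 54), 2), ((1, 56), 2), ((1, 63), 2), ((1, 76), 2), ((2, 0), 2), ((2, 1), 2), ((2, 7), 2), ((2, 9), 2), ((2, 11), 1), ((2, 13), 2), ((2, 15), 1), ((2, 27), 2), ((2, 60), 2), ((2, 77), 2), ((2, 82), 2), ((2, 92), 2), ((3, 1), 2), ((3, 3), 2), ((3, 6), 2), ((3, 9), 2), ((3, 11), 1), ((3, 16), 2), ((3, 29), 2),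 ((3, 33), 2), ((3, 35), 2), ((3, 36), 2), ((3, 42), 2), ((3, 51), 2), ((3, 71), 1), ((4, 0), 2), ((4, 1), 2), ((4, 3), 2), ((4, 7), 2), ((4, 9), 2), ((4, 10), 2), ((4, 11), 2), ((4, 12), 2), ((4, 14), 2), ((4, 16), 2), ((4, 20), 2), ((4, 23), 2), ((4, 24), 2), ((4, 26), 2), ((4, 30), 2), ((4, 32), 2), ((4, 33), 2), ((4, 34), 2), ((4, 36), 2), ((4, 38), 2), ((4, 46), 2), ((4, 47), 2), ((4, 48), 2), ((4, 49), 2), ((4, 50), 2), ((4, 53), 2)]]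

/-- the certificate for the prime 2 -/
def C2 : StemZD.ZDCert where
  specs := specsL
  bs := [42]
  Bm := fun b => (BmL.getD (b / 32) []).getD (b % 32) 0
  s := 2
  es := [1]
  ys := ysL

/-- the certificate for the prime 3 -/
def C3 : List (List ((ℕ × ℕ) × ℕ)) := [[((0, 1), 1)],
  [((0, 3), 1)],
  [((0, 5), 1)],
  [((0, 7), 1)],
  [((0, 9), 1)],
  [((0, 11), 1)],
  [((0, 13), 1)],
  [((0, 15), 1)],
  [((0, 17), 1)],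
  [((0, 19), 1)],
  [((0, 21), 1)],
  [((0, 23), 1)],
  [((0, 25), 1)],
  [((0, 27), 1)],
  [((0, 29), 1)],
  [((0, 31), 1)],
  [((0, 33), 1)],
  [((0, 35), 1)],
  [((0, 37), 1)],
  [((0, 38), 1)],
  [((0, 39), 1)],
  [((0, 41), 1)],
  [((0, 1), 2), ((0, 2), 1), ((0, 4), 2), ((0, 5), 1), ((0, 10), 2), ((0, 11), 1), ((0, 22), 2), ((0, 24), 1), ((2, 92), 2), ((1, 0), 1), ((1, 4), 2), ((1, 8), 1), ((1, 18), 2), ((1, 20), 1), ((1, 28), 2), ((1, 48), 1), ((1, 59), 2), ((2, 0), 1), ((2, 1), 1), ((2, 5), 2), ((2, 7), 1), ((2, 9), 1), ((2, 13), 2), ((2, 15), 2), ((2, 23), 1), ((2, 29), 1), ((2, 31), 1), ((2, 77), 2), ((2, 82), 2), ((3, 55), 1), ((3, 103), 1), ((3, 116), 1), ((3, 92), 1), ((3, 20), 2), ((3, 11), 2), ((3, 51), 2), ((3, 71), 2), ((3, 73), 1), ((3, 52), 2), ((4, 9), 2), ((4, 44), 1), ((4, 51), 1), ((4, 78), 2), ((4, 95), 1),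 ((4, 90), 1), ((3, 3), 1), ((3, 4), 1), ((3, 68), 2), ((4, 0), 2), ((4, 5), 2), ((4, 11), 1), ((4, 12), 2), ((4, 29), 1), ((4, 40), 2), ((4, 101), 2), ((4, 106), 2), ((4, 119), 2), ((4, 7), 2), ((4, 58), 2), ((4, 82), 2), ((3, 1), 2), ((3, 7), 2), ((3, 8), 2), ((3, 9), 2), ((3, 16), 1), ((3, 17), 1), ((3, 21), 2), ((3, 29), 2), ((3, 30), 2), ((3, 42), 1), ((4, 1), 1), ((4, 26), 2), ((4, 42), 2), ((4, 56), 2), ((4, 74), 1), ((4, 80), 2), ((4, 88), 1), ((4, 89), 2), ((4, 99), 2), ((4, 103), 1), ((4, 108), 2), ((4, 116), 2), ((4, 6), 2), ((4, 18), 1), ((4, 35), 2), ((4, 113), 2), ((4, 2), 2), ((4, 3), 1), ((4, 4), 2), ((4, 10), 1)],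
  [((0, 43), 1)],
  [((0, 45), 1)],
  [((0, 47), 1)],
  [((0, 49), 1)],
  [((0, 51), 1)],
  [((0, 53), 1)],
  [((0, 55), 1)],
  [((0, 57), 1)],
  [((0, 58), 1)],
  [((0, 7), 2), ((0, 8), 1), ((0, 15), 2), ((0, 32), 2), ((1, 54), 1), ((1, 6), 2), ((1, 8), 2), ((1, 12), 2), ((1, 14), 2), ((1, 18), 2), ((1, 28), 2), ((1, 76), 2), ((2, 0), 1), ((2, 5), 2), ((2, 7), 2), ((2, 9), 2), ((2, 11), 2), ((2, 15), 1), ((2, 27), 1), ((2, 31), 1), ((2, 38), 1), ((2, 77), 1), ((2, 82), 1), ((3, 55), 1), ((3, 103), 2), ((3, 116), 2), ((3, 92), 2), ((3, 51), 2), ((3, 43), 1), ((3, 69), 2), ((4, 8), 2), ((4, 9), 1), ((4, 37), 1), ((4, 44), 2), ((4, 51), 2), ((4, 75), 1), ((4, 78), 2), ((4, 92), 1), ((4, 95), 2), ((4, 90), 1), ((3, 3), 2), ((3, 68), 2), ((4, 0), 2), ((4, 29), 1), ((4, 49), 1), ((4, 55), 1), ((4, 101), 1), ((4, 106), 2), ((4, 119),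 2), ((4, 7), 1), ((4, 31), 1), ((4, 58), 1), ((4, 69), 1), ((3, 1), 1), ((3, 7), 2), ((3, 8), 1), ((3, 16), 2), ((3, 19), 1), ((3, 29), 2), ((3, 30), 1), ((3, 42), 1), ((4, 1), 2), ((4, 26), 2), ((4, 54), 1), ((4, 72), 1), ((4, 80), 1), ((4, 88), 1), ((4, 99), 2), ((4, 103), 2), ((4, 104), 2), ((4, 108), 2), ((4, 116), 2), ((4, 18), 1), ((4, 35), 1), ((4, 113), 2), ((4, 2), 2), ((4, 3), 2), ((4, 4), 1), ((4, 10), 1)],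
  [((0, 60), 1)],
  [((0, 62), 1)],
  [((0, 64), 1)],
  [((0, 66), 1)],
  [((0, 68), 1)],
  [((0, 69), 1)],
  [((0, 9), 2), ((0, 10), 1), ((0, 20), 2), ((0, 22), 1), ((0, 39), 2), ((2, 92), 1), ((1, 2), 1), ((1, 4), 1), ((1, 6), 1), ((1, 8), 2), ((1, 12), 2), ((1, 16), 1), ((1, 20), 1), ((1, 28), 1), ((1, 48), 2), ((1, 56), 1), ((1, 59), 2), ((1, 63), 2), ((1, 76), 1), ((2, 0), 2), ((2, 5), 1), ((2, 7), 2), ((2, 15), 1), ((2, 31), 1), ((2, 38), 1), ((2, 60), 1), ((2, 82), 1), ((3, 23), 2), ((3, 55), 2), ((3, 116), 1), ((3, 11), 2), ((3, 51), 1), ((3, 71), 1), ((3, 73), 2), ((3, 43), 2), ((3, 69), 2), ((4, 8), 2), ((4, 37), 1), ((4, 44), 1), ((4, 51), 2), ((4, 92), 1), ((4, 90), 2), ((3, 4), 2), ((3, 68), 2), ((4, 11), 2), ((4, 29), 1), ((4, 38), 1), ((4, 40), 2), ((4, 49), 2), ((4, 55), 2), ((4, 101), 1), ((4, 105), 2), ((4, 119),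 1), ((4, 7), 1), ((4, 31), 2), ((4, 58), 2), ((4, 69), 2), ((4, 82), 2), ((3, 1), 1), ((3, 7), 2), ((3, 16), 1), ((3, 19), 2), ((3, 39), 1), ((3, 42), 1), ((4, 1), 2), ((4, 26), 1), ((4, 42), 2), ((4, 56), 2), ((4, 72), 2), ((4, 74), 2), ((4, 80), 1), ((4, 88), 2), ((4, 89), 1), ((4, 99), 1), ((4, 103), 1), ((4, 104), 2), ((4, 108), 2), ((4, 6), 1), ((4, 18), 1), ((4, 35), 2), ((4, 60), 2), ((4, 68), 2), ((4, 113), 2), ((4, 2), 2), ((4, 3), 2), ((4, 4), 1), ((4, 10), 1)],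
  [((0, 72), 1)],
  [((0, 73), 1)],
  [((0, 9), 1), ((0, 10), 2), ((0, 20), 1), ((0, 22), 2), ((0, 40), 1), ((0, 42), 2), ((1, 54), 2), ((1, 0), 1), ((1, 2), 1), ((1, 4), 1), ((1, 6), 1), ((1, 10), 2), ((1, 14), 1), ((1, 16), 1), ((1, 18), 2), ((1, 20), 1), ((1, 28), 1), ((1, 56), 2), ((1, 59), 1), ((1, 76), 1), ((2, 1), 1), ((2, 3), 1), ((2, 5), 2), ((2, 9), 1), ((2, 15), 2), ((2, 23), 2), ((2, 27), 2), ((2, 29), 1), ((2, 31), 1), ((2, 60), 1), ((2, 77), 2), ((3, 23), 2), ((3, 116), 1), ((3, 92), 2), ((3, 20), 1), ((3, 51), 1), ((3, 73), 1), ((3, 52), 1), ((3, 69), 1), ((3, 74), 2), ((4, 9), 1), ((4, 37), 2), ((4, 44), 2), ((4, 51), 1), ((4, 95), 1), ((4, 90), 2), ((3, 3), 1), ((3, 4), 2), ((3, 68), 1), ((4, 0), 2), ((4, 11), 1), ((4, 12), 1), ((4, 29), 2), ((4, 40), 1), ((4, 49), 2), ((4, 55), 1), ((4, 101), 2), ((4, 106), 2),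 ((4, 7), 1), ((4, 31), 1), ((4, 43), 2), ((4, 58), 1), ((4, 69), 1), ((4, 82), 2), ((3, 5), 1), ((3, 8), 1), ((3, 16), 1), ((3, 17), 1), ((3, 19), 2), ((3, 21), 1), ((3, 29), 1), ((3, 30), 2), ((3, 39), 1), ((4, 1), 1), ((4, 26), 2), ((4, 42), 2), ((4, 54), 2), ((4, 74), 2), ((4, 80), 1), ((4, 88), 1), ((4, 103), 2), ((4, 104), 1), ((4, 108), 2), ((4, 116), 2), ((4, 6), 1), ((4, 18), 2), ((4, 35), 2), ((4, 68), 1), ((4, 102), 1), ((4, 113), 1), ((4, 2), 1), ((4, 3), 2)],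
  [((0, 43), 2), ((0, 44), 1), ((1, 54), 1), ((1, 2), 1), ((1, 4), 2), ((1, 6), 1), ((1, 8), 2), ((1, 10), 2), ((1, 14), 1), ((1, 18), 1), ((1, 20), 2), ((1, 28), 2), ((1, 56), 1), ((1, 59), 1), ((2, 0), 2), ((2, 3), 2), ((2, 7), 1), ((2, 9), 1), ((2, 11), 2), ((2, 13), 1), ((2, 15), 2), ((2, 27), 1), ((2, 29), 2), ((2, 31), 2), ((2, 38), 2), ((2, 60), 1), ((2, 77), 2), ((2, 82), 2), ((3, 23), 1), ((3, 103), 1), ((3, 20), 2), ((3, 71), 2), ((3, 74), 2), ((4, 8), 2), ((4, 9), 1), ((4, 37), 1), ((4, 44), 2), ((4, 51), 2), ((4, 75), 1), ((4, 78), 2), ((4, 95), 1), ((4, 90), 1), ((3, 3), 1), ((3, 68), 1), ((4, 0), 1), ((4, 5), 2), ((4, 38), 1), ((4, 40), 1), ((4, 49), 1), ((4, 55), 1), ((4, 101), 2), ((4, 105), 1), ((4, 106), 2), ((4, 119), 2), ((4, 48), 2), ((4, 69), 2), ((3, 1), 2), ((3, 5), 1), ((3, 7), 2), ((3, 8), 1), ((3, 9),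 2), ((3, 15), 2), ((3, 16), 1), ((3, 17), 2), ((3, 19), 2), ((3, 21), 2), ((3, 39), 2), ((3, 42), 1), ((4, 1), 2), ((4, 56), 1), ((4, 72), 1), ((4, 74), 1), ((4, 89), 1), ((4, 99), 2), ((4, 104), 2), ((4, 108), 1), ((4, 116), 1), ((4, 6), 1), ((4, 18), 2), ((4, 60), 2), ((4, 68), 1), ((4, 102), 1), ((4, 113), 2), ((4, 2), 1), ((4, 3), 1)],
  [((0, 77), 1)],
  [((0, 79), 1)],
  [((0, 80), 1)],
  [((0, 82), 1)],
  [((0, 11), 1), ((0, 12), 2), ((0, 24), 1), ((0, 25), 2), ((0, 46), 1), ((0, 48), 2), ((0, 81), 1), ((1, 2), 1), ((1, 4), 2), ((1, 8), 2), ((1, 10), 1), ((1, 12), 2), ((1, 14), 2), ((1, 28), 2), ((1, 48), 1), ((1, 56), 1), ((1, 63), 1), ((1, 76), 1), ((2, 0), 1), ((2, 1), 1), ((2, 3), 1), ((2, 7), 2), ((2, 9), 2), ((2, 11), 1), ((2, 13), 1), ((2, 15), 2), ((2, 23), 2), ((2, 27), 2), ((2, 29), 1), ((2, 31), 1), ((2, 38), 2),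 ((2, 77), 1), ((3, 23), 1), ((3, 55), 2), ((3, 103), 2), ((3, 116), 2), ((3, 92), 1), ((3, 20), 2), ((3, 11), 2), ((3, 51), 2), ((3, 71), 1), ((3, 73), 2), ((3, 43), 1), ((3, 74), 1), ((4, 8), 1), ((4, 75), 2), ((4, 78), 1), ((4, 95), 1), ((4, 90), 1), ((3, 3), 2), ((3, 4), 1), ((3, 68), 1), ((4, 12), 2), ((4, 38), 2), ((4, 40), 1), ((4, 55), 2), ((4, 31), 2), ((4, 48), 1), ((4, 58), 1), ((3, 7), 2), ((3, 9), 2), ((3, 17), 1), ((3, 30), 1), ((3, 42), 1), ((4, 1), 2), ((4, 26), 2), ((4, 56), 2), ((4, 74), 1), ((4, 88), 1), ((4, 89), 2), ((4, 104), 2), ((4, 108), 1), ((4, 116), 1), ((4, 6), 1), ((4, 68), 2), ((4, 113), 2), ((4, 2), 2), ((4, 3), 2), ((4, 4), 1), ((4, 10), 1)],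
  [((0, 5), 2), ((0, 6), 1), ((0, 12), 2), ((0, 26), 2), ((0, 49), 2), ((1, 0), 1), ((1, 2), 2), ((1, 4), 2), ((1, 6), 2), ((1, 8), 1), ((1, 10), 1), ((1, 14), 2), ((1, 16), 2), ((1, 18), 1), ((1, 20), 2), ((1, 28), 1), ((1, 48), 1), ((1, 56), 1), ((1, 59), 1), ((1, 63), 1), ((2, 0), 2), ((2, 5), 1), ((2, 7), 1), ((2, 9), 2), ((2, 11), 2), ((2, 13), 1), ((2, 15), 1), ((2, 23), 1), ((2, 29), 1), ((2, 31), 2), ((2, 38), 2), ((2, 60), 2), ((2, 77), 2), ((2, 82), 2), ((3, 23), 2), ((3, 55), 2), ((3, 116), 2), ((3, 20), 1), ((3, 51), 2), ((3, 71), 2), ((3, 73), 2), ((3, 52), 1), ((3, 69), 1), ((3, 74), 2), ((4, 8), 2), ((4, 75), 2), ((4, 92), 2), ((4, 95), 2), ((4, 90), 2), ((3, 3), 1), ((3, 4), 2), ((3, 68), 2), ((4, 0), 2), ((4, 29), 1), ((4, 38), 2), ((4, 49), 2), ((4, 55), 2), ((4, 101), 1), ((4, 105), 1), ((4, 7), 1), ((4, 43),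 2), ((4, 48), 2), ((4, 58), 1), ((4, 69), 1), ((3, 7), 1), ((3, 15), 1), ((3, 17), 1), ((3, 29), 1), ((3, 30), 1), ((4, 1), 2), ((4, 42), 2), ((4, 54), 1), ((4, 56), 2), ((4, 74), 2), ((4, 80), 2), ((4, 88), 2), ((4, 89), 2), ((4, 103), 1), ((4, 108), 2), ((4, 116), 1), ((4, 6), 1), ((4, 18), 2), ((4, 35), 2), ((4, 60), 1), ((4, 68), 2), ((4, 102), 2), ((4, 2), 1), ((4, 10), 2)],
  [((0, 5), 2), ((0, 6), 1), ((0, 12), 2), ((0, 14), 1), ((0, 26), 2), ((0, 50), 2), ((1, 54), 2), ((2, 92), 2), ((1, 2), 1), ((1, 4), 1), ((1, 8), 1), ((1, 10), 2), ((1, 12), 1), ((1, 14), 2), ((1, 16), 1), ((1, 28), 2), ((1, 56), 1), ((1, 59), 1), ((1, 63), 1), ((1, 76), 1), ((2, 0), 1), ((2, 3), 2), ((2, 5), 2), ((2, 7), 1), ((2, 9), 1), ((2, 13), 1), ((2, 15), 1), ((2, 23), 1), ((2, 31), 1), ((2, 38), 2), ((2, 60), 2), ((2, 82), 2), ((3, 23), 1), ((3,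 103), 2), ((3, 92), 1), ((3, 20), 2), ((3, 71), 1), ((3, 73), 1), ((3, 43), 2), ((3, 52), 1), ((3, 69), 1), ((3, 74), 2), ((4, 9), 1), ((4, 51), 1), ((4, 75), 1), ((4, 92), 1), ((3, 4), 1), ((3, 68), 1), ((4, 0), 2), ((4, 5), 2), ((4, 11), 2), ((4, 12), 1), ((4, 29), 2), ((4, 38), 1), ((4, 40), 1), ((4, 49), 2), ((4, 101), 1), ((4, 106), 1), ((4, 7), 2), ((4, 31), 2), ((4, 48), 1), ((4, 58), 1), ((3, 7), 1), ((3, 9), 1), ((3, 16), 1), ((3, 17), 2), ((3, 19), 1), ((3, 21), 2), ((3, 29), 1), ((3, 30), 2), ((4, 1), 1), ((4, 26), 1), ((4, 54), 1), ((4, 56), 1), ((4, 72), 1), ((4, 74), 1), ((4, 80), 1), ((4, 88), 2), ((4, 99), 2), ((4, 104), 2), ((4, 116), 2), ((4, 18), 2), ((4, 35), 1), ((4, 68), 1), ((4, 102), 1), ((4, 113), 2), ((4, 2), 1), ((4, 3), 2), ((4, 10), 1)],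
  [((0, 1), 1), ((0, 2), 2), ((0, 4), 1), ((0, 6), 2), ((0, 9), 1), ((0, 13), 2), ((0, 19), 1), ((0, 27), 2), ((0, 38), 1), ((0, 51), 2), ((0, 70), 1), ((1, 54), 2), ((2, 92), 2), ((1, 0), 2), ((1, 4), 2), ((1, 6), 1), ((1, 8), 2), ((1, 10), 2), ((1, 12), 2), ((1, 14), 2), ((1, 16), 2), ((1, 18), 1), ((1, 20), 2), ((1, 28), 2), ((1, 56), 2), ((1, 59), 1), ((1, 63), 1), ((1, 76), 1), ((2, 0), 2), ((2, 3), 2), ((2, 7), 1), ((2, 9), 2), ((2, 13), 1), ((2, 15), 1), ((2, 23), 2), ((2, 27), 1), ((2, 29), 1), ((2, 31), 1), ((2, 77), 1), ((2, 82), 1), ((3, 103), 2), ((3, 116), 2), ((3, 92), 2), ((3, 51), 1), ((3, 71), 2), ((3, 52), 1), ((3, 69), 1), ((4, 8), 1), ((4, 9), 1), ((4, 44), 2), ((4, 75), 2), ((4, 78), 1), ((4, 92), 1), ((4, 95), 2), ((4, 90), 2), ((3, 4), 2), ((3, 68), 1), ((4, 5), 2), ((4, 11), 1), ((4, 55), 1), ((4, 105), 2),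 ((4, 119), 1), ((4, 7), 2), ((4, 48), 1), ((4, 58), 1), ((4, 69), 2), ((4, 82), 1), ((3, 5), 1), ((3, 9), 2), ((3, 15), 2), ((3, 17), 1), ((3, 19), 1), ((3, 21), 2), ((3, 29), 2), ((3, 30), 2), ((3, 39), 2), ((3, 42), 1), ((4, 1), 1), ((4, 26), 2), ((4, 42), 1), ((4, 54), 1), ((4, 56), 2), ((4, 72), 2), ((4, 74), 2), ((4, 89), 2), ((4, 99), 1), ((4, 104), 2), ((4, 108), 2), ((4, 6), 2), ((4, 68), 2), ((4, 113), 1), ((4, 2), 2), ((4, 4), 1), ((4, 10), 2)],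
  [((0, 1), 1), ((0, 2), 2), ((0, 4), 1), ((0, 6), 2), ((0, 10), 1), ((0, 13), 2), ((0, 27), 2), ((0, 52), 2), ((1, 54), 2), ((1, 2), 2), ((1, 4), 1), ((1, 10), 2), ((1, 12), 2), ((1, 14), 1), ((1, 18), 1), ((1, 28), 2), ((1, 59), 1), ((1, 63), 2), ((1, 76), 1), ((2, 1), 2), ((2, 3), 1), ((2, 7), 2), ((2, 11), 2), ((2, 15), 1), ((2, 27), 2), ((2, 29), 1), ((2, 31), 1), ((2, 38), 2), ((2, 60), 2), ((2, 77), 2), ((2, 82), 1), ((3, 23), 2), ((3, 55), 2), ((3, 103), 2), ((3, 92), 2), ((3, 20), 1), ((3, 51), 1), ((3, 71), 1), ((3, 52), 2), ((3, 74), 1), ((4, 8), 2), ((4, 9), 1), ((4, 37), 1), ((4, 44), 1), ((4, 78), 1), ((4, 92), 2), ((4, 95), 1), ((4, 90), 2), ((3, 4), 1), ((3, 68), 2), ((4, 0), 1), ((4, 11), 2), ((4, 12), 2), ((4, 29), 2), ((4, 40), 2), ((4, 101), 1), ((4, 31), 2), ((4, 43), 1), ((4, 48), 1), ((4, 58), 2), ((4, 69),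 1), ((4, 82), 2), ((3, 1), 1), ((3, 5), 1), ((3, 7), 2), ((3, 9), 2), ((3, 15), 2), ((3, 17), 1), ((3, 21), 2), ((3, 30), 2), ((3, 39), 2), ((3, 42), 1), ((4, 54), 1), ((4, 56), 1), ((4, 72), 1), ((4, 74), 2), ((4, 80), 1), ((4, 99), 1), ((4, 103), 1), ((4, 104), 1), ((4, 116), 2), ((4, 18), 1), ((4, 35), 2), ((4, 60), 1), ((4, 102), 2), ((4, 113), 2), ((4, 2), 1), ((4, 4), 2), ((4, 10), 2)],
  [((0, 1), 1), ((0, 2), 2), ((0, 3), 1), ((0, 6), 2), ((0, 8), 1), ((0, 13), 2), ((0, 17), 1), ((0, 28), 2), ((0, 36), 1), ((0, 53), 2), ((2, 92), 1), ((1, 0), 2), ((1, 2), 1), ((1, 4), 1), ((1, 6), 2), ((1, 8), 2), ((1, 10), 2), ((1, 12), 2), ((1, 18), 1), ((1, 20), 1), ((1, 59), 2), ((1, 63), 2), ((2, 0), 1), ((2, 3), 2), ((2, 7), 1), ((2, 9), 1), ((2, 11), 2), ((2, 13), 1), ((2, 15), 1), ((2, 23), 2), ((2, 29), 1), ((2, 38), 1), ((2, 82),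 2), ((3, 23), 1), ((3, 55), 2), ((3, 103), 2), ((3, 116), 2), ((3, 92), 1), ((3, 11), 2), ((3, 71), 1), ((3, 73), 2), ((3, 43), 2), ((3, 52), 1), ((3, 69), 1), ((3, 74), 1), ((4, 8), 2), ((4, 9), 1), ((4, 37), 2), ((4, 44), 2), ((4, 51), 2), ((4, 75), 2), ((4, 78), 1), ((4, 92), 2), ((4, 90), 1), ((4, 0), 1), ((4, 5), 1), ((4, 49), 1), ((4, 55), 2), ((4, 101), 1), ((4, 106), 2), ((4, 119), 1), ((4, 7), 2), ((4, 48), 1), ((4, 58), 1), ((4, 69), 1), ((4, 82), 1), ((3, 1), 1), ((3, 7), 2), ((3, 8), 1), ((3, 9), 2), ((3, 15), 1), ((3, 16), 1), ((3, 21), 2), ((3, 30), 2), ((3, 39), 1), ((3, 42), 2), ((4, 1), 1), ((4, 26), 1), ((4, 42), 1), ((4, 56), 2), ((4, 74), 2), ((4, 80), 2), ((4, 88), 2), ((4, 99), 2), ((4, 116), 1), ((4, 18), 2), ((4, 35), 2), ((4, 60), 1), ((4, 68), 2), ((4, 113), 1), ((4, 2), 2), ((4, 3), 1), ((4, 4), 1), ((4,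 10), 1)],
  [((1, 54), 1)],
  [((0, 87), 1)],
  [((0, 89), 1)],
  [((0, 5), 1), ((0, 6), 2), ((0, 12), 1), ((0, 14), 2), ((0, 30), 2), ((0, 57), 2), ((1, 54), 1), ((1, 0), 1), ((1, 2), 2), ((1, 4), 2), ((1, 6), 2), ((1, 8), 1), ((1, 10), 2), ((1, 12), 1), ((1, 14), 2), ((1, 18), 1), ((1, 20), 2), ((1, 28), 1), ((1, 56), 1), ((1, 59), 1), ((1, 63), 1), ((1, 76), 1), ((2, 3), 2), ((2, 5), 2), ((2, 9), 2), ((2, 11), 1), ((2, 13), 2), ((2, 23), 1), ((2, 29), 2), ((2, 31), 1), ((2, 38), 1), ((2, 60), 2), ((2, 82), 1), ((3, 23), 2), ((3, 103), 2), ((3, 116), 1), ((3, 20), 2), ((3, 51), 2), ((3, 73), 1), ((3, 43), 2), ((3, 52), 2), ((3, 69), 1), ((4, 8), 1), ((4, 37), 2), ((4, 44), 1), ((4, 75), 2), ((4, 78), 2), ((4, 92), 1), ((4, 90), 2), ((3, 3), 1), ((3, 4), 2), ((3, 68), 2), ((4, 0), 2), ((4, 5), 2), ((4, 11), 2), ((4, 12), 2), ((4,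 29), 2), ((4, 38), 2), ((4, 40), 2), ((4, 49), 1), ((4, 55), 1), ((4, 101), 1), ((4, 105), 1), ((4, 106), 2), ((4, 7), 1), ((4, 31), 1), ((4, 48), 2), ((4, 69), 2), ((3, 5), 2), ((3, 7), 1), ((3, 9), 1), ((3, 21), 1), ((3, 30), 1), ((3, 39), 1), ((4, 1), 1), ((4, 26), 1), ((4, 42), 1), ((4, 72), 2), ((4, 99), 2), ((4, 103), 1), ((4, 108), 1), ((4, 116), 2), ((4, 102), 2), ((4, 113), 2), ((4, 3), 2), ((4, 4), 1), ((4, 10), 2)],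
  [((0, 1), 2), ((0, 3), 2), ((0, 7), 2), ((0, 15), 2), ((0, 31), 2), ((0, 58), 2), ((1, 0), 1)],
  [((0, 91), 1)],
  [((0, 92), 1)],
  [((0, 1), 2), ((0, 2), 1), ((0, 3), 2), ((0, 6), 1), ((0, 7), 2), ((0, 14), 1), ((0, 16), 2), ((0, 29), 1), ((0, 33), 2), ((0, 56), 1), ((0, 61), 2), ((1, 54), 2), ((1, 4), 2), ((1, 6), 1), ((1, 12), 2), ((1, 14), 2), ((1, 16), 2), ((1, 18), 2), ((1, 48), 2), ((1, 56), 2), ((1, 63), 1), ((1, 76), 1), ((2, 0), 2), ((2, 5), 1), ((2, 7), 1), ((2, 9), 1), ((2, 23), 2), ((2, 27), 1), ((2, 29), 2), ((2, 38), 2), ((2, 60), 1), ((2, 77), 2), ((2, 82), 1), ((3, 55), 1), ((3, 103), 2), ((3, 116), 1), ((3, 20), 2), ((3, 11), 2), ((3, 51), 1), ((3, 71), 1), ((3, 73), 1), ((3, 43), 2), ((3, 69), 2), ((3, 74), 2), ((4, 8), 1), ((4, 37), 2), ((4, 44), 1), ((4, 51), 2), ((4, 75), 2), ((4, 92), 1), ((4, 95), 2),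 ((4, 90), 2), ((3, 3), 1), ((4, 0), 2), ((4, 5), 2), ((4, 11), 1), ((4, 38), 2), ((4, 40), 2), ((4, 105), 1), ((4, 7), 1), ((4, 31), 2), ((4, 43), 1), ((4, 58), 2), ((4, 69), 1), ((4, 82), 2), ((3, 5), 2), ((3, 7), 1), ((3, 8), 1), ((3, 9), 2), ((3, 15), 2), ((3, 16), 2), ((3, 30), 2), ((4, 1), 1), ((4, 26), 2), ((4, 54), 2), ((4, 74), 1), ((4, 80), 2), ((4, 88), 2), ((4, 99), 2), ((4, 108), 2), ((4, 6), 2), ((4, 68), 1), ((4, 2), 1), ((4, 3), 1)],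
  [((0, 94), 1)],
  [((0, 3), 2), ((0, 4), 1), ((0, 7), 2), ((0, 10), 1), ((0, 16), 2), ((0, 21), 1), ((0, 34), 2), ((0, 41), 1), ((0, 63), 2), ((0, 74), 1), ((1, 54), 1), ((2, 92), 1), ((1, 0), 2), ((1, 2), 2), ((1, 4), 2), ((1, 6), 1), ((1, 8), 2), ((1, 10), 2), ((1, 12), 2), ((1, 14), 1), ((1, 18), 2), ((1, 20), 2), ((1, 48), 1), ((1, 56), 1), ((1, 63), 1), ((2, 0), 1), ((2, 1), 2), ((2, 3), 2), ((2, 5), 1), ((2, 7), 1), ((2, 9), 1), ((2, 11), 2), ((2, 13), 1), ((2, 15), 1), ((2, 23), 2), ((2, 27), 2), ((2, 29), 1), ((2, 31), 2), ((2, 38), 2), ((2, 77), 2), ((3, 55), 2), ((3, 103), 1), ((3, 116), 1), ((3, 92), 1), ((3, 20), 2), ((3, 11), 2), ((3, 51), 2), ((3, 73), 1), ((3, 43), 2), ((3, 52), 1), ((3, 69), 2), ((3, 74), 1), ((4, 8), 1), ((4, 9), 2), ((4, 37), 2), ((4, 44), 2), ((4, 78), 1), ((4, 95), 2), ((4, 90), 1), ((3, 3),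 2), ((3, 4), 2), ((3, 68), 2), ((4, 0), 1), ((4, 5), 1), ((4, 11), 2), ((4, 29), 2), ((4, 38), 1), ((4, 40), 2), ((4, 49), 1), ((4, 55), 2), ((4, 101), 1), ((4, 105), 2), ((4, 106), 2), ((4, 119), 2), ((4, 7), 1), ((4, 31), 1), ((4, 48), 2), ((4, 58), 2), ((4, 69), 2), ((3, 1), 1), ((3, 5), 2), ((3, 7), 1), ((3, 16), 1), ((3, 17), 1), ((3, 19), 2), ((3, 29), 1), ((3, 30), 2), ((3, 39), 2), ((3, 42), 2), ((4, 42), 1), ((4, 72), 2), ((4, 80), 1), ((4, 88), 1), ((4, 89), 1), ((4, 99), 1), ((4, 103), 1), ((4, 108), 2), ((4, 6), 2), ((4, 18), 1), ((4, 35), 2), ((4, 60), 2), ((4, 68), 1), ((4, 102), 2), ((4, 113), 2), ((4, 3), 2), ((4, 10), 1)],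
  [((0, 95), 1)],
  [((0, 3), 2), ((0, 4), 1), ((0, 8), 2), ((0, 10), 1), ((0, 17), 2), ((0, 22), 1), ((0, 35), 2), ((0, 42), 1), ((0, 65), 2), ((0, 75), 1), ((2, 92), 1), ((1, 0), 2), ((1, 2), 1), ((1, 4), 2), ((1, 6), 2), ((1, 10), 1), ((1, 12), 2), ((1, 14), 1), ((1, 16), 1), ((1, 18), 1), ((1, 48), 1), ((1, 63), 1), ((1, 76), 1), ((2, 0), 2), ((2, 1), 2), ((2, 3), 1), ((2, 7), 2), ((2, 9), 1), ((2, 13), 1), ((2, 15), 1), ((2, 23), 1), ((2, 27), 1), ((2, 29), 1), ((2, 31), 1), ((2, 38), 2), ((2, 60), 1), ((3, 23), 1), ((3, 55), 1), ((3, 103), 2), ((3, 92), 1), ((3, 20), 1), ((3, 51), 2), ((3, 71), 2), ((3, 43), 2), ((3, 74), 2), ((4, 8), 1), ((4, 44), 2), ((4, 51), 2), ((4, 78), 2), ((3, 68), 2), ((4, 0), 1), ((4, 5), 2), ((4, 29), 1), ((4, 40), 2), ((4, 49), 2), ((4, 101), 2), ((4, 105), 2), ((4, 106), 2), ((4, 31), 2), ((4,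 43), 1), ((4, 48), 1), ((4, 69), 2), ((4, 82), 2), ((3, 5), 2), ((3, 7), 1), ((3, 8), 2), ((3, 15), 1), ((3, 16), 2), ((3, 17), 2), ((3, 19), 1), ((3, 21), 2), ((3, 30), 1), ((3, 39), 1), ((3, 42), 2), ((4, 1), 2), ((4, 26), 1), ((4, 42), 2), ((4, 54), 1), ((4, 72), 2), ((4, 80), 1), ((4, 88), 1), ((4, 89), 2), ((4, 103), 2), ((4, 104), 2), ((4, 108), 1), ((4, 6), 2), ((4, 35), 1), ((4, 60), 1), ((4, 68), 2), ((4, 102), 2), ((4, 113), 1), ((4, 2), 2), ((4, 3), 2), ((4, 4), 1)],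
  [((0, 97), 1)],
  [((0, 3), 2), ((0, 4), 1), ((0, 8), 2), ((0, 9), 1), ((0, 17), 2), ((0, 20), 1), ((0, 36), 2), ((0, 67), 2), ((1, 54), 1), ((1, 2), 2), ((1, 4), 1), ((1, 6), 2), ((1, 10), 2), ((1, 12), 2), ((1, 14), 2), ((1, 16), 2), ((1, 18), 2), ((1, 20), 2), ((1, 28), 2), ((1, 59), 1), ((1, 63), 1), ((1, 76), 1), ((2, 0), 1), ((2, 1), 2), ((2, 3), 2), ((2, 5), 2), ((2, 7), 1), ((2, 9), 2), ((2, 13), 2), ((2, 15), 1), ((2, 23), 2), ((2, 27), 1), ((2, 38), 2), ((2, 77), 1), ((3, 23), 2), ((3, 55), 2), ((3, 103), 1), ((3, 116), 1), ((3, 92), 1), ((3, 51), 2), ((3, 71), 2), ((3, 73), 1), ((3, 43), 2), ((3, 52), 1), ((3, 74), 2), ((4, 8), 1), ((4, 37), 2), ((4, 44), 1), ((4, 51), 2), ((4, 75), 1), ((4, 78), 2), ((4, 92), 1), ((3, 3), 1), ((3, 68), 2), ((4, 0), 2), ((4, 5), 2), ((4, 11), 1), ((4, 12), 1), ((4, 29), 2), ((4, 49),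 1), ((4, 55), 1), ((4, 101), 1), ((4, 105), 1), ((4, 106), 2), ((4, 119), 2), ((4, 7), 2), ((4, 31), 2), ((4, 43), 1), ((4, 48), 1), ((3, 8), 2), ((3, 9), 2), ((3, 15), 2), ((3, 16), 1), ((3, 19), 2), ((3, 21), 2), ((3, 29), 1), ((3, 39), 2), ((3, 42), 2), ((4, 1), 1), ((4, 26), 2), ((4, 42), 1), ((4, 54), 2), ((4, 56), 2), ((4, 72), 1), ((4, 80), 2), ((4, 88), 1), ((4, 99), 2), ((4, 103), 2), ((4, 104), 2), ((4, 108), 1), ((4, 18), 1), ((4, 35), 2), ((4, 60), 2), ((4, 102), 2), ((4, 113), 2), ((4, 2), 1), ((4, 3), 1), ((4, 4), 1)],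
  [((0, 98), 1)],
  [((0, 1), 2), ((0, 2), 1), ((0, 4), 2), ((0, 5), 1), ((0, 9), 2), ((0, 11), 1), ((0, 19), 2), ((0, 23), 1), ((0, 38), 2), ((0, 44), 1), ((0, 69), 2), ((0, 78), 1), ((1, 54), 2), ((2, 92), 1), ((1, 0), 1), ((1, 2), 2), ((1, 4), 2), ((1, 6), 1), ((1, 8), 2), ((1, 10), 2), ((1, 12), 2), ((1, 16), 1), ((1, 20), 1), ((1, 48), 1), ((1, 56), 2), ((1, 59), 1), ((1, 76), 1), ((2, 0), 2), ((2, 1), 1), ((2, 3), 2), ((2, 5), 2), ((2, 7), 2), ((2, 9), 2), ((2, 11), 2), ((2, 15), 1), ((2, 23), 1), ((2, 27), 1), ((2, 31), 1), ((2, 60), 2), ((2, 77), 2), ((3, 23), 2), ((3, 55), 1), ((3, 103), 2), ((3, 11), 2), ((3, 51), 2), ((3, 71), 2), ((3, 52), 1), ((3, 69), 2), ((3, 74), 1), ((4, 37), 2), ((4, 51), 1), ((4, 78), 1), ((4, 92), 1), ((3, 68), 1), ((4, 0), 1), ((4, 11), 2), ((4, 12), 1), ((4, 38), 2), ((4, 49), 2), ((4, 101),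 1), ((4, 7), 1), ((4, 31), 1), ((4, 43), 2), ((4, 48), 2), ((4, 69), 1), ((4, 82), 2), ((3, 1), 1), ((3, 5), 1), ((3, 7), 2), ((3, 8), 1), ((3, 9), 2), ((3, 15), 2), ((3, 16), 1), ((3, 17), 2), ((3, 21), 1), ((3, 30), 1), ((4, 26), 2), ((4, 42), 1), ((4, 72), 1), ((4, 74), 1), ((4, 80), 2), ((4, 88), 1), ((4, 103), 2), ((4, 104), 1), ((4, 108), 1), ((4, 116), 2), ((4, 6), 1), ((4, 18), 2), ((4, 35), 1), ((4, 60), 1), ((4, 68), 2), ((4, 102), 1), ((4, 113), 2), ((4, 2), 2), ((4, 4), 1), ((4, 10), 1)],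
  [((0, 1), 2), ((0, 2), 1), ((0, 4), 2), ((0, 5), 1), ((0, 9), 2), ((0, 12), 1), ((0, 19), 2), ((0, 26), 1), ((0, 38), 2), ((0, 70), 2), ((1, 54), 1), ((2, 92), 1), ((1, 2), 1), ((1, 4), 2), ((1, 6), 1), ((1, 12), 1), ((1, 14), 2), ((1, 16), 2), ((1, 18), 1), ((1, 20), 2), ((1, 48), 2), ((1, 59), 1), ((1, 63), 1), ((1, 76), 2), ((2, 0), 2), ((2, 3), 1), ((2, 5), 2), ((2, 7), 1), ((2, 9), 2), ((2, 11), 1), ((2, 13), 1), ((2, 15), 1), ((2, 27), 2), ((2, 29), 1), ((2, 38), 1), ((2, 60), 1), ((3, 23), 1), ((3, 55), 1), ((3, 103), 1), ((3, 116), 2), ((3, 92), 1), ((3, 20), 2), ((3, 71), 2), ((3, 73), 1), ((3, 52), 1), ((3, 69), 1), ((3, 74), 1), ((4, 9), 2), ((4, 44), 1), ((4, 75), 2), ((4, 78), 2), ((4, 95), 2), ((4, 90), 2), ((3, 3), 2), ((3, 4), 2), ((4, 0), 1), ((4, 5), 1), ((4, 11), 2), ((4, 29), 2), ((4, 38), 1), ((4, 49), 1),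 ((4, 101), 2), ((4, 119), 2), ((4, 43), 1), ((4, 58), 1), ((4, 82), 2), ((3, 5), 2), ((3, 7), 2), ((3, 9), 1), ((3, 17), 1), ((3, 19), 2), ((3, 21), 1), ((3, 39), 1), ((3, 42), 2), ((4, 26), 1), ((4, 54), 1), ((4, 56), 2), ((4, 72), 1), ((4, 74), 2), ((4, 80), 1), ((4, 88), 1), ((4, 89), 2), ((4, 99), 2), ((4, 103), 2), ((4, 104), 1), ((4, 108), 2), ((4, 116), 2), ((4, 18), 1), ((4, 35), 1), ((4, 60), 2), ((4, 68), 2), ((4, 102), 1), ((4, 113), 2), ((4, 4), 2), ((4, 10), 2)],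
  [((0, 3), 1), ((0, 4), 2), ((0, 7), 1), ((0, 9), 2), ((0, 16), 1), ((0, 20), 2), ((0, 33), 1), ((0, 39), 2), ((0, 61), 1), ((0, 71), 2), ((1, 2), 1), ((1, 4), 1), ((1, 6), 2), ((1, 8), 1), ((1, 10), 2), ((1, 14), 1), ((1, 16), 2), ((1, 48), 2), ((1, 56), 1), ((1, 59), 1), ((1, 63), 1), ((2, 0), 2), ((2, 1), 2), ((2, 3), 2), ((2, 5), 1), ((2, 7), 2), ((2, 9), 1), ((2, 11), 1), ((2, 13), 2), ((2, 15), 2), ((2, 23), 1), ((2, 31), 1), ((2, 38), 1), ((2, 60), 2), ((2, 82), 2), ((3, 23), 2), ((3, 55), 2), ((3, 103), 1), ((3, 11), 1), ((3, 73), 2), ((3, 52), 2), ((3, 69), 1), ((4, 8), 1), ((4, 9), 1), ((4, 44), 2), ((4, 51), 2), ((4, 75), 2), ((4, 95), 2), ((3, 4), 1), ((3, 68), 2), ((4, 0), 1), ((4, 11), 2), ((4, 12), 2), ((4, 29), 2), ((4, 38), 2), ((4, 40), 1), ((4, 49), 1), ((4, 55), 2), ((4, 101), 2), ((4, 105), 1), ((4, 119), 2),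 ((4, 7), 2), ((4, 31), 1), ((4, 43), 2), ((4, 58), 2), ((4, 82), 2), ((3, 5), 1), ((3, 7), 2), ((3, 8), 2), ((3, 15), 2), ((3, 16), 1), ((3, 17), 2), ((3, 19), 1), ((3, 21), 2), ((3, 29), 2), ((3, 42), 1), ((4, 26), 1), ((4, 56), 1), ((4, 72), 1), ((4, 80), 1), ((4, 88), 2), ((4, 89), 1), ((4, 99), 2), ((4, 104), 2), ((4, 116), 2), ((4, 6), 2), ((4, 18), 1), ((4, 35), 2), ((4, 68), 1), ((4, 102), 1), ((4, 113), 2), ((4, 4), 1)],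
  [((0, 3), 1), ((0, 4), 2), ((0, 7), 1), ((0, 9), 2), ((0, 16), 1), ((0, 20), 2), ((0, 40), 2), ((0, 72), 2), ((1, 0), 2), ((1, 4), 1), ((1, 6), 2), ((1, 10), 1), ((1, 12), 1), ((1, 14), 1), ((1, 18), 1), ((1, 20), 2), ((1, 28), 2), ((1, 48), 2), ((1, 56), 2), ((1, 59), 1), ((1, 63), 1), ((2, 0), 1), ((2, 3), 2), ((2, 7), 2), ((2, 13), 2), ((2, 23), 2), ((2, 27), 2), ((2, 29), 2), ((2, 38), 2), ((2, 60), 2), ((3, 23), 2), ((3, 55), 1), ((3, 116), 1), ((3, 11), 2), ((3, 71), 1), ((3, 52), 1), ((3, 69), 1), ((4, 8), 2), ((4, 9), 1), ((4, 44), 2), ((4, 75), 2), ((4, 78), 2), ((4, 95), 2), ((3, 3), 1), ((3, 4), 2), ((3, 68), 2), ((4, 0), 1), ((4, 5), 1), ((4, 12), 1), ((4, 29), 2), ((4, 38), 2), ((4, 40), 1), ((4, 49), 1), ((4, 55), 1), ((4, 105), 1), ((4, 119), 2), ((4, 48), 1), ((4, 82), 2), ((3, 1), 1), ((3, 7), 2), ((3, 8), 2),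 ((3, 16), 1), ((3, 17), 2), ((3, 19), 2), ((3, 30), 1), ((3, 39), 2), ((4, 1), 1), ((4, 26), 1), ((4, 42), 2), ((4, 56), 1), ((4, 80), 1), ((4, 89), 2), ((4, 99), 1), ((4, 103), 1), ((4, 104), 2), ((4, 116), 1), ((4, 18), 2), ((4, 35), 1), ((4, 60), 2), ((4, 102), 2), ((4, 113), 1), ((4, 2), 2), ((4, 4), 2), ((4, 10), 2)],
  [((0, 99), 1)],
  [((0, 100), 1)],
  [((0, 101), 1)],
  [((0, 103), 1)],
  [((0, 5), 2), ((0, 11), 2), ((0, 23), 2), ((0, 44), 2), ((0, 77), 2), ((1, 54), 2), ((1, 4), 1), ((1, 6), 2), ((1, 8), 1), ((1, 10), 1), ((1, 14), 2), ((1, 18), 2), ((1, 20), 1), ((1, 28), 1), ((1, 56), 2), ((1, 59), 2), ((2, 0), 1), ((2, 3), 1), ((2, 7), 2), ((2, 9), 2), ((2, 11), 1), ((2, 13), 2), ((2, 15), 1), ((2, 27), 2), ((2, 29), 1), ((2, 31), 1), ((2, 38), 1), ((2, 60), 2), ((2, 77), 1), ((2, 82), 1), ((3, 23), 2), ((3, 103),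 2), ((3, 20), 1), ((3, 71), 1), ((3, 74), 1), ((4, 8), 1), ((4, 9), 2), ((4, 37), 2), ((4, 44), 1), ((4, 51), 1), ((4, 75), 2), ((4, 78), 1), ((4, 95), 2), ((4, 90), 2), ((3, 3), 2), ((3, 68), 2), ((4, 0), 2), ((4, 5), 1), ((4, 38), 2), ((4, 40), 2), ((4, 49), 2), ((4, 55), 2), ((4, 101), 1), ((4, 105), 2), ((4, 106), 1), ((4, 119), 1), ((4, 48), 1), ((4, 69), 1), ((3, 1), 1), ((3, 5), 2), ((3, 7), 1), ((3, 8), 2), ((3, 9), 1), ((3, 15), 1), ((3, 16), 2), ((3, 17), 1), ((3, 19), 1), ((3, 21), 1), ((3, 39), 1), ((3, 42), 2), ((4, 1), 1), ((4, 56), 2), ((4, 72), 2), ((4, 74), 2), ((4, 89), 2), ((4, 99), 1), ((4, 104), 1), ((4, 108), 2), ((4, 116), 2), ((4, 6), 2), ((4, 18), 1), ((4, 60), 1), ((4, 68), 2), ((4, 102), 2), ((4, 113), 1), ((4, 2), 2), ((4, 3), 2)],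
  [((0, 104), 1)],
  [((0, 1), 1), ((0, 2), 2), ((0, 3), 1), ((0, 5), 2), ((0, 8), 1), ((0, 11), 2), ((0, 17), 1), ((0, 24), 2), ((0, 36), 1), ((0, 45), 2), ((0, 67), 1), ((0, 79), 2), ((1, 54), 2), ((1, 0), 2), ((1, 4), 2), ((1, 10), 1), ((1, 12), 2), ((1, 14), 1), ((1, 18), 2), ((1, 28), 1), ((1, 56), 2), ((1, 59), 1), ((1, 76), 1), ((2, 0), 2), ((2, 3), 1), ((2, 5), 1), ((2, 7), 2), ((2, 13), 2), ((2, 15), 2), ((2, 27), 2), ((2, 29), 2), ((2, 31), 1), ((2, 60), 2), ((3, 23), 2), ((3, 55), 1), ((3, 103), 1), ((3, 92), 1), ((3, 20), 1), ((3, 11), 2), ((3, 51), 1), ((3, 71), 1), ((3, 73), 2), ((3, 43), 2), ((3, 69), 1), ((3, 74), 1), ((4, 9), 1), ((4, 51), 1), ((4, 75), 2), ((4, 78), 2), ((4, 92), 1), ((4, 95), 2), ((3, 3), 1), ((4, 0), 2), ((4, 5), 2), ((4, 11), 2), ((4, 29), 2), ((4, 38), 2), ((4, 40), 2), ((4, 101), 2), ((4,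 106), 2), ((4, 119), 1), ((4, 7), 1), ((4, 31), 2), ((4, 43), 2), ((4, 48), 2), ((4, 58), 2), ((4, 69), 1), ((4, 82), 2), ((3, 7), 2), ((3, 8), 2), ((3, 9), 2), ((3, 15), 1), ((3, 17), 2), ((3, 19), 2), ((3, 21), 2), ((3, 30), 1), ((3, 42), 2), ((4, 1), 2), ((4, 26), 1), ((4, 42), 1), ((4, 54), 1), ((4, 80), 1), ((4, 88), 2), ((4, 99), 1), ((4, 103), 2), ((4, 104), 2), ((4, 108), 1), ((4, 116), 1), ((4, 60), 2), ((4, 68), 1), ((4, 102), 1), ((4, 2), 1), ((4, 3), 2), ((4, 4), 2), ((4, 10), 1)],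
  [((0, 5), 2), ((0, 6), 1), ((0, 11), 2), ((0, 13), 1), ((0, 24), 2), ((0, 28), 1), ((0, 46), 2), ((0, 80), 2), ((1, 54), 1), ((2, 92), 1), ((1, 2), 1), ((1, 4), 2), ((1, 6), 1), ((1, 8), 1), ((1, 10), 2), ((1, 12), 1), ((1, 18), 2), ((1, 20), 2), ((1, 28), 2), ((1, 48), 2), ((1, 56), 1), ((1, 59), 2), ((1, 63), 1), ((2, 0), 2), ((2, 7), 2), ((2, 9), 1), ((2, 11), 2), ((2, 13), 2), ((2, 23), 2), ((2, 27), 1), ((2, 29), 1), ((2, 60), 2), ((2, 77), 1), ((2, 82), 1), ((3, 23), 2), ((3, 55), 2), ((3, 92), 2), ((3, 20), 1), ((3, 73), 1), ((3, 52), 2), ((3, 69), 2), ((3, 74), 1), ((4, 9), 2), ((4, 37), 1), ((4, 75), 1), ((4, 78), 2), ((4, 92), 1), ((4, 95), 1), ((3, 68), 2), ((4, 0), 1), ((4, 38), 1), ((4, 40), 2), ((4, 55), 2), ((4, 105), 1), ((4, 106), 1), ((4, 48), 2), ((3, 1), 1), ((3, 5), 1), ((3, 7), 2), ((3, 8), 1), ((3, 9), 1),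 ((3, 17), 1), ((3, 29), 2), ((3, 30), 2), ((3, 39), 1), ((4, 1), 2), ((4, 26), 1), ((4, 54), 1), ((4, 72), 2), ((4, 74), 2), ((4, 80), 2), ((4, 88), 1), ((4, 89), 1), ((4, 103), 2), ((4, 108), 2), ((4, 6), 2), ((4, 68), 1), ((4, 102), 1), ((4, 113), 1), ((4, 2), 1), ((4, 3), 2)],
  [((0, 5), 2), ((0, 6), 1), ((0, 11), 2), ((0, 14), 1), ((0, 24), 2), ((0, 29), 1), ((0, 46), 2), ((0, 56), 1), ((0, 81), 2), ((0, 90), 1), ((1, 54), 2), ((2, 92), 2), ((1, 0), 1), ((1, 6), 2), ((1, 10), 2), ((1, 12), 2), ((1, 14), 1), ((1, 18), 2), ((1, 48), 2), ((1, 59), 2), ((1, 63), 1), ((2, 0), 1), ((2, 1), 2), ((2, 7), 2), ((2, 9), 1), ((2, 11), 1), ((2, 13), 1), ((2, 15), 1), ((2, 23), 2), ((2, 29), 1), ((2, 31), 2), ((2, 38), 2), ((2, 82), 2), ((3, 55), 1), ((3, 103), 1), ((3, 116), 2), ((3, 92), 1), ((3, 11), 1), ((3, 51), 1), ((3, 71), 1), ((3,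 73), 1), ((3, 52), 2), ((4, 8), 2), ((4, 37), 1), ((4, 44), 2), ((4, 75), 1), ((4, 78), 2), ((4, 92), 1), ((4, 90), 1), ((3, 3), 1), ((3, 4), 2), ((3, 68), 1), ((4, 0), 1), ((4, 5), 1), ((4, 11), 2), ((4, 12), 2), ((4, 38), 1), ((4, 105), 1), ((4, 119), 2), ((4, 31), 2), ((4, 43), 2), ((4, 48), 2), ((4, 58), 1), ((4, 69), 1), ((4, 82), 1), ((3, 1), 2), ((3, 7), 2), ((3, 8), 2), ((3, 9), 1), ((3, 15), 2), ((3, 16), 1), ((3, 17), 1), ((3, 19), 2), ((3, 21), 2), ((3, 29), 2), ((3, 30), 1), ((4, 26), 1), ((4, 54), 1), ((4, 80), 2), ((4, 99), 2), ((4, 104), 1), ((4, 116), 1), ((4, 6), 2), ((4, 18), 2), ((4, 35), 1), ((4, 68), 2), ((4, 102), 1), ((4, 2), 2), ((4, 4), 2), ((4, 10), 2)],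
  [((0, 106), 1)],
  [((0, 5), 2), ((0, 6), 1), ((0, 12), 2), ((0, 13), 1), ((0, 26), 2), ((0, 28), 1), ((0, 50), 2), ((0, 54), 1), ((0, 83), 2), ((0, 86), 1), ((2, 92), 2), ((1, 2), 1), ((1, 6), 2), ((1, 8), 1), ((1, 10), 1), ((1, 12), 1), ((1, 14), 2), ((1, 16), 2), ((1, 18), 2), ((1, 20), 2), ((1, 48), 1), ((1, 56), 1), ((1, 59), 1), ((1, 63), 1), ((1, 76), 1), ((2, 3), 2), ((2, 5), 1), ((2, 7), 2), ((2, 15), 1), ((2, 23), 1), ((2, 27), 2), ((2, 31), 2), ((2, 77), 1), ((2, 82), 1), ((3, 23), 2), ((3, 55), 1), ((3, 116), 2), ((3, 20), 2), ((3, 11), 2), ((3, 73), 1), ((3, 43), 1), ((3, 52), 2), ((3, 69), 1), ((4, 8), 2), ((4, 9), 1), ((4, 37), 1), ((4, 44), 1), ((4, 75), 2), ((4, 78), 2), ((4, 92), 2), ((4, 95), 2), ((3, 68), 1), ((4, 5), 2), ((4, 11), 2), ((4, 38), 2), ((4, 40), 1), ((4, 49), 2), ((4, 105), 2), ((4, 106), 2),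 ((4, 119), 2), ((4, 31), 2), ((4, 48), 1), ((4, 58), 2), ((4, 69), 2), ((3, 1), 1), ((3, 5), 2), ((3, 7), 1), ((3, 15), 2), ((3, 19), 1), ((3, 21), 1), ((3, 29), 1), ((3, 39), 2), ((3, 42), 1), ((4, 26), 1), ((4, 56), 1), ((4, 74), 1), ((4, 80), 2), ((4, 88), 1), ((4, 89), 2), ((4, 99), 2), ((4, 103), 2), ((4, 104), 2), ((4, 108), 1), ((4, 6), 2), ((4, 35), 2), ((4, 68), 2), ((4, 102), 1), ((4, 113), 1), ((4, 3), 1), ((4, 10), 1)],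
  [((0, 1), 1), ((0, 2), 2), ((0, 3), 1), ((0, 6), 2), ((0, 8), 1), ((0, 13), 2), ((0, 17), 1), ((0, 27), 2), ((0, 35), 1), ((0, 51), 2), ((0, 64), 1), ((0, 84), 2), ((0, 96), 1), ((2, 92), 1), ((1, 0), 1), ((1, 2), 2), ((1, 4), 2), ((1, 6), 2), ((1, 8), 1), ((1, 10), 1), ((1, 12), 2), ((1, 14), 1), ((1, 16), 1), ((1, 18), 1), ((1, 28), 2), ((1, 56), 2), ((1, 59), 1), ((1, 63), 1), ((2, 0), 2), ((2, 3), 2), ((2, 7), 2), ((2, 11), 1), ((2, 13), 2), ((2, 23), 1), ((2, 27), 1), ((2, 60), 1), ((3, 55), 1), ((3, 116), 1), ((3, 20), 1), ((3, 11), 2), ((3, 51), 1), ((3, 71), 2), ((3, 73), 2), ((3, 69), 2), ((4, 8), 2), ((4, 9), 1), ((4, 37), 1), ((4, 51), 2), ((4, 75), 2), ((4, 78), 1), ((4, 92), 1), ((4, 95), 1), ((3, 3), 1), ((4, 5), 2), ((4, 11), 2), ((4, 12), 1), ((4, 29), 1), ((4, 38), 1), ((4, 40), 2), ((4, 55), 2), ((4, 101), 1),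 ((4, 106), 1), ((4, 7), 1), ((4, 31), 1), ((4, 43), 1), ((4, 48), 2), ((4, 58), 1), ((4, 69), 2), ((3, 5), 2), ((3, 7), 1), ((3, 8), 1), ((3, 16), 1), ((3, 19), 1), ((3, 21), 2), ((3, 29), 1), ((3, 42), 2), ((4, 1), 1), ((4, 54), 1), ((4, 74), 2), ((4, 88), 2), ((4, 99), 2), ((4, 103), 2), ((4, 108), 2), ((4, 116), 2), ((4, 6), 2), ((4, 18), 2), ((4, 60), 1), ((4, 68), 1), ((4, 102), 2), ((4, 113), 1), ((4, 3), 1), ((4, 4), 1)],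
  [((0, 5), 1), ((0, 6), 2), ((0, 11), 1), ((0, 13), 2), ((0, 23), 1), ((0, 28), 2), ((0, 43), 1), ((0, 53), 2), ((0, 76), 1), ((0, 85), 2), ((1, 54), 2), ((2, 92), 2), ((1, 2), 2), ((1, 4), 2), ((1, 6), 2), ((1, 14), 1), ((1, 16), 1), ((1, 20), 1), ((1, 28), 1), ((1, 48), 2), ((1, 56), 2), ((1, 59), 2), ((1, 76), 2), ((2, 1), 2), ((2, 3), 2), ((2, 5), 2), ((2, 7), 1), ((2, 11), 1), ((2, 13), 1), ((2, 15), 2), ((2, 27), 1), ((2, 38), 2), ((2, 77), 1), ((3, 55), 1), ((3, 103), 2), ((3, 116), 2), ((3, 92), 2), ((3, 11), 1), ((3, 51), 1), ((3, 71), 2), ((3, 73), 2), ((3, 43), 2), ((3, 52), 2), ((3, 69), 2), ((3, 74), 2), ((4, 8), 1), ((4, 9), 1), ((4, 51), 2), ((4, 92), 2), ((4, 90), 1), ((3, 4), 2), ((3, 68), 2), ((4, 0), 2), ((4, 11), 2), ((4, 40), 1), ((4, 49), 1), ((4, 106), 2), ((4, 119), 1), ((4, 7), 2), ((4, 43), 1), ((4, 48),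 2), ((4, 69), 2), ((3, 7), 2), ((3, 8), 1), ((3, 9), 2), ((3, 15), 2), ((3, 16), 1), ((3, 17), 1), ((3, 19), 1), ((3, 21), 2), ((3, 29), 1), ((3, 39), 1), ((4, 1), 1), ((4, 26), 2), ((4, 72), 1), ((4, 74), 2), ((4, 80), 1), ((4, 88), 2), ((4, 89), 2), ((4, 99), 2), ((4, 103), 2), ((4, 104), 2), ((4, 116), 1), ((4, 6), 2), ((4, 35), 2), ((4, 68), 2), ((4, 102), 2), ((4, 113), 2), ((4, 2), 2), ((4, 3), 2), ((4, 4), 2)],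
  [((0, 53), 1), ((0, 54), 2), ((0, 85), 1), ((0, 86), 2), ((1, 54), 2), ((2, 92), 2), ((1, 2), 1), ((1, 10), 1), ((1, 12), 2), ((1, 14), 1), ((1, 16), 2), ((1, 18), 1), ((1, 20), 2), ((1, 28), 2), ((1, 48), 1), ((1, 56), 1), ((1, 59), 2), ((2, 1), 1), ((2, 7), 1), ((2, 9), 1), ((2, 11), 1), ((2, 13), 2), ((2, 27), 1), ((2, 31), 2), ((2, 38), 2), ((2, 77), 2), ((2, 82), 1), ((3, 23), 2), ((3, 55), 2), ((3, 103), 1), ((3, 116), 2), ((3, 92), 2), ((3, 20), 1), ((3, 51), 1), ((3, 71), 1), ((3, 73), 1), ((3, 69), 1), ((3, 74), 1), ((4, 8), 2), ((4, 9), 2), ((4, 44), 1), ((4, 51), 2), ((4, 75), 2), ((4, 78), 2), ((4, 92), 2), ((4, 95), 1), ((4, 90), 1), ((4, 0), 2), ((4, 11), 1), ((4, 12), 2), ((4, 38), 2), ((4, 55), 2), ((4, 101), 2), ((4, 105), 2), ((4, 106), 1), ((4, 31), 2), ((4, 43), 2), ((4, 48), 1), ((4, 82), 1), ((3, 1), 2),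 ((3, 5), 2), ((3, 8), 2), ((3, 16), 2), ((3, 17), 1), ((3, 19), 2), ((3, 29), 1), ((3, 39), 1), ((3, 42), 2), ((4, 1), 1), ((4, 26), 2), ((4, 42), 1), ((4, 54), 1), ((4, 56), 1), ((4, 72), 1), ((4, 74), 2), ((4, 88), 2), ((4, 89), 2), ((4, 99), 2), ((4, 103), 2), ((4, 104), 1), ((4, 108), 1), ((4, 116), 1), ((4, 6), 2), ((4, 18), 1), ((4, 35), 1), ((4, 68), 2), ((4, 113), 1), ((4, 2), 1), ((4, 3), 2), ((4, 4), 2), ((4, 10), 2)],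
  [((0, 87), 2), ((0, 88), 1), ((1, 54), 1), ((2, 92), 2), ((1, 0), 2), ((1, 2), 1), ((1, 8), 1), ((1, 10), 2), ((1, 12), 1), ((1, 14), 2), ((1, 18), 2), ((1, 20), 1), ((1, 48), 2), ((1, 56), 1), ((1, 63), 1), ((2, 0), 1), ((2, 3), 1), ((2, 5), 1), ((2, 9), 1), ((2, 11), 1), ((2, 13), 2), ((2, 23), 1), ((2, 27), 2), ((2, 29), 2), ((2, 31), 2), ((2, 60), 2), ((2, 82), 2), ((3, 55), 2), ((3, 116), 2), ((3, 92), 1), ((3, 20), 1), ((3, 11), 2), ((3, 51), 1), ((3, 71), 1), ((3, 43), 2), ((3, 52), 2), ((3, 74), 1), ((4, 8), 1), ((4, 9), 1), ((4, 37), 2), ((4, 44), 1), ((4, 75), 2), ((4, 78), 2), ((4, 95), 2), ((4, 90), 2), ((3, 4), 1), ((3, 68), 2), ((4, 0), 1), ((4, 5), 1), ((4, 11), 1), ((4, 12), 1), ((4, 29), 2), ((4, 40), 1), ((4, 49), 1), ((4, 105), 1), ((4, 106), 2), ((4, 119), 1), ((4, 7), 1), ((4, 48), 2), ((4, 58), 2), ((4, 69),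 1), ((4, 82), 2), ((3, 5), 2), ((3, 7), 1), ((3, 8), 1), ((3, 15), 2), ((3, 16), 1), ((3, 17), 2), ((3, 29), 2), ((3, 39), 2), ((3, 42), 2), ((4, 1), 1), ((4, 26), 1), ((4, 54), 2), ((4, 72), 1), ((4, 80), 2), ((4, 88), 1), ((4, 89), 2), ((4, 99), 1), ((4, 103), 1), ((4, 104), 2), ((4, 108), 2), ((4, 116), 1), ((4, 18), 1), ((4, 60), 2), ((4, 68), 2), ((4, 113), 2), ((4, 4), 2), ((4, 10), 1)],
  [((0, 111), 1)],
  [((0, 13), 1), ((0, 14), 2), ((0, 28), 1), ((0, 29), 2), ((0, 53), 1), ((0, 56), 2), ((0, 85), 1), ((0, 89), 2), ((0, 108), 1), ((1, 54), 1), ((2, 92), 1), ((1, 4), 2), ((1, 8), 1), ((1, 12), 1), ((1, 14), 1), ((1, 16), 1), ((1, 18), 2), ((1, 20), 1), ((1, 28), 2), ((1, 56), 1), ((1, 59), 2), ((1, 76), 1), ((2, 0), 2), ((2, 1), 1), ((2, 5), 1), ((2, 7), 1), ((2, 9), 1), ((2, 13), 2), ((2, 23), 1), ((2, 27), 1), ((2, 31),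 1), ((2, 38), 2), ((2, 60), 1), ((2, 77), 2), ((3, 23), 2), ((3, 103), 1), ((3, 116), 2), ((3, 92), 1), ((3, 20), 1), ((3, 11), 1), ((3, 51), 1), ((3, 71), 2), ((3, 73), 2), ((3, 52), 1), ((4, 37), 1), ((4, 51), 1), ((4, 75), 2), ((4, 90), 1), ((3, 68), 1), ((4, 0), 1), ((4, 12), 1), ((4, 29), 1), ((4, 38), 2), ((4, 55), 1), ((4, 105), 2), ((4, 106), 2), ((4, 48), 2), ((4, 58), 1), ((4, 82), 2), ((3, 1), 2), ((3, 5), 1), ((3, 7), 1), ((3, 8), 2), ((3, 9), 2), ((3, 15), 2), ((3, 19), 2), ((3, 21), 2), ((3, 39), 2), ((3, 42), 2), ((4, 1), 2), ((4, 26), 2), ((4, 42), 2), ((4, 54), 1), ((4, 56), 2), ((4, 72), 1), ((4, 80), 2), ((4, 88), 2), ((4, 89), 2), ((4, 99), 1), ((4, 108), 1), ((4, 18), 2), ((4, 35), 1), ((4, 60), 2), ((4, 102), 2), ((4, 113), 2), ((4, 2), 1), ((4, 4), 2), ((4, 10), 1)],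
  [((0, 1), 1), ((0, 2), 2), ((0, 3), 1), ((0, 6), 2), ((0, 8), 1), ((0, 14), 2), ((0, 17), 1), ((0, 29), 2), ((0, 35), 1), ((0, 56), 2), ((0, 65), 1), ((0, 90), 2), ((1, 2), 2), ((1, 4), 1), ((1, 6), 1), ((1, 8), 2), ((1, 12), 2), ((1, 16), 1), ((1, 18), 2), ((1, 20), 1), ((1, 28), 2), ((1, 48), 2), ((1, 56), 2), ((1, 59), 1), ((1, 63), 2), ((1, 76), 1), ((2, 0), 1), ((2, 3), 2), ((2, 7), 1), ((2, 9), 1), ((2, 11), 1), ((2, 13), 1), ((2, 15), 1), ((2, 23), 1), ((2, 27), 2), ((2, 31), 1), ((2, 38), 2), ((2, 60), 2), ((2, 77), 2), ((3, 23), 1), ((3, 103), 2), ((3, 92), 2), ((3, 20), 1), ((3, 51), 2), ((3, 43), 1), ((3, 69), 2), ((3, 74), 2), ((4, 8), 2), ((4, 9), 2), ((4, 37), 2), ((4, 51), 1), ((4, 92), 2), ((4, 95), 2), ((4, 90), 2), ((3, 4), 2), ((3, 68), 1), ((4, 0), 1), ((4, 5), 2), ((4, 11), 2), ((4, 12), 2), ((4, 29), 1),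 ((4, 38), 2), ((4, 49), 1), ((4, 55), 1), ((4, 105), 2), ((4, 119), 1), ((4, 7), 1), ((4, 43), 1), ((4, 58), 1), ((4, 69), 2), ((3, 1), 1), ((3, 5), 2), ((3, 9), 1), ((3, 15), 2), ((3, 17), 1), ((3, 21), 2), ((3, 29), 1), ((3, 30), 1), ((3, 39), 2), ((3, 42), 1), ((4, 42), 1), ((4, 54), 2), ((4, 72), 2), ((4, 74), 2), ((4, 99), 1), ((4, 103), 2), ((4, 104), 2), ((4, 108), 2), ((4, 116), 1), ((4, 18), 1), ((4, 60), 2), ((4, 68), 2), ((4, 3), 2), ((4, 4), 1), ((4, 10), 1)],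
  [((0, 1), 2), ((0, 2), 1), ((0, 3), 2), ((0, 6), 1), ((0, 7), 2), ((0, 14), 1), ((0, 15), 2), ((0, 29), 1), ((0, 31), 2), ((0, 55), 1), ((0, 59), 2), ((0, 87), 1), ((0, 91), 2), ((0, 110), 1), ((1, 54), 1), ((1, 2), 1), ((1, 4), 1), ((1, 6), 2), ((1, 8), 2), ((1, 10), 2), ((1, 12), 2), ((1, 14), 2), ((1, 16), 2), ((1, 28), 1), ((1, 48), 1), ((1, 59), 2), ((1, 63), 2), ((1, 76), 1), ((2, 0), 1), ((2, 1), 2), ((2, 5), 1), ((2, 7), 2), ((2, 9), 2), ((2, 15), 1), ((2, 23), 1), ((2, 29), 2), ((2, 31), 2), ((2, 38), 2), ((2, 60), 1), ((2, 82), 1), ((3, 55), 2), ((3, 103), 2), ((3, 92), 2), ((3, 20), 1), ((3, 51), 2), ((3, 43), 1), ((3, 52), 2), ((3, 74), 2), ((4, 8), 1), ((4, 9), 2), ((4, 37), 1), ((4, 44), 2), ((4, 75), 1), ((4, 78), 1), ((4, 95), 1), ((4, 90), 1), ((3, 68), 1), ((4, 12), 2), ((4, 29), 1), ((4, 38), 1), ((4, 40), 2),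 ((4, 101), 2), ((4, 105), 2), ((4, 119), 2), ((4, 7), 2), ((4, 31), 2), ((4, 43), 1), ((4, 48), 1), ((4, 58), 2), ((4, 69), 1), ((4, 82), 2), ((3, 5), 1), ((3, 7), 2), ((3, 8), 2), ((3, 9), 1), ((3, 15), 1), ((3, 17), 2), ((3, 19), 2), ((3, 21), 2), ((3, 29), 1), ((3, 30), 2), ((3, 39), 1), ((3, 42), 1), ((4, 1), 1), ((4, 26), 1), ((4, 54), 2), ((4, 56), 2), ((4, 72), 1), ((4, 74), 2), ((4, 80), 2), ((4, 88), 2), ((4, 99), 1), ((4, 104), 1), ((4, 108), 1), ((4, 6), 2), ((4, 35), 1), ((4, 60), 1), ((4, 68), 2), ((4, 102), 2), ((4, 113), 2), ((4, 3), 2), ((4, 4), 1), ((4, 10), 1)],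
  [((0, 3), 2), ((0, 4), 1), ((0, 7), 2), ((0, 10), 1), ((0, 16), 2), ((0, 22), 1), ((0, 33), 2), ((0, 42), 1), ((0, 60), 2), ((0, 92), 2), ((1, 54), 1), ((1, 2), 2), ((1, 4), 1), ((1, 12), 2), ((1, 14), 1), ((1, 48), 1), ((1, 56), 2), ((1, 59), 1), ((1, 63), 2), ((1, 76), 2), ((2, 0), 2), ((2, 1), 2), ((2, 5), 1), ((2, 7), 1), ((2, 9), 2), ((2, 13), 1), ((2, 15), 1), ((2, 23), 2), ((2, 27), 2), ((2, 31), 2), ((2, 38), 1), ((2, 77), 1), ((3, 23), 2), ((3, 55), 2), ((3, 116), 1), ((3, 92), 1), ((3, 20), 2), ((3, 11), 1), ((3, 51), 2), ((3, 71), 2), ((3, 73), 2), ((3, 52), 1), ((3, 69), 1), ((3, 74), 1), ((4, 8), 1), ((4, 9), 1), ((4, 37), 1), ((4, 44), 2), ((4, 51), 2), ((4, 75), 1), ((4, 78), 1), ((4, 90), 1), ((3, 3), 1), ((3, 4), 2), ((4, 5), 2), ((4, 11), 2), ((4, 12), 1), ((4, 29), 2), ((4, 38), 1), ((4, 40), 1), ((4, 55), 1),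 ((4, 101), 1), ((4, 105), 2), ((4, 106), 1), ((4, 119), 1), ((4, 7), 2), ((4, 31), 2), ((4, 43), 1), ((4, 48), 2), ((4, 58), 2), ((4, 69), 2), ((4, 82), 2), ((3, 1), 2), ((3, 5), 2), ((3, 7), 1), ((3, 16), 1), ((3, 19), 2), ((3, 21), 2), ((3, 29), 2), ((4, 1), 1), ((4, 42), 2), ((4, 54), 1), ((4, 56), 2), ((4, 74), 1), ((4, 80), 1), ((4, 88), 2), ((4, 89), 1), ((4, 99), 2), ((4, 108), 1), ((4, 6), 2), ((4, 18), 2), ((4, 60), 1), ((4, 68), 2), ((4, 113), 1), ((4, 3), 1), ((4, 4), 1), ((4, 10), 1)],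
  [((0, 3), 2), ((0, 4), 1), ((0, 7), 2), ((0, 9), 1), ((0, 16), 2), ((0, 20), 1), ((0, 33), 2), ((0, 39), 1), ((0, 60), 2), ((0, 71), 1), ((0, 93), 2), ((1, 54), 2), ((2, 92), 1), ((1, 0), 2), ((1, 2), 2), ((1, 6), 1), ((1, 10), 1), ((1, 12), 2), ((1, 16), 1), ((1, 18), 1), ((1, 28), 1), ((1, 59), 2), ((2, 1), 1), ((2, 3), 2), ((2, 7), 2), ((2, 11), 2), ((2, 15), 2), ((2, 27), 2), ((2, 60), 1), ((2, 77), 1), ((3, 55), 2), ((3, 103), 1), ((3, 116), 1), ((3, 92), 2), ((3, 20), 2), ((3, 11), 1), ((3, 51), 2), ((3, 71), 2), ((3, 73), 2), ((3, 43), 1), ((3, 69), 1), ((3, 74), 2), ((4, 8), 2), ((4, 9), 1), ((4, 51), 2), ((4, 78), 1), ((4, 92), 1), ((3, 3), 2), ((3, 4), 2), ((3, 68), 1), ((4, 5), 1), ((4, 11), 2), ((4, 12), 2), ((4, 29), 1), ((4, 38), 1), ((4, 40), 2), ((4, 101), 1), ((4, 106), 1), ((4, 7), 2), ((4, 31), 2), ((4, 43),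 2), ((4, 48), 2), ((4, 69), 2), ((4, 82), 2), ((3, 7), 1), ((3, 9), 2), ((3, 16), 2), ((3, 17), 1), ((3, 19), 1), ((3, 30), 1), ((3, 39), 2), ((3, 42), 2), ((4, 26), 1), ((4, 42), 2), ((4, 74), 2), ((4, 80), 2), ((4, 88), 2), ((4, 99), 2), ((4, 103), 1), ((4, 104), 2), ((4, 108), 2), ((4, 6), 1), ((4, 35), 1), ((4, 60), 2), ((4, 68), 2), ((4, 102), 1), ((4, 113), 2), ((4, 2), 1), ((4, 3), 2), ((4, 4), 1), ((4, 10), 1)],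
  [((0, 7), 2), ((0, 8), 1), ((0, 16), 2), ((0, 18), 1), ((0, 34), 2), ((0, 62), 2), ((0, 94), 2), ((1, 54), 1), ((1, 2), 2), ((1, 4), 2), ((1, 6), 1), ((1, 8), 2), ((1, 10), 2), ((1, 16), 1), ((1, 18), 1), ((1, 28), 2), ((1, 48), 1), ((1, 63), 2), ((1, 76), 2), ((2, 5), 1), ((2, 7), 1), ((2, 13), 1), ((2, 23), 2), ((2, 27), 2), ((2, 31), 2), ((2, 38), 1), ((2, 60), 2), ((2, 77), 2), ((2, 82), 1), ((3, 23), 1), ((3, 55), 1), ((3, 116), 1), ((3, 92), 1), ((3, 20), 2), ((3, 11), 2), ((3, 51), 2), ((3, 43), 2), ((4, 8), 2), ((4, 51), 1), ((4, 75), 1), ((4, 78), 1), ((4, 92), 1), ((4, 95), 1), ((3, 3), 1), ((3, 4), 2), ((3, 68), 1), ((4, 5), 1), ((4, 11), 1), ((4, 12), 1), ((4, 38), 2), ((4, 40), 1), ((4, 55), 2), ((4, 101), 2), ((4, 106), 2), ((4, 119), 2), ((4, 7), 1), ((4, 43), 2), ((4, 48), 1), ((4, 58), 2), ((4, 69), 1), ((4, 82),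 1), ((3, 5), 1), ((3, 7), 2), ((3, 8), 2), ((3, 9), 1), ((3, 16), 2), ((3, 19), 1), ((3, 21), 2), ((3, 39), 2), ((3, 42), 1), ((4, 26), 2), ((4, 54), 2), ((4, 56), 1), ((4, 72), 1), ((4, 74), 2), ((4, 80), 2), ((4, 89), 1), ((4, 108), 1), ((4, 116), 2), ((4, 6), 1), ((4, 18), 1), ((4, 68), 2), ((4, 113), 1), ((4, 2), 1), ((4, 4), 1), ((4, 10), 1)],
  [((0, 1), 2), ((0, 2), 1), ((0, 3), 2), ((0, 6), 1), ((0, 8), 2), ((0, 14), 1), ((0, 17), 2), ((0, 29), 1), ((0, 35), 2), ((0, 56), 1), ((0, 64), 2), ((0, 89), 1), ((0, 95), 2), ((0, 112), 1), ((2, 92), 2), ((1, 2), 2), ((1, 4), 1), ((1, 6), 2), ((1, 8), 2), ((1, 10), 1), ((1, 12), 1), ((1, 14), 1), ((1, 16), 1), ((1, 18), 1), ((1, 20), 2), ((1, 28), 1), ((1, 59), 2), ((1, 63), 2), ((1, 76), 1), ((2, 3), 2), ((2, 7), 1), ((2, 9), 2), ((2, 11), 1), ((2, 13), 1), ((2, 15), 1), ((2, 23),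 2), ((2, 31), 1), ((2, 38), 1), ((2, 60), 2), ((2, 77), 2), ((2, 82), 2), ((3, 55), 1), ((3, 103), 1), ((3, 20), 1), ((3, 11), 1), ((3, 51), 2), ((3, 71), 2), ((3, 73), 1), ((3, 43), 1), ((3, 52), 2), ((3, 69), 2), ((4, 8), 1), ((4, 9), 1), ((4, 37), 1), ((4, 44), 2), ((4, 95), 2), ((4, 90), 1), ((3, 3), 1), ((3, 68), 2), ((4, 5), 2), ((4, 11), 2), ((4, 29), 1), ((4, 40), 2), ((4, 55), 1), ((4, 101), 2), ((4, 106), 2), ((4, 119), 1), ((4, 7), 2), ((4, 31), 1), ((4, 43), 2), ((4, 58), 2), ((3, 1), 1), ((3, 9), 2), ((3, 16), 1), ((3, 17), 2), ((3, 19), 1), ((3, 21), 2), ((3, 30), 2), ((3, 39), 1), ((3, 42), 1), ((4, 1), 2), ((4, 26), 1), ((4, 42), 2), ((4, 56), 1), ((4, 72), 1), ((4, 74), 2), ((4, 80), 1), ((4, 89), 1), ((4, 99), 2), ((4, 103), 2), ((4, 108), 1), ((4, 116), 2), ((4, 6), 2), ((4, 18), 1), ((4, 60), 2), ((4, 68), 2),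 ((4, 102), 1), ((4, 113), 2), ((4, 3), 2), ((4, 10), 2)],
  [((0, 113), 1)],
  [((0, 1), 2), ((0, 2), 1), ((0, 3), 2), ((0, 5), 1), ((0, 8), 2), ((0, 11), 1), ((0, 17), 2), ((0, 24), 1), ((0, 36), 2), ((0, 46), 1), ((0, 66), 2), ((0, 97), 2), ((1, 54), 2), ((2, 92), 1), ((1, 0), 1), ((1, 2), 1), ((1, 10), 2), ((1, 28), 2), ((1, 48), 1), ((1, 56), 2), ((1, 59), 2), ((2, 3), 1), ((2, 9), 1), ((2, 11), 2), ((2, 15), 2), ((2, 23), 2), ((2, 27), 2), ((2, 29), 1), ((2, 38), 2), ((2, 60), 1), ((2, 77), 2), ((3, 55), 2), ((3, 103), 1), ((3, 116), 1), ((3, 20), 2), ((3, 11), 1), ((3, 71), 2), ((3, 43), 1), ((3, 74), 1), ((4, 8), 1), ((4, 44), 1), ((4, 51), 1), ((4, 95), 2), ((4, 90), 2), ((3, 68), 1), ((4, 0), 1), ((4, 5), 2), ((4, 38), 2), ((4, 40), 1), ((4, 49), 2), ((4, 55), 2), ((4, 101), 2), ((4, 105), 2), ((4, 119), 2), ((4, 7), 1),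 ((4, 58), 2), ((4, 69), 2), ((4, 82), 2), ((3, 1), 1), ((3, 5), 2), ((3, 7), 2), ((3, 8), 1), ((3, 15), 2), ((3, 16), 2), ((3, 17), 2), ((3, 21), 1), ((3, 29), 1), ((3, 30), 2), ((3, 39), 1), ((3, 42), 1), ((4, 26), 1), ((4, 42), 2), ((4, 54), 2), ((4, 56), 1), ((4, 72), 1), ((4, 74), 2), ((4, 80), 2), ((4, 89), 2), ((4, 99), 1), ((4, 103), 1), ((4, 108), 1), ((4, 116), 2), ((4, 6), 1), ((4, 18), 1), ((4, 35), 1), ((4, 60), 2), ((4, 102), 2), ((4, 113), 1), ((4, 4), 2), ((4, 10), 2)],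
  [((0, 7), 1), ((0, 8), 2), ((0, 16), 1), ((0, 18), 2), ((0, 34), 1), ((0, 37), 2), ((0, 68), 2), ((0, 98), 2), ((1, 54), 2), ((1, 2), 1), ((1, 4), 1), ((1, 6), 2), ((1, 8), 1), ((1, 10), 1), ((1, 16), 2), ((1, 28), 1), ((1, 48), 2), ((1, 63), 1), ((1, 76), 1), ((2, 5), 2), ((2, 7), 2), ((2, 13), 2), ((2, 23), 1), ((2, 27), 1), ((2, 31), 1), ((2, 38), 2), ((2, 60), 1), ((2, 77), 1), ((2, 82), 2), ((3, 23), 2), ((3, 55), 2), ((3, 116), 2), ((3, 92), 2), ((3, 20), 1), ((3, 11), 1), ((3, 51), 1), ((3, 43), 1), ((4, 8), 1), ((4, 51), 2), ((4, 75), 2), ((4, 78), 2), ((4, 92), 2), ((4, 95), 2), ((3, 3), 2), ((3, 4), 1), ((3, 68), 2), ((4, 5), 2), ((4, 11), 2), ((4, 12), 2), ((4, 38), 1), ((4, 40), 2), ((4, 55), 1), ((4, 101), 1), ((4, 106), 1), ((4, 119), 1), ((4, 7), 2), ((4, 43), 1), ((4, 48), 2), ((4, 58), 1), ((4, 69), 2), ((4, 82),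 2), ((3, 5), 2), ((3, 7), 1), ((3, 8), 1), ((3, 9), 2), ((3, 16), 1), ((3, 19), 2), ((3, 21), 1), ((3, 39), 1), ((3, 42), 2), ((4, 26), 1), ((4, 54), 1), ((4, 56), 2), ((4, 72), 2), ((4, 74), 1), ((4, 80), 1), ((4, 89), 2), ((4, 108), 2), ((4, 116), 1), ((4, 6), 2), ((4, 18), 2), ((4, 68), 1), ((4, 113), 2), ((4, 2), 2), ((4, 4), 2), ((4, 10), 2)],
  [((0, 115), 1)],
  [((0, 21), 2), ((0, 22), 1), ((0, 41), 2), ((0, 42), 1), ((0, 74), 2), ((0, 75), 1), ((0, 100), 2), ((0, 102), 1), ((1, 0), 1), ((1, 8), 1), ((1, 12), 1), ((1, 14), 1), ((1, 18), 1), ((1, 48), 1), ((1, 59), 2), ((1, 63), 1), ((1, 76), 1), ((2, 0), 2), ((2, 5), 2), ((2, 9), 1), ((2, 11), 1), ((2, 13), 2), ((2, 38), 1), ((2, 60), 1), ((2, 77), 1), ((2, 82), 1), ((3, 55), 2), ((3, 116), 1), ((3, 92), 1), ((3, 20), 2), ((3, 51), 1), ((3, 71), 1), ((3, 73), 2), ((3, 43),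 1), ((3, 69), 1), ((3, 74), 1), ((4, 9), 1), ((4, 44), 1), ((4, 51), 2), ((4, 75), 1), ((4, 78), 1), ((4, 92), 2), ((4, 95), 2), ((4, 90), 1), ((3, 3), 1), ((3, 4), 1), ((3, 68), 2), ((4, 5), 2), ((4, 12), 2), ((4, 29), 2), ((4, 38), 1), ((4, 49), 1), ((4, 55), 1), ((4, 105), 2), ((4, 106), 1), ((4, 119), 1), ((4, 43), 1), ((4, 48), 1), ((4, 69), 1), ((4, 82), 1), ((3, 1), 1), ((3, 5), 2), ((3, 7), 2), ((3, 8), 2), ((3, 9), 1), ((3, 15), 1), ((3, 16), 2), ((3, 17), 2), ((3, 21), 2), ((3, 39), 2), ((3, 42), 2), ((4, 1), 2), ((4, 26), 1), ((4, 42), 2), ((4, 54), 1), ((4, 72), 1), ((4, 74), 1), ((4, 80), 2), ((4, 103), 2), ((4, 104), 1), ((4, 108), 1), ((4, 116), 1), ((4, 6), 2), ((4, 60), 2), ((4, 68), 2), ((4, 102), 2), ((4, 2), 2), ((4, 4), 1)],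
  [((0, 116), 1)],
  [((0, 117), 1)],
  [((0, 23), 2), ((0, 24), 1), ((0, 43), 2), ((0, 45), 1), ((0, 76), 2), ((0, 79), 1), ((0, 103), 2), ((0, 105), 1), ((1, 54), 2), ((2, 92), 2), ((1, 0), 1), ((1, 2), 1), ((1, 6), 1), ((1, 8), 2), ((1, 10), 2), ((1, 14), 2), ((1, 16), 2), ((1, 18), 2), ((1, 20), 1), ((1, 28), 2), ((1, 48), 2), ((1, 56), 1), ((1, 76), 2), ((2, 0), 2), ((2, 1), 1), ((2, 3), 1), ((2, 7), 2), ((2, 9), 1), ((2, 11), 1), ((2, 13), 1), ((2, 15), 2), ((2, 27), 2), ((2, 31), 1), ((2, 38), 1), ((2, 60), 1), ((2, 82), 2), ((3, 55), 2), ((3, 103), 2), ((3, 116), 1), ((3, 11), 2), ((3, 51), 1), ((3, 52), 2), ((3, 69), 2), ((3, 74), 2), ((4, 51), 2), ((4, 75), 2), ((4, 95), 1), ((3, 3), 1), ((3, 68), 2), ((4, 0), 2), ((4, 11), 1), ((4, 29), 2), ((4, 38), 2), ((4, 49), 2), ((4, 55), 2), ((4, 101), 2), ((4, 105), 2), ((4, 106),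 1), ((4, 7), 1), ((4, 43), 2), ((4, 48), 1), ((4, 69), 2), ((3, 1), 2), ((3, 8), 2), ((3, 9), 1), ((3, 15), 1), ((3, 16), 1), ((3, 19), 1), ((3, 21), 2), ((3, 29), 1), ((3, 30), 1), ((3, 39), 2), ((3, 42), 2), ((4, 1), 1), ((4, 42), 2), ((4, 54), 1), ((4, 56), 2), ((4, 72), 1), ((4, 74), 2), ((4, 80), 2), ((4, 88), 1), ((4, 89), 2), ((4, 99), 2), ((4, 103), 2), ((4, 108), 2), ((4, 116), 1), ((4, 6), 2), ((4, 68), 2), ((4, 102), 1), ((4, 113), 2), ((4, 2), 1), ((4, 4), 1)],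
  [((0, 1), 1), ((0, 2), 2), ((0, 4), 1), ((0, 5), 2), ((0, 11), 2), ((0, 23), 2), ((0, 44), 2), ((0, 78), 2), ((0, 104), 2), ((1, 54), 1), ((2, 92), 2), ((1, 0), 2), ((1, 2), 1), ((1, 4), 2), ((1, 6), 2), ((1, 8), 1), ((1, 10), 1), ((1, 12), 1), ((1, 16), 2), ((1, 20), 2), ((1, 48), 2), ((1, 56), 1), ((1, 59), 2), ((1, 76), 2), ((2, 0), 1), ((2, 1), 2), ((2, 3), 1), ((2, 5), 1), ((2, 7), 1), ((2, 9), 1), ((2, 11), 1), ((2, 15), 2), ((2, 23), 2), ((2, 27), 2), ((2, 31), 2), ((2, 60), 1), ((2, 77), 1), ((3, 23), 1), ((3, 55), 2), ((3, 103), 1), ((3, 11), 1), ((3, 51), 1), ((3, 71), 1), ((3, 52), 2), ((3, 69), 1), ((3, 74), 2), ((4, 37), 1), ((4, 51), 2), ((4, 78), 2), ((4, 92), 2), ((3, 68), 2), ((4, 0), 2), ((4, 11), 1), ((4, 12), 2), ((4, 38), 1), ((4, 49), 1), ((4, 101), 2), ((4, 7), 2), ((4, 31), 2), ((4, 43), 1), ((4, 48), 1),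 ((4, 69), 2), ((4, 82), 1), ((3, 1), 2), ((3, 5), 2), ((3, 7), 1), ((3, 8), 2), ((3, 9), 1), ((3, 15), 1), ((3, 16), 2), ((3, 17), 1), ((3, 21), 2), ((3, 30), 2), ((4, 26), 1), ((4, 42), 2), ((4, 72), 2), ((4, 74), 2), ((4, 80), 1), ((4, 88), 2), ((4, 103), 1), ((4, 104), 2), ((4, 108), 2), ((4, 116), 1), ((4, 6), 2), ((4, 18), 1), ((4, 35), 2), ((4, 60), 2), ((4, 68), 1), ((4, 102), 2), ((4, 113), 1), ((4, 2), 1), ((4, 4), 2), ((4, 10), 2)],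
  [((0, 23), 1), ((0, 24), 2), ((0, 43), 1), ((0, 45), 2), ((0, 76), 1), ((0, 79), 2), ((0, 103), 1), ((0, 105), 2), ((0, 118), 1), ((1, 54), 2), ((1, 2), 1), ((1, 4), 1), ((1, 6), 2), ((1, 8), 1), ((1, 12), 1), ((1, 14), 1), ((1, 18), 2), ((1, 20), 1), ((1, 56), 1), ((1, 63), 2), ((2, 0), 1), ((2, 1), 2), ((2, 3), 1), ((2, 5), 2), ((2, 11), 2), ((2, 13), 1), ((2, 15), 2), ((2, 23), 2), ((2, 27), 2), ((2, 29), 2), ((2, 60), 2), ((2, 77), 2), ((3, 23), 1), ((3, 55), 2), ((3, 116), 2), ((3, 92), 1), ((3, 20), 2), ((3, 51), 2), ((3, 71), 2), ((3, 73), 2), ((3, 43), 2), ((3, 74), 1), ((4, 8), 1), ((4, 9), 2), ((4, 44), 2), ((4, 51), 1), ((4, 75), 1), ((4, 92), 1), ((4, 95), 2), ((3, 3), 2), ((4, 0), 2), ((4, 5), 1), ((4, 11), 2), ((4, 12), 2), ((4, 38), 2), ((4, 40), 2), ((4, 105), 2), ((4, 119), 1), ((4, 7), 1), ((4, 31), 2), ((4,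 43), 2), ((4, 48), 2), ((4, 58), 1), ((4, 69), 2), ((3, 5), 1), ((3, 9), 2), ((3, 15), 2), ((3, 16), 2), ((3, 19), 2), ((3, 21), 1), ((3, 29), 2), ((3, 42), 2), ((4, 26), 1), ((4, 54), 2), ((4, 56), 1), ((4, 72), 1), ((4, 80), 1), ((4, 88), 1), ((4, 89), 2), ((4, 99), 1), ((4, 103), 1), ((4, 104), 2), ((4, 116), 1), ((4, 6), 1), ((4, 35), 1), ((4, 60), 1), ((4, 113), 1), ((4, 2), 1), ((4, 4), 2), ((4, 10), 2)],
  [((0, 5), 2), ((0, 6), 1), ((0, 12), 2), ((0, 14), 1), ((0, 25), 2), ((0, 30), 1), ((0, 47), 2), ((0, 82), 2), ((0, 106), 2), ((1, 54), 2), ((1, 0), 2), ((1, 2), 1), ((1, 4), 1), ((1, 6), 1), ((1, 8), 2), ((1, 10), 1), ((1, 14), 1), ((1, 18), 2), ((1, 20), 1), ((1, 28), 2), ((1, 56), 2), ((1, 59), 2), ((1, 63), 2), ((1, 76), 2), ((2, 3), 1), ((2, 5), 1), ((2, 9), 1), ((2, 11), 2), ((2, 13), 1), ((2, 23), 2), ((2, 29), 1),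 ((2, 31), 2), ((2, 38), 2), ((2, 60), 1), ((2, 82), 2), ((3, 23), 1), ((3, 103), 1), ((3, 116), 2), ((3, 20), 1), ((3, 51), 1), ((3, 73), 2), ((3, 43), 1), ((3, 52), 1), ((3, 69), 2), ((4, 8), 2), ((4, 37), 1), ((4, 44), 2), ((4, 75), 1), ((4, 78), 1), ((4, 92), 2), ((4, 90), 1), ((3, 3), 2), ((3, 4), 1), ((3, 68), 1), ((4, 0), 1), ((4, 5), 1), ((4, 11), 1), ((4, 12), 1), ((4, 29), 1), ((4, 38), 1), ((4, 40), 1), ((4, 49), 2), ((4, 55), 2), ((4, 101), 2), ((4, 105), 2), ((4, 106), 1), ((4, 7), 2), ((4, 31), 2), ((4, 48), 1), ((4, 69), 1), ((3, 5), 1), ((3, 7), 2), ((3, 9), 2), ((3, 21), 2), ((3, 30), 2), ((3, 39), 2), ((4, 1), 2), ((4, 26), 2), ((4, 42), 2), ((4, 72), 1), ((4, 99), 1), ((4, 103), 2), ((4, 108), 2), ((4, 116), 1), ((4, 102), 1), ((4, 113), 1), ((4, 3), 1), ((4, 4), 2), ((4, 10), 1)],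
  [((0, 1), 1), ((0, 2), 2), ((0, 3), 1), ((0, 6), 2), ((0, 7), 1), ((0, 13), 2), ((0, 16), 1), ((0, 27), 2), ((0, 34), 1), ((0, 51), 2), ((0, 63), 1), ((0, 84), 2), ((0, 107), 2), ((1, 54), 1), ((1, 0), 1), ((1, 2), 2), ((1, 6), 1), ((1, 10), 2), ((1, 12), 1), ((1, 14), 2), ((1, 16), 1), ((1, 20), 1), ((1, 28), 2), ((1, 56), 2), ((1, 59), 2), ((1, 63), 2), ((1, 76), 2), ((2, 0), 2), ((2, 3), 2), ((2, 7), 1), ((2, 13), 1), ((2, 23), 1), ((2, 29), 2), ((2, 31), 2), ((2, 60), 2), ((2, 77), 1), ((2, 82), 2), ((3, 23), 2), ((3, 116), 1), ((3, 20), 2), ((3, 51), 1), ((3, 71), 2), ((3, 73), 1), ((3, 43), 2), ((3, 52), 2), ((3, 69), 1), ((3, 74), 1), ((4, 8), 1), ((4, 9), 1), ((4, 37), 1), ((4, 44), 2), ((4, 51), 2), ((4, 78), 2), ((4, 95), 1), ((3, 68), 1), ((4, 0), 1), ((4, 11), 1), ((4, 12), 1), ((4, 29), 2), ((4, 38), 1), ((4, 49),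 1), ((4, 55), 1), ((4, 101), 2), ((4, 106), 2), ((4, 119), 2), ((4, 48), 2), ((4, 58), 2), ((4, 82), 1), ((3, 1), 2), ((3, 7), 1), ((3, 8), 2), ((3, 9), 1), ((3, 15), 1), ((3, 16), 2), ((3, 17), 2), ((3, 19), 1), ((3, 21), 2), ((3, 29), 2), ((3, 42), 1), ((4, 1), 2), ((4, 26), 2), ((4, 54), 1), ((4, 56), 1), ((4, 72), 1), ((4, 74), 1), ((4, 80), 2), ((4, 88), 2), ((4, 89), 1), ((4, 103), 2), ((4, 104), 2), ((4, 108), 2), ((4, 116), 2), ((4, 6), 1), ((4, 35), 1), ((4, 60), 1), ((4, 68), 1), ((4, 102), 2), ((4, 113), 1), ((4, 2), 1), ((4, 3), 2)],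
  [((0, 1), 1), ((0, 2), 2), ((0, 3), 1), ((0, 6), 2), ((0, 8), 1), ((0, 13), 2), ((0, 17), 1), ((0, 28), 2), ((0, 36), 1), ((0, 53), 2), ((0, 66), 1), ((0, 85), 2), ((0, 97), 1), ((0, 108), 2), ((0, 114), 1), ((1, 54), 1), ((1, 2), 1), ((1, 4), 2), ((1, 6), 2), ((1, 10), 1), ((1, 12), 1), ((1, 16), 2), ((1, 18), 2), ((1, 20), 1), ((1, 48), 2), ((1, 56), 2), ((1, 59), 2), ((1, 63), 1), ((1, 76), 2), ((2, 0), 1), ((2, 1), 1), ((2, 3), 1), ((2, 7), 2), ((2, 9), 1), ((2, 13), 2), ((2, 23), 1), ((2, 29), 2), ((2, 31), 2), ((2, 60), 2), ((2, 77), 1), ((2, 82), 1), ((3, 23), 1), ((3, 20), 2), ((3, 51), 1), ((3, 73), 1), ((3, 52), 2), ((3, 69), 1), ((4, 8), 2), ((4, 44), 2), ((4, 51), 1), ((4, 75), 2), ((4, 78), 1), ((4, 90), 2), ((3, 3), 2), ((3, 4), 2), ((3, 68), 2), ((4, 0), 1), ((4, 11), 1), ((4, 12), 1), ((4, 29), 2), ((4, 38), 2),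 ((4, 40), 1), ((4, 55), 2), ((4, 101), 2), ((4, 105), 1), ((4, 106), 1), ((4, 7), 1), ((4, 43), 1), ((4, 48), 2), ((4, 58), 2), ((4, 82), 2), ((3, 1), 2), ((3, 5), 1), ((3, 7), 2), ((3, 8), 1), ((3, 9), 2), ((3, 15), 1), ((3, 16), 1), ((3, 29), 1), ((3, 39), 2), ((4, 1), 2), ((4, 26), 2), ((4, 42), 1), ((4, 54), 1), ((4, 56), 1), ((4, 72), 2), ((4, 88), 2), ((4, 89), 2), ((4, 99), 1), ((4, 103), 1), ((4, 104), 2), ((4, 108), 1), ((4, 116), 2), ((4, 6), 1), ((4, 35), 1), ((4, 60), 2), ((4, 68), 1), ((4, 102), 2), ((4, 113), 1), ((4, 2), 2), ((4, 4), 2), ((4, 10), 2)],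
  [((0, 27), 1), ((0, 28), 2), ((0, 51), 1), ((0, 54), 2), ((0, 84), 1), ((0, 86), 2), ((0, 107), 1), ((0, 109), 2), ((1, 54), 2), ((2, 92), 1), ((1, 0), 1), ((1, 2), 1), ((1, 6), 2), ((1, 8), 1), ((1, 10), 1), ((1, 12), 2), ((1, 14), 1), ((1, 18), 2), ((1, 20), 2), ((1, 28), 2), ((1, 48), 2), ((1, 56), 1), ((1, 59), 2), ((1, 76), 1), ((2, 1), 2), ((2, 7), 2), ((2, 9), 1), ((2, 11), 1), ((2, 15), 1), ((2, 23), 1), ((2, 31), 2), ((2, 38), 2), ((2, 82), 1), ((3, 55), 1), ((3, 20), 2), ((3, 51), 2), ((3, 71), 2), ((3, 73), 1), ((3, 43), 2), ((3, 52), 1), ((3, 69), 1), ((4, 9), 1), ((4, 37), 2), ((4, 44), 1), ((4, 51), 2), ((4, 75), 2), ((4, 78), 1), ((4, 92), 2), ((4, 95), 1), ((4, 90), 1), ((4, 5), 1), ((4, 12), 1), ((4, 29), 2), ((4, 38), 2), ((4, 40), 1), ((4, 49), 2), ((4, 55), 2), ((4, 101), 2), ((4, 105), 1), ((4, 106), 1), ((4,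 119), 1), ((4, 7), 2), ((4, 43), 2), ((4, 48), 2), ((4, 82), 1), ((3, 1), 1), ((3, 5), 1), ((3, 7), 1), ((3, 9), 2), ((3, 15), 1), ((3, 16), 2), ((3, 19), 1), ((3, 21), 2), ((3, 30), 2), ((3, 39), 1), ((3, 42), 1), ((4, 26), 1), ((4, 54), 2), ((4, 72), 2), ((4, 74), 1), ((4, 89), 1), ((4, 104), 2), ((4, 116), 1), ((4, 6), 2), ((4, 18), 1), ((4, 35), 1), ((4, 60), 1), ((4, 102), 1), ((4, 113), 2), ((4, 2), 2), ((4, 10), 1)],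
  [((0, 119), 1)],
  [((0, 5), 1), ((0, 6), 2), ((0, 12), 1), ((0, 14), 2), ((0, 26), 1), ((0, 29), 2), ((0, 50), 1), ((0, 55), 2), ((0, 88), 2), ((0, 111), 2), ((2, 92), 2), ((1, 0), 1), ((1, 2), 1), ((1, 4), 2), ((1, 8), 1), ((1, 10), 2), ((1, 12), 1), ((1, 16), 2), ((1, 18), 1), ((1, 20), 2), ((1, 28), 1), ((1, 48), 1), ((1, 56), 1), ((1, 59), 2), ((1, 63), 1), ((1, 76), 2), ((2, 0), 1), ((2, 7), 2), ((2, 9), 1), ((2, 11), 2), ((2, 15), 2), ((2, 23), 1), ((2, 27), 1), ((2, 29), 1), ((2, 38), 1), ((2, 60), 2), ((2, 82), 2), ((3, 23), 2), ((3, 55), 1), ((3, 103), 1), ((3, 116), 1), ((3, 92), 1), ((3, 11), 1), ((3, 51), 2), ((3, 71), 1), ((3, 73), 2), ((3, 43), 2), ((3, 69), 2), ((4, 8), 2), ((4, 9), 1), ((4, 37), 1), ((4, 44), 2), ((4, 51), 2), ((4, 78), 1), ((4, 92), 2), ((4, 95), 1), ((4, 90), 1), ((3, 4), 1), ((4, 12), 1), ((4,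 29), 2), ((4, 38), 2), ((4, 40), 1), ((4, 101), 2), ((4, 105), 2), ((4, 119), 2), ((4, 31), 1), ((4, 69), 2), ((4, 82), 1), ((3, 5), 1), ((3, 7), 1), ((3, 8), 2), ((3, 9), 2), ((3, 15), 1), ((3, 16), 1), ((3, 17), 2), ((3, 19), 2), ((3, 21), 1), ((3, 30), 1), ((3, 39), 1), ((3, 42), 1), ((4, 1), 1), ((4, 26), 1), ((4, 56), 2), ((4, 72), 1), ((4, 74), 2), ((4, 89), 1), ((4, 103), 2), ((4, 104), 2), ((4, 108), 1), ((4, 35), 2), ((4, 60), 1), ((4, 102), 2), ((4, 113), 2), ((4, 2), 2), ((4, 3), 1), ((4, 4), 1), ((4, 10), 1)],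
  [((0, 1), 1), ((0, 2), 2), ((0, 3), 1), ((0, 6), 2), ((0, 7), 1), ((0, 14), 2), ((0, 15), 1), ((0, 29), 2), ((0, 32), 1), ((0, 56), 2), ((0, 89), 2), ((0, 112), 2), ((1, 54), 2), ((2, 92), 1), ((1, 2), 1), ((1, 4), 2), ((1, 6), 2), ((1, 10), 2), ((1, 16), 2), ((1, 20), 1), ((1, 59), 1), ((1, 63), 1), ((2, 0), 2), ((2, 3), 1), ((2, 5), 1), ((2, 9), 2), ((2, 13), 2), ((2, 15), 1), ((2, 23), 1), ((2, 27), 2), ((2, 31), 1), ((2, 38), 1), ((2, 60), 1), ((3, 55), 1), ((3, 116), 1), ((3, 92), 1), ((3, 20), 2), ((3, 11), 2), ((3, 51), 2), ((3, 71), 1), ((3, 73), 2), ((3, 43), 1), ((3, 52), 1), ((3, 69), 2), ((4, 9), 1), ((4, 37), 1), ((4, 44), 2), ((4, 51), 1), ((4, 75), 2), ((4, 78), 1), ((4, 92), 2), ((4, 95), 2), ((4, 90), 1), ((3, 68), 2), ((4, 0), 1), ((4, 5), 1), ((4, 11), 1), ((4, 29), 1), ((4, 40), 1), ((4, 49), 2), ((4, 55),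 1), ((4, 106), 2), ((4, 31), 1), ((4, 43), 1), ((4, 69), 2), ((3, 1), 1), ((3, 7), 1), ((3, 8), 2), ((3, 9), 1), ((3, 17), 1), ((3, 19), 1), ((3, 21), 1), ((3, 29), 1), ((3, 39), 2), ((3, 42), 1), ((4, 1), 2), ((4, 42), 1), ((4, 54), 2), ((4, 56), 2), ((4, 72), 1), ((4, 74), 1), ((4, 80), 1), ((4, 88), 2), ((4, 89), 2), ((4, 99), 2), ((4, 103), 2), ((4, 104), 1), ((4, 116), 2), ((4, 6), 1), ((4, 18), 1), ((4, 35), 2), ((4, 60), 1), ((4, 68), 1), ((4, 102), 2), ((4, 113), 2), ((4, 2), 1), ((4, 3), 2), ((4, 4), 2)],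
  [((0, 7), 1), ((0, 8), 2), ((0, 15), 1), ((0, 17), 2), ((0, 31), 1), ((0, 35), 2), ((0, 59), 1), ((0, 64), 2), ((0, 96), 2), ((0, 113), 2), ((1, 54), 2), ((2, 92), 1), ((1, 0), 1), ((1, 2), 1), ((1, 4), 1), ((1, 6), 1), ((1, 12), 2), ((1, 14), 1), ((1, 16), 2), ((1, 18), 2), ((1, 20), 2), ((1, 28), 2), ((1, 59), 2), ((1, 63), 2), ((1, 76), 2), ((2, 1), 1), ((2, 5), 1), ((2, 9), 1), ((2, 13), 2), ((2, 27), 1), ((2, 31), 2), ((2, 38), 1), ((2, 60), 1), ((2, 77), 2), ((3, 23), 1), ((3, 55), 1), ((3, 20), 1), ((3, 11), 2), ((3, 51), 1), ((3, 73), 1), ((3, 43), 1), ((3, 69), 1), ((3, 74), 2), ((4, 8), 2), ((4, 9), 1), ((4, 37), 1), ((4, 44), 1), ((4, 51), 1), ((4, 75), 1), ((4, 78), 2), ((4, 95), 2), ((4, 90), 2), ((3, 4), 1), ((4, 0), 2), ((4, 11), 1), ((4, 12), 1), ((4, 29), 2), ((4, 38), 2), ((4, 49), 1), ((4, 55), 1), ((4, 101),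 2), ((4, 7), 1), ((4, 31), 2), ((4, 48), 2), ((4, 69), 1), ((3, 7), 1), ((3, 8), 2), ((3, 15), 1), ((3, 16), 2), ((3, 17), 1), ((3, 21), 1), ((3, 29), 1), ((4, 1), 1), ((4, 26), 1), ((4, 54), 2), ((4, 56), 1), ((4, 74), 2), ((4, 80), 1), ((4, 99), 1), ((4, 104), 2), ((4, 108), 2), ((4, 116), 1), ((4, 35), 1), ((4, 60), 1), ((4, 68), 2), ((4, 102), 1), ((4, 3), 2), ((4, 4), 2)],
  [((0, 7), 1), ((0, 8), 2), ((0, 16), 1), ((0, 17), 2), ((0, 33), 1), ((0, 36), 2), ((0, 60), 1), ((0, 66), 2), ((0, 93), 1), ((0, 97), 2), ((0, 114), 2), ((2, 92), 1), ((1, 0), 1), ((1, 2), 2), ((1, 4), 2), ((1, 8), 1), ((1, 10), 2), ((1, 14), 2), ((1, 16), 1), ((1, 18), 2), ((1, 20), 1), ((1, 56), 1), ((1, 59), 2), ((1, 76), 2), ((2, 0), 2), ((2, 1), 1), ((2, 3), 1), ((2, 7), 1), ((2, 9), 2), ((2, 15), 2), ((2, 23), 1), ((2, 27), 2), ((2, 29), 2), ((2,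 31), 2), ((2, 38), 1), ((2, 60), 2), ((2, 82), 2), ((3, 23), 1), ((3, 55), 1), ((3, 103), 1), ((3, 116), 2), ((3, 20), 2), ((3, 11), 1), ((3, 51), 1), ((3, 71), 1), ((3, 73), 1), ((3, 52), 1), ((3, 69), 1), ((3, 74), 2), ((4, 9), 1), ((4, 44), 1), ((4, 51), 1), ((4, 75), 1), ((4, 78), 1), ((4, 92), 1), ((4, 95), 2), ((4, 90), 1), ((3, 3), 1), ((3, 4), 1), ((4, 0), 1), ((4, 49), 2), ((4, 55), 1), ((4, 101), 1), ((4, 105), 1), ((4, 106), 2), ((4, 119), 1), ((4, 31), 1), ((4, 58), 2), ((4, 82), 2), ((3, 1), 2), ((3, 5), 1), ((3, 7), 2), ((3, 9), 1), ((3, 15), 2), ((3, 19), 2), ((3, 21), 2), ((3, 42), 1), ((4, 1), 1), ((4, 26), 1), ((4, 42), 1), ((4, 54), 2), ((4, 56), 2), ((4, 72), 2), ((4, 80), 2), ((4, 88), 2), ((4, 89), 1), ((4, 99), 1), ((4, 103), 1), ((4, 116), 2), ((4, 35), 1), ((4, 68), 1), ((4, 113), 2), ((4, 2), 1), ((4, 10),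 2)],
  [((0, 1), 2), ((0, 2), 1), ((0, 4), 2), ((0, 6), 1), ((0, 10), 2), ((0, 13), 1), ((0, 21), 2), ((0, 27), 1), ((0, 41), 2), ((0, 52), 1), ((0, 73), 2), ((0, 99), 2), ((0, 115), 2), ((1, 54), 1), ((1, 2), 1), ((1, 4), 2), ((1, 10), 2), ((1, 12), 1), ((1, 14), 2), ((1, 18), 2), ((1, 28), 1), ((1, 59), 2), ((1, 63), 1), ((1, 76), 2), ((2, 1), 1), ((2, 3), 2), ((2, 7), 1), ((2, 11), 1), ((2, 15), 2), ((2, 27), 1), ((2, 29), 2), ((2, 31), 2), ((2, 38), 1), ((2, 60), 1), ((2, 77), 1), ((2, 82), 2), ((3, 23), 1), ((3, 55), 1), ((3, 103), 1), ((3, 92), 1), ((3, 20), 2), ((3, 51), 2), ((3, 71), 2), ((3, 52), 1), ((3, 74), 2), ((4, 8), 1), ((4, 9), 2), ((4, 37), 2), ((4, 44), 2), ((4, 78), 2), ((4, 92), 1), ((4, 95), 2), ((4, 90), 1), ((3, 4), 2), ((3, 68), 1), ((4, 0), 2), ((4, 11), 1), ((4, 12), 1), ((4, 29), 1), ((4, 40), 1), ((4,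 101), 2), ((4, 31), 1), ((4, 43), 2), ((4, 48), 2), ((4, 58), 1), ((4, 69), 2), ((4, 82), 1), ((3, 1), 2), ((3, 5), 2), ((3, 7), 1), ((3, 9), 1), ((3, 15), 1), ((3, 17), 2), ((3, 21), 1), ((3, 30), 1), ((3, 39), 1), ((3, 42), 2), ((4, 54), 2), ((4, 56), 2), ((4, 72), 2), ((4, 74), 1), ((4, 80), 2), ((4, 99), 2), ((4, 103), 2), ((4, 104), 2), ((4, 116), 1), ((4, 18), 2), ((4, 35), 1), ((4, 60), 2), ((4, 102), 1), ((4, 113), 1), ((4, 2), 2), ((4, 4), 1), ((4, 10), 1)],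
  [((0, 1), 2), ((0, 2), 1), ((0, 4), 2), ((0, 5), 1), ((0, 10), 2), ((0, 12), 1), ((0, 22), 2), ((0, 25), 1), ((0, 42), 2), ((0, 48), 1), ((0, 75), 2), ((0, 101), 2), ((0, 116), 2), ((1, 54), 1), ((1, 2), 2), ((1, 4), 1), ((1, 6), 1), ((1, 8), 2), ((1, 10), 2), ((1, 12), 1), ((1, 14), 2), ((1, 16), 1), ((1, 18), 1), ((1, 20), 2), ((1, 28), 2), ((1, 48), 1), ((1, 63), 1), ((2, 0), 1), ((2, 1), 1), ((2, 3), 2), ((2, 7), 2), ((2, 9), 1), ((2, 13), 2), ((2, 15), 1), ((2, 27), 1), ((2, 31), 1), ((2, 38), 1), ((2, 82), 1), ((3, 55), 2), ((3, 103), 2), ((3, 116), 2), ((3, 92), 1), ((3, 20), 2), ((3, 51), 2), ((3, 71), 2), ((3, 43), 2), ((3, 52), 1), ((3, 69), 1), ((3, 74), 1), ((4, 9), 1), ((4, 44), 2), ((4, 78), 1), ((4, 90), 2), ((3, 4), 1), ((3, 68), 1), ((4, 5), 1), ((4, 11), 2), ((4, 29), 1), ((4, 38), 1), ((4, 101), 1), ((4, 105),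 1), ((4, 106), 1), ((4, 7), 2), ((4, 43), 2), ((4, 48), 2), ((4, 69), 1), ((3, 5), 2), ((3, 7), 1), ((3, 8), 2), ((3, 9), 2), ((3, 15), 1), ((3, 17), 1), ((3, 30), 2), ((3, 42), 2), ((4, 1), 2), ((4, 26), 2), ((4, 54), 2), ((4, 56), 1), ((4, 72), 2), ((4, 88), 1), ((4, 89), 2), ((4, 103), 2), ((4, 104), 2), ((4, 108), 2), ((4, 6), 1), ((4, 35), 1), ((4, 68), 1), ((4, 4), 1), ((4, 10), 2)],
  [((0, 1), 2), ((0, 2), 1), ((0, 4), 2), ((0, 6), 1), ((0, 10), 2), ((0, 13), 1), ((0, 22), 2), ((0, 28), 1), ((0, 42), 2), ((0, 54), 1), ((0, 75), 2), ((0, 86), 1), ((0, 102), 2), ((0, 109), 1), ((0, 117), 2), ((1, 54), 2), ((2, 92), 1), ((1, 0), 1), ((1, 2), 1), ((1, 4), 1), ((1, 6), 2), ((1, 8), 2), ((1, 10), 1), ((1, 14), 1), ((1, 16), 2), ((1, 18), 1), ((1, 20), 1), ((1, 28), 2), ((1, 48), 2), ((1, 56), 2), ((1, 76), 2), ((2, 0), 1), ((2,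 1), 2), ((2, 3), 2), ((2, 7), 2), ((2, 11), 2), ((2, 13), 2), ((2, 15), 1), ((2, 23), 2), ((2, 27), 1), ((2, 38), 1), ((2, 77), 2), ((2, 82), 2), ((3, 23), 1), ((3, 55), 1), ((3, 103), 2), ((3, 92), 1), ((3, 20), 1), ((3, 11), 1), ((3, 71), 1), ((3, 73), 1), ((3, 43), 2), ((3, 52), 2), ((3, 69), 1), ((4, 8), 1), ((4, 9), 1), ((4, 37), 1), ((4, 78), 1), ((4, 92), 2), ((3, 68), 1), ((4, 0), 1), ((4, 5), 2), ((4, 12), 2), ((4, 29), 1), ((4, 38), 1), ((4, 49), 1), ((4, 101), 1), ((4, 105), 1), ((4, 31), 2), ((4, 48), 2), ((4, 58), 2), ((3, 1), 1), ((3, 5), 1), ((3, 7), 1), ((3, 8), 2), ((3, 9), 2), ((3, 16), 2), ((3, 17), 1), ((3, 19), 2), ((3, 30), 2), ((3, 39), 1), ((4, 1), 2), ((4, 26), 2), ((4, 54), 2), ((4, 56), 2), ((4, 80), 1), ((4, 99), 2), ((4, 103), 1), ((4, 104), 1), ((4, 108), 1), ((4, 116), 2), ((4, 6), 2), ((4, 18), 1),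 ((4, 35), 2), ((4, 68), 2), ((4, 102), 2), ((4, 113), 1), ((4, 2), 1), ((4, 3), 2), ((4, 4), 2), ((4, 10), 1)],
  [((0, 11), 2), ((0, 12), 1), ((0, 23), 2), ((0, 26), 1), ((0, 43), 2), ((0, 50), 1), ((0, 76), 2), ((0, 83), 1), ((0, 103), 2), ((0, 118), 2), ((1, 54), 1), ((2, 92), 1), ((1, 0), 2), ((1, 6), 2), ((1, 8), 2), ((1, 10), 2), ((1, 12), 2), ((1, 14), 2), ((1, 16), 2), ((1, 18), 2), ((1, 20), 2), ((1, 28), 1), ((1, 59), 1), ((1, 76), 2), ((2, 5), 1), ((2, 9), 1), ((2, 11), 1), ((2, 13), 1), ((2, 15), 2), ((2, 27), 1), ((2, 29), 1), ((2, 31), 1), ((2, 38), 1), ((2, 82), 2), ((3, 23), 1), ((3, 55), 1), ((3, 103), 1), ((3, 92), 1), ((3, 20), 1), ((3, 11), 1), ((3, 51), 1), ((3, 71), 1), ((3, 43), 1), ((4, 37), 2), ((4, 44), 2), ((4, 51), 2), ((4, 75), 2), ((4, 78), 2), ((4, 92), 2), ((4, 90), 1), ((3, 4), 1), ((3, 68), 1),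 ((4, 0), 1), ((4, 11), 1), ((4, 12), 2), ((4, 29), 1), ((4, 38), 1), ((4, 40), 2), ((4, 49), 1), ((4, 55), 2), ((4, 101), 2), ((4, 105), 1), ((4, 119), 2), ((4, 7), 2), ((4, 43), 2), ((4, 48), 2), ((4, 69), 1), ((4, 82), 2), ((3, 1), 1), ((3, 5), 1), ((3, 8), 1), ((3, 9), 1), ((3, 15), 2), ((3, 17), 1), ((3, 19), 2), ((3, 30), 2), ((3, 42), 2), ((4, 54), 2), ((4, 56), 1), ((4, 72), 2), ((4, 74), 2), ((4, 88), 2), ((4, 89), 2), ((4, 104), 2), ((4, 108), 2), ((4, 116), 2), ((4, 18), 2), ((4, 60), 2), ((4, 68), 1), ((4, 102), 2), ((4, 113), 2), ((4, 2), 1), ((4, 3), 1), ((4, 4), 2), ((4, 10), 1)],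
  [((0, 13), 1), ((0, 14), 2), ((0, 27), 1), ((0, 29), 2), ((0, 51), 1), ((0, 55), 2), ((0, 84), 1), ((0, 87), 2), ((0, 110), 2), ((0, 119), 2), ((2, 92), 1), ((1, 0), 1), ((1, 2), 2), ((1, 4), 2), ((1, 6), 1), ((1, 14), 2), ((1, 16), 1), ((1, 20), 1), ((1, 28), 1), ((1, 48), 2), ((1, 56), 1), ((1, 59), 2), ((1, 63), 1), ((2, 3), 1), ((2, 5), 1), ((2, 7), 2), ((2, 11), 2), ((2, 13), 2), ((2, 15), 2), ((2, 23), 1), ((2, 27), 1), ((2, 29), 1), ((2, 31), 2), ((2, 77), 1), ((2, 82), 2), ((3, 23), 2), ((3, 55), 2), ((3, 103), 1), ((3, 116), 2), ((3, 92), 1), ((3, 11), 2), ((3, 51), 2), ((3, 71), 1), ((3, 43), 1), ((3, 52), 1), ((3, 74), 2), ((4, 8), 1), ((4, 9), 2), ((4, 75), 2), ((4, 78), 2), ((4, 92), 2), ((4, 95), 2), ((3, 3), 2), ((3, 4), 2), ((3, 68), 2), ((4, 0), 1), ((4, 5), 1), ((4, 12), 2), ((4, 29), 2), ((4, 38), 2), ((4, 40),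 2), ((4, 49), 2), ((4, 101), 1), ((4, 105), 1), ((4, 106), 2), ((4, 119), 1), ((4, 7), 2), ((4, 31), 1), ((4, 43), 1), ((4, 48), 1), ((4, 69), 2), ((4, 82), 1), ((3, 7), 2), ((3, 8), 1), ((3, 9), 2), ((3, 15), 1), ((3, 21), 1), ((3, 30), 1), ((3, 39), 2), ((4, 26), 1), ((4, 54), 1), ((4, 72), 2), ((4, 88), 2), ((4, 99), 2), ((4, 103), 1), ((4, 108), 1), ((4, 6), 2), ((4, 18), 1), ((4, 35), 1), ((4, 68), 1), ((4, 102), 1), ((4, 3), 1), ((4, 4), 2), ((4, 10), 2)],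
  [((0, 2), 1)],
  [((0, 4), 1)],
  [((0, 6), 1)],
  [((0, 8), 1)],
  [((0, 10), 1)],
  [((0, 12), 1)],
  [((0, 14), 1)],
  [((0, 16), 1)],
  [((0, 18), 1)],
  [((0, 20), 1)],
  [((0, 22), 1)],
  [((0, 24), 1)],
  [((0, 26), 1)],
  [((0, 28), 1)],
  [((0, 30), 1)],
  [((0, 32), 1)],
  [((0, 34), 1)],
  [((0, 36), 1)],
  [((0, 1), 2), ((0, 2), 1), ((0, 3), 2), ((0, 5), 1), ((0, 8), 2), ((0, 12), 1), ((0, 18), 2), ((0, 25), 1), ((2, 92), 1), ((1, 0), 1), ((1, 2), 1), ((1, 6), 1), ((1, 8), 1), ((1, 10), 1), ((1, 12), 1), ((1, 14), 2), ((1, 16), 2), ((1, 18), 1), ((1, 20), 1), ((1, 28), 1), ((1, 48), 1), ((1, 56), 2), ((1, 63), 2), ((2, 1), 1), ((2, 3), 1), ((2, 5), 1), ((2, 11), 1), ((2, 13), 1), ((2, 23), 1), ((2, 27), 2), ((2, 29), 2), ((2, 31), 2), ((2, 38), 1), ((2, 60), 2), ((3, 23), 2), ((3, 55), 2), ((3, 20), 2), ((3, 51), 1),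 ((3, 43), 1), ((3, 52), 2), ((3, 69), 2), ((3, 74), 1), ((4, 9), 2), ((4, 37), 1), ((4, 51), 1), ((4, 78), 1), ((3, 4), 1), ((3, 68), 1), ((4, 0), 2), ((4, 5), 1), ((4, 29), 1), ((4, 38), 1), ((4, 49), 1), ((4, 55), 1), ((4, 101), 1), ((4, 105), 2), ((4, 106), 1), ((4, 119), 2), ((4, 31), 1), ((4, 43), 1), ((4, 48), 2), ((4, 58), 1), ((4, 69), 2), ((4, 82), 2), ((3, 5), 2), ((3, 7), 2), ((3, 9), 1), ((3, 15), 1), ((3, 16), 2), ((3, 17), 2), ((3, 21), 2), ((3, 29), 1), ((3, 30), 1), ((3, 39), 1), ((4, 1), 1), ((4, 26), 1), ((4, 56), 2), ((4, 72), 1), ((4, 80), 1), ((4, 103), 2), ((4, 104), 2), ((4, 108), 2), ((4, 6), 2), ((4, 60), 1), ((4, 68), 2), ((4, 113), 2), ((4, 2), 1), ((4, 4), 2), ((4, 10), 2)],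
  [((0, 9), 2), ((0, 10), 1), ((0, 19), 2), ((0, 21), 1), ((1, 54), 2), ((2, 92), 2), ((1, 0), 2), ((1, 2), 1), ((1, 4), 2), ((1, 8), 1), ((1, 12), 1), ((1, 14), 1), ((1, 18), 2), ((1, 20), 1), ((1, 48), 1), ((1, 56), 2), ((1, 59), 2), ((1, 76), 1), ((2, 1), 2), ((2, 3), 1), ((2, 7), 1), ((2, 11), 1), ((2, 13), 1), ((2, 15), 2), ((2, 23), 1), ((2, 27), 1), ((2, 38), 2), ((2, 60), 1), ((2, 77), 1), ((2, 82), 2), ((3, 116), 2), ((3, 92), 1), ((3, 20), 1), ((3, 51), 2), ((3, 71), 2), ((3, 73), 2), ((3, 43), 2), ((4, 9), 1), ((4, 37), 1), ((4, 75), 1), ((4, 78), 2), ((3, 3), 2), ((4, 0), 2), ((4, 29), 2), ((4, 38), 2), ((4, 40), 1), ((4, 55), 1), ((4, 101), 2), ((4, 105), 1), ((4, 106), 1), ((4, 7), 2), ((4, 31), 1), ((4, 43), 2), ((4, 48), 1), ((4, 69), 1), ((4, 82), 1), ((3, 1), 2), ((3, 7), 2), ((3, 9), 2), ((3, 16), 2), ((3, 17),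 2), ((3, 19), 2), ((3, 21), 2), ((3, 29), 1), ((3, 30), 2), ((3, 39), 1), ((3, 42), 1), ((4, 1), 1), ((4, 26), 2), ((4, 42), 2), ((4, 54), 1), ((4, 56), 2), ((4, 80), 2), ((4, 103), 2), ((4, 104), 1), ((4, 108), 2), ((4, 116), 1), ((4, 6), 2), ((4, 18), 1), ((4, 35), 1), ((4, 60), 1), ((4, 68), 1), ((4, 102), 1), ((4, 113), 2), ((4, 2), 1), ((4, 3), 2), ((4, 10), 1)],
  [((0, 40), 1)],
  [((0, 1), 2), ((0, 4), 2), ((0, 10), 2), ((0, 21), 2), ((1, 54), 1), ((2, 92), 1), ((1, 0), 2), ((1, 2), 1), ((1, 4), 2), ((1, 6), 1), ((1, 8), 1), ((1, 10), 2), ((1, 14), 2), ((1, 28), 1), ((1, 48), 2), ((1, 56), 1), ((1, 59), 2), ((1, 63), 2), ((2, 0), 2), ((2, 1), 2), ((2, 3), 1), ((2, 5), 1), ((2, 9), 2), ((2, 11), 1), ((2, 13), 1), ((2, 15), 1), ((2, 27), 2), ((2, 29), 1), ((2, 31), 2), ((2, 77), 1), ((3, 23), 2), ((3, 55), 1), ((3, 116), 1),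 ((3, 20), 2), ((3, 11), 1), ((3, 71), 1), ((3, 43), 1), ((3, 52), 2), ((3, 69), 1), ((3, 74), 1), ((4, 37), 2), ((4, 78), 1), ((4, 95), 2), ((4, 90), 1), ((3, 3), 1), ((3, 68), 2), ((4, 0), 2), ((4, 5), 2), ((4, 11), 1), ((4, 29), 2), ((4, 38), 1), ((4, 40), 1), ((4, 49), 2), ((4, 55), 1), ((4, 105), 2), ((4, 106), 2), ((4, 119), 2), ((4, 7), 2), ((4, 31), 2), ((4, 43), 1), ((4, 58), 2), ((4, 69), 1), ((4, 82), 2), ((3, 1), 2), ((3, 5), 1), ((3, 9), 2), ((3, 16), 1), ((3, 17), 2), ((3, 21), 2), ((3, 30), 1), ((3, 39), 1), ((3, 42), 2), ((4, 1), 2), ((4, 26), 2), ((4, 42), 1), ((4, 74), 1), ((4, 80), 2), ((4, 88), 2), ((4, 89), 2), ((4, 99), 2), ((4, 103), 2), ((4, 108), 2), ((4, 35), 2), ((4, 68), 2), ((4, 102), 1), ((4, 2), 2), ((4, 3), 1)],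
  [((0, 42), 1)],
  [((0, 44), 1)],
  [((0, 46), 1)],
  [((0, 48), 1)],
  [((0, 50), 1)],
  [((0, 52), 1)],
  [((0, 54), 1)],
  [((0, 56), 1)],
  [((0, 1), 1), ((0, 2), 2), ((0, 4), 1), ((0, 6), 2), ((0, 9), 1), ((0, 14), 2), ((0, 19), 1), ((0, 30), 2), ((1, 0), 2), ((1, 2), 1), ((1, 4), 2), ((1, 6), 2), ((1, 8), 1), ((1, 10), 1), ((1, 12), 2), ((1, 18), 1), ((1, 20), 2), ((1, 28), 2), ((1, 59), 2), ((1, 63), 1), ((1, 76), 2), ((2, 0), 2), ((2, 1), 2), ((2, 3), 1), ((2, 5), 2), ((2, 7), 2), ((2, 9), 1), ((2, 11), 1), ((2, 13), 1), ((2, 23), 2), ((2, 29), 2), ((2, 31), 1), ((2, 38), 1), ((2, 60), 2), ((2, 77), 1), ((2, 82), 1), ((3, 23), 1), ((3, 55), 2), ((3, 92), 2), ((3, 11), 2), ((3, 51), 1), ((3, 73), 1), ((3, 52), 1), ((3, 69), 2), ((3, 74), 2), ((4, 9), 2), ((4, 75), 2), ((4, 95), 1), ((4, 90), 2), ((3, 68), 1), ((4, 0), 2),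 ((4, 5), 1), ((4, 11), 2), ((4, 29), 2), ((4, 40), 1), ((4, 49), 1), ((4, 55), 1), ((4, 101), 1), ((4, 119), 1), ((4, 7), 2), ((4, 48), 2), ((4, 58), 1), ((4, 69), 1), ((3, 1), 2), ((3, 5), 2), ((3, 7), 1), ((3, 9), 2), ((3, 17), 2), ((3, 19), 1), ((3, 21), 2), ((3, 29), 2), ((3, 39), 1), ((4, 26), 2), ((4, 54), 2), ((4, 56), 1), ((4, 74), 2), ((4, 80), 2), ((4, 88), 1), ((4, 89), 1), ((4, 99), 1), ((4, 103), 2), ((4, 104), 2), ((4, 108), 2), ((4, 116), 2), ((4, 6), 1), ((4, 18), 2), ((4, 60), 2), ((4, 102), 1), ((4, 113), 1), ((4, 10), 2)],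
  [((0, 59), 1)],
  [((0, 7), 2), ((0, 8), 1), ((0, 15), 2), ((0, 18), 1), ((0, 32), 2), ((0, 37), 1), ((1, 54), 1), ((1, 4), 1), ((1, 6), 2), ((1, 10), 1), ((1, 12), 1), ((1, 14), 1), ((1, 16), 1), ((1, 20), 1), ((1, 28), 1), ((1, 48), 1), ((1, 56), 1), ((1, 63), 1), ((2, 0), 2), ((2, 1), 1), ((2, 3), 1), ((2, 7), 1), ((2, 11), 2), ((2, 13), 1), ((2, 15), 2), ((2, 23), 1), ((2, 29), 2), ((2, 77), 2), ((3, 23), 1), ((3, 55), 1), ((3, 116), 1), ((3, 92), 2), ((3, 20), 1), ((3, 51), 1), ((3, 71), 1), ((3, 43), 1), ((4, 37), 1), ((4, 44), 1), ((4, 51), 2), ((4, 75), 1), ((4, 78), 1), ((4, 92), 2), ((4, 95), 2), ((4, 90), 1), ((3, 3), 2), ((3, 4), 1), ((4, 0), 2), ((4, 5), 2), ((4, 11), 2), ((4, 12), 2), ((4, 38), 1), ((4, 101), 2), ((4, 105), 2), ((4, 106), 1), ((4, 119), 2), ((4, 7), 1), ((4, 31), 1), ((4, 43), 1), ((4, 48), 1), ((4,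 58), 1), ((4, 69), 2), ((3, 1), 1), ((3, 5), 1), ((3, 8), 1), ((3, 9), 2), ((3, 15), 1), ((3, 16), 1), ((3, 19), 1), ((3, 21), 1), ((3, 29), 1), ((3, 30), 1), ((3, 39), 1), ((4, 1), 1), ((4, 26), 2), ((4, 54), 2), ((4, 56), 2), ((4, 72), 1), ((4, 80), 1), ((4, 88), 2), ((4, 89), 2), ((4, 103), 1), ((4, 104), 1), ((4, 108), 1), ((4, 116), 2), ((4, 18), 2), ((4, 35), 1), ((4, 60), 2), ((4, 68), 2), ((4, 102), 1)],
  [((0, 61), 1)],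
  [((0, 63), 1)],
  [((0, 65), 1)],
  [((0, 67), 1)],
  [((0, 1), 2), ((0, 2), 1), ((0, 3), 2), ((0, 6), 1), ((0, 8), 2), ((0, 14), 1), ((0, 18), 2), ((0, 30), 1), ((0, 37), 2), ((0, 57), 1), ((1, 54), 1), ((2, 92), 1), ((1, 2), 2), ((1, 4), 1), ((1, 6), 2), ((1, 8), 2), ((1, 12), 1), ((1, 16), 1), ((1, 18), 2), ((1, 20), 2), ((1, 28), 2), ((1, 56), 1), ((1, 59), 1), ((1, 76), 2), ((2, 0), 1), ((2, 1), 1), ((2, 5), 2), ((2, 9), 2), ((2, 11), 2), ((2, 13), 2), ((2, 15), 2), ((2, 23), 2), ((2, 27), 2), ((2, 29), 2), ((2, 38), 2), ((2, 60), 2), ((3, 55), 1), ((3, 116), 2), ((3, 92), 1), ((3, 20), 1), ((3, 11), 1), ((3, 51), 1), ((3, 71), 2), ((3, 43), 2), ((3, 69), 2), ((3, 74), 1), ((4, 9), 2), ((4, 75), 2), ((4, 78), 1), ((4, 92), 1), ((4, 95), 2), ((3, 3), 2), ((3, 4), 2), ((3, 68), 2), ((4, 0), 1), ((4, 5), 2), ((4, 11), 1), ((4,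 12), 2), ((4, 29), 1), ((4, 38), 2), ((4, 40), 2), ((4, 49), 2), ((4, 101), 2), ((4, 105), 2), ((4, 106), 2), ((4, 119), 1), ((4, 43), 1), ((4, 58), 2), ((4, 69), 2), ((4, 82), 2), ((3, 1), 1), ((3, 8), 1), ((3, 9), 1), ((3, 16), 2), ((3, 17), 2), ((3, 21), 2), ((3, 29), 1), ((3, 30), 1), ((3, 39), 1), ((3, 42), 1), ((4, 26), 1), ((4, 54), 2), ((4, 74), 1), ((4, 80), 2), ((4, 88), 1), ((4, 89), 2), ((4, 103), 1), ((4, 104), 2), ((4, 6), 1), ((4, 18), 1), ((4, 35), 2), ((4, 60), 2), ((4, 68), 1), ((4, 102), 2), ((4, 113), 1), ((4, 2), 2), ((4, 3), 1)],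
  [((0, 70), 1)],
  [((0, 71), 1)],
  [((0, 1), 2), ((0, 2), 1), ((0, 4), 2), ((0, 6), 1), ((0, 9), 2), ((0, 13), 1), ((0, 20), 2), ((0, 27), 1), ((0, 40), 2), ((0, 51), 1), ((1, 54), 2), ((2, 92), 2), ((1, 4), 2), ((1, 6), 1), ((1, 8), 1), ((1, 10), 2), ((1, 12), 1), ((1, 14), 1), ((1, 16), 1), ((1, 18), 1), ((1, 28), 2), ((1, 48), 2), ((1, 59), 2), ((1, 63), 1), ((1, 76), 1), ((2, 0), 2), ((2, 3), 1), ((2, 5), 1), ((2, 7), 2), ((2, 9), 1), ((2, 11), 2), ((2, 13), 2), ((2, 15), 1), ((2, 23), 1), ((2, 31), 2), ((2, 38), 2), ((2, 77), 2), ((2, 82), 2), ((3, 23), 2), ((3, 103), 1), ((3, 116), 2), ((3, 92), 2), ((3, 11), 2), ((3, 51), 1), ((3, 71), 1), ((3, 73), 2), ((3, 52), 2), ((3, 69), 2), ((3, 74), 2), ((4, 9), 2), ((4, 37), 1), ((4, 44), 2), ((4, 78), 1), ((4, 92), 1), ((4, 95), 1), ((3, 68), 2), ((4, 0), 1), ((4, 11), 2), ((4,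 12), 2), ((4, 40), 1), ((4, 49), 2), ((4, 55), 2), ((4, 101), 2), ((4, 106), 2), ((4, 31), 1), ((4, 43), 2), ((4, 48), 2), ((4, 58), 2), ((4, 69), 1), ((4, 82), 2), ((3, 1), 2), ((3, 5), 1), ((3, 8), 2), ((3, 9), 2), ((3, 15), 2), ((3, 16), 1), ((3, 17), 1), ((3, 21), 1), ((3, 29), 1), ((3, 39), 2), ((4, 26), 1), ((4, 42), 2), ((4, 54), 1), ((4, 56), 2), ((4, 72), 1), ((4, 88), 2), ((4, 89), 1), ((4, 103), 2), ((4, 104), 1), ((4, 116), 1), ((4, 6), 1), ((4, 60), 2), ((4, 68), 2), ((4, 102), 1), ((4, 2), 2), ((4, 3), 1), ((4, 4), 1), ((4, 10), 1)],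
  [((0, 74), 1)],
  [((0, 75), 1)],
  [((0, 76), 1)],
  [((0, 78), 1)],
  [((0, 5), 2), ((0, 6), 1), ((0, 11), 2), ((0, 13), 1), ((0, 24), 2), ((0, 45), 2), ((2, 92), 1), ((1, 4), 2), ((1, 10), 2), ((1, 12), 1), ((1, 14), 1), ((1, 28), 1), ((1, 48), 2), ((1, 56), 1), ((1, 59), 1), ((1, 63), 2), ((1, 76), 1), ((2, 5), 2), ((2, 7), 2), ((2, 11), 2), ((2, 13), 2), ((2, 15), 1), ((2, 23), 1), ((2, 27), 1), ((2, 29), 2), ((2, 60), 2), ((2, 77), 2), ((2, 82), 1), ((3, 23), 1), ((3, 55), 1), ((3, 116), 2), ((3, 71), 1), ((3, 73), 1), ((3, 52), 1), ((3, 69), 1), ((3, 74), 1), ((4, 8), 2), ((4, 9), 2), ((4, 75), 1), ((4, 78), 1), ((4, 95), 2), ((4, 90), 2), ((3, 3), 1), ((3, 4), 1), ((3, 68), 2), ((4, 0), 2), ((4, 5), 2), ((4, 12), 2), ((4, 40), 2), ((4, 49), 2), ((4, 101), 1), ((4, 105), 1), ((4, 106), 2), ((4, 119), 2), ((4, 7), 1), ((4,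 31), 1), ((4, 69), 1), ((3, 5), 1), ((3, 7), 2), ((3, 8), 1), ((3, 9), 1), ((3, 15), 1), ((3, 16), 1), ((3, 17), 1), ((3, 19), 1), ((3, 21), 2), ((3, 29), 2), ((3, 30), 1), ((4, 54), 1), ((4, 56), 1), ((4, 72), 1), ((4, 74), 2), ((4, 80), 2), ((4, 99), 2), ((4, 103), 2), ((4, 104), 2), ((4, 108), 1), ((4, 116), 2), ((4, 6), 2), ((4, 35), 2), ((4, 60), 2), ((4, 68), 1), ((4, 102), 2), ((4, 113), 1), ((4, 4), 2)],
  [((0, 81), 1)],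
  [((0, 11), 1), ((0, 12), 2), ((0, 24), 1), ((0, 25), 2), ((0, 45), 1), ((0, 47), 2), ((0, 79), 1), ((1, 54), 2), ((1, 0), 1), ((1, 6), 2), ((1, 8), 1), ((1, 10), 1), ((1, 12), 2), ((1, 16), 1), ((1, 18), 2), ((1, 20), 2), ((1, 48), 2), ((1, 56), 1), ((1, 63), 2), ((1, 76), 1), ((2, 0), 1), ((2, 1), 1), ((2, 3), 2), ((2, 5), 1), ((2, 9), 1), ((2, 11), 2), ((2, 15), 2), ((2, 23), 1), ((2, 27), 2), ((2, 29), 1), ((2, 31), 2), ((3, 103), 2), ((3, 116), 2), ((3, 20), 1), ((3, 11), 2), ((3, 71), 1), ((3, 73), 2), ((3, 43), 2), ((3, 69), 1), ((3, 74), 2), ((4, 8), 1), ((4, 9), 1), ((4, 51), 2), ((4, 75), 1), ((4, 78), 2), ((4, 95), 2), ((4, 90), 2), ((3, 4), 2), ((3, 68), 1), ((4, 0), 2), ((4, 5), 1), ((4, 11), 2), ((4, 12), 2), ((4, 29), 1), ((4, 38), 2), ((4, 40), 1), ((4, 101), 2), ((4, 119), 2), ((4, 31), 1), ((4, 43), 1), ((4, 48),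 1), ((4, 58), 2), ((4, 69), 1), ((3, 7), 2), ((3, 8), 2), ((3, 15), 2), ((3, 16), 2), ((3, 19), 1), ((3, 21), 1), ((3, 30), 2), ((3, 39), 2), ((3, 42), 1), ((4, 1), 2), ((4, 26), 1), ((4, 54), 1), ((4, 56), 2), ((4, 72), 2), ((4, 88), 1), ((4, 89), 1), ((4, 99), 1), ((4, 103), 1), ((4, 104), 1), ((4, 108), 2), ((4, 116), 1), ((4, 6), 1), ((4, 18), 1), ((4, 60), 2), ((4, 102), 2), ((4, 113), 1), ((4, 2), 2), ((4, 4), 2), ((4, 10), 1)],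
  [((0, 5), 2), ((0, 6), 1), ((0, 12), 2), ((0, 14), 1), ((0, 25), 2), ((0, 29), 1), ((0, 48), 2), ((0, 55), 1), ((1, 2), 1), ((1, 4), 2), ((1, 8), 1), ((1, 12), 2), ((1, 14), 2), ((1, 16), 1), ((1, 18), 1), ((1, 20), 1), ((1, 63), 2), ((1, 76), 2), ((2, 1), 2), ((2, 7), 1), ((2, 9), 2), ((2, 11), 1), ((2, 13), 2), ((2, 15), 2), ((2, 27), 2), ((2, 38), 2), ((2, 60), 2), ((3, 23), 1), ((3, 55), 2), ((3, 116), 1), ((3, 20), 1), ((3, 11), 1), ((3, 51), 2), ((3, 73), 1), ((3, 52), 2), ((3, 69), 2), ((3, 74), 1), ((4, 37), 1), ((4, 44), 1), ((4, 51), 1), ((4, 75), 2), ((4, 78), 1), ((4, 90), 1), ((3, 4), 2), ((3, 68), 1), ((4, 0), 2), ((4, 38), 1), ((4, 49), 2), ((4, 55), 2), ((4, 101), 1), ((4, 105), 1), ((4, 106), 2), ((4, 119), 2), ((4, 43), 2), ((4, 48), 2), ((4, 58), 1), ((4, 69), 1), ((4, 82), 2), ((3, 1), 1), ((3, 7), 1), ((3,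 8), 2), ((3, 9), 2), ((3, 15), 2), ((3, 16), 2), ((3, 17), 2), ((3, 19), 1), ((3, 21), 2), ((3, 29), 2), ((3, 30), 1), ((3, 42), 1), ((4, 1), 2), ((4, 42), 2), ((4, 56), 1), ((4, 72), 2), ((4, 89), 2), ((4, 116), 1), ((4, 18), 2), ((4, 60), 1), ((4, 68), 1), ((4, 102), 1), ((4, 113), 1), ((4, 3), 2), ((4, 10), 2)],
  [((0, 1), 1), ((0, 2), 2), ((0, 3), 1), ((0, 5), 2), ((0, 8), 1), ((0, 12), 2), ((0, 18), 1), ((0, 26), 2), ((0, 37), 1), ((0, 49), 2), ((0, 68), 1), ((1, 54), 1), ((2, 92), 2), ((1, 0), 2), ((1, 8), 2), ((1, 12), 1), ((1, 14), 1), ((1, 16), 2), ((1, 18), 1), ((1, 20), 2), ((1, 28), 2), ((1, 56), 2), ((1, 63), 2), ((1, 76), 1), ((2, 0), 1), ((2, 1), 1), ((2, 3), 2), ((2, 5), 2), ((2, 7), 2), ((2, 9), 1), ((2, 11), 1), ((2, 15), 2), ((2, 27), 2), ((2, 38), 1), ((3, 23), 1), ((3, 103), 1), ((3, 92), 2), ((3, 20), 2),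 ((3, 11), 2), ((3, 51), 1), ((3, 71), 1), ((3, 73), 1), ((3, 43), 1), ((3, 52), 1), ((3, 74), 1), ((4, 9), 1), ((4, 37), 2), ((4, 44), 1), ((4, 51), 2), ((4, 75), 1), ((4, 92), 1), ((4, 95), 1), ((3, 3), 2), ((3, 68), 2), ((4, 0), 2), ((4, 5), 2), ((4, 11), 1), ((4, 12), 2), ((4, 29), 1), ((4, 40), 1), ((4, 49), 2), ((4, 55), 1), ((4, 101), 1), ((4, 105), 1), ((4, 106), 2), ((4, 119), 2), ((4, 31), 2), ((4, 48), 1), ((4, 58), 2), ((4, 69), 1), ((3, 1), 1), ((3, 5), 2), ((3, 7), 1), ((3, 15), 2), ((3, 16), 1), ((3, 17), 2), ((3, 29), 1), ((3, 39), 1), ((3, 42), 1), ((4, 1), 2), ((4, 42), 2), ((4, 54), 2), ((4, 56), 2), ((4, 72), 2), ((4, 80), 1), ((4, 99), 1), ((4, 108), 1), ((4, 116), 1), ((4, 6), 2), ((4, 18), 2), ((4, 35), 1), ((4, 60), 2), ((4, 68), 1), ((4, 102), 2), ((4, 3), 2), ((4, 4), 2), ((4, 10), 2)],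
  [((0, 83), 1)],
  [((0, 84), 1)],
  [((0, 5), 1), ((0, 6), 2), ((0, 12), 1), ((0, 13), 2), ((0, 25), 1), ((0, 27), 2), ((0, 47), 1), ((0, 52), 2), ((1, 0), 1), ((1, 4), 1), ((1, 16), 2), ((1, 18), 1), ((1, 28), 2), ((1, 48), 1), ((1, 56), 1), ((1, 59), 1), ((1, 63), 1), ((2, 0), 2), ((2, 1), 2), ((2, 3), 2), ((2, 5), 1), ((2, 15), 2), ((2, 23), 1), ((2, 27), 2), ((2, 29), 1), ((2, 31), 2), ((2, 38), 2), ((2, 60), 2), ((2, 77), 1), ((3, 55), 1), ((3, 103), 1), ((3, 116), 2), ((3, 11), 1), ((3, 71), 1), ((3, 73), 2), ((3, 52), 1), ((3, 69), 1), ((4, 8), 2), ((4, 37), 2), ((4, 78), 2), ((4, 92), 2), ((4, 95), 2), ((3, 3), 2), ((3, 4), 2), ((3, 68), 2), ((4, 0), 2), ((4, 5), 2), ((4, 11), 1), ((4, 38), 2), ((4, 40), 2), ((4, 55), 1), ((4, 105), 2), ((4, 106), 2), ((4, 119), 1), ((4, 7), 2), ((4, 31), 2), ((4, 43), 1), ((4, 48), 2),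 ((4, 58), 1), ((4, 82), 1), ((3, 1), 1), ((3, 5), 2), ((3, 8), 2), ((3, 16), 1), ((3, 19), 1), ((3, 21), 2), ((3, 29), 1), ((3, 39), 1), ((4, 1), 1), ((4, 26), 2), ((4, 56), 1), ((4, 72), 1), ((4, 88), 2), ((4, 89), 2), ((4, 99), 2), ((4, 104), 1), ((4, 116), 1), ((4, 6), 1), ((4, 18), 1), ((4, 35), 2), ((4, 113), 2), ((4, 2), 1), ((4, 3), 2), ((4, 10), 1)],
  [((0, 85), 1)],
  [((0, 86), 1)],
  [((0, 88), 1)],
  [((0, 90), 1)],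
  [((0, 1), 1), ((0, 2), 2), ((0, 4), 1), ((0, 6), 2), ((0, 9), 1), ((0, 14), 2), ((0, 20), 1), ((0, 30), 2), ((0, 39), 1), ((0, 57), 2), ((1, 54), 1), ((2, 92), 2), ((1, 0), 2), ((1, 2), 2), ((1, 4), 1), ((1, 6), 1), ((1, 8), 2), ((1, 10), 1), ((1, 12), 2), ((1, 14), 2), ((1, 20), 1), ((1, 48), 1), ((2, 1), 1), ((2, 5), 1), ((2, 7), 1), ((2, 9), 2), ((2, 13), 1), ((2, 23), 1), ((2, 27), 1), ((2, 31), 2), ((2, 38), 2), ((2, 77), 1), ((3, 23), 2), ((3, 103), 1), ((3, 116), 1), ((3, 92), 1), ((3, 20), 1), ((3, 11), 2), ((3, 51), 2), ((3, 52), 2), ((3, 74), 2), ((4, 8), 1), ((4, 9), 1), ((4, 37), 2), ((4, 44), 2), ((4, 51), 1), ((4, 78), 2), ((4, 95), 1), ((4, 90), 2), ((3, 3), 1), ((3, 4), 2), ((3, 68), 1), ((4, 0), 2), ((4, 5), 1), ((4, 11), 2), ((4, 12), 2), ((4, 38), 2), ((4, 40), 1), ((4, 101), 2), ((4, 105), 1), ((4, 106), 1),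 ((4, 119), 2), ((4, 7), 1), ((4, 43), 2), ((4, 48), 1), ((4, 58), 1), ((4, 82), 1), ((3, 1), 2), ((3, 5), 1), ((3, 7), 2), ((3, 9), 1), ((3, 15), 1), ((3, 16), 1), ((3, 17), 1), ((3, 29), 1), ((3, 30), 1), ((3, 39), 1), ((4, 1), 1), ((4, 26), 1), ((4, 42), 1), ((4, 56), 2), ((4, 72), 1), ((4, 74), 1), ((4, 80), 2), ((4, 88), 1), ((4, 99), 1), ((4, 103), 1), ((4, 104), 2), ((4, 108), 2), ((4, 116), 2), ((4, 6), 1), ((4, 18), 1), ((4, 35), 2), ((4, 68), 1), ((4, 102), 2), ((4, 113), 1), ((4, 3), 1), ((4, 4), 2)],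
  [((0, 1), 2), ((0, 2), 1), ((0, 3), 2), ((0, 5), 1), ((0, 7), 2), ((0, 11), 1), ((0, 15), 2), ((0, 31), 2), ((0, 58), 2), ((2, 92), 2), ((1, 0), 2), ((1, 2), 1), ((1, 4), 2), ((1, 6), 2), ((1, 8), 2), ((1, 10), 1), ((1, 12), 1), ((1, 16), 1), ((1, 18), 2), ((1, 28), 1), ((1, 59), 2), ((1, 63), 2), ((2, 0), 2), ((2, 1), 1), ((2, 3), 2), ((2, 5), 2), ((2, 7), 1), ((2, 9), 1), ((2, 27), 2), ((2, 29), 1), ((2, 77), 1), ((3, 103), 2), ((3, 116), 2), ((3, 92), 2), ((3, 11), 1), ((3, 73), 1), ((3, 43), 1), ((3, 52), 1), ((3, 69), 1), ((3, 74), 2), ((4, 37), 1), ((4, 44), 2), ((4, 78), 1), ((4, 95), 1), ((3, 3), 1), ((3, 4), 1), ((3, 68), 1), ((4, 0), 2), ((4, 5), 2), ((4, 11), 2), ((4, 12), 1), ((4, 38), 1), ((4, 49), 1), ((4, 101), 2), ((4, 105), 2), ((4, 106), 2), ((4, 119), 2), ((4, 7), 2), ((4, 31), 2), ((4, 58), 1), ((4, 69), 2),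 ((4, 82), 1), ((3, 5), 1), ((3, 7), 1), ((3, 8), 1), ((3, 15), 1), ((3, 19), 1), ((3, 30), 2), ((3, 39), 1), ((4, 26), 2), ((4, 56), 2), ((4, 72), 1), ((4, 74), 1), ((4, 80), 2), ((4, 88), 2), ((4, 104), 1), ((4, 108), 1), ((4, 116), 2), ((4, 6), 2), ((4, 18), 1), ((4, 35), 1), ((4, 60), 1), ((4, 68), 1), ((4, 102), 2), ((4, 113), 2), ((4, 2), 1), ((4, 3), 1), ((4, 4), 1)],
  [((0, 1), 2), ((0, 2), 1), ((0, 3), 2), ((0, 6), 1), ((0, 7), 2), ((0, 13), 1), ((0, 15), 2), ((0, 28), 1), ((0, 31), 2), ((0, 53), 1), ((0, 59), 2), ((1, 54), 2), ((1, 0), 2), ((1, 4), 1), ((1, 6), 1), ((1, 8), 2), ((1, 12), 1), ((1, 16), 1), ((1, 20), 2), ((1, 28), 2), ((1, 48), 2), ((1, 56), 1), ((1, 76), 1), ((2, 0), 1), ((2, 1), 2), ((2, 3), 1), ((2, 5), 2), ((2, 7), 2), ((2, 9), 2), ((2, 11), 2), ((2, 13), 2), ((2, 27), 1), ((2, 29), 1), ((2, 31), 2),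 ((2, 38), 1), ((2, 77), 2), ((2, 82), 2), ((3, 55), 2), ((3, 116), 2), ((3, 20), 1), ((3, 11), 1), ((3, 51), 1), ((3, 71), 2), ((3, 73), 1), ((3, 43), 1), ((3, 52), 2), ((4, 8), 2), ((4, 9), 2), ((4, 44), 1), ((4, 51), 1), ((4, 75), 1), ((4, 92), 1), ((3, 3), 2), ((3, 4), 1), ((3, 68), 1), ((4, 0), 1), ((4, 5), 2), ((4, 11), 2), ((4, 12), 1), ((4, 29), 2), ((4, 38), 1), ((4, 40), 2), ((4, 105), 1), ((4, 119), 2), ((4, 31), 1), ((4, 43), 1), ((4, 82), 1), ((3, 1), 2), ((3, 5), 1), ((3, 7), 2), ((3, 8), 1), ((3, 9), 1), ((3, 15), 1), ((3, 16), 2), ((3, 17), 2), ((3, 19), 2), ((3, 21), 1), ((3, 29), 1), ((4, 26), 1), ((4, 42), 2), ((4, 72), 1), ((4, 74), 1), ((4, 88), 2), ((4, 89), 2), ((4, 99), 1), ((4, 104), 2), ((4, 108), 2), ((4, 116), 1), ((4, 6), 1), ((4, 18), 1), ((4, 35), 2), ((4, 68), 1), ((4, 102), 2), ((4, 113), 2), ((4,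 2), 2), ((4, 3), 1), ((4, 4), 1), ((4, 10), 1)],
  [((0, 93), 1)],
  [((0, 1), 2), ((0, 2), 1), ((0, 3), 2), ((0, 5), 1), ((0, 7), 2), ((0, 11), 1), ((0, 16), 2), ((0, 23), 1), ((0, 33), 2), ((0, 61), 2), ((2, 92), 1), ((1, 2), 1), ((1, 4), 2), ((1, 6), 2), ((1, 8), 1), ((1, 10), 2), ((1, 14), 2), ((1, 16), 1), ((1, 18), 1), ((1, 20), 2), ((1, 56), 1), ((1, 59), 2), ((1, 63), 2), ((2, 0), 2), ((2, 1), 1), ((2, 5), 2), ((2, 7), 2), ((2, 9), 1), ((2, 13), 2), ((2, 15), 1), ((2, 27), 1), ((2, 29), 1), ((2, 38), 1), ((2, 60), 1), ((2, 82), 1), ((3, 55), 1), ((3, 92), 1), ((3, 20), 2), ((3, 11), 1), ((3, 73), 2), ((3, 43), 1), ((4, 9), 2), ((4, 37), 1), ((4, 51), 2), ((4, 92), 1), ((4, 95), 2), ((4, 90), 2), ((3, 68), 2), ((4, 11), 2), ((4, 12), 1), ((4, 49), 2), ((4, 105), 2), ((4, 119), 2), ((4, 48), 2), ((4, 58), 2), ((4, 82), 2),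 ((3, 5), 2), ((3, 9), 1), ((3, 16), 1), ((3, 19), 2), ((3, 21), 1), ((3, 29), 2), ((3, 30), 2), ((3, 39), 1), ((3, 42), 2), ((4, 1), 2), ((4, 26), 2), ((4, 42), 2), ((4, 54), 1), ((4, 74), 1), ((4, 80), 1), ((4, 89), 1), ((4, 103), 2), ((4, 104), 2), ((4, 108), 1), ((4, 116), 2), ((4, 6), 1), ((4, 18), 1), ((4, 35), 1), ((4, 68), 2), ((4, 102), 1), ((4, 2), 1), ((4, 4), 1), ((4, 10), 1)],
  [((0, 1), 2), ((0, 2), 1), ((0, 3), 2), ((0, 6), 1), ((0, 7), 2), ((0, 13), 1), ((0, 16), 2), ((0, 27), 1), ((0, 34), 2), ((0, 62), 2), ((1, 54), 2), ((2, 92), 1), ((1, 0), 1), ((1, 4), 2), ((1, 6), 2), ((1, 8), 2), ((1, 10), 2), ((1, 12), 1), ((1, 16), 1), ((1, 18), 1), ((1, 20), 2), ((1, 48), 1), ((1, 56), 2), ((1, 63), 1), ((2, 1), 2), ((2, 5), 1), ((2, 7), 2), ((2, 9), 1), ((2, 11), 2), ((2, 15), 2), ((2, 23), 2), ((2, 29), 1), ((2, 38),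 2), ((2, 60), 1), ((2, 77), 1), ((2, 82), 1), ((3, 23), 1), ((3, 103), 1), ((3, 116), 1), ((3, 92), 1), ((3, 20), 1), ((3, 71), 2), ((3, 73), 1), ((3, 43), 1), ((3, 52), 1), ((3, 69), 1), ((3, 74), 2), ((4, 8), 2), ((4, 9), 1), ((4, 37), 1), ((4, 44), 1), ((4, 95), 1), ((4, 90), 2), ((3, 3), 2), ((3, 4), 2), ((3, 68), 1), ((4, 0), 1), ((4, 5), 1), ((4, 11), 2), ((4, 12), 1), ((4, 38), 1), ((4, 40), 1), ((4, 49), 2), ((4, 55), 1), ((4, 101), 1), ((4, 105), 1), ((4, 7), 1), ((4, 31), 2), ((4, 43), 2), ((4, 48), 2), ((4, 58), 1), ((4, 69), 1), ((3, 5), 1), ((3, 9), 2), ((3, 15), 1), ((3, 30), 2), ((4, 26), 1), ((4, 42), 1), ((4, 54), 1), ((4, 74), 2), ((4, 89), 2), ((4, 108), 1), ((4, 116), 1), ((4, 18), 2), ((4, 102), 1), ((4, 113), 1), ((4, 2), 2), ((4, 4), 1)],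
  [((0, 7), 2), ((0, 8), 1), ((0, 16), 2), ((0, 17), 1), ((0, 34), 2), ((0, 63), 2), ((1, 54), 1), ((2, 92), 2), ((1, 0), 2), ((1, 2), 1), ((1, 6), 2), ((1, 10), 1), ((1, 12), 1), ((1, 14), 1), ((1, 16), 2), ((1, 18), 1), ((1, 20), 2), ((1, 28), 2), ((1, 48), 1), ((1, 56), 1), ((1, 63), 1), ((1, 76), 2), ((2, 1), 2), ((2, 3), 2), ((2, 9), 1), ((2, 11), 1), ((2, 27), 2), ((2, 29), 2), ((2, 38), 1), ((2, 60), 1), ((2, 77), 1), ((3, 23), 1), ((3, 116), 2), ((3, 11), 1), ((3, 51), 1), ((3, 71), 2), ((3, 73), 2), ((3, 74), 1), ((4, 8), 2), ((4, 37), 1), ((4, 44), 1), ((4, 51), 1), ((4, 78), 1), ((4, 92), 2), ((4, 95), 1), ((3, 3), 2), ((3, 68), 1), ((4, 11), 2), ((4, 12), 2), ((4, 29), 2), ((4, 49), 2), ((4, 55), 2), ((4, 101), 1), ((4, 105), 2), ((4, 106), 2), ((4, 119), 1), ((4, 31), 2), ((4, 48), 1), ((4, 82), 2), ((3, 1), 2), ((3,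 7), 1), ((3, 8), 1), ((3, 9), 1), ((3, 15), 2), ((3, 16), 1), ((3, 17), 2), ((3, 19), 2), ((3, 21), 1), ((3, 29), 2), ((3, 30), 1), ((3, 42), 1), ((4, 1), 1), ((4, 42), 1), ((4, 54), 1), ((4, 56), 1), ((4, 72), 2), ((4, 74), 2), ((4, 80), 1), ((4, 89), 2), ((4, 103), 1), ((4, 104), 2), ((4, 116), 2), ((4, 18), 1), ((4, 35), 1), ((4, 60), 1), ((4, 68), 2), ((4, 102), 2), ((4, 2), 2), ((4, 4), 1), ((4, 10), 1)],
  [((0, 96), 1)],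
  [((0, 1), 2), ((0, 2), 1), ((0, 3), 2), ((0, 6), 1), ((0, 8), 2), ((0, 14), 1), ((0, 17), 2), ((0, 29), 1), ((0, 35), 2), ((0, 65), 2), ((1, 54), 1), ((1, 6), 1), ((1, 10), 2), ((1, 12), 1), ((1, 14), 1), ((1, 16), 1), ((1, 18), 1), ((1, 20), 1), ((1, 56), 2), ((1, 63), 1), ((2, 1), 2), ((2, 7), 1), ((2, 9), 2), ((2, 11), 1), ((2, 13), 1), ((2, 23), 2), ((2, 27), 1), ((2, 29), 2), ((2, 31), 1), ((2, 77), 2), ((3, 23), 2), ((3, 103), 1), ((3, 20), 2), ((3, 51), 2), ((3, 71), 2), ((3, 73), 1), ((3, 52), 1), ((3, 69), 1), ((4, 8), 2), ((4, 9), 2), ((4, 75), 2), ((4, 78), 1), ((4, 92), 1), ((4, 90), 1), ((3, 3), 1), ((4, 0), 2), ((4, 38), 1), ((4, 40), 2), ((4, 49), 2), ((4, 55), 1), ((4, 101), 1), ((4, 105), 1), ((4, 106), 1), ((4, 7), 1), ((4, 31), 1), ((4, 48), 2), ((4, 69), 1), ((4, 82), 2), ((3, 7), 2), ((3, 8), 1), ((3, 9),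 2), ((3, 16), 2), ((3, 17), 2), ((3, 19), 1), ((3, 21), 1), ((3, 29), 2), ((3, 39), 1), ((4, 1), 2), ((4, 26), 1), ((4, 54), 2), ((4, 72), 1), ((4, 88), 2), ((4, 99), 1), ((4, 104), 2), ((4, 116), 2), ((4, 6), 2), ((4, 18), 1), ((4, 35), 2), ((4, 60), 2), ((4, 68), 2), ((4, 2), 2), ((4, 3), 1), ((4, 4), 2)],
  [((0, 1), 2), ((0, 2), 1), ((0, 3), 2), ((0, 5), 1), ((0, 8), 2), ((0, 11), 1), ((0, 17), 2), ((0, 24), 1), ((0, 36), 2), ((0, 46), 1), ((0, 66), 2), ((0, 80), 1), ((1, 54), 1), ((2, 92), 2), ((1, 0), 2), ((1, 2), 2), ((1, 6), 2), ((1, 8), 1), ((1, 10), 2), ((1, 12), 2), ((1, 14), 1), ((1, 16), 2), ((1, 18), 2), ((1, 28), 2), ((1, 48), 1), ((1, 56), 2), ((1, 59), 1), ((1, 63), 2), ((2, 0), 1), ((2, 1), 2), ((2, 5), 2), ((2, 7), 2), ((2, 15), 2), ((2, 23), 1), ((2, 27), 2), ((2, 29), 2), ((2, 77), 1), ((2, 82), 1), ((3, 23),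 1), ((3, 103), 1), ((3, 116), 1), ((3, 92), 1), ((3, 11), 1), ((3, 51), 2), ((3, 73), 2), ((3, 43), 2), ((3, 52), 1), ((4, 9), 2), ((4, 37), 2), ((4, 44), 1), ((4, 51), 2), ((4, 75), 1), ((3, 3), 2), ((3, 4), 1), ((3, 68), 2), ((4, 0), 2), ((4, 5), 1), ((4, 11), 1), ((4, 12), 1), ((4, 29), 1), ((4, 40), 1), ((4, 49), 1), ((4, 101), 1), ((4, 105), 2), ((4, 106), 2), ((4, 7), 2), ((4, 31), 2), ((4, 43), 1), ((4, 48), 2), ((4, 58), 2), ((4, 69), 2), ((4, 82), 2), ((3, 1), 2), ((3, 5), 1), ((3, 7), 1), ((3, 8), 2), ((3, 9), 1), ((3, 15), 2), ((3, 17), 2), ((3, 19), 1), ((3, 21), 2), ((3, 30), 1), ((3, 42), 1), ((4, 1), 1), ((4, 26), 1), ((4, 42), 1), ((4, 54), 2), ((4, 72), 2), ((4, 80), 1), ((4, 99), 1), ((4, 103), 2), ((4, 104), 2), ((4, 6), 1), ((4, 18), 1), ((4, 102), 1), ((4, 2), 2), ((4, 3), 1), ((4, 10), 1)],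
  [((0, 7), 1), ((0, 8), 2), ((0, 17), 2), ((0, 36), 2), ((0, 67), 2), ((1, 54), 2), ((2, 92), 1), ((1, 0), 1), ((1, 2), 2), ((1, 6), 1), ((1, 10), 2), ((1, 12), 2), ((1, 14), 2), ((1, 16), 1), ((1, 18), 2), ((1, 20), 1), ((1, 28), 1), ((1, 48), 2), ((1, 56), 2), ((1, 63), 2), ((1, 76), 1), ((2, 1), 1), ((2, 3), 1), ((2, 7), 1), ((2, 9), 2), ((2, 11), 2), ((2, 27), 1), ((2, 29), 1), ((2, 38), 2), ((2, 60), 2), ((2, 77), 2), ((3, 23), 2), ((3, 116), 1), ((3, 11), 2), ((3, 51), 2), ((3, 71), 1), ((3, 73), 1), ((3, 74), 2), ((4, 8), 1), ((4, 37), 2), ((4, 44), 2), ((4, 51), 2), ((4, 78), 2), ((4, 92), 1), ((4, 95), 2), ((3, 3), 1), ((3, 68), 2), ((4, 11), 1), ((4, 12), 1), ((4, 29), 1), ((4, 49), 1), ((4, 55), 1), ((4, 101), 2), ((4, 105), 1), ((4, 106), 1), ((4, 119), 2), ((4, 31), 1), ((4, 48), 2), ((4, 82), 1), ((3, 1), 1), ((3,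 7), 2), ((3, 8), 2), ((3, 9), 2), ((3, 15), 1), ((3, 16), 2), ((3, 17), 1), ((3, 19), 1), ((3, 21), 2), ((3, 29), 1), ((3, 30), 2), ((3, 42), 2), ((4, 1), 2), ((4, 42), 2), ((4, 54), 2), ((4, 56), 2), ((4, 72), 1), ((4, 74), 1), ((4, 80), 2), ((4, 89), 1), ((4, 103), 2), ((4, 104), 1), ((4, 116), 1), ((4, 18), 2), ((4, 35), 2), ((4, 60), 2), ((4, 68), 1), ((4, 102), 1), ((4, 2), 1), ((4, 4), 2), ((4, 10), 2)],
  [((0, 7), 1), ((0, 8), 2), ((0, 15), 1), ((0, 18), 2), ((0, 31), 1), ((0, 37), 2), ((0, 58), 1), ((0, 68), 2), ((1, 54), 2), ((1, 4), 1), ((1, 8), 1), ((1, 10), 2), ((1, 12), 2), ((1, 14), 1), ((1, 18), 1), ((1, 20), 1), ((1, 28), 1), ((1, 48), 1), ((1, 59), 1), ((1, 63), 2), ((2, 0), 1), ((2, 1), 2), ((2, 3), 2), ((2, 7), 2), ((2, 9), 2), ((2, 13), 1), ((2, 15), 1), ((2, 29), 2), ((2, 31), 2), ((2, 38), 1), ((2, 60), 2),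 ((2, 77), 1), ((2, 82), 2), ((3, 23), 1), ((3, 55), 2), ((3, 103), 1), ((3, 116), 2), ((3, 92), 1), ((3, 20), 1), ((3, 51), 2), ((3, 71), 2), ((3, 73), 2), ((3, 43), 2), ((3, 52), 1), ((3, 69), 2), ((3, 74), 2), ((4, 8), 2), ((4, 9), 2), ((4, 37), 2), ((4, 44), 2), ((4, 51), 2), ((4, 75), 2), ((4, 78), 2), ((4, 92), 1), ((4, 95), 1), ((3, 3), 1), ((3, 4), 1), ((3, 68), 1), ((4, 11), 2), ((4, 38), 2), ((4, 40), 2), ((4, 49), 2), ((4, 55), 2), ((4, 101), 1), ((4, 105), 2), ((4, 106), 2), ((4, 119), 1), ((4, 31), 2), ((4, 43), 1), ((4, 48), 2), ((4, 58), 1), ((4, 69), 2), ((4, 82), 2), ((3, 7), 2), ((3, 8), 2), ((3, 9), 1), ((3, 15), 1), ((3, 16), 2), ((3, 21), 2), ((3, 42), 2), ((4, 42), 2), ((4, 54), 1), ((4, 56), 2), ((4, 72), 1), ((4, 74), 1), ((4, 80), 1), ((4, 88), 2), ((4, 103), 1), ((4, 108), 2), ((4, 116), 1), ((4, 6), 1),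 ((4, 18), 1), ((4, 35), 2), ((4, 60), 1), ((4, 68), 2), ((4, 113), 2), ((4, 3), 2), ((4, 10), 2)],
  [((0, 3), 1), ((0, 4), 2), ((0, 7), 1), ((0, 9), 2), ((0, 15), 1), ((0, 19), 2), ((0, 38), 2), ((0, 69), 2), ((1, 54), 2), ((2, 92), 2), ((1, 0), 2), ((1, 2), 2), ((1, 4), 1), ((1, 10), 2), ((1, 14), 2), ((1, 18), 1), ((1, 20), 1), ((1, 48), 2), ((1, 56), 1), ((2, 1), 1), ((2, 3), 1), ((2, 5), 1), ((2, 7), 2), ((2, 9), 2), ((2, 11), 1), ((2, 13), 2), ((2, 23), 1), ((2, 27), 2), ((2, 29), 1), ((2, 31), 2), ((2, 38), 2), ((2, 60), 1), ((2, 77), 2), ((3, 23), 2), ((3, 55), 2), ((3, 103), 1), ((3, 116), 2), ((3, 20), 1), ((3, 11), 1), ((3, 51), 1), ((3, 71), 2), ((3, 73), 1), ((3, 43), 2), ((3, 52), 1), ((4, 37), 2), ((4, 75), 1), ((4, 95), 2), ((4, 90), 2), ((3, 4), 2), ((3, 68), 2), ((4, 11), 2), ((4, 12), 2), ((4, 40), 1), ((4, 55),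 1), ((4, 106), 2), ((4, 119), 1), ((4, 31), 2), ((4, 69), 1), ((4, 82), 1), ((3, 5), 2), ((3, 7), 1), ((3, 15), 1), ((3, 16), 2), ((3, 30), 2), ((3, 42), 2), ((4, 26), 1), ((4, 42), 1), ((4, 54), 1), ((4, 56), 1), ((4, 72), 2), ((4, 74), 1), ((4, 80), 2), ((4, 88), 1), ((4, 89), 2), ((4, 99), 2), ((4, 103), 1), ((4, 104), 2), ((4, 108), 1), ((4, 6), 2), ((4, 35), 2), ((4, 68), 2), ((4, 113), 2), ((4, 2), 2)],
  [((0, 3), 1), ((0, 4), 2), ((0, 8), 1), ((0, 9), 2), ((0, 17), 1), ((0, 19), 2), ((0, 35), 1), ((0, 38), 2), ((0, 64), 1), ((0, 70), 2), ((0, 95), 1), ((1, 54), 1), ((2, 92), 2), ((1, 2), 1), ((1, 4), 2), ((1, 6), 2), ((1, 8), 1), ((1, 10), 1), ((1, 12), 2), ((1, 14), 1), ((1, 16), 2), ((1, 18), 1), ((1, 20), 2), ((1, 28), 1), ((1, 48), 1), ((1, 59), 1), ((2, 0), 2), ((2, 5), 2), ((2, 9), 2), ((2, 13), 1), ((2, 15), 1), ((2,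 23), 1), ((2, 29), 2), ((2, 31), 1), ((2, 77), 2), ((2, 82), 1), ((3, 23), 1), ((3, 55), 2), ((3, 103), 1), ((3, 116), 1), ((3, 20), 2), ((3, 51), 1), ((3, 71), 1), ((3, 43), 1), ((3, 52), 1), ((3, 69), 1), ((3, 74), 2), ((4, 8), 1), ((4, 37), 2), ((4, 51), 2), ((4, 75), 1), ((4, 92), 1), ((4, 95), 1), ((4, 90), 1), ((3, 4), 1), ((3, 68), 1), ((4, 5), 2), ((4, 12), 2), ((4, 40), 1), ((4, 55), 2), ((4, 105), 1), ((4, 106), 2), ((4, 119), 2), ((4, 7), 2), ((4, 43), 1), ((4, 48), 2), ((4, 58), 2), ((4, 69), 1), ((4, 82), 1), ((3, 1), 1), ((3, 7), 2), ((3, 8), 1), ((3, 9), 1), ((3, 15), 2), ((3, 17), 2), ((3, 19), 2), ((3, 29), 1), ((3, 30), 1), ((3, 39), 1), ((4, 1), 2), ((4, 26), 1), ((4, 42), 2), ((4, 54), 2), ((4, 56), 1), ((4, 74), 2), ((4, 80), 1), ((4, 88), 1), ((4, 103), 1), ((4, 108), 2), ((4, 6), 1), ((4, 18), 1), ((4, 35),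 1), ((4, 60), 1), ((4, 102), 1), ((4, 3), 2), ((4, 4), 2)],
  [((0, 19), 1), ((0, 20), 2), ((0, 38), 1), ((0, 39), 2), ((0, 69), 1), ((0, 71), 2), ((1, 54), 1), ((2, 92), 1), ((1, 0), 2), ((1, 4), 2), ((1, 6), 1), ((1, 8), 2), ((1, 10), 2), ((1, 12), 2), ((1, 14), 1), ((1, 16), 1), ((1, 20), 1), ((1, 48), 2), ((1, 59), 2), ((1, 63), 2), ((1, 76), 1), ((2, 1), 2), ((2, 3), 1), ((2, 5), 2), ((2, 7), 2), ((2, 11), 1), ((2, 23), 1), ((2, 27), 1), ((2, 29), 1), ((2, 31), 2), ((2, 77), 1), ((3, 23), 1), ((3, 55), 2), ((3, 103), 1), ((3, 92), 2), ((3, 20), 2), ((3, 11), 2), ((3, 51), 1), ((3, 71), 1), ((3, 73), 2), ((3, 43), 1), ((3, 69), 1), ((4, 8), 2), ((4, 37), 1), ((4, 75), 2), ((4, 78), 2), ((4, 95), 2), ((4, 90), 1), ((3, 3), 1), ((3, 4), 2), ((3, 68), 1), ((4, 0), 1), ((4, 5), 1), ((4, 11), 2), ((4, 12), 1), ((4, 29), 2), ((4,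 38), 1), ((4, 40), 2), ((4, 49), 1), ((4, 55), 2), ((4, 105), 1), ((4, 7), 1), ((4, 43), 2), ((4, 48), 1), ((4, 58), 2), ((4, 69), 1), ((4, 82), 2), ((3, 1), 2), ((3, 5), 2), ((3, 8), 1), ((3, 9), 2), ((3, 19), 2), ((3, 30), 1), ((4, 1), 1), ((4, 26), 1), ((4, 42), 1), ((4, 54), 1), ((4, 56), 1), ((4, 72), 2), ((4, 80), 2), ((4, 88), 1), ((4, 103), 2), ((4, 104), 2), ((4, 108), 2), ((4, 116), 2), ((4, 6), 2), ((4, 18), 2), ((4, 35), 2), ((4, 60), 2), ((4, 102), 1), ((4, 113), 2), ((4, 2), 2), ((4, 3), 1), ((4, 4), 1)],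
  [((0, 3), 1), ((0, 4), 2), ((0, 7), 1), ((0, 9), 2), ((0, 15), 1), ((0, 20), 2), ((0, 31), 1), ((0, 40), 2), ((0, 72), 2), ((2, 92), 2), ((1, 6), 1), ((1, 8), 2), ((1, 10), 1), ((1, 14), 1), ((1, 18), 1), ((1, 20), 2), ((1, 28), 2), ((1, 48), 2), ((1, 56), 1), ((1, 59), 1), ((1, 63), 2), ((2, 0), 1), ((2, 1), 2), ((2, 3), 2), ((2, 5), 2), ((2, 7), 2), ((2, 9), 2), ((2, 11), 1), ((2, 13), 1), ((2, 15), 2), ((2, 23), 2), ((2, 27), 1), ((2, 38), 2), ((2, 60), 1), ((2, 82), 2), ((3, 116), 2), ((3, 92), 2), ((3, 20), 2), ((3, 11), 2), ((3, 71), 2), ((3, 43), 2), ((3, 52), 1), ((3, 69), 1), ((3, 74), 1), ((4, 9), 2), ((4, 37), 1), ((4, 44), 1), ((4, 75), 2), ((4, 78), 1), ((4, 92), 2), ((3, 4), 1), ((3, 68), 1), ((4, 0), 2), ((4, 5), 1), ((4, 11), 1), ((4, 12), 2), ((4, 29), 1), ((4, 40), 1), ((4, 55), 1), ((4, 101), 2), ((4, 105),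 1), ((4, 119), 2), ((4, 31), 2), ((4, 43), 2), ((4, 48), 2), ((4, 58), 2), ((4, 69), 1), ((4, 82), 2), ((3, 1), 1), ((3, 5), 2), ((3, 7), 2), ((3, 9), 2), ((3, 15), 1), ((3, 16), 2), ((3, 21), 2), ((3, 29), 2), ((3, 30), 2), ((4, 1), 2), ((4, 26), 2), ((4, 54), 2), ((4, 88), 2), ((4, 103), 1), ((4, 104), 2), ((4, 108), 1), ((4, 116), 1), ((4, 6), 1), ((4, 18), 1), ((4, 35), 2), ((4, 60), 1), ((4, 102), 1), ((4, 113), 1), ((4, 2), 1), ((4, 3), 2), ((4, 4), 1), ((4, 10), 2)],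
  [((0, 9), 1), ((0, 10), 2), ((0, 20), 1), ((0, 21), 2), ((0, 40), 1), ((0, 41), 2), ((0, 72), 1), ((0, 73), 2), ((1, 54), 2), ((2, 92), 2), ((1, 0), 1), ((1, 2), 1), ((1, 4), 1), ((1, 6), 2), ((1, 12), 1), ((1, 16), 2), ((1, 18), 2), ((1, 20), 2), ((1, 48), 2), ((1, 63), 2), ((1, 76), 1), ((2, 3), 1), ((2, 5), 2), ((2, 9), 2), ((2, 11), 1), ((2, 13), 1), ((2, 15), 2), ((2, 27), 1), ((2, 29), 1), ((2, 31), 2), ((2, 38), 1), ((2, 60), 1), ((2, 77), 2), ((2, 82), 2), ((3, 55), 1), ((3, 103), 1), ((3, 116), 2), ((3, 20), 2), ((3, 11), 1), ((3, 51), 1), ((3, 71), 2), ((3, 73), 2), ((3, 43), 2), ((3, 74), 1), ((4, 8), 2), ((4, 9), 2), ((4, 37), 2), ((4, 44), 1), ((4, 51), 1), ((4, 92), 1), ((4, 95), 2), ((4, 90), 1), ((3, 3), 2), ((3, 4), 2), ((3, 68), 2), ((4, 0), 1), ((4, 5), 1), ((4, 29), 1), ((4, 38), 1), ((4, 49), 1), ((4, 55),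 2), ((4, 101), 1), ((4, 106), 2), ((4, 119), 1), ((4, 7), 2), ((4, 48), 1), ((4, 58), 1), ((4, 69), 1), ((4, 82), 2), ((3, 5), 2), ((3, 7), 2), ((3, 9), 1), ((3, 15), 1), ((3, 16), 2), ((3, 19), 2), ((3, 21), 1), ((3, 29), 1), ((3, 39), 2), ((3, 42), 1), ((4, 1), 1), ((4, 26), 1), ((4, 42), 1), ((4, 54), 2), ((4, 56), 1), ((4, 72), 2), ((4, 74), 1), ((4, 89), 2), ((4, 99), 2), ((4, 108), 2), ((4, 116), 1), ((4, 6), 1), ((4, 35), 1), ((4, 60), 2), ((4, 68), 2), ((4, 102), 2)],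
  [((0, 1), 2), ((0, 2), 1), ((0, 4), 2), ((0, 5), 1), ((0, 10), 2), ((0, 11), 1), ((0, 21), 2), ((0, 23), 1), ((0, 41), 2), ((0, 43), 1), ((0, 74), 2), ((1, 54), 1), ((1, 0), 1), ((1, 2), 2), ((1, 6), 2), ((1, 8), 1), ((1, 12), 2), ((1, 16), 2), ((1, 20), 1), ((1, 48), 1), ((1, 76), 1), ((2, 0), 1), ((2, 1), 1), ((2, 3), 1), ((2, 7), 2), ((2, 9), 1), ((2, 13), 1), ((2, 15), 1), ((2, 29), 2), ((2, 31), 2), ((2, 38), 1), ((2, 60), 2), ((2, 77), 2), ((2, 82), 1), ((3, 23), 1), ((3, 55), 2), ((3, 103), 2), ((3, 116), 1), ((3, 92), 1), ((3, 20), 1), ((3, 11), 2), ((3, 51), 1), ((3, 71), 2), ((3, 73), 2), ((3, 69), 1), ((4, 8), 2), ((4, 9), 2), ((4, 37), 1), ((4, 44), 1), ((4, 51), 2), ((4, 92), 1), ((4, 95), 2), ((4, 90), 2), ((3, 4), 2), ((3, 68), 1), ((4, 0), 1), ((4, 5), 2), ((4, 11), 1), ((4, 12), 1), ((4, 38), 2), ((4, 40), 1),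 ((4, 49), 1), ((4, 101), 1), ((4, 105), 1), ((4, 119), 1), ((4, 7), 2), ((4, 31), 1), ((4, 43), 2), ((4, 48), 1), ((4, 58), 2), ((4, 82), 2), ((3, 5), 2), ((3, 8), 1), ((3, 9), 1), ((3, 15), 1), ((3, 16), 1), ((3, 19), 1), ((3, 21), 2), ((3, 29), 1), ((3, 30), 1), ((4, 1), 2), ((4, 56), 1), ((4, 72), 2), ((4, 74), 1), ((4, 80), 1), ((4, 89), 1), ((4, 99), 2), ((4, 103), 1), ((4, 104), 1), ((4, 108), 2), ((4, 116), 1), ((4, 6), 2), ((4, 18), 2), ((4, 35), 2), ((4, 68), 1), ((4, 113), 2), ((4, 2), 2), ((4, 3), 2), ((4, 4), 2), ((4, 10), 1)],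
  [((0, 102), 1)],
  [((0, 1), 1), ((0, 2), 2), ((0, 4), 1), ((0, 5), 2), ((0, 9), 1), ((0, 11), 2), ((0, 19), 1), ((0, 23), 2), ((0, 38), 1), ((0, 43), 2), ((0, 76), 2), ((1, 54), 2), ((2, 92), 1), ((1, 0), 1), ((1, 4), 2), ((1, 8), 1), ((1, 10), 2), ((1, 14), 2), ((1, 56), 1), ((1, 63), 2), ((1, 76), 2), ((2, 0), 2), ((2, 1), 1), ((2, 3), 1), ((2, 5), 2), ((2, 7), 1), ((2, 9), 1), ((2, 15), 1), ((2, 23), 1), ((2, 31), 2), ((2, 38), 2), ((2, 77), 2), ((3, 23), 2), ((3, 103), 2), ((3, 116), 1), ((3, 92), 2), ((3, 20), 2), ((3, 51), 1), ((3, 71), 2), ((3, 43), 1), ((3, 69), 2), ((3, 74), 2), ((4, 8), 1), ((4, 37), 2), ((4, 44), 2), ((4, 51), 1), ((4, 78), 2), ((4, 92), 1), ((4, 95), 1), ((3, 3), 1), ((3, 68), 1), ((4, 5), 1), ((4, 11), 1), ((4, 29), 2), ((4, 38), 2), ((4, 49), 1), ((4, 55), 1), ((4, 101), 1), ((4, 105), 2), ((4,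 119), 2), ((4, 31), 1), ((4, 43), 2), ((4, 58), 2), ((4, 82), 2), ((3, 7), 2), ((3, 8), 1), ((3, 9), 1), ((3, 15), 1), ((3, 16), 1), ((3, 17), 1), ((3, 21), 2), ((3, 29), 1), ((3, 39), 1), ((4, 26), 2), ((4, 42), 1), ((4, 54), 2), ((4, 56), 2), ((4, 88), 2), ((4, 99), 2), ((4, 103), 2), ((4, 6), 2), ((4, 18), 1), ((4, 60), 1), ((4, 68), 2), ((4, 102), 2), ((4, 2), 2), ((4, 10), 1)],
  [((0, 1), 1), ((0, 2), 2), ((0, 3), 1), ((0, 5), 2), ((0, 7), 1), ((0, 11), 2), ((0, 15), 1), ((0, 23), 2), ((0, 31), 1), ((0, 44), 2), ((0, 59), 1), ((0, 77), 2), ((0, 91), 1), ((1, 54), 1), ((2, 92), 1), ((1, 0), 1), ((1, 2), 1), ((1, 10), 2), ((1, 12), 1), ((1, 14), 2), ((1, 16), 2), ((1, 18), 2), ((1, 20), 1), ((1, 28), 1), ((1, 48), 2), ((1, 56), 2), ((1, 63), 1), ((2, 0), 1), ((2, 1), 1), ((2, 3), 1), ((2, 5), 2), ((2, 7), 1), ((2, 9), 1), ((2,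 11), 2), ((2, 13), 2), ((2, 27), 1), ((2, 29), 1), ((2, 31), 2), ((2, 38), 1), ((2, 60), 1), ((2, 77), 2), ((3, 55), 1), ((3, 103), 2), ((3, 92), 1), ((3, 11), 1), ((3, 51), 2), ((3, 71), 1), ((3, 73), 2), ((3, 52), 2), ((3, 69), 2), ((3, 74), 2), ((4, 37), 2), ((4, 44), 1), ((4, 51), 2), ((4, 75), 2), ((4, 78), 2), ((4, 95), 2), ((4, 90), 1), ((3, 3), 2), ((3, 4), 1), ((3, 68), 2), ((4, 0), 1), ((4, 5), 1), ((4, 40), 2), ((4, 49), 2), ((4, 55), 1), ((4, 101), 1), ((4, 105), 2), ((4, 106), 2), ((4, 7), 2), ((4, 31), 2), ((4, 48), 1), ((4, 58), 2), ((3, 5), 1), ((3, 8), 1), ((3, 9), 2), ((3, 15), 1), ((3, 19), 1), ((3, 21), 1), ((3, 42), 2), ((4, 1), 1), ((4, 26), 1), ((4, 42), 2), ((4, 56), 1), ((4, 72), 2), ((4, 80), 2), ((4, 88), 2), ((4, 89), 1), ((4, 99), 2), ((4, 103), 2), ((4, 108), 2), ((4, 116), 1), ((4, 6), 2), ((4, 60),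 1), ((4, 102), 1), ((4, 113), 2), ((4, 2), 2), ((4, 4), 1), ((4, 10), 1)],
  [((0, 1), 1), ((0, 2), 2), ((0, 3), 1), ((0, 5), 2), ((0, 8), 1), ((0, 11), 2), ((0, 17), 1), ((0, 23), 2), ((0, 35), 1), ((0, 44), 2), ((0, 64), 1), ((0, 78), 2), ((1, 54), 2), ((2, 92), 2), ((1, 0), 1), ((1, 2), 2), ((1, 4), 2), ((1, 6), 2), ((1, 8), 1), ((1, 12), 1), ((1, 18), 2), ((1, 28), 2), ((1, 63), 2), ((1, 76), 2), ((2, 0), 2), ((2, 3), 1), ((2, 5), 1), ((2, 7), 2), ((2, 9), 2), ((2, 11), 2), ((2, 13), 2), ((2, 15), 1), ((2, 27), 1), ((2, 29), 1), ((2, 31), 2), ((2, 38), 1), ((2, 60), 1), ((3, 23), 1), ((3, 103), 1), ((3, 92), 2), ((3, 20), 2), ((3, 11), 2), ((3, 51), 1), ((3, 73), 2), ((3, 52), 1), ((3, 69), 2), ((4, 8), 2), ((4, 9), 1), ((4, 37), 2), ((4, 51), 2), ((4, 75), 2), ((3, 3), 1), ((3, 4), 1), ((4, 5), 2), ((4, 12), 1), ((4, 40), 1),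 ((4, 49), 2), ((4, 55), 1), ((4, 101), 2), ((4, 106), 2), ((4, 119), 1), ((4, 31), 1), ((4, 58), 2), ((4, 82), 2), ((3, 5), 1), ((3, 9), 1), ((3, 17), 2), ((3, 19), 2), ((3, 30), 2), ((3, 39), 1), ((3, 42), 2), ((4, 1), 1), ((4, 26), 2), ((4, 56), 2), ((4, 72), 1), ((4, 80), 1), ((4, 103), 1), ((4, 104), 1), ((4, 108), 1), ((4, 116), 2), ((4, 35), 1), ((4, 60), 2), ((4, 68), 2), ((4, 102), 1), ((4, 113), 2), ((4, 4), 1), ((4, 10), 1)],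
  [((0, 105), 1)],
  [((0, 1), 1), ((0, 2), 2), ((0, 3), 1), ((0, 5), 2), ((0, 7), 1), ((0, 11), 2), ((0, 16), 1), ((0, 24), 2), ((0, 33), 1), ((0, 46), 2), ((0, 60), 1), ((0, 80), 2), ((1, 54), 1), ((1, 0), 2), ((1, 2), 1), ((1, 4), 1), ((1, 8), 2), ((1, 12), 2), ((1, 18), 2), ((1, 59), 2), ((2, 0), 1), ((2, 1), 1), ((2, 3), 2), ((2, 5), 1), ((2, 9), 2), ((2, 13), 2), ((2, 15), 2), ((2, 23), 1), ((2, 27), 1), ((2, 29), 2), ((2, 31), 2), ((2, 38), 1), ((2, 60), 2), ((2, 77), 1), ((3, 55), 1), ((3, 103), 2), ((3, 116), 2), ((3, 92), 1), ((3, 11), 1), ((3, 51), 1), ((3, 73), 1), ((3, 43), 1), ((3, 52), 1), ((3, 74), 2), ((4, 8), 2), ((4, 9), 1), ((4, 37), 2), ((4, 44), 1), ((4, 51), 2), ((4, 75), 2), ((4, 95), 1), ((4, 90), 2), ((3, 3), 1), ((3, 68), 1), ((4, 0), 2), ((4, 11), 1), ((4, 29), 1), ((4, 38), 1), ((4, 40), 1), ((4, 55),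 2), ((4, 105), 1), ((4, 106), 2), ((4, 7), 2), ((4, 48), 2), ((4, 58), 1), ((4, 69), 1), ((4, 82), 2), ((3, 7), 2), ((3, 8), 2), ((3, 9), 2), ((3, 15), 2), ((3, 16), 2), ((3, 17), 2), ((3, 29), 2), ((3, 30), 1), ((4, 26), 1), ((4, 42), 1), ((4, 54), 2), ((4, 56), 2), ((4, 72), 1), ((4, 74), 1), ((4, 80), 1), ((4, 88), 1), ((4, 99), 2), ((4, 103), 1), ((4, 104), 1), ((4, 108), 2), ((4, 116), 2), ((4, 6), 1), ((4, 18), 2), ((4, 35), 2), ((4, 60), 2), ((4, 102), 1), ((4, 113), 2), ((4, 2), 1), ((4, 3), 1), ((4, 4), 2), ((4, 10), 2)],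
  [((0, 11), 2), ((0, 12), 1), ((0, 24), 2), ((0, 26), 1), ((0, 46), 2), ((0, 49), 1), ((0, 81), 2), ((2, 92), 2), ((1, 0), 2), ((1, 2), 2), ((1, 6), 1), ((1, 8), 1), ((1, 12), 2), ((1, 14), 1), ((1, 18), 2), ((1, 28), 2), ((1, 48), 2), ((1, 56), 1), ((1, 76), 2), ((2, 0), 2), ((2, 1), 2), ((2, 5), 2), ((2, 7), 1), ((2, 9), 2), ((2, 13), 2), ((2, 27), 2), ((2, 31), 1), ((2, 38), 1), ((2, 60), 1), ((2, 77), 1), ((2, 82), 1), ((3, 23), 1), ((3, 55), 1), ((3, 103), 2), ((3, 116), 2), ((3, 92), 1), ((3, 73), 2), ((3, 43), 2), ((3, 74), 1), ((4, 8), 1), ((4, 37), 1), ((4, 44), 1), ((4, 51), 2), ((4, 92), 1), ((3, 3), 2), ((3, 4), 1), ((3, 68), 2), ((4, 0), 2), ((4, 5), 2), ((4, 11), 1), ((4, 29), 2), ((4, 49), 1), ((4, 101), 2), ((4, 105), 1), ((4, 119), 1), ((4, 7), 1), ((4, 43), 2), ((4, 58), 2), ((4, 69), 1), ((3, 1), 2), ((3, 7),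 2), ((3, 9), 2), ((3, 15), 2), ((3, 17), 1), ((3, 19), 2), ((3, 21), 1), ((3, 29), 2), ((3, 30), 1), ((3, 39), 1), ((4, 1), 1), ((4, 26), 1), ((4, 42), 2), ((4, 72), 2), ((4, 74), 1), ((4, 80), 2), ((4, 88), 2), ((4, 99), 2), ((4, 103), 2), ((4, 104), 2), ((4, 108), 2), ((4, 116), 2), ((4, 6), 1), ((4, 18), 2), ((4, 35), 2), ((4, 60), 2), ((4, 68), 2), ((4, 102), 2), ((4, 113), 2), ((4, 2), 2), ((4, 3), 1), ((4, 10), 2)],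
  [((0, 5), 2), ((0, 6), 1), ((0, 12), 2), ((0, 14), 1), ((0, 25), 2), ((0, 29), 1), ((0, 47), 2), ((0, 55), 1), ((0, 82), 2), ((0, 87), 1), ((1, 0), 1), ((1, 2), 1), ((1, 4), 1), ((1, 10), 1), ((1, 12), 2), ((1, 14), 1), ((1, 28), 1), ((1, 48), 2), ((1, 56), 1), ((1, 63), 2), ((2, 1), 2), ((2, 3), 1), ((2, 5), 2), ((2, 9), 2), ((2, 11), 1), ((2, 13), 1), ((2, 27), 1), ((2, 29), 1), ((2, 31), 1), ((2, 38), 2), ((2, 82), 1), ((3, 23), 2), ((3, 103), 2), ((3, 92), 1), ((3, 20), 2), ((3, 11), 1), ((3, 71), 2), ((3, 73), 2), ((3, 43), 2), ((3, 52), 2), ((4, 9), 1), ((4, 44), 1), ((4, 51), 2), ((4, 75), 2), ((4, 78), 1), ((4, 92), 1), ((4, 95), 1), ((4, 90), 1), ((3, 3), 1), ((3, 4), 2), ((4, 0), 2), ((4, 5), 1), ((4, 11), 1), ((4, 12), 2), ((4, 29), 1), ((4, 49), 2), ((4, 101), 2), ((4, 105), 2), ((4, 119), 1), ((4, 7), 1), ((4, 31),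 1), ((4, 43), 1), ((4, 58), 1), ((3, 1), 1), ((3, 7), 2), ((3, 8), 1), ((3, 9), 1), ((3, 15), 1), ((3, 16), 2), ((3, 17), 2), ((3, 21), 2), ((3, 29), 1), ((3, 39), 1), ((4, 1), 2), ((4, 26), 1), ((4, 42), 1), ((4, 56), 1), ((4, 74), 2), ((4, 88), 2), ((4, 89), 1), ((4, 103), 2), ((4, 104), 1), ((4, 108), 1), ((4, 6), 2), ((4, 18), 1), ((4, 35), 2), ((4, 60), 1), ((4, 68), 1), ((4, 102), 2), ((4, 113), 1), ((4, 3), 2), ((4, 4), 2), ((4, 10), 1)],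
  [((0, 11), 1), ((0, 12), 2), ((0, 23), 1), ((0, 26), 2), ((0, 44), 1), ((0, 50), 2), ((0, 78), 1), ((0, 83), 2), ((0, 104), 1), ((2, 92), 2), ((1, 0), 1), ((1, 4), 1), ((1, 6), 2), ((1, 8), 2), ((1, 14), 1), ((1, 16), 1), ((1, 18), 2), ((1, 20), 2), ((1, 59), 1), ((1, 76), 2), ((2, 0), 1), ((2, 5), 1), ((2, 7), 2), ((2, 11), 2), ((2, 13), 1), ((2, 23), 2), ((2, 27), 1), ((2, 29), 2), ((2, 31), 2), ((2, 38), 2), ((2, 60), 1), ((2, 82), 2), ((3, 23), 1), ((3, 103), 2), ((3, 116), 1), ((3, 20), 2), ((3, 11), 1), ((3, 71), 1), ((3, 73), 2), ((3, 43), 2), ((3, 52), 1), ((3, 69), 1), ((4, 8), 2), ((4, 37), 2), ((4, 75), 1), ((4, 78), 1), ((4, 92), 2), ((4, 95), 1), ((4, 90), 1), ((3, 3), 2), ((4, 0), 1), ((4, 11), 2), ((4, 12), 2), ((4, 38), 1), ((4, 40), 2), ((4, 55), 1), ((4, 101), 1), ((4, 105), 2), ((4, 106), 1), ((4, 7), 1), ((4,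 31), 1), ((4, 48), 2), ((4, 82), 1), ((3, 5), 2), ((3, 7), 2), ((3, 16), 1), ((3, 21), 2), ((3, 29), 2), ((3, 30), 1), ((3, 39), 2), ((3, 42), 2), ((4, 1), 1), ((4, 56), 1), ((4, 72), 2), ((4, 74), 1), ((4, 88), 2), ((4, 99), 2), ((4, 104), 2), ((4, 116), 2), ((4, 6), 2), ((4, 18), 1), ((4, 35), 2), ((4, 60), 1), ((4, 68), 1), ((4, 113), 2), ((4, 2), 1), ((4, 3), 1), ((4, 4), 2)],
  [((0, 107), 1)],
  [((0, 108), 1)],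
  [((0, 109), 1)],
  [((0, 110), 1)],
  [((0, 1), 1), ((0, 2), 2), ((0, 3), 1), ((0, 6), 2), ((0, 14), 2), ((0, 29), 2), ((0, 55), 2), ((0, 88), 2), ((2, 92), 2), ((1, 0), 2), ((1, 2), 1), ((1, 4), 1), ((1, 6), 2), ((1, 8), 1), ((1, 10), 2), ((1, 14), 2), ((1, 18), 1), ((1, 20), 1), ((1, 28), 2), ((1, 48), 2), ((1, 56), 1), ((1, 63), 2), ((1, 76), 1), ((2, 5), 2), ((2, 7), 2), ((2, 9), 1), ((2, 11), 1), ((2, 15), 1), ((2, 23), 2), ((2, 27), 2), ((2, 29), 1), ((2, 31), 1), ((2, 60), 2), ((3, 55), 2), ((3, 116), 2), ((3, 11), 2), ((3, 73), 2), ((3, 43), 2), ((3, 52), 2), ((3, 69), 2), ((3, 74), 1), ((4, 9), 1), ((4, 37), 1), ((4, 44), 2), ((4, 51), 1), ((4, 75), 1), ((4, 78), 1), ((4, 90), 2), ((3, 68), 1), ((4, 0), 2), ((4, 5), 2), ((4, 29), 2), ((4, 38), 1), ((4, 101), 1), ((4, 119), 2), ((4, 31), 2), ((4, 48), 2), ((4, 58), 1),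 ((4, 82), 2), ((3, 1), 2), ((3, 5), 1), ((3, 8), 1), ((3, 16), 2), ((3, 17), 2), ((3, 19), 2), ((3, 21), 2), ((3, 30), 1), ((3, 39), 2), ((3, 42), 2), ((4, 26), 2), ((4, 42), 1), ((4, 80), 2), ((4, 89), 1), ((4, 103), 1), ((4, 104), 1), ((4, 108), 1), ((4, 116), 2), ((4, 6), 1), ((4, 18), 1), ((4, 60), 1), ((4, 102), 2), ((4, 2), 2), ((4, 3), 1), ((4, 4), 1), ((4, 10), 2)],
  [((0, 112), 1)],
  [((0, 1), 1), ((0, 2), 2), ((0, 3), 1), ((0, 6), 2), ((0, 8), 1), ((0, 14), 2), ((0, 18), 1), ((0, 29), 2), ((0, 37), 1), ((0, 56), 2), ((0, 68), 1), ((0, 90), 2), ((0, 98), 1), ((2, 92), 2), ((1, 2), 2), ((1, 4), 1), ((1, 6), 2), ((1, 8), 2), ((1, 10), 2), ((1, 12), 2), ((1, 14), 1), ((1, 16), 2), ((1, 63), 1), ((1, 76), 2), ((2, 0), 1), ((2, 9), 2), ((2, 13), 2), ((2, 15), 2), ((2, 23), 1), ((2, 29), 1), ((2, 31), 1), ((2, 38), 2), ((2,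 82), 2), ((3, 23), 1), ((3, 55), 1), ((3, 92), 2), ((3, 11), 2), ((3, 51), 1), ((3, 71), 1), ((3, 73), 2), ((3, 43), 2), ((3, 52), 1), ((3, 69), 2), ((4, 8), 1), ((4, 44), 2), ((4, 78), 1), ((4, 90), 2), ((3, 3), 2), ((3, 68), 1), ((4, 0), 2), ((4, 5), 2), ((4, 11), 2), ((4, 12), 2), ((4, 29), 1), ((4, 38), 1), ((4, 40), 1), ((4, 55), 1), ((4, 105), 1), ((4, 106), 2), ((4, 7), 2), ((4, 31), 2), ((4, 43), 2), ((4, 58), 2), ((3, 1), 2), ((3, 7), 2), ((3, 9), 2), ((3, 17), 1), ((3, 19), 2), ((3, 21), 1), ((3, 39), 1), ((3, 42), 1), ((4, 1), 1), ((4, 54), 2), ((4, 74), 1), ((4, 80), 2), ((4, 88), 2), ((4, 89), 1), ((4, 99), 2), ((4, 103), 1), ((4, 104), 2), ((4, 108), 1), ((4, 116), 2), ((4, 18), 1), ((4, 35), 2), ((4, 60), 2), ((4, 68), 1), ((4, 102), 1), ((4, 113), 2), ((4, 3), 2), ((4, 4), 1), ((4, 10), 2)],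
  [((0, 1), 2), ((0, 2), 1), ((0, 3), 2), ((0, 6), 1), ((0, 7), 2), ((0, 14), 1), ((0, 15), 2), ((0, 29), 1), ((0, 31), 2), ((0, 56), 1), ((0, 59), 2), ((0, 89), 1), ((0, 91), 2), ((2, 92), 1), ((1, 0), 2), ((1, 8), 2), ((1, 10), 2), ((1, 12), 2), ((1, 16), 1), ((1, 18), 1), ((1, 20), 2), ((1, 28), 1), ((1, 48), 1), ((1, 59), 2), ((2, 1), 2), ((2, 3), 2), ((2, 5), 2), ((2, 7), 2), ((2, 9), 1), ((2, 11), 1), ((2, 13), 1), ((2, 15), 2), ((2, 27), 1), ((2, 29), 1), ((2, 31), 1), ((2, 38), 2), ((2, 60), 1), ((2, 77), 2), ((3, 23), 2), ((3, 103), 1), ((3, 11), 2), ((3, 51), 2), ((3, 71), 1), ((3, 73), 1), ((3, 69), 2), ((3, 74), 2), ((4, 9), 1), ((4, 37), 2), ((4, 51), 2), ((4, 75), 1), ((4, 92), 2), ((3, 3), 2), ((3, 4), 1), ((3, 68), 2), ((4, 0), 1), ((4, 11), 2), ((4, 12), 1), ((4, 38), 1), ((4, 40), 1), ((4, 49), 1), ((4, 55), 2),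 ((4, 101), 2), ((4, 119), 2), ((4, 7), 1), ((4, 31), 1), ((4, 43), 1), ((4, 48), 2), ((4, 69), 1), ((4, 82), 1), ((3, 7), 2), ((3, 8), 1), ((3, 9), 1), ((3, 15), 1), ((3, 16), 2), ((3, 19), 2), ((3, 21), 2), ((3, 29), 2), ((3, 30), 1), ((3, 42), 1), ((4, 1), 1), ((4, 26), 1), ((4, 42), 1), ((4, 54), 2), ((4, 72), 2), ((4, 74), 1), ((4, 80), 1), ((4, 88), 1), ((4, 89), 1), ((4, 103), 2), ((4, 104), 2), ((4, 6), 1), ((4, 60), 1), ((4, 2), 2), ((4, 4), 2), ((4, 10), 2)],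
  [((2, 92), 1)],
  [((0, 1), 2), ((0, 2), 1), ((0, 3), 2), ((0, 6), 1), ((0, 7), 2), ((0, 14), 1), ((0, 16), 2), ((0, 29), 1), ((0, 33), 2), ((0, 55), 1), ((0, 60), 2), ((0, 88), 1), ((0, 93), 2), ((0, 111), 1), ((1, 0), 2), ((1, 4), 2), ((1, 6), 1), ((1, 10), 2), ((1, 12), 1), ((1, 14), 1), ((1, 16), 1), ((1, 56), 2), ((1, 59), 1), ((1, 76), 1), ((2, 0), 2), ((2, 3), 2), ((2, 7), 1), ((2, 9), 1), ((2, 11), 1), ((2, 15), 2), ((2, 31), 1), ((2, 60), 2), ((2, 82), 2), ((3, 23), 1), ((3, 103), 2), ((3, 116), 2), ((3, 20), 2), ((3, 11), 1), ((3, 71), 1), ((3, 73), 1), ((3, 43), 2), ((3, 52), 2), ((3, 69), 1), ((3, 74), 1), ((4, 8), 2), ((4, 9), 1), ((4, 37), 1), ((4, 44), 2), ((4, 51), 2), ((4, 78), 2), ((4, 92), 1), ((4, 95), 2), ((3, 3), 1), ((3, 68), 2), ((4, 0), 2), ((4, 5), 2), ((4, 29), 2), ((4, 38), 2), ((4, 49), 2), ((4, 55),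 1), ((4, 101), 2), ((4, 119), 2), ((4, 31), 1), ((4, 43), 1), ((4, 58), 2), ((4, 69), 1), ((4, 82), 1), ((3, 1), 2), ((3, 16), 2), ((3, 17), 2), ((3, 19), 1), ((3, 21), 1), ((3, 39), 2), ((3, 42), 1), ((4, 42), 1), ((4, 56), 1), ((4, 72), 2), ((4, 80), 2), ((4, 88), 2), ((4, 89), 2), ((4, 99), 1), ((4, 103), 2), ((4, 104), 1), ((4, 108), 2), ((4, 18), 2), ((4, 35), 1), ((4, 68), 1), ((4, 102), 2), ((4, 113), 2), ((4, 2), 2), ((4, 3), 2), ((4, 10), 1)],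
  [((0, 7), 2), ((0, 8), 1), ((0, 16), 2), ((0, 17), 1), ((0, 34), 2), ((0, 35), 1), ((0, 62), 2), ((0, 94), 2), ((1, 54), 1), ((1, 2), 2), ((1, 6), 2), ((1, 8), 1), ((1, 10), 1), ((1, 12), 2), ((1, 14), 1), ((1, 56), 2), ((1, 59), 1), ((2, 5), 1), ((2, 11), 2), ((2, 23), 2), ((2, 27), 2), ((2, 29), 2), ((2, 60), 1), ((2, 77), 2), ((2, 82), 2), ((3, 23), 1), ((3, 55), 2), ((3, 103), 2), ((3, 116), 1), ((3, 92), 1), ((3, 11), 1), ((3, 71), 1), ((3, 43), 1), ((3, 52), 2), ((3, 69), 1), ((4, 51), 1), ((4, 78), 2), ((4, 92), 2), ((4, 95), 2), ((4, 90), 1), ((3, 68), 1), ((4, 0), 2), ((4, 11), 2), ((4, 12), 1), ((4, 29), 1), ((4, 40), 2), ((4, 55), 2), ((4, 106), 1), ((4, 119), 1), ((4, 7), 2), ((4, 31), 1), ((4, 43), 1), ((4, 58), 2), ((4, 69), 1), ((4, 82), 2), ((3, 1), 2), ((3, 8), 1), ((3, 16), 2), ((3, 17), 2), ((3, 19), 1), ((3,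 30), 2), ((3, 39), 2), ((3, 42), 1), ((4, 1), 1), ((4, 26), 1), ((4, 42), 2), ((4, 54), 1), ((4, 74), 1), ((4, 80), 1), ((4, 89), 2), ((4, 99), 2), ((4, 104), 2), ((4, 108), 2), ((4, 116), 1), ((4, 6), 1), ((4, 35), 2), ((4, 60), 2), ((4, 68), 2), ((4, 102), 1), ((4, 113), 2), ((4, 2), 2)],
  [((0, 3), 2), ((0, 4), 1), ((0, 8), 2), ((0, 10), 1), ((0, 17), 2), ((0, 21), 1), ((0, 35), 2), ((0, 41), 1), ((0, 64), 2), ((0, 95), 2), ((1, 54), 2), ((1, 0), 1), ((1, 4), 2), ((1, 6), 2), ((1, 12), 2), ((1, 16), 2), ((1, 18), 2), ((1, 28), 2), ((1, 48), 1), ((1, 56), 2), ((1, 59), 2), ((1, 63), 1), ((2, 0), 1), ((2, 1), 1), ((2, 3), 1), ((2, 5), 2), ((2, 9), 2), ((2, 13), 1), ((2, 23), 1), ((2, 29), 2), ((2, 31), 1), ((2, 38), 1), ((2, 60), 1), ((2, 82), 1), ((3, 23), 2), ((3, 55), 2), ((3, 103), 1), ((3, 20), 1), ((3, 11), 1), ((3, 71),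 1), ((3, 73), 1), ((3, 43), 1), ((3, 52), 2), ((3, 69), 2), ((3, 74), 2), ((4, 8), 2), ((4, 9), 1), ((4, 37), 1), ((4, 51), 1), ((4, 75), 2), ((4, 78), 1), ((4, 95), 2), ((3, 3), 2), ((4, 0), 2), ((4, 5), 1), ((4, 11), 1), ((4, 29), 1), ((4, 38), 2), ((4, 40), 1), ((4, 49), 1), ((4, 101), 1), ((4, 105), 2), ((4, 106), 1), ((4, 119), 1), ((4, 7), 2), ((4, 31), 1), ((4, 43), 1), ((4, 69), 2), ((4, 82), 1), ((3, 1), 2), ((3, 5), 1), ((3, 7), 2), ((3, 15), 2), ((3, 16), 1), ((3, 21), 2), ((3, 30), 1), ((3, 39), 1), ((4, 1), 2), ((4, 54), 2), ((4, 56), 2), ((4, 72), 1), ((4, 80), 1), ((4, 89), 2), ((4, 99), 2), ((4, 103), 2), ((4, 104), 2), ((4, 108), 2), ((4, 116), 2), ((4, 6), 1), ((4, 18), 2), ((4, 60), 1), ((4, 113), 1), ((4, 2), 2), ((4, 3), 2), ((4, 4), 2), ((4, 10), 1)],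
  [((0, 7), 1), ((0, 8), 2), ((0, 16), 1), ((0, 17), 2), ((0, 33), 1), ((0, 35), 2), ((0, 64), 2), ((0, 96), 2), ((1, 54), 1), ((1, 0), 2), ((1, 4), 2), ((1, 6), 2), ((1, 8), 1), ((1, 10), 1), ((1, 12), 2), ((1, 14), 1), ((1, 16), 2), ((1, 20), 1), ((1, 28), 1), ((1, 56), 2), ((1, 59), 1), ((1, 63), 2), ((1, 76), 1), ((2, 0), 2), ((2, 1), 2), ((2, 3), 2), ((2, 7), 2), ((2, 11), 1), ((2, 13), 2), ((2, 15), 1), ((2, 23), 1), ((2, 27), 1), ((2, 29), 1), ((2, 31), 1), ((2, 38), 1), ((2, 60), 1), ((2, 82), 2), ((3, 23), 2), ((3, 55), 2), ((3, 103), 2), ((3, 20), 2), ((3, 51), 2), ((3, 73), 2), ((3, 43), 2), ((3, 52), 2), ((3, 69), 1), ((4, 8), 1), ((4, 51), 2), ((4, 75), 1), ((4, 92), 2), ((4, 95), 1), ((4, 90), 1), ((3, 3), 2), ((3, 4), 2), ((3, 68), 1), ((4, 5), 1), ((4, 11), 1), ((4, 12), 1), ((4, 40), 2), ((4, 49), 2), ((4, 55),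 2), ((4, 101), 1), ((4, 105), 1), ((4, 106), 1), ((4, 31), 2), ((4, 48), 1), ((4, 58), 2), ((4, 82), 2), ((3, 9), 1), ((3, 16), 2), ((3, 17), 1), ((3, 19), 2), ((3, 21), 2), ((3, 29), 1), ((3, 30), 2), ((3, 39), 1), ((3, 42), 2), ((4, 26), 2), ((4, 42), 1), ((4, 54), 2), ((4, 56), 1), ((4, 72), 2), ((4, 74), 2), ((4, 80), 1), ((4, 89), 2), ((4, 108), 1), ((4, 116), 2), ((4, 6), 2), ((4, 18), 2), ((4, 35), 1), ((4, 60), 1), ((4, 68), 2), ((4, 102), 1), ((4, 113), 1), ((4, 2), 2), ((4, 4), 1), ((4, 10), 1)],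
  [((0, 114), 1)],
  [((0, 7), 1), ((0, 8), 2), ((0, 16), 1), ((0, 18), 2), ((0, 34), 1), ((0, 37), 2), ((0, 62), 1), ((0, 68), 2), ((0, 94), 1), ((0, 98), 2), ((1, 54), 1), ((2, 92), 1), ((1, 2), 2), ((1, 4), 2), ((1, 6), 1), ((1, 10), 1), ((1, 12), 1), ((1, 18), 2), ((1, 20), 2), ((1, 56), 2), ((1, 59), 2), ((1, 63), 1), ((1, 76), 1), ((2, 0), 2), ((2, 1), 1), ((2, 5), 2), ((2, 7), 2), ((2, 9), 2), ((2, 15), 1), ((2, 23), 1), ((2, 29), 2), ((2, 31), 1), ((2, 38), 1), ((2, 60), 2), ((2, 77), 2), ((2, 82), 2), ((3, 23), 2), ((3, 116), 2), ((3, 20), 1), ((3, 71), 2), ((3, 52), 2), ((3, 69), 2), ((4, 9), 1), ((4, 44), 1), ((4, 51), 2), ((4, 75), 1), ((4, 78), 2), ((4, 95), 1), ((4, 90), 2), ((3, 68), 1), ((4, 5), 1), ((4, 11), 2), ((4, 29), 1), ((4, 38), 1), ((4, 40), 1), ((4, 49), 1), ((4, 55), 2), ((4, 101), 2), ((4, 105), 1), ((4,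 106), 2), ((4, 119), 2), ((4, 7), 1), ((4, 31), 2), ((4, 48), 1), ((4, 58), 2), ((4, 69), 1), ((4, 82), 2), ((3, 1), 2), ((3, 7), 2), ((3, 8), 1), ((3, 9), 2), ((3, 16), 2), ((3, 17), 1), ((3, 19), 2), ((3, 21), 1), ((3, 29), 1), ((3, 30), 1), ((3, 39), 2), ((3, 42), 1), ((4, 1), 2), ((4, 26), 1), ((4, 42), 1), ((4, 54), 1), ((4, 72), 2), ((4, 74), 1), ((4, 88), 2), ((4, 99), 1), ((4, 103), 2), ((4, 116), 1), ((4, 18), 1), ((4, 68), 1), ((4, 102), 1), ((4, 113), 2), ((4, 2), 2), ((4, 10), 1)],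
  [((0, 1), 2), ((0, 2), 1), ((0, 4), 2), ((0, 5), 1), ((0, 10), 2), ((0, 11), 1), ((0, 21), 2), ((0, 23), 1), ((0, 41), 2), ((0, 44), 1), ((0, 73), 2), ((0, 77), 1), ((0, 99), 2), ((1, 54), 1), ((1, 0), 1), ((1, 2), 1), ((1, 4), 2), ((1, 6), 2), ((1, 8), 2), ((1, 10), 1), ((1, 12), 1), ((1, 14), 1), ((1, 16), 2), ((1, 18), 2), ((1, 56), 1), ((1, 59), 2), ((2, 0), 1), ((2, 1), 2), ((2, 5), 1), ((2, 7), 2), ((2, 9), 2), ((2, 13), 1), ((2, 23), 1), ((2, 27), 1), ((2, 29), 1), ((2, 31), 2), ((2, 38), 2), ((2, 77), 1), ((2, 82), 2), ((3, 23), 1), ((3, 55), 2), ((3, 103), 2), ((3, 116), 1), ((3, 20), 1), ((3, 11), 2), ((3, 51), 2), ((3, 71), 2), ((3, 73), 2), ((3, 43), 2), ((3, 52), 1), ((3, 69), 2), ((4, 8), 2), ((4, 9), 2), ((4, 51), 2), ((4, 75), 2), ((4, 78), 1), ((4, 92), 1), ((4, 95), 2), ((3, 4), 1), ((3, 68), 2), ((4, 5), 1),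 ((4, 12), 1), ((4, 40), 2), ((4, 49), 1), ((4, 101), 2), ((4, 105), 1), ((4, 106), 1), ((4, 43), 1), ((4, 58), 2), ((4, 69), 1), ((3, 5), 1), ((3, 8), 1), ((3, 9), 1), ((3, 15), 1), ((3, 16), 2), ((3, 17), 2), ((3, 30), 1), ((3, 39), 1), ((4, 26), 1), ((4, 42), 1), ((4, 54), 2), ((4, 56), 1), ((4, 72), 2), ((4, 74), 2), ((4, 80), 1), ((4, 88), 1), ((4, 89), 2), ((4, 99), 2), ((4, 103), 2), ((4, 108), 1), ((4, 18), 1), ((4, 35), 1), ((4, 60), 1), ((4, 68), 1), ((4, 102), 1), ((4, 3), 1), ((4, 4), 1), ((4, 10), 1)],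
  [((0, 73), 1), ((0, 74), 2), ((0, 99), 1), ((0, 100), 2), ((1, 54), 1), ((1, 0), 1), ((1, 2), 1), ((1, 4), 1), ((1, 10), 1), ((1, 14), 1), ((1, 16), 1), ((1, 20), 2), ((1, 28), 2), ((1, 48), 1), ((1, 56), 1), ((1, 59), 2), ((1, 63), 1), ((1, 76), 1), ((2, 5), 1), ((2, 7), 2), ((2, 9), 1), ((2, 11), 1), ((2, 13), 1), ((2, 15), 2), ((2, 27), 2), ((2, 38), 1), ((2, 60), 2), ((2, 77), 2), ((2, 82), 2), ((3, 55), 2), ((3, 92), 2), ((3, 20), 1), ((3, 11), 2), ((3, 51), 2), ((3, 73), 1), ((4, 8), 2), ((4, 9), 2), ((4, 37), 1), ((4, 75), 1), ((4, 78), 1), ((4, 90), 1), ((3, 3), 2), ((3, 68), 1), ((4, 0), 2), ((4, 11), 1), ((4, 12), 2), ((4, 40), 1), ((4, 55), 2), ((4, 105), 2), ((4, 106), 1), ((4, 119), 1), ((4, 7), 2), ((4, 58), 1), ((4, 69), 1), ((3, 5), 1), ((3, 7), 1), ((3, 8), 2), ((3, 16), 2), ((3, 19), 1), ((3, 30), 2), ((3, 42),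 2), ((4, 1), 1), ((4, 26), 2), ((4, 42), 1), ((4, 56), 2), ((4, 72), 2), ((4, 74), 2), ((4, 80), 1), ((4, 88), 1), ((4, 99), 2), ((4, 103), 1), ((4, 104), 2), ((4, 108), 2), ((4, 116), 2), ((4, 6), 1), ((4, 18), 2), ((4, 35), 1), ((4, 60), 1), ((4, 102), 1), ((4, 2), 1), ((4, 3), 2), ((4, 4), 2), ((4, 10), 1)],
  [((0, 1), 2), ((0, 2), 1), ((0, 4), 2), ((0, 5), 1), ((0, 10), 2), ((0, 22), 2), ((0, 42), 2), ((0, 75), 2), ((0, 101), 2), ((1, 54), 1), ((2, 92), 2), ((1, 4), 1), ((1, 6), 1), ((1, 10), 2), ((1, 12), 2), ((1, 14), 2), ((1, 18), 1), ((1, 20), 2), ((1, 28), 1), ((1, 48), 1), ((1, 56), 2), ((1, 59), 2), ((1, 63), 1), ((2, 0), 1), ((2, 7), 1), ((2, 11), 1), ((2, 13), 1), ((2, 15), 2), ((2, 23), 2), ((2, 27), 1), ((2, 31), 1), ((2, 38), 2), ((3, 55), 2), ((3, 92), 1), ((3, 11), 1), ((3, 51), 1), ((3, 71), 1), ((3, 43), 1),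 ((3, 52), 1), ((3, 74), 1), ((4, 9), 1), ((4, 37), 2), ((4, 78), 1), ((4, 95), 2), ((3, 3), 2), ((3, 68), 1), ((4, 0), 1), ((4, 12), 1), ((4, 29), 1), ((4, 38), 2), ((4, 40), 2), ((4, 49), 2), ((4, 105), 2), ((4, 106), 1), ((4, 119), 2), ((4, 48), 2), ((4, 58), 1), ((4, 69), 1), ((4, 82), 1), ((3, 1), 1), ((3, 7), 1), ((3, 16), 2), ((3, 19), 1), ((3, 21), 1), ((3, 29), 2), ((3, 30), 2), ((3, 39), 1), ((3, 42), 1), ((4, 1), 2), ((4, 26), 2), ((4, 42), 2), ((4, 56), 2), ((4, 74), 1), ((4, 80), 1), ((4, 88), 2), ((4, 89), 2), ((4, 99), 1), ((4, 103), 1), ((4, 104), 1), ((4, 116), 2), ((4, 6), 1), ((4, 18), 2), ((4, 35), 2), ((4, 68), 2), ((4, 113), 1), ((4, 3), 2)],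
  [((0, 4), 2), ((0, 10), 2), ((0, 22), 2), ((0, 42), 2), ((0, 75), 2), ((0, 102), 2), ((2, 1), 1)],
  [((0, 118), 1)],
  [((0, 1), 1), ((0, 2), 2), ((0, 4), 1), ((0, 5), 2), ((0, 10), 1), ((0, 11), 2), ((0, 22), 1), ((0, 23), 2), ((0, 42), 1), ((0, 44), 2), ((0, 75), 1), ((0, 78), 2), ((0, 101), 1), ((0, 104), 2), ((1, 54), 2), ((2, 92), 2), ((1, 0), 2), ((1, 4), 1), ((1, 8), 1), ((1, 10), 1), ((1, 12), 1), ((1, 16), 2), ((1, 20), 2), ((1, 28), 2), ((1, 48), 2), ((1, 56), 1), ((1, 63), 2), ((1, 76), 1), ((2, 0), 1), ((2, 13), 1), ((2, 15), 1), ((2, 23), 2), ((2, 27), 1), ((2, 29), 1), ((2, 38), 2), ((2, 60), 2), ((2, 82), 1), ((3, 23), 2), ((3, 55), 1), ((3, 103), 1), ((3, 116), 2), ((3, 92), 2), ((3, 20), 1), ((3, 11), 1), ((3, 51), 2), ((3, 71), 1), ((3, 73), 1), ((3, 52), 1), ((3, 69), 2), ((3, 74), 2), ((4, 8), 1), ((4, 9),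 2), ((4, 37), 2), ((4, 75), 2), ((4, 78), 1), ((4, 92), 1), ((4, 90), 2), ((3, 3), 2), ((3, 68), 2), ((4, 0), 1), ((4, 11), 1), ((4, 29), 2), ((4, 40), 2), ((4, 49), 1), ((4, 55), 2), ((4, 101), 2), ((4, 105), 2), ((4, 106), 1), ((4, 119), 1), ((4, 7), 2), ((4, 31), 2), ((4, 48), 2), ((4, 58), 2), ((4, 69), 2), ((4, 82), 1), ((3, 1), 2), ((3, 5), 1), ((3, 19), 2), ((3, 29), 2), ((4, 26), 1), ((4, 42), 1), ((4, 72), 1), ((4, 74), 1), ((4, 80), 2), ((4, 88), 2), ((4, 89), 1), ((4, 103), 2), ((4, 116), 2), ((4, 35), 2), ((4, 60), 2), ((4, 2), 2), ((4, 4), 1)],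
  [((0, 1), 1), ((0, 2), 2), ((0, 3), 1), ((0, 5), 2), ((0, 8), 1), ((0, 11), 2), ((0, 17), 1), ((0, 24), 2), ((0, 35), 1), ((0, 45), 2), ((0, 64), 1), ((0, 79), 2), ((0, 96), 1), ((0, 105), 2), ((0, 113), 1), ((1, 54), 2), ((2, 92), 1), ((1, 0), 1), ((1, 4), 2), ((1, 6), 1), ((1, 12), 2), ((1, 14), 2), ((1, 20), 1), ((1, 28), 2), ((1, 48), 1), ((1, 56), 2), ((1, 59), 2), ((1, 63), 1), ((2, 0), 2), ((2, 1), 2), ((2, 3), 1), ((2, 5), 1), ((2, 7), 1), ((2, 13), 2), ((2, 15), 2), ((2, 23), 2), ((2, 27), 2), ((2, 29), 2), ((2, 31), 1), ((2, 38), 2), ((2, 60), 2), ((2, 77), 1), ((2, 82), 2), ((3, 55), 1), ((3, 92), 2), ((3, 11), 2), ((3, 51), 1), ((3, 43), 1), ((3, 52), 1), ((4, 8), 2), ((4, 9), 1), ((4, 37), 2), ((4, 51), 1), ((4, 75), 1), ((4, 95), 1), ((4, 90), 2), ((3, 3), 2), ((3, 4), 2), ((3, 68), 1), ((4, 0), 1), ((4, 5), 2),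 ((4, 29), 2), ((4, 38), 1), ((4, 40), 2), ((4, 55), 1), ((4, 101), 2), ((4, 105), 1), ((4, 119), 2), ((4, 7), 2), ((4, 31), 2), ((4, 48), 2), ((4, 58), 1), ((4, 69), 2), ((3, 5), 1), ((3, 7), 1), ((3, 8), 2), ((3, 9), 1), ((3, 16), 2), ((3, 17), 1), ((3, 19), 2), ((3, 21), 1), ((3, 29), 2), ((3, 39), 2), ((3, 42), 2), ((4, 1), 2), ((4, 26), 2), ((4, 42), 1), ((4, 72), 2), ((4, 80), 2), ((4, 88), 1), ((4, 89), 2), ((4, 99), 1), ((4, 103), 1), ((4, 104), 2), ((4, 6), 1), ((4, 18), 1), ((4, 35), 2), ((4, 68), 2), ((4, 102), 1), ((4, 113), 2), ((4, 2), 1), ((4, 3), 2), ((4, 10), 2)],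
  [((0, 1), 1), ((0, 2), 2), ((0, 4), 1), ((0, 5), 2), ((0, 10), 1), ((0, 12), 2), ((0, 21), 1), ((0, 25), 2), ((0, 41), 1), ((0, 47), 2), ((0, 74), 1), ((0, 82), 2), ((0, 100), 1), ((0, 106), 2), ((1, 0), 2), ((1, 2), 2), ((1, 6), 2), ((1, 8), 2), ((1, 10), 2), ((1, 12), 2), ((1, 14), 2), ((1, 16), 1), ((1, 18), 2), ((1, 28), 1), ((1, 48), 1), ((1, 59), 2), ((1, 63), 1), ((2, 0), 1), ((2, 1), 1), ((2, 3), 2), ((2, 5), 1), ((2, 9), 1), ((2, 11), 2), ((2, 15), 1), ((2, 29), 2), ((2, 31), 1), ((2, 60), 2), ((2, 77), 1), ((3, 23), 1), ((3, 103), 2), ((3, 116), 1), ((3, 92), 1), ((3, 11), 1), ((3, 71), 1), ((3, 73), 2), ((3, 43), 1), ((3, 52), 2), ((3, 69), 1), ((3, 74), 1), ((4, 8), 1), ((4, 9), 2), ((4, 37), 2), ((4, 51), 1), ((4, 75), 2), ((3, 3), 1), ((4, 0), 2), ((4, 5), 1), ((4, 29), 1), ((4, 38), 1), ((4, 49), 1), ((4, 101),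 2), ((4, 105), 2), ((4, 119), 2), ((4, 7), 2), ((4, 43), 1), ((4, 48), 1), ((4, 58), 2), ((4, 69), 1), ((4, 82), 2), ((3, 8), 2), ((3, 9), 2), ((3, 16), 1), ((3, 17), 1), ((3, 21), 2), ((3, 29), 1), ((3, 30), 2), ((3, 39), 2), ((3, 42), 2), ((4, 1), 2), ((4, 26), 2), ((4, 42), 1), ((4, 54), 2), ((4, 56), 2), ((4, 80), 1), ((4, 89), 2), ((4, 99), 2), ((4, 104), 2), ((4, 116), 1), ((4, 6), 2), ((4, 68), 1), ((4, 102), 1), ((4, 113), 2), ((4, 3), 2)],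
  [((0, 1), 1), ((0, 2), 2), ((0, 4), 1), ((0, 6), 2), ((0, 10), 1), ((0, 13), 2), ((0, 22), 1), ((0, 27), 2), ((0, 42), 1), ((0, 51), 2), ((0, 75), 1), ((0, 84), 2), ((0, 102), 1), ((0, 107), 2), ((0, 117), 1), ((1, 54), 2), ((2, 92), 1), ((1, 0), 1), ((1, 4), 1), ((1, 6), 2), ((1, 12), 1), ((1, 14), 1), ((1, 18), 1), ((1, 20), 2), ((1, 76), 2), ((2, 0), 2), ((2, 1), 1), ((2, 3), 1), ((2, 5), 1), ((2, 7), 2), ((2, 9), 2), ((2, 13), 1), ((2, 15), 1), ((2, 23), 1), ((2, 27), 1), ((2, 29), 2), ((2, 31), 1), ((2, 38), 1), ((2, 60), 2), ((3, 23), 2), ((3, 55), 1), ((3, 103), 2), ((3, 92), 1), ((3, 20), 2), ((3, 71), 1), ((3, 73), 1), ((3, 43), 2), ((3, 52), 2), ((4, 8), 2), ((4, 37), 1), ((4, 44), 1), ((4, 75), 2), ((4, 90), 1), ((3, 3), 2), ((3, 68), 2), ((4, 5), 1), ((4, 11), 1), ((4, 29), 2), ((4, 38), 1), ((4, 40), 1), ((4, 49),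 1), ((4, 101), 2), ((4, 106), 1), ((4, 119), 1), ((4, 7), 1), ((4, 43), 2), ((4, 48), 2), ((4, 58), 1), ((4, 82), 1), ((3, 5), 2), ((3, 7), 2), ((3, 9), 2), ((3, 15), 2), ((3, 16), 2), ((3, 17), 1), ((3, 19), 2), ((3, 29), 2), ((3, 30), 1), ((3, 42), 2), ((4, 1), 1), ((4, 26), 2), ((4, 42), 1), ((4, 54), 1), ((4, 56), 1), ((4, 72), 1), ((4, 74), 2), ((4, 80), 1), ((4, 88), 2), ((4, 99), 2), ((4, 104), 2), ((4, 108), 2), ((4, 116), 2), ((4, 6), 2), ((4, 18), 2), ((4, 60), 1), ((4, 102), 1), ((4, 2), 2), ((4, 3), 2), ((4, 10), 2)],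
  [((0, 1), 1), ((0, 2), 2), ((0, 4), 1), ((0, 6), 2), ((0, 10), 1), ((0, 13), 2), ((0, 21), 1), ((0, 28), 2), ((0, 41), 1), ((0, 53), 2), ((0, 73), 1), ((0, 85), 2), ((0, 108), 2), ((1, 54), 2), ((2, 92), 2), ((1, 2), 2), ((1, 4), 1), ((1, 6), 2), ((1, 8), 2), ((1, 10), 2), ((1, 12), 1), ((1, 14), 2), ((1, 28), 2), ((1, 56), 1), ((1, 59), 2), ((1, 63), 2), ((1, 76), 1), ((2, 0), 1), ((2, 1), 2), ((2, 3), 2), ((2, 7), 2), ((2, 11), 2), ((2, 13), 2), ((2, 15), 2), ((2, 23), 1), ((2, 29), 1), ((2, 38), 2), ((2, 60), 1), ((2, 77), 2), ((3, 103), 2), ((3, 92), 1), ((3, 20), 1), ((3, 11), 2), ((3, 51), 1), ((3, 43), 1), ((3, 69), 2), ((3, 74), 1), ((4, 8), 2), ((4, 51), 1), ((4, 78), 2), ((4, 92), 2), ((4, 95), 1), ((4, 90), 2), ((3, 3), 2), ((3, 4), 2), ((3, 68), 2), ((4, 0), 2), ((4, 5), 2), ((4, 29), 2), ((4, 38), 1), ((4, 49), 2),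 ((4, 105), 1), ((4, 106), 1), ((4, 119), 1), ((4, 7), 1), ((4, 69), 1), ((4, 82), 1), ((3, 5), 1), ((3, 8), 2), ((3, 9), 2), ((3, 17), 1), ((3, 19), 2), ((3, 21), 2), ((3, 29), 2), ((3, 30), 1), ((3, 39), 1), ((3, 42), 2), ((4, 26), 2), ((4, 54), 2), ((4, 56), 2), ((4, 74), 1), ((4, 88), 2), ((4, 89), 2), ((4, 103), 2), ((4, 104), 2), ((4, 108), 1), ((4, 18), 1), ((4, 35), 1), ((4, 102), 1), ((4, 4), 1)],
  [((0, 1), 1), ((0, 2), 2), ((0, 4), 1), ((0, 6), 2), ((0, 10), 1), ((0, 13), 2), ((0, 22), 1), ((0, 28), 2), ((0, 42), 1), ((0, 54), 2), ((0, 75), 1), ((0, 86), 2), ((0, 101), 1), ((0, 109), 2), ((0, 116), 1), ((1, 54), 1), ((2, 92), 2), ((1, 0), 1), ((1, 2), 2), ((1, 12), 1), ((1, 14), 1), ((1, 16), 1), ((1, 20), 1), ((1, 28), 2), ((1, 48), 1), ((1, 56), 1), ((1, 59), 1), ((1, 63), 1), ((1, 76), 2), ((2, 1), 2), ((2, 5), 2),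 ((2, 7), 2), ((2, 9), 2), ((2, 11), 2), ((2, 13), 1), ((2, 15), 1), ((2, 23), 1), ((2, 27), 1), ((2, 29), 2), ((2, 31), 2), ((2, 38), 1), ((2, 60), 1), ((2, 77), 1), ((3, 23), 2), ((3, 103), 2), ((3, 116), 1), ((3, 20), 2), ((3, 11), 2), ((3, 51), 2), ((3, 71), 2), ((3, 73), 1), ((3, 43), 2), ((3, 52), 2), ((3, 69), 2), ((4, 9), 2), ((4, 75), 1), ((4, 78), 1), ((4, 90), 1), ((3, 3), 2), ((3, 4), 2), ((3, 68), 2), ((4, 0), 2), ((4, 12), 1), ((4, 29), 2), ((4, 38), 1), ((4, 40), 1), ((4, 49), 1), ((4, 105), 2), ((4, 119), 1), ((4, 7), 1), ((4, 31), 1), ((4, 69), 1), ((4, 82), 1), ((3, 5), 2), ((3, 7), 1), ((3, 8), 1), ((3, 9), 2), ((3, 17), 1), ((4, 1), 2), ((4, 42), 2), ((4, 56), 1), ((4, 72), 2), ((4, 74), 2), ((4, 80), 2), ((4, 88), 1), ((4, 89), 1), ((4, 103), 2), ((4, 104), 2), ((4, 108), 1), ((4, 6), 1), ((4, 60), 1), ((4, 68),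 1), ((4, 102), 2), ((4, 3), 2), ((4, 4), 2), ((4, 10), 1)],
  [((0, 5), 1), ((0, 6), 2), ((0, 11), 1), ((0, 14), 2), ((0, 23), 1), ((0, 29), 2), ((0, 43), 1), ((0, 55), 2), ((0, 76), 1), ((0, 87), 2), ((0, 103), 1), ((0, 110), 2), ((1, 54), 2), ((1, 0), 2), ((1, 2), 2), ((1, 4), 2), ((1, 8), 2), ((1, 12), 1), ((1, 14), 1), ((1, 16), 1), ((1, 18), 2), ((1, 20), 1), ((1, 48), 2), ((1, 56), 1), ((1, 59), 2), ((1, 63), 1), ((2, 0), 2), ((2, 1), 1), ((2, 5), 2), ((2, 7), 1), ((2, 11), 2), ((2, 13), 1), ((2, 23), 1), ((2, 27), 1), ((2, 38), 1), ((3, 23), 1), ((3, 55), 2), ((3, 92), 1), ((3, 20), 2), ((3, 51), 2), ((3, 43), 2), ((3, 52), 1), ((3, 74), 2), ((4, 9), 2), ((4, 44), 2), ((4, 51), 1), ((4, 78), 1), ((3, 4), 2), ((3, 68), 1), ((4, 0), 2), ((4, 5), 1), ((4, 11), 2), ((4, 12), 1), ((4, 29), 2), ((4, 40), 2), ((4, 49), 1), ((4,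 55), 2), ((4, 101), 2), ((4, 105), 1), ((4, 106), 1), ((4, 7), 2), ((4, 31), 2), ((4, 58), 2), ((4, 69), 2), ((4, 82), 2), ((3, 5), 2), ((3, 7), 2), ((3, 8), 2), ((3, 15), 2), ((3, 17), 1), ((3, 19), 2), ((3, 30), 1), ((3, 42), 2), ((4, 42), 2), ((4, 54), 2), ((4, 56), 2), ((4, 72), 1), ((4, 74), 2), ((4, 88), 1), ((4, 104), 1), ((4, 108), 1), ((4, 116), 1), ((4, 6), 2), ((4, 18), 1), ((4, 35), 1), ((4, 68), 2), ((4, 102), 1), ((4, 113), 2), ((4, 2), 2), ((4, 3), 2), ((4, 4), 1)],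
  [((0, 1), 1), ((0, 2), 2), ((0, 4), 1), ((0, 6), 2), ((0, 10), 1), ((0, 14), 2), ((0, 21), 1), ((0, 29), 2), ((0, 41), 1), ((0, 55), 2), ((0, 73), 1), ((0, 88), 2), ((0, 99), 1), ((0, 111), 2), ((0, 115), 1), ((1, 54), 2), ((1, 4), 2), ((1, 6), 1), ((1, 8), 1), ((1, 14), 1), ((1, 18), 1), ((1, 28), 1), ((1, 48), 2), ((1, 76), 1), ((2, 0), 1), ((2, 1), 2), ((2, 3), 2), ((2, 7), 2), ((2, 15), 2), ((2, 23), 1), ((2, 29), 2), ((2, 38), 2), ((2, 77), 1), ((3, 23), 2), ((3, 55), 1), ((3, 116), 1), ((3, 20), 2), ((3, 11), 2), ((3, 51), 2), ((3, 71), 1), ((3, 73), 1), ((3, 43), 2), ((3, 52), 1), ((4, 8), 1), ((4, 9), 1), ((4, 44), 1), ((4, 51), 1), ((4, 78), 1), ((4, 92), 2), ((4, 95), 2), ((4, 90), 1), ((3, 3), 2), ((3, 4), 1), ((3, 68), 2), ((4, 38), 2), ((4, 40), 1), ((4, 49), 2), ((4, 55), 1), ((4, 119), 2), ((4, 31), 1), ((4, 43),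 1), ((4, 58), 2), ((3, 1), 1), ((3, 7), 1), ((3, 9), 1), ((3, 15), 2), ((3, 16), 1), ((3, 19), 1), ((3, 21), 2), ((3, 39), 2), ((3, 42), 2), ((4, 42), 2), ((4, 54), 1), ((4, 56), 1), ((4, 74), 1), ((4, 88), 2), ((4, 89), 2), ((4, 99), 1), ((4, 103), 2), ((4, 104), 1), ((4, 108), 2), ((4, 116), 1), ((4, 35), 2), ((4, 68), 1), ((4, 102), 1), ((4, 2), 1), ((4, 10), 2)],
  [((0, 5), 1), ((0, 6), 2), ((0, 12), 1), ((0, 14), 2), ((0, 25), 1), ((0, 29), 2), ((0, 47), 1), ((0, 56), 2), ((0, 82), 1), ((0, 89), 2), ((0, 106), 1), ((0, 112), 2), ((2, 92), 1), ((1, 0), 2), ((1, 2), 1), ((1, 6), 2), ((1, 10), 1), ((1, 16), 2), ((1, 18), 2), ((1, 20), 1), ((1, 28), 1), ((1, 48), 1), ((1, 56), 2), ((1, 59), 1), ((1, 76), 2), ((2, 3), 1), ((2, 5), 2), ((2, 7), 2), ((2, 13), 1), ((2, 15), 1), ((2, 23), 2), ((2, 27), 1), ((2, 29), 1), ((2, 77), 2),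 ((2, 82), 2), ((3, 23), 2), ((3, 55), 1), ((3, 103), 2), ((3, 116), 1), ((3, 92), 2), ((3, 20), 1), ((3, 11), 1), ((3, 51), 1), ((3, 71), 1), ((3, 73), 1), ((3, 52), 1), ((3, 69), 2), ((3, 74), 1), ((4, 8), 1), ((4, 9), 2), ((4, 37), 2), ((4, 44), 2), ((4, 51), 2), ((4, 75), 1), ((4, 78), 2), ((4, 95), 2), ((4, 90), 1), ((3, 3), 2), ((3, 68), 2), ((4, 12), 2), ((4, 29), 2), ((4, 38), 1), ((4, 49), 1), ((4, 55), 1), ((4, 101), 2), ((4, 105), 2), ((4, 106), 2), ((4, 119), 1), ((4, 7), 2), ((4, 48), 2), ((4, 58), 2), ((4, 69), 2), ((3, 8), 2), ((3, 16), 2), ((3, 19), 2), ((3, 21), 1), ((3, 42), 2), ((4, 1), 1), ((4, 26), 2), ((4, 72), 1), ((4, 74), 1), ((4, 88), 1), ((4, 99), 1), ((4, 103), 2), ((4, 108), 1), ((4, 116), 2), ((4, 35), 1), ((4, 60), 2), ((4, 68), 1), ((4, 102), 2), ((4, 113), 2), ((4, 2), 1), ((4, 3), 1), ((4, 10), 1)],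
  [((0, 7), 1), ((0, 8), 2), ((0, 16), 1), ((0, 17), 2), ((0, 34), 1), ((0, 35), 2), ((0, 62), 1), ((0, 64), 2), ((0, 96), 2), ((0, 113), 2), ((2, 92), 1), ((1, 0), 2), ((1, 4), 1), ((1, 6), 1), ((1, 12), 1), ((1, 14), 1), ((1, 16), 2), ((1, 18), 2), ((1, 20), 1), ((1, 28), 2), ((1, 48), 1), ((1, 63), 1), ((1, 76), 2), ((2, 0), 1), ((2, 1), 2), ((2, 3), 1), ((2, 5), 2), ((2, 9), 1), ((2, 11), 2), ((2, 13), 1), ((2, 15), 1), ((2, 27), 1), ((2, 29), 1), ((2, 31), 1), ((2, 60), 1), ((3, 23), 2), ((3, 55), 1), ((3, 103), 2), ((3, 116), 1), ((3, 20), 1), ((3, 11), 1), ((3, 51), 2), ((3, 71), 2), ((3, 73), 1), ((3, 43), 2), ((3, 74), 2), ((4, 8), 2), ((4, 37), 1), ((4, 44), 2), ((4, 75), 1), ((4, 78), 2), ((4, 92), 1), ((3, 4), 1), ((3, 68), 1), ((4, 11), 1), ((4, 49), 1), ((4, 101), 1), ((4, 105), 2), ((4, 106), 1), ((4, 119), 1), ((4,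 7), 1), ((4, 31), 2), ((4, 43), 2), ((4, 48), 2), ((4, 58), 1), ((4, 69), 2), ((4, 82), 2), ((3, 1), 2), ((3, 5), 2), ((3, 16), 1), ((3, 17), 2), ((3, 19), 2), ((3, 21), 2), ((3, 30), 2), ((3, 39), 1), ((4, 1), 1), ((4, 42), 1), ((4, 54), 1), ((4, 72), 1), ((4, 74), 1), ((4, 80), 1), ((4, 88), 2), ((4, 89), 2), ((4, 99), 2), ((4, 103), 1), ((4, 104), 2), ((4, 18), 1), ((4, 35), 2), ((4, 60), 1), ((4, 68), 1), ((4, 102), 2), ((4, 3), 2), ((4, 10), 2)],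
  [((0, 1), 2), ((0, 2), 1), ((0, 3), 2), ((0, 5), 1), ((0, 8), 2), ((0, 12), 1), ((0, 17), 2), ((0, 25), 1), ((0, 36), 2), ((0, 47), 1), ((0, 66), 2), ((0, 82), 1), ((0, 97), 2), ((0, 114), 2), ((1, 54), 1), ((2, 92), 2), ((1, 8), 1), ((1, 10), 1), ((1, 12), 2), ((1, 14), 2), ((1, 16), 1), ((1, 18), 2), ((1, 20), 2), ((1, 28), 1), ((1, 56), 2), ((1, 59), 1), ((1, 63), 1), ((1, 76), 2), ((2, 0), 1), ((2, 3), 1), ((2, 5), 1), ((2, 11), 2), ((2, 13), 2), ((2, 38), 2), ((2, 77), 2), ((2, 82), 1), ((3, 23), 2), ((3, 103), 1), ((3, 116), 1), ((3, 92), 2), ((3, 20), 2), ((3, 51), 1), ((3, 71), 1), ((3, 73), 1), ((3, 52), 1), ((3, 69), 1), ((3, 74), 2), ((4, 8), 1), ((4, 9), 2), ((4, 37), 1), ((4, 44), 2), ((4, 78), 1), ((4, 90), 1), ((3, 4), 1), ((4, 0), 2), ((4, 5), 2), ((4, 11), 1), ((4, 12), 1), ((4, 49), 1), ((4, 55), 2), ((4, 101),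 2), ((4, 105), 2), ((4, 119), 2), ((4, 7), 2), ((4, 48), 1), ((4, 69), 1), ((4, 82), 2), ((3, 1), 2), ((3, 8), 1), ((3, 16), 1), ((3, 19), 2), ((3, 21), 1), ((3, 30), 2), ((3, 42), 2), ((4, 1), 1), ((4, 26), 1), ((4, 42), 2), ((4, 54), 2), ((4, 56), 1), ((4, 72), 2), ((4, 74), 1), ((4, 80), 2), ((4, 103), 2), ((4, 104), 1), ((4, 108), 1), ((4, 116), 2), ((4, 6), 2), ((4, 18), 1), ((4, 68), 2), ((4, 102), 2), ((4, 113), 2), ((4, 2), 2), ((4, 4), 1), ((4, 10), 1)],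
  [((0, 1), 2), ((0, 2), 1), ((0, 4), 2), ((0, 6), 1), ((0, 10), 2), ((0, 14), 1), ((0, 21), 2), ((0, 29), 1), ((0, 41), 2), ((0, 55), 1), ((0, 73), 2), ((0, 87), 1), ((0, 99), 2), ((0, 110), 1), ((0, 115), 2), ((0, 119), 1), ((1, 54), 1), ((2, 92), 2), ((1, 0), 2), ((1, 2), 1), ((1, 4), 1), ((1, 6), 1), ((1, 8), 2), ((1, 10), 2), ((1, 16), 1), ((1, 18), 1), ((1, 20), 1), ((1, 28), 1), ((1, 48), 1), ((1, 56), 2), ((1, 59), 1), ((1, 63), 1), ((1, 76), 1), ((2, 0), 2), ((2, 3), 1), ((2, 7), 1), ((2, 11), 1), ((2, 13), 2), ((2, 27), 2), ((2, 29), 1), ((2, 31), 1), ((2, 77), 2), ((2, 82), 2), ((3, 23), 2), ((3, 55), 1), ((3, 116), 1), ((3, 20), 1), ((3, 51), 2), ((3, 71), 1), ((3, 73), 2), ((3, 52), 2), ((3, 74), 1), ((4, 8), 1), ((4, 37), 1), ((4, 51), 2), ((4, 78), 2), ((4, 92), 1), ((3, 3), 2), ((4, 0), 1), ((4, 11), 1), ((4, 29),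 2), ((4, 38), 2), ((4, 49), 1), ((4, 55), 2), ((4, 106), 1), ((4, 119), 2), ((4, 7), 2), ((4, 43), 2), ((4, 58), 2), ((4, 69), 2), ((4, 82), 1), ((3, 5), 1), ((3, 8), 1), ((3, 16), 1), ((3, 17), 1), ((3, 21), 1), ((3, 39), 1), ((4, 26), 1), ((4, 54), 1), ((4, 56), 1), ((4, 74), 1), ((4, 80), 2), ((4, 99), 1), ((4, 103), 1), ((4, 108), 2), ((4, 116), 2), ((4, 6), 1), ((4, 18), 1), ((4, 35), 1), ((4, 60), 2), ((4, 102), 2), ((4, 113), 2), ((4, 3), 2), ((4, 4), 2), ((4, 10), 1)],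
  [((0, 1), 2), ((0, 2), 1), ((0, 4), 2), ((0, 5), 1), ((0, 10), 2), ((0, 11), 1), ((0, 22), 2), ((0, 24), 1), ((0, 42), 2), ((0, 45), 1), ((0, 75), 2), ((0, 101), 2), ((0, 116), 2), ((1, 54), 2), ((1, 0), 2), ((1, 2), 1), ((1, 4), 1), ((1, 10), 1), ((1, 12), 1), ((1, 14), 1), ((1, 16), 2), ((1, 20), 2), ((1, 56), 1), ((1, 59), 1), ((2, 1), 1), ((2, 5), 2), ((2, 7), 2), ((2, 9), 1), ((2, 11), 2), ((2, 13), 1), ((2, 15), 1), ((2, 23), 1), ((2, 27), 1), ((2, 29), 2), ((2, 31), 1), ((2, 38), 2), ((2, 82), 2), ((3, 55), 2), ((3, 103), 1), ((3, 20), 1), ((3, 11), 1), ((3, 51), 1), ((3, 73), 1), ((3, 43), 1), ((3, 74), 2), ((4, 8), 1), ((4, 9), 2), ((4, 75), 1), ((4, 78), 1), ((4, 95), 1), ((3, 68), 2), ((4, 0), 2), ((4, 5), 1), ((4, 29), 1), ((4, 38), 2), ((4, 101), 2), ((4, 106), 1), ((4, 7), 1), ((4, 31), 1), ((4, 69), 1), ((4, 82),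 2), ((3, 8), 1), ((3, 15), 2), ((3, 16), 2), ((3, 17), 1), ((3, 19), 2), ((3, 21), 1), ((3, 29), 1), ((3, 30), 2), ((4, 1), 1), ((4, 42), 1), ((4, 54), 2), ((4, 56), 1), ((4, 74), 2), ((4, 80), 2), ((4, 88), 2), ((4, 89), 2), ((4, 99), 1), ((4, 103), 2), ((4, 104), 2), ((4, 108), 1), ((4, 116), 1), ((4, 35), 1), ((4, 68), 1), ((4, 102), 2), ((4, 113), 2), ((4, 3), 1), ((4, 4), 2), ((4, 10), 2)],
  [((0, 9), 1), ((0, 10), 2), ((0, 22), 2), ((0, 42), 2), ((0, 75), 2), ((0, 102), 2), ((0, 117), 2), ((1, 54), 2), ((1, 0), 2), ((1, 8), 2), ((1, 10), 1), ((1, 12), 1), ((1, 14), 1), ((1, 16), 2), ((1, 18), 1), ((1, 20), 1), ((1, 28), 1), ((1, 48), 1), ((1, 59), 1), ((1, 63), 2), ((2, 0), 2), ((2, 1), 2), ((2, 3), 1), ((2, 5), 1), ((2, 7), 2), ((2, 9), 1), ((2, 11), 1), ((2, 15), 1), ((2, 23), 1), ((2, 27), 2), ((2, 29), 1), ((2, 60), 1),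 ((2, 77), 1), ((2, 82), 1), ((3, 23), 2), ((3, 55), 2), ((3, 116), 1), ((3, 20), 1), ((3, 11), 1), ((3, 51), 2), ((3, 71), 1), ((3, 43), 1), ((3, 52), 2), ((3, 69), 1), ((3, 74), 1), ((4, 8), 1), ((4, 9), 1), ((4, 37), 1), ((4, 75), 1), ((4, 78), 2), ((4, 92), 2), ((4, 95), 2), ((4, 90), 2), ((3, 3), 1), ((3, 68), 2), ((4, 0), 2), ((4, 5), 2), ((4, 12), 1), ((4, 29), 1), ((4, 38), 2), ((4, 40), 1), ((4, 55), 1), ((4, 101), 2), ((4, 119), 2), ((4, 7), 2), ((4, 31), 2), ((4, 43), 2), ((4, 48), 2), ((4, 69), 2), ((3, 1), 1), ((3, 7), 1), ((3, 8), 1), ((3, 9), 2), ((3, 15), 2), ((3, 17), 1), ((3, 19), 1), ((3, 21), 2), ((3, 30), 2), ((3, 39), 1), ((3, 42), 1), ((4, 1), 2), ((4, 54), 1), ((4, 72), 1), ((4, 74), 1), ((4, 80), 2), ((4, 88), 2), ((4, 89), 2), ((4, 99), 1), ((4, 103), 1), ((4, 108), 1), ((4, 18), 1), ((4, 68), 1), ((4, 102),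 1), ((4, 2), 2), ((4, 4), 2)],
  [((0, 1), 1), ((0, 2), 2), ((0, 3), 1), ((0, 5), 2), ((0, 8), 1), ((0, 11), 2), ((0, 17), 1), ((0, 23), 2), ((0, 36), 1), ((0, 43), 2), ((0, 66), 1), ((0, 76), 2), ((0, 97), 1), ((0, 103), 2), ((0, 118), 2), ((2, 92), 1), ((1, 10), 1), ((1, 12), 1), ((1, 14), 2), ((1, 16), 1), ((1, 18), 2), ((1, 28), 1), ((1, 48), 2), ((1, 56), 2), ((1, 63), 2), ((1, 76), 1), ((2, 3), 1), ((2, 5), 1), ((2, 7), 2), ((2, 9), 1), ((2, 11), 1), ((2, 13), 2), ((2, 23), 2), ((2, 27), 1), ((2, 29), 2), ((2, 31), 2), ((2, 38), 1), ((2, 77), 1), ((2, 82), 2), ((3, 23), 1), ((3, 55), 1), ((3, 116), 2), ((3, 92), 2), ((3, 11), 2), ((3, 43), 2), ((3, 52), 2), ((3, 69), 2), ((3, 74), 2), ((4, 8), 2), ((4, 9), 1), ((4, 37), 2), ((4, 44), 1), ((4, 75), 1), ((4, 92), 2), ((4, 95), 2), ((4, 90), 1), ((3, 3), 2), ((3, 4), 1), ((3,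 68), 2), ((4, 5), 2), ((4, 11), 2), ((4, 12), 2), ((4, 40), 1), ((4, 49), 2), ((4, 55), 2), ((4, 105), 1), ((4, 106), 2), ((4, 7), 1), ((4, 43), 2), ((4, 48), 2), ((4, 82), 2), ((3, 5), 1), ((3, 7), 2), ((3, 8), 2), ((3, 9), 2), ((3, 19), 2), ((3, 29), 2), ((3, 39), 2), ((3, 42), 2), ((4, 26), 1), ((4, 42), 1), ((4, 54), 2), ((4, 56), 2), ((4, 74), 1), ((4, 80), 1), ((4, 89), 2), ((4, 103), 2), ((4, 60), 2), ((4, 68), 1), ((4, 102), 1), ((4, 113), 1), ((4, 2), 2), ((4, 3), 2), ((4, 4), 2), ((4, 10), 1)],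
  [((0, 1), 1), ((0, 2), 2), ((0, 3), 1), ((0, 6), 2), ((0, 8), 1), ((0, 14), 2), ((0, 17), 1), ((0, 29), 2), ((0, 36), 1), ((0, 55), 2), ((0, 66), 1), ((0, 87), 2), ((0, 110), 2), ((0, 119), 2), ((1, 54), 1), ((2, 92), 2), ((1, 0), 1), ((1, 2), 2), ((1, 6), 1), ((1, 12), 1), ((1, 16), 2), ((1, 20), 2), ((1, 28), 2), ((1, 48), 2), ((1, 59), 1), ((2, 0), 2), ((2, 1), 1), ((2, 3), 2), ((2, 11), 1), ((2, 13), 2), ((2, 15), 1), ((2, 27), 1), ((2, 29), 2), ((2, 31), 2), ((2, 77), 1), ((2, 82), 1), ((3, 103), 1), ((3, 116), 2), ((3, 92), 1), ((3, 20), 1), ((3, 11), 1), ((3, 51), 2), ((3, 73), 2), ((3, 43), 2), ((3, 52), 2), ((3, 69), 2), ((3, 74), 2), ((4, 9), 1), ((4, 44), 1), ((4, 78), 1), ((4, 92), 2), ((4, 95), 1), ((3, 3), 1), ((3, 4), 1), ((3, 68), 2), ((4, 0), 2), ((4, 12), 2), ((4, 38), 2), ((4, 106), 1), ((4, 31), 2), ((4, 43),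 1), ((4, 48), 2), ((3, 1), 1), ((3, 5), 1), ((3, 7), 2), ((3, 8), 1), ((3, 9), 2), ((3, 17), 2), ((3, 29), 1), ((3, 30), 1), ((3, 39), 1), ((3, 42), 2), ((4, 1), 2), ((4, 42), 1), ((4, 56), 1), ((4, 72), 1), ((4, 88), 1), ((4, 89), 2), ((4, 103), 1), ((4, 104), 1), ((4, 108), 1), ((4, 116), 1), ((4, 60), 2), ((4, 68), 1), ((4, 102), 2), ((4, 4), 2), ((4, 10), 2)],
  [((1, 0), 1), ((1, 2), 1), ((1, 4), 2), ((1, 6), 2), ((1, 10), 1), ((1, 12), 1), ((1, 16), 1), ((1, 18), 1), ((1, 20), 1), ((1, 28), 2), ((1, 59), 2), ((1, 76), 1), ((2, 0), 1), ((2, 1), 1), ((2, 3), 1), ((2, 5), 1), ((2, 7), 2), ((2, 9), 2), ((2, 13), 1), ((2, 15), 1), ((2, 23), 2), ((2, 29), 2), ((2, 31), 2), ((2, 38), 1), ((2, 77), 2), ((2, 82), 1), ((3, 23), 1), ((3, 103), 2), ((3, 116), 2), ((3, 92), 1), ((3, 20), 2), ((3, 11), 2), ((3, 51), 2), ((3, 71), 2), ((3,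 73), 1), ((3, 43), 1), ((3, 52), 2), ((3, 74), 1), ((4, 9), 1), ((4, 37), 2), ((4, 44), 1), ((4, 51), 1), ((4, 75), 1), ((4, 78), 2), ((4, 90), 1), ((3, 3), 2), ((3, 4), 2), ((3, 68), 1), ((4, 0), 1), ((4, 11), 1), ((4, 29), 1), ((4, 49), 2), ((4, 55), 2), ((4, 101), 2), ((4, 105), 2), ((4, 7), 1), ((4, 31), 2), ((4, 43), 2), ((4, 58), 2), ((4, 69), 1), ((4, 82), 2), ((3, 1), 2), ((3, 5), 1), ((3, 7), 1), ((3, 8), 2), ((3, 15), 1), ((3, 16), 2), ((3, 17), 2), ((3, 21), 1), ((3, 29), 1), ((3, 30), 1), ((3, 39), 2), ((3, 42), 1), ((4, 1), 1), ((4, 26), 1), ((4, 42), 1), ((4, 56), 2), ((4, 72), 1), ((4, 74), 2), ((4, 80), 1), ((4, 88), 2), ((4, 89), 1), ((4, 99), 1), ((4, 103), 1), ((4, 104), 1), ((4, 6), 2), ((4, 35), 1), ((4, 60), 2), ((4, 68), 1), ((4, 102), 2), ((4, 3), 1), ((4, 4), 1), ((4, 10), 2)],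
  [((1, 54), 1), ((2, 92), 1), ((1, 0), 2), ((1, 2), 1), ((1, 6), 2), ((1, 8), 2), ((1, 10), 2), ((1, 12), 2), ((1, 16), 2), ((1, 18), 1), ((1, 20), 1), ((1, 48), 2), ((1, 56), 1), ((1, 63), 2), ((1, 76), 2), ((2, 0), 2), ((2, 3), 1), ((2, 5), 1), ((2, 15), 2), ((2, 23), 2), ((2, 27), 1), ((2, 29), 1), ((2, 31), 1), ((2, 38), 2), ((2, 60), 1), ((2, 77), 2), ((3, 23), 1), ((3, 55), 2), ((3, 103), 1), ((3, 116), 1), ((3, 92), 2), ((3, 20), 1), ((3, 73), 2), ((3, 43), 2), ((3, 69), 2), ((3, 74), 1), ((4, 8), 2), ((4, 9), 1), ((4, 37), 2), ((4, 44), 1), ((4, 78), 2), ((4, 92), 1), ((4, 95), 2), ((4, 90), 1), ((3, 3), 2), ((3, 4), 2), ((4, 0), 2), ((4, 5), 2), ((4, 11), 1), ((4, 29), 1), ((4, 40), 2), ((4, 55), 2), ((4, 101), 1), ((4, 7), 2), ((4, 31), 1), ((4, 43), 2), ((4, 48), 2), ((4, 58), 1), ((4, 69), 1), ((4, 82), 2), ((3, 1),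 1), ((3, 9), 2), ((3, 15), 2), ((3, 16), 2), ((3, 17), 1), ((3, 30), 1), ((3, 39), 2), ((4, 1), 2), ((4, 26), 2), ((4, 42), 2), ((4, 54), 1), ((4, 56), 2), ((4, 72), 2), ((4, 74), 1), ((4, 80), 2), ((4, 88), 2), ((4, 89), 2), ((4, 99), 2), ((4, 103), 2), ((4, 104), 2), ((4, 116), 2), ((4, 6), 1), ((4, 18), 2), ((4, 35), 1), ((4, 60), 2), ((4, 68), 1), ((4, 113), 2), ((4, 2), 1), ((4, 3), 1), ((4, 4), 1), ((4, 10), 2)]]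

/-- the certificate for the prime 5 -/
def C5 : List (List ((ℕ × ℕ) × ℕ)) := [[((0, 1), 1)],
  [((0, 3), 1)],
  [((0, 5), 1)],
  [((0, 7), 1)],
  [((0, 9), 1)],
  [((0, 11), 1)],
  [((0, 13), 1)],
  [((0, 15), 1)],
  [((0, 17), 1)],
  [((0, 19), 1)],
  [((0, 21), 1)],
  [((0, 23), 1)],
  [((0, 25), 1)],
  [((0, 27), 1)],
  [((0, 29), 1)],
  [((0, 31), 1)],
  [((0, 33), 1)],
  [((0, 35), 1)],
  [((0, 37), 1)],
  [((0, 38), 1)],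
  [((0, 39), 1)],
  [((0, 41), 1)],
  [((0, 1), 4), ((0, 2), 1), ((0, 4), 4), ((0, 5), 1), ((0, 10), 4), ((0, 11), 1), ((0, 22), 4), ((0, 24), 1), ((1, 54), 1), ((2, 92), 3), ((1, 0), 4), ((1, 2), 1), ((1, 4), 1), ((1, 6), 2), ((1, 8), 2), ((1, 10), 4), ((1, 12), 3), ((1, 14), 2), ((1, 16), 2), ((1, 18), 1), ((1, 20), 2), ((1, 28), 1), ((1, 56), 4), ((1, 59), 1), ((1, 76), 4), ((2, 0), 4), ((2, 1), 3), ((2, 5), 4), ((2, 7), 2), ((2, 9), 2), ((2, 11), 3), ((2, 15), 3), ((2, 23), 1), ((2, 27), 4), ((2, 31), 3), ((2, 60), 4), ((2, 77), 1), ((2, 82), 1), ((3, 55), 4), ((3, 103), 3), ((3, 116), 1), ((3, 92), 1), ((3, 20), 2), ((3, 71), 2), ((3, 43), 4), ((3, 52), 2), ((3, 74), 4), ((4, 8), 4), ((4, 44), 4), ((4, 51), 2), ((4, 75), 3), ((4, 78), 3), ((4, 92), 1), ((4, 90), 4), ((3, 3), 3), ((3, 4), 4), ((3, 68), 2), ((4, 0), 3), ((4,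 12), 3), ((4, 38), 1), ((4, 40), 2), ((4, 55), 4), ((4, 101), 2), ((4, 106), 2), ((4, 119), 4), ((4, 7), 3), ((4, 31), 3), ((4, 43), 2), ((4, 58), 3), ((4, 69), 2), ((3, 1), 3), ((3, 5), 2), ((3, 8), 4), ((3, 9), 1), ((3, 15), 2), ((3, 16), 1), ((3, 17), 4), ((3, 19), 1), ((3, 21), 1), ((3, 29), 4), ((3, 30), 1), ((3, 39), 4), ((4, 1), 3), ((4, 26), 3), ((4, 42), 2), ((4, 54), 2), ((4, 56), 1), ((4, 72), 3), ((4, 74), 1), ((4, 80), 4), ((4, 89), 4), ((4, 99), 1), ((4, 103), 3), ((4, 104), 1), ((4, 108), 2), ((4, 116), 2), ((4, 6), 4), ((4, 35), 2), ((4, 60), 1), ((4, 102), 4), ((4, 113), 2), ((4, 2), 4), ((4, 3), 3), ((4, 4), 4), ((4, 13), 4)],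
  [((0, 43), 1)],
  [((0, 45), 1)],
  [((0, 47), 1)],
  [((0, 49), 1)],
  [((0, 51), 1)],
  [((0, 53), 1)],
  [((0, 55), 1)],
  [((0, 57), 1)],
  [((0, 58), 1)],
  [((0, 7), 4), ((0, 8), 1), ((0, 15), 4), ((0, 32), 4), ((1, 54), 2), ((2, 92), 2), ((1, 0), 3), ((1, 2), 4), ((1, 4), 4), ((1, 6), 2), ((1, 8), 2), ((1, 10), 4), ((1, 12), 1), ((1, 14), 2), ((1, 16), 3), ((1, 18), 1), ((1, 20), 1), ((1, 28), 2), ((1, 48), 3), ((1, 56), 3), ((1, 59), 2), ((2, 0), 4), ((2, 1), 3), ((2, 3), 3), ((2, 5), 4), ((2, 7), 3), ((2, 9), 2), ((2, 13), 2), ((2, 15), 3), ((2, 23), 2), ((2, 29), 2), ((2, 60), 4), ((2, 77), 4), ((2, 82), 2), ((3, 55), 1), ((3, 116), 4), ((3, 92), 2), ((3, 51), 4), ((3, 73), 4), ((3, 43), 2), ((3, 52), 2), ((4, 8), 1), ((4, 9), 4), ((4, 37), 4), ((4, 51), 2), ((4, 75), 1), ((4, 78), 2), ((3, 3), 2), ((3, 4), 1), ((4,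 0), 3), ((4, 5), 3), ((4, 11), 3), ((4, 29), 3), ((4, 38), 3), ((4, 40), 1), ((4, 49), 4), ((4, 101), 1), ((4, 105), 2), ((4, 119), 2), ((4, 7), 3), ((4, 31), 2), ((4, 43), 2), ((4, 58), 4), ((4, 69), 1), ((3, 1), 4), ((3, 5), 1), ((3, 7), 1), ((3, 8), 1), ((3, 15), 3), ((3, 17), 3), ((3, 19), 1), ((3, 21), 1), ((3, 30), 3), ((3, 39), 1), ((3, 42), 4), ((4, 1), 4), ((4, 42), 2), ((4, 56), 4), ((4, 72), 1), ((4, 80), 4), ((4, 88), 2), ((4, 89), 1), ((4, 99), 1), ((4, 103), 1), ((4, 104), 1), ((4, 108), 2), ((4, 116), 3), ((4, 18), 1), ((4, 35), 3), ((4, 60), 4), ((4, 68), 3), ((4, 113), 1), ((4, 2), 1), ((4, 3), 2), ((4, 13), 3)],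
  [((0, 60), 1)],
  [((0, 62), 1)],
  [((0, 64), 1)],
  [((0, 66), 1)],
  [((0, 68), 1)],
  [((0, 69), 1)],
  [((0, 9), 4), ((0, 10), 1), ((0, 20), 4), ((0, 22), 1), ((0, 39), 4), ((1, 54), 2), ((2, 92), 1), ((1, 0), 3), ((1, 4), 3), ((1, 6), 2), ((1, 8), 2), ((1, 10), 2), ((1, 12), 3), ((1, 14), 3), ((1, 16), 4), ((1, 18), 4), ((1, 20), 3), ((1, 28), 4), ((1, 48), 3), ((1, 56), 1), ((1, 59), 2), ((1, 63), 3), ((2, 0), 2), ((2, 1), 3), ((2, 3), 4), ((2, 5), 2), ((2, 7), 4), ((2, 9), 2), ((2, 11), 4), ((2, 13), 4), ((2, 15), 2), ((2, 27), 2), ((2, 29), 3), ((2, 31), 3), ((2, 38), 3), ((2, 60), 1), ((2, 82), 2), ((3, 55), 1), ((3, 103), 2), ((3, 116), 3), ((3, 92), 2), ((3, 11), 4), ((3, 71), 2), ((3, 73), 1), ((3, 52), 4), ((3, 69), 3), ((4, 9), 3), ((4, 44), 3), ((4, 51), 4), ((4, 75), 4), ((4, 78), 4), ((4, 92), 3), ((4, 95), 4),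 ((4, 90), 1), ((3, 3), 1), ((3, 4), 1), ((4, 0), 3), ((4, 11), 3), ((4, 12), 3), ((4, 29), 1), ((4, 38), 2), ((4, 40), 3), ((4, 55), 1), ((4, 101), 4), ((4, 105), 4), ((4, 106), 1), ((4, 119), 3), ((4, 7), 2), ((4, 31), 1), ((4, 43), 1), ((4, 48), 2), ((4, 58), 1), ((4, 69), 3), ((4, 82), 1), ((3, 1), 4), ((3, 5), 1), ((3, 7), 3), ((3, 8), 4), ((3, 15), 1), ((3, 17), 2), ((3, 19), 4), ((3, 21), 3), ((3, 29), 1), ((3, 30), 3), ((3, 39), 2), ((3, 42), 3), ((4, 1), 4), ((4, 26), 2), ((4, 42), 3), ((4, 54), 4), ((4, 72), 4), ((4, 74), 2), ((4, 89), 1), ((4, 99), 3), ((4, 104), 2), ((4, 108), 3), ((4, 35), 1), ((4, 60), 1), ((4, 68), 3), ((4, 102), 4), ((4, 2), 4), ((4, 3), 3), ((4, 4), 2), ((4, 13), 4)],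
  [((0, 72), 1)],
  [((0, 73), 1)],
  [((0, 9), 1), ((0, 10), 4), ((0, 20), 1), ((0, 22), 4), ((0, 40), 1), ((0, 42), 4), ((1, 54), 4), ((1, 0), 4), ((1, 2), 1), ((1, 6), 4), ((1, 8), 4), ((1, 10), 3), ((1, 12), 3), ((1, 14), 3), ((1, 16), 3), ((1, 18), 2), ((1, 20), 2), ((1, 28), 1), ((1, 48), 3), ((1, 56), 3), ((1, 59), 3), ((1, 63), 3), ((1, 76), 4), ((2, 0), 2), ((2, 3), 1), ((2, 9), 3), ((2, 13), 4), ((2, 15), 1), ((2, 27), 4), ((2, 31), 4), ((2, 38), 1), ((2, 60), 2), ((2, 82), 1), ((3, 23), 1), ((3, 103), 1), ((3, 116), 3), ((3, 51), 4), ((3, 71), 3), ((3, 73), 3), ((3, 43), 4), ((3, 52), 4), ((3, 74), 3), ((4, 9), 3), ((4, 37), 4), ((4, 44), 3), ((4, 51), 1), ((4, 75), 3), ((4, 78), 1), ((4, 92), 2), ((4, 95), 3), ((4, 90), 3), ((3, 4), 1), ((3, 68), 3), ((4, 5), 1), ((4, 11), 4), ((4, 12), 3), ((4, 29), 2), ((4, 38), 3),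 ((4, 40), 4), ((4, 49), 3), ((4, 55), 3), ((4, 101), 1), ((4, 106), 1), ((4, 119), 4), ((4, 7), 2), ((4, 31), 2), ((4, 58), 1), ((4, 82), 2), ((3, 5), 3), ((3, 7), 3), ((3, 8), 3), ((3, 9), 3), ((3, 16), 4), ((3, 17), 1), ((3, 29), 4), ((3, 30), 1), ((3, 39), 2), ((3, 42), 1), ((4, 26), 1), ((4, 42), 1), ((4, 54), 3), ((4, 56), 1), ((4, 72), 2), ((4, 74), 1), ((4, 80), 1), ((4, 89), 3), ((4, 99), 4), ((4, 103), 3), ((4, 104), 2), ((4, 108), 2), ((4, 116), 4), ((4, 6), 3), ((4, 18), 1), ((4, 35), 1), ((4, 60), 1), ((4, 68), 4), ((4, 102), 1), ((4, 113), 2), ((4, 2), 3), ((4, 3), 2)],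
  [((0, 43), 4), ((0, 44), 1), ((1, 54), 3), ((2, 92), 1), ((1, 0), 1), ((1, 2), 4), ((1, 4), 4), ((1, 6), 1), ((1, 8), 2), ((1, 10), 3), ((1, 12), 2), ((1, 14), 2), ((1, 16), 3), ((1, 18), 2), ((1, 20), 3), ((1, 28), 1), ((1, 48), 3), ((1, 59), 3), ((1, 76), 4), ((2, 0), 3), ((2, 1), 4), ((2, 3), 4), ((2, 5), 1), ((2, 7), 1), ((2, 9), 1), ((2, 11), 2), ((2, 13), 3), ((2, 15), 2), ((2, 23), 1), ((2, 27), 2), ((2, 29), 4), ((2, 77), 4), ((2, 82), 4), ((3, 55), 4), ((3, 103), 1), ((3, 116), 2), ((3, 92), 4), ((3, 20), 3), ((3, 11), 1), ((3, 51), 3), ((3, 71), 4), ((3, 73), 2), ((3, 43), 2), ((3, 52), 2), ((3, 74), 3), ((4, 8), 4), ((4, 9), 1), ((4, 37), 2), ((4, 44), 2), ((4, 51), 4), ((4, 92), 2), ((4, 95), 2), ((4, 90), 1), ((3, 4), 3), ((3, 68), 3), ((4, 0), 3), ((4, 12), 1), ((4, 29), 2), ((4, 40), 1), ((4, 49), 4), ((4, 101),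 4), ((4, 119), 4), ((4, 7), 4), ((4, 31), 1), ((4, 43), 1), ((4, 48), 2), ((4, 58), 1), ((4, 69), 1), ((4, 82), 1), ((3, 1), 1), ((3, 5), 3), ((3, 7), 2), ((3, 8), 3), ((3, 9), 2), ((3, 15), 1), ((3, 17), 4), ((3, 19), 3), ((3, 29), 1), ((3, 30), 2), ((3, 39), 4), ((3, 42), 2), ((4, 1), 2), ((4, 26), 1), ((4, 42), 1), ((4, 56), 3), ((4, 72), 4), ((4, 74), 4), ((4, 80), 4), ((4, 88), 3), ((4, 99), 4), ((4, 103), 4), ((4, 104), 1), ((4, 108), 1), ((4, 116), 2), ((4, 6), 1), ((4, 18), 2), ((4, 60), 2), ((4, 68), 2), ((4, 102), 1), ((4, 113), 3), ((4, 4), 1), ((4, 13), 1)],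
  [((0, 77), 1)],
  [((0, 79), 1)],
  [((0, 80), 1)],
  [((0, 82), 1)],
  [((0, 11), 1), ((0, 12), 4), ((0, 24), 1), ((0, 25), 4), ((0, 46), 1), ((0, 48), 4), ((0, 81), 1), ((2, 92), 4), ((1, 0), 1), ((1, 2), 1), ((1, 4), 1), ((1, 6), 1), ((1, 10), 4), ((1, 12), 1), ((1, 14), 2), ((1, 16), 1), ((1, 18), 3), ((1, 20), 3), ((1, 28), 2), ((1, 48), 2), ((1, 56), 4), ((1, 63), 4), ((1, 76), 3), ((2, 0), 2), ((2, 3), 1), ((2, 5), 3), ((2, 7), 3), ((2, 9), 2), ((2, 11), 2), ((2, 13), 2), ((2, 29), 2), ((2, 31), 3), ((2, 38), 2), ((2, 77), 1), ((3, 23), 4), ((3, 55), 4), ((3, 103), 3), ((3, 116), 3), ((3, 92), 1), ((3, 20), 2), ((3, 51), 3), ((3, 71), 4), ((3, 43), 3), ((3, 52), 2), ((3, 69), 2), ((3, 74), 4), ((4, 9), 1), ((4, 37), 1), ((4, 51), 3), ((4, 75), 3), ((4, 78), 1), ((4, 92), 2), ((4, 95), 2), ((3, 4), 3), ((3, 68), 3), ((4,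 0), 4), ((4, 11), 3), ((4, 12), 3), ((4, 29), 3), ((4, 40), 4), ((4, 49), 3), ((4, 55), 3), ((4, 101), 3), ((4, 105), 2), ((4, 106), 2), ((4, 119), 2), ((4, 7), 2), ((4, 31), 2), ((4, 43), 4), ((4, 48), 3), ((4, 58), 2), ((4, 69), 2), ((4, 82), 3), ((3, 1), 3), ((3, 5), 2), ((3, 7), 2), ((3, 8), 3), ((3, 9), 4), ((3, 15), 4), ((3, 16), 1), ((3, 19), 2), ((3, 21), 2), ((3, 29), 3), ((3, 30), 4), ((3, 39), 1), ((3, 42), 3), ((4, 1), 1), ((4, 26), 1), ((4, 56), 2), ((4, 72), 3), ((4, 74), 2), ((4, 80), 3), ((4, 88), 2), ((4, 89), 2), ((4, 99), 1), ((4, 103), 3), ((4, 104), 2), ((4, 108), 1), ((4, 116), 4), ((4, 35), 1), ((4, 60), 4), ((4, 68), 3), ((4, 102), 2), ((4, 113), 1), ((4, 2), 2), ((4, 3), 2), ((4, 4), 2), ((4, 13), 3)],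
  [((0, 5), 4), ((0, 6), 1), ((0, 12), 4), ((0, 26), 4), ((0, 49), 4), ((1, 54), 4), ((2, 92), 1), ((1, 0), 3), ((1, 2), 3), ((1, 4), 1), ((1, 6), 4), ((1, 8), 2), ((1, 10), 4), ((1, 12), 1), ((1, 18), 2), ((1, 20), 4), ((1, 28), 4), ((1, 48), 4), ((1, 56), 3), ((1, 59), 3), ((1, 63), 3), ((1, 76), 4), ((2, 0), 1), ((2, 1), 2), ((2, 3), 3), ((2, 5), 3), ((2, 7), 2), ((2, 9), 3), ((2, 13), 4), ((2, 15), 3), ((2, 23), 4), ((2, 27), 3), ((2, 29), 3), ((2, 31), 3), ((2, 38), 4), ((2, 77), 2), ((2, 82), 2), ((3, 55), 4), ((3, 103), 3), ((3, 116), 1), ((3, 92), 4), ((3, 20), 1), ((3, 71), 2), ((3, 73), 4), ((3, 43), 1), ((3, 69), 1), ((3, 74), 4), ((4, 37), 1), ((4, 44), 4), ((4, 51), 3), ((4, 75), 1), ((4, 78), 2), ((4, 92), 4), ((4, 95), 3), ((4, 90), 3), ((3, 3), 3), ((3, 4), 2), ((4, 0), 1), ((4, 5), 3), ((4, 11), 3), ((4, 12), 2),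 ((4, 29), 4), ((4, 38), 2), ((4, 40), 1), ((4, 49), 3), ((4, 55), 4), ((4, 105), 1), ((4, 106), 4), ((4, 7), 2), ((4, 31), 1), ((4, 43), 1), ((4, 58), 4), ((4, 82), 3), ((3, 1), 1), ((3, 5), 3), ((3, 8), 4), ((3, 9), 4), ((3, 15), 2), ((3, 16), 3), ((3, 17), 2), ((3, 19), 3), ((3, 21), 3), ((3, 30), 1), ((3, 39), 3), ((3, 42), 1), ((4, 1), 3), ((4, 72), 3), ((4, 80), 4), ((4, 89), 3), ((4, 99), 2), ((4, 104), 2), ((4, 108), 2), ((4, 116), 1), ((4, 35), 1), ((4, 68), 1), ((4, 113), 1), ((4, 2), 3), ((4, 3), 1), ((4, 13), 3)],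
  [((0, 5), 4), ((0, 6), 1), ((0, 12), 4), ((0, 14), 1), ((0, 26), 4), ((0, 50), 4), ((1, 54), 3), ((2, 92), 2), ((1, 8), 4), ((1, 12), 4), ((1, 16), 3), ((1, 18), 1), ((1, 20), 2), ((1, 48), 3), ((1, 56), 4), ((1, 59), 4), ((1, 63), 3), ((2, 0), 3), ((2, 1), 2), ((2, 3), 2), ((2, 5), 1), ((2, 7), 1), ((2, 9), 4), ((2, 11), 2), ((2, 13), 4), ((2, 15), 1), ((2, 23), 1), ((2, 27), 3), ((2, 29), 1), ((2, 31), 4), ((2, 38), 2), ((2, 60), 1), ((2, 77), 4), ((3, 23), 1), ((3, 116), 1), ((3, 92), 1), ((3, 20), 1), ((3, 71), 4), ((3, 73), 2), ((3, 52), 3), ((3, 69), 2), ((3, 74), 3), ((4, 8), 3), ((4, 9), 2), ((4, 37), 4), ((4, 51), 3), ((4, 75), 1), ((4, 78), 3), ((4, 92), 3), ((4, 95), 1), ((4, 90), 3), ((3, 3), 4), ((3, 4), 4), ((3, 68), 1), ((4, 0), 3), ((4, 5), 1), ((4, 11), 3), ((4, 12), 4), ((4, 29), 2), ((4, 38), 3), ((4, 49), 4),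 ((4, 105), 2), ((4, 119), 4), ((4, 7), 2), ((4, 31), 3), ((4, 48), 4), ((4, 69), 3), ((3, 1), 1), ((3, 5), 3), ((3, 7), 3), ((3, 8), 1), ((3, 15), 2), ((3, 16), 3), ((3, 17), 2), ((3, 29), 4), ((3, 30), 4), ((3, 39), 4), ((3, 42), 1), ((4, 1), 2), ((4, 26), 3), ((4, 42), 4), ((4, 54), 1), ((4, 72), 3), ((4, 80), 1), ((4, 88), 1), ((4, 89), 3), ((4, 99), 4), ((4, 103), 1), ((4, 104), 4), ((4, 108), 3), ((4, 116), 1), ((4, 18), 4), ((4, 35), 1), ((4, 60), 4), ((4, 102), 1), ((4, 113), 4), ((4, 2), 3), ((4, 3), 2), ((4, 13), 4)],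
  [((0, 1), 1), ((0, 2), 4), ((0, 4), 1), ((0, 6), 4), ((0, 9), 1), ((0, 13), 4), ((0, 19), 1), ((0, 27), 4), ((0, 38), 1), ((0, 51), 4), ((0, 70), 1), ((1, 54), 1), ((1, 0), 1), ((1, 2), 1), ((1, 8), 2), ((1, 10), 3), ((1, 12), 2), ((1, 14), 3), ((1, 16), 2), ((1, 20), 3), ((1, 28), 1), ((1, 48), 2), ((1, 56), 2), ((1, 59), 2), ((1, 63), 4), ((1, 76), 1), ((2, 0), 2), ((2, 1), 1), ((2, 5), 3), ((2, 7), 4), ((2, 11), 2), ((2, 13), 2), ((2, 15), 2), ((2, 27), 3), ((2, 31), 1), ((2, 38), 4), ((2, 60), 1), ((2, 77), 1), ((2, 82), 4), ((3, 23), 2), ((3, 55), 1), ((3, 116), 4), ((3, 92), 1), ((3, 11), 3), ((3, 51), 4), ((3, 71), 3), ((3, 73), 3), ((4, 8), 2), ((4, 9), 4), ((4, 44), 2), ((4, 75), 1), ((4, 95), 2), ((4, 90), 4), ((3, 4), 3), ((3, 68), 2), ((4, 5), 2), ((4, 11), 4), ((4, 12), 1), ((4, 38), 2), ((4, 40), 1), ((4, 49), 4),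 ((4, 55), 1), ((4, 101), 1), ((4, 105), 1), ((4, 106), 4), ((4, 119), 1), ((4, 7), 3), ((4, 31), 2), ((4, 48), 4), ((4, 58), 3), ((4, 69), 3), ((4, 82), 4), ((3, 1), 3), ((3, 5), 2), ((3, 7), 1), ((3, 8), 3), ((3, 9), 2), ((3, 15), 3), ((3, 16), 1), ((3, 19), 2), ((3, 29), 1), ((3, 30), 3), ((3, 42), 3), ((4, 1), 3), ((4, 26), 2), ((4, 42), 3), ((4, 56), 2), ((4, 74), 2), ((4, 80), 1), ((4, 88), 2), ((4, 89), 2), ((4, 99), 3), ((4, 103), 3), ((4, 104), 1), ((4, 6), 3), ((4, 18), 1), ((4, 35), 2), ((4, 68), 2), ((4, 102), 4), ((4, 113), 1), ((4, 2), 3), ((4, 3), 3), ((4, 4), 3), ((4, 13), 3)],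
  [((0, 1), 1), ((0, 2), 4), ((0, 4), 1), ((0, 6), 4), ((0, 10), 1), ((0, 13), 4), ((0, 27), 4), ((0, 52), 4), ((2, 92), 1), ((1, 0), 2), ((1, 2), 1), ((1, 4), 4), ((1, 6), 3), ((1, 8), 1), ((1, 10), 3), ((1, 12), 2), ((1, 14), 4), ((1, 16), 1), ((1, 20), 3), ((1, 28), 1), ((1, 48), 2), ((1, 76), 4), ((2, 1), 4), ((2, 3), 4), ((2, 5), 1), ((2, 7), 3), ((2, 9), 1), ((2, 11), 3), ((2, 13), 4), ((2, 15), 4), ((2, 23), 1), ((2, 27), 2), ((2, 29), 2), ((2, 31), 1), ((2, 38), 4), ((2, 60), 4), ((2, 77), 4), ((3, 23), 4), ((3, 55), 1), ((3, 116), 1), ((3, 92), 4), ((3, 20), 4), ((3, 11), 2), ((3, 69), 4), ((3, 74), 4), ((4, 8), 3), ((4, 9), 4), ((4, 37), 1), ((4, 44), 1), ((4, 51), 4), ((4, 75), 4), ((4, 78), 4), ((4, 92), 4), ((4, 95), 4), ((3, 3), 1), ((3, 68), 1), ((4, 0), 2), ((4, 29), 4), ((4, 38), 2), ((4, 40), 1), ((4, 55), 2),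 ((4, 101), 2), ((4, 105), 4), ((4, 106), 4), ((4, 119), 4), ((4, 7), 2), ((4, 31), 3), ((4, 43), 3), ((4, 48), 4), ((4, 58), 4), ((4, 82), 4), ((3, 1), 3), ((3, 5), 4), ((3, 7), 4), ((3, 8), 1), ((3, 9), 2), ((3, 15), 2), ((3, 17), 2), ((3, 19), 1), ((3, 29), 2), ((3, 30), 3), ((3, 39), 4), ((3, 42), 1), ((4, 26), 1), ((4, 42), 3), ((4, 54), 4), ((4, 56), 1), ((4, 72), 3), ((4, 74), 4), ((4, 89), 2), ((4, 99), 2), ((4, 104), 1), ((4, 116), 3), ((4, 6), 3), ((4, 18), 3), ((4, 35), 3), ((4, 60), 2), ((4, 68), 2), ((4, 2), 1), ((4, 13), 3)],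
  [((0, 1), 1), ((0, 2), 4), ((0, 3), 1), ((0, 6), 4), ((0, 8), 1), ((0, 13), 4), ((0, 17), 1), ((0, 28), 4), ((0, 36), 1), ((0, 53), 4), ((1, 0), 1), ((1, 4), 2), ((1, 8), 2), ((1, 10), 1), ((1, 12), 3), ((1, 18), 1), ((1, 20), 4), ((1, 28), 1), ((1, 48), 1), ((1, 56), 4), ((1, 59), 2), ((1, 63), 4), ((1, 76), 4), ((2, 0), 1), ((2, 1), 1), ((2, 3), 4), ((2, 5), 2), ((2, 7), 2), ((2, 9), 3), ((2, 15), 2), ((2, 23), 3), ((2, 27), 4), ((2, 38), 3), ((2, 77), 4), ((2, 82), 4), ((3, 23), 1), ((3, 103), 4), ((3, 116), 1), ((3, 92), 4), ((3, 20), 3), ((3, 11), 2), ((3, 51), 1), ((3, 71), 2), ((3, 43), 4), ((3, 52), 2), ((3, 69), 2), ((3, 74), 4), ((4, 8), 4), ((4, 37), 1), ((4, 51), 1), ((4, 75), 4), ((4, 78), 2), ((4, 95), 4), ((4, 90), 3), ((3, 4), 3), ((3, 68), 4), ((4, 0), 1), ((4, 11), 4), ((4, 12), 3), ((4, 29), 1), ((4, 38), 4),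 ((4, 40), 2), ((4, 49), 3), ((4, 101), 3), ((4, 119), 2), ((4, 7), 2), ((4, 31), 1), ((4, 43), 2), ((4, 48), 1), ((4, 58), 2), ((4, 69), 4), ((4, 82), 2), ((3, 1), 3), ((3, 5), 2), ((3, 8), 1), ((3, 9), 4), ((3, 16), 3), ((3, 17), 1), ((3, 19), 2), ((3, 21), 1), ((3, 30), 1), ((4, 1), 1), ((4, 26), 2), ((4, 54), 1), ((4, 56), 3), ((4, 74), 1), ((4, 80), 3), ((4, 88), 4), ((4, 99), 3), ((4, 103), 3), ((4, 104), 4), ((4, 108), 3), ((4, 116), 3), ((4, 6), 4), ((4, 18), 2), ((4, 60), 1), ((4, 102), 1), ((4, 113), 2), ((4, 3), 2), ((4, 4), 2), ((4, 13), 4)],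
  [((1, 54), 3)],
  [((0, 87), 1)],
  [((0, 89), 1)],
  [((0, 5), 1), ((0, 6), 4), ((0, 12), 1), ((0, 14), 4), ((0, 30), 4), ((0, 57), 4), ((2, 92), 4), ((1, 0), 4), ((1, 2), 1), ((1, 4), 3), ((1, 6), 1), ((1, 12), 1), ((1, 14), 1), ((1, 16), 1), ((1, 20), 1), ((1, 28), 3), ((1, 48), 2), ((1, 56), 1), ((1, 63), 1), ((1, 76), 3), ((2, 0), 1), ((2, 1), 3), ((2, 5), 2), ((2, 9), 4), ((2, 11), 2), ((2, 13), 1), ((2, 23), 1), ((2, 27), 4), ((2, 29), 1), ((2, 31), 3), ((2, 38), 1), ((2, 77), 2), ((2, 82), 2), ((3, 103), 3), ((3, 116), 1), ((3, 20), 2), ((3, 73), 2), ((3, 43), 1), ((3, 52), 4), ((3, 69), 3), ((3, 74), 2), ((4, 8), 2), ((4, 9), 2), ((4, 37), 2), ((4, 75), 4), ((4, 78), 3), ((4, 92), 4), ((4, 95), 1), ((4, 90), 1), ((3, 3), 3), ((3, 4), 1), ((3, 68), 4), ((4, 0), 3), ((4, 5), 1), ((4, 12), 2), ((4, 29), 4), ((4, 38), 3),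 ((4, 40), 3), ((4, 49), 2), ((4, 55), 1), ((4, 105), 2), ((4, 106), 4), ((4, 119), 4), ((4, 7), 2), ((4, 31), 2), ((4, 43), 2), ((4, 48), 3), ((4, 69), 4), ((4, 82), 3), ((3, 1), 1), ((3, 7), 2), ((3, 8), 4), ((3, 9), 3), ((3, 15), 4), ((3, 16), 2), ((3, 17), 4), ((3, 21), 2), ((3, 30), 1), ((3, 39), 1), ((4, 1), 2), ((4, 26), 4), ((4, 56), 1), ((4, 74), 3), ((4, 80), 3), ((4, 88), 3), ((4, 99), 3), ((4, 103), 2), ((4, 104), 3), ((4, 108), 1), ((4, 116), 3), ((4, 6), 3), ((4, 18), 2), ((4, 35), 1), ((4, 60), 2), ((4, 68), 4), ((4, 102), 4), ((4, 113), 2), ((4, 4), 3), ((4, 13), 2)],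
  [((0, 1), 4), ((0, 3), 4), ((0, 7), 4), ((0, 15), 4), ((0, 31), 4), ((0, 58), 4), ((1, 0), 1)],
  [((0, 91), 1)],
  [((0, 92), 1)],
  [((0, 1), 4), ((0, 2), 1), ((0, 3), 4), ((0, 6), 1), ((0, 7), 4), ((0, 14), 1), ((0, 16), 4), ((0, 29), 1), ((0, 33), 4), ((0, 56), 1), ((0, 61), 4), ((1, 54), 1), ((2, 92), 3), ((1, 2), 3), ((1, 4), 4), ((1, 8), 2), ((1, 10), 2), ((1, 12), 4), ((1, 14), 4), ((1, 16), 3), ((1, 18), 4), ((1, 28), 4), ((1, 59), 3), ((1, 63), 3), ((2, 1), 4), ((2, 3), 1), ((2, 5), 2), ((2, 7), 1), ((2, 9), 1), ((2, 11), 1), ((2, 13), 4), ((2, 15), 1), ((2, 23), 3), ((2, 29), 3), ((2, 31), 2), ((2, 38), 4), ((2, 60), 4), ((3, 55), 2), ((3, 103), 1), ((3, 116), 1), ((3, 20), 2), ((3, 11), 4), ((3, 51), 4), ((3, 71), 3), ((3, 73), 2), ((3, 43), 4), ((3, 69), 1), ((3, 74), 2), ((4, 8), 3), ((4, 37), 3), ((4, 51), 3), ((4,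 78), 3), ((4, 92), 3), ((4, 95), 4), ((3, 3), 2), ((3, 4), 2), ((3, 68), 2), ((4, 11), 4), ((4, 12), 2), ((4, 29), 3), ((4, 38), 2), ((4, 40), 4), ((4, 55), 2), ((4, 101), 4), ((4, 119), 1), ((4, 31), 1), ((4, 48), 4), ((4, 58), 4), ((4, 82), 4), ((3, 1), 3), ((3, 5), 1), ((3, 7), 3), ((3, 8), 2), ((3, 9), 3), ((3, 15), 2), ((3, 16), 4), ((3, 17), 4), ((3, 19), 1), ((3, 29), 2), ((3, 30), 2), ((3, 42), 1), ((4, 1), 2), ((4, 26), 4), ((4, 72), 2), ((4, 74), 2), ((4, 99), 2), ((4, 103), 2), ((4, 104), 2), ((4, 108), 3), ((4, 116), 1), ((4, 6), 4), ((4, 60), 1), ((4, 68), 1), ((4, 102), 2), ((4, 113), 2), ((4, 2), 1), ((4, 3), 2), ((4, 4), 1), ((4, 13), 2)],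
  [((0, 94), 1)],
  [((0, 3), 4), ((0, 4), 1), ((0, 7), 4), ((0, 10), 1), ((0, 16), 4), ((0, 21), 1), ((0, 34), 4), ((0, 41), 1), ((0, 63), 4), ((0, 74), 1), ((2, 92), 4), ((1, 0), 3), ((1, 2), 4), ((1, 4), 1), ((1, 6), 4), ((1, 8), 3), ((1, 16), 2), ((1, 18), 2), ((1, 28), 1), ((1, 48), 3), ((1, 56), 1), ((1, 59), 4), ((1, 63), 4), ((1, 76), 1), ((2, 1), 2), ((2, 3), 4), ((2, 5), 4), ((2, 7), 3), ((2, 9), 2), ((2, 11), 4), ((2, 15), 1), ((2, 23), 2), ((2, 27), 1), ((2, 29), 1), ((2, 31), 4), ((2, 38), 1), ((2, 60), 3), ((2, 77), 3), ((2, 82), 1), ((3, 23), 1), ((3, 55), 2), ((3, 103), 3), ((3, 92), 3), ((3, 20), 4), ((3, 11), 3), ((3, 51), 2), ((3, 71), 1), ((3, 43), 2), ((3, 52), 4), ((3, 74), 3), ((4, 8), 4), ((4, 9), 4), ((4, 37), 1), ((4, 44), 3), ((4, 51), 4), ((4, 75), 4), ((4, 78), 3), ((4, 92), 2), ((4, 95), 3), ((3, 4),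 4), ((3, 68), 3), ((4, 0), 2), ((4, 5), 3), ((4, 11), 2), ((4, 12), 1), ((4, 29), 1), ((4, 38), 2), ((4, 40), 2), ((4, 49), 1), ((4, 101), 1), ((4, 105), 2), ((4, 106), 1), ((4, 7), 4), ((4, 31), 3), ((4, 43), 1), ((4, 48), 3), ((4, 69), 1), ((4, 82), 1), ((3, 1), 4), ((3, 5), 3), ((3, 7), 1), ((3, 8), 4), ((3, 9), 1), ((3, 15), 4), ((3, 16), 2), ((3, 17), 4), ((3, 21), 4), ((3, 29), 2), ((3, 39), 3), ((3, 42), 3), ((4, 1), 3), ((4, 42), 3), ((4, 56), 2), ((4, 72), 1), ((4, 74), 4), ((4, 89), 1), ((4, 99), 4), ((4, 103), 1), ((4, 104), 3), ((4, 108), 2), ((4, 116), 1), ((4, 6), 2), ((4, 35), 4), ((4, 60), 3), ((4, 68), 1), ((4, 102), 3), ((4, 113), 1), ((4, 3), 1), ((4, 4), 2), ((4, 13), 4)],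
  [((0, 95), 1)],
  [((0, 3), 4), ((0, 4), 1), ((0, 8), 4), ((0, 10), 1), ((0, 17), 4), ((0, 22), 1), ((0, 35), 4), ((0, 42), 1), ((0, 65), 4), ((0, 75), 1), ((2, 92), 4), ((1, 0), 4), ((1, 2), 2), ((1, 4), 1), ((1, 6), 1), ((1, 8), 3), ((1, 10), 4), ((1, 12), 3), ((1, 14), 4), ((1, 16), 2), ((1, 18), 1), ((1, 20), 4), ((1, 28), 3), ((1, 59), 4), ((1, 63), 4), ((1, 76), 2), ((2, 0), 1), ((2, 1), 4), ((2, 3), 1), ((2, 5), 2), ((2, 9), 2), ((2, 11), 2), ((2, 15), 2), ((2, 23), 1), ((2, 27), 3), ((2, 29), 4), ((2, 31), 1), ((2, 77), 4), ((3, 23), 3), ((3, 55), 1), ((3, 103), 3), ((3, 116), 4), ((3, 92), 2), ((3, 20), 2), ((3, 11), 4), ((3, 51), 1), ((3, 71), 4), ((3, 73), 3), ((3, 43), 2), ((3, 52), 1), ((3, 69), 4), ((3, 74), 1), ((4, 9), 4), ((4, 37), 2), ((4, 44), 1), ((4, 51), 2), ((4, 75), 1), ((4, 78), 4), ((4, 92), 4), ((3,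 3), 3), ((3, 4), 2), ((3, 68), 2), ((4, 0), 4), ((4, 5), 3), ((4, 11), 3), ((4, 38), 3), ((4, 40), 2), ((4, 49), 1), ((4, 55), 2), ((4, 101), 2), ((4, 105), 2), ((4, 106), 2), ((4, 7), 3), ((4, 31), 3), ((4, 43), 3), ((4, 48), 4), ((4, 58), 2), ((4, 82), 3), ((3, 1), 2), ((3, 5), 3), ((3, 7), 4), ((3, 8), 1), ((3, 9), 3), ((3, 15), 3), ((3, 16), 4), ((3, 17), 4), ((3, 19), 4), ((3, 21), 1), ((3, 29), 3), ((3, 30), 4), ((3, 39), 3), ((3, 42), 4), ((4, 26), 3), ((4, 42), 4), ((4, 54), 2), ((4, 56), 3), ((4, 72), 2), ((4, 74), 4), ((4, 80), 4), ((4, 88), 2), ((4, 89), 1), ((4, 99), 1), ((4, 103), 2), ((4, 108), 4), ((4, 6), 1), ((4, 18), 4), ((4, 35), 1), ((4, 68), 3), ((4, 102), 4), ((4, 3), 3), ((4, 13), 2)],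
  [((0, 97), 1)],
  [((0, 3), 4), ((0, 4), 1), ((0, 8), 4), ((0, 9), 1), ((0, 17), 4), ((0, 20), 1), ((0, 36), 4), ((0, 67), 4), ((1, 54), 2), ((2, 92), 1), ((1, 0), 2), ((1, 2), 4), ((1, 4), 4), ((1, 8), 4), ((1, 10), 4), ((1, 12), 1), ((1, 14), 1), ((1, 18), 4), ((1, 20), 3), ((1, 28), 2), ((1, 56), 3), ((1, 59), 4), ((1, 63), 1), ((1, 76), 2), ((2, 0), 2), ((2, 1), 4), ((2, 3), 3), ((2, 7), 4), ((2, 9), 2), ((2, 11), 3), ((2, 13), 2), ((2, 15), 3), ((2, 23), 1), ((2, 27), 3), ((2, 29), 4), ((2, 31), 2), ((2, 38), 3), ((2, 60), 3), ((2, 77), 2), ((2, 82), 1), ((3, 23), 3), ((3, 103), 1), ((3, 116), 3), ((3, 92), 1), ((3, 20), 1), ((3, 51), 3), ((3, 71), 1), ((3, 73), 3), ((3, 43), 1), ((3, 52), 4), ((3, 69), 2), ((3, 74), 2), ((4, 9), 1), ((4, 37), 2), ((4, 44), 1), ((4, 51), 2), ((4, 75), 1), ((4, 92), 1), ((4, 90), 2), ((3,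 3), 3), ((3, 68), 3), ((4, 5), 3), ((4, 11), 3), ((4, 12), 4), ((4, 49), 4), ((4, 55), 1), ((4, 101), 3), ((4, 105), 3), ((4, 119), 1), ((4, 7), 2), ((4, 31), 4), ((4, 43), 3), ((4, 48), 1), ((4, 58), 1), ((3, 5), 3), ((3, 7), 2), ((3, 8), 4), ((3, 9), 1), ((3, 16), 2), ((3, 17), 4), ((3, 19), 3), ((3, 21), 1), ((3, 29), 4), ((3, 30), 2), ((3, 39), 4), ((3, 42), 4), ((4, 42), 1), ((4, 54), 4), ((4, 56), 2), ((4, 74), 4), ((4, 80), 4), ((4, 88), 2), ((4, 89), 2), ((4, 99), 2), ((4, 103), 3), ((4, 104), 3), ((4, 116), 1), ((4, 6), 1), ((4, 18), 4), ((4, 68), 2), ((4, 102), 3), ((4, 113), 3), ((4, 3), 2), ((4, 13), 4)],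
  [((0, 98), 1)],
  [((0, 1), 4), ((0, 2), 1), ((0, 4), 4), ((0, 5), 1), ((0, 9), 4), ((0, 11), 1), ((0, 19), 4), ((0, 23), 1), ((0, 38), 4), ((0, 44), 1), ((0, 69), 4), ((0, 78), 1), ((1, 54), 1), ((2, 92), 3), ((1, 0), 2), ((1, 2), 1), ((1, 6), 2), ((1, 8), 2), ((1, 10), 1), ((1, 12), 3), ((1, 18), 1), ((1, 28), 3), ((1, 48), 3), ((1, 56), 4), ((1, 59), 4), ((1, 63), 2), ((2, 1), 3), ((2, 3), 4), ((2, 7), 1), ((2, 9), 2), ((2, 13), 2), ((2, 15), 3), ((2, 23), 1), ((2, 27), 2), ((2, 29), 3), ((2, 60), 2), ((2, 82), 3), ((3, 23), 1), ((3, 55), 3), ((3, 92), 4), ((3, 20), 4), ((3, 11), 2), ((3, 51), 4), ((3, 71), 4), ((3, 73), 3), ((3, 52), 2), ((3, 69), 3), ((3, 74), 4), ((4, 9), 2), ((4, 37), 1), ((4, 44), 4), ((4, 51), 2), ((4, 75), 3), ((4, 78), 4), ((4, 92), 1), ((4, 90), 4), ((3, 3), 4), ((4, 0), 2), ((4, 5), 4), ((4, 11),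 1), ((4, 12), 3), ((4, 29), 4), ((4, 38), 1), ((4, 40), 1), ((4, 49), 2), ((4, 55), 3), ((4, 101), 4), ((4, 105), 4), ((4, 106), 4), ((4, 119), 3), ((4, 7), 2), ((4, 31), 1), ((4, 48), 3), ((4, 69), 3), ((4, 82), 1), ((3, 1), 2), ((3, 5), 3), ((3, 7), 4), ((3, 8), 4), ((3, 15), 3), ((3, 16), 1), ((3, 19), 3), ((3, 21), 3), ((3, 29), 3), ((3, 30), 2), ((3, 42), 4), ((4, 26), 4), ((4, 42), 2), ((4, 54), 4), ((4, 72), 1), ((4, 74), 4), ((4, 80), 2), ((4, 88), 3), ((4, 99), 1), ((4, 103), 2), ((4, 108), 4), ((4, 116), 4), ((4, 6), 4), ((4, 60), 3), ((4, 68), 3), ((4, 113), 4), ((4, 2), 4), ((4, 3), 3), ((4, 4), 4), ((4, 13), 2)],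
  [((0, 1), 4), ((0, 2), 1), ((0, 4), 4), ((0, 5), 1), ((0, 9), 4), ((0, 12), 1), ((0, 19), 4), ((0, 26), 1), ((0, 38), 4), ((0, 70), 4), ((2, 92), 4), ((1, 0), 1), ((1, 2), 1), ((1, 4), 4), ((1, 6), 2), ((1, 8), 1), ((1, 10), 3), ((1, 12), 2), ((1, 14), 2), ((1, 16), 3), ((1, 18), 3), ((1, 20), 3), ((1, 48), 4), ((1, 63), 3), ((2, 0), 2), ((2, 1), 2), ((2, 3), 2), ((2, 5), 4), ((2, 7), 4), ((2, 9), 2), ((2, 11), 3), ((2, 13), 4), ((2, 23), 1), ((2, 27), 4), ((2, 29), 2), ((2, 31), 1), ((2, 38), 2), ((2, 60), 4), ((2, 77), 2), ((2, 82), 4), ((3, 23), 3), ((3, 103), 2), ((3, 20), 4), ((3, 11), 2), ((3, 51), 1), ((3, 73), 3), ((3, 43), 4), ((3, 69), 4), ((3, 74), 1), ((4, 8), 3), ((4, 9), 1), ((4, 37), 4), ((4, 44), 4), ((4, 51), 2), ((4, 75), 3), ((4, 78), 3), ((4, 92), 1), ((4, 90), 3), ((3, 3), 2), ((3, 68), 3), ((4, 0), 4), ((4,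 11), 3), ((4, 12), 2), ((4, 29), 1), ((4, 38), 1), ((4, 40), 3), ((4, 49), 3), ((4, 101), 4), ((4, 105), 3), ((4, 106), 2), ((4, 119), 4), ((4, 31), 2), ((4, 43), 4), ((4, 48), 1), ((4, 58), 3), ((4, 69), 2), ((4, 82), 3), ((3, 1), 1), ((3, 7), 4), ((3, 8), 3), ((3, 9), 4), ((3, 16), 1), ((3, 17), 3), ((3, 21), 2), ((3, 29), 4), ((3, 30), 1), ((3, 39), 2), ((3, 42), 1), ((4, 1), 4), ((4, 26), 3), ((4, 42), 2), ((4, 56), 3), ((4, 72), 2), ((4, 74), 3), ((4, 88), 3), ((4, 103), 2), ((4, 104), 2), ((4, 108), 3), ((4, 116), 4), ((4, 6), 2), ((4, 18), 4), ((4, 35), 2), ((4, 68), 2), ((4, 102), 1), ((4, 113), 3), ((4, 2), 4), ((4, 3), 1), ((4, 4), 2), ((4, 13), 4)],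
  [((0, 3), 1), ((0, 4), 4), ((0, 7), 1), ((0, 9), 4), ((0, 16), 1), ((0, 20), 4), ((0, 33), 1), ((0, 39), 4), ((0, 61), 1), ((0, 71), 4), ((1, 54), 3), ((2, 92), 2), ((1, 0), 2), ((1, 4), 2), ((1, 6), 2), ((1, 10), 3), ((1, 12), 1), ((1, 14), 1), ((1, 18), 3), ((1, 20), 2), ((1, 28), 3), ((1, 48), 2), ((1, 56), 1), ((2, 0), 2), ((2, 1), 3), ((2, 3), 2), ((2, 5), 3), ((2, 7), 3), ((2, 9), 3), ((2, 11), 1), ((2, 23), 3), ((2, 27), 4), ((2, 29), 3), ((2, 60), 3), ((2, 77), 2), ((2, 82), 4), ((3, 23), 4), ((3, 55), 4), ((3, 103), 2), ((3, 116), 2), ((3, 92), 3), ((3, 20), 3), ((3, 11), 1), ((3, 51), 1), ((3, 71), 2), ((3, 73), 1), ((3, 69), 4), ((3, 74), 2), ((4, 8), 4), ((4, 9), 4), ((4, 37), 1), ((4, 44), 4), ((4, 51), 4), ((4, 75), 1), ((4, 92), 4), ((4, 95), 4), ((4, 90), 2), ((3, 3), 1), ((3, 4), 3), ((3, 68), 4), ((4, 0), 1),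 ((4, 12), 3), ((4, 29), 4), ((4, 38), 4), ((4, 40), 1), ((4, 49), 2), ((4, 55), 1), ((4, 101), 1), ((4, 105), 4), ((4, 106), 3), ((4, 31), 3), ((4, 43), 1), ((4, 48), 3), ((4, 58), 1), ((4, 69), 2), ((4, 82), 3), ((3, 5), 3), ((3, 7), 4), ((3, 9), 4), ((3, 15), 2), ((3, 16), 1), ((3, 17), 3), ((3, 19), 3), ((3, 21), 1), ((3, 29), 3), ((3, 39), 3), ((3, 42), 1), ((4, 1), 2), ((4, 26), 4), ((4, 42), 1), ((4, 54), 3), ((4, 74), 1), ((4, 80), 3), ((4, 88), 3), ((4, 89), 4), ((4, 99), 1), ((4, 104), 1), ((4, 108), 3), ((4, 116), 1), ((4, 6), 1), ((4, 35), 4), ((4, 60), 2), ((4, 68), 2), ((4, 102), 3), ((4, 113), 2), ((4, 2), 4), ((4, 3), 3), ((4, 4), 3), ((4, 13), 4)],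
  [((0, 3), 1), ((0, 4), 4), ((0, 7), 1), ((0, 9), 4), ((0, 16), 1), ((0, 20), 4), ((0, 40), 4), ((0, 72), 4), ((1, 54), 4), ((2, 92), 2), ((1, 0), 2), ((1, 2), 1), ((1, 4), 4), ((1, 6), 1), ((1, 8), 3), ((1, 10), 4), ((1, 12), 1), ((1, 16), 1), ((1, 18), 1), ((1, 20), 3), ((1, 28), 1), ((1, 48), 3), ((1, 56), 4), ((1, 63), 4), ((1, 76), 1), ((2, 0), 2), ((2, 5), 1), ((2, 7), 2), ((2, 9), 1), ((2, 11), 1), ((2, 13), 1), ((2, 15), 1), ((2, 23), 1), ((2, 29), 1), ((2, 31), 4), ((2, 60), 2), ((2, 77), 2), ((3, 23), 2), ((3, 103), 3), ((3, 116), 2), ((3, 20), 1), ((3, 51), 3), ((3, 71), 3), ((3, 73), 4), ((3, 43), 4), ((3, 52), 4), ((4, 8), 1), ((4, 9), 2), ((4, 37), 1), ((4, 44), 1), ((4, 51), 3), ((4, 75), 1), ((4, 78), 4), ((4, 92), 2), ((4, 95), 4), ((4, 90), 3), ((3, 3), 2), ((3, 68), 2), ((4, 5), 4), ((4, 11), 4), ((4, 12), 1),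 ((4, 29), 3), ((4, 40), 4), ((4, 49), 4), ((4, 101), 4), ((4, 106), 1), ((4, 43), 1), ((4, 48), 2), ((4, 58), 1), ((4, 69), 3), ((3, 5), 2), ((3, 8), 1), ((3, 9), 4), ((3, 15), 4), ((3, 16), 3), ((3, 17), 2), ((3, 19), 2), ((3, 21), 3), ((3, 30), 2), ((3, 39), 3), ((3, 42), 4), ((4, 1), 3), ((4, 26), 3), ((4, 56), 4), ((4, 74), 4), ((4, 80), 2), ((4, 89), 4), ((4, 99), 4), ((4, 103), 3), ((4, 104), 3), ((4, 116), 4), ((4, 6), 4), ((4, 18), 2), ((4, 35), 1), ((4, 60), 2), ((4, 68), 4), ((4, 102), 1), ((4, 113), 4), ((4, 2), 1), ((4, 3), 4), ((4, 4), 3), ((4, 13), 1)],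
  [((0, 99), 1)],
  [((0, 100), 1)],
  [((0, 101), 1)],
  [((0, 103), 1)],
  [((0, 5), 4), ((0, 11), 4), ((0, 23), 4), ((0, 44), 4), ((0, 77), 4), ((1, 54), 2), ((2, 92), 4), ((1, 0), 4), ((1, 2), 2), ((1, 4), 1), ((1, 6), 4), ((1, 8), 3), ((1, 10), 2), ((1, 12), 3), ((1, 14), 3), ((1, 16), 2), ((1, 18), 3), ((1, 20), 2), ((1, 28), 4), ((1, 48), 2), ((1, 59), 2), ((1, 76), 1), ((2, 0), 2), ((2, 1), 1), ((2, 3), 1), ((2, 5), 4), ((2, 7), 4), ((2, 9), 4), ((2, 11), 3), ((2, 13), 2), ((2, 15), 3), ((2, 23), 4), ((2, 27), 3), ((2, 29), 1), ((2, 77), 1), ((2, 82), 1), ((3, 55), 1), ((3, 103), 4), ((3, 116), 3), ((3, 92), 1), ((3, 20), 2), ((3, 11), 4), ((3, 51), 2), ((3, 71), 1), ((3, 73), 3), ((3, 43), 3), ((3, 52), 3), ((3, 74), 2), ((4, 8), 1), ((4, 9), 4), ((4, 37), 3), ((4, 44), 3), ((4, 51), 1), ((4, 92), 3), ((4, 95), 3), ((4,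 90), 4), ((3, 4), 2), ((3, 68), 2), ((4, 0), 2), ((4, 12), 4), ((4, 29), 3), ((4, 40), 4), ((4, 49), 1), ((4, 101), 1), ((4, 119), 1), ((4, 7), 1), ((4, 31), 4), ((4, 43), 4), ((4, 48), 3), ((4, 58), 4), ((4, 69), 4), ((4, 82), 4), ((3, 1), 4), ((3, 5), 2), ((3, 7), 3), ((3, 8), 2), ((3, 9), 3), ((3, 15), 4), ((3, 17), 1), ((3, 19), 2), ((3, 29), 4), ((3, 30), 3), ((3, 39), 1), ((3, 42), 3), ((4, 1), 3), ((4, 26), 4), ((4, 42), 4), ((4, 56), 2), ((4, 72), 1), ((4, 74), 1), ((4, 80), 1), ((4, 88), 2), ((4, 99), 1), ((4, 103), 1), ((4, 104), 4), ((4, 108), 4), ((4, 116), 3), ((4, 6), 4), ((4, 18), 3), ((4, 60), 3), ((4, 68), 3), ((4, 102), 4), ((4, 113), 2), ((4, 4), 4), ((4, 13), 4)],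
  [((0, 104), 1)],
  [((0, 1), 1), ((0, 2), 4), ((0, 3), 1), ((0, 5), 4), ((0, 8), 1), ((0, 11), 4), ((0, 17), 1), ((0, 24), 4), ((0, 36), 1), ((0, 45), 4), ((0, 67), 1), ((0, 79), 4), ((1, 0), 1), ((1, 4), 2), ((1, 6), 1), ((1, 8), 2), ((1, 12), 3), ((1, 14), 4), ((1, 16), 4), ((1, 18), 1), ((1, 20), 3), ((1, 28), 3), ((1, 48), 2), ((1, 56), 2), ((1, 59), 3), ((1, 63), 1), ((1, 76), 4), ((2, 0), 2), ((2, 3), 3), ((2, 5), 4), ((2, 9), 4), ((2, 13), 4), ((2, 15), 2), ((2, 23), 3), ((2, 27), 1), ((2, 29), 3), ((2, 31), 2), ((2, 38), 4), ((2, 60), 2), ((2, 77), 2), ((2, 82), 1), ((3, 23), 2), ((3, 103), 4), ((3, 116), 3), ((3, 92), 1), ((3, 20), 2), ((3, 11), 1), ((3, 51), 2), ((3, 73), 1), ((3, 74), 4), ((4, 8), 1), ((4, 9), 1), ((4, 37), 3), ((4, 44), 2), ((4, 51), 2), ((4, 75), 2), ((4, 78), 3), ((4, 95), 1), ((4, 90), 3), ((3,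 3), 3), ((4, 0), 4), ((4, 5), 2), ((4, 11), 4), ((4, 29), 4), ((4, 38), 2), ((4, 49), 1), ((4, 55), 4), ((4, 101), 1), ((4, 105), 3), ((4, 106), 2), ((4, 119), 2), ((4, 7), 3), ((4, 31), 2), ((4, 43), 4), ((4, 48), 2), ((4, 82), 4), ((3, 1), 3), ((3, 5), 4), ((3, 8), 3), ((3, 9), 3), ((3, 15), 2), ((3, 16), 2), ((3, 19), 2), ((3, 29), 1), ((3, 30), 4), ((3, 42), 3), ((4, 1), 3), ((4, 42), 4), ((4, 56), 2), ((4, 72), 3), ((4, 74), 3), ((4, 80), 2), ((4, 88), 3), ((4, 89), 3), ((4, 99), 4), ((4, 103), 4), ((4, 104), 4), ((4, 116), 2), ((4, 18), 1), ((4, 35), 2), ((4, 60), 3), ((4, 102), 4), ((4, 2), 2), ((4, 3), 2), ((4, 4), 4), ((4, 13), 3)],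
  [((0, 5), 4), ((0, 6), 1), ((0, 11), 4), ((0, 13), 1), ((0, 24), 4), ((0, 28), 1), ((0, 46), 4), ((0, 80), 4), ((1, 54), 4), ((2, 92), 4), ((1, 0), 4), ((1, 4), 1), ((1, 6), 3), ((1, 10), 3), ((1, 14), 1), ((1, 18), 1), ((1, 28), 4), ((1, 48), 2), ((1, 56), 4), ((1, 59), 4), ((1, 63), 4), ((1, 76), 4), ((2, 1), 2), ((2, 5), 2), ((2, 7), 1), ((2, 9), 1), ((2, 11), 1), ((2, 13), 2), ((2, 15), 4), ((2, 23), 2), ((2, 27), 2), ((2, 31), 4), ((2, 77), 1), ((2, 82), 4), ((3, 55), 1), ((3, 103), 1), ((3, 92), 3), ((3, 20), 4), ((3, 11), 4), ((3, 51), 4), ((3, 71), 3), ((3, 73), 3), ((3, 43), 1), ((3, 52), 2), ((3, 69), 2), ((4, 8), 4), ((4, 9), 2), ((4, 37), 3), ((4, 44), 3), ((4, 75), 4), ((4, 78), 3), ((4, 92), 1), ((4, 90), 3), ((3, 3), 1), ((3, 68), 1), ((4, 0), 3), ((4, 5), 2), ((4, 12), 4), ((4, 29), 2), ((4, 38), 4), ((4, 40),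 2), ((4, 49), 4), ((4, 55), 2), ((4, 101), 3), ((4, 105), 1), ((4, 119), 4), ((4, 7), 1), ((4, 31), 2), ((4, 43), 3), ((4, 48), 1), ((4, 58), 4), ((4, 69), 3), ((4, 82), 3), ((3, 1), 3), ((3, 5), 2), ((3, 8), 1), ((3, 9), 3), ((3, 15), 4), ((3, 16), 1), ((3, 17), 4), ((3, 19), 2), ((3, 21), 2), ((3, 29), 1), ((3, 30), 4), ((3, 39), 3), ((4, 1), 2), ((4, 26), 1), ((4, 42), 2), ((4, 54), 3), ((4, 56), 2), ((4, 74), 2), ((4, 88), 2), ((4, 89), 3), ((4, 103), 4), ((4, 104), 4), ((4, 108), 1), ((4, 116), 2), ((4, 6), 2), ((4, 35), 2), ((4, 60), 3), ((4, 68), 3), ((4, 113), 3), ((4, 2), 3), ((4, 3), 2), ((4, 4), 4), ((4, 13), 4)],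
  [((0, 5), 4), ((0, 6), 1), ((0, 11), 4), ((0, 14), 1), ((0, 24), 4), ((0, 29), 1), ((0, 46), 4), ((0, 56), 1), ((0, 81), 4), ((0, 90), 1), ((1, 54), 3), ((2, 92), 4), ((1, 0), 3), ((1, 2), 1), ((1, 8), 3), ((1, 10), 3), ((1, 12), 3), ((1, 14), 2), ((1, 16), 4), ((1, 20), 4), ((1, 28), 1), ((1, 48), 2), ((1, 56), 2), ((1, 59), 1), ((1, 63), 2), ((1, 76), 2), ((2, 0), 1), ((2, 1), 1), ((2, 3), 3), ((2, 7), 2), ((2, 11), 3), ((2, 13), 1), ((2, 23), 4), ((2, 27), 4), ((2, 29), 2), ((2, 31), 2), ((2, 38), 1), ((2, 60), 4), ((2, 77), 4), ((2, 82), 1), ((3, 55), 4), ((3, 103), 1), ((3, 116), 1), ((3, 11), 2), ((3, 51), 2), ((3, 71), 2), ((3, 73), 4), ((3, 43), 4), ((3, 52), 1), ((3, 74), 4), ((4, 8), 4), ((4, 37), 3), ((4, 51), 1), ((4, 75), 3), ((4, 78), 3), ((4, 92), 2), ((4, 95), 3), ((4, 90), 4), ((3, 3), 2), ((3, 4), 2), ((3, 68),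 1), ((4, 5), 1), ((4, 11), 4), ((4, 12), 3), ((4, 38), 1), ((4, 40), 2), ((4, 55), 4), ((4, 101), 3), ((4, 105), 2), ((4, 106), 1), ((4, 119), 1), ((4, 7), 2), ((4, 31), 3), ((4, 43), 3), ((4, 48), 3), ((4, 58), 2), ((4, 69), 2), ((4, 82), 4), ((3, 1), 3), ((3, 5), 2), ((3, 7), 2), ((3, 8), 4), ((3, 9), 4), ((3, 17), 3), ((3, 19), 4), ((3, 21), 2), ((3, 29), 1), ((3, 30), 1), ((3, 39), 3), ((3, 42), 1), ((4, 1), 4), ((4, 26), 2), ((4, 42), 3), ((4, 54), 1), ((4, 72), 2), ((4, 74), 3), ((4, 80), 1), ((4, 89), 4), ((4, 99), 3), ((4, 108), 1), ((4, 116), 1), ((4, 6), 4), ((4, 18), 1), ((4, 35), 2), ((4, 60), 4), ((4, 68), 2), ((4, 102), 3), ((4, 2), 2), ((4, 3), 1), ((4, 4), 2)],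
  [((0, 106), 1)],
  [((0, 5), 4), ((0, 6), 1), ((0, 12), 4), ((0, 13), 1), ((0, 26), 4), ((0, 28), 1), ((0, 50), 4), ((0, 54), 1), ((0, 83), 4), ((0, 86), 1), ((1, 0), 4), ((1, 2), 2), ((1, 4), 4), ((1, 6), 3), ((1, 8), 3), ((1, 10), 1), ((1, 12), 4), ((1, 14), 1), ((1, 16), 2), ((1, 18), 1), ((1, 28), 4), ((1, 48), 2), ((1, 56), 4), ((1, 59), 1), ((1, 63), 2), ((2, 0), 3), ((2, 1), 1), ((2, 3), 3), ((2, 5), 4), ((2, 7), 4), ((2, 9), 4), ((2, 13), 4), ((2, 15), 4), ((2, 27), 2), ((2, 29), 2), ((2, 38), 3), ((2, 60), 4), ((2, 77), 1), ((2, 82), 1), ((3, 55), 2), ((3, 103), 3), ((3, 116), 2), ((3, 20), 1), ((3, 11), 2), ((3, 51), 4), ((3, 71), 2), ((3, 43), 1), ((3, 52), 3), ((3, 69), 4), ((3, 74), 3), ((4, 8), 4), ((4, 9), 2), ((4, 37), 4), ((4, 44), 1), ((4, 51), 4), ((4, 75), 2), ((4, 78), 4), ((4, 95), 2), ((3, 3), 4), ((3, 4),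 4), ((3, 68), 1), ((4, 0), 3), ((4, 11), 1), ((4, 29), 4), ((4, 38), 1), ((4, 49), 4), ((4, 55), 3), ((4, 106), 1), ((4, 7), 4), ((4, 31), 2), ((4, 43), 1), ((4, 48), 2), ((4, 58), 2), ((4, 69), 3), ((4, 82), 4), ((3, 1), 1), ((3, 7), 3), ((3, 8), 4), ((3, 9), 4), ((3, 15), 2), ((3, 16), 1), ((3, 17), 1), ((3, 19), 1), ((3, 21), 2), ((3, 29), 2), ((3, 30), 3), ((3, 39), 4), ((3, 42), 1), ((4, 26), 3), ((4, 54), 2), ((4, 56), 3), ((4, 72), 4), ((4, 74), 4), ((4, 80), 4), ((4, 88), 3), ((4, 99), 1), ((4, 103), 2), ((4, 108), 1), ((4, 116), 2), ((4, 6), 4), ((4, 18), 4), ((4, 35), 4), ((4, 60), 3), ((4, 68), 2), ((4, 102), 1), ((4, 113), 1), ((4, 2), 2), ((4, 3), 4), ((4, 13), 3)],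
  [((0, 1), 1), ((0, 2), 4), ((0, 3), 1), ((0, 6), 4), ((0, 8), 1), ((0, 13), 4), ((0, 17), 1), ((0, 27), 4), ((0, 35), 1), ((0, 51), 4), ((0, 64), 1), ((0, 84), 4), ((0, 96), 1), ((1, 54), 2), ((2, 92), 4), ((1, 0), 3), ((1, 2), 3), ((1, 4), 1), ((1, 6), 2), ((1, 8), 3), ((1, 10), 4), ((1, 12), 4), ((1, 14), 2), ((1, 16), 2), ((1, 18), 3), ((1, 20), 4), ((1, 28), 2), ((1, 48), 4), ((1, 56), 4), ((1, 59), 3), ((1, 63), 2), ((1, 76), 4), ((2, 0), 1), ((2, 1), 3), ((2, 3), 3), ((2, 5), 2), ((2, 9), 2), ((2, 11), 1), ((2, 13), 1), ((2, 15), 2), ((2, 23), 2), ((2, 27), 4), ((2, 29), 2), ((2, 31), 4), ((2, 38), 3), ((2, 60), 4), ((3, 23), 1), ((3, 55), 3), ((3, 103), 1), ((3, 92), 1), ((3, 20), 3), ((3, 11), 1), ((3, 51), 2), ((3, 71), 2), ((3, 73), 3), ((3, 43), 4), ((3, 52), 4), ((3, 69), 2), ((3, 74), 1), ((4, 8), 2), ((4, 9), 2),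 ((4, 37), 4), ((4, 44), 1), ((4, 51), 3), ((4, 92), 4), ((4, 95), 1), ((3, 4), 1), ((3, 68), 2), ((4, 0), 4), ((4, 5), 4), ((4, 11), 4), ((4, 12), 3), ((4, 29), 1), ((4, 38), 2), ((4, 49), 4), ((4, 55), 4), ((4, 101), 2), ((4, 119), 3), ((4, 7), 3), ((4, 31), 1), ((4, 48), 3), ((4, 58), 4), ((4, 69), 3), ((4, 82), 1), ((3, 1), 2), ((3, 7), 4), ((3, 8), 1), ((3, 9), 1), ((3, 16), 3), ((3, 19), 3), ((3, 21), 3), ((3, 29), 4), ((3, 30), 3), ((3, 39), 3), ((3, 42), 2), ((4, 1), 1), ((4, 26), 3), ((4, 54), 2), ((4, 56), 4), ((4, 72), 2), ((4, 74), 1), ((4, 80), 3), ((4, 88), 2), ((4, 89), 2), ((4, 99), 4), ((4, 103), 4), ((4, 108), 4), ((4, 116), 2), ((4, 6), 3), ((4, 18), 3), ((4, 35), 4), ((4, 60), 2), ((4, 68), 2), ((4, 113), 1), ((4, 2), 3), ((4, 3), 3), ((4, 4), 1), ((4, 13), 1)],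
  [((0, 5), 1), ((0, 6), 4), ((0, 11), 1), ((0, 13), 4), ((0, 23), 1), ((0, 28), 4), ((0, 43), 1), ((0, 53), 4), ((0, 76), 1), ((0, 85), 4), ((1, 54), 4), ((2, 92), 2), ((1, 4), 1), ((1, 6), 4), ((1, 8), 3), ((1, 10), 3), ((1, 14), 1), ((1, 16), 3), ((1, 18), 2), ((1, 20), 2), ((1, 48), 3), ((1, 56), 1), ((1, 63), 2), ((1, 76), 3), ((2, 0), 1), ((2, 1), 3), ((2, 3), 1), ((2, 5), 1), ((2, 7), 3), ((2, 9), 3), ((2, 11), 4), ((2, 13), 3), ((2, 23), 3), ((2, 29), 2), ((2, 31), 4), ((2, 60), 4), ((2, 77), 2), ((3, 23), 3), ((3, 55), 1), ((3, 103), 2), ((3, 116), 2), ((3, 92), 2), ((3, 20), 1), ((3, 11), 4), ((3, 51), 3), ((3, 71), 1), ((3, 73), 3), ((3, 52), 3), ((3, 69), 2), ((3, 74), 1), ((4, 8), 1), ((4, 9), 2), ((4, 37), 1), ((4, 51), 1), ((4, 75), 1), ((4, 78), 3), ((4, 92), 1), ((4, 95), 1), ((3, 3), 4), ((3, 4), 4), ((3, 68),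 3), ((4, 0), 4), ((4, 5), 1), ((4, 12), 4), ((4, 29), 2), ((4, 38), 1), ((4, 40), 3), ((4, 49), 2), ((4, 55), 4), ((4, 101), 2), ((4, 105), 3), ((4, 106), 1), ((4, 119), 2), ((4, 31), 3), ((4, 43), 2), ((4, 48), 1), ((4, 58), 1), ((4, 69), 3), ((4, 82), 4), ((3, 1), 3), ((3, 5), 4), ((3, 7), 4), ((3, 8), 1), ((3, 15), 3), ((3, 16), 4), ((3, 17), 1), ((3, 19), 3), ((3, 29), 2), ((3, 30), 2), ((3, 39), 3), ((3, 42), 1), ((4, 26), 4), ((4, 42), 4), ((4, 54), 4), ((4, 72), 2), ((4, 88), 4), ((4, 103), 1), ((4, 108), 1), ((4, 116), 4), ((4, 6), 3), ((4, 18), 1), ((4, 35), 2), ((4, 60), 1), ((4, 102), 3), ((4, 113), 1), ((4, 2), 4), ((4, 3), 1), ((4, 4), 2), ((4, 13), 4)],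
  [((0, 53), 1), ((0, 54), 4), ((0, 85), 1), ((0, 86), 4), ((2, 92), 1), ((1, 0), 4), ((1, 2), 2), ((1, 4), 4), ((1, 8), 3), ((1, 10), 2), ((1, 12), 1), ((1, 14), 2), ((1, 16), 3), ((1, 18), 2), ((1, 20), 3), ((1, 28), 4), ((1, 48), 1), ((1, 59), 4), ((1, 63), 3), ((1, 76), 2), ((2, 0), 2), ((2, 1), 2), ((2, 3), 2), ((2, 5), 3), ((2, 7), 3), ((2, 9), 2), ((2, 11), 4), ((2, 13), 3), ((2, 15), 3), ((2, 23), 2), ((2, 27), 3), ((2, 31), 2), ((2, 38), 1), ((2, 60), 1), ((2, 77), 4), ((3, 23), 4), ((3, 55), 4), ((3, 103), 1), ((3, 116), 1), ((3, 92), 4), ((3, 20), 3), ((3, 11), 4), ((3, 71), 3), ((3, 73), 1), ((3, 43), 4), ((3, 52), 4), ((3, 69), 1), ((3, 74), 2), ((4, 8), 3), ((4, 9), 3), ((4, 37), 4), ((4, 44), 2), ((4, 78), 1), ((4, 95), 3), ((4, 90), 4), ((3, 3), 4), ((3, 68), 1), ((4, 0), 4), ((4, 5), 1), ((4, 11), 1), ((4, 12),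 2), ((4, 29), 1), ((4, 40), 4), ((4, 55), 3), ((4, 101), 4), ((4, 105), 3), ((4, 119), 4), ((4, 31), 1), ((4, 43), 4), ((4, 58), 4), ((4, 82), 3), ((3, 1), 1), ((3, 5), 1), ((3, 15), 1), ((3, 16), 1), ((3, 17), 1), ((3, 19), 3), ((3, 21), 1), ((3, 29), 1), ((3, 39), 1), ((3, 42), 3), ((4, 1), 3), ((4, 26), 3), ((4, 54), 4), ((4, 56), 3), ((4, 72), 1), ((4, 74), 2), ((4, 80), 4), ((4, 88), 1), ((4, 89), 2), ((4, 103), 1), ((4, 6), 3), ((4, 18), 2), ((4, 35), 2), ((4, 60), 3), ((4, 113), 3), ((4, 2), 3), ((4, 3), 2), ((4, 4), 4)],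
  [((0, 87), 4), ((0, 88), 1), ((1, 54), 2), ((2, 92), 4), ((1, 0), 3), ((1, 2), 4), ((1, 4), 2), ((1, 8), 3), ((1, 10), 3), ((1, 12), 2), ((1, 14), 2), ((1, 16), 3), ((1, 18), 4), ((1, 20), 3), ((1, 59), 2), ((1, 63), 3), ((2, 0), 1), ((2, 3), 4), ((2, 5), 1), ((2, 7), 2), ((2, 9), 4), ((2, 11), 1), ((2, 15), 3), ((2, 27), 1), ((2, 29), 3), ((2, 38), 4), ((2, 60), 2), ((2, 77), 3), ((2, 82), 4), ((3, 23), 2), ((3, 55), 4), ((3, 116), 4), ((3, 92), 1), ((3, 20), 3), ((3, 11), 4), ((3, 51), 3), ((3, 71), 2), ((3, 43), 2), ((3, 52), 2), ((3, 69), 1), ((3, 74), 3), ((4, 8), 4), ((4, 9), 4), ((4, 44), 1), ((4, 78), 1), ((4, 92), 1), ((4, 95), 4), ((4, 90), 2), ((3, 3), 3), ((3, 4), 4), ((3, 68), 1), ((4, 11), 3), ((4, 29), 3), ((4, 40), 1), ((4, 49), 4), ((4, 55), 4), ((4, 101), 3), ((4, 105), 2), ((4, 106), 3), ((4, 119), 2), ((4,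 7), 3), ((4, 31), 1), ((4, 43), 4), ((4, 48), 1), ((4, 58), 4), ((4, 69), 3), ((4, 82), 2), ((3, 1), 3), ((3, 5), 2), ((3, 7), 3), ((3, 8), 2), ((3, 9), 3), ((3, 15), 4), ((3, 16), 2), ((3, 17), 2), ((3, 19), 3), ((3, 29), 4), ((3, 42), 3), ((4, 1), 1), ((4, 26), 3), ((4, 42), 4), ((4, 54), 3), ((4, 56), 1), ((4, 72), 3), ((4, 74), 4), ((4, 88), 3), ((4, 99), 2), ((4, 103), 2), ((4, 104), 1), ((4, 108), 1), ((4, 116), 3), ((4, 6), 2), ((4, 60), 4), ((4, 68), 2), ((4, 102), 1), ((4, 113), 4), ((4, 2), 3), ((4, 3), 2), ((4, 4), 1)],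
  [((0, 111), 1)],
  [((0, 13), 1), ((0, 14), 4), ((0, 28), 1), ((0, 29), 4), ((0, 53), 1), ((0, 56), 4), ((0, 85), 1), ((0, 89), 4), ((0, 108), 1), ((1, 54), 3), ((2, 92), 1), ((1, 0), 1), ((1, 2), 2), ((1, 4), 1), ((1, 6), 4), ((1, 8), 2), ((1, 12), 1), ((1, 14), 3), ((1, 16), 3), ((1, 18), 1), ((1, 20), 1), ((1, 28), 1), ((1, 48), 4), ((1, 56), 4), ((1, 59), 2), ((1, 63), 3), ((1, 76), 2), ((2, 0), 2), ((2, 5), 4), ((2, 9), 3), ((2, 13), 1), ((2, 15), 3), ((2, 23), 4), ((2, 27), 3), ((2, 31), 3), ((2, 60), 3), ((3, 23), 3), ((3, 55), 3), ((3, 103), 2), ((3, 116), 4), ((3, 92), 4), ((3, 20), 2), ((3, 11), 1), ((3, 51), 2), ((3, 71), 1), ((3, 73), 3), ((3, 43), 4), ((3, 52), 1), ((3, 69), 4), ((3, 74), 2), ((4, 8), 3), ((4, 9), 2), ((4, 37), 2), ((4, 51), 1), ((4, 75), 4), ((4, 78), 1), ((4, 92), 1), ((4, 95), 2), ((4, 90), 3),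 ((3, 3), 2), ((3, 4), 2), ((3, 68), 2), ((4, 0), 1), ((4, 11), 3), ((4, 12), 2), ((4, 29), 1), ((4, 38), 2), ((4, 40), 4), ((4, 49), 4), ((4, 55), 3), ((4, 101), 4), ((4, 119), 4), ((4, 7), 3), ((4, 31), 3), ((4, 43), 2), ((4, 48), 1), ((4, 58), 4), ((4, 69), 4), ((4, 82), 1), ((3, 7), 3), ((3, 9), 1), ((3, 15), 2), ((3, 16), 1), ((3, 17), 3), ((3, 19), 4), ((3, 29), 3), ((3, 30), 4), ((3, 39), 1), ((3, 42), 1), ((4, 1), 1), ((4, 26), 4), ((4, 42), 4), ((4, 54), 2), ((4, 56), 3), ((4, 72), 2), ((4, 80), 1), ((4, 88), 3), ((4, 89), 2), ((4, 99), 3), ((4, 104), 4), ((4, 108), 3), ((4, 116), 1), ((4, 6), 3), ((4, 35), 2), ((4, 60), 3), ((4, 68), 2), ((4, 102), 1), ((4, 113), 2), ((4, 3), 4), ((4, 4), 2), ((4, 13), 3)],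
  [((0, 1), 1), ((0, 2), 4), ((0, 3), 1), ((0, 6), 4), ((0, 8), 1), ((0, 14), 4), ((0, 17), 1), ((0, 29), 4), ((0, 35), 1), ((0, 56), 4), ((0, 65), 1), ((0, 90), 4), ((1, 54), 4), ((2, 92), 2), ((1, 2), 2), ((1, 4), 4), ((1, 6), 3), ((1, 8), 3), ((1, 10), 4), ((1, 12), 3), ((1, 14), 2), ((1, 16), 2), ((1, 18), 2), ((1, 20), 1), ((1, 48), 1), ((1, 56), 2), ((1, 63), 1), ((2, 1), 1), ((2, 3), 3), ((2, 5), 1), ((2, 9), 2), ((2, 11), 2), ((2, 13), 2), ((2, 23), 1), ((2, 29), 1), ((2, 31), 3), ((2, 38), 4), ((2, 60), 4), ((2, 77), 3), ((3, 55), 1), ((3, 103), 2), ((3, 116), 4), ((3, 20), 1), ((3, 11), 3), ((3, 51), 1), ((3, 71), 1), ((3, 73), 4), ((3, 43), 3), ((3, 52), 3), ((3, 74), 4), ((4, 8), 4), ((4, 9), 2), ((4, 37), 3), ((4, 44), 1), ((4, 51), 4), ((4, 78), 2), ((4, 92), 4), ((4, 95), 2), ((4, 90), 1), ((3, 3), 2), ((3, 4), 2),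 ((3, 68), 3), ((4, 0), 4), ((4, 11), 4), ((4, 12), 4), ((4, 29), 3), ((4, 38), 3), ((4, 40), 4), ((4, 49), 1), ((4, 55), 2), ((4, 101), 2), ((4, 105), 3), ((4, 119), 2), ((4, 7), 1), ((4, 31), 4), ((4, 43), 4), ((4, 48), 1), ((4, 58), 3), ((4, 69), 4), ((4, 82), 4), ((3, 1), 2), ((3, 5), 4), ((3, 7), 3), ((3, 8), 4), ((3, 9), 4), ((3, 15), 2), ((3, 16), 4), ((3, 17), 1), ((3, 29), 2), ((3, 30), 2), ((3, 39), 1), ((3, 42), 2), ((4, 1), 3), ((4, 26), 1), ((4, 42), 1), ((4, 54), 1), ((4, 56), 2), ((4, 72), 1), ((4, 74), 1), ((4, 80), 4), ((4, 88), 4), ((4, 89), 4), ((4, 99), 2), ((4, 103), 2), ((4, 104), 4), ((4, 108), 1), ((4, 116), 2), ((4, 6), 2), ((4, 18), 2), ((4, 68), 4), ((4, 102), 2), ((4, 113), 1), ((4, 2), 4), ((4, 4), 4), ((4, 13), 2)],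
  [((0, 1), 4), ((0, 2), 1), ((0, 3), 4), ((0, 6), 1), ((0, 7), 4), ((0, 14), 1), ((0, 15), 4), ((0, 29), 1), ((0, 31), 4), ((0, 55), 1), ((0, 59), 4), ((0, 87), 1), ((0, 91), 4), ((0, 110), 1), ((1, 54), 3), ((1, 0), 1), ((1, 2), 2), ((1, 4), 4), ((1, 6), 2), ((1, 12), 3), ((1, 14), 3), ((1, 16), 2), ((1, 18), 4), ((1, 20), 2), ((1, 28), 4), ((1, 48), 1), ((1, 59), 4), ((1, 76), 2), ((2, 3), 3), ((2, 5), 1), ((2, 7), 1), ((2, 11), 2), ((2, 13), 1), ((2, 15), 2), ((2, 23), 2), ((2, 31), 1), ((2, 60), 3), ((2, 77), 1), ((2, 82), 4), ((3, 103), 3), ((3, 116), 3), ((3, 20), 2), ((3, 11), 4), ((3, 51), 4), ((3, 71), 3), ((3, 52), 1), ((3, 69), 4), ((3, 74), 3), ((4, 9), 2), ((4, 37), 2), ((4, 44), 4), ((4, 51), 1), ((4, 75), 3), ((4, 78), 1), ((4, 92), 4), ((4, 95), 3), ((3, 3), 3), ((3, 68), 3), ((4, 0), 4), ((4, 5), 2), ((4, 11),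 3), ((4, 12), 4), ((4, 29), 2), ((4, 38), 4), ((4, 40), 1), ((4, 49), 4), ((4, 55), 3), ((4, 106), 1), ((4, 31), 4), ((4, 43), 3), ((4, 48), 2), ((4, 69), 4), ((3, 1), 4), ((3, 5), 2), ((3, 7), 1), ((3, 9), 1), ((3, 15), 1), ((3, 17), 1), ((3, 21), 4), ((3, 29), 1), ((3, 39), 1), ((3, 42), 1), ((4, 1), 1), ((4, 26), 3), ((4, 56), 1), ((4, 72), 2), ((4, 74), 4), ((4, 80), 4), ((4, 88), 1), ((4, 89), 1), ((4, 99), 2), ((4, 103), 2), ((4, 104), 2), ((4, 108), 3), ((4, 116), 3), ((4, 18), 1), ((4, 35), 3), ((4, 60), 4), ((4, 68), 2), ((4, 102), 4), ((4, 113), 4), ((4, 2), 2), ((4, 3), 2), ((4, 4), 4), ((4, 13), 4)],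
  [((0, 3), 4), ((0, 4), 1), ((0, 7), 4), ((0, 10), 1), ((0, 16), 4), ((0, 22), 1), ((0, 33), 4), ((0, 42), 1), ((0, 60), 4), ((0, 92), 4), ((1, 54), 2), ((2, 92), 3), ((1, 0), 4), ((1, 2), 3), ((1, 4), 1), ((1, 8), 3), ((1, 10), 3), ((1, 12), 1), ((1, 14), 2), ((1, 16), 2), ((1, 18), 2), ((1, 28), 3), ((1, 48), 4), ((1, 56), 3), ((1, 59), 2), ((1, 63), 3), ((2, 0), 1), ((2, 3), 4), ((2, 5), 4), ((2, 7), 3), ((2, 9), 1), ((2, 11), 4), ((2, 15), 3), ((2, 23), 4), ((2, 27), 1), ((2, 29), 4), ((2, 31), 2), ((2, 38), 4), ((2, 60), 1), ((2, 77), 3), ((2, 82), 4), ((3, 23), 2), ((3, 103), 1), ((3, 20), 4), ((3, 51), 3), ((3, 71), 4), ((3, 73), 3), ((3, 43), 2), ((3, 52), 2), ((3, 74), 2), ((4, 8), 4), ((4, 44), 1), ((4, 51), 1), ((4, 75), 1), ((4, 92), 1), ((4, 95), 3), ((4, 90), 4), ((3, 3), 3), ((3, 4), 4), ((4, 11), 2), ((4, 12), 1),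 ((4, 38), 2), ((4, 40), 2), ((4, 49), 3), ((4, 55), 2), ((4, 106), 3), ((4, 119), 1), ((4, 7), 3), ((4, 31), 3), ((4, 43), 4), ((4, 48), 3), ((4, 58), 3), ((4, 69), 2), ((4, 82), 3), ((3, 7), 2), ((3, 8), 1), ((3, 9), 3), ((3, 15), 1), ((3, 16), 3), ((3, 17), 2), ((3, 19), 3), ((3, 21), 2), ((3, 29), 1), ((3, 30), 2), ((4, 1), 2), ((4, 26), 1), ((4, 42), 4), ((4, 54), 2), ((4, 72), 3), ((4, 80), 2), ((4, 89), 3), ((4, 99), 2), ((4, 103), 4), ((4, 108), 3), ((4, 116), 2), ((4, 6), 3), ((4, 18), 2), ((4, 35), 3), ((4, 60), 2), ((4, 68), 2), ((4, 102), 3), ((4, 113), 4), ((4, 2), 1), ((4, 3), 4), ((4, 4), 2), ((4, 13), 4)],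
  [((0, 3), 4), ((0, 4), 1), ((0, 7), 4), ((0, 9), 1), ((0, 16), 4), ((0, 20), 1), ((0, 33), 4), ((0, 39), 1), ((0, 60), 4), ((0, 71), 1), ((0, 93), 4), ((1, 54), 4), ((2, 92), 1), ((1, 0), 4), ((1, 2), 3), ((1, 8), 1), ((1, 10), 4), ((1, 12), 4), ((1, 18), 1), ((1, 28), 2), ((1, 48), 4), ((1, 56), 3), ((1, 59), 1), ((1, 63), 2), ((1, 76), 1), ((2, 0), 4), ((2, 1), 1), ((2, 3), 2), ((2, 5), 4), ((2, 7), 1), ((2, 9), 1), ((2, 13), 3), ((2, 15), 1), ((2, 23), 2), ((2, 27), 2), ((2, 29), 4), ((2, 31), 3), ((2, 38), 1), ((2, 77), 3), ((2, 82), 4), ((3, 23), 1), ((3, 116), 4), ((3, 92), 4), ((3, 20), 3), ((3, 11), 4), ((3, 51), 2), ((3, 73), 3), ((3, 43), 2), ((3, 69), 4), ((3, 74), 3), ((4, 8), 1), ((4, 9), 2), ((4, 37), 2), ((4, 44), 2), ((4, 51), 1), ((4, 90), 3), ((3, 3), 4), ((3, 4), 1), ((3, 68), 2), ((4, 0), 1), ((4, 5), 2), ((4,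 11), 4), ((4, 12), 4), ((4, 29), 4), ((4, 38), 2), ((4, 40), 2), ((4, 49), 1), ((4, 55), 2), ((4, 105), 2), ((4, 106), 1), ((4, 119), 4), ((4, 7), 2), ((4, 31), 2), ((4, 43), 2), ((4, 48), 1), ((4, 69), 1), ((4, 82), 2), ((3, 1), 1), ((3, 5), 4), ((3, 7), 4), ((3, 8), 3), ((3, 9), 2), ((3, 15), 3), ((3, 16), 3), ((3, 21), 4), ((3, 29), 2), ((3, 39), 3), ((3, 42), 4), ((4, 26), 1), ((4, 54), 3), ((4, 56), 2), ((4, 74), 2), ((4, 80), 2), ((4, 89), 4), ((4, 99), 1), ((4, 103), 1), ((4, 104), 3), ((4, 108), 1), ((4, 116), 1), ((4, 6), 2), ((4, 102), 4), ((4, 113), 2), ((4, 2), 1), ((4, 3), 3), ((4, 4), 4), ((4, 13), 3)],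
  [((0, 7), 4), ((0, 8), 1), ((0, 16), 4), ((0, 18), 1), ((0, 34), 4), ((0, 62), 4), ((0, 94), 4), ((1, 54), 3), ((2, 92), 3), ((1, 0), 1), ((1, 2), 4), ((1, 4), 1), ((1, 6), 1), ((1, 8), 4), ((1, 10), 1), ((1, 14), 3), ((1, 16), 2), ((1, 18), 3), ((1, 20), 2), ((1, 48), 3), ((1, 56), 2), ((1, 59), 2), ((1, 63), 3), ((1, 76), 2), ((2, 0), 3), ((2, 1), 2), ((2, 3), 4), ((2, 5), 1), ((2, 9), 2), ((2, 11), 1), ((2, 13), 1), ((2, 15), 3), ((2, 23), 2), ((2, 27), 3), ((2, 29), 4), ((2, 31), 4), ((2, 38), 1), ((2, 60), 4), ((2, 77), 2), ((3, 23), 4), ((3, 55), 3), ((3, 92), 4), ((3, 20), 2), ((3, 51), 2), ((3, 71), 1), ((3, 43), 1), ((3, 52), 1), ((3, 74), 4), ((4, 8), 4), ((4, 37), 1), ((4, 44), 4), ((4, 51), 1), ((4, 75), 3), ((4, 92), 2), ((4, 95), 2), ((4, 90), 4), ((3, 3), 4), ((3, 4), 4), ((4, 0), 4), ((4, 5), 1), ((4, 12), 2),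 ((4, 29), 1), ((4, 38), 1), ((4, 40), 4), ((4, 49), 2), ((4, 105), 3), ((4, 106), 1), ((4, 119), 2), ((4, 7), 3), ((4, 31), 1), ((4, 58), 1), ((4, 69), 2), ((4, 82), 3), ((3, 1), 2), ((3, 7), 4), ((3, 8), 1), ((3, 9), 2), ((3, 15), 4), ((3, 16), 2), ((3, 17), 4), ((3, 19), 2), ((3, 29), 2), ((3, 39), 4), ((3, 42), 3), ((4, 1), 1), ((4, 26), 1), ((4, 42), 2), ((4, 54), 4), ((4, 80), 1), ((4, 88), 2), ((4, 89), 4), ((4, 99), 2), ((4, 103), 4), ((4, 104), 1), ((4, 116), 4), ((4, 35), 3), ((4, 60), 2), ((4, 68), 2), ((4, 113), 3), ((4, 2), 1), ((4, 4), 1)],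
  [((0, 1), 4), ((0, 2), 1), ((0, 3), 4), ((0, 6), 1), ((0, 8), 4), ((0, 14), 1), ((0, 17), 4), ((0, 29), 1), ((0, 35), 4), ((0, 56), 1), ((0, 64), 4), ((0, 89), 1), ((0, 95), 4), ((0, 112), 1), ((1, 54), 4), ((1, 0), 3), ((1, 2), 4), ((1, 4), 1), ((1, 6), 4), ((1, 8), 1), ((1, 10), 1), ((1, 14), 4), ((1, 16), 1), ((1, 18), 3), ((1, 20), 4), ((1, 28), 4), ((1, 48), 3), ((1, 59), 2), ((1, 63), 4), ((1, 76), 2), ((2, 0), 4), ((2, 1), 3), ((2, 3), 2), ((2, 5), 2), ((2, 7), 3), ((2, 9), 2), ((2, 11), 4), ((2, 13), 3), ((2, 15), 2), ((2, 27), 2), ((2, 29), 3), ((2, 31), 2), ((2, 60), 4), ((2, 77), 4), ((2, 82), 3), ((3, 23), 1), ((3, 92), 2), ((3, 20), 2), ((3, 11), 4), ((3, 71), 4), ((3, 43), 1), ((3, 52), 1), ((3, 69), 4), ((3, 74), 3), ((4, 8), 1), ((4, 9), 4), ((4, 37), 3), ((4, 44), 4), ((4, 75), 4), ((4, 78), 3), ((4, 92), 1),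 ((4, 95), 1), ((4, 90), 3), ((3, 4), 2), ((3, 68), 1), ((4, 0), 4), ((4, 5), 3), ((4, 11), 3), ((4, 12), 1), ((4, 29), 2), ((4, 38), 3), ((4, 40), 2), ((4, 49), 1), ((4, 55), 2), ((4, 105), 4), ((4, 106), 3), ((4, 119), 2), ((4, 7), 1), ((4, 31), 4), ((4, 48), 1), ((4, 58), 1), ((4, 69), 4), ((4, 82), 3), ((3, 1), 1), ((3, 5), 3), ((3, 7), 4), ((3, 8), 3), ((3, 15), 2), ((3, 16), 3), ((3, 17), 3), ((3, 19), 1), ((3, 29), 3), ((3, 30), 1), ((3, 42), 1), ((4, 1), 4), ((4, 26), 2), ((4, 42), 3), ((4, 54), 1), ((4, 56), 4), ((4, 72), 3), ((4, 74), 2), ((4, 80), 2), ((4, 88), 4), ((4, 99), 2), ((4, 104), 3), ((4, 116), 2), ((4, 6), 2), ((4, 18), 4), ((4, 60), 1), ((4, 68), 1), ((4, 113), 4), ((4, 2), 3), ((4, 4), 4), ((4, 13), 1)],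
  [((0, 113), 1)],
  [((0, 1), 4), ((0, 2), 1), ((0, 3), 4), ((0, 5), 1), ((0, 8), 4), ((0, 11), 1), ((0, 17), 4), ((0, 24), 1), ((0, 36), 4), ((0, 46), 1), ((0, 66), 4), ((0, 97), 4), ((1, 54), 1), ((2, 92), 1), ((1, 4), 2), ((1, 6), 2), ((1, 8), 3), ((1, 10), 1), ((1, 12), 2), ((1, 14), 4), ((1, 18), 3), ((1, 20), 1), ((1, 28), 1), ((1, 48), 2), ((1, 56), 2), ((1, 59), 4), ((1, 63), 2), ((1, 76), 2), ((2, 0), 4), ((2, 1), 2), ((2, 3), 1), ((2, 5), 1), ((2, 7), 2), ((2, 9), 1), ((2, 11), 4), ((2, 13), 3), ((2, 15), 4), ((2, 27), 4), ((2, 31), 1), ((2, 38), 2), ((2, 82), 2), ((3, 23), 4), ((3, 55), 4), ((3, 116), 4), ((3, 92), 3), ((3, 20), 3), ((3, 11), 4), ((3, 73), 2), ((3, 52), 1), ((3, 69), 1), ((3, 74), 1), ((4, 8), 2), ((4, 9), 3), ((4, 37), 1), ((4, 44), 2), ((4, 51), 4), ((4, 75), 2), ((4, 92), 4), ((4, 95), 1), ((4, 90),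 4), ((3, 3), 4), ((3, 4), 2), ((4, 0), 1), ((4, 5), 3), ((4, 11), 1), ((4, 12), 3), ((4, 29), 2), ((4, 38), 2), ((4, 40), 1), ((4, 49), 3), ((4, 55), 3), ((4, 101), 4), ((4, 105), 4), ((4, 119), 4), ((4, 7), 2), ((4, 31), 2), ((4, 48), 3), ((4, 58), 4), ((4, 69), 3), ((3, 1), 4), ((3, 5), 1), ((3, 8), 3), ((3, 9), 3), ((3, 15), 1), ((3, 16), 1), ((3, 19), 1), ((3, 21), 2), ((3, 29), 4), ((3, 39), 2), ((4, 1), 2), ((4, 26), 2), ((4, 42), 3), ((4, 54), 1), ((4, 74), 2), ((4, 80), 2), ((4, 88), 4), ((4, 89), 2), ((4, 99), 2), ((4, 103), 3), ((4, 104), 2), ((4, 108), 1), ((4, 6), 4), ((4, 18), 3), ((4, 35), 3), ((4, 60), 1), ((4, 68), 2), ((4, 102), 4), ((4, 2), 2), ((4, 3), 1), ((4, 4), 4), ((4, 13), 2)],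
  [((0, 7), 1), ((0, 8), 4), ((0, 16), 1), ((0, 18), 4), ((0, 34), 1), ((0, 37), 4), ((0, 68), 4), ((0, 98), 4), ((1, 54), 2), ((2, 92), 2), ((1, 0), 4), ((1, 2), 1), ((1, 4), 4), ((1, 6), 4), ((1, 8), 1), ((1, 10), 4), ((1, 14), 2), ((1, 16), 3), ((1, 18), 3), ((1, 20), 3), ((1, 48), 2), ((1, 56), 3), ((1, 59), 3), ((1, 63), 2), ((1, 76), 3), ((2, 0), 2), ((2, 1), 3), ((2, 3), 1), ((2, 5), 4), ((2, 9), 3), ((2, 11), 4), ((2, 13), 4), ((2, 15), 2), ((2, 23), 3), ((2, 27), 2), ((2, 29), 1), ((2, 31), 1), ((2, 38), 4), ((2, 60), 1), ((2, 77), 3), ((3, 23), 1), ((3, 55), 2), ((3, 92), 1), ((3, 20), 3), ((3, 51), 3), ((3, 71), 4), ((3, 43), 4), ((3, 52), 4), ((3, 74), 1), ((4, 8), 1), ((4, 37), 4), ((4, 44), 1), ((4, 51), 4), ((4, 75), 2), ((4, 92), 3), ((4, 95), 3), ((4, 90), 1), ((3, 3), 1), ((3, 4), 1), ((4, 0), 1), ((4, 5), 4),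 ((4, 12), 3), ((4, 29), 4), ((4, 38), 4), ((4, 40), 1), ((4, 49), 3), ((4, 105), 2), ((4, 106), 4), ((4, 119), 3), ((4, 7), 2), ((4, 31), 4), ((4, 58), 4), ((4, 69), 3), ((4, 82), 2), ((3, 1), 3), ((3, 7), 1), ((3, 8), 4), ((3, 9), 3), ((3, 15), 1), ((3, 16), 3), ((3, 17), 1), ((3, 19), 3), ((3, 29), 3), ((3, 39), 1), ((3, 42), 2), ((4, 1), 4), ((4, 26), 4), ((4, 42), 3), ((4, 54), 1), ((4, 80), 4), ((4, 88), 3), ((4, 89), 1), ((4, 99), 3), ((4, 103), 1), ((4, 104), 4), ((4, 116), 1), ((4, 35), 2), ((4, 60), 3), ((4, 68), 3), ((4, 113), 2), ((4, 2), 4), ((4, 4), 4)],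
  [((0, 115), 1)],
  [((0, 21), 4), ((0, 22), 1), ((0, 41), 4), ((0, 42), 1), ((0, 74), 4), ((0, 75), 1), ((0, 100), 4), ((0, 102), 1), ((1, 54), 4), ((1, 2), 3), ((1, 4), 4), ((1, 6), 1), ((1, 8), 1), ((1, 10), 4), ((1, 14), 2), ((1, 18), 2), ((1, 20), 1), ((1, 48), 3), ((1, 56), 1), ((1, 59), 2), ((1, 63), 1), ((1, 76), 3), ((2, 1), 2), ((2, 3), 1), ((2, 5), 4), ((2, 9), 2), ((2, 11), 1), ((2, 13), 2), ((2, 15), 3), ((2, 23), 3), ((2, 27), 4), ((2, 29), 2), ((2, 31), 2), ((2, 38), 1), ((2, 60), 3), ((2, 82), 1), ((3, 55), 2), ((3, 103), 4), ((3, 116), 4), ((3, 92), 1), ((3, 11), 4), ((3, 71), 1), ((3, 73), 3), ((3, 52), 2), ((3, 69), 4), ((3, 74), 1), ((4, 9), 4), ((4, 37), 4), ((4, 44), 1), ((4, 75), 4), ((4, 92), 2), ((4, 95), 1), ((4, 90), 3), ((3, 3), 1), ((3, 4), 4), ((3, 68), 2), ((4, 0), 4), ((4, 5), 2), ((4, 11), 4), ((4,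 12), 3), ((4, 29), 2), ((4, 38), 4), ((4, 49), 2), ((4, 55), 1), ((4, 101), 2), ((4, 105), 1), ((4, 106), 4), ((4, 119), 2), ((4, 7), 4), ((4, 43), 3), ((4, 48), 4), ((4, 58), 2), ((4, 69), 2), ((4, 82), 1), ((3, 1), 2), ((3, 5), 1), ((3, 7), 2), ((3, 8), 4), ((3, 9), 4), ((3, 15), 2), ((3, 17), 1), ((3, 19), 2), ((3, 21), 1), ((3, 29), 1), ((3, 39), 4), ((3, 42), 3), ((4, 1), 4), ((4, 42), 1), ((4, 54), 2), ((4, 56), 1), ((4, 72), 4), ((4, 74), 2), ((4, 80), 2), ((4, 88), 2), ((4, 89), 1), ((4, 99), 4), ((4, 103), 1), ((4, 104), 3), ((4, 116), 3), ((4, 18), 4), ((4, 35), 1), ((4, 60), 2), ((4, 68), 1), ((4, 102), 3), ((4, 113), 2), ((4, 2), 2), ((4, 3), 1), ((4, 4), 3)],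
  [((0, 116), 1)],
  [((0, 117), 1)],
  [((0, 23), 4), ((0, 24), 1), ((0, 43), 4), ((0, 45), 1), ((0, 76), 4), ((0, 79), 1), ((0, 103), 4), ((0, 105), 1), ((1, 54), 1), ((2, 92), 2), ((1, 2), 1), ((1, 6), 4), ((1, 8), 3), ((1, 16), 2), ((1, 20), 4), ((1, 28), 4), ((1, 56), 4), ((1, 59), 2), ((1, 63), 1), ((2, 0), 4), ((2, 1), 3), ((2, 5), 4), ((2, 9), 3), ((2, 11), 1), ((2, 13), 3), ((2, 15), 2), ((2, 23), 3), ((2, 27), 2), ((2, 29), 1), ((2, 60), 3), ((2, 82), 1), ((3, 23), 4), ((3, 55), 1), ((3, 103), 1), ((3, 116), 2), ((3, 92), 1), ((3, 11), 1), ((3, 51), 1), ((3, 73), 3), ((3, 43), 1), ((3, 52), 1), ((3, 69), 1), ((3, 74), 4), ((4, 8), 2), ((4, 51), 2), ((4, 75), 2), ((4, 92), 3), ((4, 95), 4), ((4, 90), 1), ((3, 3), 3), ((3, 4), 4), ((3, 68), 4), ((4, 0), 3), ((4, 5), 2), ((4, 11), 3), ((4, 12), 2), ((4, 29), 4), ((4, 38),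 3), ((4, 40), 3), ((4, 49), 4), ((4, 55), 1), ((4, 101), 4), ((4, 106), 4), ((4, 119), 2), ((4, 31), 3), ((4, 43), 4), ((4, 48), 1), ((4, 58), 4), ((4, 69), 4), ((3, 5), 4), ((3, 8), 2), ((3, 9), 4), ((3, 16), 1), ((3, 17), 4), ((3, 19), 3), ((3, 21), 1), ((3, 29), 2), ((3, 39), 3), ((3, 42), 4), ((4, 1), 1), ((4, 26), 3), ((4, 42), 1), ((4, 72), 3), ((4, 74), 2), ((4, 80), 3), ((4, 88), 1), ((4, 89), 4), ((4, 99), 1), ((4, 103), 2), ((4, 104), 4), ((4, 108), 4), ((4, 116), 2), ((4, 6), 1), ((4, 18), 1), ((4, 35), 2), ((4, 60), 2), ((4, 68), 1), ((4, 102), 1), ((4, 113), 2), ((4, 3), 3), ((4, 4), 2), ((4, 13), 4)],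
  [((0, 1), 1), ((0, 2), 4), ((0, 4), 1), ((0, 5), 4), ((0, 11), 4), ((0, 23), 4), ((0, 44), 4), ((0, 78), 4), ((0, 104), 4), ((1, 54), 4), ((2, 92), 2), ((1, 0), 3), ((1, 2), 4), ((1, 4), 1), ((1, 6), 3), ((1, 8), 3), ((1, 10), 4), ((1, 12), 2), ((1, 18), 4), ((1, 28), 2), ((1, 48), 2), ((1, 56), 1), ((1, 59), 1), ((1, 63), 3), ((2, 1), 2), ((2, 3), 1), ((2, 7), 4), ((2, 9), 3), ((2, 13), 3), ((2, 15), 2), ((2, 23), 4), ((2, 27), 3), ((2, 29), 2), ((2, 60), 3), ((2, 82), 2), ((3, 23), 4), ((3, 55), 2), ((3, 92), 1), ((3, 20), 1), ((3, 11), 3), ((3, 51), 1), ((3, 71), 1), ((3, 73), 2), ((3, 52), 3), ((3, 69), 2), ((3, 74), 1), ((4, 9), 3), ((4, 37), 4), ((4, 44), 1), ((4, 51), 3), ((4, 75), 2), ((4, 78), 1), ((4, 92), 4), ((4, 90), 1), ((3, 3), 1), ((4, 0), 3), ((4, 5), 1), ((4, 11), 4), ((4, 12), 2), ((4, 29), 1), ((4, 38), 4),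 ((4, 40), 4), ((4, 49), 3), ((4, 55), 2), ((4, 101), 1), ((4, 105), 1), ((4, 106), 1), ((4, 119), 2), ((4, 7), 3), ((4, 31), 4), ((4, 48), 2), ((4, 69), 2), ((4, 82), 4), ((3, 1), 3), ((3, 5), 2), ((3, 7), 1), ((3, 8), 1), ((3, 15), 2), ((3, 16), 4), ((3, 19), 2), ((3, 21), 2), ((3, 29), 2), ((3, 30), 3), ((3, 42), 1), ((4, 26), 1), ((4, 42), 3), ((4, 54), 1), ((4, 72), 4), ((4, 74), 1), ((4, 80), 3), ((4, 88), 2), ((4, 99), 4), ((4, 103), 3), ((4, 108), 1), ((4, 116), 1), ((4, 6), 1), ((4, 60), 2), ((4, 68), 2), ((4, 113), 1), ((4, 2), 1), ((4, 3), 2), ((4, 4), 1), ((4, 13), 3)],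
  [((0, 23), 1), ((0, 24), 4), ((0, 43), 1), ((0, 45), 4), ((0, 76), 1), ((0, 79), 4), ((0, 103), 1), ((0, 105), 4), ((0, 118), 1), ((1, 54), 3), ((2, 92), 2), ((1, 0), 2), ((1, 2), 2), ((1, 4), 2), ((1, 6), 2), ((1, 10), 4), ((1, 12), 1), ((1, 16), 2), ((1, 18), 4), ((1, 28), 3), ((1, 48), 1), ((1, 56), 1), ((1, 59), 4), ((1, 76), 4), ((2, 0), 4), ((2, 1), 3), ((2, 3), 1), ((2, 5), 4), ((2, 9), 4), ((2, 11), 2), ((2, 13), 3), ((2, 23), 2), ((2, 27), 3), ((2, 29), 2), ((2, 31), 1), ((2, 38), 3), ((2, 77), 4), ((2, 82), 2), ((3, 23), 3), ((3, 55), 1), ((3, 116), 2), ((3, 92), 3), ((3, 20), 2), ((3, 73), 3), ((3, 43), 3), ((3, 52), 4), ((3, 69), 4), ((3, 74), 2), ((4, 8), 4), ((4, 9), 1), ((4, 37), 1), ((4, 51), 4), ((4, 78), 4), ((4, 92), 4), ((4, 95), 1), ((4, 90), 1), ((3, 3), 3), ((3, 4), 4), ((3, 68), 4), ((4, 0), 2), ((4, 5),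 2), ((4, 29), 3), ((4, 38), 1), ((4, 40), 3), ((4, 49), 4), ((4, 55), 1), ((4, 101), 2), ((4, 105), 2), ((4, 106), 3), ((4, 119), 1), ((4, 7), 3), ((4, 31), 3), ((4, 69), 3), ((4, 82), 3), ((3, 1), 4), ((3, 5), 3), ((3, 7), 4), ((3, 8), 3), ((3, 9), 2), ((3, 15), 2), ((3, 16), 3), ((3, 17), 1), ((3, 19), 2), ((3, 21), 3), ((3, 39), 3), ((3, 42), 2), ((4, 1), 1), ((4, 26), 1), ((4, 42), 4), ((4, 54), 2), ((4, 56), 3), ((4, 72), 1), ((4, 74), 2), ((4, 80), 3), ((4, 88), 1), ((4, 89), 2), ((4, 99), 4), ((4, 103), 1), ((4, 104), 4), ((4, 108), 3), ((4, 116), 3), ((4, 6), 3), ((4, 35), 3), ((4, 68), 3), ((4, 102), 2), ((4, 113), 1), ((4, 2), 1), ((4, 13), 1)],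
  [((0, 5), 4), ((0, 6), 1), ((0, 12), 4), ((0, 14), 1), ((0, 25), 4), ((0, 30), 1), ((0, 47), 4), ((0, 82), 4), ((0, 106), 4), ((2, 92), 1), ((1, 0), 1), ((1, 2), 4), ((1, 4), 2), ((1, 6), 4), ((1, 14), 4), ((1, 16), 4), ((1, 20), 4), ((1, 28), 2), ((1, 48), 3), ((1, 56), 4), ((1, 63), 4), ((1, 76), 2), ((2, 0), 4), ((2, 1), 2), ((2, 5), 3), ((2, 9), 1), ((2, 11), 3), ((2, 13), 4), ((2, 23), 4), ((2, 27), 1), ((2, 29), 4), ((2, 31), 2), ((2, 38), 4), ((2, 77), 3), ((2, 82), 3), ((3, 103), 2), ((3, 116), 4), ((3, 20), 3), ((3, 73), 3), ((3, 43), 4), ((3, 52), 1), ((3, 69), 2), ((3, 74), 3), ((4, 8), 3), ((4, 9), 3), ((4, 37), 3), ((4, 75), 1), ((4, 78), 2), ((4, 92), 1), ((4, 95), 4), ((4, 90), 4), ((3, 3), 2), ((3, 4), 4), ((3, 68), 1), ((4, 0), 2), ((4, 5), 4), ((4, 12), 3), ((4, 29), 1), ((4, 38), 2), ((4, 40), 2), ((4, 49),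 3), ((4, 55), 4), ((4, 105), 3), ((4, 106), 1), ((4, 119), 1), ((4, 7), 3), ((4, 31), 3), ((4, 43), 3), ((4, 48), 2), ((4, 69), 1), ((4, 82), 2), ((3, 1), 4), ((3, 7), 3), ((3, 8), 1), ((3, 9), 2), ((3, 15), 1), ((3, 16), 3), ((3, 17), 1), ((3, 21), 3), ((3, 30), 4), ((3, 39), 4), ((4, 1), 3), ((4, 26), 1), ((4, 56), 4), ((4, 74), 2), ((4, 80), 2), ((4, 88), 2), ((4, 99), 2), ((4, 103), 3), ((4, 104), 2), ((4, 108), 4), ((4, 116), 2), ((4, 6), 2), ((4, 18), 3), ((4, 35), 4), ((4, 60), 3), ((4, 68), 1), ((4, 102), 1), ((4, 113), 3), ((4, 4), 2), ((4, 13), 3)],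
  [((0, 1), 1), ((0, 2), 4), ((0, 3), 1), ((0, 6), 4), ((0, 7), 1), ((0, 13), 4), ((0, 16), 1), ((0, 27), 4), ((0, 34), 1), ((0, 51), 4), ((0, 63), 1), ((0, 84), 4), ((0, 107), 4), ((1, 54), 3), ((2, 92), 1), ((1, 0), 4), ((1, 2), 3), ((1, 4), 3), ((1, 6), 1), ((1, 8), 1), ((1, 10), 1), ((1, 14), 4), ((1, 16), 3), ((1, 20), 1), ((1, 28), 3), ((1, 48), 3), ((1, 56), 1), ((1, 59), 2), ((2, 1), 4), ((2, 3), 1), ((2, 5), 1), ((2, 7), 2), ((2, 9), 2), ((2, 11), 1), ((2, 13), 1), ((2, 15), 1), ((2, 23), 4), ((2, 27), 4), ((2, 29), 2), ((2, 31), 3), ((2, 38), 2), ((2, 60), 3), ((2, 77), 2), ((2, 82), 4), ((3, 23), 2), ((3, 103), 4), ((3, 116), 1), ((3, 92), 3), ((3, 20), 1), ((3, 11), 2), ((3, 51), 2), ((3, 73), 3), ((3, 52), 4), ((3, 69), 2), ((3, 74), 3), ((4, 8), 4), ((4, 37), 2), ((4, 44), 4), ((4, 51), 2), ((4, 75), 2), ((4, 78),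 2), ((4, 92), 3), ((4, 90), 1), ((3, 3), 2), ((3, 4), 4), ((3, 68), 1), ((4, 0), 2), ((4, 5), 2), ((4, 11), 2), ((4, 12), 1), ((4, 29), 4), ((4, 40), 3), ((4, 49), 3), ((4, 101), 3), ((4, 105), 2), ((4, 106), 1), ((4, 119), 1), ((4, 31), 3), ((4, 43), 3), ((4, 48), 2), ((4, 69), 4), ((4, 82), 2), ((3, 1), 1), ((3, 5), 2), ((3, 7), 4), ((3, 8), 1), ((3, 9), 4), ((3, 16), 2), ((3, 17), 3), ((3, 21), 3), ((3, 30), 3), ((3, 42), 3), ((4, 1), 3), ((4, 42), 4), ((4, 54), 3), ((4, 56), 3), ((4, 72), 3), ((4, 74), 1), ((4, 80), 4), ((4, 88), 3), ((4, 89), 2), ((4, 104), 3), ((4, 108), 4), ((4, 116), 3), ((4, 18), 1), ((4, 60), 4), ((4, 102), 4), ((4, 113), 3), ((4, 2), 1), ((4, 3), 1), ((4, 4), 3), ((4, 13), 4)],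
  [((0, 1), 1), ((0, 2), 4), ((0, 3), 1), ((0, 6), 4), ((0, 8), 1), ((0, 13), 4), ((0, 17), 1), ((0, 28), 4), ((0, 36), 1), ((0, 53), 4), ((0, 66), 1), ((0, 85), 4), ((0, 97), 1), ((0, 108), 4), ((0, 114), 1), ((1, 54), 4), ((2, 92), 2), ((1, 0), 3), ((1, 2), 2), ((1, 4), 4), ((1, 6), 2), ((1, 10), 2), ((1, 12), 4), ((1, 14), 4), ((1, 16), 3), ((1, 18), 4), ((1, 20), 4), ((1, 48), 1), ((1, 56), 2), ((1, 59), 4), ((1, 63), 1), ((2, 0), 3), ((2, 1), 1), ((2, 3), 4), ((2, 5), 4), ((2, 7), 3), ((2, 9), 4), ((2, 23), 1), ((2, 27), 4), ((2, 31), 2), ((2, 38), 1), ((2, 60), 4), ((2, 82), 3), ((3, 23), 3), ((3, 55), 2), ((3, 116), 4), ((3, 92), 3), ((3, 20), 2), ((3, 51), 3), ((3, 71), 3), ((3, 43), 3), ((3, 69), 2), ((4, 8), 3), ((4, 9), 2), ((4, 37), 4), ((4, 44), 3), ((4, 51), 1), ((4, 78), 4), ((4, 92), 4), ((4, 95), 3), ((4, 90), 1),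 ((3, 3), 2), ((3, 4), 2), ((3, 68), 1), ((4, 0), 1), ((4, 5), 2), ((4, 29), 3), ((4, 38), 2), ((4, 40), 1), ((4, 49), 2), ((4, 101), 1), ((4, 106), 2), ((4, 119), 2), ((4, 31), 3), ((4, 48), 1), ((4, 58), 3), ((4, 69), 3), ((4, 82), 4), ((3, 5), 2), ((3, 7), 4), ((3, 8), 2), ((3, 9), 1), ((3, 16), 2), ((3, 17), 4), ((3, 19), 3), ((3, 21), 1), ((3, 29), 1), ((3, 30), 4), ((3, 39), 3), ((3, 42), 3), ((4, 1), 2), ((4, 26), 3), ((4, 42), 2), ((4, 54), 1), ((4, 72), 1), ((4, 74), 3), ((4, 80), 1), ((4, 88), 4), ((4, 99), 4), ((4, 103), 4), ((4, 104), 3), ((4, 108), 4), ((4, 18), 4), ((4, 60), 4), ((4, 68), 3), ((4, 102), 3), ((4, 113), 2), ((4, 3), 3), ((4, 4), 2), ((4, 13), 2)],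
  [((0, 27), 1), ((0, 28), 4), ((0, 51), 1), ((0, 54), 4), ((0, 84), 1), ((0, 86), 4), ((0, 107), 1), ((0, 109), 4), ((1, 54), 2), ((2, 92), 4), ((1, 0), 2), ((1, 4), 2), ((1, 6), 4), ((1, 10), 4), ((1, 12), 2), ((1, 14), 3), ((1, 16), 2), ((1, 18), 3), ((1, 20), 4), ((1, 28), 1), ((1, 48), 3), ((1, 56), 1), ((1, 59), 2), ((1, 76), 2), ((2, 0), 2), ((2, 1), 4), ((2, 3), 1), ((2, 5), 1), ((2, 7), 4), ((2, 11), 2), ((2, 13), 3), ((2, 23), 3), ((2, 27), 1), ((2, 29), 4), ((2, 31), 1), ((2, 38), 3), ((2, 60), 4), ((2, 77), 1), ((2, 82), 3), ((3, 23), 4), ((3, 55), 4), ((3, 103), 1), ((3, 116), 1), ((3, 92), 4), ((3, 20), 3), ((3, 11), 4), ((3, 51), 2), ((3, 43), 1), ((3, 52), 2), ((3, 69), 3), ((3, 74), 1), ((4, 8), 1), ((4, 9), 3), ((4, 37), 3), ((4, 44), 2), ((4, 51), 4), ((4, 75), 2), ((4, 78), 3), ((4, 92), 4), ((3, 3), 1), ((3,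 4), 4), ((3, 68), 3), ((4, 5), 3), ((4, 11), 2), ((4, 12), 3), ((4, 38), 3), ((4, 40), 4), ((4, 49), 1), ((4, 55), 4), ((4, 101), 4), ((4, 106), 1), ((4, 119), 3), ((4, 7), 2), ((4, 31), 3), ((4, 43), 4), ((4, 48), 3), ((4, 58), 3), ((4, 69), 3), ((4, 82), 4), ((3, 1), 1), ((3, 5), 2), ((3, 7), 4), ((3, 8), 1), ((3, 9), 4), ((3, 16), 2), ((3, 19), 3), ((3, 21), 1), ((3, 29), 3), ((3, 39), 1), ((4, 42), 4), ((4, 54), 4), ((4, 56), 4), ((4, 72), 3), ((4, 74), 2), ((4, 80), 3), ((4, 88), 3), ((4, 89), 1), ((4, 99), 1), ((4, 104), 4), ((4, 116), 4), ((4, 6), 3), ((4, 60), 2), ((4, 68), 2), ((4, 102), 1), ((4, 113), 3), ((4, 3), 1), ((4, 4), 3)],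
  [((0, 119), 1)],
  [((0, 5), 1), ((0, 6), 4), ((0, 12), 1), ((0, 14), 4), ((0, 26), 1), ((0, 29), 4), ((0, 50), 1), ((0, 55), 4), ((0, 88), 4), ((0, 111), 4), ((2, 92), 4), ((1, 0), 2), ((1, 2), 1), ((1, 4), 3), ((1, 8), 3), ((1, 10), 2), ((1, 12), 4), ((1, 14), 4), ((1, 16), 4), ((1, 48), 2), ((1, 56), 1), ((1, 59), 4), ((1, 63), 4), ((2, 0), 1), ((2, 1), 3), ((2, 3), 4), ((2, 5), 3), ((2, 7), 2), ((2, 9), 2), ((2, 11), 2), ((2, 13), 1), ((2, 15), 1), ((2, 23), 4), ((2, 27), 1), ((2, 29), 1), ((2, 31), 1), ((2, 38), 4), ((2, 60), 2), ((2, 77), 3), ((2, 82), 1), ((3, 23), 2), ((3, 55), 1), ((3, 92), 3), ((3, 20), 1), ((3, 11), 1), ((3, 51), 2), ((3, 71), 4), ((3, 73), 3), ((3, 43), 3), ((3, 69), 2), ((3, 74), 4), ((4, 8), 3), ((4, 9), 4), ((4, 37), 1), ((4, 44), 4), ((4, 51), 2), ((4, 75), 4), ((4, 78), 1), ((4, 92), 1), ((3,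 3), 3), ((3, 4), 2), ((3, 68), 3), ((4, 0), 2), ((4, 5), 4), ((4, 11), 4), ((4, 12), 1), ((4, 38), 2), ((4, 40), 4), ((4, 49), 2), ((4, 55), 1), ((4, 101), 2), ((4, 105), 1), ((4, 106), 2), ((4, 119), 4), ((4, 31), 1), ((4, 43), 1), ((4, 58), 1), ((4, 69), 4), ((4, 82), 3), ((3, 1), 1), ((3, 7), 4), ((3, 8), 2), ((3, 9), 2), ((3, 15), 4), ((3, 17), 1), ((3, 19), 2), ((3, 29), 2), ((3, 30), 1), ((3, 39), 1), ((3, 42), 1), ((4, 1), 2), ((4, 26), 4), ((4, 42), 2), ((4, 54), 1), ((4, 56), 4), ((4, 72), 4), ((4, 74), 1), ((4, 80), 4), ((4, 88), 1), ((4, 89), 2), ((4, 99), 4), ((4, 103), 2), ((4, 108), 1), ((4, 116), 1), ((4, 6), 3), ((4, 18), 1), ((4, 35), 4), ((4, 60), 2), ((4, 68), 3), ((4, 102), 3), ((4, 113), 2), ((4, 2), 4), ((4, 3), 1), ((4, 4), 4), ((4, 13), 1)],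
  [((0, 1), 1), ((0, 2), 4), ((0, 3), 1), ((0, 6), 4), ((0, 7), 1), ((0, 14), 4), ((0, 15), 1), ((0, 29), 4), ((0, 32), 1), ((0, 56), 4), ((0, 89), 4), ((0, 112), 4), ((1, 54), 4), ((2, 92), 3), ((1, 0), 4), ((1, 2), 2), ((1, 6), 4), ((1, 8), 3), ((1, 12), 4), ((1, 14), 4), ((1, 16), 1), ((1, 18), 1), ((1, 28), 4), ((1, 48), 4), ((1, 56), 2), ((1, 59), 1), ((1, 63), 1), ((1, 76), 3), ((2, 0), 2), ((2, 1), 4), ((2, 5), 4), ((2, 7), 4), ((2, 9), 1), ((2, 11), 1), ((2, 23), 3), ((2, 27), 3), ((2, 31), 3), ((2, 60), 2), ((2, 77), 2), ((3, 23), 4), ((3, 55), 4), ((3, 116), 1), ((3, 92), 1), ((3, 20), 3), ((3, 11), 1), ((3, 51), 1), ((3, 71), 1), ((3, 73), 1), ((3, 43), 2), ((3, 52), 2), ((3, 69), 1), ((3, 74), 2), ((4, 8), 3), ((4, 9), 2), ((4, 37), 3), ((4, 44), 1), ((4, 51), 3), ((4, 92), 4), ((4, 95), 4), ((4, 90), 2), ((3, 3), 3),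 ((3, 4), 2), ((3, 68), 4), ((4, 0), 3), ((4, 5), 4), ((4, 11), 4), ((4, 12), 4), ((4, 38), 4), ((4, 40), 2), ((4, 55), 3), ((4, 101), 4), ((4, 105), 4), ((4, 106), 2), ((4, 119), 1), ((4, 7), 1), ((4, 31), 4), ((4, 43), 3), ((4, 48), 4), ((4, 82), 2), ((3, 5), 1), ((3, 8), 1), ((3, 16), 2), ((3, 17), 4), ((3, 19), 3), ((3, 21), 4), ((3, 29), 2), ((3, 30), 1), ((3, 39), 4), ((4, 1), 2), ((4, 26), 3), ((4, 54), 4), ((4, 56), 2), ((4, 72), 1), ((4, 74), 3), ((4, 80), 4), ((4, 88), 4), ((4, 89), 4), ((4, 99), 2), ((4, 103), 4), ((4, 104), 1), ((4, 108), 3), ((4, 6), 3), ((4, 35), 2), ((4, 68), 1), ((4, 2), 1), ((4, 3), 3), ((4, 4), 1), ((4, 13), 1)],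
  [((0, 7), 1), ((0, 8), 4), ((0, 15), 1), ((0, 17), 4), ((0, 31), 1), ((0, 35), 4), ((0, 59), 1), ((0, 64), 4), ((0, 96), 4), ((0, 113), 4), ((1, 54), 1), ((1, 0), 2), ((1, 4), 3), ((1, 8), 1), ((1, 10), 1), ((1, 12), 2), ((1, 14), 1), ((1, 16), 3), ((1, 18), 3), ((1, 20), 1), ((1, 28), 4), ((1, 48), 4), ((1, 56), 2), ((1, 59), 4), ((1, 63), 4), ((2, 0), 4), ((2, 1), 2), ((2, 3), 2), ((2, 7), 2), ((2, 11), 4), ((2, 13), 2), ((2, 15), 2), ((2, 23), 1), ((2, 27), 4), ((2, 29), 2), ((2, 31), 4), ((2, 38), 3), ((2, 60), 1), ((2, 77), 3), ((2, 82), 2), ((3, 23), 4), ((3, 55), 3), ((3, 103), 2), ((3, 92), 1), ((3, 20), 4), ((3, 11), 1), ((3, 51), 2), ((3, 71), 1), ((3, 73), 1), ((3, 43), 4), ((3, 52), 4), ((3, 69), 4), ((3, 74), 1), ((4, 8), 3), ((4, 9), 2), ((4, 37), 3), ((4, 44), 1), ((4, 51), 2), ((4, 75), 4), ((4, 78), 1), ((4, 92),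 3), ((4, 95), 3), ((4, 90), 1), ((3, 4), 4), ((3, 68), 2), ((4, 0), 3), ((4, 5), 1), ((4, 11), 2), ((4, 12), 1), ((4, 29), 1), ((4, 38), 2), ((4, 40), 4), ((4, 49), 4), ((4, 55), 2), ((4, 101), 3), ((4, 105), 1), ((4, 106), 2), ((4, 119), 3), ((4, 7), 2), ((4, 31), 2), ((4, 43), 2), ((4, 48), 1), ((4, 69), 1), ((4, 82), 1), ((3, 1), 1), ((3, 7), 4), ((3, 9), 2), ((3, 16), 3), ((3, 17), 3), ((3, 19), 4), ((3, 30), 1), ((3, 39), 3), ((3, 42), 1), ((4, 1), 4), ((4, 26), 1), ((4, 42), 3), ((4, 54), 4), ((4, 56), 4), ((4, 72), 2), ((4, 74), 1), ((4, 80), 1), ((4, 89), 4), ((4, 99), 4), ((4, 103), 2), ((4, 108), 3), ((4, 116), 4), ((4, 18), 3), ((4, 35), 1), ((4, 60), 4), ((4, 68), 1), ((4, 102), 3), ((4, 2), 3), ((4, 3), 1), ((4, 4), 2), ((4, 13), 4)],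
  [((0, 7), 1), ((0, 8), 4), ((0, 16), 1), ((0, 17), 4), ((0, 33), 1), ((0, 36), 4), ((0, 60), 1), ((0, 66), 4), ((0, 93), 1), ((0, 97), 4), ((0, 114), 4), ((2, 92), 1), ((1, 4), 4), ((1, 6), 2), ((1, 10), 4), ((1, 12), 1), ((1, 14), 3), ((1, 16), 1), ((1, 18), 2), ((1, 20), 3), ((1, 48), 4), ((1, 56), 1), ((1, 63), 1), ((1, 76), 2), ((2, 0), 4), ((2, 1), 1), ((2, 3), 1), ((2, 5), 3), ((2, 7), 2), ((2, 9), 3), ((2, 11), 3), ((2, 13), 2), ((2, 23), 2), ((2, 27), 2), ((2, 38), 4), ((2, 60), 1), ((2, 82), 4), ((3, 23), 4), ((3, 55), 4), ((3, 92), 1), ((3, 20), 3), ((3, 51), 3), ((3, 71), 1), ((3, 73), 1), ((3, 43), 2), ((3, 52), 4), ((3, 74), 1), ((4, 8), 1), ((4, 37), 3), ((4, 44), 1), ((4, 78), 2), ((4, 92), 3), ((4, 95), 2), ((4, 90), 1), ((3, 3), 4), ((3, 68), 4), ((4, 0), 1), ((4, 5), 1), ((4, 11), 4), ((4, 12), 4), ((4, 38),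 3), ((4, 40), 3), ((4, 49), 1), ((4, 55), 2), ((4, 105), 4), ((4, 106), 4), ((4, 119), 4), ((4, 31), 3), ((4, 58), 3), ((4, 82), 1), ((3, 1), 1), ((3, 7), 2), ((3, 8), 3), ((3, 9), 4), ((3, 15), 1), ((3, 16), 4), ((3, 17), 1), ((3, 19), 4), ((3, 21), 4), ((3, 29), 4), ((4, 1), 3), ((4, 26), 4), ((4, 42), 3), ((4, 54), 1), ((4, 74), 2), ((4, 80), 3), ((4, 99), 4), ((4, 103), 3), ((4, 104), 2), ((4, 108), 1), ((4, 116), 1), ((4, 18), 1), ((4, 35), 4), ((4, 68), 2), ((4, 102), 2), ((4, 2), 4), ((4, 4), 3), ((4, 13), 1)],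
  [((0, 1), 4), ((0, 2), 1), ((0, 4), 4), ((0, 6), 1), ((0, 10), 4), ((0, 13), 1), ((0, 21), 4), ((0, 27), 1), ((0, 41), 4), ((0, 52), 1), ((0, 73), 4), ((0, 99), 4), ((0, 115), 4), ((2, 92), 4), ((1, 0), 3), ((1, 2), 4), ((1, 4), 1), ((1, 6), 2), ((1, 8), 4), ((1, 10), 3), ((1, 12), 3), ((1, 14), 1), ((1, 16), 4), ((1, 20), 2), ((1, 28), 4), ((1, 48), 3), ((1, 76), 1), ((2, 1), 1), ((2, 3), 1), ((2, 5), 4), ((2, 7), 2), ((2, 9), 4), ((2, 11), 2), ((2, 13), 1), ((2, 15), 1), ((2, 23), 4), ((2, 27), 3), ((2, 29), 3), ((2, 31), 4), ((2, 38), 1), ((2, 60), 1), ((2, 77), 1), ((3, 23), 1), ((3, 55), 4), ((3, 116), 4), ((3, 92), 1), ((3, 20), 1), ((3, 11), 3), ((3, 69), 1), ((3, 74), 1), ((4, 8), 2), ((4, 9), 1), ((4, 37), 4), ((4, 44), 4), ((4, 51), 1), ((4, 75), 1), ((4, 78), 1), ((4, 92), 1), ((4, 95), 1), ((3, 3), 4), ((3, 68), 4),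 ((4, 0), 3), ((4, 29), 1), ((4, 38), 3), ((4, 40), 4), ((4, 55), 3), ((4, 101), 3), ((4, 105), 1), ((4, 106), 1), ((4, 119), 1), ((4, 7), 3), ((4, 31), 2), ((4, 43), 2), ((4, 48), 1), ((4, 58), 1), ((4, 82), 1), ((3, 1), 2), ((3, 5), 1), ((3, 7), 1), ((3, 8), 4), ((3, 9), 3), ((3, 15), 3), ((3, 17), 3), ((3, 19), 4), ((3, 29), 3), ((3, 30), 2), ((3, 39), 1), ((3, 42), 4), ((4, 26), 4), ((4, 42), 2), ((4, 54), 1), ((4, 56), 4), ((4, 72), 2), ((4, 74), 1), ((4, 89), 3), ((4, 99), 3), ((4, 104), 4), ((4, 116), 2), ((4, 6), 2), ((4, 18), 2), ((4, 35), 2), ((4, 60), 3), ((4, 68), 3), ((4, 2), 4), ((4, 13), 2)],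
  [((0, 1), 4), ((0, 2), 1), ((0, 4), 4), ((0, 5), 1), ((0, 10), 4), ((0, 12), 1), ((0, 22), 4), ((0, 25), 1), ((0, 42), 4), ((0, 48), 1), ((0, 75), 4), ((0, 101), 4), ((0, 116), 4), ((1, 54), 3), ((2, 92), 1), ((1, 0), 2), ((1, 2), 4), ((1, 4), 4), ((1, 8), 1), ((1, 16), 1), ((1, 18), 4), ((1, 20), 3), ((1, 28), 4), ((1, 48), 1), ((1, 56), 2), ((1, 63), 4), ((1, 76), 3), ((2, 0), 1), ((2, 1), 4), ((2, 3), 2), ((2, 5), 4), ((2, 9), 4), ((2, 11), 1), ((2, 15), 3), ((2, 23), 4), ((2, 27), 3), ((2, 29), 1), ((2, 31), 1), ((2, 38), 3), ((2, 60), 2), ((2, 77), 3), ((2, 82), 4), ((3, 23), 3), ((3, 103), 1), ((3, 116), 3), ((3, 92), 2), ((3, 11), 1), ((3, 51), 3), ((3, 71), 4), ((3, 73), 4), ((3, 43), 3), ((3, 52), 3), ((3, 69), 4), ((3, 74), 2), ((4, 8), 2), ((4, 9), 3), ((4, 37), 1), ((4, 44), 3), ((4, 75), 3), ((4, 92), 3), ((4, 95),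 3), ((3, 3), 3), ((3, 4), 1), ((3, 68), 1), ((4, 0), 3), ((4, 5), 1), ((4, 11), 1), ((4, 29), 4), ((4, 38), 3), ((4, 40), 3), ((4, 55), 4), ((4, 105), 1), ((4, 7), 2), ((4, 31), 3), ((4, 43), 1), ((4, 48), 4), ((4, 58), 1), ((4, 69), 2), ((4, 82), 1), ((3, 5), 4), ((3, 7), 4), ((3, 8), 3), ((3, 15), 1), ((3, 16), 1), ((3, 17), 2), ((3, 29), 1), ((3, 30), 4), ((3, 39), 2), ((4, 1), 2), ((4, 26), 3), ((4, 42), 2), ((4, 54), 1), ((4, 56), 3), ((4, 72), 2), ((4, 80), 3), ((4, 88), 2), ((4, 89), 4), ((4, 99), 3), ((4, 103), 3), ((4, 104), 4), ((4, 108), 3), ((4, 116), 3), ((4, 6), 3), ((4, 18), 3), ((4, 35), 1), ((4, 60), 2), ((4, 68), 3), ((4, 102), 4), ((4, 113), 3), ((4, 2), 2), ((4, 3), 4), ((4, 4), 2), ((4, 13), 3)],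
  [((0, 1), 4), ((0, 2), 1), ((0, 4), 4), ((0, 6), 1), ((0, 10), 4), ((0, 13), 1), ((0, 22), 4), ((0, 28), 1), ((0, 42), 4), ((0, 54), 1), ((0, 75), 4), ((0, 86), 1), ((0, 102), 4), ((0, 109), 1), ((0, 117), 4), ((1, 54), 1), ((2, 92), 1), ((1, 0), 1), ((1, 10), 1), ((1, 12), 3), ((1, 14), 1), ((1, 16), 3), ((1, 18), 3), ((1, 20), 4), ((1, 48), 3), ((1, 56), 1), ((1, 63), 1), ((1, 76), 4), ((2, 0), 3), ((2, 1), 3), ((2, 3), 3), ((2, 7), 1), ((2, 9), 4), ((2, 11), 2), ((2, 13), 4), ((2, 23), 3), ((2, 29), 1), ((2, 38), 3), ((2, 60), 2), ((2, 77), 4), ((2, 82), 1), ((3, 23), 3), ((3, 55), 2), ((3, 103), 3), ((3, 116), 4), ((3, 92), 4), ((3, 20), 2), ((3, 11), 2), ((3, 51), 4), ((3, 71), 3), ((3, 73), 4), ((3, 43), 2), ((3, 52), 3), ((3, 69), 1), ((3, 74), 2), ((4, 8), 1), ((4, 9), 4), ((4, 75), 3), ((4, 78), 2), ((4, 92), 4), ((4,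 95), 1), ((4, 90), 1), ((3, 3), 1), ((3, 4), 4), ((3, 68), 1), ((4, 0), 2), ((4, 12), 2), ((4, 29), 3), ((4, 38), 1), ((4, 40), 1), ((4, 49), 3), ((4, 106), 3), ((4, 119), 4), ((4, 31), 1), ((4, 43), 4), ((4, 48), 3), ((4, 82), 2), ((3, 1), 2), ((3, 5), 2), ((3, 7), 4), ((3, 9), 2), ((3, 15), 4), ((3, 16), 4), ((3, 17), 2), ((3, 21), 1), ((3, 29), 4), ((3, 30), 2), ((3, 39), 2), ((3, 42), 1), ((4, 42), 3), ((4, 54), 1), ((4, 72), 4), ((4, 74), 1), ((4, 80), 1), ((4, 88), 2), ((4, 99), 1), ((4, 103), 3), ((4, 104), 2), ((4, 108), 4), ((4, 116), 4), ((4, 60), 4), ((4, 68), 1), ((4, 102), 4), ((4, 113), 1), ((4, 2), 2), ((4, 3), 1), ((4, 4), 4), ((4, 13), 2)],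
  [((0, 11), 4), ((0, 12), 1), ((0, 23), 4), ((0, 26), 1), ((0, 43), 4), ((0, 50), 1), ((0, 76), 4), ((0, 83), 1), ((0, 103), 4), ((0, 118), 4), ((1, 54), 2), ((2, 92), 3), ((1, 2), 3), ((1, 4), 4), ((1, 6), 2), ((1, 8), 3), ((1, 12), 4), ((1, 14), 1), ((1, 16), 3), ((1, 18), 1), ((1, 20), 1), ((1, 48), 3), ((1, 59), 4), ((1, 63), 2), ((1, 76), 2), ((2, 0), 1), ((2, 1), 3), ((2, 3), 3), ((2, 5), 4), ((2, 9), 4), ((2, 11), 4), ((2, 13), 4), ((2, 15), 1), ((2, 29), 3), ((2, 31), 3), ((2, 38), 3), ((2, 60), 3), ((2, 77), 4), ((2, 82), 1), ((3, 23), 1), ((3, 55), 1), ((3, 103), 3), ((3, 116), 1), ((3, 20), 3), ((3, 11), 4), ((3, 51), 2), ((3, 71), 4), ((3, 43), 1), ((3, 69), 3), ((3, 74), 3), ((4, 8), 1), ((4, 9), 2), ((4, 44), 2), ((4, 51), 4), ((4, 78), 3), ((4, 92), 2), ((4, 95), 4), ((4, 90), 4), ((3, 3), 2), ((3, 4), 4), ((3, 68),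 2), ((4, 0), 4), ((4, 5), 4), ((4, 12), 2), ((4, 29), 1), ((4, 38), 4), ((4, 40), 2), ((4, 49), 1), ((4, 55), 3), ((4, 101), 3), ((4, 105), 2), ((4, 106), 1), ((4, 119), 1), ((4, 7), 3), ((4, 31), 3), ((4, 43), 4), ((4, 48), 1), ((4, 58), 4), ((4, 69), 2), ((4, 82), 1), ((3, 1), 1), ((3, 5), 3), ((3, 7), 4), ((3, 15), 2), ((3, 17), 2), ((3, 19), 3), ((3, 21), 3), ((3, 29), 3), ((3, 39), 1), ((3, 42), 4), ((4, 26), 1), ((4, 42), 1), ((4, 54), 3), ((4, 56), 1), ((4, 72), 4), ((4, 80), 1), ((4, 89), 2), ((4, 99), 4), ((4, 103), 3), ((4, 104), 2), ((4, 108), 1), ((4, 116), 4), ((4, 6), 1), ((4, 18), 2), ((4, 35), 2), ((4, 60), 1), ((4, 68), 4), ((4, 102), 3), ((4, 113), 2), ((4, 4), 2), ((4, 13), 3)],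
  [((0, 13), 1), ((0, 14), 4), ((0, 27), 1), ((0, 29), 4), ((0, 51), 1), ((0, 55), 4), ((0, 84), 1), ((0, 87), 4), ((0, 110), 4), ((0, 119), 4), ((1, 54), 4), ((2, 92), 1), ((1, 0), 4), ((1, 4), 2), ((1, 6), 1), ((1, 8), 1), ((1, 12), 1), ((1, 14), 4), ((1, 16), 3), ((1, 20), 3), ((1, 48), 1), ((1, 56), 4), ((1, 63), 4), ((1, 76), 4), ((2, 3), 2), ((2, 5), 2), ((2, 7), 2), ((2, 9), 3), ((2, 11), 3), ((2, 13), 1), ((2, 15), 4), ((2, 27), 2), ((2, 29), 1), ((2, 31), 1), ((2, 38), 4), ((2, 60), 2), ((2, 77), 1), ((2, 82), 4), ((3, 55), 4), ((3, 103), 4), ((3, 116), 2), ((3, 92), 3), ((3, 20), 1), ((3, 11), 4), ((3, 51), 2), ((3, 71), 4), ((3, 73), 1), ((3, 43), 2), ((3, 52), 1), ((4, 9), 4), ((4, 37), 1), ((4, 44), 4), ((4, 51), 4), ((4, 75), 3), ((4, 78), 3), ((4, 92), 4), ((4, 95), 3), ((4, 90), 4), ((3, 3), 2), ((3, 68), 3), ((4,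 0), 4), ((4, 5), 3), ((4, 11), 1), ((4, 12), 2), ((4, 29), 1), ((4, 38), 2), ((4, 49), 3), ((4, 55), 1), ((4, 105), 4), ((4, 106), 2), ((4, 119), 4), ((4, 31), 3), ((4, 48), 4), ((4, 58), 1), ((4, 69), 2), ((4, 82), 3), ((3, 1), 3), ((3, 5), 3), ((3, 7), 1), ((3, 8), 4), ((3, 9), 1), ((3, 15), 4), ((3, 16), 4), ((3, 17), 1), ((3, 19), 3), ((3, 21), 3), ((3, 30), 1), ((3, 39), 3), ((3, 42), 1), ((4, 1), 4), ((4, 26), 3), ((4, 42), 2), ((4, 54), 4), ((4, 56), 1), ((4, 72), 4), ((4, 74), 4), ((4, 80), 2), ((4, 88), 2), ((4, 89), 3), ((4, 103), 2), ((4, 104), 3), ((4, 116), 1), ((4, 6), 2), ((4, 18), 3), ((4, 35), 2), ((4, 102), 3), ((4, 2), 2), ((4, 3), 4), ((4, 4), 3), ((4, 13), 1)],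
  [((0, 2), 1)],
  [((0, 4), 1)],
  [((0, 6), 1)],
  [((0, 8), 1)],
  [((0, 10), 1)],
  [((0, 12), 1)],
  [((0, 14), 1)],
  [((0, 16), 1)],
  [((0, 18), 1)],
  [((0, 20), 1)],
  [((0, 22), 1)],
  [((0, 24), 1)],
  [((0, 26), 1)],
  [((0, 28), 1)],
  [((0, 30), 1)],
  [((0, 32), 1)],
  [((0, 34), 1)],
  [((0, 36), 1)],
  [((0, 1), 4), ((0, 2), 1), ((0, 3), 4), ((0, 5), 1), ((0, 8), 4), ((0, 12), 1), ((0, 18), 4), ((0, 25), 1), ((1, 54), 2), ((2, 92), 3), ((1, 0), 4), ((1, 2), 4), ((1, 4), 2), ((1, 10), 2), ((1, 12), 2), ((1, 14), 2), ((1, 18), 4), ((1, 20), 1), ((1, 28), 4), ((1, 48), 3), ((1, 56), 1), ((1, 59), 1), ((1, 76), 3), ((2, 0), 4), ((2, 1), 3), ((2, 3), 2), ((2, 5), 2), ((2, 11), 4), ((2, 13), 3), ((2, 15), 3), ((2, 23), 1), ((2, 29), 2), ((2, 38), 1), ((2, 60), 4), ((2, 77), 3), ((2, 82), 3), ((3, 23), 4), ((3, 55), 2),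 ((3, 116), 2), ((3, 92), 2), ((3, 20), 3), ((3, 11), 3), ((3, 51), 4), ((3, 71), 1), ((3, 73), 2), ((3, 43), 2), ((3, 52), 4), ((3, 74), 3), ((4, 37), 4), ((4, 44), 2), ((4, 51), 4), ((4, 78), 1), ((4, 92), 1), ((4, 95), 1), ((4, 90), 4), ((3, 3), 1), ((3, 4), 3), ((4, 0), 4), ((4, 11), 3), ((4, 12), 3), ((4, 29), 3), ((4, 38), 4), ((4, 40), 2), ((4, 49), 3), ((4, 55), 2), ((4, 101), 1), ((4, 106), 2), ((4, 119), 1), ((4, 7), 4), ((4, 31), 3), ((4, 43), 4), ((4, 48), 3), ((4, 69), 3), ((4, 82), 3), ((3, 1), 1), ((3, 5), 2), ((3, 7), 1), ((3, 8), 3), ((3, 9), 3), ((3, 15), 1), ((3, 16), 1), ((3, 17), 2), ((3, 21), 4), ((3, 30), 1), ((3, 39), 3), ((3, 42), 2), ((4, 1), 4), ((4, 26), 3), ((4, 42), 1), ((4, 54), 4), ((4, 56), 3), ((4, 72), 3), ((4, 74), 2), ((4, 80), 1), ((4, 88), 1), ((4, 89), 4), ((4, 99), 2), ((4, 103), 4), ((4,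 104), 1), ((4, 108), 2), ((4, 116), 2), ((4, 6), 2), ((4, 18), 4), ((4, 35), 4), ((4, 60), 2), ((4, 113), 3), ((4, 2), 1), ((4, 3), 2)],
  [((0, 9), 4), ((0, 10), 1), ((0, 19), 4), ((0, 21), 1), ((1, 54), 3), ((2, 92), 3), ((1, 0), 3), ((1, 2), 2), ((1, 4), 2), ((1, 8), 2), ((1, 10), 4), ((1, 14), 1), ((1, 16), 4), ((1, 18), 1), ((1, 20), 4), ((1, 28), 1), ((1, 48), 1), ((1, 56), 3), ((1, 59), 1), ((1, 63), 2), ((1, 76), 4), ((2, 0), 1), ((2, 1), 4), ((2, 3), 3), ((2, 7), 4), ((2, 11), 2), ((2, 13), 4), ((2, 15), 3), ((2, 23), 3), ((2, 27), 3), ((2, 29), 1), ((2, 31), 2), ((2, 38), 1), ((2, 60), 1), ((2, 77), 1), ((2, 82), 4), ((3, 23), 1), ((3, 55), 1), ((3, 92), 3), ((3, 20), 1), ((3, 51), 3), ((3, 71), 1), ((3, 73), 1), ((3, 43), 1), ((3, 52), 2), ((3, 69), 2), ((3, 74), 2), ((4, 8), 1), ((4, 9), 1), ((4, 37), 3), ((4, 51), 3),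 ((4, 75), 2), ((4, 78), 1), ((4, 92), 3), ((4, 95), 1), ((4, 90), 1), ((3, 3), 4), ((3, 4), 2), ((3, 68), 4), ((4, 0), 2), ((4, 5), 3), ((4, 11), 4), ((4, 29), 3), ((4, 38), 4), ((4, 49), 4), ((4, 101), 4), ((4, 105), 3), ((4, 106), 4), ((4, 119), 3), ((4, 31), 2), ((4, 48), 4), ((4, 58), 2), ((4, 69), 4), ((4, 82), 2), ((3, 1), 1), ((3, 5), 3), ((3, 7), 3), ((3, 8), 1), ((3, 15), 4), ((3, 17), 1), ((3, 19), 3), ((3, 21), 3), ((3, 29), 4), ((3, 30), 4), ((3, 39), 1), ((3, 42), 4), ((4, 42), 2), ((4, 54), 1), ((4, 56), 4), ((4, 72), 3), ((4, 74), 4), ((4, 80), 3), ((4, 88), 2), ((4, 89), 3), ((4, 99), 3), ((4, 103), 4), ((4, 104), 3), ((4, 108), 2), ((4, 35), 4), ((4, 102), 1), ((4, 113), 4), ((4, 2), 1), ((4, 3), 2), ((4, 4), 1), ((4, 13), 4)],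
  [((0, 40), 1)],
  [((0, 1), 4), ((0, 4), 4), ((0, 10), 4), ((0, 21), 4), ((1, 0), 1), ((1, 6), 4), ((1, 8), 3), ((1, 10), 4), ((1, 12), 4), ((1, 14), 3), ((1, 16), 4), ((1, 18), 3), ((1, 20), 3), ((1, 28), 4), ((1, 48), 2), ((1, 56), 1), ((1, 59), 2), ((1, 63), 4), ((1, 76), 4), ((2, 1), 1), ((2, 3), 4), ((2, 5), 4), ((2, 7), 4), ((2, 11), 2), ((2, 13), 1), ((2, 15), 3), ((2, 27), 3), ((2, 29), 3), ((2, 31), 3), ((2, 38), 4), ((2, 60), 2), ((2, 77), 4), ((2, 82), 1), ((3, 23), 3), ((3, 55), 4), ((3, 103), 1), ((3, 116), 1), ((3, 92), 2), ((3, 11), 4), ((3, 51), 2), ((3, 71), 3), ((3, 73), 4), ((3, 43), 2), ((3, 52), 2), ((3, 69), 1), ((3, 74), 4), ((4, 9), 4), ((4, 37), 1), ((4, 44), 2), ((4, 51), 4), ((4, 75), 2), ((4, 78), 4), ((4, 95), 3), ((4, 90), 2), ((3, 3), 4), ((3, 4), 2), ((3, 68), 3), ((4, 0), 4), ((4, 5), 3), ((4,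 11), 3), ((4, 12), 4), ((4, 29), 2), ((4, 38), 2), ((4, 40), 4), ((4, 49), 3), ((4, 55), 3), ((4, 101), 3), ((4, 105), 1), ((4, 106), 1), ((4, 7), 3), ((4, 31), 2), ((4, 43), 1), ((4, 48), 3), ((4, 58), 3), ((4, 69), 2), ((4, 82), 1), ((3, 1), 4), ((3, 5), 3), ((3, 8), 3), ((3, 15), 3), ((3, 16), 4), ((3, 17), 4), ((3, 19), 2), ((3, 21), 3), ((3, 30), 3), ((3, 39), 1), ((3, 42), 3), ((4, 1), 4), ((4, 26), 2), ((4, 54), 2), ((4, 72), 1), ((4, 74), 3), ((4, 80), 2), ((4, 88), 4), ((4, 89), 4), ((4, 99), 2), ((4, 103), 4), ((4, 108), 3), ((4, 116), 4), ((4, 6), 4), ((4, 18), 1), ((4, 35), 1), ((4, 60), 4), ((4, 68), 1), ((4, 102), 3), ((4, 2), 2), ((4, 3), 3), ((4, 4), 2), ((4, 13), 4)],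
  [((0, 42), 1)],
  [((0, 44), 1)],
  [((0, 46), 1)],
  [((0, 48), 1)],
  [((0, 50), 1)],
  [((0, 52), 1)],
  [((0, 54), 1)],
  [((0, 56), 1)],
  [((0, 1), 1), ((0, 2), 4), ((0, 4), 1), ((0, 6), 4), ((0, 9), 1), ((0, 14), 4), ((0, 19), 1), ((0, 30), 4), ((1, 54), 2), ((2, 92), 2), ((1, 0), 1), ((1, 2), 3), ((1, 4), 3), ((1, 6), 1), ((1, 10), 2), ((1, 12), 1), ((1, 14), 1), ((1, 16), 2), ((1, 18), 1), ((1, 20), 3), ((1, 48), 2), ((1, 56), 1), ((1, 59), 2), ((1, 63), 4), ((1, 76), 2), ((2, 3), 3), ((2, 5), 1), ((2, 7), 2), ((2, 11), 1), ((2, 15), 4), ((2, 23), 2), ((2, 27), 4), ((2, 29), 1), ((2, 60), 2), ((3, 23), 1), ((3, 103), 4), ((3, 116), 4), ((3, 20), 4), ((3, 11), 1), ((3, 71), 1), ((3, 43), 2), ((3, 52), 1), ((3, 69), 2), ((3, 74), 4), ((4, 8), 4), ((4, 37), 1), ((4, 44), 3), ((4, 51), 3), ((4, 75), 1), ((4, 92), 2), ((4,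 95), 1), ((4, 90), 2), ((3, 3), 2), ((3, 4), 1), ((3, 68), 3), ((4, 0), 4), ((4, 5), 4), ((4, 11), 3), ((4, 12), 1), ((4, 38), 4), ((4, 40), 1), ((4, 49), 3), ((4, 55), 2), ((4, 101), 3), ((4, 105), 1), ((4, 119), 2), ((4, 7), 2), ((4, 31), 1), ((4, 43), 4), ((4, 48), 3), ((4, 69), 4), ((4, 82), 2), ((3, 5), 4), ((3, 7), 2), ((3, 8), 1), ((3, 15), 3), ((3, 16), 1), ((3, 21), 4), ((3, 29), 1), ((3, 30), 3), ((3, 39), 3), ((3, 42), 3), ((4, 1), 1), ((4, 26), 3), ((4, 42), 3), ((4, 54), 2), ((4, 56), 1), ((4, 72), 1), ((4, 74), 3), ((4, 88), 4), ((4, 89), 3), ((4, 103), 2), ((4, 104), 2), ((4, 116), 1), ((4, 6), 1), ((4, 18), 4), ((4, 60), 1), ((4, 68), 4), ((4, 102), 1), ((4, 113), 1), ((4, 2), 2), ((4, 4), 2), ((4, 13), 2)],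
  [((0, 59), 1)],
  [((0, 7), 4), ((0, 8), 1), ((0, 15), 4), ((0, 18), 1), ((0, 32), 4), ((0, 37), 1), ((1, 54), 1), ((1, 0), 2), ((1, 2), 4), ((1, 4), 1), ((1, 6), 4), ((1, 8), 1), ((1, 10), 4), ((1, 12), 1), ((1, 14), 4), ((1, 18), 3), ((1, 20), 1), ((1, 28), 4), ((1, 56), 1), ((1, 59), 4), ((1, 76), 3), ((2, 0), 2), ((2, 1), 4), ((2, 5), 3), ((2, 7), 1), ((2, 9), 3), ((2, 11), 2), ((2, 13), 1), ((2, 15), 3), ((2, 23), 4), ((2, 27), 3), ((2, 29), 3), ((2, 38), 1), ((2, 60), 1), ((2, 82), 4), ((3, 23), 4), ((3, 55), 1), ((3, 103), 3), ((3, 116), 3), ((3, 92), 2), ((3, 20), 4), ((3, 11), 2), ((3, 71), 2), ((3, 73), 1), ((3, 43), 4), ((3, 52), 2), ((3, 69), 2), ((4, 8), 2), ((4, 9), 3), ((4, 37), 4), ((4, 44), 4), ((4, 51), 3), ((4, 75), 4), ((4, 78), 2), ((4, 95), 2), ((4, 90), 4), ((3, 3), 4), ((3, 68), 2), ((4, 0), 1), ((4, 5),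 4), ((4, 11), 1), ((4, 12), 2), ((4, 29), 2), ((4, 38), 2), ((4, 40), 3), ((4, 49), 3), ((4, 101), 4), ((4, 105), 2), ((4, 106), 1), ((4, 119), 4), ((4, 43), 3), ((4, 48), 2), ((4, 58), 4), ((4, 69), 4), ((4, 82), 1), ((3, 1), 2), ((3, 5), 1), ((3, 7), 4), ((3, 8), 2), ((3, 15), 3), ((3, 16), 2), ((3, 17), 2), ((3, 21), 3), ((3, 29), 2), ((3, 30), 3), ((3, 39), 4), ((3, 42), 1), ((4, 1), 2), ((4, 26), 1), ((4, 42), 3), ((4, 54), 3), ((4, 56), 4), ((4, 72), 4), ((4, 74), 4), ((4, 80), 1), ((4, 88), 1), ((4, 89), 1), ((4, 99), 2), ((4, 103), 3), ((4, 104), 1), ((4, 108), 1), ((4, 116), 4), ((4, 6), 2), ((4, 18), 3), ((4, 35), 3), ((4, 60), 2), ((4, 68), 1), ((4, 102), 1), ((4, 113), 4), ((4, 2), 2), ((4, 3), 2), ((4, 4), 2), ((4, 13), 2)],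
  [((0, 61), 1)],
  [((0, 63), 1)],
  [((0, 65), 1)],
  [((0, 67), 1)],
  [((0, 1), 4), ((0, 2), 1), ((0, 3), 4), ((0, 6), 1), ((0, 8), 4), ((0, 14), 1), ((0, 18), 4), ((0, 30), 1), ((0, 37), 4), ((0, 57), 1), ((1, 54), 4), ((1, 0), 1), ((1, 2), 1), ((1, 4), 1), ((1, 6), 2), ((1, 8), 1), ((1, 12), 1), ((1, 14), 4), ((1, 18), 3), ((1, 20), 4), ((1, 28), 4), ((1, 48), 3), ((1, 56), 2), ((1, 59), 4), ((1, 63), 2), ((1, 76), 4), ((2, 0), 2), ((2, 1), 3), ((2, 7), 4), ((2, 9), 4), ((2, 11), 2), ((2, 23), 1), ((2, 31), 4), ((2, 60), 2), ((2, 77), 4), ((2, 82), 1), ((3, 23), 3), ((3, 55), 2), ((3, 103), 3), ((3, 116), 4), ((3, 92), 1), ((3, 20), 2), ((3, 11), 1), ((3, 51), 2), ((3, 71), 1), ((3, 73), 2), ((3, 43), 4), ((3, 52), 3), ((3, 74), 3), ((4, 8), 1), ((4, 9), 2), ((4, 37), 3), ((4, 44), 1), ((4, 51), 3), ((4, 75), 4), ((4, 78),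 3), ((4, 92), 4), ((4, 95), 4), ((3, 3), 1), ((3, 4), 2), ((3, 68), 4), ((4, 0), 3), ((4, 11), 2), ((4, 29), 2), ((4, 38), 3), ((4, 40), 3), ((4, 49), 4), ((4, 55), 4), ((4, 101), 4), ((4, 105), 1), ((4, 106), 4), ((4, 119), 4), ((4, 7), 2), ((4, 31), 4), ((4, 43), 4), ((4, 48), 3), ((4, 58), 4), ((4, 69), 3), ((3, 1), 4), ((3, 5), 1), ((3, 7), 1), ((3, 9), 1), ((3, 16), 1), ((3, 17), 2), ((3, 19), 1), ((3, 29), 2), ((3, 30), 3), ((3, 39), 4), ((3, 42), 2), ((4, 1), 4), ((4, 54), 2), ((4, 56), 3), ((4, 74), 3), ((4, 88), 3), ((4, 89), 3), ((4, 99), 2), ((4, 104), 3), ((4, 108), 2), ((4, 18), 4), ((4, 35), 4), ((4, 60), 2), ((4, 68), 1), ((4, 102), 3), ((4, 113), 2), ((4, 2), 1), ((4, 3), 3), ((4, 4), 2), ((4, 13), 4)],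
  [((0, 70), 1)],
  [((0, 71), 1)],
  [((0, 1), 4), ((0, 2), 1), ((0, 4), 4), ((0, 6), 1), ((0, 9), 4), ((0, 13), 1), ((0, 20), 4), ((0, 27), 1), ((0, 40), 4), ((0, 51), 1), ((2, 92), 1), ((1, 0), 4), ((1, 2), 2), ((1, 4), 1), ((1, 6), 2), ((1, 12), 1), ((1, 14), 2), ((1, 16), 1), ((1, 18), 2), ((1, 20), 2), ((1, 28), 1), ((1, 48), 2), ((1, 56), 4), ((1, 59), 2), ((1, 63), 2), ((1, 76), 4), ((2, 1), 3), ((2, 3), 4), ((2, 5), 3), ((2, 9), 4), ((2, 11), 1), ((2, 23), 3), ((2, 27), 3), ((2, 29), 4), ((2, 31), 4), ((2, 38), 3), ((2, 77), 3), ((3, 23), 3), ((3, 55), 1), ((3, 103), 4), ((3, 116), 3), ((3, 92), 2), ((3, 20), 4), ((3, 11), 4), ((3, 51), 3), ((3, 71), 1), ((3, 73), 2), ((3, 43), 3), ((3, 52), 3), ((3, 74), 1), ((4, 8), 1), ((4, 9), 2), ((4, 37), 2), ((4, 44), 2), ((4, 51), 4), ((4, 75), 4), ((4, 78), 1), ((4, 92), 3), ((3,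 3), 2), ((3, 4), 1), ((3, 68), 2), ((4, 0), 1), ((4, 5), 2), ((4, 11), 3), ((4, 12), 4), ((4, 29), 1), ((4, 38), 3), ((4, 40), 1), ((4, 49), 4), ((4, 55), 4), ((4, 101), 4), ((4, 105), 2), ((4, 106), 2), ((4, 31), 1), ((4, 48), 3), ((4, 58), 2), ((4, 69), 4), ((3, 5), 3), ((3, 7), 2), ((3, 8), 4), ((3, 9), 4), ((3, 15), 2), ((3, 21), 3), ((3, 29), 1), ((3, 30), 1), ((3, 39), 4), ((3, 42), 2), ((4, 1), 1), ((4, 26), 4), ((4, 42), 3), ((4, 54), 3), ((4, 56), 4), ((4, 74), 1), ((4, 80), 3), ((4, 88), 3), ((4, 89), 3), ((4, 99), 4), ((4, 103), 1), ((4, 104), 1), ((4, 108), 4), ((4, 116), 3), ((4, 6), 4), ((4, 35), 1), ((4, 60), 1), ((4, 68), 3), ((4, 113), 2), ((4, 2), 2), ((4, 3), 4), ((4, 4), 2), ((4, 13), 3)],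
  [((0, 74), 1)],
  [((0, 75), 1)],
  [((0, 76), 1)],
  [((0, 78), 1)],
  [((0, 5), 4), ((0, 6), 1), ((0, 11), 4), ((0, 13), 1), ((0, 24), 4), ((0, 45), 4), ((1, 54), 1), ((1, 2), 4), ((1, 4), 1), ((1, 6), 2), ((1, 12), 4), ((1, 16), 3), ((1, 18), 4), ((1, 20), 4), ((1, 28), 1), ((1, 48), 1), ((1, 56), 2), ((1, 59), 1), ((1, 63), 3), ((2, 0), 3), ((2, 1), 1), ((2, 3), 2), ((2, 5), 2), ((2, 7), 4), ((2, 9), 3), ((2, 11), 3), ((2, 15), 3), ((2, 23), 1), ((2, 27), 4), ((2, 31), 3), ((2, 60), 2), ((2, 82), 2), ((3, 23), 3), ((3, 103), 1), ((3, 116), 4), ((3, 92), 1), ((3, 20), 3), ((3, 11), 3), ((3, 51), 2), ((3, 71), 1), ((3, 73), 2), ((3, 69), 3), ((3, 74), 2), ((4, 8), 2), ((4, 37), 4), ((4, 44), 1), ((4, 51), 2), ((4, 75), 3), ((4, 78), 2), ((4, 92), 2), ((4, 95), 2), ((4, 90), 1), ((3, 3), 2), ((3, 4), 1), ((3, 68), 3), ((4, 0),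 2), ((4, 5), 1), ((4, 11), 2), ((4, 12), 4), ((4, 40), 1), ((4, 49), 2), ((4, 55), 4), ((4, 105), 1), ((4, 106), 4), ((4, 119), 4), ((4, 7), 3), ((4, 43), 3), ((4, 48), 3), ((4, 58), 2), ((4, 69), 2), ((3, 1), 1), ((3, 5), 3), ((3, 8), 4), ((3, 9), 2), ((3, 15), 1), ((3, 17), 1), ((3, 19), 1), ((3, 21), 1), ((3, 29), 2), ((3, 30), 4), ((3, 39), 4), ((4, 1), 1), ((4, 26), 1), ((4, 42), 3), ((4, 54), 2), ((4, 56), 4), ((4, 74), 3), ((4, 89), 3), ((4, 104), 4), ((4, 108), 2), ((4, 6), 1), ((4, 18), 1), ((4, 35), 1), ((4, 60), 4), ((4, 68), 1), ((4, 102), 1), ((4, 113), 3), ((4, 2), 1), ((4, 3), 2), ((4, 4), 1), ((4, 13), 4)],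
  [((0, 81), 1)],
  [((0, 11), 1), ((0, 12), 4), ((0, 24), 1), ((0, 25), 4), ((0, 45), 1), ((0, 47), 4), ((0, 79), 1), ((1, 54), 2), ((1, 4), 2), ((1, 6), 3), ((1, 8), 1), ((1, 12), 3), ((1, 14), 2), ((1, 16), 1), ((1, 18), 3), ((1, 20), 1), ((1, 28), 4), ((1, 48), 1), ((1, 56), 1), ((1, 59), 2), ((1, 76), 1), ((2, 0), 1), ((2, 1), 1), ((2, 3), 2), ((2, 5), 2), ((2, 7), 4), ((2, 11), 3), ((2, 13), 1), ((2, 15), 4), ((2, 29), 1), ((2, 31), 4), ((2, 60), 3), ((2, 77), 2), ((3, 23), 1), ((3, 103), 3), ((3, 116), 3), ((3, 92), 2), ((3, 20), 3), ((3, 11), 4), ((3, 51), 1), ((3, 71), 3), ((3, 73), 4), ((3, 43), 3), ((3, 52), 1), ((3, 74), 4), ((4, 8), 4), ((4, 37), 3), ((4, 44), 1), ((4, 51), 3), ((4, 75), 4), ((4, 78), 4), ((4, 95), 1), ((3, 3), 1), ((3, 4), 3), ((4, 0), 1), ((4, 5), 3), ((4, 11), 2), ((4, 29), 3), ((4, 38), 3), ((4,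 40), 1), ((4, 49), 1), ((4, 55), 3), ((4, 101), 1), ((4, 105), 2), ((4, 106), 1), ((4, 119), 2), ((4, 31), 3), ((4, 43), 2), ((4, 48), 2), ((4, 58), 3), ((4, 69), 4), ((4, 82), 3), ((3, 1), 1), ((3, 5), 2), ((3, 7), 3), ((3, 9), 3), ((3, 15), 4), ((3, 16), 2), ((3, 17), 2), ((3, 19), 2), ((3, 21), 1), ((3, 29), 3), ((3, 30), 2), ((3, 39), 1), ((3, 42), 3), ((4, 26), 4), ((4, 42), 1), ((4, 54), 3), ((4, 56), 1), ((4, 72), 4), ((4, 74), 3), ((4, 88), 1), ((4, 99), 1), ((4, 103), 2), ((4, 104), 4), ((4, 108), 3), ((4, 116), 4), ((4, 6), 1), ((4, 18), 4), ((4, 35), 2), ((4, 60), 1), ((4, 68), 2), ((4, 113), 2), ((4, 2), 2), ((4, 3), 3), ((4, 4), 2)],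
  [((0, 5), 4), ((0, 6), 1), ((0, 12), 4), ((0, 14), 1), ((0, 25), 4), ((0, 29), 1), ((0, 48), 4), ((0, 55), 1), ((1, 54), 3), ((2, 92), 1), ((1, 0), 3), ((1, 2), 4), ((1, 4), 2), ((1, 6), 2), ((1, 8), 2), ((1, 10), 3), ((1, 12), 3), ((1, 14), 3), ((1, 16), 4), ((1, 18), 1), ((1, 20), 4), ((1, 28), 4), ((1, 56), 3), ((1, 63), 4), ((2, 0), 4), ((2, 1), 4), ((2, 3), 1), ((2, 5), 2), ((2, 7), 2), ((2, 9), 2), ((2, 11), 1), ((2, 13), 4), ((2, 15), 4), ((2, 27), 2), ((2, 29), 1), ((2, 31), 4), ((2, 60), 3), ((2, 77), 4), ((2, 82), 4), ((3, 23), 3), ((3, 55), 2), ((3, 103), 1), ((3, 116), 1), ((3, 20), 4), ((3, 11), 1), ((3, 51), 3), ((3, 71), 2), ((3, 73), 3), ((3, 43), 1), ((3, 52), 1), ((3, 69), 1), ((3, 74), 1), ((4, 8), 4), ((4, 9), 1), ((4, 44), 3), ((4, 51), 2), ((4, 75), 4), ((4, 78), 4), ((4, 92), 4), ((4, 95), 4), ((3, 3), 4),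 ((3, 4), 1), ((3, 68), 4), ((4, 0), 1), ((4, 5), 1), ((4, 11), 4), ((4, 12), 4), ((4, 29), 3), ((4, 38), 2), ((4, 49), 3), ((4, 55), 4), ((4, 106), 1), ((4, 7), 3), ((4, 31), 2), ((4, 48), 2), ((4, 58), 3), ((4, 69), 2), ((4, 82), 3), ((3, 1), 1), ((3, 5), 1), ((3, 15), 2), ((3, 16), 1), ((3, 21), 4), ((3, 29), 3), ((3, 30), 1), ((3, 39), 3), ((3, 42), 1), ((4, 26), 3), ((4, 42), 1), ((4, 54), 3), ((4, 56), 3), ((4, 72), 3), ((4, 74), 3), ((4, 88), 1), ((4, 99), 3), ((4, 108), 1), ((4, 116), 1), ((4, 6), 2), ((4, 18), 2), ((4, 35), 3), ((4, 68), 4), ((4, 102), 2), ((4, 3), 3), ((4, 4), 4), ((4, 13), 4)],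
  [((0, 1), 1), ((0, 2), 4), ((0, 3), 1), ((0, 5), 4), ((0, 8), 1), ((0, 12), 4), ((0, 18), 1), ((0, 26), 4), ((0, 37), 1), ((0, 49), 4), ((0, 68), 1), ((2, 92), 1), ((1, 2), 4), ((1, 4), 2), ((1, 8), 4), ((1, 10), 3), ((1, 14), 2), ((1, 16), 2), ((1, 18), 2), ((1, 20), 1), ((1, 28), 2), ((1, 48), 2), ((1, 56), 3), ((1, 59), 1), ((1, 76), 1), ((2, 1), 3), ((2, 3), 2), ((2, 5), 3), ((2, 7), 4), ((2, 9), 4), ((2, 13), 1), ((2, 27), 1), ((2, 31), 1), ((2, 60), 3), ((2, 82), 3), ((3, 23), 4), ((3, 116), 1), ((3, 92), 2), ((3, 20), 3), ((3, 11), 3), ((3, 51), 4), ((3, 71), 3), ((3, 43), 1), ((3, 52), 3), ((3, 69), 1), ((3, 74), 1), ((4, 37), 3), ((4, 44), 4), ((4, 75), 2), ((4, 78), 1), ((4, 92), 4), ((4, 90), 3), ((3, 3), 2), ((3, 4), 3), ((4, 0), 2), ((4, 5), 1), ((4, 11), 1), ((4, 12), 2), ((4, 29), 4), ((4, 38), 4), ((4, 40), 4),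 ((4, 55), 2), ((4, 101), 3), ((4, 106), 2), ((4, 119), 3), ((4, 7), 1), ((4, 31), 1), ((4, 43), 1), ((4, 48), 1), ((4, 58), 3), ((4, 69), 2), ((4, 82), 3), ((3, 5), 3), ((3, 7), 3), ((3, 8), 2), ((3, 9), 4), ((3, 15), 4), ((3, 16), 4), ((3, 19), 1), ((3, 21), 2), ((3, 29), 1), ((3, 30), 3), ((3, 39), 3), ((3, 42), 4), ((4, 1), 2), ((4, 26), 4), ((4, 42), 3), ((4, 54), 1), ((4, 56), 4), ((4, 72), 2), ((4, 74), 3), ((4, 80), 3), ((4, 88), 2), ((4, 89), 3), ((4, 99), 2), ((4, 103), 3), ((4, 104), 1), ((4, 108), 4), ((4, 116), 3), ((4, 6), 3), ((4, 18), 1), ((4, 102), 4), ((4, 113), 1), ((4, 3), 1), ((4, 4), 3)],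
  [((0, 83), 1)],
  [((0, 84), 1)],
  [((0, 5), 1), ((0, 6), 4), ((0, 12), 1), ((0, 13), 4), ((0, 25), 1), ((0, 27), 4), ((0, 47), 1), ((0, 52), 4), ((2, 92), 2), ((1, 0), 3), ((1, 2), 3), ((1, 4), 2), ((1, 6), 4), ((1, 8), 2), ((1, 12), 4), ((1, 14), 2), ((1, 16), 1), ((1, 18), 3), ((1, 20), 2), ((1, 28), 3), ((1, 48), 1), ((1, 59), 4), ((1, 76), 3), ((2, 0), 3), ((2, 1), 4), ((2, 3), 4), ((2, 5), 3), ((2, 9), 2), ((2, 11), 4), ((2, 23), 3), ((2, 27), 1), ((2, 29), 2), ((2, 31), 3), ((2, 38), 4), ((2, 60), 2), ((2, 82), 4), ((3, 23), 2), ((3, 55), 1), ((3, 103), 2), ((3, 11), 3), ((3, 71), 2), ((3, 73), 1), ((3, 43), 4), ((3, 74), 4), ((4, 8), 4), ((4, 9), 1), ((4, 37), 4), ((4, 44), 4), ((4, 51), 4), ((4, 75), 3), ((4, 78), 1), ((4, 92), 4), ((4, 90), 3), ((3, 3), 4), ((3, 4), 2), ((3, 68), 4), ((4, 0), 1), ((4, 5), 4), ((4, 11),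 1), ((4, 12), 3), ((4, 29), 2), ((4, 38), 4), ((4, 49), 1), ((4, 55), 3), ((4, 101), 4), ((4, 105), 3), ((4, 106), 2), ((4, 119), 3), ((4, 7), 3), ((4, 31), 3), ((4, 43), 1), ((4, 48), 3), ((4, 69), 1), ((4, 82), 3), ((3, 5), 2), ((3, 7), 4), ((3, 8), 3), ((3, 9), 1), ((3, 16), 2), ((3, 17), 1), ((3, 19), 1), ((3, 21), 1), ((3, 29), 4), ((3, 30), 3), ((3, 39), 3), ((3, 42), 1), ((4, 42), 3), ((4, 54), 2), ((4, 72), 4), ((4, 80), 3), ((4, 88), 2), ((4, 89), 4), ((4, 103), 3), ((4, 104), 2), ((4, 116), 2), ((4, 6), 2), ((4, 18), 2), ((4, 60), 3), ((4, 68), 4), ((4, 102), 1), ((4, 113), 3), ((4, 2), 3), ((4, 3), 1), ((4, 4), 2), ((4, 13), 1)],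
  [((0, 85), 1)],
  [((0, 86), 1)],
  [((0, 88), 1)],
  [((0, 90), 1)],
  [((0, 1), 1), ((0, 2), 4), ((0, 4), 1), ((0, 6), 4), ((0, 9), 1), ((0, 14), 4), ((0, 20), 1), ((0, 30), 4), ((0, 39), 1), ((0, 57), 4), ((1, 54), 3), ((2, 92), 2), ((1, 0), 1), ((1, 2), 2), ((1, 4), 3), ((1, 6), 2), ((1, 8), 1), ((1, 10), 1), ((1, 12), 1), ((1, 14), 3), ((1, 18), 4), ((1, 20), 4), ((1, 28), 4), ((1, 48), 1), ((1, 59), 1), ((1, 63), 3), ((2, 0), 4), ((2, 1), 1), ((2, 7), 3), ((2, 9), 4), ((2, 11), 4), ((2, 15), 1), ((2, 29), 3), ((2, 31), 4), ((2, 77), 3), ((3, 23), 3), ((3, 55), 1), ((3, 103), 1), ((3, 116), 4), ((3, 92), 3), ((3, 11), 2), ((3, 51), 4), ((3, 71), 4), ((3, 73), 1), ((3, 43), 3), ((3, 52), 3), ((3, 69), 2), ((3, 74), 4), ((4, 8), 3), ((4, 9), 2), ((4, 37), 4), ((4, 44), 2), ((4, 51), 2), ((4, 75), 1), ((4, 78), 2), ((4, 95),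 1), ((4, 90), 4), ((3, 3), 3), ((3, 4), 4), ((3, 68), 2), ((4, 11), 2), ((4, 12), 2), ((4, 29), 3), ((4, 38), 2), ((4, 40), 3), ((4, 49), 1), ((4, 55), 1), ((4, 101), 2), ((4, 105), 4), ((4, 106), 1), ((4, 119), 1), ((4, 48), 1), ((4, 58), 3), ((4, 69), 4), ((3, 1), 4), ((3, 5), 2), ((3, 8), 2), ((3, 9), 2), ((3, 15), 4), ((3, 17), 3), ((3, 19), 4), ((3, 21), 1), ((3, 29), 1), ((3, 39), 4), ((3, 42), 4), ((4, 1), 3), ((4, 26), 2), ((4, 42), 3), ((4, 54), 2), ((4, 72), 3), ((4, 74), 2), ((4, 80), 4), ((4, 88), 4), ((4, 99), 2), ((4, 103), 4), ((4, 108), 3), ((4, 6), 2), ((4, 35), 1), ((4, 60), 4), ((4, 68), 1), ((4, 102), 4), ((4, 113), 3), ((4, 2), 2), ((4, 3), 4), ((4, 4), 4), ((4, 13), 2)],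
  [((0, 1), 4), ((0, 2), 1), ((0, 3), 4), ((0, 5), 1), ((0, 7), 4), ((0, 11), 1), ((0, 15), 4), ((0, 31), 4), ((0, 58), 4), ((1, 54), 1), ((1, 0), 4), ((1, 2), 4), ((1, 4), 3), ((1, 6), 4), ((1, 8), 2), ((1, 10), 3), ((1, 14), 2), ((1, 16), 4), ((1, 18), 1), ((1, 20), 3), ((1, 28), 4), ((1, 48), 4), ((1, 56), 3), ((1, 59), 1), ((1, 76), 4), ((2, 0), 4), ((2, 3), 3), ((2, 5), 2), ((2, 7), 2), ((2, 9), 1), ((2, 11), 1), ((2, 13), 2), ((2, 23), 3), ((2, 27), 3), ((2, 29), 1), ((2, 31), 2), ((2, 38), 1), ((2, 60), 4), ((2, 77), 4), ((2, 82), 2), ((3, 23), 4), ((3, 55), 1), ((3, 116), 2), ((3, 20), 2), ((3, 51), 1), ((3, 73), 3), ((3, 52), 2), ((3, 69), 2), ((4, 8), 2), ((4, 37), 4), ((4, 51), 4), ((4, 75), 1), ((4, 78), 4), ((4, 92), 1), ((4, 90), 2), ((3, 3), 2), ((3, 4), 2), ((3, 68), 3), ((4, 0), 4), ((4, 5), 2), ((4, 11), 1), ((4,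 12), 3), ((4, 29), 4), ((4, 38), 1), ((4, 40), 3), ((4, 49), 2), ((4, 55), 4), ((4, 101), 2), ((4, 105), 1), ((4, 106), 2), ((4, 119), 4), ((4, 31), 2), ((4, 43), 1), ((4, 48), 4), ((4, 69), 4), ((4, 82), 4), ((3, 1), 3), ((3, 5), 4), ((3, 8), 4), ((3, 9), 1), ((3, 15), 3), ((3, 17), 2), ((3, 19), 2), ((3, 21), 3), ((3, 29), 4), ((3, 30), 1), ((3, 42), 4), ((4, 1), 1), ((4, 26), 2), ((4, 42), 4), ((4, 54), 1), ((4, 56), 4), ((4, 72), 3), ((4, 74), 4), ((4, 80), 2), ((4, 88), 3), ((4, 89), 2), ((4, 99), 4), ((4, 103), 4), ((4, 104), 4), ((4, 108), 1), ((4, 6), 2), ((4, 35), 2), ((4, 60), 1), ((4, 68), 1), ((4, 102), 2), ((4, 113), 3), ((4, 3), 1), ((4, 13), 3)],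
  [((0, 1), 4), ((0, 2), 1), ((0, 3), 4), ((0, 6), 1), ((0, 7), 4), ((0, 13), 1), ((0, 15), 4), ((0, 28), 1), ((0, 31), 4), ((0, 53), 1), ((0, 59), 4), ((1, 54), 4), ((2, 92), 2), ((1, 0), 4), ((1, 4), 1), ((1, 6), 1), ((1, 8), 3), ((1, 10), 2), ((1, 14), 3), ((1, 16), 1), ((1, 18), 2), ((1, 20), 4), ((1, 28), 4), ((1, 59), 3), ((1, 76), 2), ((2, 0), 1), ((2, 1), 1), ((2, 5), 2), ((2, 7), 3), ((2, 11), 2), ((2, 13), 4), ((2, 15), 3), ((2, 23), 3), ((2, 27), 3), ((2, 31), 1), ((2, 60), 1), ((2, 77), 4), ((2, 82), 2), ((3, 23), 4), ((3, 55), 2), ((3, 103), 2), ((3, 116), 2), ((3, 11), 1), ((3, 71), 1), ((3, 73), 3), ((3, 43), 1), ((3, 52), 4), ((3, 69), 1), ((3, 74), 4), ((4, 8), 1), ((4, 9), 3), ((4, 37), 3), ((4, 51), 2), ((4, 75), 2), ((4, 92), 4), ((4, 95), 1), ((3, 4), 2), ((3, 68), 2), ((4, 0), 3), ((4, 5), 4), ((4, 11), 4),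 ((4, 29), 4), ((4, 40), 1), ((4, 49), 3), ((4, 55), 4), ((4, 101), 2), ((4, 105), 1), ((4, 106), 4), ((4, 7), 1), ((4, 43), 3), ((4, 58), 1), ((4, 69), 3), ((4, 82), 2), ((3, 1), 4), ((3, 5), 3), ((3, 7), 2), ((3, 8), 4), ((3, 9), 3), ((3, 16), 3), ((3, 17), 2), ((3, 19), 1), ((3, 21), 3), ((3, 29), 3), ((3, 30), 1), ((3, 42), 2), ((4, 1), 3), ((4, 26), 4), ((4, 42), 1), ((4, 54), 2), ((4, 56), 1), ((4, 72), 1), ((4, 74), 4), ((4, 80), 2), ((4, 89), 3), ((4, 103), 2), ((4, 104), 2), ((4, 108), 3), ((4, 116), 4), ((4, 6), 1), ((4, 18), 4), ((4, 35), 2), ((4, 60), 3), ((4, 68), 4), ((4, 102), 4), ((4, 113), 3), ((4, 2), 1)],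
  [((0, 93), 1)],
  [((0, 1), 4), ((0, 2), 1), ((0, 3), 4), ((0, 5), 1), ((0, 7), 4), ((0, 11), 1), ((0, 16), 4), ((0, 23), 1), ((0, 33), 4), ((0, 61), 4), ((1, 54), 1), ((2, 92), 2), ((1, 0), 3), ((1, 2), 1), ((1, 4), 2), ((1, 6), 1), ((1, 10), 3), ((1, 12), 1), ((1, 14), 1), ((1, 16), 1), ((1, 18), 2), ((1, 20), 4), ((1, 28), 1), ((1, 48), 1), ((1, 56), 1), ((1, 59), 2), ((1, 63), 4), ((1, 76), 4), ((2, 0), 4), ((2, 1), 1), ((2, 3), 3), ((2, 5), 1), ((2, 7), 3), ((2, 9), 4), ((2, 11), 1), ((2, 13), 2), ((2, 15), 2), ((2, 23), 3), ((2, 27), 1), ((2, 29), 3), ((2, 31), 2), ((2, 77), 4), ((3, 23), 1), ((3, 55), 2), ((3, 116), 3), ((3, 92), 3), ((3, 20), 4), ((3, 11), 1), ((3, 51), 3), ((3, 73), 1), ((3, 43), 1), ((3, 52), 4), ((3, 69), 3), ((3, 74), 1), ((4, 9), 1), ((4, 37), 2), ((4, 51), 2), ((4, 75), 4), ((4, 78), 1), ((4, 92),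 4), ((4, 90), 2), ((3, 68), 2), ((4, 0), 1), ((4, 5), 1), ((4, 11), 1), ((4, 38), 3), ((4, 40), 1), ((4, 49), 3), ((4, 105), 3), ((4, 106), 2), ((4, 119), 2), ((4, 7), 2), ((4, 31), 2), ((4, 43), 2), ((4, 48), 1), ((4, 58), 4), ((4, 69), 4), ((4, 82), 4), ((3, 1), 3), ((3, 5), 4), ((3, 8), 1), ((3, 9), 1), ((3, 17), 2), ((3, 19), 1), ((3, 21), 4), ((3, 30), 1), ((3, 39), 2), ((3, 42), 2), ((4, 1), 4), ((4, 26), 3), ((4, 54), 3), ((4, 56), 3), ((4, 72), 3), ((4, 74), 2), ((4, 80), 3), ((4, 89), 2), ((4, 116), 2), ((4, 6), 2), ((4, 35), 4), ((4, 60), 3), ((4, 68), 3), ((4, 102), 3), ((4, 113), 4), ((4, 2), 4), ((4, 3), 4), ((4, 13), 1)],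
  [((0, 1), 4), ((0, 2), 1), ((0, 3), 4), ((0, 6), 1), ((0, 7), 4), ((0, 13), 1), ((0, 16), 4), ((0, 27), 1), ((0, 34), 4), ((0, 62), 4), ((1, 54), 2), ((2, 92), 4), ((1, 0), 3), ((1, 2), 1), ((1, 4), 1), ((1, 6), 3), ((1, 10), 4), ((1, 12), 4), ((1, 14), 4), ((1, 18), 3), ((1, 28), 2), ((1, 48), 3), ((1, 56), 2), ((1, 59), 3), ((1, 63), 2), ((1, 76), 4), ((2, 0), 2), ((2, 1), 3), ((2, 3), 2), ((2, 5), 3), ((2, 9), 4), ((2, 11), 3), ((2, 13), 3), ((2, 15), 4), ((2, 27), 3), ((2, 29), 4), ((2, 31), 3), ((2, 38), 2), ((2, 60), 3), ((2, 77), 2), ((2, 82), 3), ((3, 23), 1), ((3, 55), 4), ((3, 103), 4), ((3, 116), 3), ((3, 92), 3), ((3, 20), 2), ((3, 11), 1), ((3, 71), 4), ((3, 73), 1), ((3, 43), 2), ((3, 52), 2), ((3, 69), 2), ((3, 74), 2), ((4, 8), 3), ((4, 9), 2), ((4, 37), 4), ((4, 51), 2), ((4, 78), 3), ((4, 95), 4), ((4, 90), 2),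 ((3, 3), 1), ((3, 4), 4), ((3, 68), 2), ((4, 0), 4), ((4, 5), 3), ((4, 11), 1), ((4, 12), 1), ((4, 29), 1), ((4, 38), 2), ((4, 40), 4), ((4, 55), 3), ((4, 106), 3), ((4, 119), 2), ((4, 7), 3), ((4, 48), 3), ((4, 58), 2), ((4, 82), 3), ((3, 1), 1), ((3, 5), 4), ((3, 7), 1), ((3, 8), 1), ((3, 15), 1), ((3, 16), 1), ((3, 17), 2), ((3, 19), 2), ((3, 21), 2), ((3, 29), 3), ((3, 30), 3), ((3, 39), 1), ((4, 26), 1), ((4, 42), 4), ((4, 54), 2), ((4, 56), 1), ((4, 72), 3), ((4, 74), 1), ((4, 80), 4), ((4, 89), 4), ((4, 99), 1), ((4, 104), 4), ((4, 108), 4), ((4, 116), 2), ((4, 6), 2), ((4, 18), 3), ((4, 60), 3), ((4, 68), 3), ((4, 2), 1), ((4, 3), 3), ((4, 4), 1), ((4, 13), 3)],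
  [((0, 7), 4), ((0, 8), 1), ((0, 16), 4), ((0, 17), 1), ((0, 34), 4), ((0, 63), 4), ((1, 54), 2), ((1, 2), 2), ((1, 4), 3), ((1, 6), 1), ((1, 8), 4), ((1, 10), 1), ((1, 12), 2), ((1, 14), 1), ((1, 16), 4), ((1, 18), 4), ((1, 20), 3), ((1, 28), 1), ((1, 48), 4), ((1, 56), 1), ((1, 59), 3), ((1, 76), 4), ((2, 0), 2), ((2, 9), 3), ((2, 13), 4), ((2, 15), 1), ((2, 23), 2), ((2, 27), 1), ((2, 29), 4), ((2, 31), 4), ((2, 60), 1), ((2, 77), 2), ((3, 23), 3), ((3, 55), 2), ((3, 103), 2), ((3, 116), 4), ((3, 92), 1), ((3, 20), 3), ((3, 11), 4), ((3, 51), 4), ((3, 71), 4), ((3, 73), 3), ((3, 43), 3), ((3, 52), 4), ((3, 74), 3), ((4, 8), 4), ((4, 44), 4), ((4, 51), 1), ((4, 75), 2), ((4, 78), 2), ((4, 92), 3), ((4, 95), 2), ((3, 3), 3), ((3, 4), 1), ((3, 68), 1), ((4, 0), 1), ((4, 11), 3), ((4, 12), 2), ((4, 29), 3), ((4, 38), 4), ((4, 40),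 2), ((4, 49), 3), ((4, 55), 2), ((4, 101), 2), ((4, 106), 2), ((4, 119), 1), ((4, 7), 2), ((4, 31), 2), ((4, 43), 4), ((4, 48), 1), ((4, 58), 2), ((4, 69), 3), ((4, 82), 1), ((3, 1), 1), ((3, 7), 3), ((3, 8), 2), ((3, 9), 1), ((3, 16), 4), ((3, 17), 2), ((3, 30), 1), ((3, 39), 2), ((3, 42), 4), ((4, 1), 2), ((4, 26), 3), ((4, 42), 2), ((4, 54), 3), ((4, 56), 2), ((4, 74), 4), ((4, 80), 1), ((4, 89), 4), ((4, 99), 3), ((4, 103), 1), ((4, 104), 2), ((4, 108), 3), ((4, 116), 3), ((4, 6), 4), ((4, 35), 2), ((4, 102), 2), ((4, 113), 3), ((4, 2), 3), ((4, 3), 2), ((4, 4), 2), ((4, 13), 1)],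
  [((0, 96), 1)],
  [((0, 1), 4), ((0, 2), 1), ((0, 3), 4), ((0, 6), 1), ((0, 8), 4), ((0, 14), 1), ((0, 17), 4), ((0, 29), 1), ((0, 35), 4), ((0, 65), 4), ((1, 54), 2), ((2, 92), 3), ((1, 0), 1), ((1, 2), 2), ((1, 6), 4), ((1, 8), 1), ((1, 10), 3), ((1, 12), 1), ((1, 14), 2), ((1, 18), 4), ((1, 20), 2), ((1, 28), 4), ((1, 48), 1), ((1, 59), 4), ((1, 63), 1), ((1, 76), 2), ((2, 0), 4), ((2, 1), 4), ((2, 3), 1), ((2, 9), 2), ((2, 11), 2), ((2, 13), 3), ((2, 15), 2), ((2, 27), 3), ((2, 29), 2), ((2, 31), 4), ((2, 38), 4), ((2, 60), 2), ((2, 77), 1), ((2, 82), 3), ((3, 23), 4), ((3, 55), 2), ((3, 103), 3), ((3, 116), 1), ((3, 92), 4), ((3, 20), 3), ((3, 11), 3), ((3, 71), 4), ((3, 73), 1), ((3, 52), 3), ((3, 74), 3), ((4, 8), 1), ((4, 9), 1), ((4, 37), 3), ((4, 44), 2), ((4, 51), 2), ((4, 78), 1), ((4, 92), 2), ((4, 95), 4), ((4, 90),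 1), ((3, 3), 2), ((3, 4), 4), ((3, 68), 3), ((4, 0), 3), ((4, 5), 3), ((4, 11), 4), ((4, 12), 3), ((4, 38), 4), ((4, 40), 4), ((4, 49), 4), ((4, 101), 1), ((4, 105), 1), ((4, 106), 2), ((4, 119), 2), ((4, 31), 4), ((4, 43), 1), ((4, 58), 4), ((3, 7), 3), ((3, 8), 2), ((3, 9), 1), ((3, 16), 2), ((3, 17), 4), ((3, 19), 2), ((3, 21), 2), ((3, 30), 4), ((3, 39), 3), ((3, 42), 2), ((4, 26), 4), ((4, 54), 3), ((4, 56), 4), ((4, 72), 2), ((4, 74), 2), ((4, 80), 1), ((4, 88), 4), ((4, 99), 1), ((4, 103), 1), ((4, 108), 1), ((4, 18), 3), ((4, 60), 4), ((4, 68), 1), ((4, 102), 4), ((4, 113), 3), ((4, 2), 4), ((4, 3), 1), ((4, 4), 1), ((4, 13), 4)],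
  [((0, 1), 4), ((0, 2), 1), ((0, 3), 4), ((0, 5), 1), ((0, 8), 4), ((0, 11), 1), ((0, 17), 4), ((0, 24), 1), ((0, 36), 4), ((0, 46), 1), ((0, 66), 4), ((0, 80), 1), ((1, 0), 2), ((1, 2), 1), ((1, 4), 4), ((1, 8), 4), ((1, 10), 3), ((1, 12), 1), ((1, 14), 3), ((1, 16), 1), ((1, 18), 3), ((1, 20), 3), ((1, 28), 1), ((1, 56), 1), ((1, 59), 1), ((1, 63), 3), ((1, 76), 2), ((2, 0), 2), ((2, 1), 2), ((2, 5), 1), ((2, 9), 3), ((2, 11), 1), ((2, 13), 3), ((2, 15), 1), ((2, 23), 3), ((2, 27), 1), ((2, 29), 2), ((2, 31), 1), ((2, 38), 1), ((2, 60), 3), ((2, 82), 1), ((3, 23), 1), ((3, 55), 2), ((3, 20), 4), ((3, 11), 4), ((3, 51), 2), ((3, 43), 3), ((3, 74), 3), ((4, 9), 2), ((4, 37), 2), ((4, 44), 3), ((4, 51), 4), ((4, 75), 3), ((4, 78), 3), ((4, 92), 4), ((4, 95), 1), ((4, 90), 2), ((3, 3), 4), ((3, 4), 3), ((3, 68), 4), ((4, 0), 3),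 ((4, 5), 4), ((4, 11), 4), ((4, 12), 2), ((4, 29), 3), ((4, 38), 1), ((4, 55), 3), ((4, 101), 3), ((4, 105), 4), ((4, 106), 3), ((4, 119), 2), ((4, 7), 2), ((4, 43), 2), ((4, 48), 4), ((4, 58), 1), ((4, 69), 3), ((4, 82), 4), ((3, 5), 1), ((3, 7), 4), ((3, 8), 4), ((3, 9), 4), ((3, 16), 4), ((3, 19), 2), ((3, 21), 4), ((3, 30), 1), ((3, 42), 1), ((4, 1), 3), ((4, 26), 4), ((4, 42), 4), ((4, 54), 2), ((4, 72), 3), ((4, 74), 4), ((4, 80), 4), ((4, 88), 1), ((4, 89), 1), ((4, 103), 2), ((4, 104), 2), ((4, 108), 4), ((4, 116), 3), ((4, 6), 3), ((4, 18), 2), ((4, 35), 2), ((4, 60), 2), ((4, 68), 4), ((4, 102), 4), ((4, 113), 4), ((4, 2), 2), ((4, 3), 2), ((4, 4), 1)],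
  [((0, 7), 1), ((0, 8), 4), ((0, 17), 4), ((0, 36), 4), ((0, 67), 4), ((1, 54), 3), ((1, 2), 3), ((1, 4), 2), ((1, 6), 4), ((1, 8), 1), ((1, 10), 4), ((1, 12), 3), ((1, 14), 4), ((1, 16), 1), ((1, 18), 1), ((1, 20), 2), ((1, 28), 4), ((1, 48), 1), ((1, 56), 4), ((1, 59), 2), ((1, 76), 1), ((2, 0), 3), ((2, 7), 1), ((2, 9), 2), ((2, 13), 1), ((2, 15), 4), ((2, 23), 3), ((2, 27), 4), ((2, 29), 1), ((2, 31), 1), ((2, 60), 4), ((2, 77), 3), ((3, 23), 2), ((3, 55), 3), ((3, 103), 3), ((3, 116), 1), ((3, 92), 4), ((3, 20), 2), ((3, 11), 1), ((3, 51), 1), ((3, 71), 1), ((3, 73), 2), ((3, 43), 2), ((3, 52), 1), ((3, 74), 2), ((4, 8), 1), ((4, 44), 1), ((4, 51), 4), ((4, 75), 3), ((4, 78), 3), ((4, 92), 2), ((4, 95), 3), ((3, 3), 2), ((3, 4), 4), ((3, 68), 4), ((4, 0), 4), ((4, 11), 2), ((4, 12), 3), ((4, 29), 2), ((4, 38), 1), ((4, 40),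 3), ((4, 49), 2), ((4, 55), 3), ((4, 101), 3), ((4, 106), 3), ((4, 119), 4), ((4, 7), 3), ((4, 31), 3), ((4, 43), 1), ((4, 48), 4), ((4, 58), 3), ((4, 69), 2), ((4, 82), 4), ((3, 1), 4), ((3, 7), 2), ((3, 8), 3), ((3, 9), 4), ((3, 16), 1), ((3, 17), 3), ((3, 30), 4), ((3, 39), 3), ((3, 42), 1), ((4, 1), 3), ((4, 26), 2), ((4, 42), 3), ((4, 54), 2), ((4, 56), 3), ((4, 74), 1), ((4, 80), 4), ((4, 89), 1), ((4, 99), 2), ((4, 103), 4), ((4, 104), 3), ((4, 108), 2), ((4, 116), 2), ((4, 6), 1), ((4, 35), 3), ((4, 102), 3), ((4, 113), 2), ((4, 2), 2), ((4, 3), 3), ((4, 4), 3), ((4, 13), 4)],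
  [((0, 7), 1), ((0, 8), 4), ((0, 15), 1), ((0, 18), 4), ((0, 31), 1), ((0, 37), 4), ((0, 58), 1), ((0, 68), 4), ((1, 54), 4), ((2, 92), 2), ((1, 2), 3), ((1, 8), 2), ((1, 10), 3), ((1, 12), 1), ((1, 14), 2), ((1, 16), 1), ((1, 20), 4), ((1, 28), 3), ((1, 56), 3), ((1, 59), 1), ((1, 63), 1), ((1, 76), 1), ((2, 1), 2), ((2, 5), 2), ((2, 9), 2), ((2, 11), 2), ((2, 13), 4), ((2, 15), 2), ((2, 23), 3), ((2, 27), 2), ((2, 29), 3), ((2, 31), 2), ((2, 38), 3), ((3, 55), 2), ((3, 103), 1), ((3, 92), 1), ((3, 20), 1), ((3, 11), 3), ((3, 71), 2), ((3, 73), 4), ((3, 43), 1), ((3, 52), 3), ((3, 69), 1), ((4, 9), 3), ((4, 37), 4), ((4, 44), 2), ((4, 51), 4), ((4, 75), 1), ((4, 92), 4), ((4, 95), 4), ((4, 90), 2), ((3, 3), 1), ((3, 4), 4), ((3, 68), 1), ((4, 0), 4), ((4, 11), 1), ((4, 12), 2), ((4, 29), 4), ((4, 38), 2), ((4, 40), 2), ((4, 49),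 3), ((4, 55), 4), ((4, 101), 2), ((4, 105), 4), ((4, 119), 4), ((4, 31), 4), ((4, 43), 4), ((4, 48), 4), ((4, 58), 4), ((4, 69), 2), ((4, 82), 3), ((3, 1), 3), ((3, 5), 1), ((3, 7), 4), ((3, 8), 1), ((3, 9), 4), ((3, 15), 3), ((3, 16), 4), ((3, 19), 3), ((3, 21), 2), ((3, 29), 2), ((3, 30), 2), ((3, 39), 4), ((3, 42), 2), ((4, 1), 1), ((4, 26), 2), ((4, 42), 4), ((4, 56), 2), ((4, 72), 2), ((4, 74), 4), ((4, 80), 3), ((4, 89), 2), ((4, 99), 3), ((4, 108), 3), ((4, 6), 4), ((4, 18), 2), ((4, 60), 2), ((4, 68), 4), ((4, 102), 2), ((4, 113), 4), ((4, 2), 4), ((4, 3), 4), ((4, 4), 2), ((4, 13), 4)],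
  [((0, 3), 1), ((0, 4), 4), ((0, 7), 1), ((0, 9), 4), ((0, 15), 1), ((0, 19), 4), ((0, 38), 4), ((0, 69), 4), ((1, 54), 3), ((1, 4), 1), ((1, 8), 1), ((1, 16), 2), ((1, 18), 1), ((1, 20), 1), ((1, 28), 3), ((1, 48), 2), ((1, 59), 3), ((1, 63), 4), ((1, 76), 2), ((2, 0), 3), ((2, 5), 1), ((2, 9), 3), ((2, 11), 1), ((2, 13), 1), ((2, 15), 2), ((2, 23), 1), ((2, 27), 4), ((2, 29), 4), ((2, 38), 3), ((2, 60), 1), ((2, 77), 1), ((2, 82), 1), ((3, 23), 2), ((3, 55), 3), ((3, 103), 2), ((3, 116), 2), ((3, 92), 2), ((3, 20), 2), ((3, 51), 4), ((3, 71), 2), ((3, 73), 3), ((3, 43), 3), ((3, 52), 2), ((3, 69), 2), ((3, 74), 1), ((4, 8), 1), ((4, 9), 1), ((4, 37), 3), ((4, 44), 3), ((4, 51), 1), ((4, 95), 3), ((4, 90), 3), ((3, 3), 3), ((3, 4), 2), ((3, 68), 2), ((4, 0), 2), ((4, 5), 2), ((4, 11), 4), ((4, 12), 4), ((4, 38), 3), ((4, 40),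 4), ((4, 49), 1), ((4, 55), 2), ((4, 101), 3), ((4, 105), 2), ((4, 106), 1), ((4, 7), 1), ((4, 31), 3), ((4, 43), 4), ((4, 58), 4), ((4, 69), 4), ((4, 82), 1), ((3, 1), 4), ((3, 5), 3), ((3, 7), 2), ((3, 9), 3), ((3, 15), 2), ((3, 16), 3), ((3, 19), 2), ((3, 21), 2), ((3, 39), 3), ((3, 42), 4), ((4, 1), 1), ((4, 26), 2), ((4, 42), 3), ((4, 54), 1), ((4, 72), 2), ((4, 74), 3), ((4, 80), 2), ((4, 89), 1), ((4, 99), 4), ((4, 103), 1), ((4, 104), 2), ((4, 6), 4), ((4, 18), 1), ((4, 35), 3), ((4, 60), 3), ((4, 68), 1), ((4, 102), 1), ((4, 113), 3), ((4, 2), 1), ((4, 3), 4), ((4, 13), 2)],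
  [((0, 3), 1), ((0, 4), 4), ((0, 8), 1), ((0, 9), 4), ((0, 17), 1), ((0, 19), 4), ((0, 35), 1), ((0, 38), 4), ((0, 64), 1), ((0, 70), 4), ((0, 95), 1), ((1, 54), 1), ((2, 92), 1), ((1, 2), 2), ((1, 4), 1), ((1, 6), 4), ((1, 8), 3), ((1, 10), 3), ((1, 16), 2), ((1, 18), 3), ((1, 20), 4), ((1, 28), 4), ((1, 56), 4), ((1, 63), 4), ((1, 76), 4), ((2, 0), 2), ((2, 1), 2), ((2, 3), 4), ((2, 7), 2), ((2, 9), 4), ((2, 11), 2), ((2, 13), 4), ((2, 15), 3), ((2, 27), 4), ((2, 31), 2), ((2, 77), 3), ((2, 82), 3), ((3, 55), 1), ((3, 103), 2), ((3, 116), 1), ((3, 92), 2), ((3, 20), 2), ((3, 11), 1), ((3, 51), 1), ((3, 71), 1), ((3, 73), 1), ((3, 52), 2), ((3, 69), 2), ((3, 74), 1), ((4, 8), 1), ((4, 9), 3), ((4, 37), 2), ((4, 44), 2), ((4, 51), 2), ((4, 75), 3), ((4, 78), 1), ((4, 92), 3), ((4, 90), 2), ((3, 3), 3), ((3, 4), 2), ((3, 68), 4),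 ((4, 0), 1), ((4, 5), 4), ((4, 11), 3), ((4, 12), 2), ((4, 29), 1), ((4, 49), 1), ((4, 55), 3), ((4, 101), 3), ((4, 105), 2), ((4, 106), 1), ((4, 119), 1), ((4, 7), 1), ((4, 31), 1), ((4, 43), 4), ((4, 48), 3), ((4, 58), 4), ((4, 69), 3), ((3, 1), 2), ((3, 5), 4), ((3, 7), 1), ((3, 8), 3), ((3, 9), 2), ((3, 15), 4), ((3, 16), 4), ((3, 17), 2), ((3, 19), 4), ((3, 21), 3), ((3, 29), 1), ((3, 30), 3), ((3, 39), 2), ((3, 42), 4), ((4, 1), 1), ((4, 26), 3), ((4, 42), 4), ((4, 54), 1), ((4, 56), 1), ((4, 72), 3), ((4, 88), 2), ((4, 89), 1), ((4, 99), 4), ((4, 104), 2), ((4, 108), 1), ((4, 116), 4), ((4, 35), 2), ((4, 60), 2), ((4, 68), 3), ((4, 113), 1), ((4, 2), 1), ((4, 3), 1), ((4, 4), 4), ((4, 13), 2)],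
  [((0, 19), 1), ((0, 20), 4), ((0, 38), 1), ((0, 39), 4), ((0, 69), 1), ((0, 71), 4), ((1, 54), 4), ((2, 92), 3), ((1, 0), 1), ((1, 2), 3), ((1, 4), 4), ((1, 6), 2), ((1, 8), 1), ((1, 12), 2), ((1, 14), 4), ((1, 16), 3), ((1, 18), 4), ((1, 48), 4), ((1, 56), 2), ((1, 59), 3), ((1, 63), 1), ((1, 76), 1), ((2, 0), 4), ((2, 1), 2), ((2, 5), 1), ((2, 7), 2), ((2, 9), 1), ((2, 11), 1), ((2, 13), 3), ((2, 23), 4), ((2, 27), 3), ((2, 31), 2), ((2, 38), 1), ((2, 60), 1), ((2, 77), 2), ((2, 82), 4), ((3, 23), 3), ((3, 55), 3), ((3, 103), 1), ((3, 116), 2), ((3, 92), 2), ((3, 20), 2), ((3, 71), 1), ((3, 73), 3), ((3, 43), 1), ((3, 69), 4), ((3, 74), 2), ((4, 8), 3), ((4, 9), 2), ((4, 37), 1), ((4, 51), 1), ((4, 75), 1), ((4, 78), 3), ((4, 92), 1), ((4, 90), 4), ((3, 3), 4), ((3, 4), 2), ((4, 0), 4), ((4, 5), 4), ((4, 11), 1), ((4, 12), 2),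 ((4, 29), 3), ((4, 40), 2), ((4, 49), 1), ((4, 55), 3), ((4, 101), 2), ((4, 105), 1), ((4, 106), 3), ((4, 119), 1), ((4, 7), 2), ((4, 31), 3), ((4, 43), 4), ((4, 48), 4), ((4, 82), 3), ((3, 1), 1), ((3, 5), 3), ((3, 7), 3), ((3, 8), 1), ((3, 9), 4), ((3, 15), 1), ((3, 16), 4), ((3, 17), 3), ((3, 19), 3), ((3, 21), 4), ((3, 30), 4), ((3, 42), 4), ((4, 42), 1), ((4, 54), 2), ((4, 56), 3), ((4, 72), 1), ((4, 74), 3), ((4, 80), 3), ((4, 88), 2), ((4, 103), 2), ((4, 104), 4), ((4, 108), 4), ((4, 116), 1), ((4, 6), 2), ((4, 18), 2), ((4, 35), 4), ((4, 60), 4), ((4, 68), 1), ((4, 102), 1), ((4, 113), 3), ((4, 2), 4), ((4, 3), 2), ((4, 4), 2)],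
  [((0, 3), 1), ((0, 4), 4), ((0, 7), 1), ((0, 9), 4), ((0, 15), 1), ((0, 20), 4), ((0, 31), 1), ((0, 40), 4), ((0, 72), 4), ((1, 54), 2), ((2, 92), 3), ((1, 2), 2), ((1, 4), 1), ((1, 6), 4), ((1, 8), 1), ((1, 10), 4), ((1, 12), 4), ((1, 14), 4), ((1, 16), 1), ((1, 18), 4), ((1, 48), 4), ((1, 59), 4), ((1, 63), 4), ((2, 1), 1), ((2, 3), 1), ((2, 7), 3), ((2, 9), 1), ((2, 11), 4), ((2, 13), 1), ((2, 23), 3), ((2, 27), 4), ((2, 29), 4), ((2, 31), 3), ((2, 38), 2), ((2, 60), 4), ((2, 82), 3), ((3, 23), 2), ((3, 55), 3), ((3, 92), 2), ((3, 11), 1), ((3, 51), 2), ((3, 71), 2), ((3, 73), 2), ((3, 43), 3), ((3, 52), 3), ((3, 69), 3), ((3, 74), 4), ((4, 8), 1), ((4, 9), 2), ((4, 51), 3), ((4, 75), 1), ((4, 78), 1), ((4, 95), 2), ((4, 90), 4), ((3, 3), 4), ((3, 68), 1), ((4, 0), 4), ((4, 11), 2), ((4, 12), 1), ((4, 38), 2), ((4, 49), 2),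 ((4, 105), 2), ((4, 106), 4), ((4, 119), 1), ((4, 7), 3), ((4, 31), 4), ((4, 69), 4), ((4, 82), 3), ((3, 1), 2), ((3, 5), 2), ((3, 7), 3), ((3, 8), 4), ((3, 9), 1), ((3, 15), 1), ((3, 16), 1), ((3, 17), 1), ((3, 19), 3), ((3, 21), 3), ((3, 29), 2), ((3, 30), 3), ((3, 39), 4), ((3, 42), 3), ((4, 1), 3), ((4, 26), 3), ((4, 42), 2), ((4, 54), 1), ((4, 72), 1), ((4, 74), 4), ((4, 80), 1), ((4, 88), 4), ((4, 103), 2), ((4, 104), 2), ((4, 116), 1), ((4, 6), 1), ((4, 18), 1), ((4, 35), 2), ((4, 60), 1), ((4, 68), 2), ((4, 113), 4), ((4, 2), 2), ((4, 3), 4), ((4, 13), 3)],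
  [((0, 9), 1), ((0, 10), 4), ((0, 20), 1), ((0, 21), 4), ((0, 40), 1), ((0, 41), 4), ((0, 72), 1), ((0, 73), 4), ((1, 54), 1), ((2, 92), 1), ((1, 0), 1), ((1, 2), 3), ((1, 4), 3), ((1, 6), 3), ((1, 10), 4), ((1, 12), 2), ((1, 14), 4), ((1, 16), 1), ((1, 18), 2), ((1, 20), 1), ((1, 28), 2), ((1, 59), 2), ((1, 63), 3), ((1, 76), 1), ((2, 0), 3), ((2, 1), 4), ((2, 3), 1), ((2, 5), 3), ((2, 7), 3), ((2, 9), 3), ((2, 11), 3), ((2, 15), 3), ((2, 23), 4), ((2, 27), 1), ((2, 29), 3), ((2, 31), 3), ((2, 60), 3), ((2, 77), 2), ((3, 23), 1), ((3, 55), 2), ((3, 103), 1), ((3, 116), 3), ((3, 20), 4), ((3, 11), 2), ((3, 51), 2), ((3, 71), 4), ((3, 73), 4), ((3, 43), 1), ((3, 52), 3), ((3, 69), 4), ((3, 74), 3), ((4, 9), 2), ((4, 37), 4), ((4, 44), 3), ((4, 51), 4), ((4, 75), 1), ((4, 78), 1), ((4, 92), 4), ((4, 95), 1), ((4, 5), 3), ((4, 11),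 1), ((4, 12), 1), ((4, 29), 2), ((4, 38), 3), ((4, 40), 3), ((4, 49), 3), ((4, 55), 4), ((4, 101), 4), ((4, 105), 3), ((4, 119), 2), ((4, 7), 4), ((4, 31), 4), ((4, 43), 3), ((4, 48), 3), ((4, 58), 2), ((4, 69), 3), ((4, 82), 2), ((3, 5), 1), ((3, 7), 1), ((3, 8), 4), ((3, 9), 4), ((3, 15), 2), ((3, 16), 3), ((3, 17), 2), ((3, 19), 1), ((3, 21), 4), ((3, 29), 1), ((3, 30), 3), ((3, 39), 4), ((3, 42), 1), ((4, 1), 3), ((4, 26), 4), ((4, 42), 1), ((4, 56), 3), ((4, 88), 2), ((4, 89), 4), ((4, 103), 3), ((4, 104), 4), ((4, 108), 4), ((4, 116), 2), ((4, 6), 1), ((4, 18), 3), ((4, 35), 1), ((4, 60), 3), ((4, 68), 4), ((4, 113), 1), ((4, 2), 2)],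
  [((0, 1), 4), ((0, 2), 1), ((0, 4), 4), ((0, 5), 1), ((0, 10), 4), ((0, 11), 1), ((0, 21), 4), ((0, 23), 1), ((0, 41), 4), ((0, 43), 1), ((0, 74), 4), ((1, 54), 4), ((2, 92), 3), ((1, 0), 3), ((1, 2), 2), ((1, 4), 3), ((1, 6), 1), ((1, 12), 2), ((1, 14), 1), ((1, 18), 3), ((1, 20), 2), ((1, 28), 2), ((1, 48), 4), ((1, 56), 4), ((1, 59), 4), ((1, 63), 4), ((1, 76), 3), ((2, 0), 3), ((2, 1), 4), ((2, 3), 1), ((2, 5), 4), ((2, 7), 4), ((2, 9), 3), ((2, 11), 4), ((2, 27), 4), ((2, 29), 2), ((2, 38), 4), ((2, 60), 1), ((2, 77), 4), ((2, 82), 3), ((3, 55), 1), ((3, 103), 1), ((3, 116), 4), ((3, 92), 3), ((3, 20), 1), ((3, 11), 2), ((3, 51), 1), ((3, 43), 1), ((3, 52), 3), ((3, 69), 2), ((3, 74), 3), ((4, 8), 4), ((4, 9), 1), ((4, 37), 1), ((4, 44), 4), ((4, 51), 3), ((4, 75), 3), ((4, 78), 4), ((4, 92), 4), ((3, 3), 3), ((3, 68), 2),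 ((4, 0), 1), ((4, 5), 1), ((4, 11), 1), ((4, 29), 4), ((4, 49), 2), ((4, 55), 2), ((4, 101), 4), ((4, 105), 1), ((4, 106), 1), ((4, 119), 3), ((4, 7), 2), ((4, 31), 4), ((4, 43), 2), ((4, 69), 3), ((4, 82), 2), ((3, 7), 4), ((3, 8), 1), ((3, 9), 2), ((3, 15), 2), ((3, 16), 1), ((3, 17), 1), ((3, 19), 1), ((3, 21), 1), ((3, 29), 1), ((3, 30), 4), ((3, 39), 1), ((3, 42), 4), ((4, 26), 3), ((4, 42), 4), ((4, 54), 3), ((4, 56), 1), ((4, 72), 3), ((4, 74), 4), ((4, 80), 1), ((4, 88), 4), ((4, 89), 2), ((4, 99), 1), ((4, 103), 3), ((4, 104), 1), ((4, 108), 1), ((4, 116), 4), ((4, 6), 1), ((4, 18), 2), ((4, 35), 3), ((4, 60), 3), ((4, 68), 2), ((4, 102), 3), ((4, 113), 1), ((4, 2), 2), ((4, 3), 1), ((4, 4), 1), ((4, 13), 4)],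
  [((0, 102), 1)],
  [((0, 1), 1), ((0, 2), 4), ((0, 4), 1), ((0, 5), 4), ((0, 9), 1), ((0, 11), 4), ((0, 19), 1), ((0, 23), 4), ((0, 38), 1), ((0, 43), 4), ((0, 76), 4), ((1, 54), 3), ((2, 92), 2), ((1, 0), 1), ((1, 2), 1), ((1, 4), 4), ((1, 6), 2), ((1, 10), 1), ((1, 12), 3), ((1, 16), 4), ((1, 18), 3), ((1, 20), 1), ((1, 48), 1), ((1, 56), 1), ((1, 59), 3), ((1, 63), 1), ((1, 76), 1), ((2, 1), 1), ((2, 3), 2), ((2, 5), 3), ((2, 11), 2), ((2, 13), 3), ((2, 15), 3), ((2, 23), 3), ((2, 27), 3), ((2, 29), 1), ((2, 31), 3), ((2, 38), 3), ((2, 77), 4), ((2, 82), 3), ((3, 23), 2), ((3, 55), 4), ((3, 103), 3), ((3, 116), 2), ((3, 20), 4), ((3, 11), 2), ((3, 51), 4), ((3, 71), 3), ((3, 73), 3), ((3, 43), 4), ((3, 52), 2), ((3, 69), 3), ((3, 74), 4), ((4, 8), 2), ((4, 9), 3), ((4, 37), 4), ((4, 44), 1), ((4, 75), 2), ((4, 78), 3), ((4,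 92), 2), ((4, 95), 1), ((3, 4), 1), ((4, 0), 4), ((4, 5), 1), ((4, 11), 2), ((4, 38), 2), ((4, 40), 3), ((4, 49), 4), ((4, 55), 4), ((4, 105), 2), ((4, 106), 4), ((4, 7), 4), ((4, 31), 2), ((4, 43), 3), ((4, 48), 3), ((4, 58), 2), ((4, 69), 3), ((4, 82), 1), ((3, 5), 4), ((3, 7), 3), ((3, 8), 2), ((3, 15), 2), ((3, 17), 4), ((3, 19), 4), ((3, 21), 4), ((3, 30), 3), ((3, 42), 3), ((4, 1), 4), ((4, 26), 3), ((4, 54), 1), ((4, 56), 2), ((4, 72), 2), ((4, 80), 4), ((4, 88), 2), ((4, 89), 3), ((4, 99), 3), ((4, 103), 1), ((4, 104), 1), ((4, 108), 3), ((4, 6), 3), ((4, 18), 2), ((4, 60), 3), ((4, 68), 3), ((4, 102), 3), ((4, 113), 1), ((4, 2), 3), ((4, 3), 3), ((4, 13), 3)],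
  [((0, 1), 1), ((0, 2), 4), ((0, 3), 1), ((0, 5), 4), ((0, 7), 1), ((0, 11), 4), ((0, 15), 1), ((0, 23), 4), ((0, 31), 1), ((0, 44), 4), ((0, 59), 1), ((0, 77), 4), ((0, 91), 1), ((1, 54), 3), ((2, 92), 1), ((1, 0), 4), ((1, 2), 2), ((1, 6), 4), ((1, 8), 1), ((1, 10), 1), ((1, 12), 4), ((1, 14), 1), ((1, 16), 1), ((1, 28), 2), ((1, 48), 4), ((1, 59), 1), ((1, 63), 1), ((2, 0), 1), ((2, 1), 3), ((2, 3), 3), ((2, 5), 3), ((2, 7), 4), ((2, 11), 3), ((2, 13), 2), ((2, 23), 2), ((2, 27), 3), ((2, 29), 3), ((2, 31), 3), ((2, 38), 2), ((2, 60), 1), ((2, 77), 1), ((2, 82), 1), ((3, 55), 1), ((3, 103), 4), ((3, 116), 2), ((3, 92), 3), ((3, 20), 4), ((3, 11), 4), ((3, 51), 3), ((3, 71), 4), ((3, 73), 3), ((3, 43), 2), ((3, 52), 4), ((3, 69), 1), ((4, 8), 4), ((4, 9), 4), ((4, 37), 3), ((4, 44), 4), ((4, 51), 3), ((4, 75), 4), ((4, 78), 3),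 ((4, 95), 4), ((4, 90), 2), ((3, 4), 1), ((4, 0), 1), ((4, 5), 2), ((4, 12), 3), ((4, 29), 2), ((4, 40), 3), ((4, 49), 2), ((4, 101), 1), ((4, 105), 1), ((4, 7), 2), ((4, 43), 4), ((4, 48), 4), ((4, 58), 4), ((4, 69), 4), ((4, 82), 2), ((3, 1), 2), ((3, 5), 3), ((3, 7), 4), ((3, 8), 4), ((3, 9), 1), ((3, 15), 2), ((3, 16), 3), ((3, 17), 2), ((3, 19), 4), ((3, 21), 1), ((3, 29), 1), ((3, 39), 1), ((3, 42), 1), ((4, 1), 4), ((4, 26), 2), ((4, 42), 2), ((4, 54), 3), ((4, 56), 1), ((4, 72), 1), ((4, 80), 4), ((4, 88), 2), ((4, 89), 2), ((4, 99), 4), ((4, 103), 4), ((4, 116), 1), ((4, 6), 4), ((4, 18), 2), ((4, 35), 2), ((4, 60), 4), ((4, 68), 1), ((4, 102), 3), ((4, 113), 3), ((4, 2), 2), ((4, 3), 3), ((4, 4), 2), ((4, 13), 3)],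
  [((0, 1), 1), ((0, 2), 4), ((0, 3), 1), ((0, 5), 4), ((0, 8), 1), ((0, 11), 4), ((0, 17), 1), ((0, 23), 4), ((0, 35), 1), ((0, 44), 4), ((0, 64), 1), ((0, 78), 4), ((2, 92), 3), ((1, 0), 1), ((1, 4), 2), ((1, 6), 1), ((1, 8), 4), ((1, 12), 1), ((1, 14), 2), ((1, 16), 4), ((1, 18), 3), ((1, 20), 3), ((1, 48), 1), ((1, 59), 4), ((1, 76), 3), ((2, 0), 3), ((2, 1), 2), ((2, 3), 3), ((2, 7), 4), ((2, 9), 2), ((2, 11), 4), ((2, 13), 2), ((2, 23), 3), ((2, 27), 1), ((2, 31), 2), ((2, 60), 3), ((2, 77), 4), ((2, 82), 3), ((3, 23), 2), ((3, 55), 3), ((3, 103), 4), ((3, 116), 3), ((3, 92), 2), ((3, 20), 2), ((3, 51), 1), ((3, 71), 4), ((3, 73), 1), ((3, 43), 3), ((3, 52), 3), ((3, 69), 2), ((3, 74), 4), ((4, 8), 3), ((4, 37), 4), ((4, 44), 1), ((4, 51), 3), ((4, 78), 1), ((4, 95), 2), ((4, 90), 4), ((3, 4), 1), ((3, 68), 3), ((4, 0), 4),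 ((4, 5), 1), ((4, 11), 3), ((4, 12), 4), ((4, 29), 3), ((4, 38), 3), ((4, 40), 4), ((4, 49), 1), ((4, 101), 3), ((4, 105), 1), ((4, 106), 3), ((4, 7), 3), ((4, 31), 1), ((4, 43), 1), ((4, 48), 2), ((4, 58), 4), ((4, 69), 4), ((4, 82), 2), ((3, 1), 3), ((3, 5), 3), ((3, 7), 2), ((3, 8), 4), ((3, 9), 1), ((3, 16), 1), ((3, 17), 2), ((3, 19), 2), ((3, 21), 4), ((3, 29), 2), ((3, 39), 3), ((4, 26), 1), ((4, 42), 4), ((4, 54), 4), ((4, 56), 4), ((4, 72), 1), ((4, 74), 3), ((4, 80), 4), ((4, 88), 1), ((4, 89), 3), ((4, 99), 3), ((4, 103), 2), ((4, 104), 2), ((4, 108), 3), ((4, 116), 4), ((4, 6), 3), ((4, 18), 4), ((4, 35), 4), ((4, 60), 1), ((4, 68), 3), ((4, 102), 1), ((4, 113), 2), ((4, 2), 4), ((4, 3), 4), ((4, 4), 1), ((4, 13), 4)],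
  [((0, 105), 1)],
  [((0, 1), 1), ((0, 2), 4), ((0, 3), 1), ((0, 5), 4), ((0, 7), 1), ((0, 11), 4), ((0, 16), 1), ((0, 24), 4), ((0, 33), 1), ((0, 46), 4), ((0, 60), 1), ((0, 80), 4), ((1, 54), 4), ((2, 92), 1), ((1, 0), 4), ((1, 2), 4), ((1, 4), 4), ((1, 10), 4), ((1, 12), 3), ((1, 14), 1), ((1, 16), 1), ((1, 18), 1), ((1, 28), 3), ((1, 56), 1), ((1, 63), 2), ((1, 76), 2), ((2, 0), 1), ((2, 3), 4), ((2, 7), 1), ((2, 9), 2), ((2, 11), 1), ((2, 13), 3), ((2, 15), 3), ((2, 23), 1), ((2, 29), 1), ((2, 31), 4), ((2, 60), 1), ((2, 77), 3), ((2, 82), 3), ((3, 23), 2), ((3, 55), 4), ((3, 103), 3), ((3, 92), 4), ((3, 11), 2), ((3, 51), 4), ((3, 73), 1), ((3, 43), 2), ((3, 69), 3), ((3, 74), 2), ((4, 8), 3), ((4, 9), 4), ((4, 37), 4), ((4, 44), 4), ((4, 51), 4), ((4, 75), 3), ((4, 78), 3), ((4, 92), 2), ((3, 4), 2), ((3, 68), 2), ((4, 0),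 4), ((4, 11), 4), ((4, 29), 2), ((4, 38), 2), ((4, 49), 4), ((4, 55), 3), ((4, 101), 1), ((4, 105), 3), ((4, 106), 1), ((4, 119), 3), ((4, 7), 3), ((4, 31), 4), ((4, 43), 4), ((4, 48), 4), ((4, 58), 4), ((4, 69), 3), ((4, 82), 2), ((3, 1), 3), ((3, 7), 2), ((3, 8), 3), ((3, 9), 4), ((3, 15), 1), ((3, 17), 3), ((3, 19), 1), ((3, 21), 4), ((3, 29), 1), ((3, 30), 4), ((3, 39), 4), ((3, 42), 4), ((4, 1), 3), ((4, 42), 4), ((4, 54), 2), ((4, 72), 3), ((4, 74), 3), ((4, 80), 2), ((4, 88), 1), ((4, 89), 3), ((4, 99), 1), ((4, 103), 4), ((4, 108), 1), ((4, 116), 4), ((4, 18), 3), ((4, 35), 3), ((4, 60), 2), ((4, 68), 4), ((4, 102), 4), ((4, 2), 4), ((4, 3), 3), ((4, 4), 3)],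
  [((0, 11), 4), ((0, 12), 1), ((0, 24), 4), ((0, 26), 1), ((0, 46), 4), ((0, 49), 1), ((0, 81), 4), ((2, 92), 2), ((1, 0), 1), ((1, 2), 4), ((1, 6), 1), ((1, 8), 2), ((1, 10), 1), ((1, 12), 4), ((1, 14), 4), ((1, 16), 3), ((1, 18), 2), ((1, 20), 2), ((1, 28), 1), ((1, 48), 4), ((1, 56), 1), ((1, 59), 2), ((1, 63), 4), ((1, 76), 4), ((2, 0), 1), ((2, 5), 3), ((2, 7), 4), ((2, 9), 3), ((2, 11), 3), ((2, 13), 3), ((2, 15), 3), ((2, 23), 4), ((2, 27), 4), ((2, 29), 1), ((2, 38), 1), ((2, 60), 3), ((2, 77), 1), ((3, 23), 2), ((3, 55), 2), ((3, 103), 4), ((3, 116), 2), ((3, 92), 2), ((3, 20), 4), ((3, 11), 4), ((3, 73), 3), ((3, 43), 3), ((3, 52), 2), ((3, 69), 1), ((3, 74), 4), ((4, 8), 3), ((4, 9), 2), ((4, 37), 4), ((4, 44), 4), ((4, 51), 2), ((4, 75), 1), ((4, 92), 1), ((4, 95), 1), ((4, 90), 3), ((3, 4), 1), ((3, 68), 1), ((4, 5),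 2), ((4, 11), 2), ((4, 12), 3), ((4, 29), 3), ((4, 38), 3), ((4, 40), 1), ((4, 101), 3), ((4, 106), 1), ((4, 119), 4), ((4, 7), 4), ((4, 31), 3), ((4, 43), 4), ((4, 48), 1), ((4, 58), 3), ((4, 69), 2), ((3, 1), 4), ((3, 5), 2), ((3, 7), 3), ((3, 8), 3), ((3, 9), 1), ((3, 16), 2), ((3, 17), 3), ((3, 19), 4), ((3, 21), 3), ((3, 29), 3), ((3, 30), 4), ((3, 39), 3), ((4, 1), 1), ((4, 26), 2), ((4, 42), 4), ((4, 54), 3), ((4, 72), 3), ((4, 74), 4), ((4, 80), 2), ((4, 89), 3), ((4, 99), 1), ((4, 103), 3), ((4, 108), 2), ((4, 116), 2), ((4, 6), 1), ((4, 18), 2), ((4, 35), 3), ((4, 60), 2), ((4, 102), 2), ((4, 113), 2), ((4, 2), 1), ((4, 3), 4), ((4, 13), 3)],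
  [((0, 5), 4), ((0, 6), 1), ((0, 12), 4), ((0, 14), 1), ((0, 25), 4), ((0, 29), 1), ((0, 47), 4), ((0, 55), 1), ((0, 82), 4), ((0, 87), 1), ((1, 54), 4), ((2, 92), 1), ((1, 2), 1), ((1, 6), 3), ((1, 8), 2), ((1, 10), 3), ((1, 12), 1), ((1, 16), 3), ((1, 18), 3), ((1, 20), 3), ((1, 28), 1), ((1, 48), 3), ((1, 56), 1), ((1, 63), 2), ((1, 76), 3), ((2, 0), 2), ((2, 1), 2), ((2, 5), 4), ((2, 7), 1), ((2, 9), 2), ((2, 11), 3), ((2, 15), 4), ((2, 23), 3), ((2, 27), 3), ((2, 29), 3), ((2, 38), 1), ((2, 60), 4), ((2, 82), 2), ((3, 23), 4), ((3, 55), 4), ((3, 103), 1), ((3, 116), 1), ((3, 92), 2), ((3, 11), 3), ((3, 51), 3), ((3, 71), 3), ((3, 73), 3), ((3, 43), 4), ((3, 52), 1), ((3, 69), 4), ((3, 74), 1), ((4, 8), 2), ((4, 9), 3), ((4, 37), 1), ((4, 44), 4), ((4, 51), 2), ((4, 78), 3), ((4, 95), 4), ((4, 90), 4), ((3, 4), 2), ((3, 68),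 1), ((4, 0), 4), ((4, 5), 3), ((4, 11), 4), ((4, 12), 1), ((4, 29), 2), ((4, 38), 3), ((4, 40), 3), ((4, 49), 2), ((4, 55), 2), ((4, 101), 1), ((4, 106), 2), ((4, 7), 2), ((4, 31), 1), ((4, 48), 4), ((4, 58), 3), ((4, 82), 1), ((3, 1), 3), ((3, 5), 1), ((3, 7), 1), ((3, 8), 3), ((3, 9), 3), ((3, 15), 3), ((3, 16), 3), ((3, 17), 1), ((3, 19), 4), ((3, 21), 2), ((3, 39), 1), ((3, 42), 3), ((4, 26), 2), ((4, 42), 1), ((4, 54), 1), ((4, 56), 1), ((4, 80), 4), ((4, 88), 1), ((4, 89), 1), ((4, 99), 4), ((4, 103), 1), ((4, 104), 2), ((4, 108), 1), ((4, 116), 1), ((4, 6), 1), ((4, 18), 2), ((4, 35), 4), ((4, 60), 3), ((4, 68), 2), ((4, 102), 4), ((4, 113), 1), ((4, 3), 1), ((4, 4), 4), ((4, 13), 2)],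
  [((0, 11), 1), ((0, 12), 4), ((0, 23), 1), ((0, 26), 4), ((0, 44), 1), ((0, 50), 4), ((0, 78), 1), ((0, 83), 4), ((0, 104), 1), ((1, 54), 3), ((2, 92), 2), ((1, 0), 2), ((1, 6), 3), ((1, 8), 3), ((1, 10), 3), ((1, 12), 4), ((1, 14), 1), ((1, 16), 3), ((1, 20), 4), ((1, 48), 1), ((1, 56), 3), ((1, 59), 1), ((1, 63), 3), ((1, 76), 2), ((2, 0), 2), ((2, 3), 2), ((2, 5), 4), ((2, 7), 3), ((2, 9), 3), ((2, 11), 4), ((2, 15), 1), ((2, 23), 2), ((2, 29), 4), ((2, 31), 3), ((2, 60), 3), ((2, 77), 4), ((2, 82), 2), ((3, 23), 1), ((3, 55), 3), ((3, 116), 3), ((3, 92), 4), ((3, 51), 4), ((3, 71), 3), ((3, 73), 3), ((3, 43), 3), ((3, 52), 4), ((3, 74), 3), ((4, 8), 1), ((4, 9), 2), ((4, 37), 4), ((4, 44), 2), ((4, 51), 1), ((4, 75), 4), ((4, 78), 1), ((4, 92), 4), ((4, 95), 3), ((4, 90), 2), ((3, 3), 2), ((3, 4), 1), ((4, 5), 4), ((4, 11),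 4), ((4, 40), 1), ((4, 49), 3), ((4, 55), 2), ((4, 101), 1), ((4, 105), 3), ((4, 106), 1), ((4, 119), 3), ((4, 7), 4), ((4, 31), 2), ((4, 43), 4), ((4, 48), 3), ((4, 58), 4), ((4, 69), 2), ((4, 82), 3), ((3, 7), 1), ((3, 8), 1), ((3, 9), 3), ((3, 16), 3), ((3, 17), 1), ((3, 19), 1), ((3, 21), 1), ((3, 29), 3), ((3, 30), 2), ((3, 39), 3), ((3, 42), 2), ((4, 1), 4), ((4, 26), 4), ((4, 42), 2), ((4, 54), 4), ((4, 56), 1), ((4, 74), 2), ((4, 99), 1), ((4, 103), 1), ((4, 104), 4), ((4, 108), 1), ((4, 116), 4), ((4, 6), 4), ((4, 18), 4), ((4, 35), 4), ((4, 60), 3), ((4, 68), 1), ((4, 102), 2), ((4, 2), 1), ((4, 4), 4), ((4, 13), 1)],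
  [((0, 107), 1)],
  [((0, 108), 1)],
  [((0, 109), 1)],
  [((0, 110), 1)],
  [((0, 1), 1), ((0, 2), 4), ((0, 3), 1), ((0, 6), 4), ((0, 14), 4), ((0, 29), 4), ((0, 55), 4), ((0, 88), 4), ((2, 92), 1), ((1, 0), 3), ((1, 2), 2), ((1, 4), 1), ((1, 6), 3), ((1, 8), 3), ((1, 16), 1), ((1, 28), 2), ((1, 48), 2), ((1, 56), 1), ((1, 59), 4), ((1, 63), 1), ((1, 76), 2), ((2, 0), 2), ((2, 1), 3), ((2, 3), 3), ((2, 5), 1), ((2, 7), 3), ((2, 9), 3), ((2, 13), 3), ((2, 15), 3), ((2, 23), 4), ((2, 27), 3), ((2, 29), 2), ((2, 31), 1), ((2, 38), 4), ((2, 60), 3), ((2, 77), 3), ((2, 82), 3), ((3, 23), 3), ((3, 55), 1), ((3, 103), 4), ((3, 116), 2), ((3, 92), 3), ((3, 20), 3), ((3, 11), 1), ((3, 51), 3), ((3, 71), 2), ((3, 43), 2), ((3, 69), 4), ((3, 74), 1), ((4, 8), 1), ((4, 9), 4), ((4, 37), 1), ((4, 51), 4), ((4, 75), 1), ((4, 90), 1), ((3, 4),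 1), ((3, 68), 1), ((4, 5), 4), ((4, 11), 3), ((4, 12), 3), ((4, 29), 4), ((4, 38), 4), ((4, 40), 3), ((4, 49), 4), ((4, 55), 4), ((4, 101), 4), ((4, 106), 2), ((4, 119), 4), ((4, 7), 3), ((4, 43), 1), ((4, 58), 2), ((4, 82), 4), ((3, 1), 3), ((3, 5), 2), ((3, 7), 4), ((3, 8), 2), ((3, 9), 2), ((3, 15), 2), ((3, 16), 3), ((3, 17), 3), ((3, 21), 2), ((3, 29), 2), ((3, 30), 3), ((3, 39), 4), ((3, 42), 2), ((4, 1), 1), ((4, 26), 4), ((4, 42), 3), ((4, 54), 3), ((4, 56), 4), ((4, 72), 4), ((4, 80), 4), ((4, 88), 3), ((4, 89), 1), ((4, 103), 1), ((4, 104), 4), ((4, 108), 2), ((4, 116), 2), ((4, 6), 1), ((4, 18), 4), ((4, 35), 3), ((4, 60), 3), ((4, 68), 1), ((4, 102), 3), ((4, 113), 2), ((4, 2), 4), ((4, 4), 1), ((4, 13), 1)],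
  [((0, 112), 1)],
  [((0, 1), 1), ((0, 2), 4), ((0, 3), 1), ((0, 6), 4), ((0, 8), 1), ((0, 14), 4), ((0, 18), 1), ((0, 29), 4), ((0, 37), 1), ((0, 56), 4), ((0, 68), 1), ((0, 90), 4), ((0, 98), 1), ((1, 2), 4), ((1, 4), 2), ((1, 6), 4), ((1, 8), 3), ((1, 10), 1), ((1, 12), 4), ((1, 14), 4), ((1, 28), 4), ((1, 48), 2), ((1, 56), 4), ((1, 59), 4), ((1, 63), 4), ((1, 76), 3), ((2, 1), 2), ((2, 5), 2), ((2, 7), 4), ((2, 9), 2), ((2, 13), 1), ((2, 29), 1), ((2, 31), 2), ((2, 38), 1), ((2, 60), 4), ((2, 77), 4), ((2, 82), 4), ((3, 55), 3), ((3, 103), 4), ((3, 116), 3), ((3, 20), 4), ((3, 11), 4), ((3, 51), 1), ((3, 71), 2), ((3, 73), 1), ((3, 43), 1), ((3, 52), 2), ((3, 69), 4), ((3, 74), 2), ((4, 8), 2), ((4, 9), 4), ((4, 37), 4), ((4, 44), 2), ((4, 51), 1), ((4, 75), 4), ((4, 95), 3), ((4, 90), 2), ((3, 3), 1), ((3, 4), 2), ((3, 68),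 1), ((4, 0), 1), ((4, 5), 3), ((4, 11), 2), ((4, 12), 1), ((4, 29), 1), ((4, 38), 1), ((4, 40), 1), ((4, 55), 1), ((4, 101), 1), ((4, 105), 4), ((4, 106), 1), ((4, 119), 4), ((4, 7), 3), ((4, 31), 4), ((4, 43), 4), ((4, 48), 3), ((4, 69), 1), ((4, 82), 2), ((3, 1), 4), ((3, 5), 1), ((3, 7), 2), ((3, 8), 1), ((3, 15), 3), ((3, 16), 1), ((3, 17), 2), ((3, 19), 4), ((3, 21), 4), ((3, 29), 2), ((3, 30), 4), ((3, 39), 4), ((3, 42), 3), ((4, 1), 2), ((4, 26), 1), ((4, 42), 3), ((4, 54), 4), ((4, 56), 4), ((4, 72), 1), ((4, 74), 3), ((4, 80), 2), ((4, 88), 3), ((4, 103), 3), ((4, 108), 2), ((4, 116), 3), ((4, 6), 3), ((4, 18), 4), ((4, 35), 4), ((4, 60), 1), ((4, 102), 2), ((4, 113), 3), ((4, 2), 3), ((4, 4), 2), ((4, 13), 2)],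
  [((0, 1), 4), ((0, 2), 1), ((0, 3), 4), ((0, 6), 1), ((0, 7), 4), ((0, 14), 1), ((0, 15), 4), ((0, 29), 1), ((0, 31), 4), ((0, 56), 1), ((0, 59), 4), ((0, 89), 1), ((0, 91), 4), ((2, 92), 1), ((1, 0), 4), ((1, 2), 3), ((1, 6), 3), ((1, 8), 2), ((1, 10), 1), ((1, 12), 4), ((1, 14), 3), ((1, 16), 1), ((1, 18), 2), ((1, 20), 4), ((1, 48), 3), ((1, 56), 3), ((1, 63), 3), ((1, 76), 1), ((2, 0), 1), ((2, 3), 4), ((2, 5), 4), ((2, 9), 3), ((2, 11), 1), ((2, 27), 4), ((2, 29), 1), ((2, 31), 1), ((2, 38), 4), ((2, 60), 4), ((2, 77), 4), ((2, 82), 2), ((3, 55), 1), ((3, 103), 1), ((3, 116), 4), ((3, 92), 4), ((3, 20), 2), ((3, 11), 4), ((3, 71), 3), ((3, 43), 3), ((3, 69), 3), ((3, 74), 4), ((4, 8), 2), ((4, 9), 4), ((4, 37), 2), ((4, 44), 3), ((4, 51), 4), ((4, 75), 2), ((4, 78), 2), ((4, 95), 4), ((3, 3), 1), ((3, 4), 2), ((4, 0), 1),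 ((4, 5), 1), ((4, 11), 3), ((4, 12), 1), ((4, 29), 4), ((4, 38), 4), ((4, 40), 2), ((4, 49), 2), ((4, 55), 3), ((4, 101), 4), ((4, 105), 4), ((4, 119), 2), ((4, 7), 2), ((4, 31), 4), ((4, 43), 3), ((4, 48), 3), ((4, 58), 1), ((4, 69), 4), ((4, 82), 4), ((3, 1), 2), ((3, 5), 3), ((3, 7), 3), ((3, 8), 2), ((3, 15), 4), ((3, 16), 2), ((3, 19), 3), ((3, 21), 1), ((3, 30), 3), ((3, 39), 1), ((3, 42), 4), ((4, 1), 3), ((4, 26), 1), ((4, 42), 1), ((4, 54), 4), ((4, 56), 2), ((4, 72), 4), ((4, 74), 1), ((4, 80), 3), ((4, 88), 4), ((4, 89), 2), ((4, 103), 2), ((4, 104), 3), ((4, 108), 3), ((4, 6), 2), ((4, 18), 3), ((4, 35), 1), ((4, 60), 1), ((4, 102), 2), ((4, 113), 3), ((4, 2), 1), ((4, 3), 2), ((4, 4), 1), ((4, 13), 1)],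
  [((2, 92), 3)],
  [((0, 1), 4), ((0, 2), 1), ((0, 3), 4), ((0, 6), 1), ((0, 7), 4), ((0, 14), 1), ((0, 16), 4), ((0, 29), 1), ((0, 33), 4), ((0, 55), 1), ((0, 60), 4), ((0, 88), 1), ((0, 93), 4), ((0, 111), 1), ((1, 54), 4), ((1, 0), 2), ((1, 2), 1), ((1, 4), 3), ((1, 6), 3), ((1, 8), 3), ((1, 10), 3), ((1, 12), 2), ((1, 14), 2), ((1, 16), 1), ((1, 18), 3), ((1, 20), 3), ((1, 28), 2), ((1, 48), 4), ((1, 63), 4), ((1, 76), 1), ((2, 0), 1), ((2, 1), 2), ((2, 3), 2), ((2, 7), 2), ((2, 13), 4), ((2, 15), 2), ((2, 23), 4), ((2, 27), 4), ((2, 29), 2), ((2, 31), 2), ((2, 38), 1), ((2, 77), 1), ((3, 23), 2), ((3, 55), 4), ((3, 116), 1), ((3, 92), 2), ((3, 20), 4), ((3, 11), 2), ((3, 71), 3), ((3, 43), 2), ((3, 52), 3), ((3, 69), 3), ((4, 8), 2), ((4, 9), 1), ((4, 75), 1), ((4, 78), 3), ((4, 92), 2), ((4, 95), 3), ((4, 90), 3), ((3, 3),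 3), ((3, 4), 4), ((4, 5), 1), ((4, 11), 1), ((4, 12), 4), ((4, 38), 2), ((4, 40), 3), ((4, 55), 4), ((4, 105), 2), ((4, 106), 2), ((4, 7), 1), ((4, 43), 1), ((4, 58), 2), ((4, 69), 4), ((4, 82), 4), ((3, 1), 1), ((3, 5), 2), ((3, 7), 4), ((3, 8), 2), ((3, 9), 2), ((3, 16), 3), ((3, 17), 1), ((3, 19), 4), ((3, 21), 2), ((3, 29), 1), ((3, 30), 4), ((3, 39), 1), ((4, 1), 3), ((4, 26), 4), ((4, 42), 3), ((4, 54), 3), ((4, 56), 3), ((4, 72), 3), ((4, 80), 1), ((4, 88), 1), ((4, 89), 3), ((4, 104), 1), ((4, 116), 3), ((4, 6), 3), ((4, 18), 3), ((4, 60), 3), ((4, 68), 2), ((4, 102), 1), ((4, 113), 3), ((4, 2), 2), ((4, 3), 4), ((4, 4), 4), ((4, 13), 1)],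
  [((0, 7), 4), ((0, 8), 1), ((0, 16), 4), ((0, 17), 1), ((0, 34), 4), ((0, 35), 1), ((0, 62), 4), ((0, 94), 4), ((1, 54), 4), ((2, 92), 3), ((1, 0), 3), ((1, 4), 3), ((1, 6), 3), ((1, 8), 3), ((1, 10), 1), ((1, 16), 1), ((1, 18), 1), ((1, 20), 3), ((1, 28), 2), ((1, 48), 2), ((1, 76), 2), ((2, 0), 1), ((2, 1), 1), ((2, 3), 2), ((2, 5), 2), ((2, 7), 1), ((2, 9), 3), ((2, 11), 2), ((2, 13), 3), ((2, 23), 4), ((2, 27), 1), ((2, 31), 1), ((2, 38), 2), ((3, 23), 2), ((3, 55), 3), ((3, 103), 3), ((3, 92), 4), ((3, 20), 2), ((3, 11), 3), ((3, 51), 3), ((3, 71), 1), ((3, 73), 2), ((3, 43), 2), ((3, 52), 4), ((3, 69), 1), ((3, 74), 1), ((4, 8), 2), ((4, 44), 3), ((4, 51), 1), ((4, 78), 1), ((4, 92), 4), ((4, 95), 1), ((4, 90), 4), ((3, 3), 2), ((3, 4), 1), ((3, 68), 2), ((4, 0), 2), ((4, 5), 4), ((4, 11), 1), ((4, 12), 2), ((4, 38), 3),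 ((4, 40), 1), ((4, 49), 3), ((4, 55), 4), ((4, 101), 4), ((4, 105), 1), ((4, 106), 2), ((4, 119), 1), ((4, 31), 4), ((4, 43), 1), ((4, 48), 3), ((4, 58), 2), ((4, 69), 3), ((4, 82), 1), ((3, 1), 1), ((3, 8), 1), ((3, 9), 3), ((3, 16), 2), ((3, 17), 3), ((3, 19), 4), ((3, 21), 2), ((3, 29), 4), ((3, 30), 1), ((3, 39), 3), ((4, 26), 3), ((4, 42), 3), ((4, 56), 4), ((4, 72), 2), ((4, 74), 2), ((4, 88), 3), ((4, 89), 1), ((4, 99), 1), ((4, 103), 4), ((4, 104), 4), ((4, 108), 1), ((4, 116), 4), ((4, 6), 3), ((4, 18), 2), ((4, 35), 3), ((4, 60), 1), ((4, 68), 1), ((4, 102), 1), ((4, 113), 2), ((4, 2), 4), ((4, 3), 1), ((4, 4), 3), ((4, 13), 4)],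
  [((0, 3), 4), ((0, 4), 1), ((0, 8), 4), ((0, 10), 1), ((0, 17), 4), ((0, 21), 1), ((0, 35), 4), ((0, 41), 1), ((0, 64), 4), ((0, 95), 4), ((1, 54), 2), ((2, 92), 4), ((1, 0), 1), ((1, 4), 2), ((1, 6), 3), ((1, 8), 2), ((1, 10), 1), ((1, 14), 4), ((1, 16), 4), ((1, 18), 1), ((1, 20), 3), ((1, 28), 4), ((1, 56), 1), ((1, 59), 3), ((1, 63), 1), ((1, 76), 2), ((2, 1), 3), ((2, 3), 3), ((2, 5), 3), ((2, 7), 4), ((2, 9), 3), ((2, 11), 2), ((2, 13), 3), ((2, 15), 4), ((2, 23), 2), ((2, 27), 4), ((2, 29), 2), ((2, 38), 4), ((2, 60), 4), ((2, 77), 4), ((2, 82), 1), ((3, 23), 3), ((3, 55), 4), ((3, 103), 4), ((3, 116), 3), ((3, 20), 3), ((3, 51), 4), ((3, 71), 1), ((3, 73), 1), ((3, 52), 3), ((3, 69), 3), ((3, 74), 2), ((4, 8), 3), ((4, 9), 3), ((4, 37), 3), ((4, 44), 3), ((4, 75), 2), ((4, 78), 2), ((4, 92), 1), ((4, 95), 4), ((4, 90),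 3), ((3, 3), 4), ((3, 4), 2), ((3, 68), 4), ((4, 0), 4), ((4, 5), 4), ((4, 11), 4), ((4, 12), 3), ((4, 38), 3), ((4, 40), 2), ((4, 49), 3), ((4, 55), 1), ((4, 101), 3), ((4, 106), 4), ((4, 119), 1), ((4, 7), 3), ((4, 31), 3), ((4, 43), 1), ((4, 48), 4), ((4, 58), 4), ((4, 69), 1), ((4, 82), 2), ((3, 1), 3), ((3, 5), 2), ((3, 7), 2), ((3, 8), 4), ((3, 9), 1), ((3, 15), 2), ((3, 17), 3), ((3, 19), 1), ((3, 21), 2), ((3, 29), 3), ((3, 39), 2), ((3, 42), 4), ((4, 26), 1), ((4, 42), 2), ((4, 56), 1), ((4, 72), 2), ((4, 74), 1), ((4, 88), 2), ((4, 89), 4), ((4, 99), 2), ((4, 103), 1), ((4, 104), 1), ((4, 116), 2), ((4, 6), 1), ((4, 18), 1), ((4, 60), 2), ((4, 68), 2), ((4, 102), 4), ((4, 113), 2), ((4, 2), 4), ((4, 13), 1)],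
  [((0, 7), 1), ((0, 8), 4), ((0, 16), 1), ((0, 17), 4), ((0, 33), 1), ((0, 35), 4), ((0, 64), 4), ((0, 96), 4), ((1, 54), 4), ((1, 0), 1), ((1, 2), 4), ((1, 4), 1), ((1, 6), 3), ((1, 8), 1), ((1, 10), 2), ((1, 12), 3), ((1, 14), 2), ((1, 20), 3), ((1, 28), 4), ((1, 48), 3), ((1, 56), 4), ((1, 59), 4), ((1, 63), 1), ((1, 76), 3), ((2, 0), 3), ((2, 1), 2), ((2, 3), 4), ((2, 5), 4), ((2, 7), 3), ((2, 9), 4), ((2, 13), 1), ((2, 15), 3), ((2, 27), 3), ((2, 29), 2), ((2, 31), 1), ((2, 60), 2), ((2, 77), 2), ((2, 82), 2), ((3, 23), 2), ((3, 103), 1), ((3, 116), 4), ((3, 20), 4), ((3, 11), 4), ((3, 51), 1), ((3, 71), 1), ((3, 73), 3), ((3, 43), 1), ((3, 52), 3), ((4, 8), 2), ((4, 9), 4), ((4, 37), 4), ((4, 44), 4), ((4, 75), 1), ((4, 78), 3), ((4, 92), 1), ((4, 95), 3), ((4, 90), 4), ((3, 4), 4), ((4, 5), 3), ((4, 11), 1), ((4, 12), 1),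 ((4, 29), 2), ((4, 38), 4), ((4, 49), 1), ((4, 101), 2), ((4, 105), 1), ((4, 119), 3), ((4, 31), 2), ((4, 43), 2), ((4, 48), 2), ((4, 58), 2), ((4, 69), 2), ((4, 82), 4), ((3, 1), 4), ((3, 5), 3), ((3, 7), 3), ((3, 9), 3), ((3, 16), 4), ((3, 17), 1), ((3, 19), 2), ((3, 21), 2), ((3, 29), 3), ((3, 30), 4), ((3, 42), 3), ((4, 1), 1), ((4, 26), 1), ((4, 42), 1), ((4, 54), 3), ((4, 56), 3), ((4, 72), 1), ((4, 80), 3), ((4, 88), 4), ((4, 99), 2), ((4, 103), 3), ((4, 104), 3), ((4, 108), 2), ((4, 116), 4), ((4, 18), 1), ((4, 35), 2), ((4, 60), 1), ((4, 68), 4), ((4, 102), 1), ((4, 113), 4), ((4, 2), 2), ((4, 3), 2), ((4, 4), 4)],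
  [((0, 114), 1)],
  [((0, 7), 1), ((0, 8), 4), ((0, 16), 1), ((0, 18), 4), ((0, 34), 1), ((0, 37), 4), ((0, 62), 1), ((0, 68), 4), ((0, 94), 1), ((0, 98), 4), ((1, 54), 4), ((2, 92), 4), ((1, 0), 1), ((1, 2), 4), ((1, 6), 4), ((1, 8), 3), ((1, 14), 4), ((1, 16), 4), ((1, 56), 1), ((1, 59), 2), ((1, 76), 3), ((2, 1), 3), ((2, 3), 2), ((2, 5), 1), ((2, 9), 3), ((2, 11), 1), ((2, 13), 3), ((2, 15), 3), ((2, 23), 1), ((2, 27), 1), ((2, 29), 3), ((2, 31), 3), ((2, 38), 3), ((2, 60), 4), ((2, 82), 3), ((3, 23), 4), ((3, 55), 2), ((3, 116), 1), ((3, 92), 2), ((3, 20), 1), ((3, 51), 1), ((3, 71), 3), ((3, 73), 1), ((3, 43), 2), ((3, 52), 1), ((3, 74), 4), ((4, 37), 3), ((4, 44), 3), ((4, 51), 1), ((4, 75), 1), ((4, 78), 3), ((4, 92), 4), ((4, 95), 2), ((4, 90), 3), ((3, 4), 3), ((3, 68), 4), ((4, 0), 4), ((4, 11), 3), ((4, 12), 4), ((4,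 29), 4), ((4, 38), 2), ((4, 40), 4), ((4, 49), 3), ((4, 101), 4), ((4, 105), 4), ((4, 119), 3), ((4, 7), 2), ((4, 31), 3), ((4, 43), 4), ((4, 48), 4), ((4, 58), 4), ((4, 69), 1), ((4, 82), 2), ((3, 5), 4), ((3, 8), 1), ((3, 9), 1), ((3, 15), 2), ((3, 17), 1), ((3, 21), 2), ((3, 29), 4), ((3, 30), 1), ((4, 1), 3), ((4, 26), 2), ((4, 42), 4), ((4, 54), 3), ((4, 56), 3), ((4, 74), 3), ((4, 80), 2), ((4, 89), 4), ((4, 99), 3), ((4, 103), 2), ((4, 104), 1), ((4, 108), 1), ((4, 116), 3), ((4, 6), 4), ((4, 18), 1), ((4, 35), 3), ((4, 60), 4), ((4, 68), 3), ((4, 102), 3), ((4, 113), 2), ((4, 2), 4), ((4, 3), 3), ((4, 4), 4)],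
  [((0, 1), 4), ((0, 2), 1), ((0, 4), 4), ((0, 5), 1), ((0, 10), 4), ((0, 11), 1), ((0, 21), 4), ((0, 23), 1), ((0, 41), 4), ((0, 44), 1), ((0, 73), 4), ((0, 77), 1), ((0, 99), 4), ((1, 54), 2), ((2, 92), 4), ((1, 0), 2), ((1, 4), 3), ((1, 6), 1), ((1, 8), 4), ((1, 12), 1), ((1, 14), 2), ((1, 16), 1), ((1, 18), 2), ((1, 28), 3), ((1, 48), 4), ((1, 56), 4), ((1, 59), 2), ((1, 63), 2), ((2, 0), 2), ((2, 1), 3), ((2, 3), 1), ((2, 5), 4), ((2, 7), 4), ((2, 9), 2), ((2, 11), 4), ((2, 13), 4), ((2, 15), 3), ((2, 27), 2), ((2, 29), 1), ((2, 31), 2), ((2, 38), 2), ((2, 60), 4), ((2, 82), 1), ((3, 55), 4), ((3, 116), 2), ((3, 92), 2), ((3, 20), 4), ((3, 11), 1), ((3, 51), 1), ((3, 71), 4), ((3, 69), 3), ((4, 8), 4), ((4, 9), 2), ((4, 37), 1), ((4, 44), 2), ((4, 51), 2), ((4, 75), 3), ((4, 92), 3), ((4, 95), 2), ((4, 90), 3), ((3, 3), 4),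 ((3, 4), 3), ((3, 68), 4), ((4, 0), 1), ((4, 5), 1), ((4, 12), 3), ((4, 29), 3), ((4, 38), 2), ((4, 40), 1), ((4, 49), 1), ((4, 55), 4), ((4, 101), 4), ((4, 106), 4), ((4, 119), 3), ((4, 7), 2), ((4, 31), 3), ((4, 43), 2), ((4, 48), 2), ((4, 58), 4), ((4, 69), 4), ((4, 82), 2), ((3, 1), 4), ((3, 5), 1), ((3, 7), 2), ((3, 8), 2), ((3, 9), 3), ((3, 15), 3), ((3, 16), 3), ((3, 17), 4), ((3, 19), 3), ((3, 21), 4), ((3, 39), 2), ((3, 42), 2), ((4, 1), 4), ((4, 26), 2), ((4, 42), 4), ((4, 54), 3), ((4, 56), 4), ((4, 72), 2), ((4, 74), 2), ((4, 80), 2), ((4, 88), 3), ((4, 99), 4), ((4, 104), 2), ((4, 108), 4), ((4, 116), 1), ((4, 35), 2), ((4, 60), 3), ((4, 68), 4), ((4, 102), 3), ((4, 113), 4), ((4, 2), 2), ((4, 3), 3), ((4, 4), 4)],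
  [((0, 73), 1), ((0, 74), 4), ((0, 99), 1), ((0, 100), 4), ((1, 54), 4), ((2, 92), 3), ((1, 0), 3), ((1, 2), 2), ((1, 4), 4), ((1, 10), 2), ((1, 12), 1), ((1, 16), 3), ((1, 20), 4), ((1, 28), 2), ((1, 48), 1), ((1, 56), 4), ((1, 63), 3), ((1, 76), 4), ((2, 0), 4), ((2, 1), 2), ((2, 5), 1), ((2, 7), 2), ((2, 9), 3), ((2, 11), 3), ((2, 13), 1), ((2, 15), 3), ((2, 27), 4), ((2, 31), 2), ((2, 38), 2), ((2, 60), 3), ((2, 82), 3), ((3, 23), 4), ((3, 55), 4), ((3, 103), 3), ((3, 116), 3), ((3, 92), 1), ((3, 20), 2), ((3, 11), 3), ((3, 51), 2), ((3, 43), 1), ((3, 69), 2), ((3, 74), 1), ((4, 8), 3), ((4, 9), 2), ((4, 37), 4), ((4, 44), 3), ((4, 51), 3), ((4, 75), 2), ((4, 78), 2), ((4, 92), 4), ((4, 90), 3), ((3, 4), 1), ((3, 68), 1), ((4, 5), 3), ((4, 12), 3), ((4, 29), 2), ((4, 38), 4), ((4, 40), 1), ((4, 49), 1), ((4, 55), 4), ((4, 101),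 1), ((4, 105), 2), ((4, 106), 2), ((4, 119), 1), ((4, 7), 4), ((4, 31), 3), ((4, 43), 2), ((4, 48), 2), ((4, 58), 4), ((4, 69), 4), ((3, 1), 3), ((3, 5), 3), ((3, 7), 2), ((3, 9), 4), ((3, 15), 1), ((3, 16), 1), ((3, 17), 3), ((3, 19), 4), ((3, 21), 3), ((3, 29), 1), ((3, 30), 1), ((3, 39), 3), ((3, 42), 3), ((4, 26), 4), ((4, 42), 2), ((4, 56), 4), ((4, 72), 1), ((4, 74), 2), ((4, 88), 3), ((4, 89), 1), ((4, 99), 2), ((4, 103), 3), ((4, 104), 4), ((4, 108), 3), ((4, 116), 1), ((4, 18), 1), ((4, 35), 4), ((4, 60), 3), ((4, 68), 1), ((4, 102), 1), ((4, 113), 3), ((4, 2), 4), ((4, 3), 1), ((4, 4), 2), ((4, 13), 1)],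
  [((0, 1), 4), ((0, 2), 1), ((0, 4), 4), ((0, 5), 1), ((0, 10), 4), ((0, 22), 4), ((0, 42), 4), ((0, 75), 4), ((0, 101), 4), ((1, 54), 3), ((2, 92), 4), ((1, 0), 3), ((1, 4), 1), ((1, 6), 4), ((1, 10), 1), ((1, 12), 1), ((1, 14), 3), ((1, 16), 2), ((1, 18), 4), ((1, 20), 3), ((1, 28), 2), ((1, 48), 2), ((1, 56), 4), ((1, 59), 4), ((1, 76), 1), ((2, 1), 2), ((2, 3), 2), ((2, 7), 4), ((2, 9), 1), ((2, 11), 1), ((2, 13), 1), ((2, 15), 3), ((2, 23), 3), ((2, 27), 2), ((2, 29), 1), ((2, 60), 4), ((2, 77), 3), ((2, 82), 4), ((3, 103), 4), ((3, 20), 2), ((3, 11), 4), ((3, 51), 1), ((3, 71), 1), ((3, 73), 2), ((3, 43), 4), ((3, 52), 4), ((3, 74), 2), ((4, 9), 1), ((4, 37), 4), ((4, 44), 1), ((4, 51), 1), ((4, 92), 1), ((4, 95), 3), ((4, 90), 1), ((3, 3), 2), ((3, 4), 4), ((3, 68), 4), ((4, 0), 3), ((4, 5), 3), ((4, 11), 3), ((4, 12), 3),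 ((4, 29), 1), ((4, 38), 1), ((4, 40), 4), ((4, 49), 2), ((4, 55), 4), ((4, 101), 2), ((4, 105), 2), ((4, 31), 2), ((4, 43), 1), ((4, 58), 4), ((3, 1), 4), ((3, 5), 1), ((3, 7), 1), ((3, 8), 4), ((3, 9), 2), ((3, 15), 4), ((3, 16), 3), ((3, 17), 1), ((3, 19), 3), ((3, 21), 4), ((3, 29), 3), ((3, 30), 2), ((3, 39), 4), ((4, 1), 4), ((4, 26), 4), ((4, 42), 1), ((4, 72), 3), ((4, 74), 4), ((4, 80), 1), ((4, 89), 1), ((4, 99), 1), ((4, 103), 1), ((4, 104), 4), ((4, 108), 4), ((4, 116), 1), ((4, 6), 3), ((4, 18), 3), ((4, 35), 4), ((4, 60), 1), ((4, 68), 1), ((4, 102), 3), ((4, 113), 1), ((4, 2), 1), ((4, 3), 1), ((4, 4), 3), ((4, 13), 3)],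
  [((0, 4), 4), ((0, 10), 4), ((0, 22), 4), ((0, 42), 4), ((0, 75), 4), ((0, 102), 4), ((2, 1), 1)],
  [((0, 118), 1)],
  [((0, 1), 1), ((0, 2), 4), ((0, 4), 1), ((0, 5), 4), ((0, 10), 1), ((0, 11), 4), ((0, 22), 1), ((0, 23), 4), ((0, 42), 1), ((0, 44), 4), ((0, 75), 1), ((0, 78), 4), ((0, 101), 1), ((0, 104), 4), ((1, 54), 4), ((2, 92), 4), ((1, 4), 4), ((1, 6), 3), ((1, 8), 2), ((1, 10), 1), ((1, 14), 1), ((1, 18), 1), ((1, 20), 3), ((1, 28), 3), ((1, 48), 2), ((1, 56), 3), ((1, 63), 2), ((1, 76), 2), ((2, 0), 3), ((2, 1), 3), ((2, 3), 1), ((2, 5), 2), ((2, 7), 3), ((2, 9), 1), ((2, 13), 4), ((2, 15), 1), ((2, 27), 3), ((2, 31), 2), ((2, 60), 3), ((2, 77), 3), ((2, 82), 4), ((3, 23), 4), ((3, 55), 2), ((3, 103), 1), ((3, 116), 2), ((3, 92), 1), ((3, 20), 3), ((3, 11), 1), ((3, 71), 1), ((3, 43), 3), ((3, 52), 2), ((4, 8), 4),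 ((4, 9), 2), ((4, 37), 2), ((4, 44), 2), ((4, 51), 3), ((4, 75), 1), ((4, 78), 4), ((4, 95), 4), ((4, 90), 2), ((3, 3), 1), ((3, 68), 1), ((4, 0), 2), ((4, 5), 3), ((4, 11), 3), ((4, 12), 2), ((4, 29), 4), ((4, 38), 4), ((4, 55), 4), ((4, 101), 2), ((4, 106), 4), ((4, 119), 2), ((4, 7), 1), ((4, 31), 1), ((4, 48), 2), ((4, 58), 2), ((4, 69), 3), ((4, 82), 2), ((3, 1), 1), ((3, 5), 4), ((3, 7), 3), ((3, 15), 1), ((3, 16), 4), ((3, 17), 3), ((3, 19), 1), ((3, 29), 4), ((3, 30), 1), ((3, 39), 3), ((3, 42), 3), ((4, 1), 2), ((4, 26), 2), ((4, 42), 2), ((4, 54), 1), ((4, 56), 4), ((4, 72), 2), ((4, 74), 4), ((4, 80), 4), ((4, 89), 4), ((4, 99), 3), ((4, 103), 3), ((4, 104), 2), ((4, 6), 3), ((4, 18), 3), ((4, 35), 2), ((4, 60), 1), ((4, 68), 3), ((4, 113), 4), ((4, 2), 3), ((4, 3), 4), ((4, 4), 3), ((4, 13), 1)],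
  [((0, 1), 1), ((0, 2), 4), ((0, 3), 1), ((0, 5), 4), ((0, 8), 1), ((0, 11), 4), ((0, 17), 1), ((0, 24), 4), ((0, 35), 1), ((0, 45), 4), ((0, 64), 1), ((0, 79), 4), ((0, 96), 1), ((0, 105), 4), ((0, 113), 1), ((1, 54), 3), ((2, 92), 4), ((1, 0), 1), ((1, 2), 4), ((1, 4), 1), ((1, 6), 2), ((1, 10), 4), ((1, 12), 3), ((1, 16), 4), ((1, 20), 4), ((1, 56), 4), ((1, 59), 1), ((1, 76), 3), ((2, 0), 3), ((2, 1), 4), ((2, 3), 3), ((2, 5), 1), ((2, 7), 1), ((2, 13), 4), ((2, 15), 4), ((2, 29), 4), ((2, 31), 3), ((2, 38), 3), ((2, 60), 3), ((2, 82), 4), ((3, 103), 4), ((3, 116), 1), ((3, 20), 1), ((3, 11), 3), ((3, 51), 2), ((3, 71), 1), ((3, 73), 2), ((3, 52), 2), ((3, 69), 2), ((3, 74), 4), ((4, 8), 3), ((4, 44), 2), ((4, 51), 4), ((4, 92), 3), ((4, 95), 4), ((4, 90), 2), ((3, 3), 4), ((3, 4), 4), ((3, 68), 2), ((4, 0), 4), ((4, 5), 1),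 ((4, 11), 1), ((4, 12), 2), ((4, 29), 1), ((4, 38), 1), ((4, 40), 1), ((4, 49), 2), ((4, 101), 3), ((4, 105), 3), ((4, 106), 4), ((4, 7), 3), ((4, 31), 1), ((4, 69), 3), ((4, 82), 2), ((3, 1), 3), ((3, 5), 3), ((3, 7), 4), ((3, 8), 2), ((3, 16), 3), ((3, 17), 2), ((3, 19), 1), ((3, 21), 4), ((3, 30), 1), ((3, 39), 3), ((3, 42), 2), ((4, 26), 2), ((4, 54), 4), ((4, 56), 3), ((4, 72), 2), ((4, 74), 3), ((4, 88), 4), ((4, 89), 1), ((4, 99), 4), ((4, 103), 1), ((4, 104), 3), ((4, 108), 3), ((4, 116), 1), ((4, 6), 2), ((4, 18), 4), ((4, 35), 3), ((4, 102), 1), ((4, 113), 2), ((4, 2), 3), ((4, 3), 4)],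
  [((0, 1), 1), ((0, 2), 4), ((0, 4), 1), ((0, 5), 4), ((0, 10), 1), ((0, 12), 4), ((0, 21), 1), ((0, 25), 4), ((0, 41), 1), ((0, 47), 4), ((0, 74), 1), ((0, 82), 4), ((0, 100), 1), ((0, 106), 4), ((1, 54), 1), ((1, 2), 4), ((1, 4), 2), ((1, 6), 2), ((1, 12), 1), ((1, 14), 4), ((1, 16), 4), ((1, 20), 2), ((1, 28), 2), ((1, 48), 4), ((1, 56), 1), ((1, 59), 4), ((1, 76), 2), ((2, 0), 4), ((2, 1), 1), ((2, 3), 2), ((2, 5), 3), ((2, 9), 2), ((2, 11), 1), ((2, 13), 1), ((2, 15), 1), ((2, 23), 1), ((2, 31), 1), ((2, 38), 2), ((2, 60), 2), ((2, 77), 4), ((3, 23), 1), ((3, 55), 4), ((3, 103), 4), ((3, 116), 4), ((3, 92), 1), ((3, 20), 4), ((3, 51), 3), ((3, 71), 2), ((3, 43), 4), ((3, 69), 3), ((3, 74), 1), ((4, 8), 3), ((4, 9), 2), ((4, 44), 2), ((4, 75), 3), ((4, 78), 3), ((4, 92), 4), ((4, 95), 4), ((4, 90), 4), ((3, 3), 3), ((3, 68),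 3), ((4, 0), 3), ((4, 5), 4), ((4, 11), 4), ((4, 12), 1), ((4, 29), 3), ((4, 40), 3), ((4, 49), 3), ((4, 55), 3), ((4, 101), 1), ((4, 105), 2), ((4, 106), 4), ((4, 119), 4), ((4, 31), 3), ((4, 43), 3), ((4, 48), 1), ((4, 58), 1), ((4, 69), 1), ((4, 82), 2), ((3, 1), 3), ((3, 5), 2), ((3, 7), 4), ((3, 8), 4), ((3, 9), 1), ((3, 15), 3), ((3, 16), 3), ((3, 17), 1), ((3, 21), 1), ((3, 30), 1), ((3, 39), 3), ((3, 42), 2), ((4, 1), 4), ((4, 26), 4), ((4, 42), 4), ((4, 54), 3), ((4, 72), 2), ((4, 74), 4), ((4, 80), 2), ((4, 88), 3), ((4, 89), 2), ((4, 99), 4), ((4, 103), 3), ((4, 104), 2), ((4, 108), 3), ((4, 6), 2), ((4, 18), 1), ((4, 60), 4), ((4, 68), 2), ((4, 102), 2), ((4, 113), 3), ((4, 2), 2), ((4, 13), 3)],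
  [((0, 1), 1), ((0, 2), 4), ((0, 4), 1), ((0, 6), 4), ((0, 10), 1), ((0, 13), 4), ((0, 22), 1), ((0, 27), 4), ((0, 42), 1), ((0, 51), 4), ((0, 75), 1), ((0, 84), 4), ((0, 102), 1), ((0, 107), 4), ((0, 117), 1), ((2, 92), 2), ((1, 0), 4), ((1, 2), 3), ((1, 4), 2), ((1, 6), 1), ((1, 8), 1), ((1, 10), 3), ((1, 12), 2), ((1, 16), 2), ((1, 18), 2), ((1, 20), 1), ((1, 28), 4), ((1, 48), 2), ((1, 63), 3), ((1, 76), 3), ((2, 0), 2), ((2, 1), 1), ((2, 3), 1), ((2, 5), 3), ((2, 9), 2), ((2, 11), 1), ((2, 13), 2), ((2, 15), 3), ((2, 23), 4), ((2, 27), 1), ((2, 29), 4), ((2, 31), 3), ((2, 38), 4), ((2, 60), 3), ((2, 77), 4), ((2, 82), 2), ((3, 23), 4), ((3, 55), 1), ((3, 103), 2), ((3, 116), 1), ((3, 92), 4), ((3, 20), 1), ((3, 11), 1), ((3, 51), 3), ((3, 71), 4), ((3, 73), 4), ((3, 43), 3), ((3, 52), 1), ((3, 69), 4), ((3, 74), 3), ((4, 8),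 2), ((4, 9), 2), ((4, 37), 2), ((4, 44), 4), ((4, 51), 1), ((4, 78), 2), ((4, 92), 2), ((4, 95), 4), ((4, 90), 2), ((3, 3), 2), ((3, 4), 3), ((3, 68), 1), ((4, 5), 2), ((4, 11), 4), ((4, 12), 2), ((4, 38), 1), ((4, 40), 2), ((4, 49), 1), ((4, 55), 2), ((4, 101), 3), ((4, 105), 3), ((4, 106), 4), ((4, 119), 1), ((4, 7), 1), ((4, 31), 2), ((4, 43), 3), ((4, 48), 3), ((4, 58), 2), ((4, 69), 4), ((4, 82), 4), ((3, 8), 3), ((3, 9), 2), ((3, 15), 2), ((3, 16), 3), ((3, 17), 2), ((3, 19), 3), ((3, 21), 3), ((3, 29), 1), ((3, 30), 4), ((4, 1), 1), ((4, 42), 1), ((4, 54), 4), ((4, 72), 2), ((4, 74), 3), ((4, 80), 2), ((4, 88), 1), ((4, 89), 1), ((4, 99), 2), ((4, 104), 2), ((4, 108), 1), ((4, 6), 4), ((4, 18), 3), ((4, 35), 3), ((4, 60), 2), ((4, 68), 1), ((4, 102), 1), ((4, 113), 1), ((4, 2), 1), ((4, 3), 3), ((4, 4), 3), ((4, 13), 3)],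
  [((0, 1), 1), ((0, 2), 4), ((0, 4), 1), ((0, 6), 4), ((0, 10), 1), ((0, 13), 4), ((0, 21), 1), ((0, 28), 4), ((0, 41), 1), ((0, 53), 4), ((0, 73), 1), ((0, 85), 4), ((0, 108), 4), ((1, 54), 3), ((2, 92), 4), ((1, 6), 2), ((1, 8), 1), ((1, 12), 4), ((1, 14), 4), ((1, 16), 2), ((1, 18), 2), ((1, 28), 4), ((1, 48), 1), ((1, 59), 1), ((1, 63), 3), ((1, 76), 2), ((2, 0), 1), ((2, 1), 4), ((2, 3), 3), ((2, 7), 1), ((2, 9), 1), ((2, 11), 1), ((2, 15), 4), ((2, 27), 2), ((2, 29), 3), ((2, 31), 4), ((2, 38), 3), ((2, 60), 2), ((2, 77), 4), ((3, 23), 3), ((3, 55), 3), ((3, 103), 2), ((3, 92), 3), ((3, 20), 1), ((3, 11), 1), ((3, 51), 1), ((3, 71), 3), ((3, 73), 1), ((3, 69), 2), ((3, 74), 4), ((4, 8), 3), ((4, 9), 3), ((4, 37), 3), ((4, 44), 2), ((4, 51), 1), ((4, 75), 1), ((4, 78), 3), ((4, 92), 2), ((4, 95), 1), ((4, 90), 1), ((3, 3),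 1), ((3, 4), 3), ((3, 68), 2), ((4, 0), 3), ((4, 5), 3), ((4, 11), 3), ((4, 12), 3), ((4, 29), 4), ((4, 40), 1), ((4, 49), 2), ((4, 55), 2), ((4, 101), 4), ((4, 105), 4), ((4, 106), 2), ((4, 119), 2), ((4, 7), 2), ((4, 31), 2), ((4, 43), 4), ((4, 48), 2), ((4, 58), 2), ((4, 82), 3), ((3, 1), 4), ((3, 5), 4), ((3, 7), 4), ((3, 8), 3), ((3, 9), 2), ((3, 15), 2), ((3, 16), 3), ((3, 29), 4), ((3, 30), 3), ((3, 39), 2), ((3, 42), 4), ((4, 1), 1), ((4, 26), 4), ((4, 42), 1), ((4, 54), 2), ((4, 56), 1), ((4, 72), 3), ((4, 74), 2), ((4, 80), 2), ((4, 88), 4), ((4, 89), 3), ((4, 103), 3), ((4, 104), 2), ((4, 108), 3), ((4, 116), 3), ((4, 6), 2), ((4, 18), 2), ((4, 60), 3), ((4, 102), 1), ((4, 113), 2), ((4, 3), 1), ((4, 13), 2)],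
  [((0, 1), 1), ((0, 2), 4), ((0, 4), 1), ((0, 6), 4), ((0, 10), 1), ((0, 13), 4), ((0, 22), 1), ((0, 28), 4), ((0, 42), 1), ((0, 54), 4), ((0, 75), 1), ((0, 86), 4), ((0, 101), 1), ((0, 109), 4), ((0, 116), 1), ((1, 54), 2), ((1, 0), 3), ((1, 4), 2), ((1, 6), 4), ((1, 8), 2), ((1, 10), 1), ((1, 12), 4), ((1, 14), 4), ((1, 18), 2), ((1, 28), 4), ((1, 48), 2), ((1, 56), 1), ((1, 59), 1), ((1, 63), 4), ((1, 76), 3), ((2, 0), 1), ((2, 1), 3), ((2, 3), 1), ((2, 5), 2), ((2, 7), 3), ((2, 9), 3), ((2, 11), 1), ((2, 13), 4), ((2, 15), 1), ((2, 23), 2), ((2, 27), 3), ((2, 29), 2), ((2, 38), 4), ((2, 60), 3), ((2, 77), 4), ((2, 82), 4), ((3, 55), 2), ((3, 103), 4), ((3, 116), 2), ((3, 92), 1), ((3, 20), 3), ((3, 51), 3), ((3, 73), 3), ((4, 8), 3), ((4, 37), 1), ((4, 44), 4), ((4, 51), 2), ((4, 75), 2), ((4, 92), 2), ((4, 95), 3), ((4, 90),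 2), ((3, 3), 3), ((3, 4), 3), ((3, 68), 3), ((4, 0), 3), ((4, 5), 3), ((4, 11), 1), ((4, 12), 1), ((4, 29), 3), ((4, 38), 2), ((4, 40), 3), ((4, 49), 1), ((4, 55), 2), ((4, 101), 4), ((4, 105), 2), ((4, 106), 4), ((4, 119), 4), ((4, 31), 1), ((4, 43), 2), ((4, 58), 1), ((4, 69), 2), ((4, 82), 3), ((3, 5), 2), ((3, 7), 2), ((3, 8), 4), ((3, 15), 4), ((3, 17), 3), ((3, 19), 3), ((3, 29), 1), ((3, 30), 3), ((3, 39), 2), ((3, 42), 4), ((4, 1), 3), ((4, 26), 2), ((4, 42), 3), ((4, 54), 2), ((4, 56), 4), ((4, 72), 2), ((4, 74), 1), ((4, 80), 1), ((4, 88), 4), ((4, 89), 4), ((4, 99), 3), ((4, 104), 4), ((4, 108), 1), ((4, 6), 2), ((4, 18), 4), ((4, 60), 2), ((4, 68), 4), ((4, 113), 3), ((4, 2), 3), ((4, 13), 2)],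
  [((0, 5), 1), ((0, 6), 4), ((0, 11), 1), ((0, 14), 4), ((0, 23), 1), ((0, 29), 4), ((0, 43), 1), ((0, 55), 4), ((0, 76), 1), ((0, 87), 4), ((0, 103), 1), ((0, 110), 4), ((1, 54), 1), ((2, 92), 4), ((1, 0), 3), ((1, 4), 2), ((1, 10), 2), ((1, 12), 1), ((1, 14), 4), ((1, 18), 4), ((1, 20), 2), ((1, 28), 2), ((1, 48), 2), ((1, 56), 2), ((1, 59), 4), ((1, 63), 2), ((1, 76), 3), ((2, 0), 1), ((2, 1), 3), ((2, 3), 3), ((2, 5), 1), ((2, 7), 3), ((2, 9), 2), ((2, 13), 3), ((2, 23), 1), ((2, 27), 4), ((2, 29), 4), ((2, 38), 2), ((2, 60), 4), ((2, 77), 4), ((3, 23), 3), ((3, 55), 3), ((3, 103), 4), ((3, 116), 1), ((3, 92), 4), ((3, 20), 3), ((3, 11), 3), ((3, 73), 2), ((3, 43), 4), ((3, 52), 4), ((3, 69), 2), ((3, 74), 3), ((4, 8), 1), ((4, 9), 3), ((4, 37), 2), ((4, 44), 2), ((4, 75), 4), ((4, 78), 4), ((4, 92), 1), ((4, 95), 2), ((4,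 90), 4), ((3, 3), 1), ((3, 4), 4), ((4, 0), 3), ((4, 5), 1), ((4, 11), 1), ((4, 12), 2), ((4, 40), 1), ((4, 49), 1), ((4, 105), 4), ((4, 106), 3), ((4, 119), 4), ((4, 31), 4), ((4, 43), 2), ((4, 48), 2), ((4, 58), 1), ((4, 69), 3), ((4, 82), 4), ((3, 7), 1), ((3, 9), 3), ((3, 15), 4), ((3, 17), 1), ((3, 19), 4), ((3, 21), 3), ((3, 30), 3), ((3, 39), 3), ((3, 42), 2), ((4, 1), 4), ((4, 26), 1), ((4, 42), 3), ((4, 54), 3), ((4, 56), 2), ((4, 72), 2), ((4, 74), 4), ((4, 80), 2), ((4, 88), 2), ((4, 89), 1), ((4, 99), 1), ((4, 103), 2), ((4, 104), 2), ((4, 108), 4), ((4, 18), 2), ((4, 60), 4), ((4, 68), 3), ((4, 102), 4), ((4, 113), 2), ((4, 2), 4), ((4, 3), 1), ((4, 4), 2), ((4, 13), 1)],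
  [((0, 1), 1), ((0, 2), 4), ((0, 4), 1), ((0, 6), 4), ((0, 10), 1), ((0, 14), 4), ((0, 21), 1), ((0, 29), 4), ((0, 41), 1), ((0, 55), 4), ((0, 73), 1), ((0, 88), 4), ((0, 99), 1), ((0, 111), 4), ((0, 115), 1), ((1, 54), 1), ((2, 92), 3), ((1, 0), 2), ((1, 2), 2), ((1, 4), 1), ((1, 6), 2), ((1, 8), 4), ((1, 10), 3), ((1, 12), 3), ((1, 14), 4), ((1, 16), 1), ((1, 28), 1), ((1, 48), 3), ((1, 56), 3), ((1, 59), 4), ((1, 63), 1), ((1, 76), 1), ((2, 0), 3), ((2, 1), 1), ((2, 3), 3), ((2, 5), 3), ((2, 7), 4), ((2, 9), 1), ((2, 11), 1), ((2, 13), 1), ((2, 15), 3), ((2, 23), 2), ((2, 27), 2), ((2, 29), 3), ((2, 38), 3), ((2, 60), 1), ((2, 77), 1), ((2, 82), 4), ((3, 23), 1), ((3, 55), 4), ((3, 103), 4), ((3, 116), 4), ((3, 92), 2), ((3, 20), 2), ((3, 11), 4), ((3, 51), 1), ((3, 73), 2), ((3, 43), 2), ((3, 52), 4), ((3, 69), 2), ((3, 74),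 1), ((4, 9), 3), ((4, 37), 3), ((4, 51), 2), ((4, 75), 2), ((4, 78), 4), ((4, 92), 2), ((4, 95), 3), ((4, 90), 1), ((3, 3), 2), ((3, 4), 2), ((3, 68), 4), ((4, 0), 4), ((4, 12), 4), ((4, 29), 1), ((4, 55), 3), ((4, 106), 4), ((4, 119), 3), ((4, 7), 4), ((4, 31), 4), ((4, 43), 4), ((4, 48), 1), ((4, 58), 3), ((4, 69), 3), ((4, 82), 1), ((3, 1), 1), ((3, 5), 2), ((3, 7), 4), ((3, 8), 2), ((3, 9), 1), ((3, 15), 3), ((3, 16), 2), ((3, 17), 1), ((3, 19), 2), ((3, 21), 3), ((3, 29), 2), ((3, 30), 4), ((3, 39), 1), ((3, 42), 1), ((4, 26), 2), ((4, 42), 3), ((4, 54), 2), ((4, 72), 1), ((4, 74), 2), ((4, 80), 2), ((4, 88), 4), ((4, 99), 2), ((4, 103), 3), ((4, 104), 2), ((4, 108), 4), ((4, 116), 1), ((4, 6), 2), ((4, 18), 2), ((4, 68), 2), ((4, 102), 4), ((4, 2), 1), ((4, 3), 1), ((4, 13), 1)],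
  [((0, 5), 1), ((0, 6), 4), ((0, 12), 1), ((0, 14), 4), ((0, 25), 1), ((0, 29), 4), ((0, 47), 1), ((0, 56), 4), ((0, 82), 1), ((0, 89), 4), ((0, 106), 1), ((0, 112), 4), ((2, 92), 1), ((1, 0), 2), ((1, 2), 4), ((1, 4), 1), ((1, 8), 3), ((1, 10), 1), ((1, 12), 4), ((1, 18), 1), ((1, 28), 1), ((1, 48), 4), ((1, 56), 3), ((1, 59), 3), ((1, 63), 1), ((1, 76), 3), ((2, 0), 3), ((2, 1), 1), ((2, 11), 3), ((2, 13), 2), ((2, 15), 3), ((2, 23), 2), ((2, 27), 2), ((2, 31), 1), ((2, 38), 3), ((2, 60), 1), ((2, 77), 2), ((2, 82), 3), ((3, 55), 1), ((3, 103), 3), ((3, 92), 4), ((3, 20), 4), ((3, 11), 3), ((3, 51), 1), ((3, 71), 2), ((3, 73), 2), ((3, 52), 1), ((3, 69), 3), ((3, 74), 4), ((4, 8), 4), ((4, 9), 1), ((4, 44), 1), ((4, 51), 3), ((4, 75), 1), ((4, 92), 4), ((4, 95), 1), ((4, 90), 3), ((3, 3), 2), ((3, 4), 3), ((3, 68), 2), ((4, 0),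 4), ((4, 5), 4), ((4, 11), 3), ((4, 12), 4), ((4, 29), 1), ((4, 49), 1), ((4, 55), 1), ((4, 101), 4), ((4, 105), 1), ((4, 31), 2), ((4, 43), 1), ((4, 48), 3), ((4, 58), 1), ((4, 69), 3), ((3, 1), 1), ((3, 5), 3), ((3, 8), 3), ((3, 9), 1), ((3, 15), 2), ((3, 16), 3), ((3, 19), 1), ((3, 29), 3), ((3, 42), 3), ((4, 26), 2), ((4, 42), 2), ((4, 54), 2), ((4, 56), 4), ((4, 74), 1), ((4, 80), 4), ((4, 89), 3), ((4, 99), 1), ((4, 103), 3), ((4, 104), 4), ((4, 108), 2), ((4, 116), 2), ((4, 6), 2), ((4, 18), 3), ((4, 35), 1), ((4, 68), 2), ((4, 102), 4), ((4, 113), 4), ((4, 2), 4), ((4, 3), 1), ((4, 4), 1), ((4, 13), 2)],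
  [((0, 7), 1), ((0, 8), 4), ((0, 16), 1), ((0, 17), 4), ((0, 34), 1), ((0, 35), 4), ((0, 62), 1), ((0, 64), 4), ((0, 96), 4), ((0, 113), 4), ((1, 54), 3), ((1, 0), 3), ((1, 2), 2), ((1, 4), 4), ((1, 6), 3), ((1, 8), 2), ((1, 10), 2), ((1, 12), 1), ((1, 14), 2), ((1, 16), 4), ((1, 18), 1), ((1, 20), 3), ((1, 28), 1), ((1, 56), 3), ((1, 63), 3), ((1, 76), 4), ((2, 0), 1), ((2, 1), 3), ((2, 3), 4), ((2, 5), 1), ((2, 9), 4), ((2, 13), 2), ((2, 15), 3), ((2, 23), 2), ((2, 27), 2), ((2, 29), 4), ((2, 31), 2), ((2, 38), 1), ((2, 60), 4), ((2, 77), 1), ((2, 82), 4), ((3, 23), 1), ((3, 103), 2), ((3, 116), 3), ((3, 20), 4), ((3, 11), 4), ((3, 51), 2), ((3, 73), 2), ((3, 43), 1), ((3, 69), 1), ((3, 74), 1), ((4, 8), 1), ((4, 9), 2), ((4, 37), 4), ((4, 44), 3), ((4, 51), 2), ((4, 75), 3), ((4, 78), 2), ((4, 92), 3), ((4, 95), 1), ((4, 90),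 3), ((3, 4), 2), ((3, 68), 2), ((4, 5), 4), ((4, 12), 4), ((4, 29), 3), ((4, 40), 4), ((4, 49), 1), ((4, 55), 1), ((4, 101), 2), ((4, 105), 2), ((4, 119), 3), ((4, 7), 1), ((4, 31), 3), ((4, 43), 2), ((4, 48), 2), ((4, 69), 2), ((4, 82), 4), ((3, 5), 4), ((3, 7), 3), ((3, 8), 4), ((3, 9), 1), ((3, 16), 2), ((3, 17), 3), ((3, 19), 4), ((3, 21), 2), ((3, 30), 1), ((3, 39), 2), ((3, 42), 4), ((4, 26), 3), ((4, 42), 2), ((4, 54), 4), ((4, 72), 2), ((4, 74), 3), ((4, 80), 3), ((4, 88), 3), ((4, 89), 1), ((4, 99), 4), ((4, 103), 4), ((4, 104), 2), ((4, 116), 1), ((4, 6), 3), ((4, 18), 2), ((4, 60), 3), ((4, 68), 1), ((4, 102), 3), ((4, 113), 3), ((4, 2), 1), ((4, 3), 4), ((4, 13), 1)],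
  [((0, 1), 4), ((0, 2), 1), ((0, 3), 4), ((0, 5), 1), ((0, 8), 4), ((0, 12), 1), ((0, 17), 4), ((0, 25), 1), ((0, 36), 4), ((0, 47), 1), ((0, 66), 4), ((0, 82), 1), ((0, 97), 4), ((0, 114), 4), ((1, 54), 3), ((2, 92), 3), ((1, 0), 2), ((1, 2), 1), ((1, 4), 4), ((1, 6), 2), ((1, 8), 1), ((1, 12), 2), ((1, 14), 2), ((1, 16), 3), ((1, 18), 4), ((1, 20), 4), ((1, 28), 4), ((1, 48), 4), ((1, 56), 1), ((1, 59), 3), ((1, 63), 1), ((1, 76), 2), ((2, 0), 4), ((2, 3), 1), ((2, 5), 3), ((2, 9), 3), ((2, 11), 3), ((2, 13), 3), ((2, 15), 4), ((2, 23), 1), ((2, 29), 2), ((2, 31), 3), ((2, 38), 3), ((2, 60), 1), ((2, 82), 2), ((3, 23), 1), ((3, 55), 1), ((3, 103), 3), ((3, 20), 2), ((3, 51), 4), ((3, 71), 3), ((3, 73), 1), ((3, 52), 1), ((3, 74), 3), ((4, 8), 3), ((4, 9), 4), ((4, 37), 1), ((4, 44), 4), ((4, 75), 1), ((4, 78), 4), ((4, 92), 1),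 ((4, 95), 4), ((4, 90), 3), ((3, 3), 3), ((3, 68), 2), ((4, 0), 4), ((4, 11), 1), ((4, 49), 3), ((4, 105), 1), ((4, 106), 2), ((4, 119), 3), ((4, 31), 2), ((4, 48), 3), ((4, 58), 3), ((4, 82), 4), ((3, 5), 3), ((3, 7), 4), ((3, 8), 4), ((3, 9), 3), ((3, 15), 2), ((3, 16), 1), ((3, 17), 3), ((3, 19), 1), ((3, 21), 2), ((3, 29), 4), ((3, 30), 1), ((3, 39), 1), ((3, 42), 2), ((4, 1), 1), ((4, 26), 1), ((4, 42), 2), ((4, 72), 3), ((4, 74), 3), ((4, 89), 3), ((4, 99), 3), ((4, 103), 2), ((4, 104), 2), ((4, 108), 1), ((4, 116), 1), ((4, 6), 4), ((4, 18), 3), ((4, 35), 4), ((4, 60), 1), ((4, 68), 1), ((4, 102), 1), ((4, 113), 3), ((4, 2), 2), ((4, 3), 3), ((4, 4), 4), ((4, 13), 1)],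
  [((0, 1), 4), ((0, 2), 1), ((0, 4), 4), ((0, 6), 1), ((0, 10), 4), ((0, 14), 1), ((0, 21), 4), ((0, 29), 1), ((0, 41), 4), ((0, 55), 1), ((0, 73), 4), ((0, 87), 1), ((0, 99), 4), ((0, 110), 1), ((0, 115), 4), ((0, 119), 1), ((1, 54), 3), ((2, 92), 4), ((1, 0), 1), ((1, 2), 4), ((1, 4), 3), ((1, 6), 1), ((1, 8), 1), ((1, 10), 4), ((1, 12), 3), ((1, 14), 1), ((1, 18), 4), ((1, 20), 4), ((1, 28), 4), ((1, 48), 3), ((1, 56), 4), ((1, 59), 2), ((1, 63), 3), ((1, 76), 1), ((2, 0), 2), ((2, 1), 1), ((2, 3), 2), ((2, 5), 1), ((2, 7), 1), ((2, 9), 4), ((2, 11), 4), ((2, 15), 2), ((2, 23), 4), ((2, 27), 4), ((2, 31), 4), ((2, 38), 4), ((2, 60), 3), ((2, 77), 1), ((2, 82), 1), ((3, 23), 3), ((3, 55), 4), ((3, 103), 3), ((3, 92), 4), ((3, 20), 1), ((3, 51), 4), ((3, 71), 2), ((3, 73), 3), ((3, 43), 3), ((3, 52), 4), ((3, 69), 3), ((3, 74),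 1), ((4, 8), 3), ((4, 9), 1), ((4, 51), 2), ((4, 75), 1), ((4, 92), 1), ((4, 95), 4), ((4, 90), 3), ((3, 3), 1), ((3, 4), 2), ((3, 68), 3), ((4, 0), 3), ((4, 5), 2), ((4, 12), 4), ((4, 29), 3), ((4, 38), 2), ((4, 40), 2), ((4, 49), 3), ((4, 55), 3), ((4, 105), 3), ((4, 119), 2), ((4, 48), 4), ((4, 58), 1), ((4, 69), 1), ((3, 5), 4), ((3, 7), 1), ((3, 8), 3), ((3, 9), 4), ((3, 16), 4), ((3, 17), 1), ((3, 19), 3), ((3, 21), 2), ((3, 29), 1), ((3, 42), 1), ((4, 1), 2), ((4, 26), 3), ((4, 42), 3), ((4, 54), 2), ((4, 56), 4), ((4, 72), 4), ((4, 74), 2), ((4, 88), 4), ((4, 99), 2), ((4, 103), 1), ((4, 104), 2), ((4, 108), 3), ((4, 116), 1), ((4, 6), 1), ((4, 18), 3), ((4, 60), 4), ((4, 68), 2), ((4, 102), 3), ((4, 113), 2), ((4, 2), 1), ((4, 3), 4), ((4, 4), 3), ((4, 13), 1)],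
  [((0, 1), 4), ((0, 2), 1), ((0, 4), 4), ((0, 5), 1), ((0, 10), 4), ((0, 11), 1), ((0, 22), 4), ((0, 24), 1), ((0, 42), 4), ((0, 45), 1), ((0, 75), 4), ((0, 101), 4), ((0, 116), 4), ((1, 54), 2), ((1, 0), 2), ((1, 2), 1), ((1, 4), 2), ((1, 6), 4), ((1, 8), 3), ((1, 10), 4), ((1, 12), 2), ((1, 14), 1), ((1, 16), 2), ((1, 18), 4), ((1, 20), 1), ((1, 48), 2), ((1, 56), 2), ((1, 59), 3), ((1, 63), 3), ((1, 76), 2), ((2, 0), 1), ((2, 1), 1), ((2, 3), 2), ((2, 5), 1), ((2, 7), 3), ((2, 9), 4), ((2, 11), 1), ((2, 13), 2), ((2, 15), 1), ((2, 23), 2), ((2, 27), 3), ((2, 29), 3), ((2, 31), 2), ((2, 38), 1), ((2, 77), 1), ((2, 82), 4), ((3, 23), 2), ((3, 55), 3), ((3, 116), 4), ((3, 92), 3), ((3, 20), 4), ((3, 11), 2), ((3, 71), 4), ((3, 69), 2), ((3, 74), 3), ((4, 51), 1), ((4, 78), 3), ((4, 92), 1), ((4, 90), 2), ((3, 4), 1), ((3, 68),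 4), ((4, 5), 1), ((4, 11), 2), ((4, 29), 2), ((4, 38), 3), ((4, 40), 1), ((4, 49), 2), ((4, 55), 4), ((4, 101), 1), ((4, 105), 2), ((4, 106), 2), ((4, 119), 2), ((4, 7), 2), ((4, 31), 4), ((4, 48), 2), ((4, 58), 2), ((4, 69), 1), ((4, 82), 2), ((3, 1), 4), ((3, 7), 3), ((3, 8), 2), ((3, 9), 3), ((3, 17), 1), ((3, 19), 1), ((3, 21), 4), ((3, 29), 2), ((3, 30), 3), ((3, 39), 4), ((3, 42), 1), ((4, 1), 1), ((4, 26), 2), ((4, 42), 4), ((4, 54), 1), ((4, 56), 2), ((4, 72), 3), ((4, 74), 1), ((4, 80), 4), ((4, 88), 1), ((4, 89), 3), ((4, 99), 2), ((4, 104), 2), ((4, 108), 2), ((4, 6), 2), ((4, 35), 4), ((4, 60), 4), ((4, 102), 4), ((4, 113), 4), ((4, 2), 1), ((4, 3), 3), ((4, 4), 4), ((4, 13), 4)],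
  [((0, 9), 1), ((0, 10), 4), ((0, 22), 4), ((0, 42), 4), ((0, 75), 4), ((0, 102), 4), ((0, 117), 4), ((2, 92), 2), ((1, 0), 2), ((1, 4), 2), ((1, 6), 2), ((1, 8), 4), ((1, 10), 2), ((1, 12), 2), ((1, 14), 3), ((1, 16), 2), ((1, 18), 1), ((1, 20), 2), ((1, 48), 1), ((1, 56), 1), ((1, 59), 3), ((1, 76), 3), ((2, 0), 3), ((2, 1), 1), ((2, 5), 4), ((2, 11), 3), ((2, 13), 3), ((2, 15), 2), ((2, 23), 3), ((2, 27), 1), ((2, 29), 2), ((2, 31), 3), ((2, 38), 3), ((2, 60), 2), ((2, 77), 3), ((2, 82), 3), ((3, 23), 3), ((3, 55), 3), ((3, 103), 4), ((3, 116), 1), ((3, 92), 4), ((3, 51), 4), ((3, 73), 4), ((3, 43), 4), ((3, 52), 1), ((3, 69), 1), ((3, 74), 1), ((4, 8), 2), ((4, 9), 1), ((4, 37), 1), ((4, 44), 4), ((4, 75), 1), ((4, 78), 2), ((4, 95), 1), ((4, 90), 3), ((3, 3), 1), ((3, 4), 1), ((3, 68), 2), ((4, 0), 4), ((4, 5), 1), ((4, 11),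 3), ((4, 12), 4), ((4, 29), 4), ((4, 38), 1), ((4, 40), 2), ((4, 55), 4), ((4, 101), 3), ((4, 106), 4), ((4, 119), 4), ((4, 7), 4), ((4, 31), 2), ((4, 43), 2), ((4, 48), 4), ((4, 58), 1), ((4, 69), 2), ((4, 82), 1), ((3, 5), 2), ((3, 7), 3), ((3, 8), 3), ((3, 9), 4), ((3, 15), 1), ((3, 16), 2), ((3, 17), 3), ((3, 19), 2), ((3, 21), 4), ((3, 29), 3), ((3, 39), 1), ((3, 42), 3), ((4, 1), 3), ((4, 26), 1), ((4, 42), 1), ((4, 54), 3), ((4, 56), 1), ((4, 72), 3), ((4, 74), 1), ((4, 88), 1), ((4, 89), 1), ((4, 99), 4), ((4, 103), 4), ((4, 104), 2), ((4, 116), 2), ((4, 6), 2), ((4, 18), 2), ((4, 35), 1), ((4, 60), 2), ((4, 68), 1), ((4, 102), 4), ((4, 113), 2), ((4, 2), 2), ((4, 3), 3), ((4, 13), 4)],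
  [((0, 1), 1), ((0, 2), 4), ((0, 3), 1), ((0, 5), 4), ((0, 8), 1), ((0, 11), 4), ((0, 17), 1), ((0, 23), 4), ((0, 36), 1), ((0, 43), 4), ((0, 66), 1), ((0, 76), 4), ((0, 97), 1), ((0, 103), 4), ((0, 118), 4), ((1, 54), 2), ((2, 92), 2), ((1, 2), 3), ((1, 4), 4), ((1, 8), 2), ((1, 12), 1), ((1, 14), 4), ((1, 16), 4), ((1, 18), 4), ((1, 20), 1), ((1, 28), 3), ((1, 48), 1), ((1, 56), 1), ((1, 59), 3), ((1, 76), 2), ((2, 0), 3), ((2, 3), 1), ((2, 5), 2), ((2, 7), 1), ((2, 9), 3), ((2, 11), 4), ((2, 13), 4), ((2, 15), 2), ((2, 27), 3), ((2, 29), 1), ((2, 31), 2), ((2, 38), 4), ((2, 60), 1), ((2, 77), 1), ((2, 82), 2), ((3, 23), 2), ((3, 55), 2), ((3, 103), 2), ((3, 116), 3), ((3, 92), 4), ((3, 11), 4), ((3, 51), 3), ((3, 71), 4), ((3, 73), 4), ((3, 43), 2), ((3, 52), 4), ((3, 69), 4), ((3, 74), 3), ((4, 8), 4), ((4, 37), 1), ((4, 51),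 3), ((4, 78), 4), ((4, 92), 3), ((4, 90), 4), ((3, 3), 1), ((3, 4), 4), ((3, 68), 2), ((4, 0), 4), ((4, 5), 1), ((4, 11), 4), ((4, 12), 2), ((4, 29), 3), ((4, 38), 2), ((4, 40), 1), ((4, 49), 4), ((4, 55), 3), ((4, 101), 4), ((4, 106), 3), ((4, 119), 3), ((4, 7), 3), ((4, 31), 3), ((4, 43), 3), ((4, 48), 1), ((4, 58), 3), ((4, 69), 2), ((4, 82), 1), ((3, 1), 2), ((3, 5), 1), ((3, 7), 4), ((3, 8), 3), ((3, 9), 1), ((3, 15), 1), ((3, 16), 1), ((3, 19), 1), ((3, 21), 3), ((3, 29), 1), ((3, 30), 1), ((3, 42), 3), ((4, 26), 1), ((4, 42), 4), ((4, 54), 1), ((4, 56), 2), ((4, 74), 3), ((4, 80), 4), ((4, 88), 2), ((4, 99), 2), ((4, 104), 4), ((4, 108), 4), ((4, 116), 3), ((4, 18), 3), ((4, 35), 2), ((4, 60), 2), ((4, 68), 4), ((4, 102), 1), ((4, 113), 4), ((4, 2), 4), ((4, 13), 1)],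
  [((0, 1), 1), ((0, 2), 4), ((0, 3), 1), ((0, 6), 4), ((0, 8), 1), ((0, 14), 4), ((0, 17), 1), ((0, 29), 4), ((0, 36), 1), ((0, 55), 4), ((0, 66), 1), ((0, 87), 4), ((0, 110), 4), ((0, 119), 4), ((1, 54), 3), ((2, 92), 2), ((1, 0), 4), ((1, 2), 3), ((1, 6), 4), ((1, 8), 3), ((1, 10), 3), ((1, 12), 3), ((1, 14), 4), ((1, 16), 1), ((1, 18), 4), ((1, 28), 4), ((1, 56), 1), ((1, 59), 3), ((1, 63), 2), ((1, 76), 3), ((2, 0), 1), ((2, 1), 4), ((2, 3), 4), ((2, 7), 2), ((2, 11), 3), ((2, 13), 4), ((2, 15), 4), ((2, 23), 1), ((2, 27), 4), ((2, 29), 2), ((2, 31), 4), ((2, 38), 1), ((2, 60), 3), ((2, 77), 4), ((2, 82), 1), ((3, 23), 1), ((3, 55), 2), ((3, 92), 3), ((3, 20), 4), ((3, 11), 3), ((3, 51), 4), ((3, 73), 4), ((3, 43), 3), ((3, 52), 4), ((3, 69), 4), ((3, 74), 3), ((4, 8), 2), ((4, 9), 4), ((4, 37), 1), ((4, 44), 3), ((4, 51),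 3), ((4, 78), 2), ((4, 92), 4), ((4, 95), 4), ((4, 90), 1), ((3, 4), 2), ((3, 68), 2), ((4, 0), 1), ((4, 5), 3), ((4, 11), 1), ((4, 12), 1), ((4, 29), 1), ((4, 38), 3), ((4, 49), 3), ((4, 55), 4), ((4, 101), 1), ((4, 105), 3), ((4, 31), 2), ((4, 43), 4), ((4, 48), 2), ((4, 58), 4), ((4, 69), 1), ((4, 82), 4), ((3, 5), 1), ((3, 8), 1), ((3, 15), 1), ((3, 16), 2), ((3, 17), 4), ((3, 19), 3), ((3, 30), 2), ((3, 39), 4), ((3, 42), 3), ((4, 1), 4), ((4, 26), 2), ((4, 42), 3), ((4, 54), 4), ((4, 56), 3), ((4, 72), 1), ((4, 74), 4), ((4, 80), 1), ((4, 88), 4), ((4, 89), 3), ((4, 104), 3), ((4, 108), 3), ((4, 116), 3), ((4, 6), 1), ((4, 18), 2), ((4, 60), 4), ((4, 68), 1), ((4, 102), 4), ((4, 113), 1), ((4, 3), 1), ((4, 4), 4), ((4, 13), 2)],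
  [((1, 54), 1), ((2, 92), 3), ((1, 0), 2), ((1, 2), 1), ((1, 4), 1), ((1, 8), 3), ((1, 10), 1), ((1, 12), 2), ((1, 14), 1), ((1, 16), 3), ((1, 18), 3), ((1, 20), 4), ((1, 28), 3), ((1, 48), 2), ((1, 59), 2), ((1, 76), 4), ((2, 0), 2), ((2, 1), 1), ((2, 3), 3), ((2, 5), 3), ((2, 9), 3), ((2, 13), 3), ((2, 27), 1), ((2, 29), 4), ((2, 31), 3), ((2, 38), 3), ((2, 60), 2), ((2, 82), 4), ((3, 23), 1), ((3, 55), 4), ((3, 103), 2), ((3, 92), 1), ((3, 20), 3), ((3, 11), 4), ((3, 71), 1), ((3, 73), 1), ((3, 69), 2), ((3, 74), 2), ((4, 8), 4), ((4, 9), 4), ((4, 37), 3), ((4, 44), 2), ((4, 75), 3), ((4, 78), 2), ((4, 92), 4), ((3, 3), 4), ((3, 68), 4), ((4, 0), 1), ((4, 5), 3), ((4, 11), 1), ((4, 12), 3), ((4, 29), 1), ((4, 49), 4), ((4, 55), 3), ((4, 101), 2), ((4, 31), 2), ((4, 43), 1), ((4, 48), 1), ((4, 58), 4), ((4, 69), 1), ((4, 82),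 3), ((3, 1), 4), ((3, 5), 4), ((3, 7), 3), ((3, 8), 4), ((3, 9), 1), ((3, 15), 4), ((3, 16), 3), ((3, 17), 3), ((3, 21), 1), ((3, 29), 2), ((3, 39), 3), ((3, 42), 3), ((4, 1), 4), ((4, 26), 3), ((4, 42), 1), ((4, 54), 1), ((4, 72), 2), ((4, 74), 3), ((4, 80), 4), ((4, 99), 4), ((4, 104), 1), ((4, 108), 3), ((4, 116), 4), ((4, 6), 3), ((4, 18), 3), ((4, 35), 3), ((4, 60), 2), ((4, 102), 4), ((4, 113), 4), ((4, 2), 2), ((4, 4), 4), ((4, 13), 3)],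
  [((1, 54), 4), ((2, 92), 3), ((1, 2), 2), ((1, 4), 1), ((1, 6), 2), ((1, 8), 4), ((1, 12), 3), ((1, 14), 3), ((1, 16), 2), ((1, 20), 4), ((1, 28), 2), ((1, 56), 2), ((1, 59), 4), ((1, 63), 3), ((2, 0), 4), ((2, 1), 4), ((2, 3), 1), ((2, 7), 3), ((2, 9), 1), ((2, 13), 1), ((2, 15), 4), ((2, 23), 3), ((2, 29), 4), ((2, 60), 4), ((2, 77), 4), ((3, 23), 2), ((3, 55), 1), ((3, 103), 1), ((3, 116), 3), ((3, 92), 3), ((3, 20), 3), ((3, 11), 3), ((3, 51), 1), ((3, 71), 1), ((3, 43), 3), ((3, 52), 4), ((3, 69), 3), ((3, 74), 3), ((4, 8), 2), ((4, 9), 3), ((4, 44), 2), ((4, 51), 2), ((4, 75), 4), ((4, 92), 3), ((4, 95), 4), ((4, 90), 4), ((3, 3), 3), ((3, 4), 2), ((3, 68), 2), ((4, 0), 4), ((4, 11), 3), ((4, 38), 4), ((4, 49), 3), ((4, 55), 1), ((4, 101), 3), ((4, 105), 3), ((4, 119), 2), ((4, 7), 4), ((4, 31), 3), ((4, 43), 4), ((4, 48),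 2), ((4, 58), 4), ((4, 69), 3), ((4, 82), 1), ((3, 1), 4), ((3, 5), 2), ((3, 7), 2), ((3, 8), 2), ((3, 9), 4), ((3, 15), 2), ((3, 16), 1), ((3, 17), 3), ((3, 19), 1), ((3, 21), 2), ((3, 29), 1), ((3, 30), 1), ((3, 39), 2), ((4, 1), 4), ((4, 26), 2), ((4, 54), 2), ((4, 56), 1), ((4, 74), 1), ((4, 80), 4), ((4, 88), 4), ((4, 89), 1), ((4, 103), 1), ((4, 104), 4), ((4, 108), 2), ((4, 116), 1), ((4, 6), 1), ((4, 18), 2), ((4, 35), 3), ((4, 68), 4), ((4, 102), 1), ((4, 113), 2), ((4, 2), 4), ((4, 4), 3), ((4, 13), 4)]]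

end Cfsg.Agent.Lib.Helper1.O8C
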