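import Mathlib
import Cfsg.Agent.Lib.Helper1.O8B

/-!
# The group `Ω₈⁺(2)` is generated by the two elements of order 7
-/

set_option autoImplicit false
set_option maxRecDepth 100000

namespace Cfsg.Agent.Lib.Helper1.O8

open Matrix Equiv Cfsg.Agent.Lib.Helper5.QuadGlue Cfsg.Agent.Lib.Helper2
  Cfsg.Agent.Lib.Helper2.CDG Cfsg.Agent.Lib.Helper1.MatCode

attribute [local irreducible] rf

theorem rf_inv (k : Fin 256) : (rf k)⁻¹ = rf k := inv_eq_of_mul_eq_one_left (rf_mul_self k)

theorem refl_congr (v v' : V8) (hv : QF v ≠ 0) (hv' : QF v' ≠ 0) (h : v = v') :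
    refl QF v hv = refl QF v' hv' := by
  subst h; rfl

theorem qN_xor (w x : ℕ) (hw : qN w = true) (hx : qN x = true) (hb : bN w x = true) :
    qN (w ^^^ x) = true := by
  unfold bN at hb
  rw [hw, hx] at hb
  cases h : qN (w ^^^ x)
  · rw [h] at hb; exact absurd hb (by decide)
  · rfl

/-- the conjugate of a reflection by a reflection -/
theorem rf_conj (x w : Fin 256) (hx : qN x.val = true) (hw : qN w.val = true)
    (hb : bN w.val x.val = true) (hlt : w.val ^^^ x.val < 256) :
    rf x * rf w * rf x = rf ⟨w.val ^^^ x.val, hlt⟩ := by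
  have h := Spinor.conj_refl (rf x) (dec w) (QF_ne_zero w hw)
  rw [rf_inv, ← rf_eq w hw] at h
  rw [h, rf_eq ⟨w.val ^^^ x.val, hlt⟩ (qN_xor _ _ hw hx hb)]
  apply refl_congr
  rw [← dec_φO]
  congr 1
  apply Fin.ext
  rw [φO_rf x w hx]
  unfold rfN
  rw [if_pos hb]

/-- the bit mask of a list of numbers -/
def maskOf (l : List ℕ) : ℕ := l.foldr (fun v M => M ||| 2 ^ v) 0

theorem testBit_maskOf (l : List ℕ) (v : ℕ) : (maskOf l).testBit v = true ↔ v ∈ l := by
  induction l with
  | nil => simp [maskOf]
  | cons a l ih =>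
    show (maskOf l ||| 2 ^ a).testBit v = true ↔ _
    rw [Nat.testBit_or, Bool.or_eq_true, ih, Nat.testBit_two_pow, decide_eq_true_eq,
      List.mem_cons]
    constructor
    · rintro (h | h)
      · exact Or.inr h
      · exact Or.inl h.symm
    · rintro (h | h)
      · exact Or.inr h.symm
      · exact Or.inl h

/-- the vectors obtained by the successive sums -/
def chainMask : List (ℕ × ℕ × ℕ) → ℕ → Option ℕ
  | [], M => some M
  | s :: l, M =>
    if M.testBit s.2.1 && M.testBit s.2.2 && (s.1 == s.2.1 ^^^ s.2.2) && bN s.2.1 s.2.2 then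
      chainMask l (M ||| 2 ^ s.1)
    else none

theorem chainMask_sound (P : ℕ → Prop)
    (hstep : ∀ w x, P w → P x → bN w x = true → P (w ^^^ x)) :
    ∀ (l : List (ℕ × ℕ × ℕ)) (M M' : ℕ), chainMask l M = some M' →
      (∀ v, M.testBit v = true → P v) → (∀ v, M'.testBit v = true → P v) := by
  intro l
  induction l with
  | nil =>
    intro M M' h hM
    have : M = M' := by simpa [chainMask] using h
    rw [← this]; exact hM
  | cons s l ih =>
    intro M M' h hM
    unfold chainMask at h
    split_ifs at h with hc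
    rw [Bool.and_eq_true, Bool.and_eq_true, Bool.and_eq_true, beq_iff_eq] at hc
    obtain ⟨⟨⟨h1, h2⟩, h3⟩, h4⟩ := hc
    apply ih _ _ h
    intro v hv
    rw [Nat.testBit_or, Bool.or_eq_true, Nat.testBit_two_pow, decide_eq_true_eq] at hv
    rcases hv with hv | hv
    · exact hM v hv
    · rw [← hv, h3]
      exact hstep _ _ (hM _ h1) (hM _ h2) h4

/-- the vectors at the start -/
def initL : List ℕ := 17 :: wW.map Prod.fst

theorem chain_chk : (match chainMask chainL (maskOf initL) with
    | some M' => (List.range 256).all (fun v => !qN v || M'.testBit v)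
    | none => false) = true := by decide +kernel

theorem wW_chk : wW.all (fun p => decide (p.1 < 256) && qN p.1 &&
    (p.2.all fun i => decide (i < 2)) &&
    (List.range 256).all (fun n => rfN 17 (rfN p.1 n) == wordTab p.2 n)) = true := by
  decide +kernel

/-- the two elements generate the group -/
theorem closure_GG : Subgroup.closure ({gA, gB} : Set G8) = ⊤ := by
  set L := Subgroup.closure ({gA, gB} : Set G8) with hL
  have ha : gA ∈ L := Subgroup.subset_closure (by simp)
  have hb : gB ∈ L := Subgroup.subset_closure (by simp)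
  have hword : ∀ w : List ℕ, wordProd GG w ∈ L := by
    intro w
    induction w with
    | nil => rw [wordProd_nil]; exact L.one_mem
    | cons i w ih =>
      rw [wordProd_cons]
      apply L.mul_mem _ ih
      match i with
      | 0 => exact ha
      | 1 => exact hb
      | (i + 2) => simp [L.one_mem]
  set L' : Subgroup O8 := L.map (Subgroup.subtype _) with hL'
  have hword' : ∀ w : List ℕ, (wordProd GG w).1 ∈ L' := fun w => ⟨_, hword w, rfl⟩
  have q17 : qN 17 = true := by decide
  -- the property of the codes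
  let P : ℕ → Prop := fun v => ∃ hv : v < 256, qN v = true ∧ rf 17 * rf ⟨v, hv⟩ ∈ L'
  have hP17 : P 17 := ⟨by norm_num, q17, by
    have : rf 17 * rf ⟨17, by norm_num⟩ = 1 := rf_mul_self 17
    rw [this]; exact L'.one_mem⟩
  have hseed : ∀ p ∈ wW, P p.1 := by
    intro p hp
    have h := wW_chk
    rw [List.all_eq_true] at h
    have h1 := h p hp
    rw [Bool.and_eq_true, Bool.and_eq_true, Bool.and_eq_true, decide_eq_true_eq,
      List.all_eq_true, List.all_eq_true] at h1
    obtain ⟨⟨⟨h2, h3⟩, h4⟩, h5⟩ := h1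
    refine ⟨h2, h3, ?_⟩
    have h6 : (wordProd GG p.2).1 = rf 17 * rf ⟨p.1, h2⟩ := by
      apply φO_injective
      apply Equiv.ext
      intro x
      apply Fin.ext
      have e1 : φO (wordProd GG p.2).1 x = φ (wordProd GG p.2) x := rfl
      rw [e1, φ_wordProd p.2 (fun i hi => of_decide_eq_true (h4 i hi)),
        φO_rf2 17 ⟨p.1, h2⟩ q17 h3 x x.val rfl]
      have h7 := h5 x.val (List.mem_range.mpr x.isLt)
      rw [beq_iff_eq] at h7
      exact h7.symm
    rw [← h6]
    exact hword' _
  have hstep : ∀ w x, P w → P x → bN w x = true → P (w ^^^ x) := by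
    rintro w x ⟨hw, hqw, hLw⟩ ⟨hx, hqx, hLx⟩ hb
    have hlt : w ^^^ x < 256 := Nat.xor_lt_two_pow (n := 8) hw hx
    refine ⟨hlt, qN_xor w x hqw hqx hb, ?_⟩
    have hc := rf_conj ⟨x, hx⟩ ⟨w, hw⟩ hqx hqw hb hlt
    have e : rf 17 * rf ⟨w ^^^ x, hlt⟩ =
        (rf 17 * rf ⟨x, hx⟩) * (rf 17 * rf ⟨w, hw⟩)⁻¹ * (rf 17 * rf ⟨x, hx⟩) := by
      rw [← hc, _root_.mul_inv_rev, rf_inv, rf_inv]
      have h17 := rf_mul_self 17
      calc rf 17 * (rf ⟨x, hx⟩ * rf ⟨w, hw⟩ * rf ⟨x, hx⟩)
          = rf 17 * rf ⟨x, hx⟩ * rf ⟨w, hw⟩ * 1 * rf ⟨x, hx⟩ := by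
            rw [mul_one]; simp only [mul_assoc]
        _ = rf 17 * rf ⟨x, hx⟩ * (rf ⟨w, hw⟩ * rf 17) * (rf 17 * rf ⟨x, hx⟩) := by
            rw [← h17]; simp only [mul_assoc]
    rw [e]
    exact L'.mul_mem (L'.mul_mem hLx (L'.inv_mem hLw)) hLx
  have hall : ∀ v : Fin 256, qN v.val = true → rf 17 * rf v ∈ L' := by
    intro v hv
    have h := chain_chk
    cases hcm : chainMask chainL (maskOf initL) with
    | none => rw [hcm] at h; exact absurd h (by decide)
    | some M' =>
      rw [hcm] at h
      rw [List.all_eq_true] at h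
      have h1 := h v.val (List.mem_range.mpr v.isLt)
      rw [Bool.or_eq_true, Bool.not_eq_true', hv] at h1
      have h2 : M'.testBit v.val = true := by
        rcases h1 with h1 | h1
        · exact absurd h1 (by decide)
        · exact h1
      have h3 := chainMask_sound P hstep chainL (maskOf initL) M' hcm (by
        intro u hu
        rw [testBit_maskOf] at hu
        unfold initL at hu
        rw [List.mem_cons, List.mem_map] at hu
        rcases hu with rfl | ⟨p, hp, rfl⟩
        · exact hP17
        · exact hseed p hp) v.val h2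
      obtain ⟨_, _, h4⟩ := h3
      exact h4
  -- the products of two reflections
  have hS : commutator O8 ≤ L' := by
    rw [comm_eq_closure, Subgroup.closure_le]
    rintro g ⟨u, v, hu, hv, hg⟩
    have hg' : g = refl QF u hu * refl QF v hv := by
      apply Subtype.ext
      apply Units.ext
      exact hg.trans rfl
    have hqu : qN (enc u).val = true := by
      have := QF_dec (enc u)
      rw [dec_enc] at this
      by_contra hne
      rw [if_neg hne] at this
      exact hu this
    have hqv : qN (enc v).val = true := by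
      have := QF_dec (enc v)
      rw [dec_enc] at this
      by_contra hne
      rw [if_neg hne] at this
      exact hv this
    have eu : refl QF u hu = rf (enc u) := by
      rw [rf_eq _ hqu]
      exact refl_congr _ _ _ _ (dec_enc u).symm
    have ev : refl QF v hv = rf (enc v) := by
      rw [rf_eq _ hqv]
      exact refl_congr _ _ _ _ (dec_enc v).symm
    have e : g = (rf 17 * rf (enc u))⁻¹ * (rf 17 * rf (enc v)) := by
      rw [hg', eu, ev, _root_.mul_inv_rev, rf_inv, rf_inv]
      have h17 := rf_mul_self 17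
      calc rf (enc u) * rf (enc v) = rf (enc u) * 1 * rf (enc v) := by rw [mul_one]
        _ = rf (enc u) * rf 17 * (rf 17 * rf (enc v)) := by rw [← h17]; simp only [mul_assoc]
    show g ∈ L'
    rw [e]
    exact L'.mul_mem (L'.inv_mem (hall _ hqu)) (hall _ hqv)
  rw [eq_top_iff]
  intro g _
  obtain ⟨l, hl, hlg⟩ := hS g.2
  have : l = g := Subtype.ext hlg
  rw [← this]
  exact hl

end Cfsg.Agent.Lib.Helper1.O8
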