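import Cfsg.Agent.Lib.Helper1.O8C
import Cfsg.Agent.Lib.Helper1.O8E1D
import Cfsg.Agent.Lib.Helper1.StemLL7
import Cfsg.Agent.Lib.Helper1.StemLL8

/-!
# A stem extension of the group `Ω₈⁺(2)` with a kernel of order 2, on the 120 nonsingular vectors
-/

set_option autoImplicit false
set_option maxRecDepth 100000

namespace Cfsg.Agent.Lib.Helper1.O8E1

open Cfsg Cfsg.Agent.Lib.Helper1 Cfsg.Agent.Lib.Helper1.MatCode MulAction
open Cfsg.Agent.Lib.Helper1.O8 Cfsg.Agent.Lib.Helper1.O8C
open Cfsg.Agent.Lib.Helper1.StemLL

theorem L_range : L.chkRange = true := by decide +kernel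

theorem L_sorted : L.chkSorted = true := by decide +kernel

theorem L_liftH : L.chkLiftH hintF = true := by decide +kernel

theorem L_tree : L.chkTree = true := by decide +kernel

theorem L_wit : L.chkWit = true := by decide +kernel

theorem L_chk : L.chk = true := by
  unfold LLData.chk
  rw [LLData.chkLift_of_hint hintF L_range L_sorted L_liftH, L_range, L_tree, L_wit]
  decide

theorem act_ok : (List.range 2).all (fun i => (List.range 120).all (fun j =>
    fT i (PL j) == PL (L.pi i j))) = true := by
  decide +kernel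

theorem rawHyp : RawHyp L pt GG where
  range := L_range
  pos := by decide
  act := by
    intro i hi j hj
    have hi' : i < 2 := hi
    have hj' : j < 120 := hj
    have h := act_ok
    rw [List.all_eq_true] at h
    have h1 := h i (List.mem_range.mpr hi')
    rw [List.all_eq_true] at h1
    have h2 := h1 j (List.mem_range.mpr hj')
    rw [beq_iff_eq] at h2
    rw [smul_eq_φ]
    apply Fin.ext
    rw [φ_GG i hi']
    exact h2
  gen := hgen L.k rfl
  inj := fun j hj j' hj' h => pt_inj j hj j' hj' h
  move := ⟨mvI, by decide, mvJ, by decide, by decide +kernel⟩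

instance : NeZero L.c := ⟨by decide⟩

/-- the action on the points -/
noncomputable instance actSub : MulAction G8 ↥(rawSub rawHyp) :=
  @SubMulAction.mulAction G8 _ _ _ (rawSub rawHyp)

/-- the hypotheses of the labelled lifts -/
theorem hyp : LLHyp L (ptSub rawHyp) GG := sub_hyp rawHyp

/-- the cover -/
theorem cover : Cfsg.IsStemExtension (sig G8 L.c (EY L (ptSub rawHyp)) (rhoY L (ptSub rawHyp))) ∧
    IsCyclic (sig G8 L.c (EY L (ptSub rawHyp)) (rhoY L (ptSub rawHyp))).ker ∧
    Nat.card (sig G8 L.c (EY L (ptSub rawHyp)) (rhoY L (ptSub rawHyp))).ker = 2 :=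
  stem_of_data L (ptSub rawHyp) GG hyp L_chk

end Cfsg.Agent.Lib.Helper1.O8E1
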