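import Cfsg.Agent.Lib.Helper1.O8C
import Cfsg.Agent.Lib.Helper1.O8E2D
import Cfsg.Agent.Lib.Helper1.MaskAct
import Cfsg.Agent.Lib.Helper1.StemLL7
import Cfsg.Agent.Lib.Helper1.StemLL8

/-!
# A stem extension of the group `Ω₈⁺(2)` with a kernel of order 2, on 120 sets of 63 maximal
totally singular subspaces of one family
-/

set_option autoImplicit false
set_option maxRecDepth 100000

namespace Cfsg.Agent.Lib.Helper1.O8E2

open Cfsg Cfsg.Agent.Lib.Helper1 Cfsg.Agent.Lib.Helper1.MatCode MulAction
open Cfsg.Agent.Lib.Helper1.O8 Cfsg.Agent.Lib.Helper1.O8C Cfsg.Agent.Lib.Helper1.MaskAct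
open Cfsg.Agent.Lib.Helper1.StemLL

open scoped Pointwise

/-- the action on the sets of sets of coded vectors -/
noncomputable instance actFF : MulAction G8 (Finset (Finset (Fin 256))) :=
  MulAction.compHom (Finset (Finset (Fin 256))) φ

theorem smul_eq_φ' (g : G8) (T : Finset (Finset (Fin 256))) : g • T = φ g • T := rfl

theorem L_range : L.chkRange = true := by decide +kernel

theorem L_sorted : L.chkSorted = true := by decide +kernel

theorem L_liftH : L.chkLiftH hintF = true := by decide +kernel

theorem L_tree : L.chkTree = true := by decide +kernel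

theorem L_wit : L.chkWit = true := by decide +kernel

theorem L_chk : L.chk = true := by
  unfold LLData.chk
  rw [LLData.chkLift_of_hint hintF L_range L_sorted L_liftH, L_range, L_tree, L_wit]
  decide

/-- the generators permute the subspaces -/
theorem sub_ok : (List.range 2).all (fun i => (List.range 135).all (fun s =>
    decide (sp i s < 135) && (imgMask 256 (fT i) (sub s) == sub (sp i s)))) = true := by
  decide +kernel

theorem sub_inj_ok : (List.range 135).all (fun s => (List.range s).all (fun s' =>
    sub s' != sub s)) = true := by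
  decide +kernel

theorem hi_ok : (List.range 120).all (fun j => (List.range 63).all (fun t =>
    decide (hi j t < 135))) = true := by
  decide +kernel

theorem act_ok : (List.range 2).all (fun i => (List.range 120).all (fun j =>
    (List.range 63).all (fun t =>
      decide (pH i j t < 63) && decide (qH i j t < 63) &&
      (sp i (hi j t) == hi (L.pi i j) (pH i j t)) &&
      (sp i (hi j (qH i j t)) == hi (L.pi i j) t)))) = true := by
  decide +kernel

theorem inj_ok : (List.range 120).all (fun j' => (List.range j').all (fun j =>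
    decide (dW j j' < 63) &&
      (List.range 63).all (fun t' => hi j' t' != hi j (dW j j')))) = true := by
  decide +kernel

theorem hi_lt (j t : ℕ) (hj : j < 120) (ht : t < 63) : hi j t < 135 := by
  have h := hi_ok
  rw [List.all_eq_true] at h
  have h1 := h j (List.mem_range.mpr hj)
  rw [List.all_eq_true] at h1
  exact of_decide_eq_true (h1 t (List.mem_range.mpr ht))

theorem img_sub (i s : ℕ) (hi : i < 2) (hs : s < 135) :
    imgMask 256 (fT i) (sub s) = sub (sp i s) := by
  have h := sub_ok
  rw [List.all_eq_true] at h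
  have h1 := h i (List.mem_range.mpr hi)
  rw [List.all_eq_true] at h1
  have h2 := h1 s (List.mem_range.mpr hs)
  rw [Bool.and_eq_true, beq_iff_eq] at h2
  exact h2.2

theorem sub_inj (s s' : ℕ) (hs : s < 135) (hs' : s' < 135) (h : sub s = sub s') : s = s' := by
  have hd := sub_inj_ok
  rw [List.all_eq_true] at hd
  by_contra hne
  rcases Nat.lt_or_gt_of_ne hne with hlt | hlt
  · have h1 := hd s' (List.mem_range.mpr hs')
    rw [List.all_eq_true] at h1
    have h2 := h1 s (List.mem_range.mpr hlt)
    rw [bne_iff_ne] at h2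
    exact h2 h
  · have h1 := hd s (List.mem_range.mpr hs)
    rw [List.all_eq_true] at h1
    have h2 := h1 s' (List.mem_range.mpr hlt)
    rw [bne_iff_ne] at h2
    exact h2 h.symm

/-- the points: the sets of 63 subspaces -/
def raw (j : ℕ) : Finset (Finset (Fin 256)) := msets 256 (HL j)

theorem HL_lt (j : ℕ) : ∀ M ∈ HL j, M < 2 ^ 256 := by
  intro M hM
  unfold HL at hM
  rw [List.mem_map] at hM
  obtain ⟨t, _, rfl⟩ := hM
  exact Nat.mod_lt _ (by norm_num)

theorem hl_mem (j t : ℕ) (ht : t < 63) : hl j t ∈ HL j :=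
  List.mem_map.mpr ⟨t, List.mem_range.mpr ht, rfl⟩

theorem smul_msets8 (g : G8) (f : ℕ → ℕ) (hf : ∀ x : Fin 256, (φ g x).val = f x.val)
    (Ls : List ℕ) : g • msets 256 Ls = msets 256 (Ls.map (imgMask 256 f)) := by
  rw [smul_eq_φ']
  exact smul_msets 256 (φ g) f hf Ls

theorem raw_ne (j j' : ℕ) (hjj : j < j') (hj' : j' < 120) : raw j ≠ raw j' := by
  have hj : j < 120 := lt_trans hjj hj'
  have h := inj_ok
  rw [List.all_eq_true] at h
  have h1 := h j' (List.mem_range.mpr hj')
  rw [List.all_eq_true] at h1
  have h2 := h1 j (List.mem_range.mpr hjj)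
  rw [Bool.and_eq_true, decide_eq_true_eq, List.all_eq_true] at h2
  obtain ⟨hd, hall⟩ := h2
  apply msets_ne_of_not_mem 256 (HL j) (HL j') (HL_lt j) (HL_lt j') (hl j (dW j j'))
    (hl_mem j _ hd)
  intro hmem
  unfold HL at hmem
  rw [List.mem_map] at hmem
  obtain ⟨t', ht', he⟩ := hmem
  rw [List.mem_range] at ht'
  have h3 := hall t' (List.mem_range.mpr ht')
  rw [bne_iff_ne] at h3
  exact h3 (sub_inj _ _ (hi_lt j' t' hj' ht') (hi_lt j _ hj hd) he)

theorem rawHyp : RawHyp L raw GG where
  range := L_range
  pos := by decide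
  act := by
    intro i hi j hj
    have hi' : i < 2 := hi
    have hj' : j < 120 := hj
    have hpj : L.pi i j < 120 := by
      have hR := L_range
      unfold LLData.chkRange at hR
      simp only [List.all_eq_true, List.mem_range, decide_eq_true_eq] at hR
      exact hR i hi j hj
    have h := act_ok
    rw [List.all_eq_true] at h
    have h1 := h i (List.mem_range.mpr hi')
    rw [List.all_eq_true] at h1
    have h2 := h1 j (List.mem_range.mpr hj')
    rw [List.all_eq_true] at h2
    have h3 : ∀ t < 63, pH i j t < 63 ∧ qH i j t < 63 ∧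
        imgMask 256 (fT i) (hl j t) = hl (L.pi i j) (pH i j t) ∧
        imgMask 256 (fT i) (hl j (qH i j t)) = hl (L.pi i j) t := by
      intro t ht
      have h4 := h2 t (List.mem_range.mpr ht)
      rw [Bool.and_eq_true, Bool.and_eq_true, Bool.and_eq_true, decide_eq_true_eq,
        decide_eq_true_eq, beq_iff_eq, beq_iff_eq] at h4
      refine ⟨h4.1.1.1, h4.1.1.2, ?_, ?_⟩
      · unfold hl
        rw [img_sub i _ hi' (hi_lt j t hj' ht), h4.1.2]
      · unfold hl
        rw [img_sub i _ hi' (hi_lt j _ hj' h4.1.1.2), h4.2]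
    unfold raw
    rw [smul_msets8 (GG.getD i 1) (fT i) (φ_GG i hi') (HL j)]
    apply msets_eq_of_subset
    · intro M hM
      rw [List.mem_map] at hM
      obtain ⟨M₀, hM₀, rfl⟩ := hM
      unfold HL at hM₀
      rw [List.mem_map] at hM₀
      obtain ⟨t, ht, rfl⟩ := hM₀
      rw [List.mem_range] at ht
      obtain ⟨hp, _, he, _⟩ := h3 t ht
      rw [he]
      exact hl_mem _ _ hp
    · intro M hM
      unfold HL at hM
      rw [List.mem_map] at hM
      obtain ⟨t, ht, rfl⟩ := hM
      rw [List.mem_range] at ht
      obtain ⟨_, hq, _, he⟩ := h3 t ht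
      rw [← he]
      exact List.mem_map.mpr ⟨_, hl_mem _ _ hq, rfl⟩
  gen := hgen L.k rfl
  inj := by
    intro j hj j' hj' h
    by_contra hne
    rcases Nat.lt_or_gt_of_ne hne with hlt | hlt
    · exact raw_ne j j' hlt hj' h
    · exact raw_ne j' j hlt hj h.symm
  move := ⟨mvI, by decide, mvJ, by decide, by decide +kernel⟩

instance : NeZero L.c := ⟨by decide⟩

/-- the action on the points -/
noncomputable instance actSub : MulAction G8 ↥(rawSub rawHyp) :=
  @SubMulAction.mulAction G8 _ _ _ (rawSub rawHyp)

/-- the hypotheses of the labelled lifts -/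
theorem hyp : LLHyp L (ptSub rawHyp) GG := sub_hyp rawHyp

/-- the cover -/
theorem cover : Cfsg.IsStemExtension (sig G8 L.c (EY L (ptSub rawHyp)) (rhoY L (ptSub rawHyp))) ∧
    IsCyclic (sig G8 L.c (EY L (ptSub rawHyp)) (rhoY L (ptSub rawHyp))).ker ∧
    Nat.card (sig G8 L.c (EY L (ptSub rawHyp)) (rhoY L (ptSub rawHyp))).ker = 2 :=
  stem_of_data L (ptSub rawHyp) GG hyp L_chk

end Cfsg.Agent.Lib.Helper1.O8E2
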