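import Mathlib
import Cfsg.Agent.S0245
import Cfsg.Agent.S0269
import Cfsg.Agent.Lib.Helper1.SpBasic

/-!
# The group `Sp₆(2)` acting on the 64 coded vectors
-/

set_option autoImplicit false

namespace Cfsg.Agent.Lib.Helper1.Sp6

open Matrix Equiv Cfsg.Agent.Lib.Helper1.SpBasic

/-- the group -/
abbrev G6 := Matrix.symplecticGroup (Fin 3) (ZMod 2)

/-- the vectors -/
abbrev V6 := Fin 3 ⊕ Fin 3 → ZMod 2

/-- the vector with a given code -/
def dec (n : Fin 64) : V6 := fun i =>
  match i with
  | .inl i => if n.val.testBit i.val then 1 else 0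
  | .inr i => if n.val.testBit (3 + i.val) then 1 else 0

/-- the code of a vector -/
def enc (x : V6) : Fin 64 :=
  Fin.ofNat 64 ((x (.inl 0)).val + 2 * (x (.inl 1)).val + 4 * (x (.inl 2)).val +
    8 * (x (.inr 0)).val + 16 * (x (.inr 1)).val + 32 * (x (.inr 2)).val)

theorem enc_dec : ∀ n : Fin 64, enc (dec n) = n := by decide

theorem dec_injective : Function.Injective dec :=
  Function.LeftInverse.injective enc_dec

theorem dec_surjective : Function.Surjective dec := by
  have hc : Fintype.card V6 = Fintype.card (Fin 64) := by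
    rw [Fintype.card_fun, Fintype.card_sum, Fintype.card_fin, ZMod.card, Fintype.card_fin]
    norm_num
  exact ((Fintype.bijective_iff_injective_and_card dec).mpr ⟨dec_injective, hc.symm⟩).2

theorem dec_enc (x : V6) : dec (enc x) = x := by
  obtain ⟨n, rfl⟩ := dec_surjective x
  rw [enc_dec]

theorem enc_injective : Function.Injective enc := Function.LeftInverse.injective dec_enc

/-- the action on the coded vectors -/
def φ : G6 →* Perm (Fin 64) where
  toFun g :=
    { toFun := fun n => enc ((g : Matrix _ _ (ZMod 2)) *ᵥ dec n)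
      invFun := fun n => enc (((g⁻¹ : G6) : Matrix _ _ (ZMod 2)) *ᵥ dec n)
      left_inv := fun n => by
        show enc (((g⁻¹ : G6) : Matrix _ _ (ZMod 2)) *ᵥ dec (enc ((g : Matrix _ _ (ZMod 2)) *ᵥ dec n))) = n
        rw [dec_enc, inv_mulVec_mulVec, enc_dec]
      right_inv := fun n => by
        show enc ((g : Matrix _ _ (ZMod 2)) *ᵥ dec (enc (((g⁻¹ : G6) : Matrix _ _ (ZMod 2)) *ᵥ dec n))) = n
        rw [dec_enc, mulVec_inv_mulVec, enc_dec] }
  map_one' := by
    apply Equiv.ext
    intro n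
    show enc (((1 : G6) : Matrix _ _ (ZMod 2)) *ᵥ dec n) = n
    rw [coe_one_mulVec, enc_dec]
  map_mul' g h := by
    apply Equiv.ext
    intro n
    show enc (((g * h : G6) : Matrix _ _ (ZMod 2)) *ᵥ dec n) =
      enc ((g : Matrix _ _ (ZMod 2)) *ᵥ dec (enc ((h : Matrix _ _ (ZMod 2)) *ᵥ dec n)))
    rw [dec_enc, coe_mul_mulVec]

theorem φ_apply (g : G6) (n : Fin 64) : φ g n = enc ((g : Matrix _ _ (ZMod 2)) *ᵥ dec n) := rfl

theorem dec_φ (g : G6) (n : Fin 64) : dec (φ g n) = (g : Matrix _ _ (ZMod 2)) *ᵥ dec n := by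
  rw [φ_apply, dec_enc]

theorem φ_injective : Function.Injective φ := by
  intro g h hgh
  apply ext_mulVec
  intro x
  obtain ⟨n, rfl⟩ := dec_surjective x
  rw [← dec_φ, ← dec_φ, hgh]

/-- the form on the codes -/
def bN (n k : ℕ) : Bool :=
  ((n.testBit 0 && k.testBit 3) ^^ (n.testBit 1 && k.testBit 4) ^^ (n.testBit 2 && k.testBit 5)) ^^
  ((n.testBit 3 && k.testBit 0) ^^ (n.testBit 4 && k.testBit 1) ^^ (n.testBit 5 && k.testBit 2))

/-- the transvections on the codes -/
def tvN (k n : ℕ) : ℕ := if bN n k then n ^^^ k else n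

theorem tv_chk : ∀ k n : Fin 64,
    (enc (dec n + ((1 : ZMod 2) * Cfsg.sympForm 3 (ZMod 2) (dec n) (dec k)) • dec k)).val =
      tvN k.val n.val := by decide +kernel

/-- the transvection with the vector of code `k` -/
def tv (k : Fin 64) : G6 := T (dec k) 1

theorem φ_tv (k n : Fin 64) : (φ (tv k) n).val = tvN k.val n.val := by
  rw [φ_apply, tv, T_mulVec]
  exact tv_chk k n

/-- the order of the group -/
theorem card_G6 : Nat.card G6 = 1451520 := by
  rw [Cfsg.Agent.S0245.result (F := ZMod 2) (q := 2) (ZMod.card 2) 3]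
  decide

instance finite_G6 : Finite G6 := Nat.finite_of_card_ne_zero (by rw [card_G6]; norm_num)

theorem commutator_G6 : commutator G6 = ⊤ := Cfsg.Agent.S0269.result 3 (Or.inl le_rfl)

end Cfsg.Agent.Lib.Helper1.Sp6
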