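import Mathlib
import Cfsg.Agent.Lib.Helper1.O8C
import Cfsg.Agent.Lib.Helper1.Sp6A
import Cfsg.Agent.Lib.Helper1.SpCard
import Cfsg.Agent.Lib.Helper2.Symp4
import Cfsg.Agent.Lib.Helper2.OddSp1

/-!
# The stabilizer of a nonsingular vector in `Ω₈⁺(2)` is the group `Sp₆(2)`
-/

set_option autoImplicit false
set_option maxRecDepth 100000

namespace Cfsg.Agent.Lib.Helper1.O8S

open Matrix Equiv Cfsg.Agent.Lib.Helper5.QuadGlue Cfsg.Agent.Lib.Helper2
  Cfsg.Agent.Lib.Helper2.CDG Cfsg.Agent.Lib.Helper1.O8 Cfsg.Agent.Lib.Helper1.O8C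
  Cfsg.Agent.Lib.Helper1.SpBasic

open Cfsg.Agent.Lib.Helper1.Sp6 (G6 V6)

/-- the ground field -/
abbrev F2 := ZMod 2

/-- the nonsingular vector -/
def vv : V8 := dec 17

/-- two singular vectors with sum the nonsingular vector -/
def e0 : V8 := dec 1
def f0 : V8 := dec 16

/-- the inclusion of the six-dimensional space -/
def inc : Matrix (Fin 4 ⊕ Fin 4) (Fin 3 ⊕ Fin 3) F2 := fun a b =>
  if a = Sum.map Fin.succ Fin.succ b then 1 else 0

/-- the projection to the six-dimensional space -/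
def prj : Matrix (Fin 3 ⊕ Fin 3) (Fin 4 ⊕ Fin 4) F2 := incᵀ

theorem prj_mul_inc : prj * inc = 1 := by decide +kernel

theorem inc_mul_prj : inc * prj = 1 + vecMulVec vv e0 + vecMulVec f0 vv := by decide +kernel

theorem prj_vv : prj *ᵥ vv = 0 := by decide +kernel

theorem vv_inc : vv ᵥ* inc = 0 := by decide +kernel

theorem decomp : ∀ n : Fin 256,
    dec n = inc *ᵥ (prj *ᵥ dec n) + (e0 ⬝ᵥ dec n) • vv + (vv ⬝ᵥ dec n) • f0 := by
  decide +kernel

theorem polar_chk : ∀ n : Fin 256,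
    Cfsg.quadFormPlus 4 F2 (dec 17 + dec n) - Cfsg.quadFormPlus 4 F2 (dec 17) -
      Cfsg.quadFormPlus 4 F2 (dec n) = dec 17 ⬝ᵥ dec n := by
  decide +kernel

theorem Q_chk : ∀ (n : Fin 64) (c : F2),
    Cfsg.quadFormPlus 4 F2 (inc *ᵥ Sp6.dec n + c • vv) =
      Cfsg.quadFormPlus 3 F2 (Sp6.dec n) + c * c := by
  decide +kernel

/-- the codes of the vectors of the six-dimensional space -/
def lift (x : ℕ) : ℕ := ((x &&& 7) <<< 1) ||| ((x >>> 3) <<< 5)

/-- the codes of the classes of the vectors -/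
def cls (n : ℕ) : ℕ := ((n >>> 1) &&& 7) ||| (((n >>> 5) &&& 7) <<< 3)

theorem lift_lt : ∀ x : Fin 64, lift x.val < 256 := by decide +kernel

theorem cls_lt : ∀ n : Fin 256, cls n.val < 64 := by decide +kernel

theorem inc_dec : ∀ x : Fin 64, inc *ᵥ Sp6.dec x = dec ⟨lift x.val, lift_lt x⟩ := by
  decide +kernel

theorem prj_dec : ∀ n : Fin 256, prj *ᵥ dec n = Sp6.dec ⟨cls n.val, cls_lt n⟩ := by
  decide +kernel


theorem polar_vv (x : V8) : QuadraticMap.polar (⇑QF) vv x = vv ⬝ᵥ x := by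
  obtain ⟨n, rfl⟩ := dec_surjective x
  unfold QuadraticMap.polar
  rw [QP_apply, QP_apply, QP_apply]
  exact polar_chk n

/-- an isometry fixing the vector preserves the orthogonal complement of the vector -/
theorem vv_mat (g : O8) (hg : mat g *ᵥ vv = vv) : vv ᵥ* mat g = vv := by
  funext j
  have h := iso_polar g vv (Pi.single j 1)
  rw [hg, polar_vv, polar_vv, dotProduct_mulVec, dotProduct_single_one,
    dotProduct_single_one] at h
  exact h

theorem key {m n : Type*} [Fintype m] [Fintype n] (A : Matrix m (Fin 4 ⊕ Fin 4) F2)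
    (B : Matrix (Fin 4 ⊕ Fin 4) n F2) (hA : A *ᵥ vv = 0) (hB : vv ᵥ* B = 0) :
    A * (1 + vecMulVec vv e0 + vecMulVec f0 vv) * B = A * B := by
  have e1 : ∀ v : n → F2, vecMulVec (0 : m → F2) v = 0 := by
    intro v; ext i j; simp [vecMulVec_apply]
  have e2 : vecMulVec f0 (0 : n → F2) = 0 := by ext i j; simp [vecMulVec_apply]
  have h2 : A * vecMulVec vv e0 * B = 0 := by
    rw [mul_vecMulVec, hA, vecMulVec_mul, e1]
  have h3 : A * vecMulVec f0 vv * B = 0 := by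
    rw [Matrix.mul_assoc, vecMulVec_mul, hB, e2, Matrix.mul_zero]
  rw [Matrix.mul_add, Matrix.mul_add, Matrix.add_mul, Matrix.add_mul, Matrix.mul_one, h2, h3]
  simp

/-- the matrix of an isometry fixing the vector on the six-dimensional space -/
noncomputable def m6 (g : O8) : Matrix (Fin 3 ⊕ Fin 3) (Fin 3 ⊕ Fin 3) F2 := prj * mat g * inc

theorem mat_mul' (g h : O8) : mat (g * h) = mat g * mat h := rfl

theorem mat_one' : mat (1 : O8) = 1 := rfl

theorem m6_one : m6 1 = 1 := by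
  unfold m6
  rw [mat_one', Matrix.mul_one, prj_mul_inc]

theorem m6_mul (g h : O8) (hg : mat g *ᵥ vv = vv) (hh : mat h *ᵥ vv = vv) :
    m6 (g * h) = m6 g * m6 h := by
  unfold m6
  have h1 : prj * mat g * inc * (prj * mat h * inc) =
      (prj * mat g) * (inc * prj) * (mat h * inc) := by simp only [Matrix.mul_assoc]
  rw [h1, inc_mul_prj, key, mat_mul']
  · simp only [Matrix.mul_assoc]
  · rw [← Matrix.mulVec_mulVec, hg, prj_vv]
  · rw [← Matrix.vecMul_vecMul, vv_mat h hh, vv_inc]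

theorem m6_mulVec (g : O8) (z : V6) : m6 g *ᵥ z = prj *ᵥ (mat g *ᵥ (inc *ᵥ z)) := by
  unfold m6
  rw [Matrix.mulVec_mulVec, Matrix.mulVec_mulVec]

theorem two_eq_zero' : (2 : F2) = 0 := by decide

theorem key6 (g : O8) (hg : mat g *ᵥ vv = vv) (z : V6) :
    (e0 ⬝ᵥ (mat g *ᵥ (inc *ᵥ z))) * (e0 ⬝ᵥ (mat g *ᵥ (inc *ᵥ z))) +
      Cfsg.quadFormPlus 3 F2 (m6 g *ᵥ z) = Cfsg.quadFormPlus 3 F2 z := by
  obtain ⟨n, rfl⟩ := Sp6.dec_surjective z
  have hperp : vv ⬝ᵥ (mat g *ᵥ (inc *ᵥ Sp6.dec n)) = 0 := by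
    rw [dotProduct_mulVec, vv_mat g hg, dotProduct_mulVec, vv_inc, zero_dotProduct]
  obtain ⟨k, hk⟩ := dec_surjective (mat g *ᵥ (inc *ᵥ Sp6.dec n))
  obtain ⟨n', hn'⟩ := Sp6.dec_surjective (m6 g *ᵥ Sp6.dec n)
  have hd := decomp k
  rw [hk, hperp, zero_smul, add_zero, ← m6_mulVec, ← hn'] at hd
  have hQ : QF (mat g *ᵥ (inc *ᵥ Sp6.dec n)) = QF (inc *ᵥ Sp6.dec n) := iso_Q g _
  rw [QP_apply, QP_apply] at hQ
  have h0 := Q_chk n 0
  rw [zero_smul, add_zero, mul_zero, add_zero] at h0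
  have h1 := Q_chk n' (e0 ⬝ᵥ (mat g *ᵥ (inc *ᵥ Sp6.dec n)))
  rw [← hd, hQ, h0] at h1
  rw [← hn', h1, add_comm]

theorem m6_mem (g : O8) (hg : mat g *ᵥ vv = vv) : m6 g ∈ Matrix.symplecticGroup (Fin 3) F2 := by
  rw [Cfsg.Agent.Lib.Helper1.SpCard.mem_symplectic_iff_form]
  intro x y
  have h2 := two_eq_zero'
  have h1 := key6 g hg x
  have h3 := key6 g hg y
  have h4 := key6 g hg (x + y)
  rw [Matrix.mulVec_add (m6 g), OddSp.plus_add h2, OddSp.plus_add h2, Matrix.mulVec_add inc,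
    Matrix.mulVec_add (mat g), dotProduct_add] at h4
  linear_combination h4 - h1 - h3 -
    (e0 ⬝ᵥ (mat g *ᵥ (inc *ᵥ x))) * (e0 ⬝ᵥ (mat g *ᵥ (inc *ᵥ y))) * h2


theorem PL_zero : PL 0 = 17 := by decide +kernel

theorem pt_zero_eq : pt 0 = 17 := Fin.ext PL_zero

theorem fix_vv (g : K) : mat (g.1 : G8).1 *ᵥ vv = vv := by
  have h : (g : G8) • pt 0 = pt 0 := g.2
  rw [smul_eq_φ, φ_apply, pt_zero_eq] at h
  have h2 := dec_φO (g.1 : G8).1 17
  rw [h] at h2
  exact h2.symm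

/-- the homomorphism from the stabilizer to the symplectic group -/
noncomputable def ψ : K →* G6 where
  toFun g := ⟨m6 (g.1 : G8).1, m6_mem _ (fix_vv g)⟩
  map_one' := Subtype.ext m6_one
  map_mul' g h := Subtype.ext (m6_mul _ _ (fix_vv g) (fix_vv h))

theorem ψ_coe (g : K) : ((ψ g : G6) : Matrix _ _ F2) = m6 (g.1 : G8).1 := rfl

theorem φ6_ψ (g : K) (x : Fin 64) :
    (Sp6.φ (ψ g) x).val = cls (φ (g : G8) ⟨lift x.val, lift_lt x⟩).val := by
  rw [Sp6.φ_apply, ψ_coe, m6_mulVec, inc_dec, ← dec_φO, prj_dec, Sp6.enc_dec]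
  rfl

theorem φ6_ψ' (g : G8) (hg : g ∈ K) (x : Fin 64) :
    (Sp6.φ (ψ ⟨g, hg⟩) x).val = cls (φ g ⟨lift x.val, lift_lt x⟩).val := φ6_ψ ⟨g, hg⟩ x

attribute [local irreducible] rf

/-- the products of two reflections fixing the vector -/
noncomputable def tg (w : Fin 256) (hw : qN w.val = true) : G8 :=
  ⟨rf 17 * rf w, rf_mul_mem 17 w (by decide) hw⟩

theorem φ_tg (w : Fin 256) (hw : qN w.val = true) (y : Fin 256) :
    (φ (tg w hw) y).val = rfN 17 (rfN w.val y.val) :=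
  φO_rf2 17 w (by decide) hw y y.val rfl

theorem tg_mem (w : Fin 256) (hw : qN w.val = true) (hb : rfN 17 (rfN w.val 17) = 17) :
    tg w hw ∈ K := by
  rw [MulAction.mem_stabilizer_iff, smul_eq_φ, pt_zero_eq]
  apply Fin.ext
  rw [φ_tg]
  exact hb

/-- the nonsingular vector in the class of a vector of the six-dimensional space -/
def wOf (k : ℕ) : ℕ := if qN (lift k) then lift k else lift k ^^^ 17

theorem tg_chk : ∀ k : Fin 64, k.val ≠ 0 → wOf k.val < 256 ∧ qN (wOf k.val) = true ∧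
    rfN 17 (rfN (wOf k.val) 17) = 17 ∧
    ∀ x : Fin 64, cls (rfN 17 (rfN (wOf k.val) (lift x.val))) = Sp6.tvN k.val x.val := by
  decide +kernel

theorem tv_mem_range (k : Fin 64) (hk : k.val ≠ 0) : Sp6.tv k ∈ ψ.range := by
  have h := tg_chk k hk
  have h1 := h.1
  have h2 := h.2.1
  have h3 := h.2.2.1
  have h4 := h.2.2.2
  have hm := tg_mem ⟨wOf k.val, h1⟩ h2 h3
  rw [MonoidHom.mem_range]
  refine ⟨⟨tg ⟨wOf k.val, h1⟩ h2, hm⟩, ?_⟩
  apply Sp6.φ_injective
  apply Equiv.ext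
  intro x
  apply Fin.ext
  rw [φ6_ψ' _ hm, Sp6.φ_tv, φ_tg]
  exact h4 x

theorem ψ_surjective : Function.Surjective ψ := by
  rw [← MonoidHom.range_eq_top, eq_top_iff, ← Symp.transvGroup_eq_top]
  unfold Symp.transvGroup
  rw [Subgroup.closure_le]
  rintro A ⟨w, c, hA⟩
  have hAT : A = T w c := Subtype.ext hA
  rw [hAT]
  show T w c ∈ ψ.range
  have hc01 : ∀ c : ZMod 2, c = 0 ∨ c = 1 := by decide
  rcases hc01 c with rfl | rfl
  · rw [T_zero]; exact ψ.range.one_mem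
  · by_cases hw : Sp6.enc w = 0
    · have : w = 0 := by
        rw [← Sp6.dec_enc w, hw]
        funext i
        rcases i with i | i <;> simp [Sp6.dec]
      rw [this, T_zero_left]; exact ψ.range.one_mem
    · have h := tv_mem_range (Sp6.enc w) (fun h0 => hw (Fin.ext h0))
      unfold Sp6.tv at h
      rwa [Sp6.dec_enc] at h

theorem ψ_bijective : Function.Bijective ψ := by
  haveI : Finite ↥K := Subgroup.instFiniteSubtypeMem K
  apply ψ_surjective.bijective_of_nat_card_le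
  rw [card_K, Sp6.card_G6]

/-- the stabilizer of a nonsingular vector is the symplectic group -/
noncomputable def eK : ↥K ≃* G6 := MulEquiv.ofBijective ψ ψ_bijective

end Cfsg.Agent.Lib.Helper1.O8S
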