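import Mathlib

set_option autoImplicit false

/-! The group `Sp₆(2)`: the tables of two generators of orders 7 and 5 on the 64 coded vectors,
relations, and words. -/

namespace Cfsg.Agent.Lib.Helper1.Sp6

/-- the generators, of orders 7 and 5, on the 64 coded vectors -/
def tA : List ℕ := [0, 27, 3, 24, 32, 59, 35, 56, 25, 2, 26, 1, 57, 34, 58, 33, 42, 49, 41, 50, 10, 17, 9, 18, 51, 40, 48, 43, 19, 8, 16, 11, 7, 28, 4, 31, 39, 60, 36, 63, 30, 5, 29, 6, 62, 37, 61, 38, 45, 54, 46, 53, 13, 22, 14, 21, 52, 47, 55, 44, 20, 15, 23, 12]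
def tB : List ℕ := [0, 24, 36, 60, 63, 39, 27, 3, 17, 9, 53, 45, 46, 54, 10, 18, 20, 12, 48, 40, 43, 51, 15, 23, 5, 29, 33, 57, 58, 34, 30, 6, 47, 55, 11, 19, 16, 8, 52, 44, 62, 38, 26, 2, 1, 25, 37, 61, 59, 35, 31, 7, 4, 28, 32, 56, 42, 50, 14, 22, 21, 13, 49, 41]
/-- a word for the transvection of the vector with code 23 -/
def wT : List ℕ := [0, 0, 0, 1, 1, 0, 1, 1, 0, 0, 0, 1, 1, 0, 1, 1, 0, 0, 0, 1, 1, 0, 1, 1]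
/-- words moving the vector with code 23 to the other nonzero vectors -/
def wV : List (List ℕ) := [[], [1, 0, 1, 1, 0], [0, 0, 1, 1, 1, 0], [0, 0, 0, 1, 1, 1, 0], [1, 1, 1, 0, 0], [0, 0, 0], [0, 1, 1, 1, 0, 1, 0, 0], [0, 0, 1, 1, 1, 0, 0], [1, 0, 0, 1, 0], [0, 1, 1, 1, 0], [0, 1, 1, 0, 1, 0, 0], [1, 0, 0, 1, 1, 0, 0], [0, 0, 1, 0, 0, 0], [0, 1, 1, 0, 0], [0, 1, 0, 1, 1, 0, 0], [1, 1, 1, 1, 0], [1, 0, 1, 0, 0], [1, 1, 0, 0, 1, 0], [0], [1, 1, 1, 0, 0, 1, 1, 0], [1, 1, 0, 1, 0, 0], [1, 0, 0, 0, 1, 0], [1, 1, 1, 0], [], [1, 1, 0, 1, 1, 0], [1, 0, 1, 0], [1, 0, 1, 0, 1, 0, 0], [0, 1, 0, 1, 1, 0], [0, 0, 1, 1, 1, 1, 0], [1, 1, 0, 1, 0], [0, 0, 1, 0, 1, 0], [0, 1, 1, 0, 0, 1, 1, 0], [0, 1, 1, 1, 0, 0], [0, 1, 1, 1, 1, 0], [0, 0, 1, 1, 0, 0], [1, 1, 0, 0, 1, 1, 0],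 [0, 1, 0, 0], [0, 0, 1, 0], [1, 0, 0], [1, 0, 0, 0], [0, 1, 0, 1, 0], [0, 0], [0, 1, 0, 1, 0, 0], [1, 1, 1, 0, 1, 0, 0], [0, 1, 1, 0], [0, 1, 0], [1, 0, 0, 1, 0, 0, 0], [1, 0, 1, 1, 1, 0, 0], [1, 0], [1, 0, 0, 1, 1, 0], [1, 0, 0, 0, 1, 0, 0, 0], [1, 1, 0, 0, 0, 1, 0], [1, 1, 0, 0], [1, 0, 1, 1, 0, 1, 0, 0], [1, 0, 1, 1, 0, 0], [1, 0, 1, 1, 1, 1, 0], [0, 0, 0, 1, 1, 1, 0, 0], [0, 0, 0, 1, 0, 0, 0], [0, 0, 1, 0, 1, 1, 0, 0], [1, 1, 0], [0, 0, 0, 1, 0], [0, 1, 0, 0, 1, 0, 0, 0], [0, 0, 1, 1, 0], [0, 1, 0, 0, 0]]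
/-- relations -/
def relsL : List (List ℕ × List ℕ) := [([1, 0, 0, 1, 0, 0, 1], [0, 0, 0, 0, 0]), ([1, 0, 1, 0, 1, 0, 1, 0, 1, 0, 1, 0], [0, 1, 0, 0, 1, 0, 1, 1, 1, 1]), ([0, 0, 1, 1, 0, 1, 1, 0, 1, 0, 1, 0], [1, 1, 1, 0, 0, 0, 0, 1, 0, 1])]

end Cfsg.Agent.Lib.Helper1.Sp6
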