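import Mathlib
import Cfsg.Agent.Lib.Helper1.Sp6A
import Cfsg.Agent.Lib.Helper1.Sp6Dat
import Cfsg.Agent.Lib.Helper1.MatCode3
import Cfsg.Agent.Lib.Helper2.Symp4

/-!
# The group `Sp₆(2)`: two generators, their tables on the 64 coded vectors, and words
-/

set_option autoImplicit false
set_option maxRecDepth 100000

namespace Cfsg.Agent.Lib.Helper1.Sp6

open Matrix Equiv Cfsg.Agent.Lib.Helper1.SpBasic Cfsg.Agent.Lib.Helper1.MatCode

/-- the generator of order 7 -/
def gA : G6 := tv 25 * tv 30 * tv 12 * tv 38 * tv 54 * tv 29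

/-- the generator of order 5 -/
def gB : G6 := tv 34 * tv 18 * tv 45 * tv 59

/-- the generators -/
abbrev GG : List G6 := [gA, gB]

theorem tabA_chk : ∀ x : Fin 64,
    tvN 25 (tvN 30 (tvN 12 (tvN 38 (tvN 54 (tvN 29 x.val))))) = tA.getD x.val 0 := by decide

theorem tabB_chk : ∀ x : Fin 64, tvN 34 (tvN 18 (tvN 45 (tvN 59 x.val))) = tB.getD x.val 0 := by
  decide

theorem φ_tv' (k n : Fin 64) (y : ℕ) (hy : n.val = y) : (φ (tv k) n).val = tvN k.val y := by
  rw [φ_tv, hy]

theorem φ_gA (x : Fin 64) : (φ gA x).val = tA.getD x.val 0 := by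
  rw [← tabA_chk x]
  unfold gA
  simp only [map_mul, Perm.mul_apply]
  exact φ_tv' 25 _ _ (φ_tv' 30 _ _ (φ_tv' 12 _ _ (φ_tv' 38 _ _ (φ_tv' 54 _ _ (φ_tv' 29 _ _ rfl)))))

theorem φ_gB (x : Fin 64) : (φ gB x).val = tB.getD x.val 0 := by
  rw [← tabB_chk x]
  unfold gB
  simp only [map_mul, Perm.mul_apply]
  exact φ_tv' 34 _ _ (φ_tv' 18 _ _ (φ_tv' 45 _ _ (φ_tv' 59 _ _ rfl)))

/-- the action of a word on a point, on the tables -/
def wordTab (w : List ℕ) (x : ℕ) : ℕ :=
  w.foldr (fun i x => ([tA, tB].getD i []).getD x 0) x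

theorem φ_GG (i : ℕ) (hi : i < 2) (x : Fin 64) :
    (φ (GG.getD i 1) x).val = ([tA, tB].getD i []).getD x.val 0 := by
  interval_cases i
  · exact φ_gA x
  · exact φ_gB x

theorem φ_wordProd (w : List ℕ) (hw : ∀ i ∈ w, i < 2) (x : Fin 64) :
    (φ (wordProd GG w) x).val = wordTab w x.val := by
  induction w with
  | nil => simp [wordProd_nil, wordTab]
  | cons i w ih =>
    rw [wordProd_cons, map_mul, Perm.mul_apply, φ_GG i (hw i (by simp))]
    rw [ih (fun i' hi' => hw i' (by simp [hi']))]
    rfl

/-- the boolean comparison of two words -/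
def wordBeq (w w' : List ℕ) : Bool :=
  (w.all fun i => decide (i < 2)) && (w'.all fun i => decide (i < 2)) &&
    (List.range 64).all fun x => wordTab w x == wordTab w' x

theorem eq_of_wordBeq (w w' : List ℕ) (h : wordBeq w w' = true) :
    wordProd GG w = wordProd GG w' := by
  unfold wordBeq at h
  simp only [Bool.and_eq_true, List.all_eq_true, decide_eq_true_eq, beq_iff_eq, List.mem_range]
    at h
  obtain ⟨⟨h1, h2⟩, h3⟩ := h
  apply φ_injective
  apply Equiv.ext
  intro x
  apply Fin.ext
  rw [φ_wordProd w h1, φ_wordProd w' h2]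
  exact h3 x.val x.isLt

theorem wordProd_replicate {Γ : Type*} [Group Γ] (G : List Γ) (i n : ℕ) :
    wordProd G (List.replicate n i) = (G.getD i 1) ^ n := by
  induction n with
  | zero => simp [wordProd_nil]
  | succ n ih => rw [List.replicate_succ, wordProd_cons, ih, pow_succ']

theorem gA_pow : gA ^ 7 = 1 := by
  have h := eq_of_wordBeq (List.replicate 7 0) [] (by decide +kernel)
  rwa [wordProd_replicate, wordProd_nil] at h

theorem gB_pow : gB ^ 5 = 1 := by
  have h := eq_of_wordBeq (List.replicate 5 1) [] (by decide +kernel)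
  rwa [wordProd_replicate, wordProd_nil] at h

theorem hrel : ∀ w ∈ relsL, wordProd GG w.1 = wordProd GG w.2 := by
  have h : relsL.all (fun w => wordBeq w.1 w.2) = true := by decide +kernel
  rw [List.all_eq_true] at h
  intro w hw
  exact eq_of_wordBeq _ _ (h w hw)

/-- a transvection as a word -/
theorem tv_eq_word : tv 23 = wordProd GG wT := by
  apply φ_injective
  apply Equiv.ext
  intro x
  apply Fin.ext
  rw [φ_tv, φ_wordProd wT (by decide)]
  revert x
  decide

theorem wV_chk : (List.range 64).all (fun v => (v == 0) ||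
    (((wV.getD v []).all fun i => decide (i < 2)) && (wordTab (wV.getD v []) 23 == v))) = true := by
  decide +kernel

/-- the two elements generate the group -/
theorem closure_GG : Subgroup.closure ({gA, gB} : Set G6) = ⊤ := by
  set L := Subgroup.closure ({gA, gB} : Set G6) with hL
  have ha : gA ∈ L := Subgroup.subset_closure (by simp)
  have hb : gB ∈ L := Subgroup.subset_closure (by simp)
  have hword : ∀ w : List ℕ, wordProd GG w ∈ L := by
    intro w
    induction w with
    | nil => rw [wordProd_nil]; exact L.one_mem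
    | cons i w ih =>
      rw [wordProd_cons]
      apply L.mul_mem _ ih
      match i with
      | 0 => exact ha
      | 1 => exact hb
      | (i + 2) => simp [L.one_mem]
  have h23 : tv 23 ∈ L := by rw [tv_eq_word]; exact hword _
  have htv : ∀ v : Fin 64, v ≠ 0 → tv v ∈ L := by
    intro v hv
    have h := wV_chk
    rw [List.all_eq_true] at h
    have h1 := h v.val (List.mem_range.mpr v.isLt)
    rw [Bool.or_eq_true, Bool.and_eq_true, List.all_eq_true, beq_iff_eq, beq_iff_eq] at h1
    rcases h1 with h1 | ⟨h1, h2⟩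
    · exact absurd (Fin.ext h1) hv
    · have h3 : ∀ i ∈ wV.getD v.val [], i < 2 := fun i hi => of_decide_eq_true (h1 i hi)
      have h4 := φ_wordProd (wV.getD v.val []) h3 23
      have h5 : φ (wordProd GG (wV.getD v.val [])) 23 = v := by
        apply Fin.ext
        rw [h4]; exact h2
      have h6 : ((wordProd GG (wV.getD v.val []) : G6) : Matrix _ _ (ZMod 2)) *ᵥ dec 23 = dec v := by
        rw [← dec_φ, h5]
      have h7 := conj_T (wordProd GG (wV.getD v.val [])) (dec 23) (1 : ZMod 2)
      rw [h6] at h7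
      show T (dec v) 1 ∈ L
      rw [← h7]
      exact L.mul_mem (L.mul_mem (hword _) h23) (L.inv_mem (hword _))
  rw [eq_top_iff, ← Cfsg.Agent.Lib.Helper2.Symp.transvGroup_eq_top]
  unfold Cfsg.Agent.Lib.Helper2.Symp.transvGroup
  rw [Subgroup.closure_le]
  rintro A ⟨w, c, hA⟩
  have hAT : A = T w c := Subtype.ext hA
  rw [hAT]
  show T w c ∈ L
  have hc01 : ∀ c : ZMod 2, c = 0 ∨ c = 1 := by decide
  have hc : c = 0 ∨ c = 1 := hc01 c
  rcases hc with rfl | rfl
  · rw [T_zero]; exact L.one_mem
  · by_cases hw : enc w = 0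
    · have : w = 0 := by
        rw [← dec_enc w, hw]
        funext i
        rcases i with i | i <;> simp [dec]
      rw [this, T_zero_left]; exact L.one_mem
    · have := htv (enc w) hw
      unfold tv at this
      rwa [dec_enc] at this

end Cfsg.Agent.Lib.Helper1.Sp6
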