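import Mathlib
import Cfsg.Agent.Lib.Helper1.Sp6B
import Cfsg.Agent.Lib.Helper1.Sp6QD
import Cfsg.Agent.Lib.Helper1.MaskAct
import Cfsg.Agent.Lib.Helper1.StemOrb

/-!
# The group `Sp₆(2)` acting on sets of coded vectors; the 36 quadrics of plus type
-/

set_option autoImplicit false
set_option maxRecDepth 100000

namespace Cfsg.Agent.Lib.Helper1.Sp6

open Matrix Equiv Cfsg.Agent.Lib.Helper1.MatCode Cfsg.Agent.Lib.Helper1.StemSA
  Cfsg.Agent.Lib.Helper1.MaskAct

open scoped Pointwise

/-- the action on the sets of coded vectors -/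
instance actFin : MulAction G6 (Finset (Fin 64)) := MulAction.compHom (Finset (Fin 64)) φ

theorem smul_eq_φ (g : G6) (S : Finset (Fin 64)) : g • S = φ g • S := rfl

/-- the action of an element, given by a function on the codes, on the sets -/
theorem smul_mset6 (g : G6) (f : ℕ → ℕ) (hf : ∀ x : Fin 64, (φ g x).val = f x.val) (M : ℕ) :
    g • mset 64 M = mset 64 (imgMask 64 f M) := by
  rw [smul_eq_φ]
  exact smul_mset 64 (φ g) f hf M

theorem hgen (k : ℕ) (hk : k = 2) : Subgroup.closure {g | ∃ i < k, g = GG.getD i 1} = ⊤ := by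
  subst hk
  rw [eq_top_iff, ← closure_GG]
  apply Subgroup.closure_mono
  intro g hg
  simp only [Set.mem_insert_iff, Set.mem_singleton_iff] at hg
  rcases hg with rfl | rfl
  · exact ⟨0, by decide, rfl⟩
  · exact ⟨1, by decide, rfl⟩

end Cfsg.Agent.Lib.Helper1.Sp6

namespace Cfsg.Agent.Lib.Helper1.Sp6Q

open Matrix Equiv Cfsg.Agent.Lib.Helper1.MatCode Cfsg.Agent.Lib.Helper1.StemSA
  Cfsg.Agent.Lib.Helper1.MaskAct Cfsg.Agent.Lib.Helper1.Sp6

open scoped Pointwise

/-- the points of the action on the 36 quadrics -/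
def pt (j : ℕ) : Finset (Fin 64) := mset 64 (PL j)

theorem PL_lt (j : ℕ) : PL j < 2 ^ 64 := Nat.mod_lt _ (by norm_num)

theorem chk_struct : D.chkStruct = true := by decide +kernel

theorem chk_cert : StemZD.chkCertD D C = true := by decide +kernel

theorem act_ok : (List.range 2).all (fun i => (List.range 36).all (fun j =>
    imgMask 64 (fun x => ([tA, tB].getD i []).getD x 0) (PL j) == PL (D.pi i j))) = true := by
  decide +kernel

theorem pi_act (i : ℕ) (hi : i < D.k) (j : ℕ) (hj : j < D.m) :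
    GG.getD i 1 • pt j = pt (D.pi i j) := by
  have hi' : i < 2 := hi
  have hj' : j < 36 := hj
  have h := act_ok
  rw [List.all_eq_true] at h
  have h1 := h i (List.mem_range.mpr hi')
  rw [List.all_eq_true] at h1
  have h2 := h1 j (List.mem_range.mpr hj')
  rw [beq_iff_eq] at h2
  unfold pt
  rw [smul_mset6 (GG.getD i 1) (fun x => ([tA, tB].getD i []).getD x 0) (φ_GG i hi') (PL j), h2]

theorem distinct_ok : (List.range 36).all (fun j => (List.range j).all (fun j' =>
    PL j' != PL j)) = true := by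
  decide +kernel

theorem pt_inj (j : ℕ) (hj : j < 36) (j' : ℕ) (hj' : j' < 36) (h : pt j = pt j') : j = j' := by
  have h0 := mset_inj 64 (PL_lt j) (PL_lt j') h
  have hd := distinct_ok
  rw [List.all_eq_true] at hd
  by_contra hne
  rcases Nat.lt_or_gt_of_ne hne with hlt | hlt
  · have h1 := hd j' (List.mem_range.mpr hj')
    rw [List.all_eq_true] at h1
    have h2 := h1 j (List.mem_range.mpr hlt)
    rw [bne_iff_ne] at h2
    exact h2 h0
  · have h1 := hd j (List.mem_range.mpr hj)
    rw [List.all_eq_true] at h1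
    have h2 := h1 j' (List.mem_range.mpr hlt)
    rw [bne_iff_ne] at h2
    exact h2 h0.symm

theorem pt_zero (j : ℕ) (hj : j < D.m) (h : pt j = pt 0) : j = 0 :=
  pt_inj j hj 0 (by decide) h

theorem hgenD : Subgroup.closure {g | ∃ i < D.k, g = GG.getD i 1} = ⊤ := hgen D.k rfl

theorem hodd (i : ℕ) (hi : i < D.k) :
    Odd (D.ords.getD i 0) ∧ (GG.getD i 1) ^ (D.ords.getD i 0) = 1 := by
  have hi' : i < 2 := hi
  interval_cases i
  · exact ⟨by decide, gA_pow⟩
  · exact ⟨by decide, gB_pow⟩

theorem hrelD : ∀ w ∈ D.rels, wordProd GG w.1 = wordProd GG w.2 := hrel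

/-- the stabilizer of the first quadric -/
abbrev K : Subgroup G6 := MulAction.stabilizer G6 (pt 0)

theorem card_K : Nat.card ↥K = 40320 := by
  have h := StemOrb.card_stabilizer_mul D chk_struct pt GG hgenD pi_act (by decide)
    (fun j hj j' hj' => pt_inj j hj j' hj')
  rw [card_G6] at h
  have h' : Nat.card ↥K * 36 = 1451520 := h
  omega

end Cfsg.Agent.Lib.Helper1.Sp6Q
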