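import Mathlib
import Cfsg.Agent.Lib.Helper1.StemZE2
import Cfsg.Agent.Lib.Helper1.Sp6Dat

set_option autoImplicit false
set_option maxRecDepth 100000
set_option maxHeartbeats 8000000

/-! The group `Sp₆(2)` acting on the 135 maximal totally isotropic subspaces, as sets of 8 coded
vectors: the tables and the certificate for the kernels that are 3-groups. -/

namespace Cfsg.Agent.Lib.Helper1.Sp6L

open Cfsg.Agent.Lib.Helper1 Cfsg.Agent.Lib.Helper1.Sp6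

def PLN : ℕ := 0x10100404404001010120400808402001003c0000000000c3090000606000000901200120200120010208104080200401000000004444111100000000221122110000a500000000a596000000000000692882000000001441002481002400008101080801010808010000000022884411008142004200008100000000442288110018240042000081000300c000c0000304020801040208010101010101010101100402800820400114820000000028412080401002080401088080080110100108020401080204010042180024000081802001042080040140018002800240010000000000005555210021000021002190000006600000094141000000004141108002044020080104100820800240010410200802804001081004204002800120102010020102010404010104040101020102010201020100000aa00000500500000000990000998400480000120021020804010208040100c0000c00300003404004041010010148001200008400218008200240041001208001048020040101082040402008014020801004020801000000006600009900000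00088224411040440401010010100c00030000c0003600000069000000908040201080402010000a00a000050050003000300030003400102800280400100000000003300334008048002102001024010080420800180400804201002011080801001080801000005a00000a005048001208004200128140000000082410000a05000000a05014020080820400104022040108008010000000000cc003301014040404001010480400802102001024004201008800180402010080402010000000f0000000f00000000111111111002100220012001800101800180800110048002200840010081810081000081000005050000050514140000000041418400210000840021000c0003000c000300000a0500000a0502200220100110010000500a0000a00582410000000082414040101004040101101010100101010110020480084020010810100801808001060000609000000921004800004800212004400210088001020180408040020100c30000000000c3402002041080080108800220400410012002200210011001000000000000aa5500300030000300036000009006000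0090600000906000009014008202008400100000000118888110000000088442211802040100802040120020880044010010802104020800401000000f00000000f690000000000006900244200180000810220800804401001400810028004200180014002400280012010080480400201000050500000050500422400180000810030000c00c00003000c00c000300003480084000012002100005a00000000a5822800000000144120040180042080010804804020100201412800000000284112001200002100218008088001101001120084000048002100181800810000819000009009000009090000090900000900000000000000ff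

/-- the subspaces, as bit masks, in the order of the tree -/
def PL (j : ℕ) : ℕ := (PLN >>> (64 * j)) % 2 ^ 64

def piN : List ℕ := [0x7f044850b086154600d4831bc490fc8418469134820f0251d85d16c092046d19c801041e18c3a1904b1c4450e4461e07e1f47a1f07b14c79164301dc201d4731d0701c81c02c2903c331b86c1ac6a034681982f05c651444f188570dc5f1785c16858148561503e08c15000041404e1304a1201311c4409c43108400183d0ec2b0e0360d0320c4190b82d0082a0a026090220841f0741b0681805814048100380c0280801c0500c01, 0x770f45e2185a210121201f1c8851407e1b083160540a84e03081108820a0140ec241f01a128661b8561a8792007f1ac080407d17c7b1e8741d47801c7608868028651cc71098701bc180146d0c8311a42d19c1b1885c1903818c1d1846011c5d16c5915c16154531303610c521444f1344b124400d04611444004410fc3e0f03a0e4370d4330b8300bc0e0b02b0a42709423084200781c00c1905c1504c1103c0d02c090000601002]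
def parL : List (ℕ × ℕ) := [(0, 0), (0, 0), (1, 0), (0, 1), (1, 1), (0, 2), (1, 2), (0, 3), (0, 4), (1, 4), (0, 5), (1, 5), (0, 6), (1, 6), (0, 7), (1, 7), (0, 8), (1, 8), (0, 9), (1, 9), (0, 10), (1, 10), (0, 11), (1, 11), (0, 12), (1, 12), (0, 13), (0, 14), (1, 14), (0, 15), (1, 15), (0, 16), (1, 16), (0, 17), (0, 18), (1, 18), (0, 19), (1, 19), (0, 20), (1, 20), (0, 21), (1, 21), (0, 22), (1, 22), (1, 23), (0, 24), (0, 25), (1, 25), (1, 26), (0, 27), (0, 28), (1, 28), (0, 29), (1, 29), (0, 30), (1, 30), (0, 31), (1, 31), (1, 32), (0, 33), (1, 33), (0, 34), (1, 34), (1, 35), (0, 36), (1, 36), (0, 37), (0, 38), (1, 38), (1, 39), (1, 40), (0, 41), (0, 43), (1, 43), (0, 44), (1, 44), (0, 45), (1, 45), (0, 46), (1, 46), (0, 47), (1, 47), (1, 48), (1, 52), (0, 53), (1, 53), (0, 54), (1, 55), (0, 56), (1, 56), (0, 57), (1, 57), (0,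 58), (1, 58), (0, 59), (0, 60), (1, 60), (1, 61), (0, 63), (1, 63), (1, 65), (0, 66), (0, 69), (1, 69), (0, 70), (1, 71), (0, 72), (0, 73), (0, 74), (1, 74), (0, 75), (1, 77), (1, 78), (1, 80), (0, 81), (1, 81), (0, 83), (0, 85), (1, 86), (0, 87), (1, 88), (0, 90), (1, 91), (0, 92), (0, 93), (1, 94), (0, 96), (1, 98), (1, 99), (0, 111), (1, 112), (1, 120), (0, 122), (1, 124), (0, 130)]

/-- the data of the labelled action -/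
def D : StemSA.SAData where
  k := 2
  m := 135
  pi := fun i j => (piN.getD i 0 >>> (10 * j)) % 2 ^ 10
  par := fun j => parL.getD j (0, 0)
  ords := [7, 5]
  rels := relsL
  specs := []
  Bm := fun _ => 0

/-- the certificate -/
def C : List (List ((ℕ × ℕ) × ℕ)) := [[((0, 1), 1)],
  [((0, 3), 1)],
  [((0, 5), 1)],
  [((0, 7), 1)],
  [((0, 8), 1)],
  [((0, 10), 1)],
  [((0, 12), 1)],
  [((0, 14), 1)],
  [((0, 16), 1)],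
  [((0, 18), 1)],
  [((0, 20), 1)],
  [((0, 22), 1)],
  [((0, 24), 1)],
  [((0, 26), 1)],
  [((0, 27), 1)],
  [((0, 29), 1)],
  [((0, 31), 1)],
  [((0, 33), 1)],
  [((0, 34), 1)],
  [((0, 36), 1)],
  [((0, 38), 1)],
  [((0, 40), 1)],
  [((0, 42), 1)],
  [((0, 5), 2), ((0, 11), 2), ((0, 23), 2), ((1, 39), 2), ((1, 89), 2), ((2, 0), 1), ((2, 1), 2), ((2, 5), 1), ((2, 7), 2), ((2, 10), 1), ((2, 14), 2), ((2, 18), 1), ((2, 20), 2), ((2, 22), 2), ((2, 27), 2), ((2, 29), 1), ((2, 36), 2), ((2, 40), 1), ((2, 42), 1), ((2, 49), 2), ((2, 59), 1), ((2, 61), 2), ((2, 78), 1), ((2, 94), 1), ((1, 0), 1), ((1, 2), 1), ((1, 4), 1), ((1, 6), 1), ((1, 9), 1), ((1, 11), 2), ((1, 15), 2), ((1, 17), 2), ((1, 21), 2), ((1, 37), 2), ((1, 44), 2), ((1, 53), 1), ((1, 57), 1), ((1, 58), 2), ((1, 65), 1), ((3, 3), 2), ((3, 11), 2), ((3, 17), 2), ((3, 39),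 1), ((3, 89), 1), ((3, 92), 1), ((3, 35), 2), ((4, 106), 1), ((4, 117), 1), ((3, 4), 2), ((3, 7), 2), ((3, 8), 2), ((3, 9), 1), ((3, 12), 2), ((3, 13), 1), ((3, 15), 1), ((3, 23), 1), ((3, 27), 1), ((3, 29), 1), ((3, 32), 1), ((3, 36), 2), ((3, 38), 1), ((3, 40), 2), ((3, 44), 1), ((3, 47), 1), ((3, 53), 1), ((3, 55), 1), ((3, 57), 2), ((3, 67), 1), ((3, 81), 1), ((3, 82), 1), ((3, 88), 2), ((4, 76), 1), ((5, 76), 2), ((5, 97), 2), ((4, 88), 2), ((4, 95), 2), ((5, 1), 1), ((5, 45), 1), ((5, 89), 1), ((5, 40), 2), ((5, 54), 2), ((5, 8), 2), ((5, 52), 2), ((5, 73), 1), ((5, 101), 1), ((5, 122), 2), ((4, 4), 2), ((4, 21), 2), ((4, 59), 2), ((4, 126), 2), ((5, 37), 2), ((4, 6), 2), ((4, 9), 2), ((4, 36), 1), ((4, 86), 1), ((5, 11), 1), ((5, 92), 2), ((5, 93), 1), ((5, 103), 1), ((5, 29), 1), ((5, 66), 2), ((5, 83), 1), ((5, 126), 2),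 ((5, 7), 1)],
  [((0, 45), 1)],
  [((0, 46), 1)],
  [((0, 12), 1), ((0, 13), 2), ((0, 25), 1), ((0, 26), 2), ((1, 89), 1), ((2, 1), 2), ((2, 5), 1), ((2, 7), 2), ((2, 8), 2), ((2, 12), 2), ((2, 14), 2), ((2, 18), 2), ((2, 26), 1), ((2, 27), 1), ((2, 40), 1), ((2, 42), 2), ((2, 49), 1), ((2, 59), 1), ((2, 61), 2), ((2, 66), 1), ((2, 78), 2), ((2, 94), 2), ((1, 4), 2), ((1, 6), 1), ((1, 13), 1), ((1, 15), 1), ((1, 21), 1), ((1, 44), 2), ((1, 53), 2), ((1, 57), 1), ((1, 58), 1), ((1, 60), 2), ((1, 65), 1), ((3, 3), 2), ((3, 17), 2), ((3, 39), 1), ((3, 92), 1), ((3, 8), 2), ((3, 12), 2), ((3, 13), 1), ((3, 15), 2), ((3, 22), 1), ((3, 27), 1), ((3, 30), 1), ((3, 31), 1), ((3, 32), 2), ((3, 33), 1), ((3, 36), 1), ((3, 38), 2), ((3, 40), 1), ((3, 44), 2), ((3, 53), 2), ((3, 57), 2), ((3, 63), 2), ((3, 74), 2), ((3, 81), 2), ((3, 82), 1),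 ((3, 88), 2), ((5, 97), 1), ((4, 95), 1), ((5, 1), 1), ((5, 45), 1), ((5, 40), 2), ((5, 54), 1), ((5, 8), 1), ((5, 52), 1), ((5, 73), 1), ((5, 115), 2), ((5, 122), 1), ((4, 4), 1), ((4, 12), 1), ((4, 50), 2), ((4, 77), 2), ((4, 126), 1), ((5, 37), 1), ((4, 2), 2), ((4, 6), 2), ((4, 9), 1), ((4, 36), 2), ((4, 86), 2), ((5, 117), 1), ((5, 66), 1), ((5, 83), 1), ((4, 92), 1), ((5, 7), 2)],
  [((0, 49), 1)],
  [((0, 50), 1)],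
  [((0, 52), 1)],
  [((0, 54), 1)],
  [((0, 56), 1)],
  [((0, 1), 2), ((0, 2), 1), ((0, 4), 2), ((0, 5), 1), ((0, 8), 2), ((0, 11), 1), ((0, 16), 2), ((0, 22), 1), ((0, 32), 2), ((0, 43), 1), ((2, 1), 2), ((2, 7), 1), ((2, 8), 1), ((2, 10), 2), ((2, 12), 2), ((2, 14), 1), ((2, 16), 1), ((2, 18), 2), ((2, 20), 2), ((2, 22), 2), ((2, 26), 2), ((2, 27), 2), ((2, 31), 2), ((2, 40), 1), ((2, 42), 1), ((2, 49), 2), ((2, 61), 1), ((2, 66), 2), ((2, 78), 2), ((2, 84), 1), ((2, 94), 2), ((1, 9), 1), ((1, 11), 1), ((1, 13), 2), ((1, 15), 2), ((1, 17), 1), ((1, 21), 1), ((1, 37), 1), ((1, 44), 1), ((1, 60), 2), ((1, 69), 2), ((3, 11), 1), ((3, 39), 2), ((3, 89), 2), ((3, 92), 2), ((4, 83), 1), ((4, 106), 2), ((3, 0), 2), ((3, 1), 1), ((3, 2), 2), ((3, 7), 2), ((3, 8), 1), ((3, 9), 2), ((3, 12), 2), ((3, 13), 2), ((3, 15), 2), ((3, 19), 1),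 ((3, 22), 1), ((3, 23), 1), ((3, 27), 2), ((3, 29), 2), ((3, 31), 1), ((3, 32), 1), ((3, 36), 1), ((3, 38), 1), ((3, 43), 2), ((3, 44), 2), ((3, 55), 2), ((3, 57), 2), ((3, 61), 1), ((3, 63), 1), ((3, 67), 1), ((3, 74), 1), ((3, 81), 2), ((3, 82), 2), ((3, 88), 1), ((4, 76), 1), ((5, 76), 2), ((4, 88), 1), ((5, 39), 2), ((5, 45), 1), ((5, 89), 1), ((5, 40), 1), ((5, 54), 2), ((5, 52), 1), ((5, 73), 1), ((5, 100), 2), ((5, 115), 2), ((5, 122), 1), ((4, 4), 2), ((4, 12), 2), ((4, 59), 1), ((4, 2), 2), ((4, 9), 1), ((4, 86), 2), ((5, 11), 1), ((5, 51), 2), ((5, 93), 2), ((5, 103), 1), ((5, 117), 1), ((5, 29), 2), ((5, 83), 1), ((5, 126), 1)],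
  [((0, 59), 1)],
  [((0, 61), 1)],
  [((0, 1), 2), ((0, 2), 1), ((0, 4), 2), ((0, 6), 1), ((0, 9), 2), ((0, 18), 2), ((0, 35), 2), ((1, 89), 2), ((2, 0), 1), ((2, 5), 1), ((2, 8), 2), ((2, 12), 2), ((2, 22), 2), ((2, 26), 1), ((2, 36), 2), ((2, 40), 1), ((2, 42), 2), ((2, 59), 1), ((2, 66), 1), ((2, 78), 2), ((2, 84), 1), ((2, 94), 1), ((1, 0), 2), ((1, 2), 1), ((1, 4), 1), ((1, 6), 1), ((1, 9), 2), ((1, 11), 2), ((1, 15), 2), ((1, 30), 2), ((1, 37), 2), ((1, 44), 2), ((1, 57), 2), ((1, 58), 1), ((1, 60), 1), ((1, 69), 1), ((3, 3), 2), ((3, 11), 1), ((3, 17), 2), ((3, 89), 2), ((3, 92), 2), ((4, 83), 2), ((4, 106), 2), ((4, 117), 1), ((4, 121), 1), ((3, 0), 1), ((3, 1), 2), ((3, 2), 1), ((3, 6), 2), ((3, 7), 2), ((3, 9), 2), ((3, 12), 2), ((3, 13), 1), ((3, 19), 2), ((3, 22), 1), ((3, 29), 2), ((3, 30), 2), ((3, 32), 1), ((3, 33),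 1), ((3, 36), 2), ((3, 43), 2), ((3, 53), 1), ((3, 57), 2), ((3, 61), 1), ((3, 63), 1), ((3, 81), 1), ((3, 82), 2), ((3, 88), 2), ((4, 76), 1), ((5, 76), 2), ((5, 97), 2), ((4, 88), 2), ((4, 95), 1), ((5, 1), 1), ((5, 39), 1), ((5, 89), 1), ((5, 54), 2), ((5, 8), 2), ((5, 52), 2), ((5, 100), 1), ((5, 115), 2), ((4, 4), 1), ((4, 21), 1), ((4, 50), 2), ((4, 59), 2), ((4, 126), 1), ((5, 37), 1), ((4, 2), 1), ((4, 6), 1), ((4, 9), 1), ((4, 86), 2), ((5, 51), 2), ((5, 93), 2), ((5, 117), 2), ((5, 83), 2), ((4, 92), 2), ((5, 7), 2)],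
  [((0, 64), 1)],
  [((0, 66), 1)],
  [((0, 67), 1)],
  [((1, 39), 1)],
  [((0, 20), 1), ((0, 21), 2), ((0, 38), 1), ((0, 40), 2), ((0, 68), 1), ((1, 39), 1), ((2, 0), 2), ((2, 5), 1), ((2, 7), 2), ((2, 10), 1), ((2, 14), 1), ((2, 20), 2), ((2, 26), 2), ((2, 27), 2), ((2, 31), 1), ((2, 36), 1), ((2, 40), 1), ((2, 42), 1), ((2, 49), 2), ((2, 59), 2), ((2, 61), 1), ((2, 66), 1), ((2, 84), 2), ((2, 88), 1), ((2, 94), 1), ((1, 0), 2), ((1, 4), 1), ((1, 6), 2), ((1, 9), 1), ((1, 11), 1), ((1, 13), 1), ((1, 17), 1), ((1, 21), 1), ((1, 30), 2), ((1, 37), 2), ((1, 65), 2), ((1, 69), 1), ((3, 11), 1), ((3, 39), 1), ((3, 89), 2), ((3, 92), 2), ((3, 35), 2), ((4, 83), 1), ((4, 117), 2), ((4, 121), 2), ((3, 6), 1), ((3, 7), 2), ((3, 8), 2), ((3, 9), 2), ((3, 15), 1), ((3, 22), 1), ((3, 23), 1), ((3, 27), 1), ((3, 32), 2), ((3, 36), 2), ((3,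 40), 2), ((3, 43), 1), ((3, 44), 2), ((3, 47), 1), ((3, 53), 1), ((3, 55), 1), ((3, 57), 1), ((3, 63), 2), ((3, 67), 1), ((3, 81), 2), ((3, 82), 1), ((3, 88), 1), ((4, 76), 2), ((5, 97), 2), ((5, 1), 1), ((5, 39), 1), ((5, 45), 2), ((5, 89), 2), ((5, 40), 1), ((5, 54), 2), ((5, 8), 1), ((5, 73), 2), ((5, 101), 2), ((5, 122), 1), ((4, 21), 1), ((4, 50), 1), ((4, 126), 2), ((5, 37), 1), ((4, 2), 2), ((4, 9), 1), ((4, 36), 1), ((5, 11), 2), ((5, 51), 2), ((5, 93), 1), ((5, 103), 2), ((5, 117), 2), ((5, 66), 1), ((5, 83), 2), ((5, 126), 2), ((5, 7), 1)],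
  [((0, 71), 1)],
  [((0, 1), 1), ((0, 2), 2), ((0, 4), 1), ((0, 5), 2), ((0, 9), 1), ((0, 11), 2), ((0, 19), 1), ((0, 22), 2), ((0, 42), 2), ((1, 89), 2), ((2, 1), 2), ((2, 5), 2), ((2, 8), 1), ((2, 12), 1), ((2, 18), 2), ((2, 26), 2), ((2, 27), 1), ((2, 29), 2), ((2, 31), 2), ((2, 40), 1), ((2, 42), 1), ((2, 49), 1), ((2, 59), 2), ((2, 61), 1), ((2, 84), 1), ((1, 0), 1), ((1, 2), 1), ((1, 6), 2), ((1, 9), 2), ((1, 11), 1), ((1, 15), 1), ((1, 17), 1), ((1, 21), 1), ((1, 30), 1), ((1, 37), 2), ((1, 58), 1), ((1, 65), 2), ((3, 3), 2), ((3, 92), 2), ((3, 35), 2), ((4, 83), 1), ((4, 117), 2), ((4, 121), 1), ((3, 0), 1), ((3, 1), 2), ((3, 2), 1), ((3, 4), 1), ((3, 8), 1), ((3, 9), 2), ((3, 12), 2), ((3, 13), 1), ((3, 15), 1), ((3, 19), 1), ((3, 22), 2), ((3, 29), 1), ((3, 30), 1), ((3, 31), 2), ((3, 33), 1), ((3, 38), 2), ((3, 40),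 2), ((3, 43), 2), ((3, 53), 1), ((3, 55), 2), ((3, 61), 2), ((3, 63), 2), ((3, 82), 2), ((3, 88), 1), ((4, 76), 1), ((5, 97), 2), ((4, 88), 2), ((4, 95), 1), ((5, 1), 2), ((5, 39), 2), ((5, 45), 1), ((5, 89), 2), ((5, 40), 2), ((5, 8), 2), ((5, 52), 1), ((5, 73), 1), ((5, 100), 2), ((5, 101), 2), ((5, 115), 2), ((5, 122), 2), ((4, 4), 2), ((4, 12), 2), ((4, 59), 2), ((4, 77), 2), ((4, 2), 1), ((4, 9), 2), ((4, 36), 1), ((4, 86), 2), ((5, 11), 2), ((5, 51), 1), ((5, 92), 2), ((5, 93), 1), ((5, 29), 1), ((5, 66), 2), ((5, 126), 1), ((4, 92), 2)],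
  [((0, 72), 1)],
  [((0, 74), 1)],
  [((0, 76), 1)],
  [((0, 78), 1)],
  [((0, 80), 1)],
  [((0, 1), 1), ((0, 2), 2), ((0, 4), 1), ((0, 6), 2), ((0, 13), 2), ((0, 26), 2), ((0, 48), 2), ((1, 89), 1), ((2, 5), 2), ((2, 7), 2), ((2, 10), 1), ((2, 12), 2), ((2, 14), 2), ((2, 16), 2), ((2, 18), 1), ((2, 20), 1), ((2, 22), 2), ((2, 27), 1), ((2, 31), 1), ((2, 36), 1), ((2, 40), 1), ((2, 49), 1), ((2, 59), 2), ((2, 61), 2), ((2, 78), 2), ((2, 84), 1), ((1, 0), 2), ((1, 2), 2), ((1, 4), 1), ((1, 6), 2), ((1, 13), 1), ((1, 15), 2), ((1, 17), 2), ((1, 21), 2), ((1, 30), 1), ((1, 57), 1), ((1, 58), 2), ((3, 11), 1), ((3, 17), 1), ((3, 39), 1), ((3, 89), 2), ((3, 92), 2), ((4, 106), 2), ((4, 117), 2), ((4, 121), 2), ((3, 1), 2), ((3, 6), 1), ((3, 7), 2), ((3, 8), 1), ((3, 9), 2), ((3, 12), 2), ((3, 15), 1), ((3, 22), 1), ((3, 23), 2), ((3,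 27), 1), ((3, 29), 2), ((3, 30), 1), ((3, 31), 2), ((3, 32), 1), ((3, 33), 2), ((3, 38), 2), ((3, 43), 2), ((3, 44), 1), ((3, 53), 2), ((3, 55), 1), ((3, 57), 2), ((3, 61), 1), ((3, 63), 1), ((3, 67), 2), ((3, 74), 2), ((3, 82), 2), ((4, 76), 1), ((5, 76), 2), ((5, 97), 1), ((4, 95), 2), ((5, 1), 2), ((5, 45), 2), ((5, 89), 1), ((5, 40), 2), ((5, 54), 2), ((5, 8), 1), ((5, 73), 2), ((5, 115), 2), ((5, 122), 2), ((4, 12), 1), ((4, 21), 2), ((4, 50), 1), ((4, 126), 2), ((5, 37), 2), ((4, 2), 1), ((4, 6), 2), ((4, 86), 2), ((5, 11), 2), ((5, 51), 2), ((5, 93), 2), ((5, 103), 2), ((5, 29), 1), ((5, 126), 2), ((4, 92), 1), ((5, 7), 1)],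
  [((0, 1), 2), ((0, 3), 2), ((0, 7), 2), ((0, 14), 2), ((0, 27), 2), ((0, 49), 2), ((1, 0), 1)],
  [((0, 1), 2), ((0, 2), 1), ((0, 3), 2), ((0, 5), 1), ((0, 7), 2), ((0, 10), 1), ((0, 14), 2), ((0, 21), 1), ((0, 28), 2), ((0, 50), 2), ((1, 89), 1), ((2, 0), 1), ((2, 5), 1), ((2, 7), 2), ((2, 8), 1), ((2, 12), 1), ((2, 14), 2), ((2, 16), 1), ((2, 18), 2), ((2, 20), 1), ((2, 22), 2), ((2, 26), 2), ((2, 27), 2), ((2, 29), 1), ((2, 31), 2), ((2, 36), 2), ((2, 40), 2), ((2, 42), 2), ((2, 49), 1), ((2, 59), 1), ((2, 61), 1), ((2, 88), 2), ((2, 94), 2), ((1, 0), 2), ((1, 2), 2), ((1, 9), 2), ((1, 11), 2), ((1, 17), 2), ((1, 30), 2), ((1, 44), 1), ((1, 53), 1), ((1, 57), 1), ((1, 58), 1), ((1, 60), 1), ((1, 65), 2), ((1, 69), 2), ((3, 3), 2), ((3, 11), 1), ((3, 39), 1), ((3, 89), 1), ((3, 92), 2), ((4, 83), 1), ((4, 106), 2), ((4, 117),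 1), ((4, 121), 2), ((3, 1), 1), ((3, 2), 1), ((3, 4), 2), ((3, 6), 1), ((3, 7), 1), ((3, 8), 1), ((3, 9), 1), ((3, 13), 1), ((3, 15), 1), ((3, 22), 1), ((3, 23), 1), ((3, 27), 1), ((3, 29), 2), ((3, 30), 1), ((3, 32), 2), ((3, 33), 1), ((3, 36), 1), ((3, 38), 1), ((3, 40), 1), ((3, 47), 2), ((3, 53), 2), ((3, 55), 1), ((3, 67), 2), ((3, 81), 2), ((3, 82), 2), ((3, 88), 2), ((4, 76), 1), ((4, 88), 2), ((4, 95), 1), ((5, 39), 2), ((5, 89), 1), ((5, 40), 2), ((5, 54), 1), ((5, 8), 1), ((5, 52), 1), ((5, 101), 2), ((5, 109), 1), ((5, 115), 2), ((4, 4), 2), ((4, 59), 2), ((4, 126), 2), ((5, 37), 1), ((4, 2), 2), ((4, 36), 1), ((4, 86), 2), ((5, 11), 2), ((5, 92), 1), ((5, 93), 1), ((5, 117), 2), ((5, 29), 2), ((5, 66), 1), ((5, 83), 2), ((5, 126), 2)],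
  [((0, 3), 2), ((0, 4), 1), ((0, 7), 2), ((0, 9), 1), ((0, 14), 2), ((0, 18), 1), ((0, 28), 2), ((0, 35), 1), ((0, 51), 2), ((1, 89), 2), ((2, 1), 1), ((2, 5), 1), ((2, 7), 2), ((2, 8), 1), ((2, 10), 1), ((2, 12), 2), ((2, 14), 1), ((2, 18), 2), ((2, 20), 1), ((2, 22), 1), ((2, 27), 1), ((2, 29), 1), ((2, 36), 2), ((2, 40), 1), ((2, 42), 1), ((2, 49), 1), ((2, 59), 1), ((2, 61), 1), ((2, 66), 1), ((2, 84), 2), ((1, 0), 2), ((1, 2), 1), ((1, 6), 2), ((1, 9), 2), ((1, 11), 1), ((1, 13), 1), ((1, 15), 2), ((1, 21), 1), ((1, 37), 2), ((1, 44), 2), ((1, 57), 1), ((1, 58), 1), ((1, 69), 1), ((3, 11), 1), ((3, 92), 2), ((4, 106), 2), ((4, 117), 2), ((3, 0), 2), ((3, 1), 1), ((3, 2), 2), ((3, 4), 2), ((3, 6), 1), ((3, 8), 1), ((3, 9), 2), ((3, 13), 2), ((3, 15), 1), ((3, 19), 2), ((3, 22), 2), ((3, 23), 2), ((3, 27), 1), ((3, 29), 1),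 ((3, 30), 1), ((3, 31), 2), ((3, 32), 1), ((3, 38), 2), ((3, 40), 2), ((3, 43), 1), ((3, 44), 2), ((3, 47), 1), ((3, 53), 1), ((3, 55), 1), ((3, 57), 1), ((3, 61), 1), ((3, 63), 2), ((3, 67), 2), ((3, 82), 2), ((3, 88), 1), ((4, 76), 2), ((5, 76), 2), ((5, 97), 2), ((4, 88), 2), ((5, 1), 2), ((5, 39), 1), ((5, 45), 1), ((5, 89), 1), ((5, 40), 1), ((5, 54), 2), ((5, 8), 2), ((5, 52), 1), ((5, 73), 2), ((5, 100), 1), ((5, 101), 1), ((5, 109), 1), ((5, 115), 2), ((5, 122), 2), ((4, 4), 2), ((4, 12), 1), ((4, 59), 2), ((5, 37), 2), ((4, 2), 2), ((4, 9), 2), ((4, 86), 1), ((5, 11), 2), ((5, 92), 1), ((5, 93), 1), ((5, 103), 2), ((5, 29), 1), ((5, 66), 2), ((5, 83), 1), ((5, 126), 1), ((5, 7), 2)],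
  [((0, 3), 2), ((0, 4), 1), ((0, 7), 2), ((0, 9), 1), ((0, 15), 2), ((0, 18), 1), ((0, 29), 2), ((0, 34), 1), ((0, 52), 2), ((0, 62), 1), ((1, 39), 2), ((2, 1), 2), ((2, 5), 2), ((2, 7), 2), ((2, 8), 1), ((2, 10), 2), ((2, 14), 1), ((2, 16), 2), ((2, 18), 1), ((2, 20), 2), ((2, 26), 2), ((2, 29), 2), ((2, 36), 1), ((2, 40), 2), ((2, 61), 2), ((2, 84), 1), ((2, 94), 1), ((1, 2), 1), ((1, 9), 2), ((1, 11), 2), ((1, 13), 2), ((1, 17), 1), ((1, 30), 2), ((1, 37), 2), ((1, 53), 1), ((1, 57), 2), ((1, 58), 1), ((1, 60), 2), ((1, 65), 1), ((3, 17), 1), ((3, 39), 1), ((3, 35), 2), ((4, 106), 2), ((4, 117), 1), ((3, 1), 2), ((3, 6), 1), ((3, 7), 1), ((3, 8), 1), ((3, 9), 2), ((3, 12), 1), ((3, 13), 2), ((3, 15), 2), ((3, 19), 2), ((3, 22), 1), ((3, 23), 1), ((3, 27), 1), ((3, 29), 2), ((3, 30), 2), ((3, 31), 2), ((3, 33), 1), ((3, 36),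 2), ((3, 40), 1), ((3, 43), 2), ((3, 47), 1), ((3, 61), 2), ((3, 67), 1), ((3, 74), 2), ((5, 76), 2), ((5, 97), 2), ((4, 88), 1), ((4, 95), 2), ((5, 39), 2), ((5, 45), 2), ((5, 89), 2), ((5, 40), 2), ((5, 54), 2), ((5, 52), 1), ((5, 100), 1), ((5, 109), 2), ((5, 115), 2), ((5, 122), 1), ((4, 12), 2), ((4, 21), 1), ((4, 59), 1), ((4, 77), 2), ((4, 126), 1), ((5, 37), 1), ((4, 2), 1), ((4, 6), 1), ((4, 9), 2), ((4, 36), 2), ((4, 86), 1), ((5, 51), 2), ((5, 93), 1), ((5, 103), 1), ((5, 29), 2), ((5, 66), 1), ((5, 83), 2), ((4, 92), 1), ((5, 7), 2)],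
  [((0, 84), 1)],
  [((0, 86), 1)],
  [((0, 1), 2), ((0, 2), 1), ((0, 3), 2), ((0, 6), 1), ((0, 7), 2), ((0, 13), 1), ((0, 15), 2), ((0, 26), 1), ((0, 30), 2), ((0, 48), 1), ((0, 55), 2), ((0, 82), 1), ((1, 39), 2), ((2, 0), 1), ((2, 1), 2), ((2, 10), 1), ((2, 14), 1), ((2, 16), 2), ((2, 18), 1), ((2, 20), 1), ((2, 22), 1), ((2, 27), 1), ((2, 29), 2), ((2, 31), 1), ((2, 36), 1), ((2, 42), 2), ((2, 49), 1), ((2, 59), 2), ((2, 61), 2), ((2, 78), 2), ((2, 84), 1), ((2, 88), 2), ((2, 94), 2), ((1, 0), 1), ((1, 6), 2), ((1, 9), 2), ((1, 13), 2), ((1, 17), 1), ((1, 30), 1), ((1, 37), 2), ((1, 44), 2), ((1, 53), 1), ((1, 58), 2), ((1, 60), 2), ((1, 65), 2), ((1, 69), 2), ((3, 3), 2), ((3, 11), 1), ((3, 17), 1), ((3, 39), 2), ((3, 92), 1), ((3, 35), 1), ((4, 117), 2), ((4, 121), 1), ((3, 0), 1), ((3, 2), 1), ((3, 4), 1), ((3, 6), 2), ((3,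 7), 1), ((3, 12), 2), ((3, 15), 1), ((3, 22), 1), ((3, 23), 2), ((3, 30), 1), ((3, 31), 2), ((3, 32), 2), ((3, 36), 1), ((3, 38), 2), ((3, 40), 2), ((3, 43), 2), ((3, 57), 2), ((3, 61), 1), ((3, 67), 2), ((3, 74), 2), ((3, 82), 2), ((3, 88), 1), ((4, 76), 1), ((5, 97), 2), ((5, 39), 2), ((5, 89), 1), ((5, 40), 1), ((5, 54), 1), ((5, 52), 2), ((4, 12), 2), ((4, 21), 1), ((4, 126), 1), ((4, 2), 2), ((4, 6), 2), ((5, 51), 1), ((5, 92), 1), ((5, 93), 2), ((5, 103), 1), ((5, 117), 1), ((5, 29), 1), ((5, 83), 2)],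
  [((0, 88), 1)],
  [((0, 90), 1)],
  [((0, 92), 1)],
  [((0, 94), 1)],
  [((0, 95), 1)],
  [((0, 3), 1), ((0, 4), 2), ((0, 7), 1), ((0, 9), 2), ((0, 15), 1), ((0, 18), 2), ((0, 30), 1), ((0, 34), 2), ((0, 55), 1), ((0, 61), 2), ((2, 1), 2), ((2, 5), 1), ((2, 7), 2), ((2, 10), 2), ((2, 12), 1), ((2, 14), 1), ((2, 16), 1), ((2, 27), 1), ((2, 29), 1), ((2, 36), 1), ((2, 40), 1), ((2, 42), 2), ((2, 49), 1), ((2, 59), 2), ((2, 88), 1), ((2, 94), 2), ((1, 0), 1), ((1, 6), 2), ((1, 9), 1), ((1, 13), 2), ((1, 15), 1), ((1, 30), 2), ((1, 37), 1), ((1, 44), 1), ((1, 53), 2), ((1, 57), 1), ((1, 58), 1), ((1, 60), 1), ((1, 69), 1), ((3, 3), 1), ((3, 11), 1), ((3, 17), 2), ((3, 39), 1), ((3, 35), 2), ((4, 83), 1), ((4, 117), 1), ((4, 121), 2), ((3, 1), 1), ((3, 4), 2), ((3, 9), 2), ((3, 12), 1), ((3, 13), 2), ((3, 15), 1), ((3, 27), 1), ((3,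 31), 2), ((3, 32), 2), ((3, 33), 1), ((3, 36), 1), ((3, 38), 2), ((3, 57), 2), ((3, 74), 2), ((3, 82), 1), ((4, 76), 2), ((5, 1), 1), ((5, 39), 2), ((5, 45), 1), ((5, 89), 1), ((5, 40), 2), ((5, 8), 1), ((5, 73), 1), ((5, 100), 1), ((5, 109), 2), ((5, 122), 1), ((4, 4), 2), ((4, 12), 1), ((4, 21), 2), ((4, 50), 2), ((4, 77), 2), ((4, 126), 1), ((5, 37), 1), ((4, 2), 1), ((4, 6), 1), ((4, 9), 1), ((4, 36), 1), ((4, 86), 1), ((5, 51), 2), ((5, 92), 1), ((5, 93), 2), ((5, 103), 1), ((5, 117), 2), ((5, 29), 1), ((5, 66), 1), ((5, 83), 2), ((5, 126), 1)],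
  [((0, 3), 1), ((0, 4), 2), ((0, 7), 1), ((0, 9), 2), ((0, 15), 1), ((0, 18), 2), ((0, 30), 1), ((0, 34), 2), ((0, 55), 1), ((0, 62), 2), ((0, 87), 1), ((1, 39), 1), ((2, 5), 2), ((2, 7), 2), ((2, 8), 2), ((2, 12), 1), ((2, 14), 2), ((2, 16), 2), ((2, 18), 2), ((2, 26), 1), ((2, 29), 1), ((2, 31), 2), ((2, 36), 2), ((2, 66), 1), ((2, 78), 2), ((2, 84), 1), ((2, 88), 1), ((2, 94), 1), ((1, 0), 1), ((1, 2), 2), ((1, 6), 2), ((1, 11), 2), ((1, 15), 1), ((1, 17), 2), ((1, 21), 1), ((1, 30), 2), ((1, 44), 1), ((1, 53), 2), ((1, 57), 2), ((1, 58), 1), ((1, 60), 1), ((1, 65), 1), ((3, 3), 1), ((3, 17), 1), ((3, 39), 1), ((3, 89), 1), ((3, 35), 2), ((4, 83), 2), ((4, 106), 1), ((4, 121), 2), ((3, 0), 2), ((3, 1), 2), ((3, 2), 2), ((3, 6), 1), ((3, 12), 2), ((3, 13), 2), ((3, 19), 1), ((3, 27), 1), ((3, 29), 1), ((3, 30), 2), ((3, 31),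 2), ((3, 36), 2), ((3, 43), 2), ((3, 44), 2), ((3, 47), 2), ((3, 61), 1), ((3, 63), 2), ((3, 74), 1), ((3, 81), 2), ((3, 82), 1), ((4, 76), 1), ((5, 76), 1), ((4, 88), 2), ((5, 1), 2), ((5, 39), 1), ((5, 89), 1), ((5, 40), 2), ((5, 54), 2), ((5, 8), 1), ((5, 52), 1), ((5, 101), 2), ((5, 109), 2), ((5, 122), 2), ((4, 4), 1), ((4, 12), 2), ((4, 59), 2), ((4, 126), 1), ((5, 37), 1), ((4, 2), 2), ((4, 9), 2), ((4, 36), 1), ((5, 11), 2), ((5, 51), 1), ((5, 92), 2), ((5, 103), 1), ((5, 117), 2), ((5, 29), 2), ((5, 66), 1), ((5, 83), 1), ((4, 92), 2)],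
  [((0, 98), 1)],
  [((0, 1), 2), ((0, 2), 1), ((0, 4), 2), ((0, 6), 1), ((0, 9), 2), ((0, 12), 1), ((0, 19), 2), ((0, 25), 1), ((0, 36), 2), ((0, 46), 1), ((0, 64), 2), ((0, 79), 1), ((1, 39), 2), ((2, 0), 1), ((2, 1), 2), ((2, 5), 2), ((2, 12), 1), ((2, 16), 1), ((2, 18), 1), ((2, 20), 1), ((2, 22), 1), ((2, 29), 2), ((2, 36), 2), ((2, 40), 1), ((2, 42), 1), ((2, 59), 2), ((2, 61), 2), ((2, 66), 2), ((1, 0), 2), ((1, 4), 1), ((1, 6), 2), ((1, 11), 1), ((1, 13), 2), ((1, 17), 2), ((1, 21), 2), ((1, 30), 2), ((1, 37), 1), ((1, 53), 1), ((1, 57), 1), ((1, 58), 1), ((1, 60), 2), ((1, 65), 2), ((1, 69), 2), ((3, 3), 1), ((3, 11), 1), ((3, 17), 2), ((3, 92), 1), ((4, 117), 2), ((4, 121), 2), ((3, 0), 1), ((3, 2), 1), ((3, 4), 1), ((3, 7), 1), ((3, 8), 2), ((3, 9), 1), ((3, 12), 2), ((3, 13), 2), ((3, 15), 2), ((3, 22), 2), ((3, 23),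 2), ((3, 29), 2), ((3, 30), 2), ((3, 31), 2), ((3, 32), 2), ((3, 33), 2), ((3, 47), 1), ((3, 55), 1), ((3, 57), 1), ((3, 61), 2), ((3, 63), 2), ((3, 67), 2), ((3, 74), 1), ((3, 82), 1), ((3, 88), 2), ((4, 76), 1), ((5, 76), 1), ((4, 88), 1), ((4, 95), 1), ((5, 1), 2), ((5, 45), 1), ((5, 40), 1), ((5, 54), 1), ((5, 52), 2), ((5, 73), 1), ((5, 101), 2), ((5, 122), 1), ((4, 4), 2), ((4, 21), 2), ((4, 59), 1), ((4, 77), 1), ((4, 126), 2), ((5, 37), 2), ((4, 9), 1), ((4, 86), 1), ((5, 51), 1), ((5, 93), 2), ((5, 103), 2), ((5, 117), 1), ((5, 29), 2), ((5, 83), 2), ((5, 126), 2), ((4, 92), 1), ((5, 7), 1)],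
  [((0, 1), 2), ((0, 2), 1), ((0, 4), 2), ((0, 6), 1), ((0, 9), 2), ((0, 12), 1), ((0, 19), 2), ((0, 25), 1), ((0, 36), 2), ((0, 47), 1), ((0, 65), 2), ((0, 81), 1), ((1, 39), 2), ((2, 0), 1), ((2, 1), 1), ((2, 5), 2), ((2, 7), 2), ((2, 8), 1), ((2, 10), 1), ((2, 12), 2), ((2, 14), 2), ((2, 16), 1), ((2, 18), 1), ((2, 20), 2), ((2, 22), 2), ((2, 26), 2), ((2, 40), 1), ((2, 42), 1), ((2, 59), 1), ((2, 61), 2), ((2, 66), 1), ((2, 84), 2), ((2, 88), 1), ((2, 94), 2), ((1, 0), 1), ((1, 2), 1), ((1, 4), 2), ((1, 6), 1), ((1, 9), 1), ((1, 11), 1), ((1, 13), 2), ((1, 15), 1), ((1, 17), 2), ((1, 21), 2), ((1, 30), 2), ((1, 37), 2), ((1, 44), 1), ((1, 57), 2), ((1, 58), 2), ((1, 65), 1), ((3, 3), 2), ((3, 17), 1), ((3, 92), 2), ((3, 35), 2), ((4, 83), 1), ((4, 106), 1), ((4, 117), 2), ((3, 1), 2), ((3, 6), 1), ((3, 7), 2), ((3, 9), 2), ((3,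 12), 1), ((3, 13), 1), ((3, 15), 2), ((3, 23), 1), ((3, 27), 1), ((3, 31), 2), ((3, 33), 1), ((3, 36), 1), ((3, 40), 2), ((3, 43), 1), ((3, 47), 1), ((3, 53), 2), ((3, 55), 1), ((3, 57), 2), ((3, 67), 1), ((3, 74), 1), ((3, 81), 1), ((3, 82), 1), ((3, 88), 2), ((4, 76), 2), ((5, 97), 1), ((4, 95), 1), ((5, 1), 2), ((5, 39), 1), ((5, 89), 2), ((5, 52), 2), ((5, 100), 2), ((5, 101), 2), ((5, 109), 2), ((4, 4), 2), ((4, 12), 2), ((4, 50), 2), ((4, 77), 2), ((4, 126), 1), ((4, 2), 2), ((4, 36), 2), ((4, 86), 2), ((5, 11), 2), ((5, 51), 2), ((5, 93), 2), ((5, 103), 2), ((5, 117), 1), ((5, 29), 1), ((5, 66), 1), ((5, 83), 2), ((5, 126), 2), ((4, 92), 2), ((5, 7), 1)],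
  [((0, 101), 1)],
  [((0, 10), 2), ((0, 11), 1), ((0, 20), 2), ((0, 23), 1), ((0, 38), 2), ((0, 67), 2), ((1, 39), 1), ((1, 89), 1), ((2, 0), 2), ((2, 1), 1), ((2, 5), 2), ((2, 7), 1), ((2, 10), 2), ((2, 14), 1), ((2, 18), 2), ((2, 20), 1), ((2, 22), 1), ((2, 27), 1), ((2, 29), 2), ((2, 36), 1), ((2, 40), 2), ((2, 42), 2), ((2, 49), 1), ((2, 59), 2), ((2, 61), 1), ((2, 78), 2), ((2, 94), 2), ((1, 0), 2), ((1, 4), 2), ((1, 6), 2), ((1, 9), 2), ((1, 11), 1), ((1, 15), 1), ((1, 17), 1), ((1, 21), 1), ((1, 37), 1), ((1, 44), 1), ((1, 53), 2), ((1, 57), 2), ((1, 58), 1), ((1, 65), 2), ((3, 3), 1), ((3, 11), 1), ((3, 17), 1), ((3, 39), 2), ((3, 89), 2), ((3, 92), 2), ((3, 35), 1), ((4, 106), 2), ((4, 117), 2), ((3, 4), 1), ((3, 7), 1), ((3, 8), 1), ((3, 9), 2), ((3, 12), 1), ((3, 13), 2), ((3, 15), 2), ((3, 23), 2), ((3, 27), 2), ((3,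 29), 2), ((3, 32), 2), ((3, 36), 1), ((3, 38), 2), ((3, 40), 1), ((3, 44), 2), ((3, 47), 2), ((3, 53), 2), ((3, 55), 2), ((3, 57), 1), ((3, 67), 2), ((3, 81), 2), ((3, 82), 2), ((3, 88), 1), ((4, 76), 2), ((5, 76), 1), ((5, 97), 1), ((4, 88), 1), ((4, 95), 1), ((5, 1), 2), ((5, 45), 2), ((5, 89), 2), ((5, 40), 1), ((5, 54), 1), ((5, 8), 1), ((5, 52), 1), ((5, 73), 2), ((5, 101), 2), ((5, 122), 1), ((4, 4), 1), ((4, 21), 1), ((4, 59), 1), ((4, 126), 1), ((5, 37), 1), ((4, 6), 1), ((4, 9), 1), ((4, 36), 2), ((4, 86), 2), ((5, 11), 2), ((5, 92), 1), ((5, 93), 2), ((5, 103), 2), ((5, 29), 2), ((5, 66), 1), ((5, 83), 2), ((5, 126), 1), ((5, 7), 2)],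
  [((0, 5), 2), ((0, 6), 1), ((0, 10), 2), ((0, 12), 1), ((0, 20), 2), ((0, 25), 1), ((0, 38), 2), ((0, 47), 1), ((0, 68), 2), ((1, 39), 2), ((1, 89), 1), ((2, 0), 1), ((2, 5), 1), ((2, 8), 1), ((2, 12), 2), ((2, 16), 2), ((2, 18), 2), ((2, 20), 1), ((2, 22), 1), ((2, 26), 1), ((2, 27), 1), ((2, 36), 1), ((2, 42), 2), ((2, 49), 2), ((2, 61), 1), ((2, 66), 2), ((2, 78), 1), ((2, 84), 1), ((1, 0), 1), ((1, 4), 2), ((1, 6), 1), ((1, 9), 1), ((1, 13), 1), ((1, 15), 2), ((1, 21), 2), ((1, 30), 1), ((1, 37), 2), ((1, 44), 2), ((1, 53), 1), ((1, 58), 2), ((1, 60), 2), ((1, 69), 2), ((3, 17), 1), ((3, 39), 2), ((3, 89), 2), ((3, 92), 1), ((3, 35), 1), ((4, 106), 2), ((3, 1), 2), ((3, 2), 2), ((3, 7), 2), ((3, 9), 1), ((3, 12), 1), ((3, 15), 1), ((3, 19), 1), ((3, 22), 2), ((3, 29), 1), ((3, 33), 1), ((3, 43), 2), ((3, 44), 2), ((3, 47),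 1), ((3, 53), 1), ((3, 55), 2), ((3, 57), 1), ((3, 61), 2), ((3, 67), 2), ((3, 74), 2), ((3, 81), 2), ((3, 82), 2), ((3, 88), 2), ((5, 76), 1), ((4, 88), 2), ((4, 95), 1), ((5, 39), 2), ((5, 89), 2), ((5, 54), 2), ((5, 73), 1), ((5, 100), 2), ((5, 115), 1), ((5, 122), 2), ((4, 4), 2), ((4, 12), 2), ((4, 59), 2), ((4, 77), 2), ((4, 126), 1), ((5, 37), 2), ((4, 2), 1), ((5, 11), 1), ((5, 93), 1), ((5, 117), 2), ((5, 29), 2), ((5, 66), 1), ((5, 7), 2)],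
  [((0, 102), 1)],
  [((0, 104), 1)],
  [((0, 5), 2), ((0, 6), 1), ((0, 10), 2), ((0, 13), 1), ((0, 21), 2), ((0, 41), 2), ((0, 71), 2), ((1, 39), 1), ((1, 89), 1), ((2, 0), 2), ((2, 5), 2), ((2, 10), 1), ((2, 12), 2), ((2, 14), 2), ((2, 16), 2), ((2, 18), 2), ((2, 27), 2), ((2, 29), 2), ((2, 31), 2), ((2, 36), 2), ((2, 59), 1), ((2, 66), 1), ((2, 78), 2), ((2, 84), 1), ((2, 88), 2), ((2, 94), 2), ((1, 0), 1), ((1, 2), 1), ((1, 6), 2), ((1, 9), 1), ((1, 13), 2), ((1, 15), 2), ((1, 37), 1), ((1, 53), 1), ((1, 57), 2), ((1, 58), 2), ((1, 60), 2), ((1, 65), 2), ((1, 69), 1), ((3, 3), 2), ((3, 89), 1), ((3, 92), 2), ((4, 83), 1), ((4, 106), 2), ((3, 0), 1), ((3, 1), 2), ((3, 4), 1), ((3, 6), 2), ((3, 7), 2), ((3, 9), 2), ((3, 12), 1), ((3, 19), 1), ((3, 22), 2), ((3, 23), 1), ((3, 33), 1), ((3, 36), 1), ((3, 38), 1), ((3, 40), 2), ((3,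 43), 2), ((3, 44), 2), ((3, 47), 1), ((3, 53), 2), ((3, 57), 2), ((3, 61), 2), ((3, 74), 2), ((3, 81), 1), ((5, 76), 2), ((4, 88), 1), ((4, 95), 1), ((5, 1), 2), ((5, 45), 2), ((5, 40), 2), ((5, 54), 2), ((5, 52), 1), ((5, 109), 1), ((5, 115), 1), ((5, 122), 1), ((4, 12), 1), ((4, 50), 1), ((4, 59), 1), ((5, 37), 2), ((4, 2), 1), ((4, 6), 1), ((4, 36), 1), ((4, 86), 2), ((5, 51), 2), ((5, 93), 1), ((5, 117), 2), ((5, 29), 1), ((4, 92), 2), ((5, 7), 2)],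
  [((0, 106), 1)],
  [((0, 107), 1)],
  [((0, 108), 1)],
  [((0, 110), 1)],
  [((0, 1), 1), ((0, 2), 2), ((0, 3), 1), ((0, 6), 2), ((0, 7), 1), ((0, 12), 2), ((0, 14), 1), ((0, 24), 2), ((0, 28), 1), ((0, 45), 2), ((0, 51), 1), ((0, 76), 2), ((1, 89), 2), ((2, 0), 2), ((2, 1), 2), ((2, 5), 1), ((2, 7), 1), ((2, 10), 2), ((2, 12), 2), ((2, 14), 2), ((2, 18), 1), ((2, 20), 2), ((2, 26), 2), ((2, 27), 2), ((2, 29), 2), ((2, 36), 2), ((2, 40), 1), ((2, 49), 2), ((2, 59), 1), ((2, 61), 2), ((2, 66), 1), ((2, 78), 1), ((2, 94), 2), ((1, 0), 2), ((1, 2), 1), ((1, 4), 2), ((1, 6), 1), ((1, 9), 2), ((1, 13), 2), ((1, 15), 2), ((1, 21), 2), ((1, 30), 1), ((1, 37), 2), ((1, 44), 2), ((1, 58), 1), ((1, 60), 2), ((1, 69), 1), ((3, 3), 1), ((3, 11), 1), ((3, 17), 1), ((3, 89), 1), ((3, 92), 2), ((4, 83), 1), ((4, 106), 2), ((4, 121), 2), ((3,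 4), 1), ((3, 7), 1), ((3, 8), 2), ((3, 9), 2), ((3, 12), 1), ((3, 15), 2), ((3, 19), 2), ((3, 23), 1), ((3, 27), 2), ((3, 31), 1), ((3, 32), 1), ((3, 33), 2), ((3, 36), 1), ((3, 38), 1), ((3, 40), 1), ((3, 44), 1), ((3, 47), 2), ((3, 53), 1), ((3, 55), 2), ((3, 61), 1), ((3, 67), 1), ((3, 81), 2), ((3, 82), 2), ((5, 76), 2), ((5, 97), 2), ((4, 88), 2), ((4, 95), 2), ((5, 39), 1), ((5, 45), 2), ((5, 89), 1), ((5, 40), 2), ((5, 54), 2), ((5, 8), 2), ((5, 73), 1), ((5, 100), 1), ((5, 101), 2), ((5, 109), 2), ((5, 115), 2), ((5, 122), 1), ((4, 12), 2), ((4, 21), 2), ((4, 50), 1), ((4, 59), 2), ((4, 126), 2), ((4, 6), 2), ((5, 11), 1), ((5, 51), 1), ((5, 92), 2), ((5, 103), 1), ((5, 117), 1), ((5, 29), 2), ((5, 66), 1), ((5, 126), 2), ((4, 92), 1), ((5, 7), 2)],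
  [((0, 1), 1), ((0, 2), 2), ((0, 3), 1), ((0, 6), 2), ((0, 7), 1), ((0, 12), 2), ((0, 15), 1), ((0, 24), 2), ((0, 45), 2), ((0, 77), 2), ((1, 89), 2), ((2, 0), 1), ((2, 1), 2), ((2, 5), 1), ((2, 7), 1), ((2, 8), 1), ((2, 12), 1), ((2, 16), 1), ((2, 20), 1), ((2, 22), 2), ((2, 26), 2), ((2, 27), 1), ((2, 29), 2), ((2, 31), 2), ((2, 40), 1), ((2, 42), 1), ((2, 49), 1), ((2, 59), 1), ((2, 61), 2), ((2, 66), 1), ((2, 78), 1), ((2, 84), 2), ((2, 88), 1), ((2, 94), 2), ((1, 0), 2), ((1, 2), 1), ((1, 4), 1), ((1, 6), 1), ((1, 9), 2), ((1, 11), 1), ((1, 13), 1), ((1, 15), 2), ((1, 17), 2), ((1, 21), 2), ((1, 37), 1), ((1, 44), 2), ((1, 53), 1), ((1, 58), 1), ((1, 60), 1), ((1, 69), 2), ((3, 17), 2), ((3, 39), 1), ((3, 92), 2), ((3, 35), 2), ((4, 106), 1), ((3, 0), 2), ((3, 2), 2), ((3, 4), 1), ((3, 9), 2), ((3, 12), 1), ((3, 15), 2), ((3,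 19), 1), ((3, 23), 2), ((3, 27), 2), ((3, 31), 1), ((3, 32), 1), ((3, 33), 2), ((3, 36), 1), ((3, 38), 2), ((3, 40), 1), ((3, 43), 1), ((3, 44), 1), ((3, 53), 2), ((3, 55), 1), ((3, 67), 2), ((3, 74), 1), ((3, 81), 1), ((3, 82), 2), ((3, 88), 1), ((5, 76), 1), ((4, 88), 2), ((4, 95), 2), ((5, 89), 2), ((5, 40), 1), ((5, 52), 2), ((5, 73), 2), ((5, 101), 1), ((5, 109), 2), ((5, 115), 2), ((4, 4), 2), ((4, 21), 1), ((4, 50), 1), ((4, 59), 2), ((4, 126), 1), ((5, 37), 2), ((4, 6), 1), ((4, 36), 1), ((5, 11), 2), ((5, 51), 2), ((5, 92), 2), ((5, 29), 2), ((5, 83), 1), ((5, 126), 1), ((4, 92), 1), ((5, 7), 2)],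
  [((0, 5), 1), ((0, 6), 2), ((0, 10), 1), ((0, 12), 2), ((0, 21), 1), ((0, 25), 2), ((0, 41), 1), ((0, 46), 2), ((0, 78), 2), ((1, 39), 2), ((1, 89), 1), ((2, 0), 1), ((2, 1), 1), ((2, 7), 1), ((2, 8), 1), ((2, 10), 2), ((2, 12), 2), ((2, 14), 2), ((2, 16), 1), ((2, 18), 2), ((2, 26), 2), ((2, 29), 1), ((2, 31), 1), ((2, 36), 1), ((2, 40), 2), ((2, 42), 1), ((2, 49), 2), ((2, 59), 1), ((2, 61), 1), ((2, 66), 1), ((2, 78), 2), ((2, 84), 2), ((2, 88), 1), ((2, 94), 2), ((1, 0), 2), ((1, 2), 2), ((1, 4), 1), ((1, 9), 2), ((1, 13), 1), ((1, 21), 2), ((1, 37), 2), ((1, 44), 1), ((1, 60), 2), ((1, 69), 2), ((3, 3), 2), ((3, 17), 1), ((3, 39), 2), ((3, 89), 2), ((4, 83), 2), ((4, 106), 1), ((3, 0), 2), ((3, 1), 1), ((3, 4), 2), ((3, 6), 1), ((3, 7), 1), ((3, 8), 1), ((3, 9), 1), ((3, 13), 2), ((3, 15), 1), ((3, 19), 2), ((3, 23), 2),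 ((3, 27), 2), ((3, 30), 2), ((3, 31), 2), ((3, 32), 1), ((3, 33), 1), ((3, 36), 1), ((3, 43), 1), ((3, 44), 2), ((3, 47), 2), ((3, 53), 2), ((3, 57), 2), ((3, 61), 1), ((3, 63), 1), ((3, 74), 2), ((3, 82), 2), ((3, 88), 1), ((5, 76), 1), ((5, 97), 2), ((4, 88), 2), ((4, 95), 1), ((5, 40), 2), ((5, 8), 2), ((5, 52), 1), ((5, 73), 2), ((5, 109), 2), ((5, 122), 1), ((4, 4), 2), ((4, 12), 1), ((4, 59), 2), ((4, 77), 1), ((4, 126), 2), ((4, 9), 2), ((4, 86), 2), ((5, 51), 1), ((5, 93), 2), ((5, 29), 2), ((5, 66), 2), ((5, 83), 2), ((5, 7), 2)],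
  [((0, 5), 1), ((0, 6), 2), ((0, 11), 1), ((0, 12), 2), ((0, 25), 2), ((0, 46), 2), ((0, 79), 2), ((1, 39), 1), ((1, 89), 1), ((2, 0), 2), ((2, 1), 2), ((2, 5), 2), ((2, 8), 2), ((2, 12), 1), ((2, 16), 2), ((2, 20), 2), ((2, 22), 2), ((2, 26), 1), ((2, 27), 2), ((2, 29), 2), ((2, 31), 1), ((2, 36), 1), ((2, 40), 1), ((2, 42), 1), ((2, 49), 2), ((2, 59), 2), ((2, 66), 1), ((2, 84), 2), ((1, 2), 2), ((1, 4), 2), ((1, 6), 2), ((1, 9), 1), ((1, 11), 2), ((1, 13), 1), ((1, 15), 2), ((1, 53), 2), ((1, 57), 2), ((1, 58), 1), ((1, 60), 1), ((1, 65), 2), ((1, 69), 1), ((3, 11), 2), ((3, 17), 1), ((3, 35), 1), ((4, 83), 2), ((4, 117), 2), ((3, 0), 1), ((3, 1), 1), ((3, 2), 1), ((3, 4), 1), ((3, 7), 2), ((3, 12), 2), ((3, 19), 2), ((3, 22), 2), ((3, 23), 1), ((3, 31), 2), ((3, 32), 1), ((3, 38), 1), ((3, 40), 1), ((3, 43), 1), ((3, 47), 2),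 ((3, 53), 2), ((3, 57), 2), ((3, 61), 2), ((3, 63), 2), ((3, 67), 1), ((3, 74), 2), ((4, 76), 1), ((5, 76), 2), ((5, 97), 1), ((4, 95), 1), ((5, 1), 2), ((5, 39), 1), ((5, 45), 1), ((5, 89), 1), ((5, 54), 2), ((5, 8), 1), ((5, 73), 1), ((5, 100), 1), ((5, 101), 2), ((5, 115), 1), ((4, 4), 2), ((4, 12), 1), ((4, 21), 1), ((4, 126), 1), ((5, 37), 1), ((4, 2), 2), ((4, 36), 2), ((5, 11), 1), ((5, 51), 1), ((5, 92), 1), ((5, 103), 1), ((5, 117), 2), ((5, 66), 1), ((5, 83), 1), ((5, 7), 2)],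
  [((0, 1), 1), ((0, 2), 2), ((0, 3), 1), ((0, 6), 2), ((0, 7), 1), ((0, 12), 2), ((0, 14), 1), ((0, 25), 2), ((0, 28), 1), ((0, 47), 2), ((0, 80), 2), ((1, 89), 1), ((2, 0), 2), ((2, 7), 2), ((2, 8), 1), ((2, 10), 2), ((2, 18), 2), ((2, 20), 2), ((2, 26), 1), ((2, 27), 1), ((2, 29), 2), ((2, 36), 2), ((2, 42), 1), ((2, 49), 1), ((2, 78), 2), ((1, 0), 1), ((1, 2), 1), ((1, 9), 2), ((1, 13), 1), ((1, 15), 1), ((1, 21), 1), ((1, 30), 1), ((1, 37), 2), ((1, 53), 1), ((1, 57), 2), ((1, 65), 2), ((1, 69), 1), ((3, 3), 1), ((3, 11), 1), ((3, 17), 2), ((3, 39), 2), ((3, 89), 1), ((3, 92), 1), ((4, 83), 1), ((4, 106), 2), ((4, 121), 2), ((3, 4), 1), ((3, 6), 1), ((3, 7), 1), ((3, 9), 2), ((3, 12), 2), ((3, 13), 2), ((3, 19), 2), ((3, 22), 2), ((3, 23), 1), ((3, 27), 1), ((3, 30), 2), ((3, 32), 2), ((3, 33), 1), ((3, 38), 2), ((3, 44), 2),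 ((3, 47), 2), ((3, 53), 2), ((3, 55), 2), ((3, 57), 1), ((3, 61), 1), ((3, 63), 1), ((3, 67), 1), ((3, 74), 1), ((3, 82), 1), ((3, 88), 1), ((5, 76), 2), ((5, 97), 1), ((4, 88), 2), ((4, 95), 1), ((5, 1), 2), ((5, 39), 1), ((5, 45), 1), ((5, 89), 1), ((5, 54), 1), ((5, 8), 1), ((5, 52), 2), ((5, 100), 1), ((5, 101), 2), ((5, 109), 2), ((4, 4), 2), ((4, 12), 1), ((4, 21), 2), ((4, 50), 2), ((4, 59), 2), ((4, 77), 1), ((4, 126), 1), ((5, 37), 2), ((4, 2), 1), ((4, 9), 2), ((4, 36), 1), ((4, 86), 1), ((5, 11), 1), ((5, 51), 1), ((5, 92), 2), ((5, 103), 1), ((5, 29), 2), ((5, 83), 2), ((5, 126), 2)],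
  [((0, 114), 1)],
  [((0, 12), 1), ((0, 13), 2), ((0, 25), 1), ((0, 26), 2), ((0, 46), 1), ((0, 48), 2), ((0, 78), 1), ((0, 82), 2), ((0, 112), 1), ((1, 39), 1), ((1, 89), 2), ((2, 1), 2), ((2, 7), 1), ((2, 8), 2), ((2, 12), 1), ((2, 14), 1), ((2, 18), 2), ((2, 20), 2), ((2, 22), 1), ((2, 26), 1), ((2, 27), 1), ((2, 31), 2), ((2, 42), 1), ((2, 49), 1), ((2, 61), 1), ((2, 66), 1), ((1, 0), 1), ((1, 2), 1), ((1, 4), 1), ((1, 6), 2), ((1, 11), 2), ((1, 13), 2), ((1, 15), 1), ((1, 17), 2), ((1, 30), 2), ((1, 37), 2), ((1, 44), 2), ((1, 57), 1), ((1, 58), 1), ((1, 60), 1), ((1, 65), 1), ((1, 69), 1), ((3, 11), 2), ((3, 17), 2), ((3, 89), 2), ((3, 92), 1), ((4, 83), 1), ((4, 106), 2), ((4, 117), 1), ((4, 121), 1), ((3, 1), 1), ((3, 7), 1), ((3, 12), 1), ((3, 13), 2), ((3, 15), 1), ((3, 19), 2), ((3, 23), 1), ((3, 27), 2), ((3, 29), 2),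 ((3, 30), 1), ((3, 31), 2), ((3, 38), 2), ((3, 40), 1), ((3, 53), 1), ((3, 57), 1), ((3, 63), 1), ((3, 67), 1), ((3, 74), 2), ((3, 81), 1), ((3, 82), 2), ((3, 88), 1), ((4, 76), 1), ((5, 76), 2), ((4, 88), 2), ((4, 95), 1), ((5, 45), 2), ((5, 89), 2), ((5, 54), 1), ((5, 8), 1), ((5, 73), 2), ((5, 109), 1), ((5, 115), 2), ((5, 122), 2), ((4, 4), 2), ((4, 21), 1), ((4, 59), 2), ((4, 77), 1), ((4, 126), 2), ((4, 2), 1), ((4, 6), 1), ((4, 36), 2), ((4, 86), 1), ((5, 51), 2), ((5, 92), 1), ((5, 93), 1), ((5, 103), 1), ((5, 117), 2), ((5, 29), 1), ((5, 66), 2), ((5, 83), 1), ((5, 126), 2), ((4, 92), 2), ((5, 7), 2)],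
  [((0, 116), 1)],
  [((0, 1), 2), ((0, 2), 1), ((0, 3), 2), ((0, 6), 1), ((0, 7), 2), ((0, 12), 1), ((0, 15), 2), ((0, 25), 1), ((0, 29), 2), ((0, 47), 1), ((0, 53), 2), ((0, 81), 1), ((0, 84), 2), ((0, 115), 1), ((1, 89), 1), ((2, 0), 2), ((2, 1), 1), ((2, 5), 2), ((2, 7), 2), ((2, 8), 2), ((2, 12), 1), ((2, 16), 2), ((2, 20), 2), ((2, 22), 1), ((2, 26), 1), ((2, 27), 2), ((2, 29), 1), ((2, 31), 1), ((2, 40), 2), ((2, 42), 2), ((2, 49), 2), ((2, 59), 2), ((2, 61), 1), ((2, 66), 2), ((2, 78), 2), ((2, 84), 1), ((2, 88), 2), ((2, 94), 1), ((1, 2), 2), ((1, 4), 2), ((1, 6), 2), ((1, 9), 1), ((1, 11), 2), ((1, 13), 2), ((1, 15), 2), ((1, 17), 1), ((1, 21), 1), ((1, 37), 2), ((1, 44), 1), ((1, 53), 2), ((1, 58), 2), ((1, 60), 2), ((1, 69), 1), ((3, 3), 2), ((3, 17), 1), ((3, 39), 2), ((3, 92), 1), ((3, 35), 1), ((4, 106), 2), ((3,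 0), 1), ((3, 2), 1), ((3, 4), 2), ((3, 9), 1), ((3, 12), 2), ((3, 15), 1), ((3, 19), 2), ((3, 23), 1), ((3, 27), 1), ((3, 29), 1), ((3, 31), 2), ((3, 32), 2), ((3, 33), 1), ((3, 36), 2), ((3, 38), 1), ((3, 40), 2), ((3, 43), 2), ((3, 44), 2), ((3, 53), 1), ((3, 55), 2), ((3, 67), 1), ((3, 74), 2), ((3, 81), 2), ((3, 82), 1), ((3, 88), 2), ((5, 76), 2), ((4, 88), 1), ((4, 95), 1), ((5, 89), 1), ((5, 40), 2), ((5, 52), 1), ((5, 73), 1), ((5, 101), 2), ((5, 109), 1), ((5, 115), 1), ((4, 4), 1), ((4, 21), 2), ((4, 50), 2), ((4, 59), 1), ((4, 126), 2), ((5, 37), 1), ((4, 6), 2), ((4, 36), 2), ((5, 11), 1), ((5, 51), 1), ((5, 92), 1), ((5, 29), 1), ((5, 83), 2), ((5, 126), 2), ((4, 92), 2), ((5, 7), 1)],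
  [((0, 117), 1)],
  [((0, 3), 2), ((0, 4), 1), ((0, 7), 2), ((0, 8), 1), ((0, 15), 2), ((0, 16), 1), ((0, 30), 2), ((0, 32), 1), ((0, 54), 2), ((0, 86), 2), ((2, 0), 1), ((2, 1), 2), ((2, 5), 1), ((2, 7), 1), ((2, 8), 2), ((2, 12), 1), ((2, 16), 2), ((2, 18), 2), ((2, 26), 2), ((2, 29), 2), ((2, 42), 2), ((2, 59), 2), ((2, 66), 2), ((2, 78), 1), ((2, 84), 2), ((2, 88), 1), ((2, 94), 1), ((1, 0), 1), ((1, 2), 1), ((1, 6), 2), ((1, 13), 2), ((1, 15), 2), ((1, 17), 1), ((1, 21), 2), ((1, 37), 1), ((1, 53), 2), ((1, 57), 1), ((1, 58), 1), ((1, 60), 2), ((3, 3), 1), ((3, 17), 1), ((3, 39), 1), ((3, 92), 1), ((3, 35), 2), ((4, 83), 2), ((4, 106), 1), ((4, 121), 1), ((3, 0), 1), ((3, 1), 1), ((3, 2), 1), ((3, 4), 1), ((3, 7), 2), ((3, 9), 1), ((3, 12), 2), ((3, 22), 1), ((3, 27), 2), ((3, 29), 2), ((3, 30), 1), ((3, 31), 1), ((3, 32),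 1), ((3, 33), 1), ((3, 36), 2), ((3, 40), 1), ((3, 43), 1), ((3, 53), 1), ((3, 55), 2), ((3, 57), 2), ((3, 63), 2), ((3, 74), 2), ((3, 81), 2), ((3, 82), 2), ((3, 88), 1), ((5, 76), 2), ((5, 97), 1), ((4, 88), 1), ((4, 95), 1), ((5, 39), 1), ((5, 45), 1), ((5, 89), 1), ((5, 40), 1), ((5, 54), 2), ((5, 52), 2), ((5, 101), 1), ((5, 109), 1), ((5, 115), 1), ((5, 122), 2), ((4, 4), 1), ((4, 12), 1), ((4, 21), 1), ((4, 59), 1), ((5, 37), 1), ((4, 6), 1), ((4, 36), 2), ((5, 11), 2), ((5, 92), 1), ((5, 103), 1), ((5, 66), 2), ((5, 126), 2), ((4, 92), 2), ((5, 7), 2)],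
  [((0, 119), 1)],
  [((0, 1), 2), ((0, 2), 1), ((0, 4), 2), ((0, 6), 1), ((0, 8), 2), ((0, 13), 1), ((0, 16), 2), ((0, 26), 1), ((0, 31), 2), ((0, 48), 1), ((0, 56), 2), ((0, 88), 2), ((1, 89), 2), ((2, 5), 1), ((2, 7), 1), ((2, 10), 2), ((2, 12), 1), ((2, 14), 1), ((2, 16), 1), ((2, 18), 2), ((2, 20), 2), ((2, 22), 1), ((2, 27), 2), ((2, 31), 2), ((2, 36), 2), ((2, 40), 2), ((2, 49), 2), ((2, 59), 1), ((2, 61), 1), ((2, 78), 1), ((2, 84), 2), ((1, 0), 1), ((1, 2), 1), ((1, 6), 1), ((1, 13), 2), ((1, 15), 1), ((1, 17), 1), ((1, 21), 1), ((1, 30), 2), ((1, 57), 2), ((1, 58), 1), ((3, 11), 2), ((3, 17), 2), ((3, 39), 2), ((3, 89), 1), ((3, 92), 1), ((4, 106), 1), ((4, 117), 1), ((4, 121), 1), ((3, 1), 1), ((3, 6), 2), ((3, 7), 1), ((3, 8), 2), ((3, 9), 1), ((3, 12), 1), ((3, 15), 2), ((3, 22), 2), ((3, 23), 1), ((3, 27), 2), ((3,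 29), 1), ((3, 30), 2), ((3, 31), 1), ((3, 32), 2), ((3, 33), 1), ((3, 38), 1), ((3, 43), 1), ((3, 44), 2), ((3, 53), 1), ((3, 55), 2), ((3, 57), 1), ((3, 61), 2), ((3, 63), 2), ((3, 67), 1), ((3, 74), 1), ((3, 82), 1), ((4, 76), 2), ((5, 76), 1), ((5, 97), 2), ((4, 95), 1), ((5, 1), 1), ((5, 45), 1), ((5, 89), 2), ((5, 40), 1), ((5, 54), 1), ((5, 8), 2), ((5, 73), 1), ((5, 115), 1), ((5, 122), 1), ((4, 12), 2), ((4, 21), 1), ((4, 50), 2), ((4, 126), 1), ((5, 37), 1), ((4, 2), 2), ((4, 6), 1), ((4, 86), 1), ((5, 11), 1), ((5, 51), 1), ((5, 93), 1), ((5, 103), 1), ((5, 29), 2), ((5, 126), 1), ((4, 92), 2), ((5, 7), 2)],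
  [((1, 89), 1)],
  [((0, 121), 1)],
  [((0, 3), 1), ((0, 4), 2), ((0, 7), 1), ((0, 8), 2), ((0, 15), 1), ((0, 16), 2), ((0, 29), 1), ((0, 31), 2), ((0, 52), 1), ((0, 57), 2), ((0, 83), 1), ((0, 91), 2), ((1, 39), 2), ((2, 0), 1), ((2, 1), 2), ((2, 5), 2), ((2, 7), 1), ((2, 8), 2), ((2, 10), 1), ((2, 16), 1), ((2, 20), 1), ((2, 22), 2), ((2, 26), 2), ((2, 27), 2), ((2, 29), 1), ((2, 31), 1), ((2, 40), 2), ((2, 49), 2), ((2, 59), 1), ((2, 61), 2), ((2, 66), 2), ((2, 84), 1), ((2, 88), 2), ((2, 94), 1), ((1, 0), 2), ((1, 2), 1), ((1, 6), 2), ((1, 11), 1), ((1, 13), 1), ((1, 15), 1), ((1, 17), 2), ((1, 21), 1), ((1, 37), 2), ((1, 57), 2), ((1, 58), 1), ((1, 60), 2), ((1, 65), 2), ((1, 69), 2), ((3, 11), 1), ((3, 92), 2), ((4, 106), 2), ((4, 121), 1), ((3, 0), 2), ((3, 1), 1), ((3, 2), 2), ((3, 4), 2), ((3, 6), 1), ((3, 8), 2), ((3,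 12), 1), ((3, 13), 2), ((3, 22), 1), ((3, 23), 2), ((3, 27), 2), ((3, 29), 2), ((3, 31), 2), ((3, 32), 1), ((3, 33), 2), ((3, 36), 2), ((3, 38), 1), ((3, 43), 2), ((3, 44), 1), ((3, 47), 2), ((3, 55), 2), ((3, 57), 2), ((3, 61), 2), ((3, 63), 2), ((3, 67), 2), ((3, 88), 2), ((4, 76), 1), ((5, 97), 1), ((5, 39), 2), ((5, 45), 2), ((5, 89), 1), ((5, 40), 2), ((5, 54), 2), ((5, 8), 1), ((5, 52), 1), ((5, 101), 2), ((5, 122), 1), ((4, 4), 2), ((4, 12), 2), ((4, 77), 2), ((4, 126), 2), ((4, 9), 2), ((4, 86), 2), ((5, 92), 1), ((5, 103), 1), ((5, 117), 2), ((5, 29), 2), ((5, 66), 1), ((5, 83), 1), ((5, 126), 2), ((4, 92), 2), ((5, 7), 2)],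
  [((0, 123), 1)],
  [((0, 124), 1)],
  [((0, 16), 1), ((0, 17), 2), ((0, 31), 1), ((0, 33), 2), ((0, 57), 1), ((0, 59), 2), ((0, 91), 1), ((0, 94), 2), ((0, 122), 1), ((2, 0), 2), ((2, 1), 1), ((2, 5), 2), ((2, 7), 1), ((2, 10), 1), ((2, 18), 2), ((2, 20), 1), ((2, 26), 1), ((2, 27), 1), ((2, 29), 2), ((2, 36), 1), ((2, 40), 2), ((2, 42), 2), ((2, 49), 1), ((2, 61), 2), ((2, 66), 1), ((2, 78), 2), ((2, 84), 1), ((2, 88), 1), ((2, 94), 2), ((1, 2), 2), ((1, 9), 2), ((1, 13), 2), ((1, 15), 1), ((1, 17), 2), ((1, 37), 1), ((1, 44), 1), ((1, 53), 1), ((1, 57), 1), ((1, 58), 1), ((1, 60), 2), ((1, 69), 1), ((3, 3), 1), ((3, 92), 1), ((4, 83), 2), ((4, 106), 2), ((4, 117), 2), ((4, 121), 2), ((3, 1), 1), ((3, 4), 1), ((3, 6), 2), ((3, 8), 1), ((3, 9), 1), ((3, 12), 1), ((3, 15), 2), ((3, 22), 2), ((3, 23), 2), ((3, 27), 2), ((3, 29),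 2), ((3, 30), 1), ((3, 31), 2), ((3, 32), 2), ((3, 36), 1), ((3, 38), 2), ((3, 40), 2), ((3, 43), 2), ((3, 47), 1), ((3, 53), 1), ((3, 63), 1), ((3, 67), 2), ((3, 82), 2), ((3, 88), 1), ((4, 76), 1), ((5, 76), 1), ((5, 97), 2), ((4, 95), 1), ((5, 1), 1), ((5, 39), 2), ((5, 45), 1), ((5, 40), 2), ((5, 54), 2), ((5, 8), 2), ((5, 52), 1), ((5, 100), 2), ((5, 101), 1), ((5, 109), 1), ((5, 115), 1), ((4, 4), 1), ((4, 21), 1), ((4, 50), 2), ((5, 37), 2), ((4, 2), 2), ((4, 9), 2), ((5, 11), 2), ((5, 51), 1), ((5, 92), 2), ((5, 117), 2), ((5, 29), 2), ((5, 66), 1), ((5, 126), 1), ((5, 7), 1)],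
  [((0, 59), 1), ((0, 60), 2), ((0, 94), 1), ((0, 95), 2), ((0, 125), 1), ((1, 89), 1), ((2, 0), 1), ((2, 1), 2), ((2, 5), 2), ((2, 7), 1), ((2, 8), 2), ((2, 10), 2), ((2, 12), 1), ((2, 16), 1), ((2, 18), 1), ((2, 20), 1), ((2, 22), 2), ((2, 27), 1), ((2, 29), 1), ((2, 31), 2), ((2, 42), 2), ((2, 49), 1), ((2, 59), 2), ((2, 61), 2), ((2, 66), 2), ((2, 84), 2), ((2, 88), 1), ((2, 94), 1), ((1, 0), 1), ((1, 2), 2), ((1, 6), 1), ((1, 9), 1), ((1, 13), 1), ((1, 21), 2), ((1, 30), 1), ((1, 37), 2), ((1, 44), 1), ((1, 53), 1), ((1, 58), 2), ((1, 65), 2), ((3, 3), 2), ((3, 11), 2), ((3, 17), 2), ((3, 39), 1), ((3, 89), 2), ((3, 35), 1), ((4, 83), 1), ((4, 106), 2), ((4, 121), 1), ((3, 4), 2), ((3, 6), 1), ((3, 7), 2), ((3, 9), 1), ((3, 15), 2), ((3, 22), 2), ((3, 23), 2), ((3, 27), 2), ((3, 29), 2), ((3, 31), 1), ((3, 32), 2), ((3, 33),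 1), ((3, 36), 2), ((3, 38), 2), ((3, 40), 1), ((3, 43), 1), ((3, 44), 1), ((3, 47), 1), ((3, 61), 2), ((3, 67), 2), ((3, 74), 2), ((3, 81), 2), ((3, 82), 2), ((4, 76), 2), ((4, 95), 1), ((5, 1), 1), ((5, 39), 2), ((5, 89), 1), ((5, 54), 1), ((5, 109), 2), ((4, 4), 2), ((4, 21), 2), ((4, 50), 1), ((4, 59), 2), ((4, 126), 2), ((4, 2), 1), ((4, 9), 1), ((4, 36), 1), ((4, 86), 2), ((5, 11), 1), ((5, 51), 2), ((5, 92), 1), ((5, 93), 1), ((5, 103), 2), ((5, 117), 2), ((5, 66), 2)],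
  [((0, 126), 1)],
  [((0, 8), 1), ((0, 9), 2), ((0, 16), 1), ((0, 18), 2), ((0, 31), 1), ((0, 34), 2), ((0, 56), 1), ((0, 61), 2), ((0, 88), 1), ((0, 97), 2), ((0, 120), 1), ((1, 89), 2), ((2, 1), 1), ((2, 5), 2), ((2, 7), 1), ((2, 8), 2), ((2, 10), 2), ((2, 12), 1), ((2, 14), 2), ((2, 16), 2), ((2, 18), 1), ((2, 20), 2), ((2, 22), 2), ((2, 29), 2), ((2, 31), 2), ((2, 36), 1), ((2, 42), 1), ((2, 59), 1), ((2, 61), 2), ((2, 66), 1), ((2, 88), 1), ((1, 0), 2), ((1, 2), 1), ((1, 4), 2), ((1, 6), 1), ((1, 9), 1), ((1, 13), 2), ((1, 15), 1), ((1, 17), 1), ((1, 21), 1), ((1, 37), 1), ((1, 44), 1), ((1, 53), 2), ((1, 57), 1), ((1, 65), 2), ((1, 69), 2), ((3, 17), 1), ((3, 39), 2), ((3, 89), 2), ((3, 92), 1), ((3, 35), 1), ((4, 83), 1), ((4, 121), 2), ((3, 1), 2), ((3, 4), 1), ((3, 6), 2), ((3, 7), 2), ((3, 8), 1), ((3, 13), 2), ((3, 19),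 1), ((3, 22), 1), ((3, 23), 1), ((3, 27), 2), ((3, 29), 1), ((3, 30), 1), ((3, 31), 1), ((3, 44), 1), ((3, 47), 1), ((3, 53), 2), ((3, 57), 2), ((3, 61), 1), ((3, 67), 1), ((3, 74), 2), ((3, 82), 2), ((3, 88), 2), ((5, 97), 2), ((4, 88), 2), ((4, 95), 2), ((5, 1), 2), ((5, 45), 2), ((5, 40), 1), ((5, 52), 2), ((5, 73), 1), ((5, 101), 1), ((5, 109), 1), ((5, 115), 2), ((5, 122), 2), ((4, 12), 1), ((4, 21), 2), ((4, 50), 2), ((4, 59), 2), ((4, 77), 2), ((4, 126), 1), ((4, 2), 1), ((4, 6), 1), ((5, 93), 1), ((5, 103), 2), ((5, 117), 1), ((5, 66), 1), ((5, 83), 2), ((5, 126), 1), ((4, 92), 2)],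
  [((0, 1), 2), ((0, 2), 1), ((0, 4), 2), ((0, 5), 1), ((0, 9), 2), ((0, 10), 1), ((0, 18), 2), ((0, 21), 1), ((0, 35), 2), ((0, 40), 1), ((0, 63), 2), ((0, 70), 1), ((0, 98), 2), ((1, 39), 2), ((1, 89), 1), ((2, 10), 1), ((2, 12), 1), ((2, 14), 2), ((2, 18), 1), ((2, 20), 2), ((2, 22), 1), ((2, 27), 1), ((2, 29), 1), ((2, 31), 2), ((2, 36), 1), ((2, 59), 1), ((2, 61), 1), ((2, 66), 2), ((2, 78), 1), ((2, 84), 1), ((2, 88), 1), ((1, 0), 2), ((1, 9), 2), ((1, 11), 1), ((1, 13), 2), ((1, 15), 2), ((1, 17), 2), ((1, 30), 2), ((1, 37), 1), ((1, 44), 1), ((1, 53), 1), ((1, 57), 1), ((1, 58), 1), ((1, 60), 1), ((3, 3), 1), ((3, 11), 2), ((3, 17), 2), ((3, 39), 1), ((3, 89), 2), ((3, 92), 1), ((3, 35), 1), ((4, 83), 2), ((4, 106), 1), ((4, 121), 2), ((3, 0), 2), ((3, 1), 2), ((3, 4), 2), ((3, 8), 2), ((3, 9), 1), ((3, 12), 1), ((3, 13),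 2), ((3, 15), 1), ((3, 19), 2), ((3, 31), 2), ((3, 32), 1), ((3, 33), 2), ((3, 38), 2), ((3, 43), 2), ((3, 47), 2), ((3, 53), 1), ((3, 57), 1), ((3, 63), 2), ((3, 67), 1), ((3, 74), 2), ((3, 81), 2), ((3, 82), 1), ((3, 88), 2), ((4, 76), 1), ((5, 76), 1), ((5, 97), 2), ((4, 88), 2), ((4, 95), 2), ((5, 1), 1), ((5, 39), 2), ((5, 45), 1), ((5, 40), 1), ((5, 8), 1), ((5, 115), 2), ((5, 122), 1), ((4, 12), 2), ((4, 21), 1), ((4, 59), 2), ((4, 77), 2), ((5, 37), 2), ((4, 2), 1), ((4, 6), 1), ((4, 9), 1), ((4, 36), 1), ((4, 86), 2), ((5, 51), 1), ((5, 92), 1), ((5, 93), 2), ((5, 103), 1), ((5, 117), 1), ((5, 29), 2), ((5, 83), 2), ((4, 92), 1)],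
  [((0, 8), 1), ((0, 9), 2), ((0, 16), 1), ((0, 18), 2), ((0, 31), 1), ((0, 35), 2), ((0, 57), 1), ((0, 63), 2), ((0, 99), 2), ((1, 39), 2), ((2, 1), 2), ((2, 7), 2), ((2, 8), 1), ((2, 12), 2), ((2, 18), 1), ((2, 22), 1), ((2, 29), 2), ((2, 40), 1), ((2, 59), 1), ((2, 61), 2), ((2, 88), 2), ((2, 94), 1), ((1, 0), 2), ((1, 4), 2), ((1, 6), 1), ((1, 9), 1), ((1, 11), 1), ((1, 13), 2), ((1, 15), 1), ((1, 17), 2), ((1, 30), 2), ((1, 37), 2), ((1, 57), 1), ((1, 58), 1), ((1, 60), 1), ((1, 65), 1), ((1, 69), 1), ((3, 3), 2), ((3, 11), 1), ((3, 17), 1), ((3, 39), 1), ((3, 92), 2), ((3, 35), 1), ((4, 83), 1), ((4, 106), 2), ((3, 1), 1), ((3, 4), 1), ((3, 6), 1), ((3, 8), 1), ((3, 13), 1), ((3, 15), 1), ((3, 19), 2), ((3, 22), 2), ((3, 27), 1), ((3, 29), 2), ((3, 31), 2), ((3, 32), 1), ((3, 33), 2), ((3, 36), 2), ((3, 44), 2), ((3, 47),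 2), ((3, 53), 1), ((3, 55), 1), ((3, 57), 2), ((3, 61), 1), ((3, 63), 1), ((3, 82), 2), ((3, 88), 2), ((4, 76), 2), ((5, 76), 1), ((5, 97), 1), ((5, 89), 1), ((5, 54), 2), ((5, 8), 2), ((5, 52), 1), ((5, 73), 2), ((5, 100), 2), ((5, 109), 2), ((5, 115), 1), ((4, 12), 2), ((4, 21), 1), ((4, 50), 1), ((4, 126), 1), ((5, 37), 2), ((4, 2), 2), ((4, 6), 2), ((4, 36), 1), ((4, 86), 2), ((5, 93), 2), ((5, 103), 2), ((5, 117), 2), ((5, 126), 2), ((4, 92), 1), ((5, 7), 2)],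
  [((0, 1), 2), ((0, 2), 1), ((0, 4), 2), ((0, 5), 1), ((0, 9), 2), ((0, 10), 1), ((0, 19), 2), ((0, 20), 1), ((0, 36), 2), ((0, 39), 1), ((0, 65), 2), ((0, 69), 1), ((0, 100), 2), ((1, 89), 1), ((2, 1), 1), ((2, 5), 1), ((2, 7), 1), ((2, 8), 1), ((2, 14), 2), ((2, 16), 1), ((2, 18), 2), ((2, 20), 1), ((2, 22), 2), ((2, 26), 2), ((2, 29), 2), ((2, 31), 1), ((2, 36), 2), ((2, 40), 1), ((2, 49), 2), ((2, 61), 2), ((2, 66), 2), ((2, 78), 1), ((2, 88), 2), ((2, 94), 2), ((1, 0), 1), ((1, 2), 1), ((1, 4), 1), ((1, 6), 2), ((1, 11), 2), ((1, 13), 2), ((1, 15), 2), ((1, 21), 1), ((1, 37), 2), ((1, 57), 2), ((1, 60), 2), ((1, 69), 2), ((3, 11), 1), ((3, 17), 1), ((3, 92), 1), ((3, 35), 2), ((4, 106), 2), ((4, 117), 1), ((3, 0), 2), ((3, 4), 1), ((3, 6), 2), ((3, 7), 1), ((3, 8), 2), ((3, 12), 1), ((3, 13), 2), ((3, 19), 2), ((3, 22), 1),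 ((3, 23), 1), ((3, 27), 2), ((3, 29), 2), ((3, 30), 1), ((3, 31), 1), ((3, 33), 2), ((3, 36), 1), ((3, 40), 2), ((3, 44), 1), ((3, 47), 2), ((3, 53), 2), ((3, 55), 2), ((3, 57), 2), ((3, 61), 1), ((3, 63), 2), ((3, 67), 2), ((3, 74), 1), ((3, 81), 1), ((3, 82), 2), ((3, 88), 2), ((5, 76), 1), ((5, 97), 1), ((4, 88), 1), ((4, 95), 1), ((5, 39), 1), ((5, 89), 1), ((5, 8), 1), ((5, 73), 1), ((5, 100), 2), ((5, 109), 2), ((5, 115), 2), ((5, 122), 1), ((4, 4), 1), ((4, 12), 1), ((4, 21), 1), ((4, 50), 2), ((4, 59), 1), ((4, 77), 2), ((4, 126), 1), ((5, 37), 2), ((4, 2), 1), ((4, 6), 1), ((4, 86), 2), ((5, 92), 2), ((5, 117), 2), ((5, 83), 1), ((5, 126), 2), ((5, 7), 2)],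
  [((0, 1), 2), ((0, 2), 1), ((0, 4), 2), ((0, 6), 1), ((0, 9), 2), ((0, 12), 1), ((0, 19), 2), ((0, 25), 1), ((0, 37), 2), ((0, 47), 1), ((0, 66), 2), ((0, 80), 1), ((0, 101), 2), ((0, 113), 1), ((1, 89), 2), ((2, 1), 2), ((2, 5), 1), ((2, 8), 2), ((2, 10), 2), ((2, 12), 1), ((2, 20), 1), ((2, 22), 2), ((2, 26), 2), ((2, 27), 1), ((2, 29), 2), ((2, 36), 2), ((2, 49), 1), ((2, 59), 1), ((2, 66), 2), ((2, 78), 1), ((2, 88), 2), ((1, 0), 1), ((1, 2), 1), ((1, 4), 2), ((1, 6), 2), ((1, 9), 1), ((1, 11), 1), ((1, 15), 2), ((1, 17), 1), ((1, 21), 2), ((1, 37), 1), ((1, 53), 2), ((1, 58), 2), ((1, 60), 2), ((1, 65), 2), ((1, 69), 2), ((3, 17), 1), ((3, 39), 1), ((3, 35), 1), ((4, 83), 1), ((4, 106), 2), ((4, 121), 2), ((3, 0), 2), ((3, 2), 2), ((3, 4), 1), ((3, 8), 1), ((3, 9), 2), ((3, 12), 2), ((3, 13), 1), ((3, 19), 1), ((3, 22), 1),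 ((3, 23), 2), ((3, 30), 1), ((3, 33), 1), ((3, 38), 2), ((3, 40), 2), ((3, 47), 1), ((3, 53), 1), ((3, 57), 1), ((3, 61), 1), ((3, 63), 1), ((3, 67), 2), ((3, 74), 2), ((3, 82), 2), ((3, 88), 1), ((4, 76), 1), ((5, 76), 2), ((4, 88), 1), ((4, 95), 1), ((5, 39), 2), ((5, 45), 1), ((5, 40), 2), ((5, 54), 2), ((5, 8), 2), ((5, 52), 1), ((5, 73), 1), ((5, 122), 1), ((4, 4), 1), ((4, 12), 2), ((4, 50), 1), ((4, 59), 1), ((4, 126), 1), ((4, 2), 2), ((4, 6), 2), ((4, 9), 2), ((4, 36), 2), ((4, 86), 2), ((5, 51), 2), ((5, 92), 1), ((5, 93), 1), ((5, 103), 1), ((5, 83), 2)],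
  [((0, 10), 2), ((0, 11), 1), ((0, 20), 2), ((0, 23), 1), ((0, 39), 2), ((0, 44), 1), ((0, 69), 2), ((0, 75), 1), ((0, 102), 2), ((1, 39), 2), ((2, 5), 2), ((1, 0), 2), ((3, 3), 2), ((3, 39), 1)],
  [((0, 1), 1), ((0, 2), 2), ((0, 4), 1), ((0, 5), 2), ((0, 9), 1), ((0, 10), 2), ((0, 19), 1), ((0, 20), 2), ((0, 36), 1), ((0, 39), 2), ((0, 65), 1), ((0, 69), 2), ((0, 100), 1), ((0, 103), 2), ((1, 39), 1), ((2, 0), 1), ((2, 1), 1), ((2, 7), 2), ((2, 8), 1), ((2, 10), 1), ((2, 12), 1), ((2, 16), 2), ((2, 18), 2), ((2, 22), 1), ((2, 26), 1), ((2, 31), 2), ((2, 36), 2), ((2, 49), 1), ((2, 59), 2), ((2, 61), 2), ((1, 2), 1), ((1, 4), 2), ((1, 6), 2), ((1, 9), 2), ((1, 11), 2), ((1, 13), 1), ((1, 15), 2), ((1, 17), 2), ((1, 30), 1), ((1, 37), 2), ((1, 53), 2), ((1, 57), 1), ((1, 58), 2), ((1, 60), 1), ((1, 65), 1), ((1, 69), 1), ((3, 11),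 2), ((3, 17), 1), ((3, 39), 2), ((3, 89), 1), ((3, 92), 2), ((3, 35), 2), ((4, 83), 1), ((4, 117), 1), ((4, 121), 1), ((3, 0), 1), ((3, 1), 1), ((3, 6), 1), ((3, 8), 2), ((3, 9), 1), ((3, 12), 1), ((3, 13), 1), ((3, 15), 2), ((3, 19), 1), ((3, 22), 2), ((3, 23), 1), ((3, 27), 1), ((3, 29), 1), ((3, 40), 1), ((3, 47), 1), ((3, 53), 1), ((3, 74), 2), ((3, 81), 2), ((3, 82), 2), ((3, 88), 1), ((4, 76), 1), ((5, 76), 1), ((5, 97), 1), ((4, 95), 2), ((5, 1), 1), ((5, 39), 2), ((5, 45), 2), ((5, 89), 1), ((5, 40), 2), ((5, 8), 1), ((5, 109), 2), ((5, 122), 1), ((4, 4), 1), ((4, 12), 2), ((4, 21), 2), ((4, 50), 1), ((4, 77), 2), ((5, 37), 1), ((4, 6), 2), ((4, 36), 1), ((4, 86), 1), ((5, 11), 1), ((5, 93), 2), ((5, 103), 1), ((5, 117), 1), ((5, 66), 1), ((5, 83), 2), ((5, 126), 2), ((5, 7), 2)],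
  [((0, 1), 1), ((0, 2), 2), ((0, 4), 1), ((0, 5), 2), ((0, 8), 1), ((0, 10), 2), ((0, 16), 1), ((0, 21), 2), ((0, 32), 1), ((0, 40), 2), ((0, 58), 1), ((0, 70), 2), ((0, 104), 2), ((1, 39), 2), ((1, 89), 1), ((2, 0), 1), ((2, 7), 2), ((2, 8), 1), ((2, 10), 2), ((2, 12), 2), ((2, 14), 1), ((2, 16), 2), ((2, 22), 2), ((2, 26), 2), ((2, 27), 1), ((2, 29), 2), ((2, 31), 2), ((2, 36), 1), ((2, 40), 2), ((2, 49), 2), ((2, 59), 1), ((2, 66), 1), ((2, 78), 2), ((2, 88), 2), ((2, 94), 2), ((1, 0), 2), ((1, 4), 1), ((1, 6), 2), ((1, 9), 1), ((1, 11), 2), ((1, 13), 2), ((1, 17), 1), ((1, 21), 2), ((1, 37), 2), ((1, 44), 1), ((1, 57), 2), ((1, 58), 1), ((1, 60), 2), ((1, 69), 2), ((3, 11), 1), ((3, 39), 2), ((3, 89), 2), ((4, 83), 2), ((4, 121), 1), ((3, 1), 2), ((3, 2), 2), ((3, 4), 1), ((3, 6), 2), ((3, 7), 1), ((3, 9), 1), ((3, 12), 2),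 ((3, 22), 1), ((3, 23), 1), ((3, 27), 1), ((3, 29), 2), ((3, 30), 2), ((3, 31), 2), ((3, 32), 1), ((3, 36), 1), ((3, 38), 2), ((3, 40), 2), ((3, 47), 2), ((3, 53), 1), ((3, 57), 2), ((3, 61), 2), ((3, 63), 1), ((3, 81), 1), ((3, 88), 2), ((4, 76), 1), ((5, 76), 1), ((4, 88), 2), ((5, 39), 2), ((5, 89), 1), ((5, 8), 1), ((5, 100), 2), ((5, 109), 2), ((5, 115), 2), ((5, 122), 1), ((4, 4), 2), ((4, 12), 1), ((4, 21), 1), ((4, 50), 1), ((4, 59), 2), ((4, 77), 1), ((4, 126), 1), ((5, 37), 2), ((4, 2), 2), ((4, 6), 2), ((4, 9), 2), ((4, 36), 2), ((5, 93), 1), ((5, 117), 2), ((5, 29), 1), ((5, 66), 1), ((5, 83), 1), ((5, 126), 1), ((4, 92), 1)],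
  [((0, 1), 1), ((0, 2), 2), ((0, 4), 1), ((0, 5), 2), ((0, 9), 1), ((0, 10), 2), ((0, 18), 1), ((0, 21), 2), ((0, 35), 1), ((0, 41), 2), ((0, 63), 1), ((0, 71), 2), ((0, 99), 1), ((0, 105), 2), ((2, 0), 2), ((2, 7), 2), ((2, 8), 2), ((2, 10), 2), ((2, 12), 2), ((2, 16), 2), ((2, 22), 2), ((2, 26), 2), ((2, 27), 2), ((2, 36), 2), ((2, 40), 2), ((2, 42), 1), ((2, 61), 2), ((2, 66), 2), ((2, 88), 2), ((2, 94), 2), ((1, 2), 2), ((1, 9), 1), ((1, 13), 2), ((1, 15), 1), ((1, 17), 1), ((1, 44), 2), ((1, 57), 2), ((1, 58), 1), ((1, 60), 2), ((1, 65), 2), ((1, 69), 1), ((3, 3), 2), ((3, 11), 1), ((3, 17), 2), ((3, 39), 1), ((3, 35), 2), ((4, 106), 2), ((3, 0), 2), ((3, 1), 1), ((3, 2), 1), ((3, 6), 1), ((3, 7), 1), ((3, 9), 1), ((3, 12), 2), ((3, 13), 2), ((3, 15), 1), ((3, 19), 1), ((3, 23), 1), ((3, 27), 1), ((3, 29), 1), ((3, 30), 1),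 ((3, 31), 1), ((3, 36), 1), ((3, 38), 1), ((3, 40), 1), ((3, 44), 1), ((3, 47), 2), ((3, 53), 1), ((3, 57), 1), ((3, 61), 2), ((3, 63), 2), ((3, 74), 1), ((3, 82), 1), ((3, 88), 2), ((4, 76), 1), ((5, 76), 1), ((5, 97), 2), ((4, 88), 2), ((4, 95), 2), ((5, 1), 1), ((5, 39), 2), ((5, 45), 2), ((5, 89), 1), ((5, 52), 1), ((5, 73), 2), ((5, 100), 2), ((5, 101), 1), ((5, 109), 2), ((5, 115), 1), ((4, 59), 2), ((4, 126), 1), ((5, 37), 2), ((4, 2), 2), ((4, 6), 2), ((4, 9), 2), ((4, 86), 1), ((5, 51), 2), ((5, 92), 2), ((5, 93), 1), ((5, 83), 1), ((5, 126), 1), ((4, 92), 1)],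
  [((0, 1), 1), ((0, 2), 2), ((0, 3), 1), ((0, 5), 2), ((0, 7), 1), ((0, 11), 2), ((0, 15), 1), ((0, 22), 2), ((0, 30), 1), ((0, 43), 2), ((0, 72), 2), ((0, 106), 2), ((2, 0), 2), ((2, 1), 2), ((2, 5), 2), ((2, 7), 1), ((2, 10), 1), ((2, 14), 2), ((2, 18), 2), ((2, 20), 1), ((2, 22), 1), ((2, 26), 2), ((2, 27), 1), ((2, 29), 1), ((2, 31), 1), ((2, 40), 2), ((2, 49), 1), ((2, 59), 1), ((2, 61), 2), ((2, 66), 2), ((2, 88), 2), ((1, 0), 2), ((1, 2), 2), ((1, 6), 1), ((1, 9), 2), ((1, 11), 2), ((1, 13), 2), ((1, 15), 2), ((1, 17), 1), ((1, 30), 1), ((1, 37), 1), ((1, 44), 2), ((1, 53), 1), ((1, 57), 2), ((1, 58), 2), ((1, 60), 2), ((1, 69), 1), ((3, 3), 2), ((3, 11), 2), ((3, 17), 2), ((3, 89), 1), ((3, 35), 1), ((4, 121), 2), ((3, 1), 1), ((3, 4), 2), ((3, 7), 2), ((3, 8), 2), ((3, 12), 2), ((3, 13), 1), ((3, 15), 1), ((3, 19), 2),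 ((3, 22), 1), ((3, 23), 2), ((3, 27), 2), ((3, 29), 2), ((3, 30), 2), ((3, 31), 1), ((3, 32), 1), ((3, 33), 2), ((3, 38), 2), ((3, 40), 2), ((3, 44), 1), ((3, 53), 2), ((3, 55), 2), ((3, 57), 2), ((3, 61), 2), ((3, 67), 2), ((3, 81), 2), ((3, 82), 2), ((3, 88), 1), ((4, 76), 2), ((5, 76), 2), ((5, 97), 2), ((4, 88), 1), ((4, 95), 2), ((5, 45), 1), ((5, 89), 1), ((5, 40), 1), ((5, 54), 2), ((5, 73), 2), ((5, 100), 1), ((5, 101), 2), ((5, 109), 2), ((4, 21), 2), ((4, 59), 1), ((5, 37), 2), ((4, 2), 1), ((4, 6), 2), ((4, 9), 2), ((4, 36), 1), ((4, 86), 1), ((5, 51), 1), ((5, 92), 2), ((5, 93), 1), ((5, 103), 1), ((5, 117), 2), ((5, 29), 1), ((5, 66), 1), ((5, 83), 2), ((4, 92), 1), ((5, 7), 1)],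
  [((0, 1), 1), ((0, 2), 2), ((0, 4), 1), ((0, 5), 2), ((0, 9), 1), ((0, 11), 2), ((0, 19), 1), ((0, 22), 2), ((0, 36), 1), ((0, 43), 2), ((0, 65), 1), ((0, 73), 2), ((0, 107), 2), ((2, 0), 1), ((2, 8), 1), ((2, 10), 2), ((2, 12), 1), ((2, 14), 2), ((2, 20), 2), ((2, 22), 2), ((2, 29), 2), ((2, 36), 1), ((2, 42), 2), ((2, 66), 2), ((2, 78), 2), ((2, 84), 1), ((1, 0), 1), ((1, 2), 2), ((1, 6), 2), ((1, 11), 1), ((1, 13), 2), ((1, 15), 1), ((1, 21), 1), ((1, 30), 2), ((1, 37), 2), ((1, 44), 2), ((1, 53), 2), ((1, 57), 1), ((1, 60), 1), ((3, 3), 2), ((3, 11), 2), ((3, 39), 1), ((3, 89), 2), ((3, 35), 1), ((4, 83), 2), ((4, 117), 2), ((4, 121), 1), ((3, 0), 1), ((3, 2), 1), ((3, 4), 1), ((3, 6), 2), ((3, 8), 2), ((3, 9), 1), ((3, 12), 1), ((3, 15), 1), ((3, 19), 1), ((3, 22), 1), ((3, 23), 1), ((3, 29), 1), ((3, 43), 2), ((3, 44), 1),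 ((3, 47), 2), ((3, 53), 1), ((3, 57), 1), ((3, 63), 1), ((3, 67), 1), ((3, 82), 2), ((5, 97), 1), ((4, 88), 1), ((4, 95), 1), ((5, 1), 1), ((5, 39), 1), ((5, 45), 1), ((5, 40), 1), ((5, 54), 1), ((5, 8), 1), ((5, 52), 1), ((5, 73), 1), ((5, 100), 2), ((5, 101), 2), ((5, 115), 2), ((5, 122), 2), ((4, 21), 2), ((4, 50), 2), ((4, 59), 1), ((4, 77), 2), ((4, 126), 2), ((5, 37), 1), ((4, 6), 1), ((4, 9), 2), ((4, 36), 1), ((5, 51), 2), ((5, 92), 1), ((5, 103), 1), ((5, 29), 2), ((5, 66), 1), ((5, 83), 1), ((5, 126), 1), ((4, 92), 1)],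
  [((0, 1), 1), ((0, 2), 2), ((0, 4), 1), ((0, 5), 2), ((0, 9), 1), ((0, 11), 2), ((0, 18), 1), ((0, 23), 2), ((0, 35), 1), ((0, 44), 2), ((0, 63), 1), ((0, 74), 2), ((0, 99), 1), ((0, 108), 2), ((0, 128), 1), ((1, 89), 1), ((2, 0), 2), ((2, 5), 1), ((2, 7), 1), ((2, 8), 2), ((2, 10), 1), ((2, 12), 2), ((2, 14), 2), ((2, 16), 2), ((2, 18), 1), ((2, 20), 2), ((2, 22), 2), ((2, 26), 2), ((2, 27), 1), ((2, 29), 1), ((2, 31), 1), ((2, 36), 2), ((2, 40), 1), ((2, 49), 2), ((2, 59), 2), ((2, 61), 1), ((2, 66), 2), ((2, 84), 2), ((2, 88), 1), ((2, 94), 2), ((1, 0), 2), ((1, 2), 2), ((1, 4), 2), ((1, 6), 1), ((1, 9), 1), ((1, 11), 1), ((1, 13), 1), ((1, 15), 2), ((1, 21), 1), ((1, 30), 1), ((1, 37), 2), ((1, 44), 1), ((1, 53), 2), ((1, 58), 1), ((1, 60), 1), ((1, 69), 1), ((3, 3), 1), ((3, 11), 1), ((3, 39), 2), ((3, 89), 2), ((3, 92),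 1), ((3, 35), 1), ((4, 106), 1), ((4, 117), 1), ((4, 121), 2), ((3, 0), 1), ((3, 1), 2), ((3, 4), 2), ((3, 7), 2), ((3, 8), 1), ((3, 12), 2), ((3, 13), 2), ((3, 15), 2), ((3, 19), 1), ((3, 23), 2), ((3, 27), 2), ((3, 29), 1), ((3, 31), 1), ((3, 32), 2), ((3, 33), 2), ((3, 36), 1), ((3, 38), 2), ((3, 43), 1), ((3, 44), 1), ((3, 47), 2), ((3, 53), 1), ((3, 57), 1), ((3, 63), 2), ((3, 67), 1), ((3, 74), 2), ((3, 82), 1), ((5, 76), 2), ((4, 95), 1), ((5, 39), 2), ((5, 45), 2), ((5, 89), 1), ((5, 40), 1), ((5, 8), 2), ((5, 52), 2), ((5, 73), 2), ((5, 109), 1), ((5, 115), 2), ((4, 21), 1), ((4, 50), 1), ((5, 37), 1), ((4, 6), 1), ((4, 9), 1), ((4, 36), 1), ((4, 86), 1), ((5, 11), 2), ((5, 51), 2), ((5, 93), 2), ((5, 103), 2), ((5, 117), 2), ((5, 29), 2), ((5, 66), 2), ((5, 126), 1), ((4, 92), 1)],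
  [((0, 10), 1), ((0, 11), 2), ((0, 20), 1), ((0, 23), 2), ((0, 39), 1), ((0, 44), 2), ((0, 69), 1), ((0, 74), 2), ((0, 103), 1), ((0, 109), 2), ((1, 39), 2), ((1, 89), 1), ((2, 5), 1), ((2, 7), 1), ((2, 8), 1), ((2, 10), 2), ((2, 14), 2), ((2, 18), 1), ((2, 22), 2), ((2, 26), 1), ((2, 36), 1), ((2, 59), 1), ((2, 61), 2), ((2, 78), 1), ((2, 88), 2), ((2, 94), 2), ((1, 0), 2), ((1, 6), 1), ((1, 13), 1), ((1, 15), 1), ((1, 17), 1), ((1, 21), 1), ((1, 30), 1), ((1, 44), 2), ((1, 53), 2), ((1, 57), 2), ((1, 58), 2), ((1, 60), 2), ((3, 11), 2), ((3, 89), 2), ((3, 92), 2), ((3, 35), 1), ((4, 83), 1), ((4, 121), 2), ((3, 1), 2), ((3, 6), 2), ((3, 8), 2), ((3, 9), 2), ((3, 13), 2), ((3, 15), 2), ((3, 22), 1), ((3, 27), 2), ((3, 29), 1), ((3, 30), 2), ((3, 31), 2), ((3, 36), 1), ((3, 44), 1), ((3, 47), 1), ((3, 61), 1), ((3, 63), 1), ((3,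 88), 1), ((5, 76), 1), ((5, 97), 1), ((5, 45), 1), ((5, 8), 2), ((5, 100), 2), ((5, 101), 1), ((5, 109), 1), ((5, 115), 1), ((5, 122), 2), ((4, 4), 2), ((4, 12), 1), ((4, 21), 2), ((4, 50), 2), ((4, 126), 1), ((4, 2), 1), ((4, 6), 1), ((4, 36), 1), ((5, 92), 1), ((5, 103), 2), ((5, 117), 1), ((5, 29), 1), ((5, 66), 1), ((5, 83), 2), ((4, 92), 1), ((5, 7), 1)],
  [((0, 74), 1), ((0, 75), 2), ((0, 109), 1), ((0, 110), 2), ((1, 39), 1), ((1, 89), 1), ((2, 0), 2), ((2, 1), 1), ((2, 5), 2), ((2, 7), 2), ((2, 12), 2), ((2, 14), 2), ((2, 18), 1), ((2, 20), 2), ((2, 22), 1), ((2, 26), 2), ((2, 29), 1), ((2, 36), 1), ((2, 40), 2), ((2, 66), 1), ((2, 78), 1), ((2, 88), 2), ((2, 94), 2), ((1, 0), 1), ((1, 2), 1), ((1, 6), 1), ((1, 9), 1), ((1, 11), 2), ((1, 13), 2), ((1, 15), 1), ((1, 21), 1), ((1, 30), 1), ((1, 37), 2), ((1, 44), 1), ((1,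 53), 2), ((1, 57), 1), ((1, 58), 2), ((1, 60), 1), ((1, 65), 2), ((1, 69), 1), ((3, 3), 1), ((3, 11), 1), ((3, 17), 1), ((3, 92), 1), ((3, 35), 1), ((4, 83), 1), ((4, 106), 1), ((4, 117), 1), ((3, 4), 2), ((3, 6), 1), ((3, 7), 2), ((3, 12), 1), ((3, 13), 1), ((3, 15), 2), ((3, 22), 2), ((3, 23), 1), ((3, 27), 1), ((3, 29), 2), ((3, 33), 1), ((3, 36), 1), ((3, 44), 1), ((3, 47), 2), ((3, 55), 1), ((3, 57), 1), ((3, 61), 1), ((3, 67), 1), ((3, 82), 2), ((3, 88), 2), ((4, 76), 2), ((4, 88), 2), ((5, 1), 2), ((5, 89), 1), ((5, 40), 1), ((5, 8), 2), ((5, 73), 2), ((5, 100), 2), ((5, 101), 2), ((5, 109), 1), ((5, 122), 2), ((4, 4), 2), ((4, 12), 2), ((4, 21), 1), ((4, 50), 1), ((4, 59), 2), ((4, 77), 2), ((4, 126), 1), ((4, 2), 1), ((4, 6), 2), ((4, 36), 1), ((5, 11), 2), ((5, 93), 1), ((5, 117), 2), ((5, 29), 2), ((5, 66), 1), ((5, 83),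 1), ((5, 126), 2), ((4, 92), 2), ((5, 7), 1)],
  [((0, 129), 1)],
  [((0, 1), 1), ((0, 2), 2), ((0, 4), 1), ((0, 6), 2), ((0, 9), 1), ((0, 12), 2), ((0, 25), 2), ((0, 46), 2), ((0, 78), 2), ((0, 112), 2), ((1, 89), 1), ((2, 0), 2), ((2, 5), 2), ((2, 8), 1), ((2, 12), 1), ((2, 22), 1), ((2, 26), 2), ((2, 36), 1), ((2, 40), 2), ((2, 42), 1), ((2, 59), 2), ((2, 66), 2), ((2, 78), 1), ((2, 84), 2), ((2, 94), 2), ((1, 2), 2), ((1, 4), 2), ((1, 9), 1), ((1, 11), 1), ((1, 15), 1), ((1, 30), 1), ((1, 37), 1), ((1, 44), 1), ((1, 57), 1), ((1, 58), 2), ((1, 60), 2), ((1, 69), 2), ((3, 11), 2), ((3, 17), 1), ((3, 89), 1), ((3, 92), 1), ((4, 83), 1), ((4, 106), 1), ((4, 117), 2), ((4, 121), 2), ((3, 0), 2), ((3, 1), 1), ((3, 2), 2), ((3, 6), 1), ((3, 7), 1), ((3, 9), 1), ((3, 12), 2), ((3, 13), 2), ((3, 19), 1), ((3, 22), 2), ((3, 29), 1),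 ((3, 30), 1), ((3, 32), 2), ((3, 33), 2), ((3, 36), 1), ((3, 43), 1), ((3, 53), 2), ((3, 57), 1), ((3, 61), 2), ((3, 63), 2), ((3, 81), 2), ((3, 82), 1), ((3, 88), 1), ((4, 76), 2), ((5, 76), 1), ((5, 97), 1), ((4, 88), 1), ((4, 95), 2), ((5, 1), 2), ((5, 39), 2), ((5, 89), 2), ((5, 54), 1), ((5, 8), 1), ((5, 52), 1), ((5, 100), 2), ((5, 115), 1), ((4, 4), 2), ((4, 21), 2), ((4, 50), 1), ((4, 59), 1), ((4, 126), 2), ((5, 37), 2), ((4, 2), 2), ((4, 6), 2), ((4, 9), 2), ((4, 86), 1), ((5, 51), 1), ((5, 93), 1), ((5, 117), 1), ((5, 83), 1), ((4, 92), 1), ((5, 7), 1)],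
  [((0, 1), 1), ((0, 2), 2), ((0, 4), 1), ((0, 6), 2), ((0, 8), 1), ((0, 12), 2), ((0, 16), 1), ((0, 25), 2), ((0, 31), 1), ((0, 47), 2), ((0, 57), 1), ((0, 80), 2), ((0, 91), 1), ((0, 113), 2), ((1, 39), 1), ((1, 89), 1), ((2, 0), 2), ((2, 7), 2), ((2, 8), 2), ((2, 12), 2), ((2, 16), 2), ((2, 20), 1), ((2, 22), 2), ((2, 26), 2), ((2, 31), 2), ((2, 36), 1), ((2, 40), 1), ((2, 59), 1), ((2, 61), 1), ((2, 66), 2), ((2, 78), 2), ((2, 84), 2), ((2, 88), 2), ((2, 94), 2), ((1, 2), 1), ((1, 4), 1), ((1, 6), 2), ((1, 9), 2), ((1, 11), 1), ((1, 13), 2), ((1, 37), 1), ((1, 53), 1), ((1, 57), 1), ((1, 60), 2), ((1, 65), 2), ((1, 69), 2), ((3, 3), 1), ((3, 11), 2), ((3, 17), 2), ((3, 39), 2), ((3, 92), 1), ((3, 35), 2), ((4, 83), 2), ((4, 106), 2), ((3, 0), 2), ((3, 1), 2), ((3, 2), 2), ((3, 6), 2), ((3, 7), 2), ((3, 9), 1), ((3, 19), 2),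 ((3, 22), 1), ((3, 23), 2), ((3, 27), 1), ((3, 29), 1), ((3, 30), 2), ((3, 31), 1), ((3, 32), 2), ((3, 36), 1), ((3, 40), 1), ((3, 43), 1), ((3, 44), 2), ((3, 53), 2), ((3, 55), 1), ((3, 67), 2), ((3, 74), 1), ((3, 82), 1), ((4, 76), 1), ((5, 76), 1), ((5, 97), 2), ((4, 88), 2), ((4, 95), 2), ((5, 39), 2), ((5, 89), 2), ((5, 40), 2), ((5, 54), 2), ((5, 52), 1), ((5, 73), 2), ((5, 101), 1), ((5, 122), 1), ((4, 12), 2), ((4, 50), 2), ((4, 59), 2), ((4, 77), 1), ((4, 2), 1), ((4, 6), 1), ((4, 9), 2), ((4, 36), 1), ((4, 86), 2), ((5, 51), 1), ((5, 92), 1), ((5, 93), 2), ((5, 103), 1), ((5, 117), 1), ((5, 29), 1), ((5, 66), 2), ((5, 126), 1), ((4, 92), 1), ((5, 7), 1)],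
  [((0, 1), 1), ((0, 2), 2), ((0, 4), 1), ((0, 6), 2), ((0, 8), 1), ((0, 12), 2), ((0, 16), 1), ((0, 25), 2), ((0, 32), 1), ((0, 47), 2), ((0, 58), 1), ((0, 81), 2), ((0, 93), 1), ((0, 114), 2), ((1, 39), 2), ((2, 0), 1), ((2, 5), 2), ((2, 7), 1), ((2, 14), 1), ((2, 16), 1), ((2, 18), 1), ((2, 29), 2), ((2, 36), 1), ((2, 40), 1), ((2, 59), 2), ((2, 66), 2), ((2, 78), 1), ((2, 84), 2), ((2, 88), 2), ((1, 0), 2), ((1, 2), 2), ((1, 6), 2), ((1, 11), 1), ((1, 13), 2), ((1, 17), 1), ((1, 21), 2), ((1, 30), 1), ((1, 44), 2), ((1, 53), 2), ((1, 58), 1), ((1, 60), 1), ((1, 65), 2), ((1, 69), 1), ((3, 11), 1), ((3, 17), 1), ((3, 39), 2), ((3, 89), 1), ((3, 92), 2), ((4, 83), 2), ((4, 117), 2), ((4, 121), 1), ((3, 0), 2), ((3, 2), 2), ((3, 4), 1), ((3, 6), 2), ((3, 8), 2), ((3, 12), 2), ((3, 13), 2), ((3, 15), 2), ((3, 19), 1), ((3, 22),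 2), ((3, 27), 2), ((3, 29), 1), ((3, 30), 1), ((3, 31), 2), ((3, 33), 1), ((3, 40), 1), ((3, 43), 1), ((3, 47), 2), ((3, 57), 2), ((3, 61), 1), ((3, 74), 1), ((3, 81), 1), ((3, 82), 1), ((4, 76), 2), ((5, 97), 1), ((4, 88), 1), ((4, 95), 1), ((5, 1), 2), ((5, 39), 1), ((5, 54), 2), ((5, 8), 2), ((5, 73), 1), ((5, 100), 2), ((5, 122), 2), ((4, 12), 1), ((4, 59), 1), ((4, 2), 1), ((4, 6), 2), ((4, 36), 1), ((4, 86), 1), ((5, 11), 2), ((5, 51), 2), ((5, 93), 1), ((5, 103), 2), ((5, 117), 1), ((5, 29), 2), ((5, 66), 2), ((5, 83), 2), ((5, 126), 2), ((4, 92), 2), ((5, 7), 1)],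
  [((0, 1), 1), ((0, 2), 2), ((0, 3), 1), ((0, 6), 2), ((0, 7), 1), ((0, 12), 2), ((0, 15), 1), ((0, 25), 2), ((0, 30), 1), ((0, 47), 2), ((0, 54), 1), ((0, 81), 2), ((0, 86), 1), ((0, 115), 2), ((0, 118), 1), ((1, 39), 2), ((2, 1), 2), ((2, 5), 1), ((2, 8), 1), ((2, 10), 1), ((2, 14), 2), ((2, 16), 2), ((2, 22), 2), ((2, 26), 2), ((2, 27), 1), ((2, 29), 2), ((2, 31), 2), ((2, 36), 1), ((2, 42), 1), ((2, 49), 1), ((2, 59), 1), ((2, 61), 2), ((2, 66), 2), ((2, 88), 1), ((1, 4), 1), ((1, 6), 1), ((1, 9), 2), ((1, 13), 2), ((1, 15), 2), ((1, 17), 1), ((1, 21), 1), ((1, 30), 1), ((1, 57), 2), ((1, 58), 2), ((1, 65), 1), ((3, 3), 2), ((3, 17), 1), ((3, 39), 1), ((3, 35), 2), ((4, 83), 2), ((4, 117), 2), ((4, 121), 2), ((3, 4), 1), ((3, 6), 1), ((3, 7), 1), ((3, 8), 2), ((3, 9), 2), ((3, 12), 1), ((3, 13), 1), ((3, 19), 1), ((3, 31),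 2), ((3, 32), 2), ((3, 38), 2), ((3, 40), 2), ((3, 55), 2), ((3, 57), 1), ((3, 61), 1), ((3, 63), 1), ((3, 74), 2), ((3, 81), 2), ((3, 82), 1), ((3, 88), 2), ((4, 76), 2), ((5, 76), 1), ((4, 95), 2), ((5, 39), 1), ((5, 40), 2), ((5, 8), 1), ((5, 73), 1), ((5, 100), 2), ((5, 101), 1), ((5, 115), 2), ((5, 122), 2), ((4, 4), 1), ((4, 12), 2), ((4, 21), 1), ((4, 50), 1), ((4, 77), 2), ((4, 126), 2), ((4, 6), 1), ((4, 36), 1), ((5, 11), 2), ((5, 51), 2), ((5, 92), 2), ((5, 103), 1), ((5, 117), 2), ((5, 7), 2)],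
  [((0, 3), 2), ((0, 4), 1), ((0, 7), 2), ((0, 9), 1), ((0, 15), 2), ((0, 19), 1), ((0, 29), 2), ((0, 37), 1), ((0, 52), 2), ((0, 83), 2), ((0, 116), 2), ((2, 1), 2), ((3, 3), 2), ((3, 7), 1)],
  [((0, 3), 2), ((0, 4), 1), ((0, 7), 2), ((0, 8), 1), ((0, 15), 2), ((0, 17), 1), ((0, 29), 2), ((0, 33), 1), ((0, 53), 2), ((0, 60), 1), ((0, 85), 2), ((0, 117), 2), ((1, 39), 2), ((1, 89), 1), ((2, 0), 2), ((2, 1), 1), ((2, 7), 1), ((2, 10), 1), ((2, 12), 2), ((2, 18), 2), ((2, 20), 2), ((2, 26), 2), ((2, 27), 1), ((2, 31), 2), ((2, 42), 1), ((2, 49), 1), ((2, 59), 1), ((2, 61), 1), ((2, 66), 1), ((2, 78), 2), ((2, 84), 1), ((1, 0), 2), ((1, 2), 1), ((1, 4), 1), ((1, 6), 1), ((1, 9), 1), ((1, 11), 1), ((1, 13), 1), ((1, 17), 1), ((1, 21), 1), ((1, 30), 2), ((1, 44), 2), ((1, 58), 1), ((1, 60), 2), ((1, 65), 2), ((1, 69), 2), ((3, 11),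 1), ((3, 17), 1), ((3, 39), 1), ((3, 89), 1), ((3, 92), 2), ((3, 35), 2), ((4, 106), 1), ((4, 117), 2), ((3, 6), 1), ((3, 7), 2), ((3, 8), 1), ((3, 9), 1), ((3, 13), 2), ((3, 15), 1), ((3, 23), 1), ((3, 27), 2), ((3, 29), 1), ((3, 31), 1), ((3, 32), 2), ((3, 33), 2), ((3, 38), 2), ((3, 40), 2), ((3, 43), 2), ((3, 44), 2), ((3, 47), 1), ((3, 53), 2), ((3, 55), 1), ((3, 57), 1), ((3, 63), 2), ((3, 67), 1), ((3, 74), 1), ((3, 81), 1), ((3, 82), 1), ((3, 88), 1), ((4, 76), 1), ((5, 76), 1), ((4, 88), 1), ((4, 95), 2), ((5, 1), 1), ((5, 45), 1), ((5, 89), 2), ((5, 40), 1), ((5, 54), 2), ((5, 8), 2), ((5, 100), 2), ((5, 122), 2), ((4, 4), 2), ((4, 21), 2), ((4, 50), 2), ((4, 59), 1), ((4, 77), 1), ((5, 37), 1), ((4, 6), 1), ((4, 9), 2), ((5, 11), 2), ((5, 93), 2), ((5, 103), 1), ((5, 29), 1), ((5, 66), 1), ((5, 83), 1), ((5, 126), 2),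 ((5, 7), 2)],
  [((0, 1), 2), ((0, 2), 1), ((0, 3), 2), ((0, 6), 1), ((0, 7), 2), ((0, 12), 1), ((0, 15), 2), ((0, 25), 1), ((0, 30), 2), ((0, 46), 1), ((0, 54), 2), ((0, 78), 1), ((0, 86), 2), ((0, 112), 1), ((0, 118), 2), ((0, 130), 1), ((1, 39), 2), ((1, 89), 1), ((2, 7), 1), ((2, 10), 2), ((2, 12), 2), ((2, 18), 1), ((2, 20), 2), ((2, 22), 2), ((2, 26), 1), ((2, 27), 2), ((2, 29), 1), ((2, 36), 2), ((2, 42), 2), ((2, 49), 2), ((2, 59), 1), ((2, 61), 2), ((2, 84), 1), ((2, 88), 2), ((1, 6), 1), ((1, 9), 2), ((1, 11), 2), ((1, 15), 1), ((1, 17), 1), ((1, 21), 1), ((1, 37), 2), ((1, 44), 1), ((1, 57), 2), ((1, 58), 1), ((1, 60), 2), ((1, 69), 2), ((3, 3), 2), ((3, 11), 2), ((3, 17), 1), ((3, 89), 2), ((4, 83), 1), ((4, 117), 1), ((4, 121), 2), ((3, 0), 2), ((3, 2), 2), ((3, 4), 2), ((3, 6), 1), ((3, 8), 1), ((3, 9), 1), ((3, 13),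 2), ((3, 22), 2), ((3, 23), 1), ((3, 27), 2), ((3, 29), 2), ((3, 30), 1), ((3, 31), 2), ((3, 38), 1), ((3, 43), 2), ((3, 44), 1), ((3, 47), 1), ((3, 53), 2), ((3, 55), 1), ((3, 61), 1), ((3, 63), 1), ((3, 67), 1), ((3, 74), 1), ((3, 88), 2), ((4, 76), 1), ((5, 76), 1), ((5, 97), 1), ((4, 88), 1), ((5, 89), 2), ((5, 40), 1), ((5, 8), 2), ((5, 73), 2), ((5, 100), 1), ((5, 101), 2), ((5, 122), 1), ((4, 12), 2), ((4, 59), 1), ((4, 126), 1), ((5, 37), 1), ((4, 2), 1), ((4, 6), 1), ((4, 9), 2), ((4, 36), 2), ((5, 51), 2), ((5, 92), 1), ((5, 117), 1), ((5, 66), 2), ((5, 83), 2), ((5, 126), 2), ((4, 92), 2)],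
  [((0, 1), 2), ((0, 2), 1), ((0, 3), 2), ((0, 6), 1), ((0, 7), 2), ((0, 12), 1), ((0, 15), 2), ((0, 24), 1), ((0, 30), 2), ((0, 45), 1), ((0, 55), 2), ((0, 77), 1), ((0, 87), 2), ((0, 119), 2), ((1, 89), 1), ((2, 0), 2), ((2, 1), 2), ((2, 5), 1), ((2, 7), 1), ((2, 8), 2), ((2, 10), 1), ((2, 12), 1), ((2, 16), 1), ((2, 22), 1), ((2, 26), 1), ((2, 27), 2), ((2, 29), 1), ((2, 31), 2), ((2, 42), 2), ((2, 49), 2), ((2, 59), 2), ((2, 61), 2), ((2, 66), 1), ((2, 84), 2), ((2, 88), 1), ((2, 94), 2), ((1, 2), 2), ((1, 4), 2), ((1, 9), 2), ((1, 11), 1), ((1, 15), 1), ((1, 17), 1), ((1, 30), 2), ((1, 53), 2), ((1, 57), 2), ((1, 60), 2), ((1, 65), 1), ((1, 69), 1), ((3, 3), 2), ((3, 17), 2), ((3, 89), 2), ((3, 92), 1), ((4, 83), 1), ((4, 106), 2), ((4, 117), 2), ((4, 121), 1), ((3, 0), 2), ((3, 1), 2), ((3, 2), 2), ((3, 4), 2), ((3, 6), 1),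 ((3, 7), 2), ((3, 8), 2), ((3, 9), 2), ((3, 12), 2), ((3, 13), 2), ((3, 15), 2), ((3, 19), 2), ((3, 22), 2), ((3, 27), 2), ((3, 30), 2), ((3, 31), 1), ((3, 32), 2), ((3, 36), 1), ((3, 38), 1), ((3, 40), 1), ((3, 43), 1), ((3, 53), 1), ((3, 55), 2), ((3, 63), 1), ((3, 74), 2), ((3, 88), 2), ((4, 76), 2), ((5, 76), 2), ((5, 97), 1), ((4, 88), 1), ((4, 95), 2), ((5, 1), 1), ((5, 45), 1), ((5, 89), 1), ((5, 40), 1), ((5, 54), 2), ((5, 8), 2), ((5, 52), 2), ((5, 73), 1), ((5, 100), 2), ((5, 115), 2), ((4, 12), 2), ((4, 21), 1), ((4, 50), 2), ((4, 59), 1), ((4, 77), 1), ((5, 37), 2), ((4, 6), 1), ((4, 9), 2), ((4, 36), 2), ((4, 86), 2), ((5, 11), 2), ((5, 51), 1), ((5, 92), 2), ((5, 93), 2), ((5, 103), 1), ((5, 117), 1), ((5, 66), 1), ((5, 83), 2), ((5, 126), 2), ((4, 92), 2), ((5, 7), 2)],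
  [((0, 1), 2), ((0, 2), 1), ((0, 4), 2), ((0, 5), 1), ((0, 8), 2), ((0, 10), 1), ((0, 16), 2), ((0, 21), 1), ((0, 31), 2), ((0, 41), 1), ((0, 56), 2), ((0, 71), 1), ((0, 88), 2), ((0, 105), 1), ((0, 120), 2), ((1, 39), 2), ((1, 89), 2), ((2, 0), 2), ((2, 5), 1), ((2, 7), 2), ((2, 8), 1), ((2, 10), 1), ((2, 14), 2), ((2, 16), 2), ((2, 18), 2), ((2, 22), 1), ((2, 26), 2), ((2, 29), 1), ((2, 36), 2), ((2, 40), 1), ((2, 42), 1), ((2, 49), 2), ((2, 59), 2), ((2, 61), 2), ((2, 78), 1), ((2, 88), 2), ((2, 94), 2), ((1, 0), 1), ((1, 4), 1), ((1, 9), 2), ((1, 11), 2), ((1, 13), 2), ((1, 15), 2), ((1, 21), 1), ((1, 30), 2), ((1, 37), 2), ((1, 44), 2), ((1, 57), 2), ((1, 58), 2), ((1, 60), 1), ((1, 65), 2), ((3, 3), 1), ((3, 17), 2), ((3, 39), 1), ((3, 89), 2), ((3, 92), 1), ((3, 35), 1), ((4, 83), 2), ((4, 117), 2), ((3, 1), 2), ((3, 2),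 1), ((3, 4), 2), ((3, 8), 2), ((3, 12), 1), ((3, 13), 2), ((3, 22), 2), ((3, 23), 2), ((3, 27), 1), ((3, 29), 2), ((3, 30), 1), ((3, 33), 1), ((3, 36), 1), ((3, 40), 2), ((3, 44), 2), ((3, 47), 1), ((3, 53), 2), ((3, 55), 2), ((3, 57), 2), ((3, 63), 1), ((3, 74), 1), ((3, 81), 1), ((4, 76), 2), ((5, 97), 1), ((4, 88), 1), ((4, 95), 2), ((5, 1), 1), ((5, 39), 1), ((5, 40), 2), ((5, 8), 2), ((5, 52), 2), ((5, 73), 1), ((5, 101), 2), ((5, 115), 1), ((5, 122), 1), ((4, 12), 2), ((4, 50), 1), ((4, 59), 1), ((4, 77), 1), ((4, 126), 2), ((5, 37), 2), ((4, 2), 2), ((4, 6), 2), ((4, 9), 1), ((4, 36), 2), ((4, 86), 2), ((5, 51), 1), ((5, 92), 1), ((5, 103), 1), ((5, 117), 1), ((5, 83), 1), ((5, 126), 1), ((4, 92), 2), ((5, 7), 2)],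
  [((0, 8), 2), ((0, 9), 1), ((0, 16), 2), ((0, 18), 1), ((0, 31), 2), ((0, 34), 1), ((0, 57), 2), ((0, 61), 1), ((0, 90), 2), ((0, 97), 1), ((0, 121), 2), ((1, 39), 2), ((1, 89), 2), ((2, 0), 2), ((2, 7), 2), ((2, 10), 1), ((2, 12), 1), ((2, 14), 2), ((2, 18), 2), ((2, 20), 1), ((2, 26), 2), ((2, 27), 1), ((2, 29), 1), ((2, 31), 1), ((2, 36), 1), ((2, 40), 2), ((2, 49), 1), ((2, 59), 2), ((2, 61), 1), ((2, 78), 2), ((2, 88), 2), ((2, 94), 1), ((1, 0), 1), ((1, 4), 1), ((1, 6), 1), ((1, 9), 1), ((1, 13), 1), ((1, 15), 1), ((1, 17), 2), ((1, 21), 1), ((1, 30), 2), ((1, 37), 1), ((1, 44), 1), ((1, 53), 1), ((1, 57), 1), ((1, 58), 2), ((1, 60), 2), ((1, 65), 2), ((1, 69), 2), ((3, 3), 1), ((3, 11), 1), ((3, 39), 1), ((3, 89), 2), ((3, 92), 2), ((3, 35), 1), ((4, 83), 2), ((4, 106), 2), ((4, 117), 1), ((4, 121), 1), ((3, 0), 1), ((3,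 2), 1), ((3, 4), 2), ((3, 6), 2), ((3, 8), 2), ((3, 9), 2), ((3, 13), 2), ((3, 15), 1), ((3, 19), 2), ((3, 22), 1), ((3, 23), 2), ((3, 27), 1), ((3, 31), 2), ((3, 32), 2), ((3, 36), 2), ((3, 38), 2), ((3, 57), 2), ((3, 61), 2), ((3, 63), 2), ((3, 67), 2), ((3, 74), 2), ((3, 81), 2), ((3, 82), 1), ((4, 76), 1), ((5, 76), 1), ((4, 88), 1), ((5, 1), 2), ((5, 45), 2), ((5, 89), 1), ((5, 54), 1), ((5, 8), 2), ((5, 100), 2), ((5, 101), 2), ((5, 109), 1), ((5, 115), 1), ((4, 12), 1), ((4, 50), 2), ((4, 59), 1), ((4, 126), 1), ((4, 2), 2), ((4, 6), 2), ((4, 86), 1), ((5, 93), 2), ((5, 103), 1), ((5, 117), 2), ((5, 66), 2), ((5, 83), 2), ((5, 126), 1), ((5, 7), 2)],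
  [((0, 132), 1)],
  [((0, 8), 2), ((0, 9), 1), ((0, 16), 2), ((0, 18), 1), ((0, 32), 2), ((0, 35), 1), ((0, 58), 2), ((0, 63), 1), ((0, 92), 2), ((0, 123), 2), ((1, 39), 2), ((1, 89), 1), ((2, 0), 2), ((2, 7), 1), ((2, 8), 2), ((2, 16), 1), ((2, 18), 2), ((2, 20), 1), ((2, 26), 1), ((2, 27), 1), ((2, 31), 2), ((2, 36), 1), ((2, 40), 1), ((2, 49), 1), ((2, 59), 1), ((2, 61), 2), ((2, 84), 2), ((2, 94), 1), ((1, 0), 2), ((1, 4), 2), ((1, 6), 1), ((1, 13), 2), ((1, 15), 1), ((1, 21), 1), ((1, 30), 1), ((1, 44), 1), ((1, 53), 2), ((1, 58), 2), ((1, 69), 1), ((3, 3), 2), ((3, 17), 1), ((3, 89), 2), ((3, 92), 2), ((3, 35), 2), ((4, 83), 2), ((4, 106), 2), ((3, 0), 1), ((3, 1), 2), ((3, 2), 1), ((3, 6), 1), ((3, 7), 2), ((3, 8), 1), ((3, 9), 1), ((3, 13), 1), ((3, 15), 2), ((3, 19), 1), ((3, 22), 2), ((3, 23), 2), ((3, 27), 2), ((3, 29),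 1), ((3, 30), 1), ((3, 31), 2), ((3, 32), 1), ((3, 33), 1), ((3, 36), 2), ((3, 38), 2), ((3, 40), 1), ((3, 43), 1), ((3, 47), 2), ((3, 53), 1), ((3, 61), 1), ((3, 67), 2), ((3, 74), 1), ((3, 82), 2), ((3, 88), 2), ((4, 76), 1), ((5, 76), 1), ((5, 97), 1), ((4, 88), 2), ((4, 95), 1), ((5, 1), 2), ((5, 39), 2), ((5, 45), 2), ((5, 89), 2), ((5, 40), 2), ((5, 8), 1), ((5, 100), 1), ((5, 109), 1), ((5, 115), 2), ((5, 122), 1), ((4, 4), 1), ((4, 21), 1), ((4, 50), 2), ((4, 59), 2), ((4, 126), 2), ((5, 37), 2), ((4, 86), 1), ((5, 51), 2), ((5, 92), 2), ((5, 103), 2), ((5, 66), 2), ((5, 126), 2), ((4, 92), 1)],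
  [((0, 1), 2), ((0, 2), 1), ((0, 4), 2), ((0, 5), 1), ((0, 8), 2), ((0, 11), 1), ((0, 16), 2), ((0, 22), 1), ((0, 32), 2), ((0, 43), 1), ((0, 58), 2), ((0, 73), 1), ((0, 93), 2), ((0, 124), 2), ((1, 39), 2), ((2, 1), 2), ((2, 5), 2), ((2, 8), 1), ((2, 14), 1), ((2, 16), 1), ((2, 18), 1), ((2, 20), 2), ((2, 22), 2), ((2, 26), 1), ((2, 29), 2), ((2, 36), 1), ((2, 40), 1), ((2, 61), 1), ((2, 66), 1), ((2, 84), 1), ((2, 94), 1), ((1, 0), 2), ((1, 2), 1), ((1, 4), 1), ((1, 6), 1), ((1, 9), 2), ((1, 15), 1), ((1, 21), 1), ((1, 30), 1), ((1, 37), 2), ((1, 44), 1), ((1, 53), 2), ((1, 60), 1), ((1, 65), 1), ((1, 69), 2), ((3, 3), 2), ((3, 17), 1), ((3, 92), 2), ((4, 83), 1), ((4, 106), 2), ((4, 121), 1), ((3, 1), 1), ((3, 4), 1), ((3, 6), 1), ((3, 7), 1), ((3, 8), 2), ((3, 12), 2), ((3, 15), 1), ((3, 19), 1), ((3, 23), 1), ((3, 29), 1),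 ((3, 30), 2), ((3, 31), 2), ((3, 33), 1), ((3, 36), 2), ((3, 43), 2), ((3, 44), 2), ((3, 47), 1), ((3, 55), 2), ((3, 57), 1), ((3, 61), 2), ((3, 63), 2), ((3, 67), 1), ((3, 74), 1), ((3, 81), 1), ((3, 82), 2), ((3, 88), 1), ((4, 76), 2), ((4, 88), 1), ((5, 1), 1), ((5, 45), 2), ((5, 89), 1), ((5, 40), 2), ((5, 73), 1), ((5, 101), 2), ((5, 109), 1), ((5, 115), 1), ((5, 122), 2), ((4, 4), 1), ((4, 21), 1), ((4, 50), 2), ((4, 59), 1), ((4, 77), 2), ((5, 37), 2), ((4, 9), 1), ((4, 36), 2), ((5, 11), 2), ((5, 92), 2), ((5, 103), 1), ((5, 117), 1), ((5, 29), 1), ((5, 66), 2), ((5, 83), 1), ((5, 126), 1), ((4, 92), 1), ((5, 7), 1)],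
  [((0, 1), 2), ((0, 2), 1), ((0, 4), 2), ((0, 6), 1), ((0, 8), 2), ((0, 12), 1), ((0, 17), 2), ((0, 24), 1), ((0, 33), 2), ((0, 45), 1), ((0, 59), 2), ((0, 77), 1), ((0, 94), 2), ((0, 111), 1), ((0, 125), 2), ((1, 39), 1), ((1, 89), 1), ((2, 0), 2), ((2, 7), 2), ((2, 8), 2), ((2, 10), 1), ((2, 12), 1), ((2, 18), 1), ((2, 22), 1), ((2, 26), 1), ((2, 27), 2), ((2, 29), 2), ((2, 31), 2), ((2, 36), 2), ((2, 40), 2), ((2, 49), 2), ((2, 59), 1), ((2, 66), 2), ((2, 84), 1), ((2, 88), 2), ((2, 94), 2), ((1, 0), 1), ((1, 2), 1), ((1, 4), 2), ((1, 6), 2), ((1, 9), 1), ((1, 15), 1), ((1, 17), 2), ((1, 30), 2), ((1, 44), 2), ((1, 57), 1), ((1, 58), 2), ((1, 60), 1), ((1, 69), 1), ((3, 3), 1), ((3, 11), 2), ((3, 17), 2), ((3, 39), 1), ((3, 92), 1), ((3, 35), 1), ((4, 83), 1), ((4, 117), 2), ((4, 121), 2), ((3, 0), 1), ((3, 2), 1), ((3, 4),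 1), ((3, 7), 1), ((3, 8), 2), ((3, 9), 1), ((3, 12), 2), ((3, 19), 2), ((3, 27), 1), ((3, 30), 2), ((3, 31), 2), ((3, 32), 2), ((3, 33), 1), ((3, 36), 1), ((3, 38), 1), ((3, 40), 2), ((3, 43), 2), ((3, 47), 2), ((3, 55), 1), ((3, 57), 2), ((3, 81), 1), ((5, 76), 2), ((5, 97), 2), ((4, 88), 1), ((4, 95), 2), ((5, 1), 2), ((5, 45), 2), ((5, 89), 1), ((5, 40), 1), ((5, 54), 2), ((5, 8), 2), ((5, 73), 2), ((5, 100), 2), ((5, 109), 1), ((5, 115), 2), ((5, 122), 1), ((4, 4), 2), ((4, 21), 2), ((4, 50), 2), ((4, 59), 2), ((4, 77), 1), ((4, 126), 2), ((5, 37), 1), ((4, 6), 2), ((4, 36), 1), ((5, 11), 1), ((5, 51), 1), ((5, 92), 1), ((5, 93), 1), ((5, 29), 1), ((5, 83), 2), ((4, 92), 2)],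
  [((0, 16), 1), ((0, 17), 2), ((0, 31), 1), ((0, 33), 2), ((0, 56), 1), ((0, 60), 2), ((0, 88), 1), ((0, 96), 2), ((0, 120), 1), ((0, 126), 2), ((0, 131), 1), ((1, 39), 2), ((2, 1), 1), ((2, 5), 2), ((2, 8), 1), ((2, 10), 2), ((2, 12), 2), ((2, 18), 2), ((2, 20), 2), ((2, 27), 2), ((2, 29), 2), ((2, 31), 1), ((2, 36), 2), ((2, 40), 1), ((2, 42), 2), ((2, 49), 2), ((2, 59), 2), ((2, 61), 1), ((2, 84), 1), ((2, 88), 2), ((2, 94), 2), ((1, 0), 1), ((1, 2), 2), ((1, 4), 2), ((1, 6), 2), ((1, 9), 1), ((1, 13), 2), ((1, 15), 1), ((1, 17), 2), ((1, 21), 1), ((1, 30), 1), ((1, 37), 1), ((1, 44), 2), ((1, 57), 1), ((1, 58), 1), ((1, 60), 2), ((1, 69), 2), ((3, 3), 1), ((3, 11), 2), ((3, 17), 2), ((3, 89), 2), ((3, 92), 2), ((4, 83), 2), ((4, 117), 1), ((4, 121), 2), ((3, 0), 1), ((3, 1), 2), ((3, 2), 1), ((3, 4), 1), ((3, 6), 1), ((3, 8),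 2), ((3, 9), 1), ((3, 12), 1), ((3, 13), 1), ((3, 19), 2), ((3, 22), 1), ((3, 23), 1), ((3, 29), 2), ((3, 30), 2), ((3, 31), 2), ((3, 32), 2), ((3, 36), 1), ((3, 38), 1), ((3, 43), 2), ((3, 63), 2), ((3, 67), 1), ((3, 74), 2), ((3, 82), 1), ((4, 76), 1), ((5, 76), 1), ((5, 97), 2), ((4, 88), 1), ((5, 1), 2), ((5, 45), 1), ((5, 89), 1), ((5, 40), 2), ((5, 8), 2), ((5, 52), 2), ((5, 73), 2), ((5, 100), 1), ((5, 115), 2), ((5, 122), 1), ((4, 12), 1), ((4, 21), 2), ((4, 50), 1), ((4, 59), 1), ((4, 126), 2), ((5, 37), 1), ((4, 2), 1), ((4, 36), 2), ((4, 86), 1), ((5, 11), 1), ((5, 51), 2), ((5, 93), 2), ((5, 103), 1), ((5, 117), 2), ((5, 29), 2)],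
  [((0, 3), 1), ((0, 4), 2), ((0, 7), 1), ((0, 9), 2), ((0, 15), 1), ((0, 18), 2), ((0, 29), 1), ((0, 35), 2), ((0, 53), 1), ((0, 63), 2), ((0, 98), 2), ((0, 127), 2), ((1, 39), 1), ((1, 89), 2), ((2, 1), 2), ((2, 5), 1), ((2, 10), 1), ((2, 12), 1), ((2, 26), 2), ((2, 36), 2), ((2, 40), 1), ((2, 42), 1), ((2, 61), 1), ((2, 66), 2), ((2, 78), 2), ((2, 88), 1), ((2, 94), 1), ((1, 2), 1), ((1, 6), 2), ((1, 9), 1), ((1, 11), 1), ((1, 13), 1), ((1, 17), 1), ((1, 37), 2), ((1, 53), 2), ((1, 57), 2), ((1, 69), 2), ((3, 39), 2), ((3, 92), 1), ((4, 83), 2), ((4, 106), 1), ((4, 121), 1), ((3, 0), 1), ((3, 1), 1), ((3, 2), 1), ((3, 8), 1), ((3, 9), 1), ((3, 12), 2), ((3, 13), 1), ((3, 30), 1), ((3, 32), 2), ((3, 36), 2), ((3, 40), 2), ((3, 44), 2), ((3, 57), 1), ((3, 63), 2), ((3, 74), 1), ((5, 97), 1), ((4, 95), 2), ((5, 1), 2), ((5, 45),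 1), ((5, 89), 1), ((5, 40), 2), ((5, 54), 2), ((5, 8), 1), ((5, 52), 2), ((5, 73), 1), ((5, 100), 2), ((5, 101), 2), ((5, 109), 2), ((5, 115), 2), ((5, 122), 2), ((4, 4), 2), ((4, 126), 1), ((4, 2), 1), ((4, 9), 2), ((5, 11), 1), ((5, 103), 1), ((5, 66), 1), ((5, 83), 2), ((5, 126), 1), ((5, 7), 1)],
  [((0, 8), 1), ((0, 9), 2), ((0, 17), 1), ((0, 18), 2), ((0, 33), 1), ((0, 35), 2), ((0, 60), 1), ((0, 63), 2), ((0, 96), 1), ((0, 99), 2), ((0, 128), 2), ((1, 39), 2), ((2, 1), 2), ((2, 7), 1), ((2, 8), 2), ((2, 10), 2), ((2, 12), 2), ((2, 16), 2), ((2, 18), 2), ((2, 20), 1), ((2, 22), 1), ((2, 27), 1), ((2, 29), 2), ((2, 36), 1), ((2, 40), 1), ((2, 42), 1), ((2, 49), 1), ((2, 61), 2), ((2, 66), 1), ((2, 78), 2), ((2, 88), 1), ((1, 0), 1), ((1, 4), 2), ((1, 9), 1), ((1, 11), 2), ((1, 13), 2), ((1, 15), 1), ((1, 17), 1), ((1, 21),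 1), ((1, 37), 1), ((1, 44), 1), ((1, 53), 1), ((1, 57), 2), ((1, 58), 2), ((1, 65), 2), ((1, 69), 2), ((3, 3), 2), ((3, 17), 2), ((3, 92), 1), ((3, 35), 2), ((4, 83), 1), ((4, 106), 2), ((4, 121), 2), ((3, 0), 1), ((3, 1), 2), ((3, 2), 1), ((3, 4), 1), ((3, 7), 1), ((3, 8), 1), ((3, 9), 2), ((3, 15), 2), ((3, 23), 2), ((3, 27), 2), ((3, 29), 2), ((3, 32), 2), ((3, 38), 2), ((3, 44), 2), ((3, 47), 1), ((3, 53), 1), ((3, 55), 1), ((3, 57), 2), ((3, 61), 2), ((3, 63), 2), ((3, 67), 2), ((3, 74), 2), ((3, 82), 1), ((3, 88), 1), ((5, 76), 1), ((5, 97), 1), ((4, 88), 1), ((4, 95), 2), ((5, 1), 1), ((5, 45), 1), ((5, 89), 2), ((5, 52), 1), ((5, 73), 2), ((5, 101), 1), ((5, 109), 1), ((5, 115), 2), ((4, 4), 2), ((4, 21), 1), ((4, 59), 1), ((4, 2), 2), ((4, 6), 1), ((4, 36), 2), ((4, 86), 1), ((5, 11), 1), ((5, 51), 1), ((5, 93), 1), ((5,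 117), 1), ((5, 126), 2), ((5, 7), 2)],
  [((0, 1), 1), ((0, 2), 2), ((0, 3), 1), ((0, 6), 2), ((0, 7), 1), ((0, 12), 2), ((0, 15), 1), ((0, 24), 2), ((0, 29), 1), ((0, 45), 2), ((0, 53), 1), ((0, 77), 2), ((0, 85), 1), ((0, 111), 2), ((0, 129), 2), ((2, 0), 1), ((2, 5), 1), ((2, 7), 2), ((2, 8), 2), ((2, 10), 2), ((2, 12), 2), ((2, 16), 2), ((2, 18), 2), ((2, 27), 2), ((2, 36), 1), ((2, 40), 1), ((2, 49), 2), ((2, 59), 2), ((2, 66), 1), ((2, 78), 1), ((2, 84), 2), ((1, 0), 2), ((1, 2), 2), ((1, 6), 2), ((1, 11), 2), ((1, 13), 1), ((1, 15), 2), ((1, 30), 1), ((1, 37), 1), ((1, 44), 1), ((1, 53), 2), ((1, 57), 2), ((1, 58), 1), ((1, 60), 1), ((1, 65), 2), ((3, 11), 1), ((3, 17), 1), ((3, 35), 2), ((4, 83), 1), ((4, 117), 2), ((3, 0), 2), ((3, 2), 2), ((3, 6), 1), ((3, 7), 1), ((3, 12), 1), ((3, 13), 1), ((3, 19), 1), ((3, 22), 1),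 ((3, 27), 1), ((3, 30), 1), ((3, 31), 2), ((3, 33), 2), ((3, 38), 1), ((3, 40), 1), ((3, 43), 1), ((3, 47), 2), ((3, 53), 1), ((3, 55), 1), ((3, 61), 1), ((3, 63), 1), ((3, 81), 2), ((3, 88), 2), ((5, 97), 1), ((4, 88), 1), ((4, 95), 1), ((5, 1), 2), ((5, 39), 1), ((5, 89), 2), ((5, 40), 1), ((5, 54), 1), ((5, 8), 2), ((5, 73), 1), ((5, 100), 2), ((5, 115), 1), ((4, 50), 1), ((4, 59), 1), ((4, 77), 1), ((4, 126), 2), ((5, 37), 1), ((4, 2), 2), ((4, 36), 1), ((4, 86), 1), ((5, 11), 2), ((5, 92), 1), ((5, 93), 2), ((5, 117), 1), ((5, 29), 1), ((5, 126), 1), ((4, 92), 1), ((5, 7), 1)],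
  [((0, 134), 1)],
  [((0, 1), 2), ((0, 2), 1), ((0, 4), 2), ((0, 5), 1), ((0, 8), 2), ((0, 11), 1), ((0, 16), 2), ((0, 23), 1), ((0, 31), 2), ((0, 44), 1), ((0, 56), 2), ((0, 88), 2), ((0, 120), 2), ((0, 131), 2), ((1, 39), 2), ((1, 89), 2), ((2, 0), 1), ((2, 7), 1), ((2, 8), 1), ((2, 10), 1), ((2, 14), 1), ((2, 16), 2), ((2, 18), 1), ((2, 20), 1), ((2, 26), 1), ((2, 27), 2), ((2, 29), 1), ((2, 31), 1), ((2, 36), 1), ((2, 49), 1), ((2, 59), 2), ((2, 61), 2), ((2, 78), 1), ((2, 88), 2), ((2, 94), 2), ((1, 0), 2), ((1, 2), 2), ((1, 13), 1), ((1, 15), 2), ((1, 30), 1), ((1, 37), 2), ((1, 58), 2), ((1, 65), 1), ((1, 69), 1), ((3, 3), 2), ((3, 17), 2), ((3, 39), 1), ((3, 89), 2), ((3, 92), 2), ((4, 117), 1), ((3, 2), 1), ((3, 4), 2), ((3, 6), 2), ((3, 8), 2), ((3, 15), 2), ((3, 22), 2), ((3, 23), 1), ((3, 27), 2), ((3, 29), 1), ((3,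 30), 1), ((3, 33), 1), ((3, 36), 1), ((3, 38), 1), ((3, 53), 1), ((3, 55), 2), ((3, 61), 1), ((3, 67), 2), ((3, 88), 2), ((4, 76), 2), ((5, 76), 2), ((4, 88), 1), ((5, 39), 1), ((5, 45), 2), ((5, 89), 2), ((5, 8), 2), ((5, 52), 1), ((5, 100), 2), ((5, 101), 2), ((5, 109), 1), ((5, 122), 2), ((4, 4), 1), ((4, 12), 2), ((4, 21), 2), ((4, 50), 1), ((4, 59), 1), ((4, 126), 1), ((5, 37), 1), ((4, 6), 1), ((4, 9), 2), ((4, 36), 1), ((5, 11), 2), ((5, 51), 1), ((5, 93), 1), ((5, 117), 1), ((5, 29), 2), ((5, 66), 1), ((4, 92), 2), ((5, 7), 1)],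
  [((0, 31), 2), ((0, 32), 1), ((0, 57), 2), ((0, 58), 1), ((0, 91), 2), ((0, 93), 1), ((0, 122), 2), ((0, 124), 1), ((0, 132), 2), ((0, 133), 1), ((1, 39), 2), ((1, 89), 2), ((2, 0), 1), ((2, 1), 1), ((2, 7), 2), ((2, 10), 1), ((2, 16), 2), ((2, 18), 1), ((2, 20), 2), ((2, 26), 2), ((2, 29), 1), ((2, 31), 1), ((2, 40), 2), ((2, 42), 1), ((2, 59), 1), ((2, 78), 2), ((2, 84), 1), ((2, 94), 1), ((1, 0), 1), ((1, 2), 2), ((1, 4), 1), ((1, 9), 2), ((1, 11), 1), ((1, 13), 2), ((1, 15), 2), ((1, 17), 2), ((1, 30), 1), ((1, 37), 1), ((1, 44), 2), ((1, 53), 1), ((1, 57), 2), ((1, 60), 2), ((3, 3), 1), ((3, 11), 1), ((3, 39), 2), ((3, 89), 1), ((3, 92), 1), ((3, 35), 1), ((4, 106), 1), ((4, 121), 2), ((3, 0), 1), ((3, 1), 1), ((3, 2), 1), ((3, 4), 2), ((3, 7), 2), ((3, 8), 1), ((3, 15), 2), ((3, 19), 1), ((3, 22), 1), ((3, 23), 1), ((3,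 27), 1), ((3, 31), 2), ((3, 32), 1), ((3, 33), 2), ((3, 36), 2), ((3, 40), 1), ((3, 43), 2), ((3, 44), 2), ((3, 47), 1), ((3, 53), 1), ((3, 55), 1), ((3, 57), 2), ((3, 61), 1), ((3, 63), 2), ((3, 67), 1), ((3, 74), 1), ((3, 88), 2), ((4, 76), 1), ((5, 76), 1), ((4, 88), 1), ((5, 1), 2), ((5, 39), 2), ((5, 45), 1), ((5, 89), 2), ((5, 40), 1), ((5, 54), 2), ((5, 8), 2), ((5, 101), 1), ((5, 109), 2), ((5, 115), 2), ((5, 122), 1), ((4, 4), 1), ((4, 12), 2), ((4, 21), 1), ((4, 59), 1), ((4, 77), 2), ((4, 6), 1), ((4, 36), 2), ((5, 11), 2), ((5, 51), 2), ((5, 92), 1), ((5, 93), 2), ((5, 103), 1), ((5, 117), 1), ((5, 29), 2), ((5, 66), 2), ((5, 7), 1)],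
  [((0, 16), 2), ((0, 17), 1), ((0, 32), 2), ((0, 58), 2), ((0, 93), 2), ((0, 124), 2), ((0, 133), 2), ((1, 39), 1), ((1, 89), 1), ((2, 1), 1), ((2, 5), 1), ((2, 10), 1), ((2, 16), 1), ((2, 27), 2), ((2, 31), 2), ((2, 36), 2), ((2, 40), 2), ((2, 49), 2), ((2, 59), 2), ((2, 61), 1), ((2, 66), 2), ((2, 78), 2), ((2, 84), 1), ((2, 88), 2), ((1, 0), 2), ((1, 2), 2), ((1, 4), 2), ((1, 9), 2), ((1, 11), 2), ((1, 13), 2), ((1, 30), 2), ((1, 37), 1), ((1, 53), 1), ((1, 58), 2), ((1, 60), 2), ((1, 69), 2), ((3, 3), 1), ((3, 11), 2), ((3, 39), 1), ((3, 89), 2), ((3, 92), 1), ((3, 35), 2), ((4, 83), 1), ((4, 117), 1), ((4, 121), 2), ((3, 0), 2), ((3, 1), 1), ((3, 2), 2), ((3, 6), 1), ((3, 7), 1), ((3, 8), 1), ((3, 9), 2), ((3, 12), 2), ((3, 15), 2), ((3, 19), 2), ((3, 29), 1), ((3, 30), 2), ((3, 31), 2), ((3, 33), 1), ((3, 38), 1), ((3, 43),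 2), ((3, 44), 1), ((3, 47), 1), ((3, 53), 1), ((3, 55), 2), ((3, 57), 1), ((3, 61), 2), ((3, 74), 2), ((3, 82), 1), ((4, 76), 1), ((5, 76), 1), ((5, 97), 1), ((4, 88), 2), ((4, 95), 2), ((5, 39), 2), ((5, 45), 1), ((5, 89), 1), ((5, 54), 2), ((5, 8), 2), ((5, 52), 2), ((5, 100), 1), ((5, 101), 1), ((5, 122), 2), ((4, 4), 1), ((4, 12), 1), ((4, 21), 1), ((4, 50), 1), ((4, 59), 2), ((4, 77), 1), ((5, 37), 1), ((4, 2), 1), ((4, 6), 2), ((4, 9), 1), ((4, 36), 1), ((5, 11), 2), ((5, 93), 1), ((5, 103), 2), ((5, 29), 2), ((5, 126), 2), ((5, 7), 1)],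
  [((0, 1), 1), ((0, 2), 2), ((0, 4), 1), ((0, 6), 2), ((0, 9), 1), ((0, 12), 2), ((0, 18), 1), ((0, 25), 2), ((0, 35), 1), ((0, 46), 2), ((0, 63), 1), ((0, 78), 2), ((0, 98), 1), ((0, 112), 2), ((0, 127), 1), ((0, 130), 2), ((0, 134), 2), ((1, 39), 1), ((1, 89), 2), ((2, 0), 1), ((2, 1), 1), ((2, 5), 2), ((2, 10), 2), ((2, 12), 2), ((2, 14), 1), ((2, 16), 2), ((2, 18), 2), ((2, 20), 2), ((2, 22), 1), ((2, 27), 1), ((2, 29), 2), ((2, 36), 1), ((2, 49), 1), ((2, 59), 2), ((2, 78), 2), ((2, 84), 1), ((2, 94), 1), ((1, 11), 1), ((1, 13), 1), ((1, 15), 1), ((1, 17), 2), ((1, 30), 2), ((1, 44), 1), ((1, 58), 1), ((1, 60), 2), ((1, 65), 2), ((1, 69), 1), ((3, 11), 1), ((3, 39), 1), ((3, 89), 1), ((3, 92), 1), ((4, 83), 1), ((4, 121), 1), ((3, 0), 2), ((3, 1), 2), ((3, 2), 2), ((3, 4), 1), ((3, 6), 1), ((3, 7), 2), ((3, 8), 2), ((3, 9),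 1), ((3, 12), 1), ((3, 13), 2), ((3, 15), 2), ((3, 22), 1), ((3, 23), 1), ((3, 30), 1), ((3, 33), 2), ((3, 36), 2), ((3, 38), 2), ((3, 43), 2), ((3, 44), 1), ((3, 47), 2), ((3, 55), 1), ((3, 57), 1), ((3, 61), 1), ((3, 63), 2), ((3, 67), 1), ((3, 81), 2), ((3, 82), 1), ((5, 76), 2), ((5, 97), 1), ((4, 88), 1), ((4, 95), 1), ((5, 1), 1), ((5, 39), 2), ((5, 45), 2), ((5, 89), 2), ((5, 40), 2), ((5, 54), 1), ((5, 8), 2), ((5, 73), 1), ((5, 100), 1), ((5, 101), 2), ((5, 115), 1), ((5, 122), 1), ((4, 4), 2), ((4, 12), 2), ((4, 59), 1), ((4, 77), 1), ((5, 37), 1), ((4, 2), 1), ((4, 6), 2), ((4, 9), 2), ((4, 36), 1), ((5, 11), 2), ((5, 51), 1), ((5, 92), 2), ((5, 103), 1), ((5, 29), 2), ((5, 126), 1), ((4, 92), 2), ((5, 7), 2)],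
  [((0, 2), 1)],
  [((0, 4), 1)],
  [((0, 6), 1)],
  [((0, 1), 2), ((0, 3), 2), ((1, 39), 1), ((1, 89), 2), ((2, 0), 1), ((2, 7), 2), ((2, 8), 1), ((2, 10), 1), ((2, 14), 1), ((2, 18), 1), ((2, 20), 1), ((2, 22), 2), ((2, 26), 2), ((2, 27), 1), ((2, 31), 1), ((2, 36), 1), ((2, 40), 2), ((2, 42), 2), ((2, 49), 1), ((2, 59), 2), ((2, 61), 1), ((2, 66), 1), ((2, 78), 2), ((2, 84), 1), ((2, 88), 1), ((2, 94), 1), ((1, 0), 1), ((1, 6), 2), ((1, 11), 2), ((1, 13), 1), ((1, 15), 2), ((1, 17), 2), ((1, 30), 2), ((1, 37), 1), ((1, 44), 1), ((1, 53), 2), ((1, 65), 1), ((3, 3), 2), ((3, 11), 1), ((3, 39), 1), ((3, 89), 2), ((3, 92), 1), ((4, 83), 2), ((4, 106), 1), ((4, 117), 1), ((4, 121), 2), ((3, 0), 1), ((3, 2), 1), ((3, 8), 1), ((3, 12), 1), ((3, 15), 1), ((3, 19), 1), ((3, 23), 2), ((3, 27), 1), ((3, 29), 2), ((3, 30), 1), ((3, 32),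 2), ((3, 33), 2), ((3, 36), 2), ((3, 38), 2), ((3, 43), 2), ((3, 44), 2), ((3, 53), 1), ((3, 55), 1), ((3, 57), 2), ((3, 61), 2), ((3, 67), 2), ((3, 74), 2), ((3, 82), 2), ((3, 88), 2), ((4, 76), 1), ((5, 76), 2), ((4, 95), 2), ((5, 1), 2), ((5, 39), 2), ((5, 45), 2), ((5, 89), 1), ((5, 40), 1), ((5, 8), 1), ((5, 52), 2), ((5, 101), 2), ((5, 109), 2), ((5, 122), 1), ((4, 4), 2), ((4, 12), 1), ((4, 50), 1), ((4, 126), 2), ((4, 6), 1), ((4, 36), 2), ((4, 86), 1), ((5, 11), 2), ((5, 51), 2), ((5, 92), 1), ((5, 93), 2), ((5, 117), 1), ((5, 66), 1), ((5, 83), 2), ((5, 126), 2), ((4, 92), 2), ((5, 7), 2)],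
  [((0, 9), 1)],
  [((0, 11), 1)],
  [((0, 13), 1)],
  [((0, 15), 1)],
  [((0, 17), 1)],
  [((0, 19), 1)],
  [((0, 21), 1)],
  [((0, 23), 1)],
  [((0, 25), 1)],
  [((0, 1), 1), ((0, 2), 2), ((0, 3), 1), ((0, 6), 2), ((0, 13), 2), ((1, 39), 2), ((1, 89), 1), ((2, 7), 1), ((2, 8), 2), ((2, 10), 2), ((2, 14), 2), ((2, 18), 2), ((2, 20), 2), ((2, 22), 1), ((2, 26), 1), ((2, 27), 2), ((2, 31), 2), ((2, 36), 2), ((2, 40), 1), ((2, 42), 1), ((2, 49), 2), ((2, 59), 1), ((2, 61), 2), ((2, 66), 2), ((2, 78), 1), ((2, 84), 2), ((2, 88), 2), ((2, 94), 2), ((1, 0), 2), ((1, 6), 1), ((1, 11), 1), ((1, 13), 2), ((1, 15), 1), ((1, 17), 1), ((1, 30), 1), ((1, 37), 2), ((1, 44), 2), ((1, 53), 1), ((1, 65), 2), ((3, 3), 1), ((3, 11), 2), ((3, 39), 2), ((3, 89), 1), ((3, 92), 2), ((4, 83), 1), ((4, 106), 2), ((4, 117), 2), ((4, 121), 1), ((3, 0), 2),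 ((3, 2), 2), ((3, 8), 2), ((3, 12), 2), ((3, 15), 2), ((3, 19), 2), ((3, 23), 1), ((3, 27), 2), ((3, 29), 1), ((3, 30), 2), ((3, 32), 1), ((3, 33), 1), ((3, 36), 1), ((3, 38), 1), ((3, 43), 1), ((3, 44), 1), ((3, 53), 2), ((3, 55), 2), ((3, 57), 1), ((3, 61), 1), ((3, 67), 1), ((3, 74), 1), ((3, 82), 1), ((3, 88), 1), ((4, 76), 2), ((5, 76), 1), ((4, 95), 1), ((5, 1), 1), ((5, 39), 1), ((5, 45), 1), ((5, 89), 2), ((5, 40), 2), ((5, 8), 2), ((5, 52), 1), ((5, 101), 1), ((5, 109), 1), ((5, 122), 2), ((4, 4), 1), ((4, 12), 2), ((4, 50), 2), ((4, 126), 1), ((4, 6), 2), ((4, 36), 1), ((4, 86), 2), ((5, 11), 1), ((5, 51), 1), ((5, 92), 2), ((5, 93), 1), ((5, 117), 2), ((5, 66), 2), ((5, 83), 1), ((5, 126), 1), ((4, 92), 1), ((5, 7), 1)],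
  [((0, 28), 1)],
  [((0, 30), 1)],
  [((0, 32), 1)],
  [((0, 33), 1), ((1, 39), 2), ((2, 0), 1), ((2, 5), 1), ((2, 8), 1), ((2, 10), 1), ((2, 14), 1), ((2, 18), 2), ((2, 20), 1), ((2, 26), 1), ((2, 29), 1), ((2, 31), 2), ((2, 36), 2), ((2, 59), 1), ((2, 61), 2), ((2, 88), 1), ((2, 94), 2), ((1, 2), 2), ((1, 4), 1), ((1, 6), 1), ((1, 9), 1), ((1, 11), 2), ((1, 13), 1), ((1, 17), 1), ((1, 37), 1), ((1, 44), 1), ((1, 57), 2), ((1, 60), 1), ((1, 65), 2), ((1, 69), 2), ((3, 39), 1), ((3, 89), 2), ((3, 92), 2), ((4, 83), 1), ((4, 106), 2), ((4, 117), 2), ((4, 121), 2), ((3, 1), 1), ((3, 4), 2), ((3, 6), 1), ((3, 8), 2), ((3, 9), 2), ((3, 12), 2), ((3, 15), 2), ((3, 19), 1), ((3, 23), 2), ((3, 30), 2), ((3, 31), 1), ((3, 32), 1), ((3, 33), 1), ((3, 36), 1), ((3, 53), 2), ((3, 61), 2), ((3, 63), 1), ((3, 67), 2), ((3, 82), 2), ((3, 88),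 1), ((5, 76), 1), ((4, 88), 1), ((5, 1), 1), ((5, 89), 1), ((5, 40), 2), ((5, 52), 2), ((5, 109), 2), ((5, 115), 2), ((4, 4), 1), ((4, 59), 1), ((4, 77), 1), ((4, 126), 1), ((5, 37), 2), ((4, 2), 1), ((4, 9), 1), ((4, 36), 1), ((4, 86), 2), ((5, 11), 1), ((5, 93), 2), ((5, 117), 1), ((5, 29), 2), ((5, 83), 2), ((4, 92), 1)],
  [((0, 35), 1)],
  [((0, 37), 1)],
  [((0, 39), 1)],
  [((0, 41), 1)],
  [((0, 43), 1)],
  [((0, 44), 1)],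
  [((0, 1), 1), ((0, 2), 2), ((0, 3), 1), ((0, 6), 2), ((0, 7), 1), ((0, 12), 2), ((0, 14), 1), ((0, 24), 2), ((1, 39), 2), ((2, 5), 1), ((2, 8), 1), ((2, 10), 2), ((2, 12), 1), ((2, 14), 1), ((2, 16), 1), ((2, 18), 2), ((2, 20), 2), ((2, 22), 2), ((2, 26), 2), ((2, 27), 1), ((2, 29), 1), ((2, 36), 2), ((2, 42), 1), ((2, 49), 1), ((2, 66), 2), ((2, 78), 2), ((2, 94), 2), ((1, 0), 2), ((1, 2), 2), ((1, 4), 2), ((1, 6), 2), ((1, 9), 1), ((1, 11), 2), ((1, 13), 2), ((1, 15), 1), ((1, 21), 1), ((1, 37), 2), ((1, 53), 2), ((1, 58), 1), ((3, 3), 2), ((3, 11), 2), ((3, 39), 1), ((3, 89), 2), ((3, 35), 1), ((4, 106), 1), ((4, 117), 1), ((3, 0), 1), ((3, 1), 2), ((3, 2), 1), ((3, 4), 2), ((3, 6), 1), ((3, 7), 2), ((3, 9), 1), ((3, 15), 2), ((3, 22), 2), ((3, 23), 1), ((3, 29), 1), ((3, 30), 2), ((3, 31), 2), ((3, 32), 2), ((3, 36), 1), ((3,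 38), 2), ((3, 40), 1), ((3, 44), 2), ((3, 47), 1), ((3, 53), 2), ((3, 55), 1), ((3, 63), 1), ((3, 67), 1), ((3, 74), 1), ((3, 81), 2), ((5, 76), 2), ((5, 97), 1), ((4, 88), 2), ((4, 95), 2), ((5, 89), 1), ((5, 40), 2), ((5, 54), 1), ((5, 8), 1), ((5, 52), 1), ((5, 101), 1), ((5, 109), 2), ((5, 115), 1), ((5, 122), 1), ((4, 4), 1), ((4, 12), 2), ((4, 50), 1), ((4, 59), 2), ((4, 77), 1), ((4, 126), 1), ((5, 37), 1), ((4, 9), 1), ((4, 36), 2), ((4, 86), 2), ((5, 92), 2), ((5, 93), 1), ((5, 103), 1), ((5, 117), 2), ((5, 29), 1), ((5, 66), 1), ((5, 126), 2), ((4, 92), 2), ((5, 7), 2)],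
  [((0, 47), 1)],
  [((0, 48), 1)],
  [((0, 1), 2), ((0, 2), 1), ((0, 3), 2), ((0, 6), 1), ((0, 7), 2), ((0, 12), 1), ((0, 14), 2), ((0, 25), 1), ((0, 27), 2), ((0, 46), 1), ((1, 39), 2), ((2, 0), 1), ((2, 1), 1), ((2, 5), 2), ((2, 12), 2), ((2, 14), 1), ((2, 16), 2), ((2, 18), 2), ((2, 20), 1), ((2, 22), 1), ((2, 26), 2), ((2, 29), 1), ((2, 40), 2), ((2, 61), 2), ((2, 66), 1), ((2, 78), 2), ((2, 84), 1), ((2, 94), 2), ((1, 0), 2), ((1, 4), 2), ((1, 6), 2), ((1, 9), 2), ((1, 13), 2), ((1, 15), 2), ((1, 17), 1), ((1, 30), 1), ((1, 44), 2), ((1, 53), 1), ((1, 57), 2), ((1, 58), 1), ((1, 60), 1), ((1, 69), 1), ((3, 39), 1), ((3, 89), 1), ((3, 92), 2), ((3, 35), 2), ((4, 106), 2), ((4, 117), 2), ((3, 0), 1), ((3, 1), 2), ((3, 2), 1), ((3, 4), 2), ((3, 8), 2), ((3, 9), 1), ((3, 12), 1), ((3, 13), 1), ((3, 15), 2), ((3, 19), 1), ((3,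 22), 1), ((3, 23), 2), ((3, 29), 2), ((3, 30), 1), ((3, 32), 2), ((3, 33), 1), ((3, 36), 1), ((3, 40), 1), ((3, 43), 2), ((3, 47), 1), ((3, 53), 1), ((3, 55), 1), ((3, 57), 1), ((3, 61), 1), ((3, 63), 1), ((3, 67), 2), ((3, 74), 1), ((3, 81), 2), ((3, 88), 1), ((5, 97), 2), ((5, 1), 1), ((5, 45), 2), ((5, 89), 1), ((5, 40), 2), ((5, 54), 2), ((5, 8), 2), ((5, 52), 1), ((5, 73), 1), ((5, 101), 1), ((5, 122), 1), ((4, 4), 2), ((4, 12), 1), ((4, 21), 2), ((4, 50), 1), ((4, 77), 1), ((4, 126), 2), ((5, 37), 2), ((4, 2), 1), ((4, 6), 1), ((4, 9), 2), ((4, 36), 2), ((4, 86), 2), ((5, 51), 1), ((5, 92), 2), ((5, 103), 2), ((5, 117), 2), ((5, 29), 1), ((5, 66), 1)],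
  [((0, 51), 1)],
  [((0, 53), 1)],
  [((0, 55), 1)],
  [((0, 57), 1)],
  [((0, 58), 1)],
  [((0, 60), 1)],
  [((0, 62), 1)],
  [((0, 63), 1)],
  [((0, 65), 1)],
  [((0, 4), 2), ((0, 9), 2), ((0, 19), 2), ((0, 37), 2), ((2, 1), 1)],
  [((0, 68), 1)],
  [((0, 69), 1)],
  [((0, 70), 1)],
  [((0, 1), 1), ((0, 2), 2), ((0, 3), 1), ((0, 5), 2), ((0, 7), 1), ((0, 10), 2), ((0, 15), 1), ((0, 21), 2), ((0, 29), 1), ((0, 41), 2), ((0, 52), 1), ((1, 39), 2), ((1, 89), 2), ((2, 0), 1), ((2, 1), 2), ((2, 8), 2), ((2, 10), 2), ((2, 12), 1), ((2, 16), 2), ((2, 18), 2), ((2, 22), 2), ((2, 26), 2), ((2, 29), 1), ((2, 36), 2), ((2, 42), 2), ((2, 49), 1), ((2, 59), 2), ((2, 61), 1), ((2, 84), 1), ((2, 88), 1), ((1, 0), 1), ((1, 2), 1), ((1, 6), 2), ((1, 11), 2), ((1, 13), 1), ((1, 17), 2), ((1, 30), 1), ((1, 37), 2), ((1, 44), 2), ((1, 53), 2), ((1,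 65), 1), ((3, 3), 2), ((3, 39), 1), ((3, 89), 2), ((3, 92), 1), ((4, 83), 2), ((4, 121), 1), ((3, 0), 1), ((3, 1), 2), ((3, 4), 2), ((3, 7), 1), ((3, 8), 2), ((3, 9), 2), ((3, 12), 2), ((3, 13), 2), ((3, 15), 1), ((3, 22), 1), ((3, 23), 1), ((3, 29), 1), ((3, 30), 2), ((3, 40), 1), ((3, 43), 2), ((3, 44), 2), ((3, 55), 2), ((3, 61), 1), ((3, 63), 2), ((3, 81), 2), ((3, 88), 1), ((4, 76), 2), ((5, 76), 2), ((4, 88), 1), ((5, 45), 2), ((5, 89), 2), ((5, 40), 1), ((5, 8), 1), ((5, 52), 2), ((5, 100), 2), ((5, 115), 1), ((5, 122), 1), ((4, 4), 1), ((4, 50), 2), ((4, 59), 1), ((4, 77), 2), ((5, 37), 2), ((4, 2), 2), ((4, 6), 1), ((4, 9), 1), ((4, 36), 1), ((4, 86), 1), ((5, 11), 1), ((5, 51), 1), ((5, 92), 2), ((5, 103), 2), ((5, 117), 2), ((5, 29), 2), ((5, 66), 1), ((5, 83), 1), ((5, 7), 2)],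
  [((0, 1), 1), ((0, 2), 2), ((0, 4), 1), ((0, 5), 2), ((0, 9), 1), ((0, 11), 2), ((0, 19), 1), ((0, 22), 2), ((0, 36), 1), ((0, 42), 2), ((0, 64), 1), ((1, 39), 1), ((2, 0), 2), ((2, 5), 1), ((2, 7), 1), ((2, 8), 1), ((2, 10), 2), ((2, 12), 1), ((2, 14), 1), ((2, 18), 1), ((2, 20), 1), ((2, 22), 1), ((2, 26), 2), ((2, 27), 2), ((2, 29), 1), ((2, 31), 2), ((2, 36), 1), ((2, 49), 2), ((2, 59), 1), ((2, 61), 2), ((2, 78), 2), ((2, 84), 1), ((2, 94), 2), ((1, 0), 2), ((1, 4), 2), ((1, 6), 1), ((1, 9), 1), ((1, 11), 2), ((1, 15), 2), ((1, 17), 2), ((1, 21), 2), ((1, 30), 1), ((1, 44), 1), ((1, 53), 2), ((1, 57), 2), ((1, 58), 2), ((1, 65), 1), ((3, 3), 2), ((3, 11), 2), ((3, 17), 1), ((3, 39), 2), ((3, 89), 2), ((3, 92), 1), ((4, 83), 1), ((4, 106), 2), ((4, 117), 1), ((4, 121), 1), ((3, 0), 1), ((3, 1), 2), ((3, 2), 1), ((3, 4), 2),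 ((3, 7), 1), ((3, 8), 2), ((3, 9), 1), ((3, 19), 1), ((3, 22), 2), ((3, 23), 2), ((3, 27), 2), ((3, 30), 1), ((3, 31), 2), ((3, 32), 2), ((3, 33), 1), ((3, 36), 1), ((3, 38), 1), ((3, 43), 2), ((3, 44), 2), ((3, 47), 2), ((3, 55), 1), ((3, 57), 1), ((3, 61), 2), ((3, 63), 2), ((3, 67), 2), ((3, 81), 2), ((3, 82), 1), ((3, 88), 2), ((5, 76), 1), ((4, 95), 2), ((5, 1), 1), ((5, 39), 2), ((5, 89), 1), ((5, 54), 1), ((5, 52), 2), ((5, 100), 2), ((5, 101), 1), ((5, 115), 2), ((4, 12), 2), ((4, 21), 1), ((4, 77), 2), ((4, 126), 1), ((5, 37), 1), ((4, 2), 1), ((4, 6), 1), ((4, 86), 1), ((5, 11), 1), ((5, 51), 1), ((5, 103), 2), ((5, 83), 2), ((5, 126), 2), ((4, 92), 2), ((5, 7), 2)],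
  [((0, 73), 1)],
  [((0, 75), 1)],
  [((0, 77), 1)],
  [((0, 79), 1)],
  [((0, 81), 1)],
  [((0, 82), 1)],
  [((0, 1), 2), ((0, 2), 1), ((0, 3), 2), ((0, 5), 1), ((0, 7), 2), ((0, 10), 1), ((0, 14), 2), ((0, 20), 1), ((0, 27), 2), ((0, 38), 1), ((0, 49), 2), ((0, 67), 1), ((1, 39), 1), ((2, 5), 2), ((2, 8), 2), ((2, 10), 1), ((2, 12), 2), ((2, 14), 2), ((2, 16), 2), ((2, 18), 1), ((2, 20), 1), ((2, 22), 1), ((2, 26), 1), ((2, 27), 2), ((2, 29), 2), ((2, 36), 1), ((2, 42), 2), ((2, 49), 2), ((2, 66), 1), ((2, 78), 1), ((2, 94), 1), ((1, 2), 1), ((1, 4), 1), ((1, 6), 1), ((1, 9), 2), ((1, 11), 1), ((1, 13), 1), ((1, 15), 2), ((1, 21), 2), ((1, 37), 1), ((1, 53), 1), ((1, 58), 2), ((3, 11), 1), ((3, 39), 2), ((3, 89), 1), ((3, 35), 2), ((4, 106), 2), ((4, 117), 2), ((3, 0), 2), ((3, 1), 1), ((3, 4), 1), ((3, 6), 2), ((3, 7), 1), ((3,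 9), 2), ((3, 15), 1), ((3, 22), 1), ((3, 23), 2), ((3, 29), 2), ((3, 30), 1), ((3, 31), 1), ((3, 32), 1), ((3, 36), 2), ((3, 38), 1), ((3, 40), 2), ((3, 44), 1), ((3, 47), 2), ((3, 53), 1), ((3, 55), 2), ((3, 63), 2), ((3, 67), 2), ((3, 74), 2), ((3, 81), 1), ((5, 76), 1), ((5, 97), 2), ((4, 88), 1), ((4, 95), 1), ((5, 89), 2), ((5, 40), 1), ((5, 54), 2), ((5, 8), 2), ((5, 52), 2), ((5, 101), 2), ((5, 109), 1), ((5, 115), 2), ((5, 122), 2), ((4, 4), 2), ((4, 12), 1), ((4, 50), 2), ((4, 59), 1), ((4, 77), 2), ((4, 126), 2), ((5, 37), 2), ((4, 9), 2), ((4, 36), 1), ((4, 86), 1), ((5, 92), 1), ((5, 93), 2), ((5, 103), 2), ((5, 117), 1), ((5, 29), 2), ((5, 66), 2), ((5, 126), 1), ((4, 92), 1), ((5, 7), 1)],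
  [((0, 14), 2), ((0, 15), 1), ((0, 28), 2), ((0, 30), 1), ((0, 50), 2), ((0, 54), 1), ((1, 39), 1), ((2, 0), 1), ((2, 7), 1), ((2, 8), 2), ((2, 14), 2), ((2, 16), 1), ((2, 20), 1), ((2, 22), 2), ((2, 26), 1), ((2, 27), 1), ((2, 29), 1), ((2, 31), 2), ((2, 36), 2), ((2, 40), 2), ((2, 49), 1), ((2, 61), 1), ((2, 66), 2), ((2, 78), 2), ((2, 84), 1), ((2, 88), 1), ((1, 0), 1), ((1, 6), 1), ((1, 9), 2), ((1, 13), 2), ((1, 17), 2), ((1, 21), 1), ((1, 37), 1), ((1, 44), 2), ((1, 53), 2), ((1, 58), 1), ((1, 60), 2), ((1, 65), 1), ((3, 11), 1), ((3, 17), 2), ((3, 39), 1), ((3, 89), 2), ((3, 92), 1), ((3, 35), 1), ((4, 83), 1), ((4, 117), 2), ((4, 121), 2), ((3, 0), 1), ((3, 2), 1), ((3, 4), 2), ((3, 6), 1), ((3, 7), 2), ((3, 9), 1), ((3, 12), 1), ((3, 15), 1), ((3, 23), 2), ((3, 27), 2), ((3, 30), 1), ((3, 31), 2), ((3, 33), 1), ((3, 38),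 2), ((3, 40), 1), ((3, 43), 2), ((3, 44), 2), ((3, 53), 1), ((3, 57), 2), ((3, 63), 2), ((3, 67), 2), ((3, 74), 2), ((3, 81), 1), ((3, 88), 2), ((4, 76), 1), ((4, 95), 1), ((5, 39), 2), ((5, 89), 2), ((5, 40), 1), ((5, 54), 1), ((5, 8), 2), ((5, 73), 1), ((5, 109), 2), ((5, 115), 2), ((5, 122), 1), ((4, 4), 1), ((4, 50), 1), ((4, 126), 1), ((5, 37), 1), ((4, 6), 1), ((4, 9), 1), ((4, 86), 1), ((5, 11), 2), ((5, 51), 2), ((5, 92), 2), ((5, 117), 1), ((5, 66), 2), ((5, 83), 2), ((4, 92), 2), ((5, 7), 1)],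
  [((0, 1), 2), ((0, 2), 1), ((0, 3), 2), ((0, 6), 1), ((0, 7), 2), ((0, 12), 1), ((0, 14), 2), ((0, 24), 1), ((0, 28), 2), ((0, 45), 1), ((0, 51), 2), ((0, 76), 1), ((1, 89), 1), ((2, 0), 2), ((2, 1), 2), ((2, 5), 2), ((2, 7), 1), ((2, 8), 2), ((2, 10), 2), ((2, 12), 2), ((2, 14), 2), ((2, 16), 2), ((2, 20), 2), ((2, 22), 1), ((2, 26), 2), ((2, 27), 2), ((2, 29), 1), ((2, 31), 1), ((2, 36), 1), ((2, 40), 1), ((2, 42), 2), ((2, 49), 2), ((2, 59), 2), ((2, 84), 2), ((2, 94), 2), ((1, 0), 2), ((1, 2), 2), ((1, 4), 1), ((1, 6), 1), ((1, 11), 2), ((1, 13), 2), ((1, 15), 2), ((1, 17), 2), ((1, 30), 2), ((1, 58), 2), ((1, 60), 2), ((3, 3), 1), ((3, 11), 1), ((3, 17), 2), ((3, 39), 1), ((3, 92), 2), ((3, 35), 2), ((4, 83), 1), ((4, 106), 2), ((4, 121), 1), ((3, 0), 1), ((3, 1), 1), ((3, 2), 1), ((3, 4), 2), ((3, 9), 2), ((3, 13), 1), ((3,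 15), 2), ((3, 22), 2), ((3, 23), 1), ((3, 27), 2), ((3, 29), 1), ((3, 31), 1), ((3, 32), 1), ((3, 33), 1), ((3, 36), 1), ((3, 38), 1), ((3, 40), 2), ((3, 43), 1), ((3, 47), 1), ((3, 53), 2), ((3, 55), 2), ((3, 57), 1), ((3, 61), 1), ((3, 63), 2), ((3, 67), 1), ((3, 74), 2), ((3, 81), 2), ((3, 82), 2), ((3, 88), 2), ((4, 76), 1), ((5, 76), 2), ((5, 97), 1), ((4, 95), 1), ((5, 89), 1), ((5, 54), 2), ((5, 8), 1), ((5, 52), 2), ((5, 73), 1), ((5, 101), 1), ((5, 109), 1), ((5, 115), 2), ((5, 122), 1), ((4, 4), 1), ((4, 12), 2), ((4, 21), 1), ((4, 50), 2), ((4, 126), 1), ((4, 2), 2), ((4, 6), 1), ((4, 9), 2), ((4, 86), 1), ((5, 11), 1), ((5, 92), 1), ((5, 93), 1), ((5, 103), 1), ((5, 117), 1), ((5, 29), 2), ((5, 66), 2), ((5, 83), 2), ((4, 92), 2), ((5, 7), 1)],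
  [((0, 83), 1)],
  [((0, 85), 1)],
  [((0, 1), 2), ((0, 2), 1), ((0, 3), 2), ((0, 5), 1), ((0, 7), 2), ((0, 11), 1), ((0, 15), 2), ((0, 22), 1), ((0, 30), 2), ((0, 54), 2), ((1, 89), 2), ((2, 0), 1), ((2, 1), 2), ((2, 8), 1), ((2, 10), 2), ((2, 14), 2), ((2, 20), 2), ((2, 22), 2), ((2, 26), 1), ((2, 27), 2), ((2, 29), 1), ((2, 31), 2), ((2, 36), 2), ((2, 42), 2), ((2, 49), 2), ((2, 59), 2), ((2, 61), 1), ((2, 94), 2), ((1, 4), 2), ((1, 6), 2), ((1, 11), 1), ((1, 15), 1), ((1, 17), 1), ((1, 21), 1), ((1, 44), 1), ((1, 53), 1), ((1, 58), 1), ((1, 60), 2), ((1, 65), 2), ((3, 3), 2), ((3, 11), 1), ((3, 17), 2), ((3, 39), 2), ((3, 89), 1), ((3, 35), 2), ((4, 106), 1), ((4, 117), 2), ((4, 121), 2), ((3, 0), 2), ((3, 1), 1), ((3, 2), 2), ((3, 4), 2), ((3, 7), 1), ((3, 9), 1), ((3, 13), 1), ((3, 15), 1), ((3, 19), 1), ((3, 22), 2), ((3,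 23), 1), ((3, 29), 2), ((3, 30), 1), ((3, 31), 2), ((3, 33), 1), ((3, 36), 1), ((3, 38), 1), ((3, 40), 1), ((3, 47), 2), ((3, 53), 2), ((3, 57), 1), ((3, 61), 1), ((3, 63), 1), ((3, 67), 1), ((3, 74), 2), ((3, 82), 1), ((5, 76), 1), ((4, 88), 2), ((5, 1), 1), ((5, 39), 2), ((5, 45), 2), ((5, 89), 1), ((5, 52), 1), ((5, 100), 2), ((5, 101), 1), ((5, 109), 2), ((5, 122), 2), ((4, 4), 1), ((4, 12), 1), ((4, 21), 2), ((4, 50), 2), ((4, 59), 2), ((4, 126), 2), ((5, 37), 1), ((4, 2), 1), ((4, 6), 1), ((4, 9), 2), ((4, 36), 2), ((4, 86), 1), ((5, 11), 2), ((5, 51), 1), ((5, 92), 1), ((5, 93), 2), ((5, 103), 1), ((5, 117), 1), ((5, 29), 1), ((5, 66), 2), ((5, 83), 2), ((5, 126), 1)],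
  [((0, 87), 1)],
  [((0, 89), 1)],
  [((0, 91), 1)],
  [((0, 93), 1)],
  [((0, 1), 2), ((0, 2), 1), ((0, 4), 2), ((0, 5), 1), ((0, 8), 2), ((0, 10), 1), ((0, 17), 2), ((0, 21), 1), ((0, 33), 2), ((0, 41), 1), ((0, 59), 2), ((0, 71), 1), ((1, 39), 2), ((1, 89), 1), ((2, 0), 1), ((2, 5), 2), ((2, 7), 1), ((2, 10), 1), ((2, 12), 2), ((2, 14), 2), ((2, 16), 2), ((2, 20), 2), ((2, 22), 1), ((2, 29), 1), ((2, 40), 2), ((2, 49), 2), ((2, 61), 1), ((2, 66), 2), ((2, 78), 2), ((2, 84), 1), ((2, 88), 1), ((2, 94), 1), ((1, 0), 2), ((1, 6), 2), ((1, 9), 2), ((1, 15), 2), ((1, 17), 1), ((1, 21), 1), ((1, 30), 2), ((1, 37), 2), ((1, 53), 2), ((1, 58), 2), ((1, 60), 1), ((1, 65), 1), ((1, 69), 2), ((3, 11), 2), ((3, 17), 2), ((3, 39), 2), ((3, 92), 2), ((4, 83), 2), ((4, 106), 2), ((4, 117), 1), ((4, 121), 1), ((3, 0), 2), ((3, 1), 2), ((3,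 4), 2), ((3, 7), 2), ((3, 9), 2), ((3, 15), 2), ((3, 19), 2), ((3, 27), 2), ((3, 29), 1), ((3, 30), 2), ((3, 31), 1), ((3, 32), 2), ((3, 36), 2), ((3, 40), 1), ((3, 43), 2), ((3, 47), 2), ((3, 53), 2), ((3, 55), 2), ((3, 57), 2), ((3, 63), 2), ((3, 67), 1), ((3, 74), 2), ((3, 81), 2), ((3, 82), 1), ((4, 76), 2), ((5, 76), 2), ((5, 97), 2), ((4, 88), 2), ((5, 1), 2), ((5, 45), 2), ((5, 89), 2), ((5, 40), 2), ((5, 54), 2), ((5, 8), 2), ((5, 52), 2), ((5, 73), 1), ((5, 109), 2), ((4, 12), 1), ((4, 21), 1), ((4, 50), 1), ((4, 59), 2), ((4, 126), 1), ((5, 37), 2), ((4, 2), 1), ((4, 36), 2), ((4, 86), 2), ((5, 11), 1), ((5, 51), 2), ((5, 103), 1), ((5, 117), 1), ((5, 29), 1), ((5, 126), 1)],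
  [((0, 96), 1)],
  [((0, 97), 1)],
  [((0, 3), 1), ((0, 4), 2), ((0, 7), 1), ((0, 9), 2), ((0, 15), 1), ((0, 18), 2), ((0, 29), 1), ((0, 34), 2), ((0, 62), 2), ((1, 89), 1), ((2, 1), 1), ((2, 7), 2), ((2, 8), 1), ((2, 10), 2), ((2, 12), 1), ((2, 14), 1), ((2, 16), 1), ((2, 18), 2), ((2, 22), 1), ((2, 26), 1), ((2, 27), 2), ((2, 31), 2), ((2, 36), 2), ((2, 40), 2), ((2, 42), 1), ((2, 49), 2), ((2, 61), 2), ((2, 66), 2), ((2, 78), 1), ((2, 84), 1), ((2, 88), 2), ((2, 94), 1), ((1, 0), 1), ((1, 2), 1), ((1, 4), 2), ((1, 6), 1), ((1, 9), 2), ((1, 15), 1), ((1, 17), 1), ((1, 30), 2), ((1, 37), 2), ((1, 44), 2), ((1, 57), 2), ((1, 58), 2), ((1, 60), 1), ((1, 69), 2), ((3, 3), 1), ((3, 11), 2), ((3, 17), 2), ((3, 39), 1), ((3, 89), 2), ((3, 92), 1), ((3, 35), 1), ((4, 106), 2), ((4, 117), 2), ((3, 0), 1), ((3, 2), 1), ((3, 4), 1), ((3,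 6), 2), ((3, 8), 2), ((3, 9), 1), ((3, 12), 1), ((3, 13), 2), ((3, 27), 1), ((3, 31), 2), ((3, 32), 1), ((3, 36), 2), ((3, 38), 1), ((3, 40), 2), ((3, 43), 2), ((3, 47), 2), ((3, 53), 2), ((3, 55), 2), ((3, 57), 2), ((3, 61), 1), ((3, 63), 2), ((3, 74), 1), ((3, 81), 2), ((3, 82), 1), ((3, 88), 1), ((4, 76), 1), ((5, 76), 2), ((5, 97), 2), ((4, 88), 2), ((5, 1), 1), ((5, 45), 2), ((5, 89), 1), ((5, 40), 1), ((5, 8), 2), ((5, 52), 2), ((5, 100), 2), ((5, 109), 2), ((5, 122), 1), ((4, 4), 2), ((4, 50), 2), ((4, 59), 2), ((4, 77), 1), ((5, 37), 1), ((4, 6), 2), ((4, 36), 1), ((4, 86), 1), ((5, 11), 1), ((5, 92), 1), ((5, 103), 2), ((5, 117), 1), ((5, 29), 2), ((5, 66), 2), ((5, 83), 1), ((5, 126), 1)],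
  [((0, 99), 1)],
  [((0, 8), 1), ((0, 9), 2), ((0, 16), 1), ((0, 19), 2), ((0, 31), 1), ((0, 36), 2), ((0, 56), 1), ((0, 64), 2), ((1, 39), 2), ((1, 89), 1), ((2, 0), 1), ((2, 1), 1), ((2, 7), 1), ((2, 10), 1), ((2, 14), 1), ((2, 16), 2), ((2, 18), 2), ((2, 20), 2), ((2, 31), 2), ((2, 40), 2), ((2, 42), 1), ((2, 61), 1), ((2, 78), 1), ((2, 84), 2), ((2, 94), 1), ((1, 2), 2), ((1, 13), 2), ((1, 21), 2), ((1, 30), 1), ((1, 57), 2), ((1, 58), 2), ((1, 65), 2), ((3, 3), 2), ((3, 17), 1), ((3, 39), 1), ((3, 89), 2), ((4, 83), 1), ((4, 106), 2), ((4, 117), 2), ((4, 121), 2), ((3, 0), 1), ((3, 2), 1), ((3, 8), 1), ((3, 9), 2), ((3, 12), 2), ((3, 13), 2), ((3, 22), 2), ((3, 23), 1), ((3, 27), 2), ((3, 29), 2), ((3, 30), 2), ((3, 32), 2), ((3, 36), 2), ((3, 40), 2), ((3, 43), 1), ((3, 44), 1), ((3, 53), 2), ((3, 55), 1), ((3, 61), 2), ((3,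 63), 1), ((3, 67), 1), ((3, 82), 2), ((3, 88), 1), ((4, 76), 1), ((5, 76), 2), ((4, 95), 2), ((5, 39), 1), ((5, 40), 2), ((5, 8), 2), ((5, 52), 2), ((5, 100), 1), ((5, 109), 2), ((5, 115), 2), ((4, 4), 2), ((4, 12), 1), ((4, 21), 2), ((4, 77), 2), ((4, 126), 1), ((4, 2), 1), ((4, 6), 2), ((4, 9), 1), ((4, 36), 1), ((5, 11), 2), ((5, 51), 2), ((5, 92), 2), ((5, 103), 1), ((5, 66), 1), ((5, 83), 1), ((4, 92), 1), ((5, 7), 1)],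
  [((0, 100), 1)],
  [((0, 8), 1), ((0, 9), 2), ((0, 16), 1), ((0, 19), 2), ((0, 32), 1), ((0, 37), 2), ((0, 58), 1), ((0, 66), 2), ((0, 92), 1), ((1, 39), 2), ((2, 0), 1), ((2, 1), 2), ((2, 5), 2), ((2, 8), 2), ((2, 10), 2), ((2, 14), 2), ((2, 16), 2), ((2, 20), 2), ((2, 29), 1), ((2, 31), 2), ((2, 36), 1), ((2, 40), 2), ((2, 59), 1), ((2, 66), 1), ((2, 78), 2), ((2, 84), 2), ((2, 94), 1), ((1, 2), 1), ((1, 9), 1), ((1, 15), 2), ((1, 17), 1), ((1, 37), 2), ((1, 44), 1), ((1, 53), 2), ((1, 57), 2), ((1, 58), 2), ((1, 60), 2), ((1, 69), 1), ((3, 3), 1), ((3, 11), 2), ((3, 17), 1), ((3, 39), 1), ((3, 92), 1), ((3, 35), 1), ((4, 83), 2), ((4, 106), 2), ((3, 1), 1), ((3, 4), 2), ((3, 7), 2), ((3, 8), 2), ((3, 9), 2), ((3, 12), 1), ((3, 15), 1), ((3, 23), 1), ((3, 30), 1), ((3, 31), 1), ((3, 32), 1), ((3, 33), 1), ((3, 36), 2), ((3,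 40), 2), ((3, 43), 1), ((3, 44), 1), ((3, 47), 1), ((3, 53), 1), ((3, 57), 1), ((3, 61), 2), ((3, 63), 1), ((3, 67), 1), ((3, 81), 2), ((3, 82), 2), ((3, 88), 2), ((4, 76), 1), ((5, 76), 1), ((4, 95), 1), ((5, 89), 1), ((5, 54), 1), ((5, 8), 2), ((5, 73), 2), ((5, 100), 1), ((5, 101), 1), ((5, 109), 2), ((5, 115), 2), ((5, 122), 2), ((4, 4), 1), ((4, 77), 2), ((4, 126), 2), ((5, 37), 1), ((4, 2), 1), ((5, 11), 1), ((5, 51), 2), ((5, 92), 2), ((5, 93), 1), ((5, 103), 1), ((5, 66), 2), ((5, 7), 2)],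
  [((0, 1), 1), ((0, 2), 2), ((0, 4), 1), ((0, 5), 2), ((0, 9), 1), ((0, 10), 2), ((0, 18), 1), ((0, 20), 2), ((0, 35), 1), ((0, 38), 2), ((0, 63), 1), ((0, 67), 2), ((0, 98), 1), ((1, 89), 1), ((2, 0), 1), ((2, 5), 2), ((2, 8), 1), ((2, 10), 2), ((2, 14), 1), ((2, 18), 2), ((2, 20), 1), ((2, 22), 2), ((2, 26), 1), ((2, 27), 1), ((2, 36), 1), ((2, 42), 2), ((2, 49), 2), ((2, 59), 2), ((2, 66), 1), ((2, 78), 2), ((2, 88), 1), ((2, 94), 1), ((1, 2), 2), ((1, 6), 1), ((1, 11), 2), ((1, 13), 2), ((1, 15), 1), ((1, 17), 1), ((1, 21), 2), ((1, 30), 2), ((1, 37), 2), ((1, 44), 2), ((1, 53), 1), ((1, 58), 1), ((1, 65), 2), ((1, 69), 1), ((3, 17), 2), ((3, 89), 2), ((3, 92), 2), ((4, 106), 2), ((4, 117), 1), ((4, 121), 2), ((3, 2), 2), ((3, 6), 1), ((3, 7), 1), ((3, 8), 2), ((3, 9), 1), ((3, 12), 2), ((3, 13), 1), ((3, 19), 2), ((3, 23),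 2), ((3, 29), 1), ((3, 31), 2), ((3, 33), 1), ((3, 36), 2), ((3, 38), 2), ((3, 53), 2), ((3, 57), 2), ((3, 61), 2), ((3, 63), 2), ((3, 67), 2), ((3, 88), 1), ((4, 76), 2), ((5, 76), 1), ((4, 88), 1), ((5, 1), 1), ((5, 89), 2), ((5, 40), 1), ((5, 54), 2), ((5, 8), 1), ((5, 52), 1), ((5, 100), 1), ((5, 101), 2), ((5, 109), 2), ((5, 122), 2), ((4, 4), 1), ((4, 12), 2), ((4, 21), 1), ((4, 50), 1), ((4, 59), 1), ((4, 126), 1), ((5, 37), 1), ((4, 2), 1), ((4, 6), 1), ((5, 51), 1), ((5, 92), 2), ((5, 93), 1), ((5, 117), 2), ((5, 29), 2), ((5, 66), 1), ((4, 92), 1), ((5, 7), 1)],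
  [((0, 1), 1), ((0, 2), 2), ((0, 3), 1), ((0, 5), 2), ((0, 7), 1), ((0, 10), 2), ((0, 14), 1), ((0, 20), 2), ((0, 27), 1), ((0, 38), 2), ((0, 68), 2), ((1, 39), 2), ((2, 0), 1), ((2, 5), 2), ((2, 7), 1), ((2, 10), 2), ((2, 14), 2), ((2, 20), 1), ((2, 26), 1), ((2, 27), 1), ((2, 31), 2), ((2, 36), 2), ((2, 40), 2), ((2, 42), 2), ((2, 49), 1), ((2, 59), 1), ((2, 61), 2), ((2, 66), 2), ((2, 84), 1), ((2, 88), 2), ((2, 94), 2), ((1, 4), 2), ((1, 6), 1), ((1, 9), 2), ((1, 11), 2), ((1, 13), 2), ((1, 17), 2), ((1, 21), 2), ((1, 30), 1), ((1, 37), 1), ((1, 65), 1), ((1, 69), 2), ((3, 3), 2), ((3, 11), 2), ((3, 39), 2), ((3, 89), 1), ((3, 92), 1), ((3, 35), 1), ((4, 83), 2), ((4, 117), 1), ((4, 121), 1), ((3, 0), 1), ((3, 6), 2), ((3, 7), 1), ((3, 8), 1), ((3, 9), 1), ((3, 15), 2), ((3, 22), 2), ((3, 23), 2), ((3, 27), 2), ((3, 32), 1),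 ((3, 36), 1), ((3, 40), 1), ((3, 43), 2), ((3, 44), 1), ((3, 47), 2), ((3, 53), 2), ((3, 55), 2), ((3, 57), 2), ((3, 63), 1), ((3, 67), 2), ((3, 81), 1), ((3, 82), 2), ((3, 88), 2), ((4, 76), 1), ((5, 97), 1), ((5, 1), 2), ((5, 39), 2), ((5, 45), 1), ((5, 89), 1), ((5, 40), 2), ((5, 54), 1), ((5, 8), 2), ((5, 73), 1), ((5, 101), 1), ((5, 122), 2), ((4, 21), 2), ((4, 50), 2), ((4, 126), 1), ((5, 37), 2), ((4, 2), 1), ((4, 9), 2), ((4, 36), 2), ((5, 11), 1), ((5, 51), 1), ((5, 93), 2), ((5, 103), 1), ((5, 117), 1), ((5, 66), 2), ((5, 83), 1), ((5, 126), 1), ((5, 7), 2)],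
  [((0, 103), 1)],
  [((0, 5), 2), ((0, 6), 1), ((0, 10), 2), ((0, 12), 1), ((0, 21), 2), ((0, 24), 1), ((0, 40), 2), ((0, 45), 1), ((0, 70), 2), ((1, 39), 1), ((1, 89), 1), ((2, 1), 2), ((2, 5), 1), ((2, 7), 1), ((2, 10), 1), ((2, 16), 1), ((2, 18), 1), ((2, 27), 1), ((2, 29), 2), ((2, 36), 1), ((2, 40), 2), ((2, 49), 2), ((2, 66), 1), ((2, 84), 1), ((2, 88), 2), ((1, 0), 1), ((1, 2), 1), ((1, 4), 1), ((1, 6), 2), ((1, 9), 1), ((1, 11), 2), ((1, 15), 2), ((1, 17), 2), ((1, 21), 1), ((1, 37), 2), ((1, 44), 2), ((1, 53), 2), ((1, 57), 1), ((1, 60), 2), ((3, 3), 1), ((3, 39), 1), ((3, 89), 2), ((3, 35), 1), ((4, 83), 1), ((4, 117), 1), ((4, 121), 2), ((3, 0), 1), ((3, 1), 2), ((3, 4), 1), ((3, 6), 2), ((3, 7), 1), ((3, 8), 2), ((3, 13), 1), ((3, 15), 1), ((3, 19), 1), ((3, 22), 2), ((3, 23), 1), ((3, 27), 2), ((3, 29), 1), ((3, 30),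 2), ((3, 31), 2), ((3, 32), 1), ((3, 33), 2), ((3, 38), 2), ((3, 43), 2), ((3, 44), 2), ((3, 47), 1), ((3, 55), 2), ((3, 61), 2), ((3, 74), 2), ((3, 81), 1), ((3, 88), 1), ((4, 76), 2), ((4, 88), 1), ((4, 95), 2), ((5, 39), 1), ((5, 89), 2), ((5, 54), 1), ((5, 8), 1), ((5, 73), 1), ((5, 115), 2), ((4, 50), 2), ((4, 59), 1), ((4, 77), 1), ((4, 126), 1), ((5, 37), 2), ((4, 2), 1), ((4, 9), 1), ((4, 36), 2), ((4, 86), 2), ((5, 11), 1), ((5, 92), 2), ((5, 93), 2), ((5, 117), 2), ((5, 83), 1), ((5, 126), 1), ((4, 92), 1), ((5, 7), 2)],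
  [((0, 105), 1)],
  [((0, 1), 1), ((0, 2), 2), ((0, 3), 1), ((0, 5), 2), ((0, 7), 1), ((0, 11), 2), ((0, 14), 1), ((0, 22), 2), ((0, 27), 1), ((0, 43), 2), ((0, 49), 1), ((0, 72), 2), ((2, 1), 1), ((2, 7), 2), ((2, 8), 2), ((2, 10), 1), ((2, 12), 1), ((2, 14), 2), ((2, 16), 2), ((2, 18), 1), ((2, 20), 1), ((2, 22), 1), ((2, 26), 1), ((2, 27), 1), ((2, 31), 1), ((2, 40), 2), ((2, 42), 2), ((2, 49), 1), ((2, 61), 2), ((2, 66), 1), ((2, 78), 1), ((2, 84), 2), ((2, 94), 1), ((1, 0), 2), ((1, 9), 2), ((1, 11), 2), ((1, 13), 1), ((1, 15), 1), ((1, 17), 2), ((1, 21), 2), ((1, 37), 2), ((1, 44), 2), ((1, 60), 1), ((1, 69), 1), ((3, 3), 2), ((3, 11), 2), ((3, 39), 1), ((3, 89), 1), ((3, 92), 1), ((4, 83), 2), ((4, 106), 1), ((3, 0), 1), ((3, 2), 1), ((3, 7), 1), ((3, 8), 2), ((3, 9), 1), ((3, 12), 1), ((3, 13), 1), ((3, 15), 1), ((3, 19),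 2), ((3, 22), 2), ((3, 23), 2), ((3, 27), 1), ((3, 29), 1), ((3, 31), 2), ((3, 32), 2), ((3, 36), 2), ((3, 38), 2), ((3, 43), 1), ((3, 44), 1), ((3, 55), 1), ((3, 57), 1), ((3, 61), 2), ((3, 63), 2), ((3, 67), 2), ((3, 74), 2), ((3, 81), 1), ((3, 82), 1), ((3, 88), 2), ((4, 76), 2), ((5, 76), 1), ((4, 88), 2), ((5, 39), 1), ((5, 45), 2), ((5, 89), 2), ((5, 40), 2), ((5, 54), 1), ((5, 52), 2), ((5, 73), 2), ((5, 100), 1), ((5, 115), 1), ((5, 122), 2), ((4, 4), 1), ((4, 12), 1), ((4, 59), 2), ((4, 2), 1), ((4, 9), 2), ((4, 86), 1), ((5, 11), 2), ((5, 51), 1), ((5, 93), 1), ((5, 103), 2), ((5, 117), 2), ((5, 29), 1), ((5, 83), 2), ((5, 126), 2)],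
  [((0, 1), 1), ((0, 2), 2), ((0, 3), 1), ((0, 5), 2), ((0, 7), 1), ((0, 11), 2), ((0, 14), 1), ((0, 22), 2), ((0, 28), 1), ((0, 43), 2), ((0, 50), 1), ((0, 73), 2), ((1, 39), 2), ((1, 89), 1), ((2, 0), 1), ((2, 1), 1), ((2, 7), 2), ((2, 10), 1), ((2, 14), 2), ((2, 16), 2), ((2, 26), 1), ((2, 29), 1), ((2, 31), 2), ((2, 36), 2), ((2, 40), 1), ((2, 42), 1), ((2, 59), 1), ((2, 61), 1), ((2, 66), 1), ((2, 78), 1), ((2, 84), 2), ((2, 88), 2), ((2, 94), 1), ((1, 0), 2), ((1, 4), 1), ((1, 9), 1), ((1, 11), 2), ((1, 13), 1), ((1, 15), 2), ((1, 21), 1), ((1, 37), 2), ((1, 58), 1), ((1, 60), 2), ((3, 3), 1), ((3, 11), 1), ((3, 17), 2), ((3, 92), 2), ((4, 83), 2), ((4, 106), 2), ((4, 117), 2), ((4, 121), 2), ((3, 1), 2), ((3, 4), 2), ((3, 6), 2), ((3, 9), 1), ((3, 12), 2), ((3, 13), 2), ((3, 15), 1), ((3, 19), 2), ((3, 22), 1), ((3, 27),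 1), ((3, 29), 1), ((3, 30), 1), ((3, 31), 2), ((3, 33), 1), ((3, 36), 2), ((3, 40), 1), ((3, 43), 1), ((3, 44), 1), ((3, 47), 1), ((3, 61), 2), ((3, 74), 2), ((3, 81), 2), ((3, 82), 2), ((3, 88), 1), ((4, 76), 2), ((5, 76), 2), ((4, 88), 1), ((4, 95), 2), ((5, 1), 2), ((5, 39), 2), ((5, 45), 1), ((5, 40), 2), ((5, 54), 2), ((5, 8), 1), ((5, 52), 2), ((5, 73), 2), ((5, 100), 1), ((5, 101), 2), ((5, 109), 2), ((5, 115), 1), ((4, 4), 1), ((4, 12), 2), ((4, 21), 1), ((4, 59), 1), ((5, 37), 1), ((4, 2), 2), ((4, 6), 1), ((4, 36), 1), ((4, 86), 1), ((5, 11), 2), ((5, 93), 1), ((5, 103), 2), ((5, 117), 1), ((5, 29), 2), ((5, 66), 2), ((5, 83), 2), ((5, 126), 2), ((4, 92), 1), ((5, 7), 2)],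
  [((0, 109), 1)],
  [((0, 11), 2), ((0, 23), 2), ((0, 44), 2), ((0, 75), 2), ((2, 5), 1)],
  [((0, 45), 2), ((0, 76), 2), ((1, 39), 1), ((1, 89), 2), ((2, 0), 1), ((2, 1), 1), ((2, 7), 2), ((2, 10), 2), ((2, 14), 1), ((2, 18), 1), ((2, 20), 2), ((2, 26), 2), ((2, 29), 1), ((2, 31), 2), ((2, 40), 2), ((2, 59), 1), ((2, 66), 1), ((2, 78), 1), ((2, 84), 1), ((2, 94), 2), ((1, 0), 2), ((1, 2), 2), ((1, 9), 2), ((1, 11), 2), ((1, 13), 2), ((1, 17), 1), ((1, 21), 2), ((1, 30), 1), ((1, 37), 1), ((1, 53), 1), ((1, 60), 1), ((3, 17), 1), ((3, 39), 1), ((3, 89), 1), ((3, 92), 1), ((4, 83), 2), ((4, 117), 2), ((4, 121), 2), ((3, 0), 1), ((3, 2), 1), ((3, 4), 2), ((3, 6), 2), ((3, 7), 1), ((3, 13), 2), ((3, 15), 2), ((3, 22), 2), ((3, 23), 1), ((3, 27), 1), ((3, 29), 1), ((3, 30), 1), ((3, 33), 2), ((3, 36), 1), ((3, 43), 2), ((3, 44), 1),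 ((3, 47), 1), ((3, 53), 2), ((3, 57), 2), ((3, 61), 2), ((3, 67), 1), ((3, 81), 2), ((3, 82), 1), ((3, 88), 1), ((4, 76), 2), ((5, 76), 2), ((5, 97), 1), ((4, 88), 1), ((5, 89), 1), ((5, 40), 1), ((5, 8), 1), ((5, 73), 2), ((5, 101), 1), ((5, 122), 1), ((4, 4), 1), ((4, 12), 2), ((4, 21), 2), ((4, 59), 1), ((4, 77), 2), ((4, 126), 1), ((5, 37), 2), ((4, 2), 1), ((4, 6), 2), ((4, 36), 1), ((5, 11), 2), ((5, 93), 1), ((5, 103), 1), ((5, 83), 1), ((5, 126), 1), ((4, 92), 2)],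
  [((0, 111), 1)],
  [((0, 112), 1)],
  [((0, 5), 1), ((0, 6), 2), ((0, 10), 1), ((0, 12), 2), ((0, 20), 1), ((0, 25), 2), ((0, 38), 1), ((0, 46), 2), ((0, 79), 2), ((1, 39), 2), ((2, 0), 1), ((2, 1), 2), ((2, 5), 2), ((2, 7), 2), ((2, 10), 1), ((2, 12), 1), ((2, 16), 1), ((2, 18), 1), ((2, 20), 1), ((2, 22), 2), ((2, 29), 2), ((2, 31), 1), ((2, 36), 1), ((2, 40), 2), ((2, 42), 1), ((2, 49), 2), ((2, 59), 2), ((2, 61), 2), ((2, 78), 1), ((2, 84), 1), ((2, 88), 1), ((2, 94), 2), ((1, 0), 1), ((1, 4), 2), ((1, 9), 2), ((1, 11), 1), ((1, 13), 2), ((1, 15), 1), ((1, 21), 1), ((1, 30), 1), ((1, 37), 2), ((1, 44), 1), ((1, 53), 2), ((1, 57), 1), ((1, 58), 2), ((1, 60), 2), ((1, 65), 2), ((3, 3), 1), ((3, 11), 1), ((3, 89), 1), ((4, 83), 1), ((4, 106), 1), ((4, 121), 2), ((3, 0), 1), ((3, 1), 1), ((3, 2), 2), ((3, 4), 1), ((3, 6), 1),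 ((3, 7), 2), ((3, 9), 1), ((3, 12), 2), ((3, 13), 2), ((3, 15), 2), ((3, 19), 2), ((3, 23), 2), ((3, 27), 1), ((3, 29), 1), ((3, 30), 2), ((3, 33), 2), ((3, 36), 1), ((3, 40), 1), ((3, 43), 2), ((3, 44), 2), ((3, 61), 2), ((3, 63), 1), ((3, 67), 2), ((3, 74), 2), ((3, 82), 1), ((4, 76), 2), ((5, 39), 1), ((5, 89), 1), ((5, 40), 2), ((5, 8), 2), ((5, 52), 2), ((5, 73), 1), ((5, 101), 1), ((4, 4), 1), ((4, 12), 2), ((4, 21), 2), ((4, 77), 2), ((5, 37), 2), ((4, 2), 1), ((4, 6), 2), ((4, 9), 2), ((4, 36), 2), ((4, 86), 1), ((5, 11), 2), ((5, 51), 1), ((5, 92), 1), ((5, 93), 1), ((5, 29), 2), ((5, 83), 2), ((5, 126), 2), ((5, 7), 1)],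
  [((0, 113), 1)],
  [((0, 115), 1)],
  [((0, 1), 1), ((0, 2), 2), ((0, 4), 1), ((0, 6), 2), ((0, 9), 1), ((0, 13), 2), ((0, 19), 1), ((0, 26), 2), ((0, 37), 1), ((0, 48), 2), ((0, 66), 1), ((0, 82), 2), ((0, 101), 1), ((1, 39), 1), ((2, 0), 2), ((2, 1), 1), ((2, 5), 1), ((2, 12), 1), ((2, 16), 2), ((2, 20), 2), ((2, 22), 2), ((2, 26), 2), ((2, 27), 1), ((2, 40), 2), ((2, 49), 1), ((2, 59), 2), ((2, 66), 1), ((2, 78), 2), ((2, 88), 2), ((2, 94), 1), ((1, 0), 2), ((1, 2), 2), ((1, 6), 2), ((1, 9), 2), ((1, 11), 1), ((1, 13), 1), ((1, 15), 1), ((1, 30), 2), ((1, 44), 2), ((1, 57), 2), ((1, 60), 1), ((1, 65), 1), ((1, 69), 2), ((3, 3), 1), ((3, 11), 2), ((3, 17), 1), ((3, 89), 2), ((4, 106), 1), ((4, 121), 2), ((3, 0), 1), ((3, 1), 2), ((3, 2), 1), ((3, 7), 2), ((3, 8), 2), ((3, 12), 2), ((3, 13), 1), ((3, 15), 2), ((3, 19), 2), ((3,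 22), 1), ((3, 23), 1), ((3, 29), 2), ((3, 30), 2), ((3, 31), 2), ((3, 32), 1), ((3, 33), 2), ((3, 36), 2), ((3, 38), 2), ((3, 40), 1), ((3, 47), 1), ((3, 55), 1), ((3, 57), 1), ((3, 61), 1), ((3, 63), 1), ((3, 67), 1), ((3, 81), 1), ((3, 88), 1), ((4, 76), 1), ((5, 76), 2), ((4, 88), 2), ((4, 95), 2), ((5, 39), 2), ((5, 89), 2), ((5, 40), 2), ((5, 54), 2), ((5, 8), 1), ((5, 73), 2), ((5, 101), 1), ((5, 109), 1), ((5, 115), 2), ((5, 122), 2), ((4, 12), 2), ((4, 21), 2), ((4, 50), 1), ((4, 59), 2), ((4, 77), 1), ((4, 126), 1), ((5, 37), 2), ((4, 2), 1), ((4, 6), 2), ((4, 9), 1), ((4, 36), 2), ((5, 11), 2), ((5, 51), 1), ((5, 93), 1), ((5, 66), 1), ((5, 126), 2), ((4, 92), 1), ((5, 7), 2)],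
  [((0, 1), 2), ((0, 2), 1), ((0, 3), 2), ((0, 5), 1), ((0, 7), 2), ((0, 10), 1), ((0, 15), 2), ((0, 29), 2), ((0, 52), 2), ((0, 83), 2), ((1, 39), 1), ((1, 89), 1), ((2, 0), 2), ((2, 1), 1), ((2, 8), 1), ((2, 10), 2), ((2, 12), 2), ((2, 16), 1), ((2, 18), 1), ((2, 22), 1), ((2, 26), 1), ((2, 29), 2), ((2, 36), 1), ((2, 42), 1), ((2, 49), 2), ((2, 59), 1), ((2, 61), 2), ((2, 84), 2), ((2, 88), 2), ((1, 0), 2), ((1, 2), 2), ((1, 6), 1), ((1, 11), 1), ((1, 13), 2), ((1, 17), 1), ((1, 30), 2), ((1, 37), 1), ((1, 44), 1), ((1, 53), 1), ((1, 65), 2), ((3, 3), 1), ((3, 39), 2), ((3, 89), 1), ((3, 92), 2), ((4, 83), 1), ((4, 121), 2), ((3, 0), 2), ((3, 1), 1), ((3, 4), 1), ((3, 7), 2), ((3, 8), 1), ((3, 9), 1), ((3, 12), 1), ((3, 13), 1), ((3, 15), 2), ((3, 22), 2), ((3, 23), 2), ((3, 29), 2), ((3, 30), 1), ((3, 40), 2), ((3, 43), 1),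 ((3, 44), 1), ((3, 55), 1), ((3, 61), 2), ((3, 63), 1), ((3, 81), 1), ((3, 88), 2), ((4, 76), 1), ((5, 76), 1), ((4, 88), 2), ((5, 45), 1), ((5, 89), 1), ((5, 40), 2), ((5, 8), 2), ((5, 52), 1), ((5, 100), 1), ((5, 115), 2), ((5, 122), 2), ((4, 4), 2), ((4, 50), 1), ((4, 59), 2), ((4, 77), 1), ((5, 37), 1), ((4, 2), 1), ((4, 6), 2), ((4, 9), 2), ((4, 36), 2), ((4, 86), 2), ((5, 11), 2), ((5, 51), 2), ((5, 92), 1), ((5, 103), 1), ((5, 117), 1), ((5, 29), 1), ((5, 66), 2), ((5, 83), 2), ((5, 7), 1)],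
  [((0, 1), 2), ((0, 2), 1), ((0, 3), 2), ((0, 5), 1), ((0, 7), 2), ((0, 10), 1), ((0, 15), 2), ((0, 21), 1), ((0, 29), 2), ((0, 40), 1), ((0, 53), 2), ((0, 70), 1), ((0, 84), 2), ((0, 104), 1), ((1, 39), 2), ((2, 0), 2), ((2, 1), 1), ((2, 7), 1), ((2, 8), 2), ((2, 12), 2), ((2, 14), 2), ((2, 18), 2), ((2, 26), 2), ((2, 29), 2), ((2, 36), 1), ((2, 42), 2), ((2, 49), 2), ((2, 59), 2), ((2, 61), 1), ((2, 78), 1), ((2, 84), 2), ((2, 88), 1), ((2, 94), 2), ((1, 0), 1), ((1, 2), 2), ((1, 6), 2), ((1, 11), 1), ((1, 15), 1), ((1, 17), 1), ((1, 21), 1), ((1, 37), 1), ((1, 44), 2), ((1, 57), 2), ((1, 58), 2), ((1, 65), 2), ((1, 69), 2), ((3, 3), 1), ((3, 11), 2), ((3, 39), 2), ((3, 89), 2), ((3, 92), 1), ((3, 35), 1), ((3, 0), 2), ((3, 4), 1), ((3, 6), 2), ((3, 7), 2), ((3, 12), 1), ((3, 15), 1), ((3, 23), 2), ((3, 27), 2), ((3, 31), 2),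 ((3, 33), 2), ((3, 36), 1), ((3, 40), 2), ((3, 43), 1), ((3, 44), 2), ((3, 47), 1), ((3, 55), 1), ((3, 63), 2), ((3, 74), 2), ((3, 81), 1), ((4, 76), 1), ((5, 76), 2), ((5, 97), 2), ((4, 88), 2), ((4, 95), 2), ((5, 45), 2), ((5, 89), 1), ((5, 40), 2), ((5, 8), 1), ((5, 52), 1), ((5, 101), 1), ((5, 109), 2), ((5, 122), 1), ((4, 4), 1), ((4, 12), 1), ((4, 59), 2), ((4, 77), 1), ((4, 126), 1), ((5, 37), 1), ((4, 2), 2), ((4, 9), 2), ((4, 86), 2), ((5, 11), 2), ((5, 51), 2), ((5, 92), 2), ((5, 117), 2), ((5, 29), 2), ((5, 83), 2), ((4, 92), 1), ((5, 7), 2)],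
  [((0, 3), 2), ((0, 4), 1), ((0, 7), 2), ((0, 9), 1), ((0, 15), 2), ((0, 18), 1), ((0, 29), 2), ((0, 34), 1), ((0, 53), 2), ((0, 85), 2), ((1, 89), 2), ((2, 1), 2), ((2, 7), 1), ((2, 8), 2), ((2, 10), 1), ((2, 12), 2), ((2, 14), 2), ((2, 16), 2), ((2, 18), 1), ((2, 22), 2), ((2, 26), 2), ((2, 27), 1), ((2, 29), 1), ((2, 31), 1), ((2, 36), 1), ((2, 40), 1), ((2, 42), 2), ((2, 49), 1), ((2, 61), 1), ((2, 66), 1), ((2, 78), 2), ((2, 84), 2), ((2, 88), 1), ((2, 94), 2), ((1, 0), 2), ((1, 2), 2), ((1, 4), 1), ((1, 6), 2), ((1, 9), 1), ((1, 15), 2), ((1, 17), 2), ((1, 30), 1), ((1, 37), 1), ((1, 44), 1), ((1, 57), 1), ((1, 58), 1), ((1, 60), 2), ((1, 69), 1), ((3, 3), 2), ((3, 11), 1), ((3, 17), 1), ((3, 39), 2), ((3, 89), 1), ((3, 92), 2), ((3, 35), 2), ((4, 106), 1), ((4, 117), 1), ((3, 0), 2), ((3, 2), 2), ((3, 4), 2), ((3, 6), 1),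 ((3, 8), 1), ((3, 9), 2), ((3, 12), 2), ((3, 13), 1), ((3, 27), 2), ((3, 31), 1), ((3, 32), 2), ((3, 36), 1), ((3, 38), 2), ((3, 40), 1), ((3, 43), 1), ((3, 47), 1), ((3, 53), 1), ((3, 55), 1), ((3, 57), 1), ((3, 61), 2), ((3, 63), 1), ((3, 74), 2), ((3, 81), 1), ((3, 82), 2), ((3, 88), 2), ((4, 76), 2), ((5, 76), 1), ((5, 97), 1), ((4, 88), 1), ((5, 1), 2), ((5, 45), 1), ((5, 89), 2), ((5, 40), 2), ((5, 8), 1), ((5, 52), 1), ((5, 100), 1), ((5, 109), 1), ((5, 122), 2), ((4, 4), 1), ((4, 50), 1), ((4, 59), 1), ((4, 77), 2), ((5, 37), 2), ((4, 6), 1), ((4, 36), 2), ((4, 86), 2), ((5, 11), 2), ((5, 92), 2), ((5, 103), 1), ((5, 117), 2), ((5, 29), 1), ((5, 66), 1), ((5, 83), 2), ((5, 126), 2)],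
  [((0, 118), 1)],
  [((0, 15), 2), ((0, 30), 2), ((0, 55), 2), ((0, 87), 2), ((2, 7), 1)],
  [((0, 120), 1)],
  [((0, 3), 1), ((0, 4), 2), ((0, 7), 1), ((0, 8), 2), ((0, 15), 1), ((0, 16), 2), ((0, 29), 1), ((0, 31), 2), ((0, 53), 1), ((0, 56), 2), ((0, 85), 1), ((0, 89), 2), ((0, 117), 1), ((1, 39), 2), ((1, 89), 2), ((2, 1), 2), ((2, 5), 1), ((2, 8), 1), ((2, 10), 2), ((2, 14), 1), ((2, 16), 2), ((2, 22), 2), ((2, 31), 2), ((2, 36), 2), ((2, 59), 1), ((2, 61), 1), ((2, 78), 2), ((2, 84), 1), ((2, 88), 2), ((2, 94), 2), ((1, 0), 2), ((1, 2), 1), ((1, 4), 1), ((1, 6), 2), ((1, 9), 2), ((1, 11), 2), ((1, 15), 2), ((1, 37), 2), ((1, 44), 2), ((1, 53), 1), ((1, 58), 1), ((1, 60), 2), ((1, 65), 1), ((1, 69), 2), ((3, 3), 2), ((3, 11), 2), ((3, 17), 2), ((3, 39), 2), ((3, 89), 1), ((3, 92), 1), ((4, 83), 2), ((4, 106), 1), ((4, 117),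 2), ((4, 121), 2), ((3, 0), 1), ((3, 2), 1), ((3, 7), 1), ((3, 8), 1), ((3, 12), 1), ((3, 22), 1), ((3, 29), 2), ((3, 30), 2), ((3, 31), 2), ((3, 32), 2), ((3, 33), 2), ((3, 36), 1), ((3, 40), 1), ((3, 43), 2), ((3, 44), 1), ((3, 53), 2), ((3, 57), 2), ((3, 63), 2), ((3, 74), 2), ((3, 81), 1), ((3, 82), 2), ((4, 76), 1), ((5, 76), 2), ((5, 97), 1), ((4, 88), 2), ((4, 95), 1), ((5, 1), 2), ((5, 39), 1), ((5, 45), 1), ((5, 54), 2), ((5, 73), 1), ((5, 100), 1), ((5, 101), 1), ((5, 115), 2), ((5, 122), 1), ((4, 4), 1), ((4, 21), 2), ((4, 50), 2), ((4, 59), 2), ((4, 2), 2), ((4, 6), 1), ((4, 36), 1), ((4, 86), 2), ((5, 11), 1), ((5, 51), 2), ((5, 93), 1), ((5, 103), 2), ((5, 117), 1), ((5, 66), 2), ((5, 126), 1), ((5, 7), 2)],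
  [((0, 3), 1), ((0, 4), 2), ((0, 7), 1), ((0, 8), 2), ((0, 15), 1), ((0, 16), 2), ((0, 29), 1), ((0, 31), 2), ((0, 52), 1), ((0, 57), 2), ((0, 83), 1), ((0, 90), 2), ((0, 116), 1), ((1, 89), 2), ((2, 5), 1), ((2, 8), 1), ((2, 10), 1), ((2, 12), 1), ((2, 14), 1), ((2, 22), 2), ((2, 26), 2), ((2, 27), 2), ((2, 31), 2), ((2, 36), 1), ((2, 40), 2), ((2, 49), 2), ((2, 61), 2), ((2, 66), 2), ((2, 78), 1), ((2, 84), 2), ((2, 88), 1), ((1, 0), 1), ((1, 2), 2), ((1, 4), 2), ((1, 6), 1), ((1, 9), 1), ((1, 11), 2), ((1, 13), 2), ((1, 15), 2), ((1, 21), 2), ((1, 37), 2), ((1, 44), 1), ((1, 53), 2), ((1, 58), 2), ((1, 65), 2), ((3, 3), 1), ((3, 39), 1), ((3, 89), 1), ((3, 92), 1), ((3, 35), 2), ((4, 83), 1), ((3, 0), 2), ((3, 1), 2), ((3, 2), 2), ((3, 6), 1), ((3, 7), 1), ((3, 8), 2), ((3, 12), 2), ((3, 13), 1), ((3, 15), 2), ((3, 22), 2),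 ((3, 30), 1), ((3, 31), 1), ((3, 33), 2), ((3, 38), 1), ((3, 43), 1), ((3, 47), 1), ((3, 55), 2), ((3, 61), 2), ((3, 63), 2), ((3, 74), 2), ((3, 81), 1), ((4, 76), 2), ((5, 97), 1), ((4, 88), 1), ((4, 95), 1), ((5, 1), 1), ((5, 39), 1), ((5, 45), 1), ((5, 89), 2), ((5, 40), 1), ((5, 8), 1), ((5, 52), 2), ((5, 73), 2), ((5, 100), 2), ((5, 101), 2), ((5, 109), 1), ((5, 115), 1), ((4, 4), 1), ((4, 12), 1), ((4, 21), 1), ((4, 59), 1), ((4, 77), 1), ((4, 126), 1), ((5, 37), 1), ((4, 6), 1), ((4, 36), 2), ((5, 11), 2), ((5, 51), 2), ((5, 92), 2), ((5, 103), 1), ((5, 117), 1), ((5, 66), 2), ((5, 126), 2), ((4, 92), 1), ((5, 7), 2)],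
  [((0, 122), 1)],
  [((0, 123), 1), ((1, 39), 2), ((1, 89), 2), ((2, 0), 1), ((2, 5), 2), ((2, 7), 2), ((2, 8), 1), ((2, 12), 1), ((2, 18), 2), ((2, 20), 2), ((2, 22), 1), ((2, 26), 2), ((2, 27), 1), ((2, 29), 2), ((2, 31), 2), ((2, 36), 1), ((2, 40), 2), ((2, 49), 1), ((2, 59), 2), ((2, 61), 2), ((2, 78), 1), ((2, 84), 2), ((2, 88), 2), ((1, 6), 2), ((1, 9), 1), ((1, 11), 2), ((1, 13), 1), ((1, 15), 1), ((1, 21), 2), ((1, 30), 2), ((1, 37), 1), ((1, 44), 2), ((1, 53), 2), ((1, 58), 2), ((1, 60), 1), ((1, 65), 1), ((1, 69), 2), ((3, 3), 2), ((3, 17), 2), ((4, 121), 1), ((3, 0), 2), ((3, 1), 1), ((3, 2), 2), ((3, 4), 1), ((3, 6), 1), ((3, 7), 1), ((3, 8), 1), ((3, 12), 1), ((3, 13), 1), ((3, 19), 2), ((3, 23), 1), ((3, 27), 1), ((3, 30), 2), ((3, 32), 2), ((3, 38), 2), ((3, 40), 2), ((3, 43), 1), ((3, 44), 2), ((3, 47), 1), ((3,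 53), 1), ((3, 55), 2), ((3, 63), 1), ((3, 67), 1), ((3, 74), 2), ((3, 81), 1), ((3, 82), 1), ((3, 88), 2), ((5, 76), 2), ((5, 97), 2), ((4, 95), 1), ((5, 1), 2), ((5, 39), 2), ((5, 45), 1), ((5, 89), 1), ((5, 54), 1), ((5, 8), 2), ((5, 73), 2), ((5, 100), 1), ((5, 109), 2), ((5, 122), 1), ((4, 12), 1), ((4, 21), 1), ((4, 77), 1), ((4, 126), 1), ((5, 37), 1), ((4, 2), 1), ((4, 6), 1), ((4, 36), 1), ((5, 51), 2), ((5, 92), 2), ((5, 93), 2), ((5, 117), 2), ((5, 66), 2), ((5, 83), 1), ((5, 126), 2)],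
  [((0, 16), 2), ((0, 17), 1), ((0, 32), 2), ((0, 33), 1), ((0, 58), 2), ((0, 60), 1), ((0, 93), 2), ((0, 95), 1), ((1, 39), 1), ((1, 89), 1), ((2, 0), 2), ((2, 5), 1), ((2, 7), 1), ((2, 8), 1), ((2, 12), 2), ((2, 14), 1), ((2, 18), 2), ((2, 20), 2), ((2, 22), 2), ((2, 26), 2), ((2, 27), 1), ((2, 31), 1), ((2, 36), 2), ((2, 42), 1), ((2, 49), 1), ((2, 59), 2), ((2, 61), 2), ((2, 66), 1), ((2, 78), 1), ((2, 84), 2), ((2, 88), 2), ((2, 94), 2), ((1, 0), 2), ((1, 2), 2), ((1, 4), 2), ((1, 13), 1), ((1, 15), 2), ((1, 17), 1), ((1, 21), 1), ((1, 30), 2), ((1, 37), 2), ((1, 44), 1), ((1, 53), 1), ((1, 58), 2), ((1, 60), 1), ((1, 69), 1), ((3, 89), 1), ((3, 35), 2), ((4, 83), 2), ((4, 106), 2), ((4, 117), 1), ((4, 121), 2), ((3, 0), 1), ((3, 2), 1), ((3, 6), 1), ((3, 8), 2), ((3, 9), 1), ((3, 12), 1), ((3, 13), 2), ((3, 15), 1), ((3, 22),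 1), ((3, 23), 1), ((3, 27), 2), ((3, 30), 2), ((3, 32), 1), ((3, 33), 1), ((3, 36), 1), ((3, 38), 2), ((3, 43), 1), ((3, 47), 1), ((3, 53), 1), ((3, 55), 1), ((3, 63), 1), ((3, 67), 1), ((3, 81), 2), ((3, 88), 1), ((4, 76), 2), ((5, 97), 1), ((5, 39), 1), ((5, 45), 2), ((5, 89), 2), ((5, 40), 1), ((5, 54), 1), ((5, 8), 2), ((5, 73), 1), ((5, 101), 1), ((5, 115), 2), ((4, 21), 1), ((4, 50), 1), ((4, 77), 1), ((5, 37), 1), ((4, 2), 2), ((4, 6), 2), ((4, 9), 2), ((4, 36), 1), ((4, 86), 2), ((5, 51), 2), ((5, 117), 1), ((5, 29), 1), ((5, 83), 1), ((5, 7), 1)],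
  [((0, 125), 1)],
  [((0, 16), 1), ((0, 17), 2), ((0, 33), 2), ((0, 60), 2), ((0, 95), 2), ((1, 39), 2), ((1, 89), 2), ((2, 0), 1), ((2, 5), 2), ((2, 7), 2), ((2, 8), 2), ((2, 12), 1), ((2, 14), 2), ((2, 16), 1), ((2, 18), 1), ((2, 20), 1), ((2, 22), 1), ((2, 26), 1), ((2, 27), 2), ((2, 31), 2), ((2, 36), 1), ((2, 42), 2), ((2, 49), 2), ((2, 59), 1), ((2, 61), 1), ((2, 66), 2), ((2, 78), 2), ((2, 84), 1), ((2, 88), 1), ((2, 94), 1), ((1, 0), 1), ((1, 2), 1), ((1, 4), 1), ((1, 13), 2), ((1, 15), 1), ((1, 17), 2), ((1, 21), 2), ((1, 30), 1), ((1, 37), 1), ((1, 44), 2), ((1, 53), 2), ((1, 58), 1), ((1, 60), 2), ((1, 69), 2), ((3, 89), 2), ((3, 35), 1), ((4, 83), 1), ((4, 106), 1), ((4, 117), 2), ((4, 121), 1), ((3, 0), 2), ((3, 2), 2), ((3, 6), 2), ((3, 8), 1), ((3, 9), 2), ((3, 12), 2), ((3, 13), 1), ((3, 15), 2), ((3, 22), 2), ((3,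 23), 2), ((3, 27), 1), ((3, 30), 1), ((3, 32), 2), ((3, 33), 2), ((3, 36), 2), ((3, 38), 1), ((3, 43), 2), ((3, 47), 2), ((3, 53), 2), ((3, 55), 2), ((3, 63), 2), ((3, 67), 2), ((3, 81), 1), ((3, 88), 2), ((4, 76), 1), ((5, 97), 2), ((5, 39), 2), ((5, 45), 1), ((5, 89), 1), ((5, 40), 2), ((5, 54), 2), ((5, 8), 1), ((5, 73), 2), ((5, 101), 2), ((5, 115), 1), ((4, 21), 2), ((4, 50), 2), ((4, 77), 2), ((5, 37), 2), ((4, 2), 1), ((4, 6), 1), ((4, 9), 1), ((4, 36), 2), ((4, 86), 1), ((5, 51), 1), ((5, 117), 2), ((5, 29), 2), ((5, 83), 2), ((5, 7), 2)],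
  [((0, 17), 2), ((0, 33), 2), ((0, 60), 2), ((0, 96), 2), ((1, 39), 1), ((2, 0), 2), ((2, 5), 2), ((2, 10), 2), ((2, 14), 2), ((2, 18), 1), ((2, 20), 2), ((2, 26), 2), ((2, 29), 2), ((2, 31), 1), ((2, 36), 1), ((2, 59), 2), ((2, 61), 1), ((2, 88), 2), ((2, 94), 1), ((1, 2), 1), ((1, 4), 2), ((1, 6), 2), ((1, 9), 2), ((1, 11), 1), ((1, 13), 2), ((1, 17), 2), ((1, 37), 2), ((1, 44), 2), ((1, 57), 1), ((1, 60), 2), ((1, 65), 1), ((1, 69), 1), ((3, 39), 2), ((3, 89), 1), ((3, 92), 1), ((4, 83), 2), ((4, 106), 1), ((4, 117), 1), ((4, 121), 1), ((3, 1), 2), ((3, 4), 1), ((3, 6), 2), ((3, 8), 1), ((3, 9), 1), ((3, 12), 1), ((3, 15), 1), ((3, 19), 2), ((3, 23), 1), ((3, 30), 1), ((3, 31), 2), ((3, 32), 2), ((3, 33), 2), ((3, 36), 2), ((3, 53), 1), ((3, 61), 1), ((3, 63), 2), ((3, 67), 1), ((3, 82), 1), ((3, 88), 2), ((5, 76), 2), ((4,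 88), 2), ((5, 1), 2), ((5, 89), 2), ((5, 40), 1), ((5, 52), 1), ((5, 109), 1), ((5, 115), 1), ((4, 4), 2), ((4, 59), 2), ((4, 77), 2), ((4, 126), 2), ((5, 37), 1), ((4, 2), 2), ((4, 9), 2), ((4, 36), 2), ((4, 86), 1), ((5, 11), 2), ((5, 93), 1), ((5, 117), 2), ((5, 29), 1), ((5, 83), 1), ((4, 92), 2)],
  [((0, 1), 2), ((0, 2), 1), ((0, 4), 2), ((0, 5), 1), ((0, 9), 2), ((0, 11), 1), ((0, 18), 2), ((0, 22), 1), ((0, 34), 2), ((0, 43), 1), ((0, 61), 2), ((0, 73), 1), ((0, 97), 2), ((0, 107), 1), ((1, 39), 1), ((1, 89), 1), ((2, 0), 1), ((2, 1), 1), ((2, 5), 2), ((2, 7), 1), ((2, 8), 1), ((2, 10), 1), ((2, 12), 1), ((2, 16), 2), ((2, 18), 2), ((2, 20), 1), ((2, 22), 1), ((2, 26), 1), ((2, 29), 2), ((2, 36), 2), ((2, 40), 1), ((2, 42), 1), ((2, 59), 1), ((2, 66), 1), ((2, 84), 1), ((1, 0), 2), ((1, 4), 1), ((1, 6), 1), ((1, 11), 2),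 ((1, 13), 1), ((1, 15), 2), ((1, 17), 1), ((1, 21), 2), ((1, 37), 1), ((1, 44), 2), ((1, 53), 2), ((1, 58), 1), ((1, 69), 2), ((3, 3), 2), ((3, 11), 1), ((3, 17), 2), ((3, 89), 2), ((3, 92), 2), ((3, 35), 2), ((4, 83), 2), ((4, 106), 2), ((4, 117), 1), ((4, 121), 2), ((3, 0), 1), ((3, 1), 2), ((3, 2), 1), ((3, 4), 1), ((3, 6), 2), ((3, 7), 2), ((3, 9), 2), ((3, 12), 2), ((3, 15), 1), ((3, 22), 1), ((3, 23), 2), ((3, 27), 2), ((3, 29), 1), ((3, 31), 1), ((3, 32), 2), ((3, 33), 2), ((3, 40), 1), ((3, 43), 2), ((3, 44), 1), ((3, 47), 1), ((3, 55), 1), ((3, 61), 1), ((3, 67), 2), ((3, 74), 2), ((3, 82), 2), ((3, 88), 2), ((4, 76), 1), ((5, 97), 1), ((5, 1), 1), ((5, 40), 2), ((5, 8), 2), ((5, 52), 1), ((5, 73), 1), ((5, 100), 1), ((5, 101), 2), ((5, 109), 1), ((5, 122), 2), ((4, 12), 1), ((4, 50), 1), ((4, 77), 1), ((5, 37), 1), ((4,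 6), 1), ((4, 9), 2), ((4, 36), 1), ((4, 86), 2), ((5, 11), 1), ((5, 92), 1), ((5, 103), 2), ((5, 29), 2), ((5, 66), 2), ((5, 83), 1), ((4, 92), 1)],
  [((0, 127), 1)],
  [((0, 128), 1)],
  [((0, 8), 1), ((0, 9), 2), ((0, 16), 1), ((0, 19), 2), ((0, 31), 1), ((0, 36), 2), ((0, 57), 1), ((0, 65), 2), ((0, 90), 1), ((0, 100), 2), ((0, 121), 1), ((1, 39), 2), ((1, 89), 2), ((2, 0), 2), ((2, 1), 1), ((2, 7), 2), ((2, 8), 1), ((2, 10), 2), ((2, 14), 2), ((2, 18), 2), ((2, 20), 2), ((2, 22), 1), ((2, 26), 1), ((2, 29), 2), ((2, 40), 1), ((2, 42), 2), ((2, 59), 1), ((2, 66), 2), ((2, 78), 2), ((2, 88), 2), ((2, 94), 1), ((1, 0), 1), ((1, 2), 2), ((1, 4), 1), ((1, 6), 1), ((1, 9), 2), ((1, 11), 1), ((1, 15), 2), ((1, 30), 1), ((1, 53), 2), ((1, 57), 1), ((1, 58), 1), ((1, 60), 1), ((3, 3), 2), ((3, 11), 1), ((3, 17), 2), ((3, 35), 1), ((4,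 83), 1), ((4, 106), 1), ((3, 0), 1), ((3, 1), 1), ((3, 2), 1), ((3, 4), 1), ((3, 7), 1), ((3, 9), 1), ((3, 12), 2), ((3, 13), 2), ((3, 15), 2), ((3, 19), 2), ((3, 22), 2), ((3, 23), 1), ((3, 27), 1), ((3, 29), 2), ((3, 30), 2), ((3, 31), 1), ((3, 32), 1), ((3, 33), 2), ((3, 36), 2), ((3, 40), 2), ((3, 44), 1), ((3, 53), 2), ((3, 55), 1), ((3, 57), 2), ((3, 61), 1), ((3, 67), 1), ((3, 74), 1), ((3, 81), 2), ((3, 82), 1), ((4, 76), 2), ((5, 76), 1), ((5, 97), 2), ((4, 88), 2), ((4, 95), 2), ((5, 1), 1), ((5, 89), 2), ((5, 54), 2), ((5, 8), 2), ((5, 73), 2), ((5, 115), 2), ((5, 122), 2), ((4, 4), 2), ((4, 12), 2), ((4, 21), 1), ((4, 50), 1), ((4, 59), 2), ((4, 77), 2), ((4, 126), 2), ((5, 37), 1), ((4, 2), 2), ((4, 6), 2), ((4, 9), 1), ((4, 86), 1), ((5, 51), 2), ((5, 92), 2), ((5, 83), 1), ((5, 126), 2), ((4, 92), 1)],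
  [((0, 1), 2), ((0, 2), 1), ((0, 4), 2), ((0, 5), 1), ((0, 9), 2), ((0, 11), 1), ((0, 19), 2), ((0, 22), 1), ((0, 37), 2), ((0, 43), 1), ((0, 66), 2), ((0, 72), 1), ((0, 101), 2), ((0, 106), 1), ((1, 89), 2), ((2, 5), 2), ((2, 7), 2), ((2, 8), 1), ((2, 12), 2), ((2, 14), 2), ((2, 18), 2), ((2, 26), 1), ((2, 27), 2), ((2, 29), 2), ((2, 31), 1), ((2, 36), 1), ((2, 49), 2), ((2, 59), 1), ((2, 61), 2), ((2, 66), 1), ((2, 84), 2), ((2, 88), 1), ((2, 94), 1), ((1, 0), 2), ((1, 4), 1), ((1, 6), 1), ((1, 9), 2), ((1, 13), 1), ((1, 15), 2), ((1, 21), 1), ((1, 30), 1), ((1, 53), 1), ((1, 57), 1), ((1, 58), 2), ((1, 60), 2), ((1, 65), 2), ((1, 69), 2), ((3, 3), 2), ((3, 17), 2), ((3, 39), 1), ((3, 89), 1), ((3, 92), 1), ((3, 35), 1), ((4, 83), 2), ((4, 106), 2), ((4, 117), 2), ((4, 121), 1), ((3, 1), 2), ((3, 4), 1), ((3, 12), 2), ((3, 22),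 1), ((3, 27), 1), ((3, 29), 1), ((3, 30), 2), ((3, 31), 1), ((3, 32), 2), ((3, 33), 2), ((3, 36), 2), ((3, 38), 1), ((3, 40), 1), ((3, 43), 1), ((3, 44), 2), ((3, 47), 1), ((3, 53), 1), ((3, 55), 2), ((3, 61), 1), ((3, 74), 1), ((3, 81), 1), ((3, 82), 1), ((3, 88), 1), ((5, 97), 2), ((4, 88), 1), ((5, 39), 2), ((5, 45), 2), ((5, 89), 2), ((5, 54), 1), ((5, 8), 1), ((5, 52), 1), ((5, 100), 1), ((5, 101), 1), ((5, 109), 2), ((5, 115), 1), ((5, 122), 2), ((4, 21), 2), ((4, 50), 1), ((4, 59), 1), ((4, 77), 1), ((4, 126), 1), ((4, 36), 2), ((4, 86), 2), ((5, 11), 2), ((5, 92), 1), ((5, 93), 2), ((5, 103), 1), ((5, 66), 1), ((5, 83), 2), ((5, 126), 1), ((5, 7), 2)],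
  [((0, 1), 1), ((0, 2), 2), ((0, 3), 1), ((0, 5), 2), ((0, 7), 1), ((0, 10), 2), ((0, 15), 1), ((0, 20), 2), ((0, 30), 1), ((0, 39), 2), ((0, 54), 1), ((0, 69), 2), ((0, 86), 1), ((0, 102), 2), ((1, 89), 2), ((2, 0), 1), ((2, 1), 1), ((2, 5), 1), ((2, 8), 1), ((2, 10), 2), ((2, 12), 2), ((2, 14), 1), ((2, 16), 2), ((2, 20), 1), ((2, 27), 1), ((2, 40), 1), ((2, 42), 1), ((2, 49), 2), ((2, 59), 1), ((2, 66), 1), ((2, 84), 2), ((2, 94), 1), ((1, 0), 2), ((1, 2), 2), ((1, 4), 2), ((1, 9), 2), ((1, 11), 2), ((1, 13), 1), ((1, 15), 2), ((1, 17), 1), ((1, 21), 1), ((1, 30), 2), ((1, 53), 2), ((1, 57), 2), ((1, 58), 2), ((1, 60), 2), ((1, 69), 2), ((3, 3), 2), ((3, 11), 2), ((3, 17), 1), ((3, 39), 2), ((3, 89), 2), ((3, 92), 2), ((3, 35), 1), ((4, 83), 1), ((4, 106), 1), ((4, 121), 1), ((3, 1), 1), ((3, 2), 2), ((3, 6), 2), ((3, 7), 1),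 ((3, 8), 1), ((3, 9), 2), ((3, 13), 2), ((3, 19), 2), ((3, 22), 2), ((3, 29), 2), ((3, 30), 1), ((3, 32), 1), ((3, 36), 2), ((3, 38), 2), ((3, 43), 2), ((3, 44), 2), ((3, 47), 2), ((3, 53), 2), ((3, 57), 2), ((3, 61), 1), ((3, 67), 2), ((3, 74), 2), ((3, 81), 1), ((3, 82), 1), ((3, 88), 2), ((4, 76), 2), ((5, 76), 1), ((4, 88), 2), ((5, 1), 2), ((5, 39), 1), ((5, 54), 1), ((5, 8), 1), ((5, 52), 2), ((5, 115), 2), ((4, 4), 2), ((4, 12), 2), ((4, 21), 2), ((4, 50), 2), ((4, 59), 2), ((4, 77), 2), ((5, 37), 2), ((4, 86), 2), ((5, 51), 2), ((5, 92), 2), ((5, 93), 1), ((5, 29), 2), ((5, 7), 2)],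
  [((0, 10), 2), ((0, 11), 1), ((0, 20), 2), ((0, 23), 1), ((0, 39), 2), ((0, 44), 1), ((0, 69), 2), ((0, 75), 1), ((0, 103), 2), ((0, 110), 1), ((1, 39), 1), ((1, 89), 2), ((2, 0), 2), ((2, 1), 1), ((2, 5), 1), ((2, 7), 2), ((2, 12), 2), ((2, 14), 2), ((2, 16), 2), ((2, 18), 1), ((2, 20), 2), ((2, 22), 1), ((2, 26), 2), ((2, 29), 1), ((2, 36), 2), ((2, 40), 2), ((2, 42), 1), ((2, 66), 1), ((2, 78), 1), ((2, 88), 2), ((2, 94), 2), ((1, 0), 1), ((1, 2), 1), ((1, 6), 1), ((1, 9), 1), ((1, 11), 2), ((1, 13), 2), ((1, 15), 1), ((1, 17), 2), ((1, 21), 1), ((1, 30), 1), ((1, 37), 2), ((1, 44), 2), ((1, 53), 2), ((1, 57), 1), ((1, 58), 2), ((1, 60), 2), ((1, 65), 2), ((1, 69), 2), ((3, 3), 1), ((3, 11), 1), ((3, 17), 1), ((3, 39), 1), ((3, 89), 2), ((3, 92), 1), ((3, 35), 1), ((4, 83), 1), ((4, 106), 1), ((4, 117), 1), ((4, 121), 1), ((3,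 4), 2), ((3, 6), 1), ((3, 7), 2), ((3, 12), 1), ((3, 13), 1), ((3, 15), 2), ((3, 22), 2), ((3, 23), 1), ((3, 27), 1), ((3, 29), 2), ((3, 36), 1), ((3, 44), 1), ((3, 47), 2), ((3, 55), 1), ((3, 57), 1), ((3, 61), 1), ((3, 67), 1), ((3, 74), 1), ((3, 82), 2), ((3, 88), 2), ((4, 76), 2), ((5, 97), 2), ((4, 88), 2), ((4, 95), 2), ((5, 1), 2), ((5, 89), 1), ((5, 40), 1), ((5, 8), 2), ((5, 73), 2), ((5, 100), 2), ((5, 101), 2), ((5, 109), 2), ((5, 122), 2), ((4, 4), 2), ((4, 12), 2), ((4, 21), 1), ((4, 50), 1), ((4, 59), 2), ((4, 77), 2), ((4, 126), 1), ((4, 2), 1), ((4, 6), 2), ((4, 36), 1), ((5, 11), 2), ((5, 93), 1), ((5, 117), 2), ((5, 29), 2), ((5, 66), 1), ((5, 83), 1), ((5, 126), 2), ((4, 92), 2), ((5, 7), 1)],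
  [((0, 20), 1), ((0, 21), 2), ((0, 39), 1), ((0, 40), 2), ((0, 69), 1), ((0, 70), 2), ((0, 102), 1), ((0, 104), 2), ((2, 0), 1), ((2, 1), 1), ((2, 7), 2), ((2, 8), 2), ((2, 12), 1), ((2, 14), 2), ((2, 16), 2), ((2, 18), 1), ((2, 20), 1), ((2, 22), 1), ((2, 26), 1), ((2, 27), 1), ((2, 31), 1), ((2, 40), 2), ((2, 42), 2), ((2, 49), 1), ((2, 61), 2), ((2, 66), 1), ((2, 78), 1), ((2, 84), 2), ((2, 94), 1), ((1, 0), 2), ((1, 9), 2), ((1, 11), 2), ((1, 13), 1), ((1, 15), 1), ((1, 17), 2), ((1, 21), 2), ((1, 37), 2), ((1, 44), 2), ((1, 60), 1), ((1, 69), 1), ((3, 11), 2), ((3, 39), 2), ((3, 89), 1), ((3, 92), 1), ((4, 83), 2), ((4, 106), 1), ((3, 0), 1), ((3, 1), 1), ((3, 2), 1), ((3, 7), 1), ((3, 8), 2), ((3, 9), 1), ((3, 12), 1), ((3, 13), 1), ((3, 15), 1), ((3, 19), 2), ((3, 22), 2), ((3, 23), 2), ((3, 27), 1), ((3, 29), 1), ((3, 31),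 2), ((3, 32), 2), ((3, 36), 2), ((3, 38), 2), ((3, 43), 1), ((3, 44), 1), ((3, 55), 1), ((3, 57), 1), ((3, 61), 2), ((3, 63), 2), ((3, 67), 2), ((3, 74), 2), ((3, 81), 1), ((3, 82), 1), ((3, 88), 2), ((4, 76), 2), ((5, 76), 1), ((4, 88), 2), ((5, 39), 1), ((5, 45), 2), ((5, 89), 2), ((5, 40), 2), ((5, 54), 1), ((5, 52), 2), ((5, 73), 2), ((5, 100), 1), ((5, 115), 1), ((5, 122), 2), ((4, 4), 1), ((4, 12), 1), ((4, 21), 2), ((4, 59), 2), ((4, 2), 2), ((4, 9), 2), ((4, 86), 1), ((5, 11), 2), ((5, 51), 1), ((5, 93), 1), ((5, 103), 2), ((5, 117), 2), ((5, 29), 1), ((5, 83), 2), ((5, 126), 2)],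
  [((0, 10), 2), ((0, 11), 1), ((0, 21), 2), ((0, 23), 1), ((0, 41), 2), ((0, 44), 1), ((0, 71), 2), ((0, 74), 1), ((0, 105), 2), ((1, 39), 1), ((1, 89), 1), ((2, 0), 2), ((2, 1), 2), ((2, 5), 2), ((2, 7), 2), ((2, 8), 1), ((2, 10), 2), ((2, 18), 1), ((2, 20), 2), ((2, 22), 1), ((2, 26), 2), ((2, 27), 2), ((2, 29), 2), ((2, 36), 1), ((2, 40), 1), ((2, 42), 1), ((2, 49), 2), ((2, 59), 1), ((2, 61), 1), ((2, 78), 2), ((2, 84), 1), ((2, 88), 2), ((2, 94), 2), ((1, 4), 1), ((1, 6), 1), ((1, 13), 1), ((1, 15), 1), ((1, 17), 2), ((1, 37), 1), ((1, 44), 2), ((1, 53), 2), ((1, 60), 1), ((1, 65), 2), ((3, 11), 2), ((3, 39), 1), ((4, 106), 2), ((4, 121), 2), ((3, 0), 2), ((3, 2), 2), ((3, 4), 1), ((3, 6), 1), ((3, 7), 2), ((3, 8), 2), ((3, 15), 1), ((3, 19), 1), ((3, 23), 1), ((3, 27), 1), ((3, 29), 2), ((3, 30), 1), ((3, 31), 1), ((3, 32),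 1), ((3, 36), 1), ((3, 38), 1), ((3, 40), 1), ((3, 43), 2), ((3, 44), 2), ((3, 47), 2), ((3, 53), 1), ((3, 55), 1), ((3, 57), 1), ((3, 67), 1), ((3, 74), 1), ((3, 81), 2), ((3, 88), 1), ((4, 76), 1), ((5, 76), 1), ((4, 95), 1), ((5, 45), 2), ((5, 89), 2), ((5, 40), 2), ((5, 8), 2), ((5, 73), 2), ((5, 109), 1), ((5, 115), 1), ((4, 50), 2), ((4, 6), 2), ((4, 9), 1), ((5, 11), 1), ((5, 92), 2), ((5, 103), 1), ((5, 117), 2), ((5, 29), 1), ((4, 92), 1), ((5, 7), 1)],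
  [((0, 5), 2), ((0, 6), 1), ((0, 11), 2), ((0, 13), 1), ((0, 22), 2), ((0, 26), 1), ((0, 43), 2), ((0, 72), 2), ((0, 106), 2), ((1, 39), 2), ((1, 89), 1), ((2, 0), 1), ((2, 1), 2), ((2, 7), 1), ((2, 8), 2), ((2, 14), 1), ((2, 16), 1), ((2, 18), 1), ((2, 20), 1), ((2, 22), 1), ((2, 26), 1), ((2, 29), 1), ((2, 31), 2), ((2, 36), 2), ((2, 40), 1), ((2, 61), 1), ((2, 66), 1), ((2, 78), 1), ((2, 84), 1), ((2, 94), 1), ((1, 0), 2), ((1, 2), 1), ((1, 4), 2), ((1, 9), 2), ((1, 11), 2), ((1, 13), 1), ((1, 21), 2), ((1, 44), 1), ((1, 53), 2), ((1, 58), 1), ((1, 69), 2), ((3, 11), 1), ((3, 39), 2), ((3, 92), 2), ((3, 35), 2), ((4, 83), 1), ((4, 117), 1), ((3, 0), 2), ((3, 1), 2), ((3, 2), 2), ((3, 4), 2), ((3, 7), 1), ((3, 8), 1), ((3, 12), 2), ((3, 13), 2), ((3, 15), 1), ((3, 19), 1), ((3, 22), 1), ((3, 23), 2), ((3, 27), 2), ((3, 30), 2),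 ((3, 33), 2), ((3, 36), 2), ((3, 40), 1), ((3, 43), 2), ((3, 44), 1), ((3, 47), 1), ((3, 53), 2), ((3, 57), 2), ((3, 61), 1), ((3, 63), 2), ((3, 67), 2), ((3, 74), 2), ((3, 81), 1), ((3, 82), 2), ((3, 88), 1), ((4, 76), 2), ((5, 76), 1), ((5, 97), 1), ((4, 95), 1), ((5, 39), 2), ((5, 45), 1), ((5, 89), 2), ((5, 40), 1), ((5, 8), 1), ((5, 52), 2), ((5, 73), 1), ((5, 100), 2), ((5, 101), 1), ((5, 122), 2), ((4, 12), 1), ((4, 21), 2), ((4, 50), 1), ((4, 77), 1), ((4, 126), 1), ((5, 37), 1), ((4, 2), 2), ((4, 6), 1), ((4, 9), 2), ((4, 36), 2), ((4, 86), 1), ((5, 11), 2), ((5, 51), 2), ((5, 92), 2), ((5, 103), 2), ((5, 66), 1), ((5, 83), 1), ((4, 92), 2), ((5, 7), 2)],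
  [((0, 1), 1), ((0, 2), 2), ((0, 4), 1), ((0, 5), 2), ((0, 8), 1), ((0, 11), 2), ((0, 16), 1), ((0, 22), 2), ((0, 32), 1), ((0, 43), 2), ((0, 58), 1), ((0, 73), 2), ((0, 93), 1), ((0, 107), 2), ((0, 124), 1), ((1, 39), 2), ((1, 89), 1), ((2, 0), 2), ((2, 1), 1), ((2, 5), 1), ((2, 7), 2), ((2, 10), 2), ((2, 12), 1), ((2, 14), 2), ((2, 16), 1), ((2, 26), 1), ((2, 27), 1), ((2, 29), 1), ((2, 31), 1), ((2, 40), 2), ((2, 42), 1), ((2, 49), 1), ((2, 59), 2), ((2, 61), 1), ((2, 66), 1), ((2, 94), 2), ((1, 0), 2), ((1, 11), 2), ((1, 13), 2), ((1, 15), 1), ((1, 37), 2), ((1, 44), 2), ((1, 53), 2), ((1, 58), 1), ((1, 60), 1), ((1, 65), 1), ((1, 69), 1), ((3, 3), 2), ((3, 17), 2), ((3, 39), 2), ((3, 89), 1), ((3, 92), 1), ((3, 35), 2), ((4, 83), 2), ((4, 106), 1), ((4, 117), 2), ((4, 121), 1), ((3, 1), 1), ((3, 4), 2), ((3, 6), 2), ((3, 7),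 2), ((3, 8), 1), ((3, 12), 2), ((3, 13), 1), ((3, 15), 2), ((3, 22), 1), ((3, 27), 1), ((3, 29), 2), ((3, 31), 2), ((3, 33), 1), ((3, 36), 1), ((3, 38), 2), ((3, 47), 2), ((3, 53), 1), ((3, 55), 2), ((3, 57), 2), ((3, 63), 1), ((3, 81), 1), ((4, 95), 2), ((5, 1), 2), ((5, 89), 2), ((5, 40), 2), ((5, 8), 1), ((5, 73), 2), ((5, 101), 1), ((5, 109), 1), ((5, 115), 1), ((5, 122), 1), ((4, 4), 1), ((4, 12), 1), ((4, 50), 2), ((4, 77), 2), ((4, 126), 1), ((5, 37), 2), ((4, 2), 1), ((4, 6), 2), ((4, 9), 1), ((4, 36), 1), ((5, 92), 1), ((5, 93), 1), ((5, 117), 2), ((5, 66), 1), ((5, 83), 2), ((5, 126), 1), ((4, 92), 1), ((5, 7), 1)],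
  [((0, 1), 1), ((0, 2), 2), ((0, 4), 1), ((0, 5), 2), ((0, 9), 1), ((0, 11), 2), ((0, 19), 1), ((0, 23), 2), ((0, 36), 1), ((0, 44), 2), ((0, 74), 2), ((0, 108), 2), ((1, 39), 1), ((1, 89), 2), ((2, 0), 2), ((2, 1), 1), ((2, 12), 1), ((2, 14), 2), ((2, 16), 1), ((2, 18), 2), ((2, 22), 2), ((2, 27), 2), ((2, 31), 2), ((2, 36), 2), ((2, 40), 1), ((2, 42), 2), ((2, 61), 1), ((2, 66), 1), ((2, 84), 2), ((2, 88), 2), ((2, 94), 2), ((1, 2), 1), ((1, 4), 1), ((1, 6), 2), ((1, 9), 2), ((1, 13), 2), ((1, 15), 1), ((1, 21), 2), ((1, 37), 2), ((1, 44), 1), ((1, 53), 1), ((1, 57), 2), ((1, 58), 2), ((1, 60), 2), ((1, 69), 1), ((3, 3), 2), ((3, 39), 1), ((3, 35), 2), ((4, 83), 2), ((4, 117), 2), ((4, 121), 2), ((3, 0), 1), ((3, 1), 2), ((3, 6), 2), ((3, 7), 2), ((3, 9), 2), ((3, 12), 1), ((3, 19), 1), ((3, 22), 1), ((3, 23), 1), ((3, 29), 1),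 ((3, 30), 2), ((3, 31), 1), ((3, 32), 2), ((3, 33), 2), ((3, 36), 1), ((3, 38), 1), ((3, 40), 1), ((3, 43), 1), ((3, 44), 2), ((3, 53), 1), ((3, 57), 1), ((3, 61), 2), ((3, 81), 1), ((3, 82), 2), ((4, 76), 1), ((5, 76), 1), ((5, 97), 2), ((4, 88), 1), ((4, 95), 1), ((5, 1), 2), ((5, 39), 2), ((5, 40), 2), ((5, 54), 1), ((5, 52), 1), ((5, 73), 2), ((5, 101), 1), ((5, 122), 1), ((4, 4), 2), ((4, 12), 1), ((4, 21), 1), ((4, 59), 1), ((5, 37), 1), ((4, 2), 2), ((4, 9), 2), ((4, 36), 2), ((4, 86), 2), ((5, 11), 2), ((5, 51), 1), ((5, 92), 1), ((5, 93), 1), ((5, 103), 2), ((5, 117), 2), ((5, 66), 2), ((5, 126), 1), ((4, 92), 2), ((5, 7), 2)],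
  [((0, 1), 1), ((0, 2), 2), ((0, 4), 1), ((0, 5), 2), ((0, 8), 1), ((0, 11), 2), ((0, 17), 1), ((0, 23), 2), ((0, 33), 1), ((0, 44), 2), ((0, 59), 1), ((0, 74), 2), ((0, 109), 2), ((1, 89), 1), ((2, 1), 1), ((2, 5), 2), ((2, 8), 2), ((2, 12), 1), ((2, 14), 1), ((2, 16), 1), ((2, 18), 2), ((2, 20), 2), ((2, 22), 1), ((2, 26), 1), ((2, 27), 1), ((2, 36), 2), ((2, 42), 2), ((2, 49), 2), ((2, 61), 1), ((2, 66), 1), ((2, 78), 2), ((2, 84), 1), ((1, 0), 1), ((1, 4), 2), ((1, 9), 1), ((1, 13), 2), ((1, 21), 2), ((1, 30), 1), ((1, 44), 1), ((1, 53), 2), ((1, 58), 1), ((1, 60), 1), ((1, 69), 1), ((3, 11), 2), ((3, 17), 1), ((3, 92), 1), ((4, 83), 1), ((4, 106), 2), ((4, 117), 2), ((3, 0), 2), ((3, 1), 1), ((3, 2), 1), ((3, 6), 2), ((3, 7), 2), ((3, 8), 1), ((3, 9), 1), ((3, 23), 2), ((3, 31), 1), ((3, 38), 2), ((3, 40), 1), ((3, 43), 2),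 ((3, 44), 1), ((3, 47), 2), ((3, 63), 1), ((3, 67), 1), ((3, 81), 2), ((3, 82), 2), ((3, 88), 2), ((5, 97), 1), ((4, 88), 1), ((4, 95), 2), ((5, 1), 1), ((5, 45), 2), ((5, 89), 2), ((5, 40), 2), ((5, 54), 1), ((5, 8), 2), ((5, 52), 1), ((5, 115), 2), ((4, 12), 2), ((4, 21), 2), ((4, 59), 1), ((4, 126), 2), ((5, 37), 1), ((4, 2), 2), ((4, 6), 1), ((4, 9), 2), ((4, 36), 1), ((4, 86), 1), ((5, 11), 1), ((5, 51), 1), ((5, 92), 1), ((5, 103), 1), ((5, 29), 1), ((5, 126), 2), ((4, 92), 2), ((5, 7), 2)],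
  [((0, 10), 1), ((0, 11), 2), ((0, 20), 1), ((0, 23), 2), ((0, 44), 2), ((0, 75), 2), ((0, 110), 2), ((1, 39), 2), ((1, 89), 1), ((2, 0), 1), ((2, 1), 2), ((2, 5), 2), ((2, 7), 1), ((2, 12), 1), ((2, 14), 1), ((2, 16), 1), ((2, 18), 2), ((2, 20), 2), ((2, 22), 2), ((2, 26), 1), ((2, 29), 2), ((2, 36), 1), ((2, 40), 1), ((2, 42), 2), ((2, 66), 2), ((2, 78), 2), ((2, 88), 1), ((2, 94), 1), ((1, 0), 2), ((1, 2), 2), ((1, 6), 2), ((1, 9), 2), ((1, 11), 1), ((1, 13), 1), ((1, 15), 2), ((1, 17), 1), ((1, 21), 2), ((1, 30), 2), ((1, 37), 1), ((1, 44), 1), ((1, 53), 1), ((1, 57), 2), ((1, 58), 1), ((1, 60), 1), ((1, 65), 1), ((1, 69), 1), ((3, 3), 2), ((3, 11), 2), ((3, 17), 2), ((3, 39), 2), ((3, 89), 1), ((3, 92), 2), ((3, 35), 2), ((4, 83), 2), ((4, 106), 2), ((4, 117), 2), ((4, 121), 2), ((3, 4), 1), ((3, 6), 2), ((3, 7), 1), ((3,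 12), 2), ((3, 13), 2), ((3, 15), 1), ((3, 22), 1), ((3, 23), 2), ((3, 27), 2), ((3, 29), 1), ((3, 36), 2), ((3, 44), 2), ((3, 47), 1), ((3, 55), 2), ((3, 57), 2), ((3, 61), 2), ((3, 67), 2), ((3, 74), 2), ((3, 82), 1), ((3, 88), 1), ((4, 76), 1), ((5, 97), 1), ((4, 88), 1), ((4, 95), 1), ((5, 1), 1), ((5, 89), 2), ((5, 40), 2), ((5, 8), 1), ((5, 73), 1), ((5, 100), 1), ((5, 101), 1), ((5, 109), 1), ((5, 122), 1), ((4, 4), 1), ((4, 12), 1), ((4, 21), 2), ((4, 50), 2), ((4, 59), 1), ((4, 77), 1), ((4, 126), 2), ((4, 2), 2), ((4, 6), 1), ((4, 36), 2), ((5, 11), 1), ((5, 93), 2), ((5, 117), 1), ((5, 29), 1), ((5, 66), 2), ((5, 83), 2), ((5, 126), 1), ((4, 92), 1), ((5, 7), 2)],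
  [((0, 5), 1), ((0, 6), 2), ((0, 10), 1), ((0, 12), 2), ((0, 21), 1), ((0, 24), 2), ((0, 40), 1), ((0, 45), 2), ((0, 77), 2), ((0, 111), 2), ((1, 39), 2), ((1, 89), 2), ((2, 1), 1), ((2, 5), 2), ((2, 7), 2), ((2, 10), 2), ((2, 16), 2), ((2, 18), 2), ((2, 27), 2), ((2, 29), 1), ((2, 36), 2), ((2, 40), 2), ((2, 49), 1), ((2, 66), 2), ((2, 84), 2), ((2, 88), 1), ((1, 0), 2), ((1, 2), 2), ((1, 4), 2), ((1, 6), 1), ((1, 9), 2), ((1, 11), 1), ((1, 15), 1), ((1, 17), 1), ((1, 21), 2), ((1, 37), 1), ((1, 44), 1), ((1, 53), 1), ((1, 57), 2), ((1, 60), 1), ((3, 3), 2), ((3, 39), 2), ((3, 89), 1), ((3, 35), 2), ((4, 83), 2), ((4, 117), 2), ((4, 121), 1), ((3, 0), 2), ((3, 1), 1), ((3, 4), 2), ((3, 6), 1), ((3, 7), 2), ((3, 8), 1), ((3, 13), 2), ((3, 15), 2), ((3, 19), 2), ((3, 22), 1), ((3, 23), 2), ((3, 27), 1), ((3, 29), 2), ((3, 30), 1),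 ((3, 31), 1), ((3, 32), 2), ((3, 33), 1), ((3, 38), 1), ((3, 43), 1), ((3, 44), 1), ((3, 47), 2), ((3, 55), 1), ((3, 61), 1), ((3, 74), 1), ((3, 81), 2), ((3, 88), 2), ((4, 76), 1), ((4, 88), 2), ((4, 95), 1), ((5, 39), 2), ((5, 89), 1), ((5, 54), 2), ((5, 8), 2), ((5, 73), 2), ((5, 115), 1), ((4, 50), 1), ((4, 59), 2), ((4, 77), 2), ((4, 126), 2), ((5, 37), 1), ((4, 2), 2), ((4, 9), 2), ((4, 36), 1), ((4, 86), 1), ((5, 11), 2), ((5, 92), 1), ((5, 93), 1), ((5, 117), 1), ((5, 83), 2), ((5, 126), 2), ((4, 92), 2), ((5, 7), 1)],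
  [((0, 130), 1)],
  [((0, 1), 1), ((0, 2), 2), ((0, 4), 1), ((0, 6), 2), ((0, 9), 1), ((0, 12), 2), ((0, 19), 1), ((0, 25), 2), ((0, 37), 1), ((0, 47), 2), ((0, 66), 1), ((0, 80), 2), ((0, 113), 2), ((1, 89), 2), ((2, 0), 2), ((2, 7), 2), ((2, 8), 2), ((2, 16), 1), ((2, 18), 2), ((2, 20), 2), ((2, 22), 1), ((2, 26), 2), ((2, 27), 1), ((2, 29), 2), ((2, 31), 1), ((2, 36), 2), ((2, 40), 1), ((2, 49), 1), ((2, 59), 2), ((2, 61), 2), ((2, 66), 1), ((2, 78), 2), ((2, 84), 2), ((1, 0), 1), ((1, 2), 1), ((1, 6), 1), ((1, 9), 2), ((1, 11), 1), ((1, 13), 1), ((1, 17), 2), ((1, 21), 2), ((1, 30), 1), ((1, 37), 1), ((1, 44), 2), ((1, 53), 1), ((1, 57), 1), ((1, 58), 1), ((1, 60), 1), ((1, 65), 2), ((1, 69), 1), ((3, 17), 2), ((3, 92), 2), ((3, 35), 2), ((4, 83), 2), ((4, 106), 1), ((4, 117), 2), ((4, 121), 1), ((3, 1), 2), ((3, 4), 1), ((3,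 6), 1), ((3, 7), 2), ((3, 9), 2), ((3, 13), 1), ((3, 23), 1), ((3, 27), 1), ((3, 29), 2), ((3, 30), 1), ((3, 31), 2), ((3, 32), 2), ((3, 33), 2), ((3, 38), 2), ((3, 40), 1), ((3, 43), 1), ((3, 44), 1), ((3, 53), 2), ((3, 55), 2), ((3, 57), 1), ((3, 61), 2), ((3, 67), 1), ((5, 76), 1), ((4, 95), 1), ((5, 39), 2), ((5, 45), 1), ((5, 89), 2), ((5, 40), 2), ((5, 54), 2), ((5, 8), 2), ((5, 52), 1), ((5, 100), 2), ((5, 101), 2), ((5, 109), 1), ((5, 115), 1), ((4, 12), 1), ((4, 21), 2), ((4, 77), 1), ((4, 126), 2), ((5, 37), 2), ((4, 2), 2), ((4, 6), 1), ((4, 36), 2), ((4, 86), 2), ((5, 11), 1), ((5, 51), 2), ((5, 92), 1), ((5, 103), 1), ((5, 117), 2), ((5, 29), 2), ((5, 126), 2), ((4, 92), 1), ((5, 7), 1)],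
  [((0, 24), 1), ((0, 25), 2), ((0, 45), 1), ((0, 47), 2), ((0, 77), 1), ((0, 81), 2), ((0, 111), 1), ((0, 114), 2), ((0, 129), 1), ((1, 89), 1), ((2, 0), 1), ((2, 7), 1), ((2, 8), 1), ((2, 10), 2), ((2, 12), 2), ((2, 14), 1), ((2, 16), 1), ((2, 18), 1), ((2, 20), 1), ((2, 22), 1), ((2, 26), 1), ((2, 27), 2), ((2, 29), 2), ((2, 31), 1), ((2, 36), 2), ((2, 40), 2), ((2, 42), 1), ((2, 49), 2), ((2, 61), 1), ((2, 66), 1), ((2, 78), 1), ((2, 84), 2), ((2, 88), 1), ((1, 0), 2), ((1, 2), 2), ((1, 4), 1), ((1, 6), 1), ((1, 11), 1), ((1, 13), 2), ((1, 17), 2), ((1, 21), 1), ((1, 30), 1), ((1, 44), 1), ((1, 53), 1), ((1, 58), 1), ((1, 60), 1), ((1, 65), 2), ((1, 69), 2), ((3, 3), 1), ((3, 17), 2), ((3, 39), 2), ((3, 89), 2), ((3, 92), 1), ((4, 83), 1), ((4, 106), 1), ((4, 117), 2), ((4, 121), 1), ((3, 1), 1), ((3, 4), 1), ((3, 6), 1), ((3,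 7), 2), ((3, 9), 2), ((3, 12), 2), ((3, 13), 2), ((3, 19), 2), ((3, 22), 2), ((3, 23), 2), ((3, 27), 2), ((3, 31), 1), ((3, 33), 2), ((3, 36), 1), ((3, 38), 1), ((3, 40), 1), ((3, 43), 1), ((3, 44), 1), ((3, 47), 2), ((3, 55), 1), ((3, 57), 1), ((3, 61), 1), ((3, 63), 2), ((3, 67), 2), ((3, 74), 1), ((3, 82), 2), ((3, 88), 1), ((4, 76), 2), ((5, 76), 2), ((4, 88), 2), ((4, 95), 2), ((5, 89), 1), ((5, 40), 2), ((5, 54), 2), ((5, 8), 1), ((5, 52), 1), ((5, 73), 2), ((5, 100), 1), ((5, 101), 1), ((5, 122), 2), ((4, 4), 2), ((4, 12), 2), ((4, 21), 2), ((4, 50), 2), ((4, 59), 2), ((4, 77), 2), ((4, 126), 2), ((4, 2), 2), ((4, 6), 1), ((4, 9), 2), ((4, 36), 1), ((4, 86), 1), ((5, 11), 1), ((5, 51), 2), ((5, 92), 2), ((5, 93), 2), ((5, 117), 2), ((5, 83), 1), ((5, 126), 2), ((4, 92), 1)],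
  [((0, 25), 2), ((0, 47), 2), ((0, 81), 2), ((0, 115), 2), ((2, 12), 1)],
  [((0, 1), 2), ((0, 2), 1), ((0, 3), 2), ((0, 6), 1), ((0, 7), 2), ((0, 12), 1), ((0, 15), 2), ((0, 25), 1), ((0, 29), 2), ((0, 46), 1), ((0, 52), 2), ((0, 78), 1), ((0, 83), 2), ((0, 116), 2), ((1, 89), 2), ((2, 0), 2), ((2, 1), 1), ((2, 5), 1), ((2, 10), 1), ((2, 14), 1), ((2, 16), 2), ((2, 20), 2), ((2, 22), 1), ((2, 27), 2), ((2, 29), 2), ((2, 31), 1), ((2, 40), 2), ((2, 42), 1), ((2, 49), 2), ((2, 61), 2), ((2, 66), 1), ((2, 78), 1), ((2, 88), 2), ((1, 0), 2), ((1, 2), 1), ((1, 9), 2), ((1, 11), 1), ((1, 17), 1), ((1, 30), 1), ((1, 57), 2), ((1, 60), 2), ((1, 65), 1), ((3, 3), 2), ((3, 17), 2), ((3, 39), 2), ((3, 89), 1), ((3, 92), 2), ((4, 106), 2), ((4, 121), 2), ((3, 1), 2), ((3, 4), 1), ((3, 6), 2), ((3, 7), 1), ((3, 8), 2), ((3, 9), 1), ((3, 13),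 2), ((3, 19), 1), ((3, 23), 1), ((3, 29), 1), ((3, 31), 2), ((3, 33), 1), ((3, 38), 1), ((3, 40), 2), ((3, 47), 1), ((3, 53), 2), ((3, 67), 1), ((3, 82), 1), ((3, 88), 2), ((4, 76), 2), ((4, 88), 2), ((5, 1), 2), ((5, 39), 2), ((5, 45), 2), ((5, 40), 2), ((5, 54), 2), ((5, 8), 1), ((5, 52), 2), ((5, 100), 2), ((5, 115), 1), ((5, 122), 1), ((4, 4), 2), ((4, 12), 1), ((4, 21), 2), ((4, 50), 2), ((4, 59), 2), ((5, 37), 2), ((4, 2), 2), ((4, 6), 2), ((4, 36), 2), ((4, 86), 2), ((5, 93), 1), ((5, 117), 2), ((5, 29), 2), ((5, 83), 2), ((5, 126), 1), ((4, 92), 2)],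
  [((0, 1), 2), ((0, 2), 1), ((0, 3), 2), ((0, 5), 1), ((0, 7), 2), ((0, 11), 1), ((0, 15), 2), ((0, 22), 1), ((0, 29), 2), ((0, 42), 1), ((0, 53), 2), ((0, 85), 2), ((0, 117), 2), ((1, 39), 1), ((2, 5), 1), ((2, 7), 1), ((2, 8), 1), ((2, 10), 1), ((2, 12), 2), ((2, 16), 2), ((2, 26), 1), ((2, 27), 1), ((2, 29), 2), ((2, 40), 1), ((2, 49), 1), ((2, 59), 1), ((2, 61), 2), ((2, 78), 1), ((2, 84), 2), ((2, 88), 1), ((2, 94), 1), ((1, 0), 2), ((1, 11), 2), ((1, 13), 1), ((1, 15), 2), ((1, 17), 1), ((1, 21), 2), ((1, 30), 1), ((1, 37), 1), ((1, 57), 2), ((1, 58), 1), ((1, 60), 1), ((1, 65), 2), ((1, 69), 1), ((3, 11), 2), ((3, 17), 2), ((3, 39), 1), ((3, 89), 1), ((3, 92), 1), ((4, 83), 2), ((4, 106), 1), ((4, 117), 1), ((4, 121), 1), ((3, 1), 1), ((3, 4), 1), ((3, 7), 1), ((3, 8), 2), ((3, 13), 1), ((3, 19), 2), ((3, 22), 1), ((3, 27),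 2), ((3, 29), 2), ((3, 30), 1), ((3, 31), 2), ((3, 36), 2), ((3, 38), 2), ((3, 43), 1), ((3, 44), 2), ((3, 47), 1), ((3, 53), 2), ((3, 55), 1), ((3, 61), 2), ((3, 63), 1), ((3, 74), 1), ((3, 82), 1), ((4, 76), 1), ((5, 76), 1), ((5, 97), 2), ((4, 88), 1), ((4, 95), 1), ((5, 39), 2), ((5, 45), 2), ((5, 89), 2), ((5, 40), 1), ((5, 8), 1), ((5, 52), 2), ((5, 73), 2), ((5, 100), 2), ((5, 101), 1), ((5, 109), 1), ((5, 122), 2), ((4, 21), 1), ((4, 50), 1), ((4, 59), 1), ((4, 77), 2), ((4, 126), 1), ((5, 37), 2), ((4, 2), 2), ((4, 6), 2), ((4, 9), 2), ((4, 36), 1), ((5, 11), 2), ((5, 51), 1), ((5, 92), 1), ((5, 93), 2), ((5, 103), 1), ((5, 117), 2), ((5, 7), 1)],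
  [((0, 29), 1), ((0, 30), 2), ((0, 53), 1), ((0, 54), 2), ((0, 84), 1), ((0, 86), 2), ((0, 118), 2), ((1, 39), 1), ((1, 89), 1), ((2, 0), 2), ((2, 5), 2), ((2, 8), 1), ((2, 10), 1), ((2, 12), 1), ((2, 14), 1), ((2, 16), 2), ((2, 20), 1), ((2, 22), 2), ((2, 27), 1), ((2, 29), 1), ((2, 31), 2), ((2, 36), 2), ((2, 42), 1), ((2, 49), 1), ((2, 66), 1), ((2, 78), 1), ((2, 84), 1), ((2, 88), 2), ((2, 94), 2), ((1, 0), 1), ((1, 2), 2), ((1, 4), 1), ((1, 6), 1), ((1, 9), 2), ((1, 11), 1), ((1, 13), 1), ((1, 15), 2), ((1, 17), 2), ((1, 21), 2), ((1, 30), 1), ((1, 44), 2), ((1, 53), 1), ((1, 57), 2), ((1, 58), 2), ((1, 65), 1), ((1, 69), 1), ((3, 17), 2), ((3, 89), 1), ((3, 92), 2), ((3, 35), 1), ((4, 106), 1), ((4, 121), 2), ((3, 1), 1), ((3, 4), 2), ((3, 6), 2), ((3, 7), 2), ((3, 12), 1), ((3, 15), 1), ((3, 19), 2), ((3, 22), 2), ((3, 23),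 2), ((3, 30), 2), ((3, 31), 2), ((3, 33), 1), ((3, 36), 1), ((3, 38), 2), ((3, 40), 1), ((3, 43), 2), ((3, 44), 1), ((3, 53), 1), ((3, 55), 1), ((3, 63), 2), ((3, 67), 2), ((3, 82), 1), ((3, 88), 2), ((4, 76), 1), ((5, 76), 2), ((5, 97), 1), ((4, 95), 1), ((5, 1), 1), ((5, 39), 1), ((5, 45), 2), ((5, 40), 2), ((5, 54), 1), ((5, 8), 1), ((5, 52), 1), ((5, 73), 1), ((5, 100), 2), ((5, 101), 2), ((5, 109), 1), ((4, 4), 2), ((4, 12), 2), ((4, 21), 2), ((4, 50), 1), ((4, 126), 2), ((4, 2), 2), ((4, 9), 2), ((4, 86), 1), ((5, 11), 2), ((5, 51), 1), ((5, 92), 2), ((5, 93), 1), ((5, 103), 1), ((5, 117), 2), ((5, 29), 1), ((5, 83), 2), ((5, 126), 1), ((4, 92), 2), ((5, 7), 2)],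
  [((0, 3), 2), ((0, 4), 1), ((0, 7), 2), ((0, 8), 1), ((0, 15), 2), ((0, 16), 1), ((0, 30), 2), ((0, 31), 1), ((0, 55), 2), ((0, 56), 1), ((0, 87), 2), ((0, 88), 1), ((0, 119), 2), ((1, 39), 2), ((2, 5), 1), ((2, 7), 1), ((2, 8), 1), ((2, 12), 2), ((2, 14), 1), ((2, 16), 1), ((2, 18), 1), ((2, 26), 2), ((2, 29), 2), ((2, 31), 1), ((2, 36), 1), ((2, 66), 2), ((2, 78), 1), ((2, 84), 2), ((2, 88), 2), ((2, 94), 2), ((1, 0), 1), ((1, 2), 1), ((1, 6), 1), ((1, 11), 1), ((1, 15), 2), ((1, 17), 1), ((1, 21), 2), ((1, 30), 1), ((1, 44), 2), ((1, 53), 1), ((1, 57), 1), ((1, 58), 2), ((1, 60), 2), ((1, 65), 2), ((3, 3), 1), ((3, 17), 2), ((3, 39), 2), ((3, 89), 2), ((3, 35), 1), ((4, 83), 1), ((4, 106), 2), ((4, 121), 1), ((3, 0), 1), ((3, 1), 1), ((3, 2), 1), ((3, 4), 1), ((3, 6), 2), ((3, 12), 1), ((3, 13), 1), ((3, 19), 2), ((3, 27),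 2), ((3, 29), 2), ((3, 30), 1), ((3, 31), 1), ((3, 36), 1), ((3, 43), 1), ((3, 44), 1), ((3, 47), 1), ((3, 61), 2), ((3, 63), 1), ((3, 74), 2), ((3, 81), 1), ((3, 82), 2), ((4, 76), 2), ((5, 76), 2), ((4, 88), 1), ((5, 1), 1), ((5, 39), 2), ((5, 89), 2), ((5, 40), 1), ((5, 54), 1), ((5, 8), 2), ((5, 52), 2), ((5, 101), 1), ((5, 109), 1), ((5, 122), 1), ((4, 4), 2), ((4, 12), 1), ((4, 59), 1), ((4, 126), 2), ((5, 37), 2), ((4, 2), 1), ((4, 9), 1), ((4, 36), 2), ((5, 11), 1), ((5, 51), 2), ((5, 92), 1), ((5, 103), 2), ((5, 117), 1), ((5, 29), 1), ((5, 66), 2), ((5, 83), 2), ((4, 92), 1)],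
  [((0, 131), 1)],
  [((0, 1), 2), ((0, 2), 1), ((0, 4), 2), ((0, 5), 1), ((0, 8), 2), ((0, 11), 1), ((0, 16), 2), ((0, 23), 1), ((0, 31), 2), ((0, 44), 1), ((0, 57), 2), ((0, 74), 1), ((0, 90), 2), ((0, 108), 1), ((0, 121), 2), ((1, 89), 2), ((2, 0), 2), ((2, 1), 1), ((2, 7), 1), ((2, 8), 2), ((2, 10), 1), ((2, 12), 2), ((2, 14), 2), ((2, 16), 2), ((2, 18), 2), ((2, 20), 1), ((2, 26), 2), ((2, 27), 1), ((2, 29), 1), ((2, 31), 1), ((2, 36), 2), ((2, 40), 1), ((2, 42), 2), ((2, 59), 2), ((2, 61), 2), ((2, 78), 1), ((2, 84), 1), ((2, 88), 2), ((1, 0), 2), ((1, 4), 1), ((1, 9), 2), ((1, 11), 2), ((1, 13), 1), ((1, 21), 1), ((1, 30), 2), ((1, 37), 1), ((1, 44), 2), ((1, 69), 2), ((3, 3), 2), ((3, 11), 2), ((3, 17), 1), ((3, 39), 2), ((4, 106), 2), ((4, 117), 1), ((4, 121), 1), ((3, 0), 1), ((3, 2), 2), ((3, 4), 2), ((3, 6), 1), ((3,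 13), 1), ((3, 15), 1), ((3, 23), 1), ((3, 27), 2), ((3, 30), 2), ((3, 31), 1), ((3, 33), 2), ((3, 38), 2), ((3, 43), 2), ((3, 55), 2), ((3, 67), 2), ((3, 74), 2), ((5, 76), 1), ((5, 97), 2), ((5, 39), 1), ((5, 89), 1), ((5, 40), 1), ((5, 8), 1), ((5, 52), 2), ((5, 73), 2), ((5, 101), 2), ((5, 115), 1), ((4, 4), 2), ((4, 21), 1), ((4, 50), 2), ((4, 77), 1), ((4, 126), 1), ((5, 37), 1), ((4, 2), 2), ((4, 6), 1), ((4, 36), 1), ((5, 11), 1), ((5, 93), 2), ((5, 103), 1), ((5, 117), 1), ((5, 66), 1), ((5, 83), 2), ((5, 7), 1)],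
  [((0, 16), 2), ((0, 17), 1), ((0, 31), 2), ((0, 33), 1), ((0, 57), 2), ((0, 60), 1), ((0, 91), 2), ((0, 96), 1), ((0, 122), 2), ((0, 126), 1), ((1, 39), 1), ((1, 89), 2), ((2, 0), 1), ((2, 1), 2), ((2, 5), 1), ((2, 7), 2), ((2, 8), 2), ((2, 10), 2), ((2, 12), 1), ((2, 14), 2), ((2, 18), 1), ((2, 20), 1), ((2, 22), 1), ((2, 26), 1), ((2, 31), 1), ((2, 36), 2), ((2, 40), 1), ((2, 59), 2), ((2, 88), 2), ((2, 94), 1), ((1, 2), 2), ((1, 4), 2), ((1, 9), 1), ((1, 11), 1), ((1, 15), 1), ((1, 17), 2), ((1, 21), 2), ((1, 30), 2), ((1, 44), 2), ((1, 53), 1), ((1, 58), 2), ((3, 11), 1), ((3, 39), 2), ((3, 89), 2), ((3, 92), 2), ((3, 35), 2), ((4, 106), 1), ((4, 117), 2), ((4, 121), 2), ((3, 1), 2), ((3, 6), 1), ((3, 7), 2), ((3, 13), 1), ((3, 19), 1), ((3, 22), 2), ((3, 23), 2), ((3, 27), 1), ((3, 29), 2), ((3, 30), 2), ((3, 31), 1), ((3,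 32), 2), ((3, 33), 1), ((3, 36), 2), ((3, 44), 2), ((3, 47), 1), ((3, 53), 1), ((3, 57), 2), ((3, 61), 1), ((3, 63), 2), ((3, 67), 2), ((3, 74), 1), ((3, 81), 1), ((3, 82), 2), ((3, 88), 2), ((5, 76), 2), ((5, 97), 1), ((4, 88), 1), ((5, 40), 2), ((5, 8), 2), ((5, 52), 1), ((5, 73), 2), ((5, 100), 2), ((5, 101), 1), ((5, 115), 1), ((5, 122), 1), ((4, 4), 2), ((4, 12), 2), ((4, 21), 1), ((4, 50), 1), ((4, 59), 1), ((4, 77), 1), ((5, 37), 1), ((4, 6), 2), ((4, 36), 1), ((4, 86), 1), ((5, 11), 1), ((5, 51), 1), ((5, 93), 2), ((5, 103), 1), ((5, 117), 2), ((5, 83), 2), ((5, 126), 1), ((5, 7), 1)],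
  [((0, 1), 2), ((0, 2), 1), ((0, 4), 2), ((0, 6), 1), ((0, 8), 2), ((0, 12), 1), ((0, 16), 2), ((0, 25), 1), ((0, 32), 2), ((0, 47), 1), ((0, 58), 2), ((0, 80), 1), ((0, 92), 2), ((0, 123), 2), ((1, 39), 2), ((1, 89), 2), ((2, 0), 2), ((2, 1), 1), ((2, 5), 2), ((2, 7), 2), ((2, 8), 1), ((2, 10), 1), ((2, 12), 2), ((2, 14), 1), ((2, 18), 2), ((2, 22), 1), ((2, 26), 2), ((2, 27), 1), ((2, 29), 1), ((2, 31), 1), ((2, 36), 2), ((2, 40), 1), ((2, 49), 1), ((2, 59), 1), ((2, 61), 2), ((2, 66), 2), ((2, 78), 1), ((2, 88), 1), ((2, 94), 2), ((1, 0), 2), ((1, 2), 1), ((1, 9), 2), ((1, 13), 1), ((1, 21), 2), ((1, 37), 2), ((1, 44), 1), ((1, 53), 1), ((1, 58), 1), ((1, 60), 2), ((1, 69), 2), ((3, 11), 1), ((3, 17), 1), ((3, 39), 2), ((4, 83), 2), ((4, 117), 1), ((4, 121), 1), ((3, 0), 1), ((3, 1), 2), ((3, 2), 1), ((3, 4), 2), ((3, 6), 1),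 ((3, 7), 1), ((3, 9), 2), ((3, 12), 1), ((3, 13), 1), ((3, 15), 2), ((3, 19), 1), ((3, 27), 1), ((3, 29), 1), ((3, 30), 2), ((3, 32), 1), ((3, 36), 1), ((3, 38), 2), ((3, 40), 1), ((3, 44), 2), ((3, 47), 1), ((3, 53), 2), ((3, 55), 2), ((3, 57), 1), ((3, 61), 2), ((3, 63), 1), ((3, 74), 1), ((3, 88), 2), ((4, 76), 2), ((5, 76), 2), ((5, 97), 1), ((5, 1), 1), ((5, 39), 2), ((5, 45), 1), ((5, 89), 2), ((5, 40), 1), ((5, 54), 2), ((5, 52), 2), ((5, 73), 2), ((5, 100), 2), ((5, 109), 1), ((4, 4), 2), ((4, 12), 1), ((4, 77), 2), ((4, 126), 1), ((5, 37), 2), ((4, 2), 2), ((4, 6), 1), ((4, 86), 1), ((5, 11), 1), ((5, 92), 1), ((5, 103), 1), ((5, 117), 2), ((5, 29), 1), ((5, 66), 2), ((5, 83), 2), ((5, 126), 2), ((4, 92), 2)],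
  [((0, 133), 1)],
  [((0, 1), 2), ((0, 2), 1), ((0, 4), 2), ((0, 6), 1), ((0, 8), 2), ((0, 12), 1), ((0, 17), 2), ((0, 25), 1), ((0, 33), 2), ((0, 47), 1), ((0, 59), 2), ((0, 81), 1), ((0, 94), 2), ((0, 114), 1), ((0, 125), 2), ((1, 89), 1), ((2, 0), 1), ((2, 5), 1), ((2, 7), 1), ((2, 8), 1), ((2, 12), 2), ((2, 14), 2), ((2, 18), 1), ((2, 20), 2), ((2, 22), 1), ((2, 31), 2), ((2, 42), 1), ((2, 84), 1), ((2, 88), 1), ((2, 94), 2), ((1, 4), 1), ((1, 13), 1), ((1, 21), 2), ((1, 30), 2), ((1, 53), 2), ((1, 58), 1), ((1, 65), 2), ((3, 3), 2), ((3, 11), 1), ((3, 39), 2), ((3, 89), 1), ((4, 83), 2), ((4, 106), 1), ((4, 121), 2), ((3, 0), 2), ((3, 1), 2), ((3, 2), 2), ((3, 6), 2), ((3, 12), 2), ((3, 13), 1), ((3, 22), 2), ((3, 23), 1), ((3, 27), 2), ((3, 29), 2), ((3, 31), 1), ((3, 32), 1), ((3, 33), 1), ((3, 36), 1), ((3, 40), 1), ((3,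 43), 2), ((3, 44), 1), ((3, 47), 2), ((3, 53), 2), ((3, 55), 1), ((3, 61), 1), ((3, 67), 1), ((3, 74), 1), ((3, 82), 2), ((4, 76), 1), ((5, 76), 2), ((5, 97), 1), ((4, 95), 2), ((5, 39), 1), ((5, 45), 2), ((5, 89), 1), ((5, 54), 1), ((5, 8), 2), ((5, 52), 1), ((5, 73), 2), ((5, 101), 2), ((5, 109), 1), ((5, 122), 2), ((4, 12), 1), ((4, 50), 1), ((4, 59), 1), ((4, 77), 2), ((4, 126), 1), ((5, 37), 2), ((4, 6), 2), ((4, 9), 1), ((5, 11), 1), ((5, 51), 2), ((5, 92), 2), ((5, 29), 2), ((5, 66), 2), ((5, 83), 1), ((5, 126), 2), ((4, 92), 1), ((5, 7), 1)],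
  [((0, 16), 1), ((0, 17), 2), ((0, 31), 1), ((0, 33), 2), ((0, 60), 2), ((0, 96), 2), ((0, 126), 2), ((1, 39), 2), ((1, 89), 1), ((2, 0), 2), ((2, 1), 1), ((2, 5), 2), ((2, 7), 1), ((2, 8), 1), ((2, 10), 1), ((2, 12), 2), ((2, 14), 1), ((2, 18), 2), ((2, 20), 2), ((2, 22), 2), ((2, 26), 2), ((2, 36), 1), ((2, 40), 2), ((2, 59), 1), ((2, 88), 1), ((2, 94), 2), ((1, 2), 1), ((1, 4), 1), ((1, 9), 2), ((1, 11), 2), ((1, 15), 2), ((1, 17), 1), ((1, 21), 1), ((1, 30), 1), ((1, 44), 1), ((1, 53), 2), ((1, 58), 1), ((3, 11), 2), ((3, 39), 1), ((3, 89), 1), ((3, 92), 1), ((3, 35), 1), ((4, 106), 2), ((4, 117), 1), ((4, 121), 1), ((3, 1), 1), ((3, 6), 2), ((3, 7), 1), ((3, 13), 2), ((3, 19), 2), ((3, 22), 1), ((3, 23), 1), ((3, 27), 2), ((3, 29), 1), ((3, 30), 1), ((3, 31), 2), ((3, 32), 1), ((3, 33), 2), ((3, 36), 1), ((3, 44), 1), ((3,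 47), 2), ((3, 53), 2), ((3, 57), 1), ((3, 61), 2), ((3, 63), 1), ((3, 67), 1), ((3, 74), 2), ((3, 81), 2), ((3, 82), 1), ((3, 88), 1), ((5, 76), 1), ((5, 97), 2), ((4, 88), 2), ((5, 40), 1), ((5, 8), 1), ((5, 52), 2), ((5, 73), 1), ((5, 100), 1), ((5, 101), 2), ((5, 115), 2), ((5, 122), 2), ((4, 4), 1), ((4, 12), 1), ((4, 21), 2), ((4, 50), 2), ((4, 59), 2), ((4, 77), 2), ((5, 37), 2), ((4, 6), 1), ((4, 36), 2), ((4, 86), 2), ((5, 11), 2), ((5, 51), 2), ((5, 93), 1), ((5, 103), 2), ((5, 117), 1), ((5, 83), 1), ((5, 126), 2), ((5, 7), 2)],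
  [((0, 1), 2), ((0, 2), 1), ((0, 4), 2), ((0, 5), 1), ((0, 9), 2), ((0, 11), 1), ((0, 18), 2), ((0, 22), 1), ((0, 35), 2), ((0, 43), 1), ((0, 63), 2), ((0, 72), 1), ((0, 98), 2), ((0, 127), 2), ((1, 39), 2), ((1, 89), 2), ((2, 0), 2), ((2, 1), 2), ((2, 5), 2), ((2, 7), 1), ((2, 8), 1), ((2, 10), 2), ((2, 14), 1), ((2, 16), 2), ((2, 18), 2), ((2, 22), 2), ((2, 27), 2), ((2, 29), 1), ((2, 31), 2), ((2, 36), 1), ((2, 40), 1), ((2, 49), 2), ((2, 59), 1), ((2, 61), 1), ((2, 78), 2), ((2, 84), 1), ((2, 88), 2), ((1, 0), 1), ((1, 4), 2), ((1, 6), 1), ((1, 9), 2), ((1, 11), 1), ((1, 13), 2), ((1, 15), 2), ((1, 30), 1), ((1, 37), 1), ((1, 44), 2), ((1, 53), 1), ((1, 60), 2), ((1, 65), 1), ((1, 69), 1), ((3, 3), 1), ((3, 17), 1), ((3, 89), 2), ((3, 35), 1), ((4, 83), 1), ((4, 106), 1), ((4, 121), 1), ((3, 1), 2), ((3, 4), 2), ((3, 8), 2),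 ((3, 9), 2), ((3, 13), 1), ((3, 15), 1), ((3, 19), 2), ((3, 27), 2), ((3, 29), 2), ((3, 30), 2), ((3, 31), 1), ((3, 33), 2), ((3, 38), 1), ((3, 40), 1), ((3, 43), 2), ((3, 44), 1), ((3, 47), 1), ((3, 61), 2), ((3, 74), 2), ((3, 81), 1), ((3, 82), 2), ((4, 76), 2), ((5, 97), 1), ((4, 88), 2), ((4, 95), 2), ((5, 1), 2), ((5, 39), 2), ((5, 45), 1), ((5, 40), 2), ((5, 54), 1), ((5, 52), 1), ((5, 73), 1), ((5, 100), 1), ((5, 101), 2), ((4, 4), 2), ((4, 12), 2), ((4, 21), 2), ((4, 59), 2), ((4, 77), 1), ((4, 2), 1), ((4, 6), 2), ((4, 9), 2), ((4, 36), 2), ((4, 86), 1), ((5, 11), 1), ((5, 51), 1), ((5, 93), 2), ((5, 103), 2), ((5, 117), 1), ((5, 29), 1), ((5, 83), 1), ((4, 92), 1), ((5, 7), 1)],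
  [((0, 35), 2), ((0, 63), 2), ((0, 99), 2), ((0, 128), 2), ((2, 18), 1)],
  [((0, 1), 1), ((0, 2), 2), ((0, 4), 1), ((0, 6), 2), ((0, 8), 1), ((0, 12), 2), ((0, 16), 1), ((0, 24), 2), ((0, 31), 1), ((0, 45), 2), ((0, 57), 1), ((0, 77), 2), ((0, 91), 1), ((0, 111), 2), ((0, 122), 1), ((0, 129), 2), ((0, 132), 1), ((1, 89), 2), ((2, 0), 2), ((2, 1), 1), ((2, 5), 1), ((2, 7), 2), ((2, 10), 2), ((2, 12), 2), ((2, 14), 2), ((2, 18), 2), ((2, 22), 2), ((2, 26), 2), ((2, 27), 2), ((2, 29), 2), ((2, 31), 2), ((2, 42), 2), ((2, 49), 2), ((2, 59), 1), ((2, 66), 2), ((2, 78), 2), ((2, 88), 1), ((2, 94), 1), ((1, 0), 1), ((1, 2), 2), ((1, 11), 1), ((1, 13), 1), ((1, 17), 2), ((1, 30), 1), ((1, 44), 1), ((1, 53), 1), ((1, 57), 1), ((1, 58), 2), ((1, 65), 1), ((1, 69), 1), ((3, 3), 2), ((3, 11), 1), ((3, 17), 2), ((3, 39), 1), ((3, 89), 1),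 ((3, 92), 1), ((3, 35), 2), ((4, 117), 1), ((4, 121), 1), ((3, 0), 2), ((3, 2), 2), ((3, 4), 1), ((3, 6), 1), ((3, 7), 2), ((3, 9), 1), ((3, 22), 2), ((3, 27), 1), ((3, 29), 2), ((3, 31), 2), ((3, 32), 2), ((3, 33), 1), ((3, 36), 2), ((3, 38), 1), ((3, 47), 2), ((3, 53), 2), ((3, 55), 2), ((3, 57), 1), ((3, 61), 1), ((3, 81), 2), ((4, 76), 1), ((5, 76), 1), ((4, 88), 1), ((4, 95), 2), ((5, 1), 1), ((5, 39), 2), ((5, 45), 2), ((5, 89), 1), ((5, 40), 2), ((5, 52), 2), ((5, 73), 1), ((5, 101), 1), ((5, 109), 1), ((5, 122), 2), ((4, 4), 1), ((4, 21), 2), ((4, 77), 1), ((5, 37), 2), ((4, 2), 1), ((4, 6), 1), ((4, 9), 1), ((4, 36), 1), ((4, 86), 1), ((5, 92), 1), ((5, 117), 1), ((5, 29), 2), ((5, 66), 1), ((5, 83), 2), ((5, 126), 1), ((5, 7), 1)],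
  [((0, 1), 1), ((0, 2), 2), ((0, 4), 1), ((0, 6), 2), ((0, 8), 1), ((0, 12), 2), ((0, 16), 1), ((0, 25), 2), ((0, 31), 1), ((0, 46), 2), ((0, 57), 1), ((0, 78), 2), ((0, 90), 1), ((0, 112), 2), ((0, 130), 2), ((1, 89), 2), ((2, 0), 1), ((2, 1), 2), ((2, 5), 1), ((2, 8), 2), ((2, 10), 1), ((2, 12), 2), ((2, 14), 1), ((2, 16), 1), ((2, 20), 1), ((2, 26), 1), ((2, 27), 2), ((2, 29), 1), ((2, 36), 2), ((2, 40), 2), ((2, 42), 2), ((2, 49), 2), ((2, 61), 2), ((2, 78), 2), ((2, 84), 1), ((1, 4), 1), ((1, 6), 2), ((1, 13), 1), ((1, 15), 1), ((1, 17), 2), ((1, 21), 1), ((1, 30), 2), ((1, 37), 1), ((1, 44), 2), ((1, 53), 1), ((1, 57), 1), ((1, 58), 1), ((1, 60), 1), ((3, 17), 1), ((3, 89), 1), ((3, 35), 1), ((4, 83), 2), ((4, 106), 1), ((4, 121), 1), ((3, 0), 1), ((3, 1), 2), ((3, 2), 1), ((3, 4), 2), ((3, 7), 1), ((3, 8), 2), ((3, 9), 2),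 ((3, 12), 1), ((3, 15), 1), ((3, 19), 2), ((3, 22), 1), ((3, 23), 2), ((3, 29), 2), ((3, 30), 2), ((3, 38), 1), ((3, 40), 1), ((3, 43), 2), ((3, 47), 1), ((3, 53), 1), ((3, 55), 1), ((3, 61), 1), ((3, 63), 1), ((3, 67), 2), ((3, 74), 1), ((3, 81), 2), ((3, 82), 2), ((3, 88), 1), ((4, 76), 2), ((5, 97), 2), ((4, 95), 2), ((5, 89), 1), ((5, 54), 1), ((5, 8), 1), ((5, 52), 2), ((5, 73), 1), ((5, 100), 2), ((5, 101), 1), ((5, 109), 2), ((5, 115), 1), ((5, 122), 2), ((4, 12), 1), ((4, 50), 1), ((4, 77), 2), ((4, 126), 2), ((4, 2), 1), ((4, 36), 2), ((4, 86), 1), ((5, 11), 1), ((5, 51), 1), ((5, 92), 1), ((5, 93), 2), ((5, 103), 2), ((5, 29), 1), ((5, 66), 1), ((5, 83), 1), ((5, 7), 1)],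
  [((0, 1), 2), ((0, 2), 1), ((0, 4), 2), ((0, 6), 1), ((0, 8), 2), ((0, 12), 1), ((0, 16), 2), ((0, 25), 1), ((0, 31), 2), ((0, 46), 1), ((0, 56), 2), ((0, 78), 1), ((0, 88), 2), ((0, 112), 1), ((0, 120), 2), ((0, 130), 1), ((0, 131), 2), ((0, 134), 1), ((1, 89), 1), ((2, 1), 1), ((2, 5), 1), ((2, 7), 2), ((2, 8), 2), ((2, 12), 2), ((2, 14), 2), ((2, 16), 1), ((2, 22), 2), ((2, 26), 2), ((2, 27), 2), ((2, 29), 2), ((2, 36), 1), ((2, 40), 1), ((2, 42), 2), ((2, 49), 2), ((2, 59), 1), ((2, 94), 2), ((1, 0), 2), ((1, 2), 2), ((1, 6), 1), ((1, 13), 1), ((1, 15), 1), ((1, 21), 1), ((1, 30), 1), ((1, 44), 1), ((1, 53), 2), ((1, 65), 2), ((1, 69), 2), ((3, 3), 1), ((3, 11), 2), ((3, 39), 2), ((3, 89), 2), ((3, 35), 1), ((4, 83), 1), ((4, 106), 1), ((4, 121), 2), ((3, 0), 2), ((3, 1), 1), ((3, 2), 2), ((3, 4), 1), ((3, 7), 2), ((3, 9),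 2), ((3, 12), 2), ((3, 19), 1), ((3, 22), 1), ((3, 27), 1), ((3, 30), 2), ((3, 33), 2), ((3, 36), 1), ((3, 38), 1), ((3, 40), 2), ((3, 44), 1), ((3, 53), 2), ((3, 55), 1), ((3, 61), 2), ((3, 63), 1), ((3, 74), 2), ((3, 88), 2), ((4, 76), 1), ((5, 76), 2), ((5, 97), 2), ((4, 95), 1), ((5, 39), 1), ((5, 45), 1), ((5, 40), 2), ((5, 54), 1), ((5, 8), 2), ((5, 52), 2), ((5, 73), 2), ((5, 101), 2), ((5, 109), 1), ((5, 115), 1), ((4, 21), 2), ((4, 77), 1), ((4, 86), 2), ((5, 92), 1), ((5, 93), 2), ((5, 103), 2), ((5, 117), 1), ((5, 29), 1), ((5, 66), 1), ((5, 126), 2), ((4, 92), 1), ((5, 7), 1)],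
  [((0, 16), 2), ((0, 17), 1), ((0, 31), 2), ((0, 33), 1), ((0, 57), 2), ((0, 59), 1), ((0, 91), 2), ((0, 94), 1), ((0, 122), 2), ((0, 132), 2), ((1, 89), 2), ((2, 0), 2), ((2, 1), 2), ((2, 5), 1), ((2, 7), 2), ((2, 8), 1), ((2, 10), 2), ((2, 14), 1), ((2, 16), 2), ((2, 18), 2), ((2, 22), 2), ((2, 27), 2), ((2, 29), 2), ((2, 31), 1), ((2, 36), 1), ((2, 40), 1), ((2, 42), 2), ((2, 49), 2), ((2, 59), 2), ((2, 61), 2), ((2, 94), 1), ((1, 2), 2), ((1, 4), 1), ((1, 6), 2), ((1, 11), 1), ((1, 13), 2), ((1, 17), 2), ((1, 30), 2), ((1, 44), 1), ((1, 53), 2), ((1, 57), 2), ((1, 58), 2), ((1, 60), 2), ((1, 65), 1), ((3, 3), 1), ((3, 11), 1), ((3, 17), 2), ((3, 39), 1), ((3, 89), 2), ((3, 92), 1), ((3, 35), 1), ((4, 106), 1), ((4, 121), 2), ((3, 0), 2), ((3, 2), 2), ((3, 4), 1), ((3, 6), 2), ((3, 7), 2), ((3, 12), 2), ((3, 19), 1), ((3, 27),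 1), ((3, 29), 2), ((3, 31), 2), ((3, 33), 2), ((3, 36), 2), ((3, 38), 1), ((3, 40), 1), ((3, 44), 1), ((3, 53), 2), ((3, 55), 2), ((3, 57), 1), ((3, 63), 1), ((3, 74), 1), ((3, 81), 1), ((3, 82), 2), ((3, 88), 2), ((4, 76), 2), ((5, 76), 1), ((5, 97), 2), ((5, 1), 2), ((5, 45), 2), ((5, 40), 2), ((5, 52), 2), ((5, 73), 1), ((5, 100), 2), ((5, 101), 2), ((5, 109), 1), ((4, 21), 2), ((4, 77), 1), ((5, 37), 2), ((4, 6), 2), ((4, 9), 2), ((4, 36), 1), ((4, 86), 1), ((5, 11), 1), ((5, 51), 2), ((5, 92), 1), ((5, 93), 1), ((5, 29), 2), ((5, 83), 2), ((5, 126), 1), ((4, 92), 1), ((5, 7), 1)],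
  [((0, 8), 2), ((0, 9), 1), ((0, 16), 2), ((0, 18), 1), ((0, 32), 2), ((0, 34), 1), ((0, 58), 2), ((0, 61), 1), ((0, 93), 2), ((0, 124), 2), ((0, 133), 2), ((1, 89), 1), ((2, 1), 1), ((2, 8), 2), ((2, 12), 1), ((2, 14), 1), ((2, 18), 1), ((2, 20), 2), ((2, 22), 2), ((2, 26), 1), ((2, 27), 2), ((2, 31), 2), ((2, 36), 1), ((2, 42), 1), ((2, 49), 2), ((2, 66), 1), ((2, 84), 2), ((2, 94), 1), ((1, 0), 2), ((1, 4), 2), ((1, 6), 2), ((1, 11), 2), ((1, 17), 2), ((1, 21), 1), ((1, 44), 2), ((1, 53), 2), ((1, 58), 1), ((1, 60), 2), ((1, 65), 2), ((3, 3), 2), ((3, 11), 2), ((3, 17), 2), ((3, 39), 1), ((3, 35), 2), ((4, 83), 2), ((3, 0), 2), ((3, 2), 2), ((3, 6), 2), ((3, 7), 2), ((3, 8), 2), ((3, 9), 1), ((3, 12), 2), ((3, 13), 2), ((3, 22), 1), ((3, 23), 1), ((3, 32), 1), ((3, 36), 2), ((3, 38), 1), ((3, 40), 2), ((3, 43), 1), ((3, 44),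 2), ((3, 53), 2), ((3, 57), 1), ((3, 61), 2), ((3, 63), 2), ((3, 67), 1), ((3, 74), 1), ((3, 81), 2), ((3, 82), 1), ((3, 88), 1), ((4, 76), 2), ((5, 97), 2), ((4, 95), 1), ((5, 89), 1), ((5, 40), 2), ((5, 52), 2), ((5, 100), 2), ((5, 109), 1), ((5, 115), 2), ((4, 4), 2), ((4, 12), 1), ((4, 126), 2), ((4, 2), 2), ((4, 36), 1), ((4, 86), 1), ((5, 11), 2), ((5, 92), 1), ((5, 93), 2), ((5, 103), 1), ((5, 117), 1), ((5, 29), 1), ((5, 126), 2), ((4, 92), 1), ((5, 7), 2)],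
  [((0, 1), 1), ((0, 2), 2), ((0, 3), 1), ((0, 6), 2), ((0, 7), 1), ((0, 12), 2), ((0, 15), 1), ((0, 25), 2), ((0, 30), 1), ((0, 46), 2), ((0, 55), 1), ((0, 78), 2), ((0, 87), 1), ((0, 112), 2), ((0, 119), 1), ((0, 130), 2), ((0, 134), 2), ((1, 39), 1), ((1, 89), 2), ((2, 1), 2), ((2, 5), 1), ((2, 12), 2), ((2, 16), 1), ((2, 18), 2), ((2, 22), 1), ((2, 26), 2), ((2, 27), 1), ((2, 29), 2), ((2, 31), 2), ((2, 36), 1), ((2, 40), 2), ((2, 42), 1), ((2, 49), 1), ((2, 59), 2), ((2, 66), 1), ((2, 78), 2), ((2, 84), 1), ((2, 88), 2), ((2, 94), 2), ((1, 6), 1), ((1, 11), 2), ((1, 13), 2), ((1, 17), 2), ((1, 30), 1), ((1, 57), 2), ((1, 58), 1), ((1, 60), 1), ((1, 65), 2), ((1, 69), 1), ((3, 3), 1), ((3, 11), 1), ((3, 17), 1), ((3, 39), 2), ((3, 89), 2), ((3, 35), 1), ((4, 83), 1), ((3, 1), 1), ((3, 4), 1), ((3, 6), 1), ((3, 7), 1), ((3, 9),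 1), ((3, 13), 2), ((3, 22), 2), ((3, 29), 1), ((3, 31), 2), ((3, 33), 1), ((3, 36), 1), ((3, 38), 2), ((3, 40), 1), ((3, 43), 2), ((3, 44), 1), ((3, 47), 2), ((3, 53), 1), ((3, 55), 2), ((3, 61), 2), ((3, 63), 1), ((3, 74), 2), ((3, 81), 2), ((3, 82), 1), ((3, 88), 1), ((5, 76), 2), ((5, 97), 1), ((4, 88), 2), ((4, 95), 2), ((5, 1), 2), ((5, 45), 2), ((5, 89), 1), ((5, 54), 1), ((5, 8), 2), ((5, 52), 2), ((5, 73), 1), ((5, 109), 1), ((5, 115), 2), ((5, 122), 2), ((4, 4), 1), ((4, 12), 2), ((4, 21), 1), ((4, 59), 2), ((4, 77), 2), ((4, 126), 1), ((5, 37), 1), ((4, 2), 2), ((4, 9), 2), ((4, 36), 1), ((4, 86), 1), ((5, 11), 2), ((5, 51), 1), ((5, 92), 1), ((5, 93), 1), ((5, 103), 2), ((5, 117), 1), ((5, 29), 1), ((5, 83), 1), ((5, 126), 1), ((4, 92), 1), ((5, 7), 2)],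
  [((1, 0), 2), ((3, 3), 2)],
  [((2, 0), 2), ((2, 1), 2), ((2, 7), 1), ((2, 8), 1), ((2, 10), 2), ((2, 12), 2), ((2, 14), 1), ((2, 16), 1), ((2, 18), 2), ((2, 20), 2), ((2, 22), 2), ((2, 26), 2), ((2, 27), 2), ((2, 31), 2), ((2, 40), 1), ((2, 42), 1), ((2, 49), 2), ((2, 61), 1), ((2, 66), 2), ((2, 78), 2), ((2, 84), 1), ((2, 94), 2), ((1, 9), 1), ((1, 11), 1), ((1, 13), 2), ((1, 15), 2), ((1, 17), 1), ((1, 21), 1), ((1, 37), 1), ((1, 44), 1), ((1, 60), 2), ((1, 69), 2), ((3, 3), 2), ((3, 11), 1), ((3, 39), 2), ((3, 89), 2), ((3, 92), 2), ((4, 83), 1), ((4, 106), 2), ((3, 0), 2), ((3, 1), 2), ((3, 2), 2), ((3, 7), 2), ((3, 8), 1), ((3, 9), 2), ((3, 12), 2), ((3, 13), 2), ((3, 15), 2), ((3, 19), 1), ((3, 22), 1), ((3, 23), 1), ((3, 27), 2), ((3, 29), 2), ((3, 31), 1), ((3, 32), 1), ((3, 36), 1), ((3, 38), 1), ((3, 43), 2), ((3, 44),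 2), ((3, 55), 2), ((3, 57), 2), ((3, 61), 1), ((3, 63), 1), ((3, 67), 1), ((3, 74), 1), ((3, 81), 2), ((3, 82), 2), ((3, 88), 1), ((4, 76), 1), ((5, 76), 2), ((4, 88), 1), ((5, 39), 2), ((5, 45), 1), ((5, 89), 1), ((5, 40), 1), ((5, 54), 2), ((5, 52), 1), ((5, 73), 1), ((5, 100), 2), ((5, 115), 2), ((5, 122), 1), ((4, 4), 2), ((4, 12), 2), ((4, 59), 1), ((4, 2), 1), ((4, 9), 1), ((4, 86), 2), ((5, 11), 1), ((5, 51), 2), ((5, 93), 2), ((5, 103), 1), ((5, 117), 1), ((5, 29), 2), ((5, 83), 1), ((5, 126), 1)],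
  [((1, 39), 1), ((2, 1), 1), ((2, 5), 1), ((2, 8), 2), ((2, 10), 1), ((2, 14), 1), ((2, 16), 1), ((2, 18), 2), ((2, 26), 1), ((2, 27), 2), ((2, 29), 2), ((2, 31), 2), ((2, 36), 1), ((2, 40), 2), ((2, 42), 1), ((2, 49), 2), ((2, 59), 1), ((2, 66), 1), ((2, 78), 2), ((2, 84), 1), ((2, 94), 2), ((1, 0), 2), ((1, 2), 2), ((1, 11), 2), ((1, 13), 1), ((1, 15), 2), ((1, 17), 2), ((1, 21), 1), ((1, 37), 2), ((1, 57), 1), ((1, 65), 1), ((1, 69), 2), ((3, 3), 2), ((3, 11), 2), ((3, 17), 2), ((3, 89), 1), ((4, 83), 1), ((4, 106), 1), ((4, 117), 2), ((3, 0), 2), ((3, 1), 1), ((3, 2), 2), ((3, 4), 1), ((3, 6), 1), ((3, 9), 1), ((3, 12), 1), ((3, 15), 2), ((3, 19), 1), ((3, 29), 1), ((3, 30), 2), ((3, 32), 1), ((3, 33), 2), ((3, 36), 1), ((3, 38), 1), ((3, 43), 2), ((3, 44), 2), ((3, 47), 2), ((3, 55), 1), ((3, 57), 1), ((3, 61), 1), ((3, 63),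 2), ((3, 74), 2), ((3, 81), 2), ((4, 76), 2), ((4, 88), 2), ((5, 1), 1), ((5, 39), 2), ((5, 45), 2), ((5, 54), 2), ((5, 52), 1), ((5, 73), 2), ((5, 100), 2), ((5, 101), 2), ((5, 122), 1), ((4, 4), 2), ((4, 12), 1), ((4, 21), 1), ((4, 50), 1), ((4, 59), 2), ((4, 77), 1), ((4, 2), 1), ((4, 6), 2), ((4, 9), 1), ((4, 86), 2), ((5, 11), 2), ((5, 51), 2), ((5, 92), 1), ((5, 93), 1), ((5, 29), 1), ((5, 83), 2), ((5, 126), 2), ((4, 92), 2)]]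

end Cfsg.Agent.Lib.Helper1.Sp6L
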