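import Mathlib
import Cfsg.Agent.Lib.Helper1.Sp6C
import Cfsg.Agent.Lib.Helper1.Sp6LD
import Cfsg.Agent.Lib.Helper1.StemZE3

/-!
# The group `Sp₆(2)` acting on the 135 maximal totally isotropic subspaces: the stem extensions
with kernel a 3-group are trivial
-/

set_option autoImplicit false
set_option maxRecDepth 100000

namespace Cfsg.Agent.Lib.Helper1.Sp6L

open Matrix Equiv Cfsg.Agent.Lib.Helper1.MatCode Cfsg.Agent.Lib.Helper1.StemSA
  Cfsg.Agent.Lib.Helper1.MaskAct Cfsg.Agent.Lib.Helper1.Sp6

open scoped Pointwise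

universe u

/-- the points of the action on the 135 subspaces -/
def pt (j : ℕ) : Finset (Fin 64) := mset 64 (PL j)

theorem PL_lt (j : ℕ) : PL j < 2 ^ 64 := Nat.mod_lt _ (by norm_num)

theorem chk_struct : D.chkStruct = true := by decide +kernel

theorem chk_cert : StemZE.chkCertE D 3 C = true := by decide +kernel

theorem act_ok : (List.range 2).all (fun i => (List.range 135).all (fun j =>
    imgMask 64 (fun x => ([tA, tB].getD i []).getD x 0) (PL j) == PL (D.pi i j))) = true := by
  decide +kernel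

theorem pi_act (i : ℕ) (hi : i < D.k) (j : ℕ) (hj : j < D.m) :
    GG.getD i 1 • pt j = pt (D.pi i j) := by
  have hi' : i < 2 := hi
  have hj' : j < 135 := hj
  have h := act_ok
  rw [List.all_eq_true] at h
  have h1 := h i (List.mem_range.mpr hi')
  rw [List.all_eq_true] at h1
  have h2 := h1 j (List.mem_range.mpr hj')
  rw [beq_iff_eq] at h2
  unfold pt
  rw [smul_mset6 (GG.getD i 1) (fun x => ([tA, tB].getD i []).getD x 0) (φ_GG i hi') (PL j), h2]

theorem distinct_ok : (List.range 135).all (fun j => (List.range j).all (fun j' =>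
    PL j' != PL j)) = true := by
  decide +kernel

theorem pt_inj (j : ℕ) (hj : j < 135) (j' : ℕ) (hj' : j' < 135) (h : pt j = pt j') : j = j' := by
  have h0 := mset_inj 64 (PL_lt j) (PL_lt j') h
  have hd := distinct_ok
  rw [List.all_eq_true] at hd
  by_contra hne
  rcases Nat.lt_or_gt_of_ne hne with hlt | hlt
  · have h1 := hd j' (List.mem_range.mpr hj')
    rw [List.all_eq_true] at h1
    have h2 := h1 j (List.mem_range.mpr hlt)
    rw [bne_iff_ne] at h2
    exact h2 h0
  · have h1 := hd j (List.mem_range.mpr hj)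
    rw [List.all_eq_true] at h1
    have h2 := h1 j' (List.mem_range.mpr hlt)
    rw [bne_iff_ne] at h2
    exact h2 h0.symm

theorem pt_zero (j : ℕ) (hj : j < D.m) (h : pt j = pt 0) : j = 0 :=
  pt_inj j hj 0 (by decide) h

theorem hgenD : Subgroup.closure {g | ∃ i < D.k, g = GG.getD i 1} = ⊤ := hgen D.k rfl

theorem hord (i : ℕ) (hi : i < D.k) :
    Nat.Coprime (D.ords.getD i 0) 3 ∧ (GG.getD i 1) ^ (D.ords.getD i 0) = 1 := by
  have hi' : i < 2 := hi
  interval_cases i
  · exact ⟨by decide, gA_pow⟩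
  · exact ⟨by decide, gB_pow⟩

theorem hrelD : ∀ w ∈ D.rels, wordProd GG w.1 = wordProd GG w.2 := hrel

theorem card_stab : Nat.card ↥(MulAction.stabilizer G6 (pt 0)) = 10752 := by
  have h := StemOrb.card_stabilizer_mul D chk_struct pt GG hgenD pi_act (by decide)
    (fun j hj j' hj' => pt_inj j hj j' hj')
  rw [card_G6] at h
  have h' : Nat.card ↥(MulAction.stabilizer G6 (pt 0)) * 135 = 1451520 := h
  omega

/-- a stem extension of the group whose kernel is a 3-group is trivial -/
theorem card_ker_eq_one (Γ : Type u) [Group Γ] [Finite Γ] (σ : Γ →* G6)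
    (hσ : Cfsg.IsStemExtension σ) (hp : IsPGroup 3 σ.ker) : Nat.card σ.ker = 1 := by
  haveI : Fact (Nat.Prime 3) := ⟨by norm_num⟩
  haveI := finite_G6
  refine StemZE.card_ker_eq_one_of_cert 3 D C chk_struct chk_cert (by decide) pt GG hgenD pt_zero
    pi_act hord hrelD ?_ Γ σ hσ hp
  rw [card_stab]
  decide

end Cfsg.Agent.Lib.Helper1.Sp6L
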