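import Mathlib
import Cfsg.Agent.Lib.Helper1.Sp6C

/-!
# The symmetric group `S₈` inside `Sp₆(2)`: the stabilizer of a quadric of plus type

The symmetric group `S₈` acts on `𝟙^⊥ / ⟨𝟙⟩` inside `(ZMod 2)^8`, a six-dimensional symplectic
space with an invariant quadratic form.  We write the action in an explicit symplectic basis.
-/

set_option autoImplicit false
set_option maxRecDepth 100000

namespace Cfsg.Agent.Lib.Helper1.Sp6S

open Matrix Cfsg.Agent.Lib.Helper1.Sp6 Cfsg.Agent.Lib.Helper1.Sp6Q Cfsg.Agent.Lib.Helper1.MaskAct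

open scoped Pointwise

/-- The ground field. -/
abbrev K2 := ZMod 2

/-- The basis matrix: its columns are vectors `b_k` spanning a complement of `𝟙` in `𝟙^⊥`. -/
def bas : Matrix (Fin 8) (Fin 3 ⊕ Fin 3) K2 := fun i k =>
  match k with
  | .inl 0 => if i = 0 ∨ i = 1 then 1 else 0
  | .inr 0 => if i = 1 ∨ i = 2 then 1 else 0
  | .inl 1 => if i = 3 ∨ i = 4 then 1 else 0
  | .inr 1 => if i = 4 ∨ i = 5 then 1 else 0
  | .inl 2 => if i = 6 ∨ i = 7 then 1 else 0
  | .inr 2 => if i = 0 ∨ i = 1 ∨ i = 2 ∨ i = 6 then 1 else 0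

/-- The coordinate matrix. -/
def coo : Matrix (Fin 3 ⊕ Fin 3) (Fin 8) K2 := J (Fin 3) K2 * basᵀ

/-- all-ones vector -/
def ones : Fin 8 → K2 := fun _ => 1

/-- a subset -/
def uvec : Fin 8 → K2 := fun i => if i = 3 ∨ i = 4 ∨ i = 5 then 1 else 0

/-- its complement -/
def wvec : Fin 8 → K2 := fun i => if i = 3 ∨ i = 4 ∨ i = 5 then 0 else 1

theorem coo_mul_bas : coo * bas = 1 := by decide +kernel

theorem bas_mul_coo : bas * coo = 1 + vecMulVec ones uvec + vecMulVec wvec ones := by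
  decide +kernel

theorem gram : basᵀ * bas = J (Fin 3) K2 := by decide +kernel

theorem coo_gram : cooᵀ * J (Fin 3) K2 * coo = 1 + vecMulVec ones uvec + vecMulVec wvec ones := by
  decide +kernel

theorem coo_ones : coo *ᵥ ones = 0 := by decide +kernel

theorem ones_bas : ones ᵥ* bas = 0 := by decide +kernel

theorem basT_ones : basᵀ *ᵥ ones = 0 := by decide +kernel

/-- permutation matrix, as a homomorphism -/
abbrev pm (σ : Equiv.Perm (Fin 8)) : Matrix (Fin 8) (Fin 8) K2 := (σ⁻¹).permMatrix K2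

theorem pm_mul (σ τ : Equiv.Perm (Fin 8)) : pm (σ * τ) = pm σ * pm τ := by
  unfold pm; rw [_root_.mul_inv_rev, permMatrix_mul]

theorem pm_ones (σ : Equiv.Perm (Fin 8)) : pm σ *ᵥ ones = ones := by
  unfold pm; rw [permMatrix_mulVec]; rfl

theorem ones_pm (σ : Equiv.Perm (Fin 8)) : ones ᵥ* pm σ = ones := by
  unfold pm; rw [vecMul_permMatrix]; rfl

theorem pmT (σ : Equiv.Perm (Fin 8)) : (pm σ)ᵀ = pm σ⁻¹ := by
  unfold pm; rw [transpose_permMatrix]

/-- the matrix of a permutation -/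
def mat (σ : Equiv.Perm (Fin 8)) : Matrix (Fin 3 ⊕ Fin 3) (Fin 3 ⊕ Fin 3) K2 :=
  coo * pm σ * bas

theorem mat_one : mat 1 = 1 := by
  unfold mat pm; rw [inv_one, permMatrix_one, Matrix.mul_one, coo_mul_bas]

theorem key {m n : Type*} [Fintype m] [Fintype n] (A : Matrix m (Fin 8) K2) (B : Matrix (Fin 8) n K2)
    (hA : A *ᵥ ones = 0) (hB : ones ᵥ* B = 0) :
    A * (1 + vecMulVec ones uvec + vecMulVec wvec ones) * B = A * B := by
  have e1 : ∀ v : n → K2, vecMulVec (0 : m → K2) v = 0 := by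
    intro v; ext i j; simp [vecMulVec_apply]
  have e2 : vecMulVec wvec (0 : n → K2) = 0 := by ext i j; simp [vecMulVec_apply]
  have h2 : A * vecMulVec ones uvec * B = 0 := by
    rw [mul_vecMulVec, hA, vecMulVec_mul, e1]
  have h3 : A * vecMulVec wvec ones * B = 0 := by
    rw [Matrix.mul_assoc, vecMulVec_mul, hB, e2, Matrix.mul_zero]
  rw [Matrix.mul_add, Matrix.mul_add, Matrix.add_mul, Matrix.add_mul, Matrix.mul_one, h2, h3]
  simp

theorem mat_mul (σ τ : Equiv.Perm (Fin 8)) : mat (σ * τ) = mat σ * mat τ := by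
  unfold mat
  have h1 : coo * pm σ * bas * (coo * pm τ * bas) =
      (coo * pm σ) * (bas * coo) * (pm τ * bas) := by simp only [Matrix.mul_assoc]
  rw [h1, bas_mul_coo, key, pm_mul]
  · simp only [Matrix.mul_assoc]
  · rw [← Matrix.mulVec_mulVec, pm_ones, coo_ones]
  · rw [← Matrix.vecMul_vecMul, ones_pm, ones_bas]

theorem mat_mem (σ : Equiv.Perm (Fin 8)) : mat σ ∈ symplecticGroup (Fin 3) K2 := by
  rw [SymplecticGroup.mem_iff']
  unfold mat
  have h1 : (coo * pm σ * bas)ᵀ * J (Fin 3) K2 * (coo * pm σ * bas) =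
      (basᵀ * (pm σ)ᵀ) * (cooᵀ * J (Fin 3) K2 * coo) * (pm σ * bas) := by
    simp only [Matrix.transpose_mul, Matrix.mul_assoc]
  rw [h1, coo_gram, key]
  · rw [Matrix.mul_assoc, ← Matrix.mul_assoc _ (pm σ), pmT, ← pm_mul, inv_mul_cancel]
    unfold pm; rw [inv_one, permMatrix_one, Matrix.one_mul, gram]
  · rw [← Matrix.mulVec_mulVec, pmT, pm_ones, basT_ones]
  · rw [← Matrix.vecMul_vecMul, ones_pm, ones_bas]

/-- The homomorphism `S₈ → Sp₆(2)`. -/
def θ : Equiv.Perm (Fin 8) →* G6 where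
  toFun σ := ⟨mat σ, mat_mem σ⟩
  map_one' := Subtype.ext mat_one
  map_mul' σ τ := Subtype.ext (mat_mul σ τ)

theorem mat_cycle_ne : mat (Equiv.swap 0 1 * Equiv.swap 1 2) ≠ 1 := by
  decide +kernel

theorem θ_injective : Function.Injective θ := by
  rw [← MonoidHom.ker_eq_bot_iff]
  by_contra hne
  have hnt : Nontrivial θ.ker := (Subgroup.nontrivial_iff_ne_bot _).mpr hne
  have hle := Equiv.Perm.alternatingGroup_le_of_normal (α := Fin 8) (by simp) hnt
  have hc : (Equiv.swap (0 : Fin 8) 1 * Equiv.swap 1 2) ∈ alternatingGroup (Fin 8) := by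
    rw [Equiv.Perm.mem_alternatingGroup]; decide
  have := hle hc
  rw [MonoidHom.mem_ker] at this
  exact mat_cycle_ne (congrArg Subtype.val this)

/-- the tables of a transposition and of a cycle of length 8 on the coded vectors -/
def tS : List ℕ := [0, 1, 2, 3, 4, 5, 6, 7, 9, 8, 11, 10, 13, 12, 15, 14, 16, 17, 18, 19, 20, 21, 22, 23, 25, 24, 27, 26, 29, 28, 31, 30, 32, 33, 34, 35, 36, 37, 38, 39, 41, 40, 43, 42, 45, 44, 47, 46, 48, 49, 50, 51, 52, 53, 54, 55, 57, 56, 59, 58, 61, 60, 63, 62]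
def tR : List ℕ := [0, 8, 16, 24, 44, 36, 60, 52, 21, 29, 5, 13, 57, 49, 41, 33, 38, 46, 54, 62, 10, 2, 26, 18, 51, 59, 35, 43, 31, 23, 15, 7, 56, 48, 40, 32, 20, 28, 4, 12, 45, 37, 61, 53, 1, 9, 17, 25, 30, 22, 14, 6, 50, 58, 34, 42, 11, 3, 27, 19, 39, 47, 55, 63]

theorem tS_chk : ∀ x : Fin 64, (enc (mat (Equiv.swap 0 1) *ᵥ dec x)).val = tS.getD x.val 0 := by
  decide +kernel

theorem tR_chk : ∀ x : Fin 64, (enc (mat (finRotate 8) *ᵥ dec x)).val = tR.getD x.val 0 := by
  decide +kernel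

theorem fix_S : imgMask 64 (fun x => tS.getD x 0) (PL 0) = PL 0 := by decide +kernel

theorem fix_R : imgMask 64 (fun x => tR.getD x 0) (PL 0) = PL 0 := by decide +kernel

theorem φ_θ (σ : Equiv.Perm (Fin 8)) (x : Fin 64) : φ (θ σ) x = enc (mat σ *ᵥ dec x) := rfl

theorem θ_mem_of_table (σ : Equiv.Perm (Fin 8)) (t : List ℕ)
    (h1 : ∀ x : Fin 64, (enc (mat σ *ᵥ dec x)).val = t.getD x.val 0)
    (h2 : imgMask 64 (fun x => t.getD x 0) (PL 0) = PL 0) : θ σ ∈ K := by
  rw [MulAction.mem_stabilizer_iff]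
  have hf : ∀ x : Fin 64, (φ (θ σ) x).val = (fun x => t.getD x 0) x.val := by
    intro x
    rw [φ_θ]
    exact h1 x
  unfold pt
  rw [smul_mset6 (θ σ) (fun x => t.getD x 0) hf, h2]

theorem θ_swap_mem : θ (Equiv.swap 0 1) ∈ K := θ_mem_of_table _ tS tS_chk fix_S

theorem θ_rot_mem : θ (finRotate 8) ∈ K := θ_mem_of_table _ tR tR_chk fix_R

theorem θ_mem (σ : Equiv.Perm (Fin 8)) : θ σ ∈ K := by
  have h1 : Subgroup.closure ({finRotate 8, Equiv.swap 0 (finRotate 8 0)} :
      Set (Equiv.Perm (Fin 8))) = ⊤ :=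
    Equiv.Perm.closure_cycle_adjacent_swap (isCycle_finRotate) (support_finRotate) 0
  have h2 : Subgroup.closure ({finRotate 8, Equiv.swap 0 (finRotate 8 0)} :
      Set (Equiv.Perm (Fin 8))) ≤ K.comap θ := by
    rw [Subgroup.closure_le]
    intro x hx
    simp only [Set.mem_insert_iff, Set.mem_singleton_iff] at hx
    rcases hx with rfl | rfl
    · exact θ_rot_mem
    · have : finRotate 8 (0 : Fin 8) = 1 := by decide
      rw [this]
      exact θ_swap_mem
  rw [h1] at h2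
  exact h2 (Subgroup.mem_top σ)

/-- the homomorphism to the stabilizer -/
def θK : Equiv.Perm (Fin 8) →* K := θ.codRestrict K θ_mem

theorem θK_bijective : Function.Bijective θK := by
  have hinj : Function.Injective θK := by
    intro σ τ h
    exact θ_injective (congrArg Subtype.val h)
  haveI : Finite K := inferInstance
  apply hinj.bijective_of_nat_card_le
  rw [card_K, Nat.card_perm, Nat.card_eq_fintype_card, Fintype.card_fin]
  decide

/-- the stabilizer of the quadric is the symmetric group -/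
noncomputable def eK : Equiv.Perm (Fin 8) ≃* K := MulEquiv.ofBijective θK θK_bijective

theorem eK_apply (σ : Equiv.Perm (Fin 8)) : ((eK σ : K) : G6) = θ σ := rfl

/-- the sign on the stabilizer -/
noncomputable def qK : K →* ℤˣ := Equiv.Perm.sign.comp eK.symm.toMonoidHom

theorem qK_surjective : Function.Surjective qK := by
  intro x
  obtain ⟨σ, hσ⟩ := Equiv.Perm.sign_surjective (Fin 8) x
  exact ⟨eK σ, by
    show Equiv.Perm.sign (eK.symm (eK σ)) = x
    rw [MulEquiv.symm_apply_apply, hσ]⟩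

/-- the alternating group in the stabilizer -/
def K₁ : Subgroup G6 := (alternatingGroup (Fin 8)).map θ

theorem K₁_le : K₁ ≤ K := by
  rintro _ ⟨σ, _, rfl⟩
  exact θ_mem σ

theorem qK_eq_one_iff (k : K) : qK k = 1 ↔ (k : G6) ∈ K₁ := by
  obtain ⟨σ, rfl⟩ := eK.surjective k
  have h1 : qK (eK σ) = Equiv.Perm.sign σ := by
    show Equiv.Perm.sign (eK.symm (eK σ)) = _
    rw [MulEquiv.symm_apply_apply]
  rw [h1, eK_apply]
  unfold K₁
  rw [Subgroup.mem_map_iff_mem θ_injective, Equiv.Perm.mem_alternatingGroup]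

/-- the subgroup is the alternating group -/
noncomputable def eK₁ : alternatingGroup (Fin 8) ≃* K₁ :=
  (alternatingGroup (Fin 8)).equivMapOfInjective θ θ_injective

end Cfsg.Agent.Lib.Helper1.Sp6S
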