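import Mathlib
import Cfsg.Agent.Lib.Helper1.Sp6S
import Cfsg.Agent.Lib.Helper1.Alt8
import Cfsg.Agent.Lib.Helper1.StemZD7

/-!
# The stem extensions of the group `Sp₆(2)` with kernel a 2-group
-/

set_option autoImplicit false
set_option maxRecDepth 100000

namespace Cfsg.Agent.Lib.Helper1.Sp6S

open Matrix Cfsg.Agent.Lib.Helper1.Sp6 Cfsg.Agent.Lib.Helper1.Sp6Q Cfsg.Agent.Lib.Helper1.Stem

universe u

theorem K₁_perfect : commutator ↥K₁ = ⊤ :=
  commutator_eq_top_of_equiv eK₁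
    (commutator_alternatingGroup_eq_top (by rw [Nat.card_eq_fintype_card, Fintype.card_fin]; norm_num))

theorem K₁_bound (Γ' : Type u) [Group Γ'] [Finite Γ'] (σ' : Γ' →* ↥K₁)
    (hσ' : Cfsg.IsStemExtension σ') (hp : IsPGroup 2 σ'.ker) : Nat.card σ'.ker ≤ 2 := by
  have h1 := isStem_comp_equiv (MulEquiv.refl Γ') eK₁.symm σ' hσ'
  have e2 := kerEquiv (MulEquiv.refl Γ') eK₁.symm σ'
  have hp' : IsPGroup 2 (eK₁.symm.toMonoidHom.comp (σ'.comp (MulEquiv.refl Γ').toMonoidHom)).ker :=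
    hp.of_equiv e2.symm
  have h2 := Alt8.card_ker_le_two Γ' _ h1 hp'
  rwa [Nat.card_congr e2.toEquiv] at h2

theorem card_units : Nat.card ℤˣ = 2 ^ 1 := by
  rw [Nat.card_eq_fintype_card, Fintype.card_units_int]
  rfl

/-- a stem extension of the group whose kernel is a 2-group has a kernel of order at most 2 -/
theorem card_ker_le_two (Γ : Type u) [Group Γ] [Finite Γ] (σ : Γ →* G6)
    (hσ : Cfsg.IsStemExtension σ) (hp : IsPGroup 2 σ.ker) : Nat.card σ.ker ≤ 2 := by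
  obtain ⟨a, ha⟩ := IsPGroup.iff_card.mp hp
  have h := StemZD.card_ker_mul_le_pow_mul D C chk_struct chk_cert (by decide) pt GG hgenD pt_zero
    pi_act hodd hrelD K rfl qK qK_surjective 1 card_units K₁ K₁_le qK_eq_one_iff K₁_perfect 2
    K₁_bound Γ σ hσ a ha
  have e : C.es.sum = 1 := rfl
  rw [e] at h
  omega

end Cfsg.Agent.Lib.Helper1.Sp6S
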