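import Mathlib
import Cfsg.Agent.Lib.Helper1.StemZE3
import Cfsg.Agent.Lib.Helper1.Stem10

set_option autoImplicit false

/-! Labelled actions: a stem extension with kernel a `p`-group, over a group with a perfect point
stabilizer all of whose stem extensions with kernel a `p`-group are trivial, has a trivial kernel
when the system of the equations of the labels has a left inverse modulo `p`. -/

namespace Cfsg.Agent.Lib.Helper1.StemZE

open Cfsg.Agent.Lib.Helper1.MatCode Cfsg.Agent.Lib.Helper1.Stem Cfsg.Agent.Lib.Helper1.StemSA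
  Cfsg.Agent.Lib.Helper1.StemZLin Cfsg.Agent.Lib.Helper1.StemZA Cfsg.Agent.Lib.Helper1.StemZC
  Cfsg.Agent.Lib.Helper1.StemZD

universe u v

theorem card_ker_eq_one_of_cert_perfect (p : ℕ) [hp : Fact p.Prime] (D : SAData)
    (C : List (List ((ℕ × ℕ) × ℕ))) (hS : D.chkStruct = true) (hC : chkCertE D p C = true)
    (hm : 0 < D.m)
    {G : Type v} {Y : Type*} [Group G] [Finite G] [MulAction G Y] (pt : ℕ → Y) (gs : List G)
    (hgen : Subgroup.closure {g | ∃ i < D.k, g = gs.getD i 1} = ⊤)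
    (pt_zero : ∀ j < D.m, pt j = pt 0 → j = 0)
    (pi_act : ∀ i < D.k, ∀ j < D.m, gs.getD i 1 • pt j = pt (D.pi i j))
    (hord : ∀ i < D.k, Nat.Coprime (D.ords.getD i 0) p ∧ (gs.getD i 1) ^ (D.ords.getD i 0) = 1)
    (hrel : ∀ w ∈ D.rels, wordProd gs w.1 = wordProd gs w.2)
    (hKperf : commutator ↥(MulAction.stabilizer G (pt 0)) = ⊤)
    (hKstem : ∀ (Γ' : Type u) [Group Γ'] [Finite Γ']
      (σ' : Γ' →* ↥(MulAction.stabilizer G (pt 0))), Cfsg.IsStemExtension σ' →
      IsPGroup p σ'.ker → Nat.card σ'.ker = 1)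
    (Γ : Type u) [Group Γ] [Finite Γ] (σ : Γ →* G) (hσ : Cfsg.IsStemExtension σ)
    (hk : IsPGroup p σ.ker) : Nat.card σ.ker = 1 := by
  classical
  obtain ⟨hs, hcen, hcomm⟩ := hσ
  obtain ⟨a, hc⟩ := IsPGroup.iff_card.mp hk
  set K := MulAction.stabilizer G (pt 0) with hKdef
  set Kc := K.comap σ with hKc
  have hmemKc : ∀ g : Γ, g ∈ Kc ↔ σ g • pt 0 = pt 0 := by
    intro g
    rw [hKc, Subgroup.mem_comap, hKdef, MulAction.mem_stabilizer_iff]
  have hkpow : ∀ c : Γ, σ c = 1 → c ^ p ^ a = 1 := by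
    intro c hc1
    have h1 : (⟨c, MonoidHom.mem_ker.mpr hc1⟩ : σ.ker) ^ Nat.card σ.ker = 1 := pow_card_eq_one'
    rw [hc] at h1
    exact congrArg Subtype.val h1
  -- the restriction of `σ`
  let σK : Kc →* K := (σ.comp Kc.subtype).codRestrict K (fun x => x.2)
  have hσKs : Function.Surjective σK := by
    intro k
    obtain ⟨g, hg⟩ := hs k.1
    exact ⟨⟨g, by rw [hKc, Subgroup.mem_comap, hg]; exact k.2⟩, Subtype.ext hg⟩
  have hσKker : ∀ x : Kc, x ∈ σK.ker ↔ σ x.1 = 1 := by
    intro x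
    rw [MonoidHom.mem_ker]
    constructor
    · intro h; exact congrArg Subtype.val h
    · intro h; exact Subtype.ext h
  have hσKcen : σK.ker ≤ Subgroup.center Kc := by
    intro x hx
    rw [hσKker] at hx
    rw [Subgroup.mem_center_iff]
    intro y
    exact Subtype.ext (Subgroup.mem_center_iff.mp (hcen (MonoidHom.mem_ker.mpr hx)) y.1)
  -- the order of the abelianization
  obtain ⟨e, u, hu, hNab⟩ := Nat.exists_eq_pow_mul_and_not_dvd
    (Nat.card_pos (α := Abelianization Kc)).ne' p hp.out.ne_one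
  have hcopu : ∀ b : ℕ, Nat.Coprime u (p ^ b) := fun b =>
    Nat.Coprime.pow_right b ((Nat.Prime.coprime_iff_not_dvd hp.out).mpr hu).symm
  -- the labels
  let pw : Abelianization Kc →* Abelianization Kc := powMonoidHom u
  let ψ : Kc →* pw.range := pw.rangeRestrict.comp Abelianization.of
  have hψ : ∀ x : Kc, ((ψ x : pw.range) : Abelianization Kc) = Abelianization.of x ^ u :=
    fun _ => rfl
  have hψ1 : ∀ x : Kc, ψ x = 1 → x ^ u ∈ commutator Kc := by
    intro x hx
    have h1 : Abelianization.of x ^ u = 1 := by rw [← hψ, hx]; rfl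
    rw [← map_pow] at h1
    exact (QuotientGroup.eq_one_iff _).mp h1
  let κ : Γ → Additive pw.range := fun g =>
    if h : g ∈ Kc then Additive.ofMul (ψ ⟨g, h⟩) else 0
  have hκ : ∀ (g : Γ) (h : g ∈ Kc), κ g = Additive.ofMul (ψ ⟨g, h⟩) := by
    intro g h
    simp only [κ, dif_pos h]
  have hliftX : ∀ i : ℕ, ∃ x : Γ, σ x = gs.getD i 1 ∧ (i < D.k → x ^ (D.ords.getD i 0) = 1) := by
    intro i
    by_cases hi : i < D.k
    · obtain ⟨ho, hpw⟩ := hord i hi
      obtain ⟨x, hx1, hx2⟩ := StemZB.exists_lift_pow_eq_one σ hs p a hkpow _ _ ho hpw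
      exact ⟨x, hx1, fun _ => hx2⟩
    · obtain ⟨x, hx⟩ := hs (gs.getD i 1)
      exact ⟨x, hx, fun h => absurd h hi⟩
  choose xf hxf using hliftX
  let X : List Γ := (List.range D.k).map xf
  have hX : ∀ i < D.k, X.getD i 1 = xf i := by
    intro i hi
    have : i < X.length := by simp [X, hi]
    rw [List.getD_eq_getElem _ _ this]
    simp [X]
  have hσX : ∀ i < D.k, σ (X.getD i 1) = gs.getD i 1 := by
    intro i hi
    rw [hX i hi]; exact (hxf i).1
  have H : ZAHyp D σ pt X κ :=
    { ker_central := hcen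
      pt_zero := pt_zero
      pi_act := by
        intro i hi j hj
        rw [hσX i hi]; exact pi_act i hi j hj
      pow_one := by
        intro i hi
        rw [hX i hi]; exact (hxf i).2 hi
      rel_ok := by
        intro w hw
        obtain ⟨hw1, hw2⟩ := rels_lt D hS w hw
        rw [sigma_wordProd σ X gs D.k hσX w.1 hw1, sigma_wordProd σ X gs D.k hσX w.2 hw2]
        exact hrel w hw
      gen := by
        intro g
        have h1 : Subgroup.closure {g | ∃ i < D.k, g = X.getD i 1} = ⊤ := by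
          apply closure_eq_top_of_stem σ ⟨hs, hcen, hcomm⟩
          rw [eq_top_iff, ← hgen]
          apply Subgroup.closure_mono
          rintro _ ⟨i, hi, rfl⟩
          exact ⟨X.getD i 1, ⟨i, hi, rfl⟩, hσX i hi⟩
        rw [h1]; exact Subgroup.mem_top g
      kap_mul := by
        intro g h hg hh
        have hg' : g ∈ Kc := (hmemKc g).mpr hg
        have hh' : h ∈ Kc := (hmemKc h).mpr hh
        rw [hκ g hg', hκ h hh', hκ (g * h) (Kc.mul_mem hg' hh'), ← ofMul_mul, ← map_mul]
        rfl }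
  -- the exponent of the group of labels
  have h2 : ∀ x : Additive pw.range, (((p : ℕ) : ℤ) ^ e) • x = 0 := by
    intro x
    obtain ⟨t, rfl⟩ := Additive.ofMul.surjective x
    obtain ⟨t, ⟨y, rfl⟩⟩ := t
    rw [← ofMul_zpow]
    have e4 : (((p : ℕ) : ℤ) ^ e) = ((p ^ e : ℕ) : ℤ) := by push_cast; rfl
    rw [e4, zpow_natCast]
    have e5 : (⟨pw y, ⟨y, rfl⟩⟩ : pw.range) ^ p ^ e = 1 := by
      apply Subtype.ext
      show (y ^ u) ^ p ^ e = 1
      rw [← pow_mul, mul_comm, ← hNab]
      exact pow_card_eq_one'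
    rw [e5]; rfl
  have hzero := ze_main D σ pt X κ hS H p C hC hm e h2
  -- the kernel is trivial
  have hz1 : ∀ z : Γ, σ z = 1 → z = 1 := by
    intro z hz
    have hzK : z ∈ Kc := by rw [hmemKc, hz, one_smul]
    have h0 := hzero z (by rw [hz, one_smul])
    rw [hκ z hzK] at h0
    have hψz : ψ ⟨z, hzK⟩ = 1 := Additive.ofMul.injective h0
    have h1 : (⟨z, hzK⟩ : Kc) ^ u ∈ commutator Kc := hψ1 _ hψz
    have h3 : (⟨z, hzK⟩ : Kc) ^ u ∈ σK.ker := by
      rw [hσKker]
      show σ (z ^ u) = 1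
      rw [map_pow, hz, one_pow]
    have h4 : ((⟨z, hzK⟩ : Kc) ^ u) ^ p ^ a = 1 := by
      apply Subtype.ext
      show (z ^ u) ^ p ^ a = 1
      apply hkpow
      rw [map_pow, hz, one_pow]
    have h6 : z ^ u = 1 := by
      have hstem := liftHom_isStem σ hs hcen K hKperf
      have hpk : IsPGroup p (liftHom σ K).ker := by
        intro x
        refine ⟨a, ?_⟩
        apply Subtype.ext
        apply Subtype.ext
        show (x.1.1) ^ p ^ a = 1
        apply hkpow
        have hx := x.2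
        rw [MonoidHom.mem_ker] at hx
        exact congrArg Subtype.val hx
      have hc1 := hKstem _ (liftHom σ K) hstem hpk
      have hzl : z ^ u ∈ liftSub σ K := by
        unfold liftSub
        rw [← Subgroup.map_subtype_commutator]
        exact ⟨_, h1, rfl⟩
      have hmem : (⟨z ^ u, hzl⟩ : liftSub σ K) ∈ (liftHom σ K).ker := by
        rw [MonoidHom.mem_ker]
        apply Subtype.ext
        show σ (z ^ u) = 1
        rw [map_pow, hz, one_pow]
      rw [Subgroup.card_eq_one] at hc1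
      rw [hc1, Subgroup.mem_bot] at hmem
      exact congrArg Subtype.val hmem
    have hd : orderOf z ∣ Nat.gcd u (p ^ a) :=
      Nat.dvd_gcd (orderOf_dvd_of_pow_eq_one h6) (orderOf_dvd_of_pow_eq_one (hkpow z hz))
    rw [(hcopu a).gcd_eq_one, Nat.dvd_one] at hd
    exact orderOf_eq_one_iff.mp hd
  rw [Subgroup.card_eq_one, eq_bot_iff]
  intro z hz
  rw [Subgroup.mem_bot]
  exact hz1 z (MonoidHom.mem_ker.mp hz)

end Cfsg.Agent.Lib.Helper1.StemZE
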