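import Mathlib
import Cfsg.Agent.Lib.Helper1.O8S
import Cfsg.Agent.Lib.Helper1.Sp6T
import Cfsg.Agent.Lib.Helper1.Sp6L
import Cfsg.Agent.Lib.Helper1.StemZE4
import Cfsg.Agent.Lib.Helper1.Stem14
import Cfsg.Agent.Lib.Helper1.Stem17
import Cfsg.Agent.Lib.Helper1.Stem21

/-!
# The stem extensions of the group `Ω₈⁺(2)`: the bound for the order of the kernel
-/

set_option autoImplicit false
set_option maxRecDepth 100000

namespace Cfsg.Agent.Lib.Helper1.O8T

open Matrix Cfsg.Agent.Lib.Helper1.O8 Cfsg.Agent.Lib.Helper1.O8C Cfsg.Agent.Lib.Helper1.O8S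
  Cfsg.Agent.Lib.Helper1.Stem

open Cfsg.Agent.Lib.Helper1.Sp6 (G6)

universe u

theorem K_perfect : commutator ↥K = ⊤ :=
  commutator_eq_top_of_equiv eK.symm Sp6.commutator_G6

theorem K_bound2 (Γ' : Type u) [Group Γ'] [Finite Γ'] (σ' : Γ' →* ↥K)
    (hσ' : Cfsg.IsStemExtension σ') (hp : IsPGroup 2 σ'.ker) : Nat.card σ'.ker ≤ 2 := by
  have h1 := isStem_comp_equiv (MulEquiv.refl Γ') eK σ' hσ'
  have e2 := kerEquiv (MulEquiv.refl Γ') eK σ'
  have hp' : IsPGroup 2 (eK.toMonoidHom.comp (σ'.comp (MulEquiv.refl Γ').toMonoidHom)).ker :=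
    hp.of_equiv e2.symm
  have h2 := Sp6S.card_ker_le_two Γ' _ h1 hp'
  rwa [Nat.card_congr e2.toEquiv] at h2

theorem K_stem3 (Γ' : Type u) [Group Γ'] [Finite Γ'] (σ' : Γ' →* ↥K)
    (hσ' : Cfsg.IsStemExtension σ') (hp : IsPGroup 3 σ'.ker) : Nat.card σ'.ker = 1 := by
  have h1 := isStem_comp_equiv (MulEquiv.refl Γ') eK σ' hσ'
  have e2 := kerEquiv (MulEquiv.refl Γ') eK σ'
  have hp' : IsPGroup 3 (eK.toMonoidHom.comp (σ'.comp (MulEquiv.refl Γ').toMonoidHom)).ker :=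
    hp.of_equiv e2.symm
  have h2 := Sp6L.card_ker_eq_one Γ' _ h1 hp'
  rwa [Nat.card_congr e2.toEquiv] at h2

/-- a stem extension of the group whose kernel is a 2-group has a kernel of order at most 4 -/
theorem card_ker_le_four (Γ : Type u) [Group Γ] [Finite Γ] (σ : Γ →* G8)
    (hσ : Cfsg.IsStemExtension σ) (hp : IsPGroup 2 σ.ker) : Nat.card σ.ker ≤ 4 := by
  obtain ⟨a, ha⟩ := IsPGroup.iff_card.mp hp
  haveI : IsCyclic PUnit.{1} := isCyclic_of_subsingleton
  have h := StemZD.card_ker_mul_le_pow_mul D C2 chk_struct chk_cert2 (by decide) pt GG hgenD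
    pt_zero pi_act hodd hrelD K rfl (1 : ↥K →* PUnit.{1}) (fun _ => ⟨1, rfl⟩) 0
    (by rw [Nat.card_unique]; rfl) K le_rfl (fun k => ⟨fun _ => k.2, fun _ => rfl⟩) K_perfect 2
    K_bound2 Γ σ hσ a ha
  have e : C2.es.sum = 1 := rfl
  rw [e] at h
  omega

/-- a stem extension of the group whose kernel is a 3-group is trivial -/
theorem card_ker_three (Γ : Type u) [Group Γ] [Finite Γ] (σ : Γ →* G8)
    (hσ : Cfsg.IsStemExtension σ) (hp : IsPGroup 3 σ.ker) : Nat.card σ.ker = 1 := by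
  haveI : Fact (Nat.Prime 3) := ⟨by norm_num⟩
  haveI := finite_G8
  exact StemZE.card_ker_eq_one_of_cert_perfect 3 D C3 chk_struct chk_cert3 (by decide) pt GG
    hgenD pt_zero pi_act (hord 3 (by decide)) hrelD K_perfect K_stem3 Γ σ hσ hp

/-- a stem extension of the group whose kernel is a 5-group is trivial -/
theorem card_ker_five (Γ : Type u) [Group Γ] [Finite Γ] (σ : Γ →* G8)
    (hσ : Cfsg.IsStemExtension σ) (hp : IsPGroup 5 σ.ker) : Nat.card σ.ker = 1 := by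
  haveI : Fact (Nat.Prime 5) := ⟨by norm_num⟩
  haveI := finite_G8
  refine StemZE.card_ker_eq_one_of_cert 5 D C5 chk_struct chk_cert5 (by decide) pt GG hgenD
    pt_zero pi_act (hord 5 (by decide)) hrelD ?_ Γ σ hσ hp
  have h := card_K
  unfold K at h
  rw [h]
  decide

theorem sq_chk : (List.range 13199).all
    (fun ℓ => !(174182400 % (ℓ * ℓ) == 0) || (2880 % ℓ == 0)) = true := by decide +kernel

theorem sq_dvd (ℓ : ℕ) (h : ℓ * ℓ ∣ 174182400) : ℓ ∣ 2880 := by
  have hlt : ℓ < 13199 := by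
    by_contra hge
    have h1 : 13199 * 13199 ≤ ℓ * ℓ := Nat.mul_le_mul (by omega) (by omega)
    have h2 := Nat.le_of_dvd (by norm_num) h
    omega
  have h1 := sq_chk
  rw [List.all_eq_true] at h1
  have h2 := h1 ℓ (List.mem_range.mpr hlt)
  rw [Bool.or_eq_true, Bool.not_eq_true', beq_eq_false_iff_ne, beq_iff_eq] at h2
  rcases h2 with h2 | h2
  · exact absurd (Nat.mod_eq_zero_of_dvd h) h2
  · exact Nat.dvd_of_mod_eq_zero h2

theorem not_sq_dvd (p : ℕ) (hp : p.Prime) (h2 : p ≠ 2) (h3 : p ≠ 3) (h5 : p ≠ 5) :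
    ¬ p * p ∣ 174182400 := by
  intro h
  have h' := sq_dvd p h
  have e : (2880 : ℕ) = 2 ^ 6 * 3 ^ 2 * 5 := by norm_num
  rw [e] at h'
  rcases (Nat.Prime.dvd_mul hp).mp h' with h' | h'
  · rcases (Nat.Prime.dvd_mul hp).mp h' with h' | h'
    · exact h2 ((Nat.prime_dvd_prime_iff_eq hp Nat.prime_two).mp (hp.dvd_of_dvd_pow h'))
    · exact h3 ((Nat.prime_dvd_prime_iff_eq hp Nat.prime_three).mp (hp.dvd_of_dvd_pow h'))
  · exact h5 ((Nat.prime_dvd_prime_iff_eq hp Nat.prime_five).mp h')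

/-- the kernel of a stem extension has order dividing 4 -/
theorem hub (Γ : Type u) [Group Γ] [Finite Γ] (σ : Γ →* G8)
    (hσ : Cfsg.IsStemExtension σ) : Nat.card σ.ker ∣ 4 := by
  haveI := finite_G8
  apply card_dvd_of_primary σ 4 (by norm_num) ?_ hσ
  intro p hp Γ' _ _ σ' hσ' hk
  by_cases h2 : p = 2
  · subst h2
    have hle := card_ker_le_four Γ' σ' hσ' hk
    obtain ⟨a, ha⟩ := IsPGroup.iff_card.mp hk
    rw [ha] at hle ⊢
    have ha2 : a ≤ 2 := by
      by_contra hlt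
      have : 2 ^ 3 ≤ 2 ^ a := Nat.pow_le_pow_right (by norm_num) (by omega)
      omega
    exact (pow_dvd_pow 2 ha2).trans (by norm_num)
  · by_cases h3 : p = 3
    · subst h3
      rw [card_ker_three Γ' σ' hσ' hk]
      exact one_dvd _
    · by_cases h5 : p = 5
      · subst h5
        rw [card_ker_five Γ' σ' hσ' hk]
        exact one_dvd _
      · have h1 : Nat.card σ'.ker = 1 := by
          apply card_ker_eq_one_of_not_sq_dvd σ' hσ' p hk
          rw [card_G8]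
          exact not_sq_dvd p hp.out h2 h3 h5
        rw [h1]; exact one_dvd _

end Cfsg.Agent.Lib.Helper1.O8T
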