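import Cfsg.Agent.Lib.Helper1.O8E1
import Cfsg.Agent.Lib.Helper1.O8E2
import Cfsg.Agent.Lib.Helper1.O8T
import Cfsg.Agent.Lib.Helper1.StemLL9
import Cfsg.Agent.Lib.Helper1.Stem21

/-!
# The multiplier of the group `Ω₈⁺(2)`
-/

set_option autoImplicit false
set_option maxRecDepth 100000

namespace Cfsg.Agent.Lib.Helper1.O8M

open Cfsg Cfsg.Agent.Lib.Helper1 Cfsg.Agent.Lib.Helper1.MatCode
open Cfsg.Agent.Lib.Helper1.O8 Cfsg.Agent.Lib.Helper5.QuadGlue
open Cfsg.Agent.Lib.Helper1.Stem Cfsg.Agent.Lib.Helper1.StemLL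

universe u

open scoped commutatorElement

/-- the two covers with kernels of order 2 -/
noncomputable abbrev σa := sig G8 O8E1.L.c (EY O8E1.L (ptSub O8E1.rawHyp))
  (rhoY O8E1.L (ptSub O8E1.rawHyp))
noncomputable abbrev σb := sig G8 O8E2.L.c (EY O8E2.L (ptSub O8E2.rawHyp))
  (rhoY O8E2.L (ptSub O8E2.rawHyp))

theorem pair_1a : O8E1.L.chkPair O8E2.wA O8E2.wB 1 = true := by decide +kernel
theorem pair_1b : O8E2.L.chkPair O8E2.wA O8E2.wB 0 = true := by decide +kernel
theorem pair_2a : O8E1.L.chkPair O8E1.wA O8E1.wB 0 = true := by decide +kernel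
theorem pair_2b : O8E2.L.chkPair O8E1.wA O8E1.wB 1 = true := by decide +kernel

/-- the cover with kernel of order 4 -/
theorem stem_ab : Cfsg.IsStemExtension (fibreHom σa σb) :=
  fibre_isStem O8E1.L O8E2.L (ptSub O8E1.rawHyp) (ptSub O8E2.rawHyp) GG O8E1.hyp
    O8E2.hyp O8E1.L_chk O8E2.L_chk _ _ _ _ pair_1a pair_1b pair_2a pair_2b

theorem nonempty_zmodEquiv {Z : Type*} [Group Z] (hc : IsCyclic Z) (n : ℕ) (hn : Nat.card Z = n) :
    Nonempty (Multiplicative (ZMod n) ≃* Z) := by
  subst hn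
  exact ⟨zmodCyclicMulEquiv hc⟩

/-- the kernel of the cover -/
theorem nonempty_kerEquiv : Nonempty ((fibreHom σa σb).ker ≃* Multiplicative (ZMod 2 × ZMod 2)) := by
  have e2 := kerFibreEquiv σa σb
  have ca := (nonempty_zmodEquiv O8E1.cover.2.1 2 O8E1.cover.2.2).some
  have cb := (nonempty_zmodEquiv O8E2.cover.2.1 2 O8E2.cover.2.2).some
  have e3 : (fibreHom σa σb).ker ≃* Multiplicative (ZMod 2) × Multiplicative (ZMod 2) :=
    e2.trans (MulEquiv.prodCongr ca.symm cb.symm)
  exact ⟨e3.trans (MulEquiv.prodMultiplicative _ _).symm⟩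

theorem card_target : Nat.card (Multiplicative (ZMod 2 × ZMod 2)) = 4 := by
  show Nat.card (ZMod 2 × ZMod 2) = 4
  rw [Nat.card_prod, Nat.card_eq_fintype_card, ZMod.card]

section

attribute [local irreducible] rf

theorem gA_gB_ne : gA * gB ≠ gB * gA := by
  intro h
  have h1 : wordProd GG [0, 1] = wordProd GG [1, 0] := by
    rw [wordProd_cons, wordProd_cons, wordProd_nil, wordProd_cons, wordProd_cons, wordProd_nil,
      mul_one, mul_one]
    exact h
  have h2 : (φ (wordProd GG [0, 1]) 1).val = (φ (wordProd GG [1, 0]) 1).val := by rw [h1]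
  rw [φ_wordProd [0, 1] (by decide) 1, φ_wordProd [1, 0] (by decide) 1] at h2
  exact absurd h2 (by decide +kernel)

end

theorem commutator_eq_top_of_simple' {K : Type*} [Group K] (hs : IsSimpleGroup K) (a b : K)
    (hab : a * b ≠ b * a) : commutator K = ⊤ := by
  rcases hs.eq_bot_or_eq_top_of_normal (commutator K) inferInstance with h | h
  · exfalso
    apply hab
    have h1 : ⁅a, b⁆ ∈ commutator K := Subgroup.commutator_mem_commutator (Subgroup.mem_top a)
      (Subgroup.mem_top b)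
    rw [h, Subgroup.mem_bot, commutatorElement_eq_one_iff_mul_comm] at h1
    exact h1
  · exact h

theorem commutator_G8 : commutator G8 = ⊤ :=
  commutator_eq_top_of_simple' isSimpleGroup_G8 gA gB gA_gB_ne

/-- the multiplier of a group isomorphic to `Ω₈⁺(2)` -/
theorem main {G : Type u} [Group G] (f : G8 ≃* G) :
    Cfsg.HasSchurMultiplier G (Multiplicative (ZMod 2 × ZMod 2)) := by
  obtain ⟨e⟩ := nonempty_kerEquiv
  apply hasSchurMultiplier_of_cover_of_bound f commutator_G8 _ _ stem_ab e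
  intro Γ' _ _ σ' hσ'
  rw [card_target]
  exact Nat.le_of_dvd (by norm_num) (O8T.hub Γ' σ' hσ')

/-- the group `PΩ₈⁺` over a field with two elements -/
theorem main_field {F : Type u} [Field F] [Fintype F] (hF : Fintype.card F = 2) :
    Cfsg.HasSchurMultiplier (Cfsg.POmega F ⇑(QP 4 F)) (Multiplicative (ZMod 2 × ZMod 2)) :=
  main (pOmegaEquiv hF)

end Cfsg.Agent.Lib.Helper1.O8M
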