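import Mathlib
import Cfsg.Prelude
import Cfsg.Agent.Lib.Helper6.ODec0
import Cfsg.Agent.Lib.Lead.ODec_PERM2

set_option autoImplicit false

/-! # S5677 PK-GOALB: from the KEY conclusion to a `Full` singular block vector. -/

namespace Cfsg.Agent.Lib.Helper6.ODec

open Matrix Module Cfsg.Agent.H9Orth Cfsg.Agent.Lib.Helper2.ReflGen Cfsg.Agent.Lib.Helper2.CDG
  Cfsg.Agent.Lib.Helper2.LongRoot

variable {F : Type*} [Field F] [Fintype F] {ι : Type} [Fintype ι] [DecidableEq ι]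
variable {Q : QuadraticForm F (ι → F)} {t k : ℕ} {D : Fin t → Submodule F (ι → F)}
  {M : Subgroup (Matrix.GeneralLinearGroup ι F)}

/-- a nonzero vector orthogonal to `D_j` is not orthogonal to some other block -/
theorem goalb_exists_not_perp (hQ : (QuadraticMap.polarBilin Q).Nondegenerate)
    (c : Ctx Q k D M) {j : Fin t} {b : ι → F} (hb : b ∈ perpS Q (D j)) (hb0 : b ≠ 0) :
    ∃ l, l ≠ j ∧ b ∉ perpS Q (D l) := by
  by_contra hcon
  push Not at hcon
  apply hb0
  apply (c.split j).symm.nondeg hQ hb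
  intro b' hb'
  have hle : perpS Q (D j) ≤ perpS Q (Submodule.span F {b}) := by
    apply c.perp_le hQ j
    intro l hl y hy
    rw [mem_perpS]
    intro w hw
    obtain ⟨r, rfl⟩ := Submodule.mem_span_singleton.1 hw
    rw [QuadraticMap.polar_smul_left, QuadraticMap.polar_comm,
      (mem_perpS (D l) b).1 (hcon l hl) y hy, smul_zero]
  exact (mem_perpS _ b').1 (hle hb') b (Submodule.subset_span rfl)

/-- all other blocks lie in `X_u` as soon as `X_u ⊄ D_j` -/
theorem goalb_blocks_le (hQ : (QuadraticMap.polarBilin Q).Nondegenerate)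
    (c : Ctx Q k D M) {j : Fin t} {u v : ι → F} (hu : u ∈ D j) (hQu : Q u = 0)
    (hv : v ∈ XS hQ M u) (hvD : v ∉ D j) : ∀ l, l ≠ j → D l ≤ XS hQ M u := by
  -- split `v = a + b`
  obtain ⟨a, ha, b, hb, hab⟩ := (c.split j).sum v
  have hub : QuadraticMap.polar (⇑Q) u b = 0 := (mem_perpS (D j) b).1 hb u hu
  have hua : QuadraticMap.polar (⇑Q) u a = 0 := by
    have h := XS_perp hQ hQu hv
    rw [hab, QuadraticMap.polar_add_right, hub, add_zero] at h
    exact h
  have haX : a ∈ XS hQ M u := c.XS_blk hQ hu ha hQu hua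
  have hbX : b ∈ XS hQ M u := by
    have e : b = v - a := by rw [hab]; abel
    rw [e]
    exact Submodule.sub_mem _ hv haX
  have hb0 : b ≠ 0 := by
    rintro rfl
    apply hvD
    rw [hab, add_zero]
    exact ha
  obtain ⟨l0, hl0, hbl0⟩ := goalb_exists_not_perp hQ c hb hb0
  have hl0X : D l0 ≤ XS hQ M u := c.ZC hQ hQu (c.le_perp (Ne.symm hl0) hu) hbX hbl0
  intro l' hl'
  by_cases hll : l' = l0
  · rw [hll]; exact hl0X
  -- a block swap fixing `D_j` pointwise, mapping `D_{l0}` into `D_{l'}`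
  obtain ⟨π, hπM, hπj, hπl⟩ := pk_perm2 hQ c (Ne.symm hl0) (Ne.symm hl') (Ne.symm hll)
  obtain ⟨x, hx, hx0, -⟩ := c.exists_sing hQ l0
  have hxp : x ∉ perpS Q (D l0) := fun h => hx0 (c.eq_zero_of_mem_of_perp hQ hx h)
  obtain ⟨p, hp, -, hpx⟩ := c.exists_sing_not_perp hQ l0 hxp
  have hπx : ((π : Matrix.GeneralLinearGroup ι F) : Matrix ι ι F) *ᵥ x ∈ XS hQ M u :=
    XS_inv hQ hQu π hπM (hπj u hu) (hl0X hx)
  apply c.ZC hQ hQu (c.le_perp (Ne.symm hl') hu) hπx
  intro hcon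
  have h := (mem_perpS (D l') _).1 hcon _ (hπl p hp)
  rw [iso_polar] at h
  exact hpx h

/-- **PK-GOALB** (Step 3): from the KEY conclusion to a `Full` singular block vector. -/
theorem pk_goalb (hQ : (QuadraticMap.polarBilin Q).Nondegenerate)
    (c : Ctx Q k D M) (hkey : Key hQ M D) :
    ∃ (j : Fin t) (u : ι → F), u ∈ D j ∧ u ≠ 0 ∧ Q u = 0 ∧ Full hQ M u := by
  obtain ⟨j, u, v, hu, hu0, hQu, hv, hvD⟩ := hkey
  refine ⟨j, u, hu, hu0, hQu, ?_⟩
  have hbl := goalb_blocks_le hQ c hu hQu hv hvD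
  intro hQu' y huy
  apply XS_eich hQ hQu' _ huy
  obtain ⟨a, ha, b, hb, hab⟩ := (c.split j).sum y
  have hub : QuadraticMap.polar (⇑Q) u b = 0 := (mem_perpS (D j) b).1 hb u hu
  have hua : QuadraticMap.polar (⇑Q) u a = 0 := by
    have h := huy
    rw [hab, QuadraticMap.polar_add_right, hub, add_zero] at h
    exact h
  rw [hab]
  exact Submodule.add_mem _ (c.XS_blk hQ hu ha hQu hua) (c.perp_le hQ j _ hbl hb)

end Cfsg.Agent.Lib.Helper6.ODec
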