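import Mathlib
import Cfsg.Prelude
import Cfsg.Agent.Lib.Helper6.ODec0

set_option autoImplicit false

/-! # S5677 PK-GOALC: a `Full` singular block vector forces `Ω ≤ M`. -/

namespace Cfsg.Agent.Lib.Helper6.ODec

open Matrix Module Cfsg.Agent.H9Orth Cfsg.Agent.Lib.Helper2.ReflGen Cfsg.Agent.Lib.Helper2.CDG
  Cfsg.Agent.Lib.Helper2.LongRoot

variable {F : Type*} [Field F] [Fintype F] {ι : Type} [Fintype ι] [DecidableEq ι]
variable {Q : QuadraticForm F (ι → F)} {t k : ℕ} {D : Fin t → Submodule F (ι → F)}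
  {M : Subgroup (Matrix.GeneralLinearGroup ι F)}

/-- **PK-GOALC** (Step 4): a `Full` singular block vector forces `Ω ≤ M`. -/
theorem pk_goalc (hQ : (QuadraticMap.polarBilin Q).Nondegenerate)
    (c : Ctx Q k D M) {j : Fin t} {u : ι → F} (hu : u ∈ D j) (hu0 : u ≠ 0) (hQu : Q u = 0)
    (hF : Full hQ M u) : Cfsg.Geo.omegaGL ⇑Q ≤ M := by
  -- a singular `p ∈ D_j` not orthogonal to `u`
  have hup : u ∉ perpS Q (D j) := fun h => hu0 (c.eq_zero_of_mem_of_perp hQ hu h)
  obtain ⟨p, hp, hQp, hpu⟩ := c.exists_sing_not_perp hQ j hup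
  have hp0 : p ≠ 0 := by
    rintro rfl
    apply hpu
    simp [QuadraticMap.polar]
  -- a nonsingular `d ∈ D_j ∩ p^⊥`
  obtain ⟨d, hd, hpd, hQd⟩ := c.exists_nonsing_perp hQ hp hp0 hQp
  have hhM := c.eich_mem hQ hp hd hQp hpd
  obtain ⟨z, hzdef⟩ : ∃ z : ι → F, z =
      ((eich hQ p d hQp hpd : Matrix.GeneralLinearGroup ι F) : Matrix ι ι F) *ᵥ u := ⟨_, rfl⟩
  have hFz : Full hQ M z := by
    rw [hzdef]
    exact full_map hQ hF _ hhM
  have hQz : Q z = 0 := by rw [hzdef, iso_Q]; exact hQu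
  have huz : QuadraticMap.polar (⇑Q) u z ≠ 0 := by
    have huu : QuadraticMap.polar (⇑Q) u u = 0 := by rw [polar_self, hQu, mul_zero]
    have e : QuadraticMap.polar (⇑Q) u z =
        -(Q d * QuadraticMap.polar (⇑Q) p u * QuadraticMap.polar (⇑Q) p u) := by
      rw [hzdef, eich_mulVec]
      simp only [QuadraticMap.polar_sub_right, QuadraticMap.polar_add_right,
        QuadraticMap.polar_smul_right, smul_eq_mul, huu]
      rw [QuadraticMap.polar_comm (⇑Q) u d, QuadraticMap.polar_comm (⇑Q) u p]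
      ring
    rw [e]
    exact neg_ne_zero.2 (mul_ne_zero (mul_ne_zero hQd hpu) hpu)
  apply omegaGL_le_of_full hQ c.hn
  intro y hy
  exact full_all hQ hF hFz hQu hQz huz y hy

end Cfsg.Agent.Lib.Helper6.ODec
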