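import Mathlib
import Cfsg.Prelude
import Cfsg.Agent.Lib.Helper6.ODec0

set_option autoImplicit false

/-! # S5677 PK-PROPER: `Stab(D) ∩ Ω` is a proper subgroup of `Ω`. -/

namespace Cfsg.Agent.Lib.Helper6.ODec

open Matrix Module Cfsg.Agent.H9Orth Cfsg.Agent.Lib.Helper2.ReflGen Cfsg.Agent.Lib.Helper2.CDG
  Cfsg.Agent.Lib.Helper2.LongRoot

variable {F : Type*} [Field F] [Fintype F] {ι : Type} [Fintype ι] [DecidableEq ι]
variable {Q : QuadraticForm F (ι → F)} {t k : ℕ} {D : Fin t → Submodule F (ι → F)}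
  {M : Subgroup (Matrix.GeneralLinearGroup ι F)}

/-- **PK-PROPER** (Step 0).  `E_{u,v}`, `u ∈ D_0` singular, `0 ≠ v ∈ D_1`, is in `Ω` but moves a
vector of `D_0` outside every block. -/
theorem pk_proper (hQ : (QuadraticMap.polarBilin Q).Nondegenerate)
    (c : Ctx Q k D M) :
    ∃ g ∈ Cfsg.Geo.omegaGL ⇑Q, g ∉ Cfsg.Geo.decompositionStabilizer D := by
  have : Finite F := Finite.of_fintype F
  have ht : 2 ≤ t := c.hD.decomp.decomp.two_le
  obtain ⟨i0, hi0⟩ : ∃ i0 : Fin t, i0 = ⟨0, by omega⟩ := ⟨_, rfl⟩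
  obtain ⟨i1, hi1⟩ : ∃ i1 : Fin t, i1 = ⟨1, by omega⟩ := ⟨_, rfl⟩
  have h01 : i0 ≠ i1 := by
    rw [hi0, hi1]
    intro h
    have := congrArg Fin.val h
    simp at this
  obtain ⟨u, hu, hu0, hQu⟩ := c.exists_sing hQ i0
  obtain ⟨v, hv, hv0, -⟩ := c.exists_sing hQ i1
  have huv : QuadraticMap.polar (⇑Q) u v = 0 := c.orth h01 hu hv
  refine ⟨_, eich_mem_omegaGL hQ c.hn u v hQu huv, ?_⟩
  rintro ⟨σ, hσ⟩
  -- `x ∈ D_0` with `B(x,u) ≠ 0`, `v' ∈ D_1` with `B(v',v) ≠ 0`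
  have hup : u ∉ perpS Q (D i0) := fun h => hu0 (c.eq_zero_of_mem_of_perp hQ hu h)
  obtain ⟨x, hx, -, hxu⟩ := c.exists_sing_not_perp hQ i0 hup
  have hvp : v ∉ perpS Q (D i1) := fun h => hv0 (c.eq_zero_of_mem_of_perp hQ hv h)
  obtain ⟨v', hv', -, hv'v⟩ := c.exists_sing_not_perp hQ i1 hvp
  obtain ⟨y, hydef⟩ : ∃ y : ι → F, y =
      ((eich hQ u v hQu huv : Matrix.GeneralLinearGroup ι F) : Matrix ι ι F) *ᵥ x := ⟨_, rfl⟩
  have hy : y ∈ D (σ i0) := by
    rw [← hσ i0, hydef]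
    exact ⟨x, hx, by rw [Matrix.toLin'_apply]⟩
  have huu : QuadraticMap.polar (⇑Q) u u = 0 := by rw [polar_self, hQu, mul_zero]
  have hux : QuadraticMap.polar (⇑Q) u x ≠ 0 := by
    rw [QuadraticMap.polar_comm]; exact hxu
  have hvx : QuadraticMap.polar (⇑Q) v x = 0 := c.orth h01.symm hv hx
  -- `B(u,y) = B(u,x) ≠ 0`
  have e1 : QuadraticMap.polar (⇑Q) u y = QuadraticMap.polar (⇑Q) u x := by
    rw [hydef, eich_mulVec]
    simp only [QuadraticMap.polar_sub_right, QuadraticMap.polar_add_right,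
      QuadraticMap.polar_smul_right, smul_eq_mul, huu, huv]
    ring
  -- `B(v',y) = B(u,x) B(v',v)`
  have e2 : QuadraticMap.polar (⇑Q) v' y =
      QuadraticMap.polar (⇑Q) u x * QuadraticMap.polar (⇑Q) v' v := by
    rw [hydef, eich_mulVec]
    simp only [QuadraticMap.polar_sub_right, QuadraticMap.polar_add_right,
      QuadraticMap.polar_smul_right, smul_eq_mul, c.orth h01.symm hv' hx, c.orth h01.symm hv' hu]
    ring
  by_cases hj : σ i0 = i0
  · rw [hj] at hy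
    have h0 : QuadraticMap.polar (⇑Q) v' y = 0 := c.orth h01.symm hv' hy
    rw [e2] at h0
    rcases mul_eq_zero.1 h0 with h | h
    · exact hux h
    · exact hv'v h
  · have h0 : QuadraticMap.polar (⇑Q) u y = 0 := c.orth (Ne.symm hj) hu hy
    rw [e1] at h0
    exact hux h0

end Cfsg.Agent.Lib.Helper6.ODec
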