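import Mathlib
import Cfsg.Prelude.Def_Characters
import Cfsg.Agent.Lib.Helper2.OmMin.Defs
import Cfsg.Agent.Lib.Helper2.LongRoot11
import Cfsg.Agent.Lib.Helper4.Characters
import Cfsg.Agent.Lib.Helper6.OmMin_E

set_option autoImplicit false
set_option linter.unusedSectionVars false

/-!
# S2346, PK-CONJ: `T` is transitive on totally singular line pairs; long root elements of `Ω`
are conjugate; an irreducible representation of degree `≥ 2` is nontrivial on them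
-/

namespace Cfsg.Agent.Lib.Helper2.OmMin

open Matrix Cfsg Cfsg.Agent.Lib.Helper2.HypExt Cfsg.Agent.Lib.Helper2.Siegel
open Cfsg.Agent.Lib.Helper2.LongRoot Cfsg.Agent.Lib.Helper2.CDG Cfsg.Agent.Lib.Helper5

universe u

namespace PkCONJ

section general
variable {F : Type u} [Field F] {ι : Type} [Fintype ι] [DecidableEq ι]
variable {Q : QuadraticForm F (ι → F)}

/-- functionals dual to an independent pair -/
theorem exists_dual (hQ : (QuadraticMap.polarBilin Q).Nondegenerate) {u v : ι → F}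
    (hind : ∀ s t : F, s • u + t • v = 0 → s = 0 ∧ t = 0) :
    ∃ a b : ι → F, QuadraticMap.polar (⇑Q) a u = 1 ∧ QuadraticMap.polar (⇑Q) a v = 0 ∧
      QuadraticMap.polar (⇑Q) b u = 0 ∧ QuadraticMap.polar (⇑Q) b v = 1 := by
  have hu0 : u ≠ 0 := by
    intro h
    have h0 : (1 : F) • u + (0 : F) • v = 0 := by rw [h, smul_zero, zero_smul, add_zero]
    exact one_ne_zero (hind _ _ h0).1
  obtain ⟨a0, ha0⟩ : ∃ y, QuadraticMap.polar (⇑Q) y u = 1 := by
    obtain ⟨y, hy⟩ : ∃ y, QuadraticMap.polar (⇑Q) y u ≠ 0 := by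
      by_contra hcon
      push Not at hcon
      exact hu0 (hQ.2 u hcon)
    refine ⟨(QuadraticMap.polar (⇑Q) y u)⁻¹ • y, ?_⟩
    rw [QuadraticMap.polar_smul_left, smul_eq_mul, inv_mul_cancel₀ hy]
  obtain ⟨b0, hb0u, hb0v⟩ : ∃ y, QuadraticMap.polar (⇑Q) y u = 0 ∧
      QuadraticMap.polar (⇑Q) y v ≠ 0 := by
    by_contra hcon
    push Not at hcon
    have h1 : ∀ x, QuadraticMap.polar (⇑Q) x (v - QuadraticMap.polar (⇑Q) a0 v • u) = 0 := by
      intro x
      have h2 := hcon (x - QuadraticMap.polar (⇑Q) x u • a0) (by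
        rw [QuadraticMap.polar_sub_left, QuadraticMap.polar_smul_left, ha0, smul_eq_mul, mul_one,
          sub_self])
      rw [QuadraticMap.polar_sub_left, QuadraticMap.polar_smul_left, smul_eq_mul] at h2
      rw [QuadraticMap.polar_sub_right, QuadraticMap.polar_smul_right, smul_eq_mul]
      linear_combination h2
    have h3 := hQ.2 _ h1
    have h4 : (-(QuadraticMap.polar (⇑Q) a0 v)) • u + (1 : F) • v = 0 := by
      rw [neg_smul, one_smul, neg_add_eq_sub]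
      exact h3
    exact one_ne_zero (hind _ _ h4).2
  refine ⟨a0 - QuadraticMap.polar (⇑Q) a0 v • ((QuadraticMap.polar (⇑Q) b0 v)⁻¹ • b0),
    (QuadraticMap.polar (⇑Q) b0 v)⁻¹ • b0, ?_, ?_, ?_, ?_⟩
  · rw [QuadraticMap.polar_sub_left, QuadraticMap.polar_smul_left, QuadraticMap.polar_smul_left,
      hb0u, ha0]
    simp
  · rw [QuadraticMap.polar_sub_left, QuadraticMap.polar_smul_left, QuadraticMap.polar_smul_left,
      smul_eq_mul, smul_eq_mul, inv_mul_cancel₀ hb0v, mul_one, sub_self]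
  · rw [QuadraticMap.polar_smul_left, hb0u, smul_zero]
  · rw [QuadraticMap.polar_smul_left, smul_eq_mul, inv_mul_cancel₀ hb0v]

/-- a totally singular pair spans a totally singular plane -/
theorem Q_span_eq_zero {u v : ι → F} (hu : Q u = 0) (hv : Q v = 0)
    (huv : QuadraticMap.polar (⇑Q) u v = 0) (s t : F) : Q (s • u + t • v) = 0 := by
  rw [ReflGen.map_add_smul, QuadraticMap.map_smul, QuadraticMap.polar_smul_left, hu, hv, huv]
  simp

/-- the isometry group is transitive on totally singular independent pairs -/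
theorem exists_map_line (hQ : (QuadraticMap.polarBilin Q).Nondegenerate) (u v u' v' : ι → F)
    (hu : Q u = 0) (hv : Q v = 0) (huv : QuadraticMap.polar (⇑Q) u v = 0)
    (hu' : Q u' = 0) (hv' : Q v' = 0) (huv' : QuadraticMap.polar (⇑Q) u' v' = 0)
    (hind : ∀ s t : F, s • u + t • v = 0 → s = 0 ∧ t = 0)
    (hind' : ∀ s t : F, s • u' + t • v' = 0 → s = 0 ∧ t = 0) :
    ∃ g : ↥(Cfsg.isometryGroup F ⇑Q),
      ((g : Matrix.GeneralLinearGroup ι F) : Matrix ι ι F) *ᵥ u = u' ∧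
      ((g : Matrix.GeneralLinearGroup ι F) : Matrix ι ι F) *ᵥ v = v' := by
  obtain ⟨a, b, h11, h12, h21, h22⟩ := exists_dual hQ hind
  exact transport2 hQ u v u' v' (QuadraticMap.polarBilin Q a) (QuadraticMap.polarBilin Q b)
    h11 h12 h21 h22
    (fun s t => by rw [Q_span_eq_zero hu hv huv, Q_span_eq_zero hu' hv' huv']) hind'

/-- a hyperbolic pair orthogonal to a totally singular pair (`7 ≤ dim`) -/
theorem exists_hyp_perp_line [Finite F] (hQ : (QuadraticMap.polarBilin Q).Nondegenerate)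
    (hn : 7 ≤ Fintype.card ι) (u v : ι → F)
    (hu : Q u = 0) (hv : Q v = 0) (huv : QuadraticMap.polar (⇑Q) u v = 0)
    (hind : ∀ s t : F, s • u + t • v = 0 → s = 0 ∧ t = 0) :
    ∃ p p' : ι → F, Q p = 0 ∧ Q p' = 0 ∧ QuadraticMap.polar (⇑Q) p p' = 1 ∧
      QuadraticMap.polar (⇑Q) p u = 0 ∧ QuadraticMap.polar (⇑Q) p' u = 0 ∧
      QuadraticMap.polar (⇑Q) p v = 0 ∧ QuadraticMap.polar (⇑Q) p' v = 0 := by
  obtain ⟨e, f, h⟩ := exists_hyp hQ 3 (by omega)
  have h01 : (0 : Fin 3) ≠ 1 := by decide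
  have h02 : (0 : Fin 3) ≠ 2 := by decide
  have h12 : (1 : Fin 3) ≠ 2 := by decide
  have hinde : ∀ s t : F, s • e 0 + t • e 1 = 0 → s = 0 ∧ t = 0 := by
    intro s t hst
    have a1 := congrArg (fun x => QuadraticMap.polar (⇑Q) x (f 0)) hst
    have a2 := congrArg (fun x => QuadraticMap.polar (⇑Q) x (f 1)) hst
    simp only [QuadraticMap.polar_add_left, QuadraticMap.polar_smul_left, h.ef,
      QuadraticMap.polar_zero_left] at a1 a2
    simp only [if_true, if_neg h01, if_neg h01.symm, smul_eq_mul, mul_one, mul_zero, add_zero,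
      zero_add] at a1 a2
    exact ⟨a1, a2⟩
  obtain ⟨g, hg0, hg1⟩ := exists_map_line hQ (e 0) (e 1) u v (h.qe 0) (h.qe 1) (h.ee 0 1) hu hv
    huv hinde hind
  refine ⟨((g : Matrix.GeneralLinearGroup ι F) : Matrix ι ι F) *ᵥ e 2,
    ((g : Matrix.GeneralLinearGroup ι F) : Matrix ι ι F) *ᵥ f 2, ?_, ?_, ?_, ?_, ?_, ?_, ?_⟩
  · rw [iso_Q]; exact h.qe 2
  · rw [iso_Q]; exact h.qf 2
  · rw [iso_polar, h.ef]; simp
  · rw [← hg0, iso_polar]; exact h.ee 2 0
  · rw [← hg0, iso_polar, hyp_fe h, if_neg h02.symm]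
  · rw [← hg1, iso_polar]; exact h.ee 2 1
  · rw [← hg1, iso_polar, hyp_fe h, if_neg h12.symm]

end general

end PkCONJ

section PKCONJ
variable {F : Type u} [Field F] [Fintype F] {ι : Type} [Fintype ι] [DecidableEq ι]
variable {Q : QuadraticForm F (ι → F)} (hQ : (QuadraticMap.polarBilin Q).Nondegenerate)

include hQ in
theorem T_trans_lines (hn : 7 ≤ Fintype.card ι) (u v u' v' : ι → F)
    (hu : Q u = 0) (hv : Q v = 0) (huv : QuadraticMap.polar (⇑Q) u v = 0)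
    (hu' : Q u' = 0) (hv' : Q v' = 0) (huv' : QuadraticMap.polar (⇑Q) u' v' = 0)
    (hind : ∀ s t : F, s • u + t • v = 0 → s = 0 ∧ t = 0)
    (hind' : ∀ s t : F, s • u' + t • v' = 0 → s = 0 ∧ t = 0) :
    ∃ t ∈ T Q, ((t : Matrix.GeneralLinearGroup ι F) : Matrix ι ι F) *ᵥ u = u' ∧
      ((t : Matrix.GeneralLinearGroup ι F) : Matrix ι ι F) *ᵥ v = v' := by
  obtain ⟨g, hg0, hg1⟩ := PkCONJ.exists_map_line hQ u v u' v' hu hv huv hu' hv' huv' hind hind'
  obtain ⟨p, p', hp, hp', hpp', hpu, hp'u, hpv, hp'v⟩ :=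
    PkCONJ.exists_hyp_perp_line hQ hn u v hu hv huv hind
  obtain ⟨t, ht, hagree⟩ := exists_T_agree hQ (by omega) p p' hp hp' hpp' g
  exact ⟨t, ht, by rw [hagree u hpu hp'u, hg0], by rw [hagree v hpv hp'v, hg1]⟩

end PKCONJ

namespace PkCONJ

section triv
variable {F : Type u} [Field F] [Fintype F] {ι : Type} [Fintype ι] [DecidableEq ι]
variable {Q : QuadraticForm F (ι → F)} (hQ : (QuadraticMap.polarBilin Q).Nondegenerate)

/-- a long-root type Eichler element lies in `Ω` (`7 ≤ dim`) -/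
theorem eich_sing_mem (hn : 7 ≤ Fintype.card ι) (u y : ι → F) (hy : Q y = 0) :
    eich hQ u y ∈ Cfsg.Omega F ⇑Q := by
  by_cases h : Q u = 0 ∧ QuadraticMap.polar (⇑Q) u y = 0
  · rw [eich_eq_LR hQ h.1 hy h.2, ← T_eq_Omega hQ hn]
    exact LR_mem_T hQ _ _ _ _ _ 1
  · rw [eich_of_not hQ u y h]
    exact Subgroup.one_mem _

/-- a dependent pair gives the trivial Eichler element -/
theorem eich_dep {u y : ι → F}
    (hdep : ¬ ∀ s t : F, s • u + t • y = 0 → s = 0 ∧ t = 0) : eich hQ u y = 1 := by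
  by_cases h : Q u = 0 ∧ QuadraticMap.polar (⇑Q) u y = 0
  · push Not at hdep
    obtain ⟨s, t, hst, hne⟩ := hdep
    by_cases ht : t = 0
    · have hs : s ≠ 0 := fun hs => by
        have := hne hs
        exact this ht
      rw [ht, zero_smul, add_zero] at hst
      have hu0 : u = 0 := by
        rcases smul_eq_zero.mp hst with h1 | h1
        · exact absurd h1 hs
        · exact h1
      apply iso_ext
      intro x
      rw [eich_mulVec hQ h.1 h.2, one_mulVec', hu0]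
      simp
    · have hy : y = (-(s / t)) • u := by
        have h1 : t • y = -(s • u) := eq_neg_of_add_eq_zero_right hst
        have h2 : y = t⁻¹ • (t • y) := by rw [smul_smul, inv_mul_cancel₀ ht, one_smul]
        rw [h2, h1]
        module
      have h3 : eich hQ u y = eich hQ u (0 + (-(s / t)) • u) := by rw [zero_add, ← hy]
      rw [h3, eich_add_smul hQ _ h.1, eich_zero]
  · exact eich_of_not hQ u y h

/-- if the standard long root element acts trivially, so does all of `Ω` -/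
theorem rep_trivial_of_lr (hn : 7 ≤ Fintype.card ι) {k : ℕ}
    (ρ : Representation ℂ ↥(Cfsg.Omega F ⇑Q) (Fin k → ℂ)) (e0 h0 : ι → F)
    (he0 : Q e0 = 0) (hh0 : Q h0 = 0) (heh : QuadraticMap.polar (⇑Q) e0 h0 = 0)
    (hind0 : ∀ s t : F, s • e0 + t • h0 = 0 → s = 0 ∧ t = 0)
    (hlr : ρ ⟨eich hQ e0 h0, eich_sing_mem hQ hn e0 h0 hh0⟩ = 1) :
    ∀ g : ↥(Cfsg.Omega F ⇑Q), ρ g = 1 := by
  have hTΩ := T_eq_Omega hQ hn
  -- Step A
  have hA : ∀ (u y : ι → F) (hy : Q y = 0),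
      ρ ⟨eich hQ u y, eich_sing_mem hQ hn u y hy⟩ = 1 := by
    intro u y hy
    by_cases hind : ∀ s t : F, s • u + t • y = 0 → s = 0 ∧ t = 0
    · by_cases h : Q u = 0 ∧ QuadraticMap.polar (⇑Q) u y = 0
      · obtain ⟨t, ht, h1, h2⟩ := T_trans_lines hQ hn e0 h0 u y he0 hh0 heh h.1 hy h.2 hind0 hind
        have htΩ : t ∈ Cfsg.Omega F ⇑Q := by rw [← hTΩ]; exact ht
        have hc : (⟨eich hQ u y, eich_sing_mem hQ hn u y hy⟩ : ↥(Cfsg.Omega F ⇑Q)) =
            ⟨t, htΩ⟩ * ⟨eich hQ e0 h0, eich_sing_mem hQ hn e0 h0 hh0⟩ * ⟨t, htΩ⟩⁻¹ := by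
          apply Subtype.ext
          rw [Subgroup.coe_mul, Subgroup.coe_mul, Subgroup.coe_inv]
          show eich hQ u y = t * eich hQ e0 h0 * t⁻¹
          rw [eich_conj, h1, h2]
        rw [hc, map_mul, map_mul, hlr, mul_one, ← map_mul, mul_inv_cancel, map_one]
      · have h1 : (⟨eich hQ u y, eich_sing_mem hQ hn u y hy⟩ : ↥(Cfsg.Omega F ⇑Q)) = 1 :=
          Subtype.ext (eich_of_not hQ u y h)
        rw [h1, map_one]
    · have h1 : (⟨eich hQ u y, eich_sing_mem hQ hn u y hy⟩ : ↥(Cfsg.Omega F ⇑Q)) = 1 :=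
        Subtype.ext (eich_dep hQ hind)
      rw [h1, map_one]
  -- Step B
  have hB : ∀ x ∈ T Q, ∃ hx : x ∈ Cfsg.Omega F ⇑Q, ρ ⟨x, hx⟩ = 1 := by
    intro x hx
    unfold T at hx
    induction hx using Subgroup.closure_induction with
    | mem x hxS =>
      obtain ⟨u, v, c, hu, hv, huv, hg⟩ := hxS
      have hx1 : x = eich hQ u (c • v) := by
        rw [eq_LR_of_coe hQ x u v hu hv huv c hg, LR_eq_eich]
      have hcv : Q (c • v) = 0 := by rw [QuadraticMap.map_smul, hv, smul_zero]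
      subst hx1
      exact ⟨eich_sing_mem hQ hn u (c • v) hcv, hA u (c • v) hcv⟩
    | one => exact ⟨Subgroup.one_mem _, map_one ρ⟩
    | mul x y _ _ ihx ihy =>
      obtain ⟨hx', hρx⟩ := ihx
      obtain ⟨hy', hρy⟩ := ihy
      refine ⟨Subgroup.mul_mem _ hx' hy', ?_⟩
      have : (⟨x * y, Subgroup.mul_mem _ hx' hy'⟩ : ↥(Cfsg.Omega F ⇑Q)) = ⟨x, hx'⟩ * ⟨y, hy'⟩ := rfl
      rw [this, map_mul, hρx, hρy, mul_one]
    | inv x _ ihx =>
      obtain ⟨hx', hρx⟩ := ihx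
      refine ⟨Subgroup.inv_mem _ hx', ?_⟩
      have : (⟨x⁻¹, Subgroup.inv_mem _ hx'⟩ : ↥(Cfsg.Omega F ⇑Q)) = ⟨x, hx'⟩⁻¹ := rfl
      rw [this]
      have h2 : ρ (⟨x, hx'⟩⁻¹ : ↥(Cfsg.Omega F ⇑Q)) * ρ ⟨x, hx'⟩ = 1 := by
        rw [← map_mul, inv_mul_cancel, map_one]
      rw [hρx, mul_one] at h2
      exact h2
  intro g
  have hg : (g : ↥(Cfsg.isometryGroup F ⇑Q)) ∈ T Q := by rw [hTΩ]; exact g.2
  obtain ⟨_, h⟩ := hB _ hg
  exact h

end triv

section std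
variable {F : Type u} [Field F] [Fintype F] {κ : Type} [Fintype κ] [DecidableEq κ]
variable {W₂ : QuadraticForm F (κ → F)} (hW₂ : (QuadraticMap.polarBilin W₂).Nondegenerate)

/-- the standard long root pair `(e, h)` of `HQ (HQ W₂)` -/
theorem std_pair :
    HQ (HQ W₂) (mk3 1 0 0) = 0 ∧ HQ (HQ W₂) (mk3 0 0 (mk3 1 0 0)) = 0 ∧
    QuadraticMap.polar (⇑(HQ (HQ W₂))) (mk3 1 0 0) (mk3 0 0 (mk3 1 0 0)) = 0 ∧
    ∀ s t : F, s • (mk3 1 0 0 : Fin 2 ⊕ (Fin 2 ⊕ κ) → F) + t • mk3 0 0 (mk3 1 0 0) = 0 →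
      s = 0 ∧ t = 0 := by
  refine ⟨by rw [HQ_e]; ring, by rw [HQ_apply, tl_mk3, HQ_e]; simp, by rw [polar_e]; rfl, ?_⟩
  intro s t hst
  have a1 := congrFun hst (Sum.inl 0)
  have a2 := congrFun hst (Sum.inr (Sum.inl 0))
  simp at a1 a2
  exact ⟨a1, a2⟩

theorem lrΩ_coe (hn : 7 ≤ Fintype.card (Fin 2 ⊕ (Fin 2 ⊕ κ))) :
    ((lrΩ hW₂ : ↥(Cfsg.Omega F ⇑(HQ (HQ W₂)))) : ↥(Cfsg.isometryGroup F ⇑(HQ (HQ W₂)))) =
      eich (HQ_nondeg _ (HQ_nondeg W₂ hW₂)) (mk3 1 0 0) (mk3 0 0 (mk3 1 0 0)) := by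
  have hmem : qe (HQ_nondeg W₂ hW₂) (mk3 1 0 0) ∈ Cfsg.Omega F ⇑(HQ (HQ W₂)) :=
    eich_sing_mem (HQ_nondeg _ (HQ_nondeg W₂ hW₂)) hn _ _ (std_pair (W₂ := W₂)).2.1
  unfold lrΩ qeΩ
  rw [dif_pos hmem]
  rfl

end std

end PkCONJ

section PKCONJ2
variable {F : Type u} [Field F] [Fintype F] {κ : Type} [Fintype κ] [DecidableEq κ]
variable {W₄ : QuadraticForm F (κ → F)} (hW₄ : (QuadraticMap.polarBilin W₄).Nondegenerate)

/-- an irreducible representation of degree `≥ 2` is nontrivial on the long root element -/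
theorem lr_ne_one (h1 : 1 ≤ Fintype.card κ) {k : ℕ}
    (ρ : Representation ℂ ↥(Cfsg.Omega F ⇑(HQ (HQ (HQ W₄)))) (Fin k → ℂ)) (hρ : ρ.IsIrreducible)
    (hk : 2 ≤ k) : ρ (lrΩ (HQ_nondeg W₄ hW₄)) ≠ 1 := by
  classical
  intro hcon
  have hcard : Fintype.card (Fin 2 ⊕ (Fin 2 ⊕ (Fin 2 ⊕ κ))) = 6 + Fintype.card κ := by
    simp only [Fintype.card_sum, Fintype.card_fin]
    ring
  have hn : 7 ≤ Fintype.card (Fin 2 ⊕ (Fin 2 ⊕ (Fin 2 ⊕ κ))) := by omega
  have hV := HQ_nondeg _ (HQ_nondeg _ (HQ_nondeg W₄ hW₄))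
  obtain ⟨s1, s2, s3, s4⟩ := PkCONJ.std_pair (F := F) (W₂ := HQ W₄)
  have hlr : (lrΩ (HQ_nondeg W₄ hW₄) : ↥(Cfsg.Omega F ⇑(HQ (HQ (HQ W₄))))) =
      ⟨eich hV (mk3 1 0 0) (mk3 0 0 (mk3 1 0 0)), PkCONJ.eich_sing_mem hV hn _ _ s2⟩ :=
    Subtype.ext (PkCONJ.lrΩ_coe (HQ_nondeg W₄ hW₄) hn)
  rw [hlr] at hcon
  have htriv := PkCONJ.rep_trivial_of_lr hV hn ρ _ _ s1 s2 s3 s4 hcon
  have : Fintype ↥(Cfsg.Omega F ⇑(HQ (HQ (HQ W₄)))) := Fintype.ofFinite _
  have hχ : IsIrrCharacter ↥(Cfsg.Omega F ⇑(HQ (HQ (HQ W₄)))) ρ.character := ⟨k, ρ, hρ, rfl⟩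
  have hconst : ∀ g, ρ.character g = (k : ℂ) := by
    intro g
    have h2 : ρ.character g = ρ.character 1 := by
      unfold Representation.character
      rw [htriv g, htriv 1]
    rw [h2, Representation.char_one, Module.finrank_fin_fun]
  have hinner := Cfsg.Agent.Lib.Helper4.classInner_irr_self hχ
  unfold classInner at hinner
  rw [Finset.sum_congr rfl (fun g _ => by rw [hconst g, Complex.conj_natCast]), Finset.sum_const,
    Finset.card_univ, nsmul_eq_mul, Nat.card_eq_fintype_card] at hinner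
  have hc : ((Fintype.card ↥(Cfsg.Omega F ⇑(HQ (HQ (HQ W₄)))) : ℕ) : ℂ) ≠ 0 := by
    exact_mod_cast Fintype.card_ne_zero
  rw [← mul_assoc, inv_mul_cancel₀ hc, one_mul] at hinner
  have hk1 : k * k = 1 := by exact_mod_cast hinner
  have : k = 1 := Nat.eq_one_of_mul_eq_one_left hk1
  omega

end PKCONJ2

end Cfsg.Agent.Lib.Helper2.OmMin
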