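import Mathlib
import Cfsg.Prelude.Def_Characters
import Cfsg.Agent.Lib.Helper2.OmMin.Defs
import Cfsg.Agent.Lib.Helper1.OmMin_CONJ
import Cfsg.Agent.Lib.Helper6.OmMin_M
import Cfsg.Agent.Lib.Helper6.OmMin_H

set_option autoImplicit false
set_option linter.unusedSectionVars false

/-!
# S2346, PK-CONJ (second part): the long root element of `Ω(V)` is conjugate to the embedded
long root element of `Ω(W)`
-/

namespace Cfsg.Agent.Lib.Helper2.OmMin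

open Matrix Cfsg Cfsg.Agent.Lib.Helper2.HypExt Cfsg.Agent.Lib.Helper2.Siegel
open Cfsg.Agent.Lib.Helper2.LongRoot Cfsg.Agent.Lib.Helper2.CDG

universe u

section PKCONJ2
variable {F : Type u} [Field F] [Fintype F] {κ : Type} [Fintype κ] [DecidableEq κ]
variable {W₄ : QuadraticForm F (κ → F)} (hW₄ : (QuadraticMap.polarBilin W₄).Nondegenerate)

/-- the long root element of `Ω(V)` is conjugate to the embedded long root element of `Ω(W)` -/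
theorem exists_conj_lr (h1 : 1 ≤ Fintype.card κ) :
    ∃ g : ↥(Cfsg.Omega F ⇑(HQ (HQ (HQ W₄)))),
      g * lrΩ (HQ_nondeg W₄ hW₄) * g⁻¹ = jΩ (HQ (HQ W₄)) (lrΩ hW₄) := by
  have hA := HQ_nondeg W₄ hW₄
  have hB := HQ_nondeg _ hA
  have hV := HQ_nondeg _ hB
  have hcard : Fintype.card (Fin 2 ⊕ (Fin 2 ⊕ (Fin 2 ⊕ κ))) = 6 + Fintype.card κ := by
    simp only [Fintype.card_sum, Fintype.card_fin]
    ring
  have hcardA : Fintype.card (Fin 2 ⊕ κ) = 2 + Fintype.card κ := by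
    simp only [Fintype.card_sum, Fintype.card_fin]
  have hn : 7 ≤ Fintype.card (Fin 2 ⊕ (Fin 2 ⊕ (Fin 2 ⊕ κ))) := by omega
  obtain ⟨s1, s2, s3, s4⟩ := PkCONJ.std_pair (F := F) (W₂ := HQ W₄)
  obtain ⟨r1, r2, r3, r4⟩ := PkCONJ.std_pair (F := F) (W₂ := W₄)
  -- the embedded pair
  have q1 : HQ (HQ (HQ W₄)) (mk3 0 0 (mk3 1 0 0)) = 0 := s2
  have q2 : HQ (HQ (HQ W₄)) (mk3 0 0 (mk3 0 0 (mk3 1 0 0))) = 0 := by
    rw [HQ_apply, tl_mk3, r2]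
    simp
  have q3 : QuadraticMap.polar (⇑(HQ (HQ (HQ W₄)))) (mk3 0 0 (mk3 1 0 0))
      (mk3 0 0 (mk3 0 0 (mk3 1 0 0))) = 0 := by
    rw [HQ_polar, tl_mk3, tl_mk3, r3]
    simp
  have q4 : ∀ s t : F, s • (mk3 0 0 (mk3 1 0 0) : Fin 2 ⊕ (Fin 2 ⊕ (Fin 2 ⊕ κ)) → F) +
      t • mk3 0 0 (mk3 0 0 (mk3 1 0 0)) = 0 → s = 0 ∧ t = 0 := by
    intro s t hst
    apply r4
    have h0 := congrArg tl hst
    rw [tl_add, tl_smul, tl_smul, tl_mk3, tl_mk3] at h0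
    exact h0
  obtain ⟨t, ht, ht1, ht2⟩ := T_trans_lines hV hn _ _ _ _ s1 s2 s3 q1 q2 q3 s4 q4
  have htΩ : t ∈ Cfsg.Omega F ⇑(HQ (HQ (HQ W₄))) := T_le_Omega hV (by omega) ht
  refine ⟨⟨t, htΩ⟩, ?_⟩
  apply Subtype.ext
  rw [Subgroup.coe_mul, Subgroup.coe_mul, Subgroup.coe_inv, jΩ_coe,
    PkCONJ.lrΩ_coe (HQ_nondeg W₄ hW₄) hn]
  have h2 : ((lrΩ hW₄ : ↥(Cfsg.Omega F ⇑(HQ (HQ W₄)))) : ↥(Cfsg.isometryGroup F ⇑(HQ (HQ W₄)))) =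
      eich hB (mk3 1 0 0) (mk3 0 0 (mk3 1 0 0)) := by
    unfold lrΩ
    rw [qeΩ_coe hA (by omega)]
    rfl
  rw [h2, jO_eich]
  show t * eich _ _ _ * t⁻¹ = _
  rw [eich_conj, ht1, ht2]

end PKCONJ2

end Cfsg.Agent.Lib.Helper2.OmMin
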