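import Mathlib
import Cfsg.Agent.Lib.Helper2.OmMin.Defs
import Cfsg.Agent.Lib.Helper6.OmMin_H
import Cfsg.Agent.Lib.Helper6.OmMin_SW

set_option autoImplicit false
set_option linter.unusedSectionVars false

/-!
# S2345 PK-MERGE : a torus element of `Ω(HQ (HQ W₂))` scaling the Siegel radical
-/

namespace Cfsg.Agent.Lib.Helper2.OmMin

open Matrix Cfsg Cfsg.Agent.Lib.Helper2.HypExt Cfsg.Agent.Lib.Helper2.CDG

universe u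

namespace PkMERGE

variable {F : Type u} [Field F] {κ : Type} [Fintype κ] [DecidableEq κ]
variable {W : QuadraticForm F (κ → F)} (hW : (QuadraticMap.polarBilin W).Nondegenerate)

open PkSW

/-- the product of two swap elements is a torus element times a product of two reflections -/
theorem swap_swap_mk3 (w w' : κ → F) (hw : W w ≠ 0) (hw' : W w' ≠ 0) (a b : F) (t : κ → F) :
    (((swapO hW w * swapO hW w' : ↥(Cfsg.isometryGroup F ⇑(HQ W))) :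
      Matrix.GeneralLinearGroup (Fin 2 ⊕ κ) F) : Matrix (Fin 2 ⊕ κ) (Fin 2 ⊕ κ) F) *ᵥ mk3 a b t =
      mk3 (W w * (W w')⁻¹ * a) ((W w)⁻¹ * W w' * b)
        ((((CDG.refl W w hw * CDG.refl W w' hw' : ↥(Cfsg.isometryGroup F ⇑W)) :
          Matrix.GeneralLinearGroup κ F) : Matrix κ κ F) *ᵥ t) := by
  rw [CDG.mul_mulVec, swapO_mk3 hW w' hw', swapO_mk3 hW w hw, CDG.mul_mulVec, CDG.refl_mulVec,
    CDG.refl_mulVec]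
  apply mk3_congr
  · ring
  · ring
  · rfl

end PkMERGE

open PkSW PkMERGE

/-! ## PK-MERGE (only for the plus type S2345): a torus element of `Ω(V)` scaling the Siegel radical -/
theorem exists_scale {F : Type u} [Field F] [Fintype F] {κ : Type} [Fintype κ] [DecidableEq κ]
    {W₂ : QuadraticForm F (κ → F)} (hW₂ : (QuadraticMap.polarBilin W₂).Nondegenerate)
    (h1 : 1 ≤ Fintype.card κ) (μ : F) (hμ : μ ≠ 0) :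
    ∃ (n : ↥(Cfsg.Omega F ⇑(HQ (HQ W₂)))) (r : ↥(Cfsg.isometryGroup F ⇑(HQ W₂))),
      ∀ w : Fin 2 ⊕ κ → F, n * qeΩ (HQ_nondeg W₂ hW₂) w * n⁻¹ =
        qeΩ (HQ_nondeg W₂ hW₂)
          (μ • (((r : Matrix.GeneralLinearGroup (Fin 2 ⊕ κ) F) : Matrix _ _ F) *ᵥ w)) := by
  have hW := HQ_nondeg W₂ hW₂
  have h3 : 3 ≤ Fintype.card (Fin 2 ⊕ κ) := by
    rw [Fintype.card_sum, Fintype.card_fin]
    omega
  have hv : HQ W₂ (mk3 μ 1 0) = μ := by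
    rw [HQ_apply]; simp
  have hv' : HQ W₂ (mk3 1 1 0) = 1 := by
    rw [HQ_apply]; simp
  have hvne : HQ W₂ (mk3 μ 1 0) ≠ 0 := by rw [hv]; exact hμ
  have hv'ne : HQ W₂ (mk3 1 1 0) ≠ 0 := by rw [hv']; exact one_ne_zero
  refine ⟨(qeΩ hW (mk3 μ 1 0) * qfΩ hW ((HQ W₂ (mk3 μ 1 0))⁻¹ • mk3 μ 1 0) * qeΩ hW (mk3 μ 1 0)) *
      (qeΩ hW (mk3 1 1 0) * qfΩ hW ((HQ W₂ (mk3 1 1 0))⁻¹ • mk3 1 1 0) * qeΩ hW (mk3 1 1 0)),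
    CDG.refl (HQ W₂) (mk3 μ 1 0) hvne * CDG.refl (HQ W₂) (mk3 1 1 0) hv'ne, ?_⟩
  intro x
  apply Subtype.ext
  rw [Subgroup.coe_mul, Subgroup.coe_mul, Subgroup.coe_inv, Subgroup.coe_mul, Subgroup.coe_mul,
    Subgroup.coe_mul, Subgroup.coe_mul, Subgroup.coe_mul,
    qeΩ_coe hW h3, qfΩ_coe hW h3, qeΩ_coe hW h3, qfΩ_coe hW h3, qeΩ_coe hW h3, qeΩ_coe hW h3]
  show swapO hW (mk3 μ 1 0) * swapO hW (mk3 1 1 0) * qe hW x *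
    (swapO hW (mk3 μ 1 0) * swapO hW (mk3 1 1 0))⁻¹ = _
  have e1 : (mk3 (HQ W₂ (mk3 μ 1 0) * (HQ W₂ (mk3 1 1 0))⁻¹ * 1)
      ((HQ W₂ (mk3 μ 1 0))⁻¹ * HQ W₂ (mk3 1 1 0) * 0)
      ((((CDG.refl (HQ W₂) (mk3 μ 1 0) hvne * CDG.refl (HQ W₂) (mk3 1 1 0) hv'ne :
        ↥(Cfsg.isometryGroup F ⇑(HQ W₂))) : Matrix.GeneralLinearGroup (Fin 2 ⊕ κ) F) :
          Matrix (Fin 2 ⊕ κ) (Fin 2 ⊕ κ) F) *ᵥ 0) : Fin 2 ⊕ (Fin 2 ⊕ κ) → F) =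
      μ • mk3 1 0 0 := by
    rw [hv, hv', Matrix.mulVec_zero]
    apply ext3
    · simp
    · simp
    · rw [tl_mk3, tl_smul, tl_mk3, smul_zero]
  have e2 : μ • (mk3 (HQ W₂ (mk3 μ 1 0) * (HQ W₂ (mk3 1 1 0))⁻¹ * 0)
      ((HQ W₂ (mk3 μ 1 0))⁻¹ * HQ W₂ (mk3 1 1 0) * 0)
      ((((CDG.refl (HQ W₂) (mk3 μ 1 0) hvne * CDG.refl (HQ W₂) (mk3 1 1 0) hv'ne :
        ↥(Cfsg.isometryGroup F ⇑(HQ W₂))) : Matrix.GeneralLinearGroup (Fin 2 ⊕ κ) F) :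
          Matrix (Fin 2 ⊕ κ) (Fin 2 ⊕ κ) F) *ᵥ x) : Fin 2 ⊕ (Fin 2 ⊕ κ) → F) =
      mk3 0 0 (μ • ((((CDG.refl (HQ W₂) (mk3 μ 1 0) hvne * CDG.refl (HQ W₂) (mk3 1 1 0) hv'ne :
        ↥(Cfsg.isometryGroup F ⇑(HQ W₂))) : Matrix.GeneralLinearGroup (Fin 2 ⊕ κ) F) :
          Matrix (Fin 2 ⊕ κ) (Fin 2 ⊕ κ) F) *ᵥ x)) := by
    apply ext3
    · simp
    · simp
    · rw [tl_mk3, tl_smul, tl_mk3]
  unfold qe
  rw [eich_conj, swap_swap_mk3 hW _ _ hvne hv'ne, swap_swap_mk3 hW _ _ hvne hv'ne, e1,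
    eich_smul_left (HQ_nondeg _ hW) _ hμ, e2]

end Cfsg.Agent.Lib.Helper2.OmMin
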