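import Mathlib
import Cfsg.Prelude.Def_Characters
import Cfsg.Agent.Lib.Helper2.OmMin.Defs
import Cfsg.Agent.Lib.Helper6.OmMin_E
import Cfsg.Agent.Lib.Helper6.OmMin_M
import Cfsg.Agent.Lib.Helper6.OmMin_H
import Cfsg.Agent.Lib.Helper6.OmMin_SW
import Cfsg.Agent.Lib.Helper6.OmMin_XC
import Cfsg.Agent.Lib.Helper1.OmMin_MERGE

set_option autoImplicit false
set_option linter.unusedSectionVars false

/-!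
# S2345 PK-FIRST : the long root element of `Ω(W)` as a commutator in the stabiliser of `psiU u` when
`u₄ = tl (tl u)` is a nonzero singular vector of `W₄`
-/

namespace Cfsg.Agent.Lib.Helper2.OmMin

open Matrix Cfsg Cfsg.Agent.Lib.Helper2.HypExt Cfsg.Agent.Lib.Helper2.Siegel
open Cfsg.Agent.Lib.Helper2.LongRoot Cfsg.Agent.Lib.Helper1.SUMin Cfsg.Agent.Lib.Helper4.SLMin
open Cfsg.Agent.Lib.Helper2.CDG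
open scoped ComplexConjugate

universe u

namespace PkFIRST

section
variable {F : Type u} [Field F] {κ : Type} [Fintype κ] [DecidableEq κ]
variable {W₄ : QuadraticForm F (κ → F)} (hW₄ : (QuadraticMap.polarBilin W₄).Nondegenerate)

include hW₄ in
/-- a singular partner of a nonzero singular vector -/
theorem exists_partner {u₄ : κ → F} (hu4 : u₄ ≠ 0) (hsing : W₄ u₄ = 0) :
    ∃ p' : κ → F, W₄ p' = 0 ∧ QuadraticMap.polar (⇑W₄) p' u₄ = 1 := by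
  obtain ⟨z0, hz0⟩ : ∃ z, QuadraticMap.polar (⇑W₄) u₄ z ≠ 0 := by
    by_contra hc
    push Not at hc
    exact hu4 (hW₄.1 _ hc)
  obtain ⟨z, hz⟩ : ∃ z, QuadraticMap.polar (⇑W₄) z u₄ = 1 := by
    refine ⟨(QuadraticMap.polar (⇑W₄) u₄ z0)⁻¹ • z0, ?_⟩
    rw [QuadraticMap.polar_comm, QuadraticMap.polar_smul_right, smul_eq_mul, inv_mul_cancel₀ hz0]
  refine ⟨z + (-(W₄ z)) • u₄, ?_, ?_⟩
  · rw [Cfsg.Agent.Lib.Helper2.ReflGen.map_add_smul, hsing, hz]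
    ring
  · rw [QuadraticMap.polar_add_left, QuadraticMap.polar_smul_left, hz,
      Cfsg.Agent.Lib.Helper2.ReflGen.polar_self, hsing]
    simp

/-- the product of the two reflections in `μ e + f`, `e + f` scales `e` by `μ` -/
theorem refl_refl_e (μ : F) (hμ : HQ W₄ (mk3 μ 1 0) ≠ 0) (h1 : HQ W₄ (mk3 1 1 0) ≠ 0) :
    (((CDG.refl (HQ W₄) (mk3 μ 1 0) hμ * CDG.refl (HQ W₄) (mk3 1 1 0) h1 :
      ↥(Cfsg.isometryGroup F ⇑(HQ W₄))) : Matrix.GeneralLinearGroup (Fin 2 ⊕ κ) F) :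
        Matrix (Fin 2 ⊕ κ) (Fin 2 ⊕ κ) F) *ᵥ (mk3 1 0 0) = μ • mk3 1 0 0 := by
  have hv : HQ W₄ (mk3 μ 1 0) = μ := by rw [HQ_apply]; simp
  have hv' : HQ W₄ (mk3 1 1 0) = 1 := by rw [HQ_apply]; simp
  have hμ0 : μ ≠ 0 := by rw [← hv]; exact hμ
  have i1 : ((CDG.refl (HQ W₄) (mk3 1 1 0) h1 : Matrix.GeneralLinearGroup (Fin 2 ⊕ κ) F) :
      Matrix (Fin 2 ⊕ κ) (Fin 2 ⊕ κ) F) *ᵥ (mk3 1 0 0) = mk3 0 (-1) 0 := by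
    rw [CDG.refl_mulVec, hv', HQ_polar]
    simp only [mk3_zero, mk3_one, tl_mk3, QuadraticMap.polar_zero_right]
    apply ext3
    · simp
    · simp
    · simp [PkH.tl_sub]
  have i2 : ((CDG.refl (HQ W₄) (mk3 μ 1 0) hμ : Matrix.GeneralLinearGroup (Fin 2 ⊕ κ) F) :
      Matrix (Fin 2 ⊕ κ) (Fin 2 ⊕ κ) F) *ᵥ (mk3 0 (-1) 0) = μ • mk3 1 0 0 := by
    rw [CDG.refl_mulVec, hv, HQ_polar]
    simp only [mk3_zero, mk3_one, tl_mk3, QuadraticMap.polar_zero_right]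
    apply ext3
    · simp [hμ0]
    · simp [hμ0]
    · rw [PkH.tl_sub, tl_smul, tl_smul, tl_mk3, tl_mk3, tl_mk3]
      simp
  rw [CDG.mul_mulVec, i1, i2]

/-- the product of the two reflections fixes the vectors of `W₄` -/
theorem refl_refl_w (μ : F) (hμ : HQ W₄ (mk3 μ 1 0) ≠ 0) (h1 : HQ W₄ (mk3 1 1 0) ≠ 0) (x : κ → F) :
    (((CDG.refl (HQ W₄) (mk3 μ 1 0) hμ * CDG.refl (HQ W₄) (mk3 1 1 0) h1 :
      ↥(Cfsg.isometryGroup F ⇑(HQ W₄))) : Matrix.GeneralLinearGroup (Fin 2 ⊕ κ) F) :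
        Matrix (Fin 2 ⊕ κ) (Fin 2 ⊕ κ) F) *ᵥ (mk3 0 0 x) = mk3 0 0 x := by
  have e1 : QuadraticMap.polar (⇑(HQ W₄)) (mk3 1 1 0) (mk3 0 0 x) = 0 := by
    rw [HQ_polar]; simp
  have e2 : QuadraticMap.polar (⇑(HQ W₄)) (mk3 μ 1 0) (mk3 0 0 x) = 0 := by
    rw [HQ_polar]; simp
  have i1 : ((CDG.refl (HQ W₄) (mk3 1 1 0) h1 : Matrix.GeneralLinearGroup (Fin 2 ⊕ κ) F) :
      Matrix (Fin 2 ⊕ κ) (Fin 2 ⊕ κ) F) *ᵥ (mk3 0 0 x) = mk3 0 0 x := by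
    rw [CDG.refl_mulVec, e1, mul_zero, zero_smul, sub_zero]
  have i2 : ((CDG.refl (HQ W₄) (mk3 μ 1 0) hμ : Matrix.GeneralLinearGroup (Fin 2 ⊕ κ) F) :
      Matrix (Fin 2 ⊕ κ) (Fin 2 ⊕ κ) F) *ᵥ (mk3 0 0 x) = mk3 0 0 x := by
    rw [CDG.refl_mulVec, e2, mul_zero, zero_smul, sub_zero]
  rw [CDG.mul_mulVec, i1, i2]

end

theorem comm_map {G H : Type*} [Group G] [Group H] (f : G →* H) (x y : G) :
    f x * f y * (f x)⁻¹ * (f y)⁻¹ = f (x * y * x⁻¹ * y⁻¹) := by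
  simp only [map_mul, map_inv]

theorem conj_comm {G : Type*} [Group G] (n t e : G) :
    n⁻¹ * t * n * (n⁻¹ * e * n) * (n⁻¹ * t * n)⁻¹ * (n⁻¹ * e * n)⁻¹ =
      n⁻¹ * (t * e * t⁻¹ * e⁻¹) * n := by
  group

theorem coe_conj_comm {G : Type*} [Group G] (K : Subgroup G) (n t e : ↥K) :
    ((n⁻¹ * (t * e * t⁻¹ * e⁻¹) * n : ↥K) : G) =
      (n : G)⁻¹ * ((t : G) * (e : G) * (t : G)⁻¹ * (e : G)⁻¹) * (n : G) := by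
  simp only [Subgroup.coe_mul, Subgroup.coe_inv]

end PkFIRST

open PkFIRST PkSW PkXC PkMERGE

/-! ## PK-FIRST -/
theorem exists_comm_lr_sing {F : Type u} [Field F] [Fintype F] {κ : Type} [Fintype κ] [DecidableEq κ]
    {W₄ : QuadraticForm F (κ → F)} (hW₄ : (QuadraticMap.polarBilin W₄).Nondegenerate)
    (ψ0 : AddChar F ℂ) (μ : F) (hμ0 : μ ≠ 0) (hμ1 : μ ^ 2 ≠ 1)
    (u : Fin 2 ⊕ (Fin 2 ⊕ κ) → F) (hu1 : u (Sum.inl 1) = 0) (hu2 : tl u (Sum.inl 1) = 0)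
    (hu4 : tl (tl u) ≠ 0) (hsing : W₄ (tl (tl u)) = 0) :
    ∃ a b : ↥(Cfsg.Omega F ⇑(HQ (HQ (HQ W₄)))),
      a ∈ invStab (qeΩ (HQ_nondeg _ (HQ_nondeg W₄ hW₄))) (psiU ψ0 (HQ (HQ W₄)) u) ∧
      b ∈ invStab (qeΩ (HQ_nondeg _ (HQ_nondeg W₄ hW₄))) (psiU ψ0 (HQ (HQ W₄)) u) ∧
      a * b * a⁻¹ * b⁻¹ = jΩ (HQ (HQ W₄)) (lrΩ hW₄) := by
  have hκ : 1 ≤ Fintype.card κ := by
    rw [Nat.one_le_iff_ne_zero, Ne, Fintype.card_eq_zero_iff]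
    intro hemp
    exact hu4 (Subsingleton.elim _ _)
  have hW₂ := HQ_nondeg W₄ hW₄
  have hW := HQ_nondeg _ hW₂
  have h5 : 5 ≤ Fintype.card (Fin 2 ⊕ (Fin 2 ⊕ κ)) := by
    rw [Fintype.card_sum, Fintype.card_sum, Fintype.card_fin]; omega
  have h3 : 3 ≤ Fintype.card (Fin 2 ⊕ (Fin 2 ⊕ κ)) := by omega
  have h3' : 3 ≤ Fintype.card (Fin 2 ⊕ κ) := by
    rw [Fintype.card_sum, Fintype.card_fin]; omega
  obtain ⟨p', hp', hp'u⟩ := PkFIRST.exists_partner hW₄ hu4 hsing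
  -- the vectors of `W`
  obtain ⟨hh, hhdef⟩ : ∃ x : Fin 2 ⊕ (Fin 2 ⊕ κ) → F, x = mk3 1 0 0 := ⟨_, rfl⟩
  obtain ⟨h₂, h₂def⟩ : ∃ x : Fin 2 ⊕ (Fin 2 ⊕ κ) → F, x = mk3 0 0 (mk3 1 0 0) := ⟨_, rfl⟩
  obtain ⟨U₄, U₄def⟩ : ∃ x : Fin 2 ⊕ (Fin 2 ⊕ κ) → F, x = mk3 0 0 (mk3 0 0 (tl (tl u))) := ⟨_, rfl⟩
  obtain ⟨P', P'def⟩ : ∃ x : Fin 2 ⊕ (Fin 2 ⊕ κ) → F, x = mk3 0 0 (mk3 0 0 p') := ⟨_, rfl⟩
  obtain ⟨y₁, y₁def⟩ : ∃ x : Fin 2 ⊕ (Fin 2 ⊕ κ) → F,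
      x = mk3 (u (Sum.inl 0)) 0 (mk3 (tl u (Sum.inl 0)) 0 0) := ⟨_, rfl⟩
  have hu_eq : u = y₁ + U₄ := by
    rw [y₁def, U₄def]
    apply ext3
    · simp
    · simp [hu1]
    · rw [tl_add, tl_mk3, tl_mk3]
      apply ext3
      · simp
      · simp [hu2]
      · rw [tl_add, tl_mk3, tl_mk3, zero_add]
  have Qhh : HQ (HQ W₄) hh = 0 := by rw [hhdef]; exact PkH.HQ_e_sing
  have Qh₂ : HQ (HQ W₄) h₂ = 0 := by rw [h₂def, PkH.HQ_w]; exact PkH.HQ_e_sing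
  have QP' : HQ (HQ W₄) P' = 0 := by rw [P'def, PkH.HQ_w, PkH.HQ_w]; exact hp'
  have Qy₁ : HQ (HQ W₄) y₁ = 0 := by
    rw [y₁def, HQ_apply, HQ_apply]; simp
  have p_hh_h₂ : QuadraticMap.polar (⇑(HQ (HQ W₄))) hh h₂ = 0 := by
    rw [hhdef, h₂def]; exact PkH.polar_e_w _
  have p_P'_y₁ : QuadraticMap.polar (⇑(HQ (HQ W₄))) P' y₁ = 0 := by
    rw [P'def, y₁def, PkH.polar_w_x, tl_mk3, PkH.polar_w_x, tl_mk3, QuadraticMap.polar_zero_right]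
  have p_P'_hh : QuadraticMap.polar (⇑(HQ (HQ W₄))) P' hh = 0 := by
    rw [P'def, hhdef, PkH.polar_w_x, tl_mk3, QuadraticMap.polar_zero_right]
  have p_P'_h₂ : QuadraticMap.polar (⇑(HQ (HQ W₄))) P' h₂ = 0 := by
    rw [P'def, h₂def, PkH.polar_w_x, tl_mk3, PkH.polar_w_x, tl_mk3, QuadraticMap.polar_zero_right]
  have p_y₁_hh : QuadraticMap.polar (⇑(HQ (HQ W₄))) y₁ hh = 0 := by
    rw [QuadraticMap.polar_comm, hhdef, PkH.polar_e_x, y₁def, mk3_one]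
  have p_y₁_h₂ : QuadraticMap.polar (⇑(HQ (HQ W₄))) y₁ h₂ = 0 := by
    rw [QuadraticMap.polar_comm, h₂def, PkH.polar_w_x, PkH.polar_e_x, y₁def, tl_mk3, mk3_one]
  have p_P'_u : QuadraticMap.polar (⇑(HQ (HQ W₄))) P' u = 1 := by
    rw [P'def, PkH.polar_w_x, PkH.polar_w_x]; exact hp'u
  have p_y₁_u : QuadraticMap.polar (⇑(HQ (HQ W₄))) y₁ u = 0 := by
    rw [y₁def, HQ_polar, HQ_polar]
    simp only [mk3_zero, mk3_one, tl_mk3, QuadraticMap.polar_zero_left]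
    rw [hu1, hu2]
    ring
  have p_P'_ny₁ : QuadraticMap.polar (⇑(HQ (HQ W₄))) P' (-y₁) = 0 := by
    rw [QuadraticMap.polar_neg_right, p_P'_y₁, neg_zero]
  -- the conjugating element `n`
  obtain ⟨nO, nOdef⟩ : ∃ x : ↥(Cfsg.isometryGroup F ⇑(HQ (HQ W₄))), x = eich hW P' (-y₁) := ⟨_, rfl⟩
  have n_u : ((nO : Matrix.GeneralLinearGroup (Fin 2 ⊕ (Fin 2 ⊕ κ)) F) :
      Matrix (Fin 2 ⊕ (Fin 2 ⊕ κ)) (Fin 2 ⊕ (Fin 2 ⊕ κ)) F) *ᵥ u = U₄ := by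
    rw [nOdef, eich_mulVec hW QP' p_P'_ny₁, p_P'_u, QuadraticMap.polar_neg_left, p_y₁_u,
      QuadraticMap.map_neg, Qy₁, hu_eq]
    simp
  have n_hh : ((nO : Matrix.GeneralLinearGroup (Fin 2 ⊕ (Fin 2 ⊕ κ)) F) :
      Matrix (Fin 2 ⊕ (Fin 2 ⊕ κ)) (Fin 2 ⊕ (Fin 2 ⊕ κ)) F) *ᵥ hh = hh := by
    rw [nOdef]
    exact eich_fix hW p_P'_hh (by rw [QuadraticMap.polar_neg_left, p_y₁_hh, neg_zero])
  have n_h₂ : ((nO : Matrix.GeneralLinearGroup (Fin 2 ⊕ (Fin 2 ⊕ κ)) F) :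
      Matrix (Fin 2 ⊕ (Fin 2 ⊕ κ)) (Fin 2 ⊕ (Fin 2 ⊕ κ)) F) *ᵥ h₂ = h₂ := by
    rw [nOdef]
    exact eich_fix hW p_P'_h₂ (by rw [QuadraticMap.polar_neg_left, p_y₁_h₂, neg_zero])
  have ninv : ∀ x y : Fin 2 ⊕ (Fin 2 ⊕ κ) → F,
      ((nO : Matrix.GeneralLinearGroup (Fin 2 ⊕ (Fin 2 ⊕ κ)) F) :
      Matrix (Fin 2 ⊕ (Fin 2 ⊕ κ)) (Fin 2 ⊕ (Fin 2 ⊕ κ)) F) *ᵥ x = y →
      (((nO⁻¹ : ↥(Cfsg.isometryGroup F ⇑(HQ (HQ W₄)))) : Matrix.GeneralLinearGroup (Fin 2 ⊕ (Fin 2 ⊕ κ)) F) :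
        Matrix (Fin 2 ⊕ (Fin 2 ⊕ κ)) (Fin 2 ⊕ (Fin 2 ⊕ κ)) F) *ᵥ y = x := by
    intro x y hxy
    rw [← hxy, ← mul_mulVec, inv_mul_cancel, one_mulVec']
  -- the torus element `t`
  obtain ⟨w, wdef⟩ : ∃ x : Fin 2 ⊕ κ → F, x = mk3 μ 1 0 := ⟨_, rfl⟩
  obtain ⟨w', w'def⟩ : ∃ x : Fin 2 ⊕ κ → F, x = mk3 1 1 0 := ⟨_, rfl⟩
  have hw : HQ W₄ w = μ := by rw [wdef, HQ_apply]; simp
  have hw' : HQ W₄ w' = 1 := by rw [w'def, HQ_apply]; simp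
  have hwne : HQ W₄ w ≠ 0 := by rw [hw]; exact hμ0
  have hw'ne : HQ W₄ w' ≠ 0 := by rw [hw']; exact one_ne_zero
  obtain ⟨tO, tOdef⟩ : ∃ x : ↥(Cfsg.isometryGroup F ⇑(HQ (HQ W₄))),
      x = swapO hW₂ w * swapO hW₂ w' := ⟨_, rfl⟩
  have t_mk3 : ∀ (a b : F) (x : Fin 2 ⊕ κ → F),
      ((tO : Matrix.GeneralLinearGroup (Fin 2 ⊕ (Fin 2 ⊕ κ)) F) :
      Matrix (Fin 2 ⊕ (Fin 2 ⊕ κ)) (Fin 2 ⊕ (Fin 2 ⊕ κ)) F) *ᵥ mk3 a b x =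
        mk3 (μ * a) (μ⁻¹ * b) ((((CDG.refl (HQ W₄) w hwne * CDG.refl (HQ W₄) w' hw'ne :
          ↥(Cfsg.isometryGroup F ⇑(HQ W₄))) : Matrix.GeneralLinearGroup (Fin 2 ⊕ κ) F) :
            Matrix (Fin 2 ⊕ κ) (Fin 2 ⊕ κ) F) *ᵥ x) := by
    intro a b x
    rw [tOdef, swap_swap_mk3 hW₂ w w' hwne hw'ne, hw, hw', inv_one, mul_one, mul_one]
  have t_hh : ((tO : Matrix.GeneralLinearGroup (Fin 2 ⊕ (Fin 2 ⊕ κ)) F) :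
      Matrix (Fin 2 ⊕ (Fin 2 ⊕ κ)) (Fin 2 ⊕ (Fin 2 ⊕ κ)) F) *ᵥ hh = μ • hh := by
    rw [hhdef, t_mk3, Matrix.mulVec_zero]
    apply ext3
    · simp
    · simp
    · rw [tl_mk3, tl_smul, tl_mk3, smul_zero]
  have t_h₂ : ((tO : Matrix.GeneralLinearGroup (Fin 2 ⊕ (Fin 2 ⊕ κ)) F) :
      Matrix (Fin 2 ⊕ (Fin 2 ⊕ κ)) (Fin 2 ⊕ (Fin 2 ⊕ κ)) F) *ᵥ h₂ = μ • h₂ := by
    rw [h₂def, t_mk3]
    subst wdef w'def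
    rw [refl_refl_e]
    apply ext3
    · simp
    · simp
    · rw [tl_mk3, tl_smul, tl_mk3]
  have t_U₄ : ((tO : Matrix.GeneralLinearGroup (Fin 2 ⊕ (Fin 2 ⊕ κ)) F) :
      Matrix (Fin 2 ⊕ (Fin 2 ⊕ κ)) (Fin 2 ⊕ (Fin 2 ⊕ κ)) F) *ᵥ U₄ = U₄ := by
    rw [U₄def, t_mk3]
    subst wdef w'def
    rw [refl_refl_w, mul_zero, mul_zero]
  -- the Eichler element `E_{h, ν h₂}`
  have hμ1' : μ ^ 2 - 1 ≠ 0 := sub_ne_zero.2 hμ1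
  obtain ⟨ν, νdef⟩ : ∃ x : F, x = (μ ^ 2 - 1)⁻¹ := ⟨_, rfl⟩
  have hν : μ * ν * μ + -ν = 1 := by
    rw [νdef]
    field_simp
    ring
  have p_hh_νh₂ : QuadraticMap.polar (⇑(HQ (HQ W₄))) hh (ν • h₂) = 0 := by
    rw [QuadraticMap.polar_smul_right, p_hh_h₂, smul_zero]
  obtain ⟨eO, eOdef⟩ : ∃ x : ↥(Cfsg.isometryGroup F ⇑(HQ (HQ W₄))), x = eich hW hh (ν • h₂) :=
    ⟨_, rfl⟩
  have e_U₄ : ((eO : Matrix.GeneralLinearGroup (Fin 2 ⊕ (Fin 2 ⊕ κ)) F) :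
      Matrix (Fin 2 ⊕ (Fin 2 ⊕ κ)) (Fin 2 ⊕ (Fin 2 ⊕ κ)) F) *ᵥ U₄ = U₄ := by
    rw [eOdef]
    apply eich_fix hW
    · rw [hhdef, PkH.polar_e_x, U₄def, mk3_one]
    · rw [QuadraticMap.polar_smul_left, h₂def, PkH.polar_w_x, PkH.polar_e_x, U₄def, tl_mk3, mk3_one,
        smul_zero]
  have hcomm : tO * eO * tO⁻¹ * eO⁻¹ = eich hW hh h₂ := by
    have c1 : tO * eO * tO⁻¹ = eich hW hh (μ • (ν • (μ • h₂))) := by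
      rw [eOdef, eich_conj, t_hh, Matrix.mulVec_smul, t_h₂, eich_smul_left hW μ hμ0]
    have c2 : eO⁻¹ = eich hW hh (-(ν • h₂)) := by
      rw [eOdef]
      exact (eich_neg hW Qhh p_hh_νh₂).symm
    have p1 : QuadraticMap.polar (⇑(HQ (HQ W₄))) hh (μ • (ν • (μ • h₂))) = 0 := by
      rw [QuadraticMap.polar_smul_right, QuadraticMap.polar_smul_right,
        QuadraticMap.polar_smul_right, p_hh_h₂, smul_zero, smul_zero, smul_zero]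
    have p2 : QuadraticMap.polar (⇑(HQ (HQ W₄))) hh (-(ν • h₂)) = 0 := by
      rw [QuadraticMap.polar_neg_right, p_hh_νh₂, neg_zero]
    rw [c1, c2, ← eich_add hW Qhh p1 p2]
    congr 1
    rw [smul_smul, smul_smul, ← neg_smul, ← add_smul, hν, one_smul]
  -- the elements of `Ω(W)`
  obtain ⟨nΩ, nΩdef⟩ : ∃ x : ↥(Cfsg.Omega F ⇑(HQ (HQ W₄))),
      (x : ↥(Cfsg.isometryGroup F ⇑(HQ (HQ W₄)))) = nO :=
    ⟨⟨nO, by rw [nOdef]; exact eich_mem_Omega hW h5 _ _⟩, rfl⟩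
  obtain ⟨eΩ, eΩdef⟩ : ∃ x : ↥(Cfsg.Omega F ⇑(HQ (HQ W₄))),
      (x : ↥(Cfsg.isometryGroup F ⇑(HQ (HQ W₄)))) = eO :=
    ⟨⟨eO, by rw [eOdef]; exact eich_mem_Omega hW h5 _ _⟩, rfl⟩
  obtain ⟨tΩ, tΩdef⟩ : ∃ x : ↥(Cfsg.Omega F ⇑(HQ (HQ W₄))),
      (x : ↥(Cfsg.isometryGroup F ⇑(HQ (HQ W₄)))) = tO := by
    refine ⟨(qeΩ hW₂ w * qfΩ hW₂ ((HQ W₄ w)⁻¹ • w) * qeΩ hW₂ w) *
      (qeΩ hW₂ w' * qfΩ hW₂ ((HQ W₄ w')⁻¹ • w') * qeΩ hW₂ w'), ?_⟩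
    rw [Subgroup.coe_mul, Subgroup.coe_mul, Subgroup.coe_mul, Subgroup.coe_mul, Subgroup.coe_mul,
      qeΩ_coe hW₂ h3', qfΩ_coe hW₂ h3', qeΩ_coe hW₂ h3', qfΩ_coe hW₂ h3', tOdef]
    rfl
  refine ⟨jΩ _ (nΩ⁻¹ * tΩ * nΩ), jΩ _ (nΩ⁻¹ * eΩ * nΩ), ?_, ?_, ?_⟩
  · refine mem_invStab_of_fix hW h3 ψ0 u (nO⁻¹ * tO * nO) _ ?_ ?_
    · rw [jΩ_coe, Subgroup.coe_mul, Subgroup.coe_mul, Subgroup.coe_inv, nΩdef, tΩdef]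
    · rw [mul_mulVec, mul_mulVec, n_u, t_U₄, ninv u U₄ n_u]
  · refine mem_invStab_of_fix hW h3 ψ0 u (nO⁻¹ * eO * nO) _ ?_ ?_
    · rw [jΩ_coe, Subgroup.coe_mul, Subgroup.coe_mul, Subgroup.coe_inv, nΩdef, eΩdef]
    · rw [mul_mulVec, mul_mulVec, n_u, e_U₄, ninv u U₄ n_u]
  · refine (comm_map (jΩ (HQ (HQ W₄))) _ _).trans ?_
    congr 1
    rw [conj_comm nΩ tΩ eΩ]
    apply Subtype.ext
    rw [coe_conj_comm, nΩdef, tΩdef, eΩdef, hcomm]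
    have c3 : nO⁻¹ * eich hW hh h₂ * nO = eich hW hh h₂ := by
      have := eich_conj hW nO⁻¹ hh h₂
      rw [inv_inv, ninv hh hh n_hh, ninv h₂ h₂ n_h₂] at this
      exact this
    rw [c3]
    unfold lrΩ
    rw [qeΩ_coe hW₂ h3']
    unfold qe
    rw [hhdef, h₂def]

end Cfsg.Agent.Lib.Helper2.OmMin
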