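import Mathlib
import Cfsg.Prelude.Def_Characters
import Cfsg.Agent.Lib.Helper2.OmMin.Defs
import Cfsg.Agent.Lib.Helper2.LongRoot11
import Cfsg.Agent.Lib.Helper4.Characters
import Cfsg.Agent.Lib.Helper1.CharInt
import Cfsg.Agent.Lib.Helper1.SLCard
import Cfsg.Agent.Lib.Helper1.OmMin_CONJ

set_option autoImplicit false
set_option linter.unusedSectionVars false

/-!
# S2346, PK-INT: integrality on the class of long root elements
-/

namespace Cfsg.Agent.Lib.Helper2.OmMin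

open Matrix Cfsg Cfsg.Agent.Lib.Helper2.HypExt Cfsg.Agent.Lib.Helper2.Siegel
open Cfsg.Agent.Lib.Helper2.LongRoot Cfsg.Agent.Lib.Helper2.CDG

universe u

namespace PkINT

/-- a finite group acting freely on a finite type: the order divides the cardinality -/
theorem card_dvd_of_free_act {G X : Type*} [Group G] [Finite G] [Finite X] (act : G → X → X)
    (h1 : ∀ x, act 1 x = x) (hmul : ∀ g h x, act (g * h) x = act g (act h x))
    (hfree : ∀ g x, act g x = x → g = 1) : Nat.card G ∣ Nat.card X := by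
  classical
  let _ : MulAction G X := { smul := act, one_smul := h1, mul_smul := hmul }
  have : Fintype (MulAction.orbitRel.Quotient G X) := Fintype.ofFinite _
  rw [Nat.card_congr (MulAction.selfEquivSigmaOrbitsQuotientStabilizer G X), Nat.card_sigma]
  apply Finset.dvd_sum
  intro ω _
  have hst : MulAction.stabilizer G (Quotient.out ω) = ⊥ := by
    rw [Subgroup.eq_bot_iff_forall]
    intro g hg
    exact hfree g _ hg
  rw [hst, Nat.card_congr (QuotientGroup.quotientBot (G := G)).toEquiv]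

section general
variable {F : Type u} [Field F] {ι : Type} [Fintype ι] [DecidableEq ι]
variable {Q : QuadraticForm F (ι → F)}

/-- independence of a pair of vectors -/
def Indep (p : (ι → F) × (ι → F)) : Prop :=
  ∀ s t : F, s • p.1 + t • p.2 = 0 → s = 0 ∧ t = 0

/-- pairs of independent orthogonal singular vectors -/
def IsLinePair (Q : QuadraticForm F (ι → F)) (p : (ι → F) × (ι → F)) : Prop :=
  Q p.1 = 0 ∧ Q p.2 = 0 ∧ QuadraticMap.polar (⇑Q) p.1 p.2 = 0 ∧ Indep p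

/-- the action of `SL₂` on pairs -/
def slAct (A : SpecialLinearGroup (Fin 2) F) (p : (ι → F) × (ι → F)) : (ι → F) × (ι → F) :=
  (A.1 0 0 • p.1 + A.1 0 1 • p.2, A.1 1 0 • p.1 + A.1 1 1 • p.2)

theorem slAct_one (p : (ι → F) × (ι → F)) : slAct 1 p = p := by
  unfold slAct
  ext i <;> simp

theorem slAct_mul (A B : SpecialLinearGroup (Fin 2) F) (p : (ι → F) × (ι → F)) :
    slAct (A * B) p = slAct A (slAct B p) := by
  unfold slAct
  have h : (A * B).1 = A.1 * B.1 := rfl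
  rw [h]
  simp only [Matrix.mul_apply, Fin.sum_univ_two]
  ext i
  · simp only [Pi.add_apply, Pi.smul_apply, smul_eq_mul]; ring
  · simp only [Pi.add_apply, Pi.smul_apply, smul_eq_mul]; ring

theorem sl_det (A : SpecialLinearGroup (Fin 2) F) :
    A.1 0 0 * A.1 1 1 - A.1 0 1 * A.1 1 0 = 1 := by
  have h := A.2
  rw [Matrix.det_fin_two] at h
  exact h

theorem indep_slAct (A : SpecialLinearGroup (Fin 2) F) {p : (ι → F) × (ι → F)} (hp : Indep p) :
    Indep (slAct A p) := by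
  intro s t hst
  unfold slAct at hst
  have h0 : (s * A.1 0 0 + t * A.1 1 0) • p.1 + (s * A.1 0 1 + t * A.1 1 1) • p.2 = 0 := by
    rw [← hst]
    simp only
    module
  obtain ⟨h1, h2⟩ := hp _ _ h0
  have hd := sl_det A
  constructor
  · linear_combination (-s) * hd + A.1 1 1 * h1 - A.1 1 0 * h2
  · linear_combination (-t) * hd - A.1 0 1 * h1 + A.1 0 0 * h2

theorem slAct_free (A : SpecialLinearGroup (Fin 2) F) {p : (ι → F) × (ι → F)} (hp : Indep p)
    (h : slAct A p = p) : A = 1 := by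
  unfold slAct at h
  have h1 := (Prod.mk.inj h).1
  have h2 := (Prod.mk.inj h).2
  have e1 : (A.1 0 0 - 1) • p.1 + A.1 0 1 • p.2 = 0 := by
    have : (A.1 0 0 - 1) • p.1 + A.1 0 1 • p.2 = (A.1 0 0 • p.1 + A.1 0 1 • p.2) - p.1 := by module
    rw [this, h1, sub_self]
  have e2 : A.1 1 0 • p.1 + (A.1 1 1 - 1) • p.2 = 0 := by
    have : A.1 1 0 • p.1 + (A.1 1 1 - 1) • p.2 = (A.1 1 0 • p.1 + A.1 1 1 • p.2) - p.2 := by module
    rw [this, h2, sub_self]
  obtain ⟨a1, a2⟩ := hp _ _ e1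
  obtain ⟨a3, a4⟩ := hp _ _ e2
  apply Subtype.ext
  ext i j
  fin_cases i <;> fin_cases j
  · simpa using sub_eq_zero.mp a1
  · simpa using a2
  · simpa using a3
  · simpa using sub_eq_zero.mp a4

theorem isLinePair_slAct (A : SpecialLinearGroup (Fin 2) F) {p : (ι → F) × (ι → F)}
    (hp : IsLinePair Q p) : IsLinePair Q (slAct A p) := by
  obtain ⟨hu, hv, huv, hind⟩ := hp
  have huu : QuadraticMap.polar (⇑Q) p.1 p.1 = 0 := by rw [ReflGen.polar_self, hu, mul_zero]
  have hvv : QuadraticMap.polar (⇑Q) p.2 p.2 = 0 := by rw [ReflGen.polar_self, hv, mul_zero]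
  have hvu : QuadraticMap.polar (⇑Q) p.2 p.1 = 0 := by rw [QuadraticMap.polar_comm]; exact huv
  have hq : ∀ a b : F, Q (a • p.1 + b • p.2) = 0 := by
    intro a b
    rw [ReflGen.map_add_smul, QuadraticMap.map_smul, QuadraticMap.polar_smul_left, hu, hv, huv]
    simp
  refine ⟨hq _ _, hq _ _, ?_, indep_slAct A hind⟩
  unfold slAct
  simp only [QuadraticMap.polar_add_left, QuadraticMap.polar_add_right,
    QuadraticMap.polar_smul_left, QuadraticMap.polar_smul_right, huu, hvv, huv, hvu]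
  simp

theorem siegel_slAct (A : SpecialLinearGroup (Fin 2) F) (p : (ι → F) × (ι → F)) :
    Cfsg.siegelMatrix (⇑Q) (slAct A p).1 (slAct A p).2 1 = Cfsg.siegelMatrix (⇑Q) p.1 p.2 1 := by
  apply Matrix.mulVec_injective
  funext x
  rw [ReflGen.siegelMatrix_mulVec, ReflGen.siegelMatrix_mulVec]
  unfold slAct
  simp only [QuadraticMap.polar_add_left, QuadraticMap.polar_smul_left, smul_eq_mul]
  have hd := sl_det A
  have key : ∀ (fu fv : F) (u v : ι → F),
      (A.1 0 0 * fu + A.1 0 1 * fv) • (A.1 1 0 • u + A.1 1 1 • v) -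
        (A.1 1 0 * fu + A.1 1 1 * fv) • (A.1 0 0 • u + A.1 0 1 • v) =
      (A.1 0 0 * A.1 1 1 - A.1 0 1 * A.1 1 0) • (fu • v - fv • u) := by
    intro fu fv u v
    module
  rw [key, hd, one_smul]

/-- an `SL₂`-invariant set of independent pairs has cardinality divisible by `|SL₂|` -/
theorem card_dvd_of_inv [Finite F] (S : Set ((ι → F) × (ι → F))) (hind : ∀ p ∈ S, Indep p)
    (hinv : ∀ (A : SpecialLinearGroup (Fin 2) F), ∀ p ∈ S, slAct A p ∈ S) :
    Nat.card (SpecialLinearGroup (Fin 2) F) ∣ Nat.card S := by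
  have : Finite (SpecialLinearGroup (Fin 2) F) := by
    show Finite {A : Matrix (Fin 2) (Fin 2) F // A.det = 1}
    infer_instance
  refine card_dvd_of_free_act (G := SpecialLinearGroup (Fin 2) F) (X := S)
    (fun A p => ⟨slAct A p.1, hinv A p.1 p.2⟩) ?_ ?_ ?_
  · intro x
    exact Subtype.ext (slAct_one _)
  · intro g h x
    exact Subtype.ext (slAct_mul _ _ _)
  · intro g x hx
    exact slAct_free g (hind x.1 x.2) (congrArg Subtype.val hx)

/-- isometries preserve line pairs -/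
theorem isLinePair_iso (g : ↥(Cfsg.isometryGroup F ⇑Q)) {p : (ι → F) × (ι → F)}
    (hp : IsLinePair Q p) :
    IsLinePair Q (((g : Matrix.GeneralLinearGroup ι F) : Matrix ι ι F) *ᵥ p.1,
      ((g : Matrix.GeneralLinearGroup ι F) : Matrix ι ι F) *ᵥ p.2) := by
  obtain ⟨hu, hv, huv, hind⟩ := hp
  refine ⟨by rw [iso_Q]; exact hu, by rw [iso_Q]; exact hv, by rw [iso_polar]; exact huv, ?_⟩
  intro s t hst
  apply hind
  have h0 : ((g : Matrix.GeneralLinearGroup ι F) : Matrix ι ι F) *ᵥ (s • p.1 + t • p.2) = 0 := by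
    rw [Matrix.mulVec_add, Matrix.mulVec_smul, Matrix.mulVec_smul]
    exact hst
  have h1 : (((g⁻¹ : ↥(Cfsg.isometryGroup F ⇑Q)) : Matrix.GeneralLinearGroup ι F) :
      Matrix ι ι F) *ᵥ (((g : Matrix.GeneralLinearGroup ι F) : Matrix ι ι F) *ᵥ
        (s • p.1 + t • p.2)) = 0 := by
    rw [h0, Matrix.mulVec_zero]
  rw [← mul_mulVec, inv_mul_cancel, one_mulVec'] at h1
  exact h1

/-- the number of partners of `u` is at most that of `g u` -/
theorem card_partner_le [Finite F] (g : ↥(Cfsg.isometryGroup F ⇑Q)) (u : ι → F) :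
    Nat.card {v : ι → F // IsLinePair Q (u, v)} ≤
      Nat.card {v : ι → F // IsLinePair Q
        (((g : Matrix.GeneralLinearGroup ι F) : Matrix ι ι F) *ᵥ u, v)} := by
  refine Nat.card_le_card_of_injective
    (fun v => ⟨((g : Matrix.GeneralLinearGroup ι F) : Matrix ι ι F) *ᵥ v.1,
      isLinePair_iso g v.2⟩) ?_
  intro v v' h
  apply Subtype.ext
  have h0 : ((g : Matrix.GeneralLinearGroup ι F) : Matrix ι ι F) *ᵥ v.1 =
      ((g : Matrix.GeneralLinearGroup ι F) : Matrix ι ι F) *ᵥ v'.1 := congrArg Subtype.val h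
  have h1 : (((g⁻¹ : ↥(Cfsg.isometryGroup F ⇑Q)) : Matrix.GeneralLinearGroup ι F) :
      Matrix ι ι F) *ᵥ (((g : Matrix.GeneralLinearGroup ι F) : Matrix ι ι F) *ᵥ v.1) =
      (((g⁻¹ : ↥(Cfsg.isometryGroup F ⇑Q)) : Matrix.GeneralLinearGroup ι F) :
      Matrix ι ι F) *ᵥ (((g : Matrix.GeneralLinearGroup ι F) : Matrix ι ι F) *ᵥ v'.1) := by
    rw [h0]
  rw [← mul_mulVec, ← mul_mulVec, inv_mul_cancel, one_mulVec', one_mulVec'] at h1
  exact h1

theorem card_partner_eq [Finite F] (g : ↥(Cfsg.isometryGroup F ⇑Q)) (u : ι → F) :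
    Nat.card {v : ι → F // IsLinePair Q
        (((g : Matrix.GeneralLinearGroup ι F) : Matrix ι ι F) *ᵥ u, v)} =
      Nat.card {v : ι → F // IsLinePair Q (u, v)} := by
  apply le_antisymm
  · have h := card_partner_le g⁻¹ (((g : Matrix.GeneralLinearGroup ι F) : Matrix ι ι F) *ᵥ u)
    rw [← mul_mulVec, inv_mul_cancel, one_mulVec'] at h
    exact h
  · exact card_partner_le g u

theorem ne_zero_of_indep {p : (ι → F) × (ι → F)} (hp : Indep p) : p.1 ≠ 0 := by
  intro h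
  have h0 : (1 : F) • p.1 + (0 : F) • p.2 = 0 := by rw [h, smul_zero, zero_smul, add_zero]
  exact one_ne_zero (hp _ _ h0).1

end general

section count
variable {F : Type u} [Field F] {κ : Type} [Fintype κ] [DecidableEq κ]
variable (W : QuadraticForm F (κ → F))

theorem isLinePair_e_iff (v : Fin 2 ⊕ κ → F) :
    IsLinePair (HQ W) (mk3 1 0 0, v) ↔ v (Sum.inl 1) = 0 ∧ W (tl v) = 0 ∧ tl v ≠ 0 := by
  constructor
  · rintro ⟨_, hv, huv, hind⟩
    simp only at hv huv
    rw [polar_e] at huv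
    have h1 : W (tl v) = 0 := by
      rw [HQ_apply, huv, mul_zero, zero_add] at hv
      exact hv
    refine ⟨huv, h1, ?_⟩
    intro h0
    have h2 : (-(v (Sum.inl 0))) • (mk3 1 0 0 : Fin 2 ⊕ κ → F) + (1 : F) • v = 0 := by
      funext i
      rcases i with i | k
      · fin_cases i
        · simp
        · simpa using huv
      · have := congrFun h0 k
        simpa [tl] using this
    exact one_ne_zero (hind _ _ h2).2
  · rintro ⟨h1, h2, h3⟩
    refine ⟨by simp only; rw [HQ_e]; ring, by simp only; rw [HQ_apply, h1, h2]; ring,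
      by simp only; rw [polar_e]; exact h1, ?_⟩
    intro s t hst
    simp only at hst
    have ht : t = 0 := by
      have h4 := congrArg tl hst
      rw [tl_add, tl_smul, tl_smul, tl_mk3, smul_zero, zero_add] at h4
      rcases smul_eq_zero.mp h4 with h5 | h5
      · exact h5
      · exact absurd h5 h3
    refine ⟨?_, ht⟩
    rw [ht, zero_smul, add_zero] at hst
    have h6 := congrFun hst (Sum.inl 0)
    simpa using h6

/-- the partners of `e` -/
noncomputable def eEquiv : {v : Fin 2 ⊕ κ → F // IsLinePair (HQ W) (mk3 1 0 0, v)} ≃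
    F × {w : κ → F // w ≠ 0 ∧ W w = 0} where
  toFun v := (v.1 (Sum.inl 0), ⟨tl v.1, ((isLinePair_e_iff W v.1).mp v.2).2.2,
    ((isLinePair_e_iff W v.1).mp v.2).2.1⟩)
  invFun aw := ⟨mk3 aw.1 0 aw.2.1, (isLinePair_e_iff W _).mpr
    ⟨rfl, by rw [tl_mk3]; exact aw.2.2.2, by rw [tl_mk3]; exact aw.2.2.1⟩⟩
  left_inv v := by
    apply Subtype.ext
    have h := ((isLinePair_e_iff W v.1).mp v.2).1
    simp only
    conv_rhs => rw [← mk3_eta v.1, h]
  right_inv aw := by
    apply Prod.ext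
    · rfl
    · apply Subtype.ext
      rfl

theorem card_partner_e [Fintype F] :
    Nat.card {v : Fin 2 ⊕ κ → F // IsLinePair (HQ W) (mk3 1 0 0, v)} =
      Fintype.card F * nrm W 0 := by
  rw [Nat.card_congr (eEquiv W), Nat.card_prod, Nat.card_eq_fintype_card]
  rfl

/-- the line pairs, fibred over the first vector -/
def sigmaEquiv {ι : Type} [Fintype ι] [DecidableEq ι] (Q : QuadraticForm F (ι → F)) :
    {p : (ι → F) × (ι → F) // IsLinePair Q p} ≃
      Σ u : {u : ι → F // u ≠ 0 ∧ Q u = 0}, {v : ι → F // IsLinePair Q (u.1, v)} where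
  toFun p := ⟨⟨p.1.1, ne_zero_of_indep p.2.2.2.2, p.2.1⟩, ⟨p.1.2, p.2⟩⟩
  invFun x := ⟨(x.1.1, x.2.1), x.2.2⟩
  left_inv _ := rfl
  right_inv _ := rfl

theorem card_linePairs [Fintype F] (hW : (QuadraticMap.polarBilin W).Nondegenerate)
    (h5 : 5 ≤ Fintype.card (Fin 2 ⊕ κ)) :
    Nat.card {p : (Fin 2 ⊕ κ → F) × (Fin 2 ⊕ κ → F) // IsLinePair (HQ W) p} =
      nrm (HQ W) 0 * (Fintype.card F * nrm W 0) := by
  classical
  have : Fintype {u : Fin 2 ⊕ κ → F // u ≠ 0 ∧ HQ W u = 0} := Fintype.ofFinite _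
  rw [Nat.card_congr (sigmaEquiv (HQ W)), Nat.card_sigma]
  have hconst : ∀ u : {u : Fin 2 ⊕ κ → F // u ≠ 0 ∧ HQ W u = 0},
      Nat.card {v : Fin 2 ⊕ κ → F // IsLinePair (HQ W) (u.1, v)} = Fintype.card F * nrm W 0 := by
    intro u
    have he0 : (mk3 1 0 0 : Fin 2 ⊕ κ → F) ≠ 0 := by
      intro h
      have := congrFun h (Sum.inl 0)
      simp at this
    have he : HQ W (mk3 1 0 0) = 0 := by rw [HQ_e]; ring
    obtain ⟨t, _, ht⟩ := T_trans_sing (HQ_nondeg W hW) h5 (mk3 1 0 0) u.1 he0 u.2.1 he u.2.2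
    rw [← ht, card_partner_eq t (mk3 1 0 0), card_partner_e]
  rw [Finset.sum_congr rfl (fun u _ => hconst u), Finset.sum_const, Finset.card_univ, smul_eq_mul,
    ← Nat.card_eq_fintype_card]
  rfl

end count


section main
variable {F : Type u} [Field F] [Fintype F] {ι : Type} [Fintype ι] [DecidableEq ι]
variable {Q : QuadraticForm F (ι → F)} (hQ : (QuadraticMap.polarBilin Q).Nondegenerate)

/-- the long root element of a line pair, as an element of `Ω` -/
noncomputable def Phi (hn : 7 ≤ Fintype.card ι) (p : {p : (ι → F) × (ι → F) // IsLinePair Q p}) :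
    ↥(Cfsg.Omega F ⇑Q) :=
  ⟨LR hQ p.1.1 p.1.2 p.2.1 p.2.2.1 p.2.2.2.1 1, by
    rw [← T_eq_Omega hQ hn]
    exact LR_mem_T hQ _ _ _ _ _ 1⟩

theorem Phi_coe (hn : 7 ≤ Fintype.card ι) (p : {p : (ι → F) × (ι → F) // IsLinePair Q p}) :
    ((((Phi hQ hn p : ↥(Cfsg.Omega F ⇑Q)) : ↥(Cfsg.isometryGroup F ⇑Q)) :
      Matrix.GeneralLinearGroup ι F) : Matrix ι ι F) = Cfsg.siegelMatrix (⇑Q) p.1.1 p.1.2 1 := rfl

theorem Phi_ext (hn : 7 ≤ Fintype.card ι) {p p' : {p : (ι → F) × (ι → F) // IsLinePair Q p}}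
    (h : Cfsg.siegelMatrix (⇑Q) p.1.1 p.1.2 1 = Cfsg.siegelMatrix (⇑Q) p'.1.1 p'.1.2 1) :
    Phi hQ hn p = Phi hQ hn p' := by
  apply Subtype.ext
  apply Subtype.ext
  apply Units.ext
  exact h

theorem Phi_conj (hn : 7 ≤ Fintype.card ι) (h : ↥(Cfsg.Omega F ⇑Q))
    (p : {p : (ι → F) × (ι → F) // IsLinePair Q p}) :
    Phi hQ hn ⟨(((h.1 : Matrix.GeneralLinearGroup ι F) : Matrix ι ι F) *ᵥ p.1.1,
      ((h.1 : Matrix.GeneralLinearGroup ι F) : Matrix ι ι F) *ᵥ p.1.2), isLinePair_iso h.1 p.2⟩ =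
      h * Phi hQ hn p * h⁻¹ := by
  apply Subtype.ext
  rw [Subgroup.coe_mul, Subgroup.coe_mul, Subgroup.coe_inv]
  exact (conj_LR hQ h.1 p.1.1 p.1.2 p.2.1 p.2.2.1 p.2.2.2.1 1).symm

theorem integral_general (hn : 7 ≤ Fintype.card ι) {k : ℕ}
    (ρ : Representation ℂ ↥(Cfsg.Omega F ⇑Q) (Fin k → ℂ)) (hρ : ρ.IsIrreducible)
    (p0 : {p : (ι → F) × (ι → F) // IsLinePair Q p}) :
    ∃ M : ℕ, M * Nat.card (SpecialLinearGroup (Fin 2) F) =
        Nat.card {p : (ι → F) × (ι → F) // IsLinePair Q p} ∧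
      IsIntegral ℤ ((M : ℂ) * ρ.character (Phi hQ hn p0) / (k : ℂ)) := by
  classical
  have : Fintype ↥(Cfsg.Omega F ⇑Q) := Fintype.ofFinite _
  have : Fintype {p : (ι → F) × (ι → F) // IsLinePair Q p} := Fintype.ofFinite _
  have hSfin : Finite (SpecialLinearGroup (Fin 2) F) := by
    show Finite {A : Matrix (Fin 2) (Fin 2) F // A.det = 1}
    infer_instance
  set S : ℕ := Nat.card (SpecialLinearGroup (Fin 2) F) with hS
  have hSpos : 0 < S := Nat.card_pos
  -- the fibres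
  let N : ↥(Cfsg.Omega F ⇑Q) → ℕ := fun g =>
    Nat.card {p : {p : (ι → F) × (ι → F) // IsLinePair Q p} // Phi hQ hn p = g}
  have hdivN : ∀ g, S ∣ N g := by
    intro g
    have e := Equiv.subtypeSubtypeEquivSubtypeExists (fun p : (ι → F) × (ι → F) => IsLinePair Q p)
      (fun p => Phi hQ hn p = g)
    show S ∣ Nat.card {p : {p : (ι → F) × (ι → F) // IsLinePair Q p} // Phi hQ hn p = g}
    rw [Nat.card_congr e]
    refine card_dvd_of_inv {p | ∃ h : IsLinePair Q p, Phi hQ hn ⟨p, h⟩ = g} ?_ ?_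
    · rintro p ⟨h, _⟩
      exact h.2.2.2
    · rintro A p ⟨h, hg⟩
      refine ⟨isLinePair_slAct A h, ?_⟩
      rw [← hg]
      exact Phi_ext hQ hn (siegel_slAct A p)
  have hdivAll : S ∣ Nat.card {p : (ι → F) × (ι → F) // IsLinePair Q p} := by
    refine card_dvd_of_inv {p | IsLinePair Q p} ?_ ?_
    · intro p h
      exact h.2.2.2
    · intro A p h
      exact isLinePair_slAct A h
  refine ⟨Nat.card {p : (ι → F) × (ι → F) // IsLinePair Q p} / S, Nat.div_mul_cancel hdivAll, ?_⟩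
  -- class function
  have hNle : ∀ g h, N g ≤ N (h * g * h⁻¹) := by
    intro g h
    refine Nat.card_le_card_of_injective
      (fun p => ⟨⟨(((h.1 : Matrix.GeneralLinearGroup ι F) : Matrix ι ι F) *ᵥ p.1.1.1,
        ((h.1 : Matrix.GeneralLinearGroup ι F) : Matrix ι ι F) *ᵥ p.1.1.2),
          isLinePair_iso h.1 p.1.2⟩, by rw [Phi_conj hQ hn h p.1, p.2]⟩) ?_
    intro p p' hpp
    have h1 := congrArg (fun x => x.1.1) hpp
    simp only [Prod.mk.injEq] at h1
    have hinj : ∀ x y : ι → F, ((h.1 : Matrix.GeneralLinearGroup ι F) : Matrix ι ι F) *ᵥ x =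
        ((h.1 : Matrix.GeneralLinearGroup ι F) : Matrix ι ι F) *ᵥ y → x = y := by
      intro x y hxy
      have h2 : (((h.1⁻¹ : ↥(Cfsg.isometryGroup F ⇑Q)) : Matrix.GeneralLinearGroup ι F) :
          Matrix ι ι F) *ᵥ (((h.1 : Matrix.GeneralLinearGroup ι F) : Matrix ι ι F) *ᵥ x) =
          (((h.1⁻¹ : ↥(Cfsg.isometryGroup F ⇑Q)) : Matrix.GeneralLinearGroup ι F) :
          Matrix ι ι F) *ᵥ (((h.1 : Matrix.GeneralLinearGroup ι F) : Matrix ι ι F) *ᵥ y) := by
        rw [hxy]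
      rw [← mul_mulVec, ← mul_mulVec, inv_mul_cancel, one_mulVec', one_mulVec'] at h2
      exact h2
    apply Subtype.ext
    apply Subtype.ext
    exact Prod.ext (hinj _ _ h1.1) (hinj _ _ h1.2)
  have hNeq : ∀ g h, N (h * g * h⁻¹) = N g := by
    intro g h
    apply le_antisymm
    · have h1 := hNle (h * g * h⁻¹) h⁻¹
      have h2 : h⁻¹ * (h * g * h⁻¹) * h⁻¹⁻¹ = g := by group
      rw [h2] at h1
      exact h1
    · exact hNle g h
  let fZ : ↥(Cfsg.Omega F ⇑Q) → ℤ := fun g => ((N g / S : ℕ) : ℤ)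
  have hf : IsClassFunction ↥(Cfsg.Omega F ⇑Q) (fun g => (fZ g : ℂ)) := by
    intro g h
    simp only [fZ, hNeq g h]
  have key := Cfsg.Agent.Lib.Helper1.isIntegral_central_character ρ fZ hf
  rw [Module.finrank_fin_fun] at key
  -- the sum
  have hconst : ∀ p : {p : (ι → F) × (ι → F) // IsLinePair Q p},
      ρ.character (Phi hQ hn p) = ρ.character (Phi hQ hn p0) := by
    intro p
    obtain ⟨t, ht, h1, h2⟩ := T_trans_lines hQ hn p0.1.1 p0.1.2 p.1.1 p.1.2 p0.2.1 p0.2.2.1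
      p0.2.2.2.1 p.2.1 p.2.2.1 p.2.2.2.1 p0.2.2.2.2 p.2.2.2.2
    have hc := Phi_conj hQ hn ⟨t, by rw [← T_eq_Omega hQ hn]; exact ht⟩ p0
    have he : Phi hQ hn p = Phi hQ hn ⟨(((t : Matrix.GeneralLinearGroup ι F) :
        Matrix ι ι F) *ᵥ p0.1.1, ((t : Matrix.GeneralLinearGroup ι F) : Matrix ι ι F) *ᵥ p0.1.2),
        isLinePair_iso t p0.2⟩ := by
      apply Phi_ext
      simp only
      rw [h1, h2]
    rw [he, hc, Representation.char_conj]
  have hsum : (S : ℂ) * ∑ g, (fZ g : ℂ) * ρ.character g =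
      (S : ℂ) * (((Nat.card {p : (ι → F) × (ι → F) // IsLinePair Q p} / S : ℕ) : ℂ) *
        ρ.character (Phi hQ hn p0)) := by
    have h1 : (S : ℂ) * ∑ g, (fZ g : ℂ) * ρ.character g = ∑ g, (N g : ℂ) * ρ.character g := by
      rw [Finset.mul_sum]
      refine Finset.sum_congr rfl (fun g _ => ?_)
      have : (S : ℂ) * (fZ g : ℂ) = (N g : ℂ) := by
        simp only [fZ]
        rw [Int.cast_natCast, ← Nat.cast_mul, Nat.mul_div_cancel' (hdivN g)]
      rw [← mul_assoc, this]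
    have h2 : ∑ g, (N g : ℂ) * ρ.character g =
        ∑ p : {p : (ι → F) × (ι → F) // IsLinePair Q p}, ρ.character (Phi hQ hn p) := by
      rw [← Fintype.sum_fiberwise (fun p => Phi hQ hn p) (fun p => ρ.character (Phi hQ hn p))]
      refine Finset.sum_congr rfl (fun g _ => ?_)
      have : ∀ p : {p : {p : (ι → F) × (ι → F) // IsLinePair Q p} // Phi hQ hn p = g},
          ρ.character (Phi hQ hn p.1) = ρ.character g := fun p => by rw [p.2]
      rw [Finset.sum_congr rfl (fun p _ => this p), Finset.sum_const, Finset.card_univ,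
        nsmul_eq_mul, ← Nat.card_eq_fintype_card]
    rw [h1, h2, Finset.sum_congr rfl (fun p _ => hconst p), Finset.sum_const, Finset.card_univ,
      nsmul_eq_mul, ← Nat.card_eq_fintype_card, ← mul_assoc, ← Nat.cast_mul,
      Nat.mul_div_cancel' hdivAll]
  have hS0 : (S : ℂ) ≠ 0 := Nat.cast_ne_zero.mpr hSpos.ne'
  have hsum' := mul_left_cancel₀ hS0 hsum
  rw [hsum'] at key
  exact key

end main

theorem card_SL2 {F : Type u} [Field F] [Fintype F] :
    Nat.card (SpecialLinearGroup (Fin 2) F) = (Fintype.card F ^ 2 - 1) * Fintype.card F := by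
  have h := Cfsg.Agent.Lib.Helper1.card_SL_field (F := F) 2 (by norm_num)
  rw [Fin.prod_univ_two] at h
  simp only [Fin.val_zero, Fin.val_one, pow_zero, pow_one] at h
  have hq : 1 < Fintype.card F := Fintype.one_lt_card
  have h2 : Fintype.card F ^ 2 - Fintype.card F = Fintype.card F * (Fintype.card F - 1) := by
    rw [Nat.mul_sub, mul_one, sq]
  rw [h2] at h
  have hpos : 0 < Fintype.card F - 1 := by omega
  apply Nat.eq_of_mul_eq_mul_left hpos
  rw [h]
  ring

end PkINT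

section PKCONJ2
variable {F : Type u} [Field F] [Fintype F] {κ : Type} [Fintype κ] [DecidableEq κ]
variable {W₄ : QuadraticForm F (κ → F)} (hW₄ : (QuadraticMap.polarBilin W₄).Nondegenerate)

open PkINT in
/-- PK-INT: integrality of the central character on the class of long root elements -/
theorem lr_integral (h1 : 1 ≤ Fintype.card κ) {k : ℕ}
    (ρ : Representation ℂ ↥(Cfsg.Omega F ⇑(HQ (HQ (HQ W₄)))) (Fin k → ℂ)) (hρ : ρ.IsIrreducible) :
    ∃ M : ℕ, M * (Fintype.card F ^ 2 - 1) = nrm (HQ (HQ (HQ W₄))) 0 * nrm (HQ (HQ W₄)) 0 ∧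
      IsIntegral ℤ ((M : ℂ) * ρ.character (lrΩ (HQ_nondeg W₄ hW₄)) / (k : ℂ)) := by
  have hW2 := HQ_nondeg W₄ hW₄
  have hW := HQ_nondeg _ hW2
  have hV := HQ_nondeg _ hW
  have hcard : Fintype.card (Fin 2 ⊕ (Fin 2 ⊕ (Fin 2 ⊕ κ))) = 6 + Fintype.card κ := by
    simp only [Fintype.card_sum, Fintype.card_fin]
    ring
  have hn : 7 ≤ Fintype.card (Fin 2 ⊕ (Fin 2 ⊕ (Fin 2 ⊕ κ))) := by omega
  have hn5 : 5 ≤ Fintype.card (Fin 2 ⊕ (Fin 2 ⊕ (Fin 2 ⊕ κ))) := by omega
  have hp0 : IsLinePair (HQ (HQ (HQ W₄)))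
      ((mk3 1 0 0 : Fin 2 ⊕ (Fin 2 ⊕ (Fin 2 ⊕ κ)) → F), mk3 0 0 (mk3 1 0 0)) := by
    refine (isLinePair_e_iff _ _).mpr ⟨rfl, ?_, ?_⟩
    · rw [tl_mk3, HQ_e]
      ring
    · rw [tl_mk3]
      intro h
      have := congrFun h (Sum.inl 0)
      simp at this
  obtain ⟨M, hM, hint⟩ := integral_general hV hn ρ hρ ⟨_, hp0⟩
  refine ⟨M, ?_, ?_⟩
  · rw [card_linePairs _ hW hn5, card_SL2] at hM
    have hq : 0 < Fintype.card F := Fintype.card_pos
    apply Nat.eq_of_mul_eq_mul_right hq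
    calc M * (Fintype.card F ^ 2 - 1) * Fintype.card F
        = M * ((Fintype.card F ^ 2 - 1) * Fintype.card F) := by ring
      _ = nrm (HQ (HQ (HQ W₄))) 0 * (Fintype.card F * nrm (HQ (HQ W₄)) 0) := hM
      _ = nrm (HQ (HQ (HQ W₄))) 0 * nrm (HQ (HQ W₄)) 0 * Fintype.card F := by ring
  · have he : Phi hV hn ⟨_, hp0⟩ = lrΩ (HQ_nondeg W₄ hW₄) := by
      apply Subtype.ext
      rw [PkCONJ.lrΩ_coe (HQ_nondeg W₄ hW₄) hn, eich_eq_LR _ hp0.1 hp0.2.1 hp0.2.2.1]
      rfl
    rw [he] at hint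
    exact hint

end PKCONJ2

end Cfsg.Agent.Lib.Helper2.OmMin
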