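import Mathlib

set_option autoImplicit false
set_option linter.unusedVariables false

/-!
# S2346, PK-NUM: arithmetic of the minus-type tower

`j` = number of hyperbolic planes, dimension `2j+2`.
-/

namespace Cfsg.Agent.Lib.Helper2.OmMin

/-- number of nonzero singular vectors of the minus-type space of dimension `2j+2` -/
def sM (q j : ℕ) : ℕ := q ^ j * (q ^ (j + 1) - q + 1) - 1

/-- the target bound for the minus-type space of dimension `2j+2` (`n = j+1`) -/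
def dM (q j : ℕ) : ℕ := (q ^ (j + 1) + 1) * (q ^ j - q) / (q ^ 2 - 1)

namespace PkNUM

variable {q : ℕ}

theorem le_pow_succ (hq : 2 ≤ q) (j : ℕ) : q ≤ q ^ (j + 1) := by
  calc q = q ^ 1 := (pow_one q).symm
    _ ≤ q ^ (j + 1) := Nat.pow_le_pow_right (by omega) (by omega)

theorem le_pow_of_one_le (hq : 2 ≤ q) (j : ℕ) (hj : 1 ≤ j) : q ≤ q ^ j := by
  obtain ⟨k, rfl⟩ := Nat.exists_eq_add_of_le' hj
  exact le_pow_succ hq k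

theorem cast_sM (hq : 2 ≤ q) (j : ℕ) :
    ((sM q j : ℕ) : ℤ) = ((q : ℤ) ^ j - 1) * ((q : ℤ) ^ (j + 1) + 1) := by
  unfold sM
  have h1 := le_pow_succ hq j
  have h2 : 1 ≤ q ^ j * (q ^ (j + 1) - q + 1) :=
    Nat.one_le_iff_ne_zero.mpr (Nat.mul_ne_zero (pow_ne_zero _ (by omega)) (by omega))
  rw [Nat.cast_sub h2]
  push_cast [Nat.cast_sub h1]
  ring

theorem cast_sq_sub_one (hq : 2 ≤ q) : ((q ^ 2 - 1 : ℕ) : ℤ) = (q : ℤ) ^ 2 - 1 := by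
  have h1 : 1 ≤ q ^ 2 := Nat.one_le_pow _ _ (by omega)
  push_cast [Nat.cast_sub h1]
  ring

/-- the numerator of `dM`, as an integer -/
theorem cast_num (hq : 2 ≤ q) (j : ℕ) (hj : 1 ≤ j) :
    (((q ^ (j + 1) + 1) * (q ^ j - q) : ℕ) : ℤ) =
      ((q : ℤ) ^ (j + 1) + 1) * ((q : ℤ) ^ j - q) := by
  have h1 := le_pow_of_one_le hq j hj
  push_cast [Nat.cast_sub h1]
  ring

theorem int_dvd (Q : ℤ) (j : ℕ) :
    (Q ^ 2 - 1 ∣ (Q ^ (j + 1) + 1) * (Q ^ j - Q)) ∧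
      (Q ^ 2 - 1 ∣ (Q ^ (j + 1 + 1) + 1) * (Q ^ (j + 1) - Q)) := by
  induction j with
  | zero =>
    constructor
    · exact ⟨-1, by ring⟩
    · exact ⟨0, by ring⟩
  | succ j ih =>
    refine ⟨ih.2, ?_⟩
    obtain ⟨c, hc⟩ := ih.1
    refine ⟨Q ^ 4 * c + (Q ^ (j + 2) * (Q ^ 2 - 1) + Q * (Q ^ 2 + 1)), ?_⟩
    have : (Q ^ (j + 1 + 1 + 1) + 1) * (Q ^ (j + 1 + 1) - Q) =
        Q ^ 4 * ((Q ^ (j + 1) + 1) * (Q ^ j - Q)) +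
          (Q ^ 2 - 1) * (Q ^ (j + 2) * (Q ^ 2 - 1) + Q * (Q ^ 2 + 1)) := by ring
    rw [this, hc]
    ring

theorem nat_dvd (hq : 2 ≤ q) (j : ℕ) (hj : 1 ≤ j) :
    q ^ 2 - 1 ∣ (q ^ (j + 1) + 1) * (q ^ j - q) := by
  rw [← Int.natCast_dvd_natCast, cast_num hq j hj, cast_sq_sub_one hq]
  exact (int_dvd (q : ℤ) j).1

end PkNUM

open PkNUM

section PKNUM
variable {q : ℕ}

theorem dM_mul (hq : 2 ≤ q) (j : ℕ) (hj : 1 ≤ j) :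
    dM q j * (q ^ 2 - 1) = (q ^ (j + 1) + 1) * (q ^ j - q) := by
  unfold dM
  exact Nat.div_mul_cancel (nat_dvd hq j hj)

namespace PkNUM

theorem cast_dM_mul (hq : 2 ≤ q) (j : ℕ) (hj : 1 ≤ j) :
    ((dM q j : ℕ) : ℤ) * ((q : ℤ) ^ 2 - 1) = ((q : ℤ) ^ (j + 1) + 1) * ((q : ℤ) ^ j - q) := by
  rw [← cast_num hq j hj, ← cast_sq_sub_one hq, ← Nat.cast_mul, dM_mul hq j hj]

theorem sq_sub_one_pos (hq : 2 ≤ q) : 0 < q ^ 2 - 1 := by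
  have : 2 ^ 2 ≤ q ^ 2 := Nat.pow_le_pow_left hq 2
  omega

theorem int_sq_sub_one_pos (hq : 2 ≤ q) : (0 : ℤ) < (q : ℤ) ^ 2 - 1 := by
  have h := sq_sub_one_pos hq
  rw [← cast_sq_sub_one hq]
  exact_mod_cast h

/-- the recursion, valid from `j = 1` on -/
theorem dM_succ' (hq : 2 ≤ q) (j : ℕ) (hj : 1 ≤ j) : dM q (j + 1) = sM q j + dM q j + 1 := by
  have hpos := int_sq_sub_one_pos hq
  have h1 := cast_dM_mul hq (j + 1) (by omega)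
  have h2 := cast_dM_mul hq j hj
  have h3 := cast_sM hq j
  have key : ((dM q (j + 1) : ℕ) : ℤ) * ((q : ℤ) ^ 2 - 1) =
      ((sM q j + dM q j + 1 : ℕ) : ℤ) * ((q : ℤ) ^ 2 - 1) := by
    push_cast
    linear_combination h1 - h2 - ((q : ℤ) ^ 2 - 1) * h3
  have := mul_right_cancel₀ hpos.ne' key
  exact_mod_cast this

end PkNUM

theorem sM_zero (hq : 2 ≤ q) : sM q 0 = 0 := by
  unfold sM
  simp

theorem sM_succ (hq : 2 ≤ q) (j : ℕ) :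
    sM q (j + 1) = (q - 1) * q ^ (2 * j + 2) + q * sM q j + (q - 1) := by
  have h1 : 1 ≤ q := by omega
  have key : ((sM q (j + 1) : ℕ) : ℤ) =
      (((q - 1) * q ^ (2 * j + 2) + q * sM q j + (q - 1) : ℕ) : ℤ) := by
    push_cast [Nat.cast_sub h1]
    rw [cast_sM hq, cast_sM hq]
    ring
  exact_mod_cast key

theorem dM_two (hq : 2 ≤ q) : dM q 2 = q ^ 3 - q ^ 2 + q := by
  have hpos := int_sq_sub_one_pos hq
  have h1 := cast_dM_mul hq 2 (by omega)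
  have h2 : q ^ 2 ≤ q ^ 3 := Nat.pow_le_pow_right (by omega) (by omega)
  have key : ((dM q 2 : ℕ) : ℤ) * ((q : ℤ) ^ 2 - 1) =
      ((q ^ 3 - q ^ 2 + q : ℕ) : ℤ) * ((q : ℤ) ^ 2 - 1) := by
    rw [h1]
    push_cast [Nat.cast_sub h2]
    ring
  have := mul_right_cancel₀ hpos.ne' key
  exact_mod_cast this

theorem dM_succ (hq : 2 ≤ q) (j : ℕ) (hj : 2 ≤ j) : dM q (j + 1) = sM q j + dM q j + 1 :=
  dM_succ' hq j (by omega)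

theorem dM_pos (hq : 2 ≤ q) (j : ℕ) (hj : 2 ≤ j) : 1 ≤ dM q j := by
  obtain ⟨k, rfl⟩ := Nat.exists_eq_add_of_le' (show 1 ≤ j by omega)
  rw [dM_succ' hq k (by omega)]
  omega

namespace PkNUM

/-- `D + 1 ≤ s`, from `j = 1` on -/
theorem dM_lt_sM' (hq : 2 ≤ q) (j : ℕ) (hj : 1 ≤ j) : dM q j + 1 ≤ sM q j := by
  induction j, hj using Nat.le_induction with
  | base =>
    have h0 : dM q 1 = 0 := by
      unfold dM
      simp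
    have h1 : ((sM q 1 : ℕ) : ℤ) = ((q : ℤ) ^ 1 - 1) * ((q : ℤ) ^ (1 + 1) + 1) := cast_sM hq 1
    have h2 : (2 : ℤ) ≤ (q : ℤ) := by exact_mod_cast hq
    have h3 : (1 : ℤ) ≤ ((sM q 1 : ℕ) : ℤ) := by
      rw [h1, pow_one]
      have ha : (1 : ℤ) ≤ (q : ℤ) - 1 := by linarith
      have hb : (1 : ℤ) ≤ (q : ℤ) ^ (1 + 1) + 1 := by
        have : (0 : ℤ) ≤ (q : ℤ) ^ (1 + 1) := by positivity
        linarith
      exact one_le_mul_of_one_le_of_one_le ha hb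
    rw [h0]
    exact_mod_cast h3
  | succ j hj ih =>
    rw [dM_succ' hq j hj, sM_succ hq j]
    have h1 : q ^ (2 * j + 2) ≤ (q - 1) * q ^ (2 * j + 2) := Nat.le_mul_of_pos_left _ (by omega)
    have h2 : 2 * sM q j ≤ q * sM q j := Nat.mul_le_mul_right _ hq
    have h3 : 1 ≤ q ^ (2 * j + 2) := Nat.one_le_pow _ _ (by omega)
    omega

end PkNUM

/-- `D + 1 ≤ s` (used for the level `≥ 2` case) -/
theorem dM_lt_sM (hq : 2 ≤ q) (j : ℕ) (hj : 2 ≤ j) : dM q j + 1 ≤ sM q j :=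
  dM_lt_sM' hq j (by omega)

/-- the statement's expression -/
theorem dM_eq (hq : 2 ≤ q) (n : ℕ) (hn : 2 ≤ n) :
    (q ^ n + 1) * (q ^ (n - 1) - q) / (q ^ 2 - 1) = dM q (n - 1) := by
  unfold dM
  rw [Nat.sub_add_cancel (by omega : 1 ≤ n)]

/-- THE +1: `E | (q²-1)²` is impossible, `E = q^(j+2) - q² - q + 1 > (q²-1)²` (`j ≥ 2`) -/
theorem arith_minus (hq : 2 ≤ q) (j : ℕ) (hj : 2 ≤ j)
    (h : (sM q j + dM q j) * (q ^ 2 - 1) ∣ sM q (j + 1) * sM q j * q ^ (2 * j + 1)) : False := by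
  have hQ2 : (2 : ℤ) ≤ (q : ℤ) := by exact_mod_cast hq
  set Q : ℤ := (q : ℤ) with hQ
  have hZ : (((sM q j + dM q j) * (q ^ 2 - 1) : ℕ) : ℤ) ∣
      ((sM q (j + 1) * sM q j * q ^ (2 * j + 1) : ℕ) : ℤ) := Int.natCast_dvd_natCast.mpr h
  have hs := cast_sM hq j
  have hs' := cast_sM hq (j + 1)
  have hd := cast_dM_mul hq j (by omega)
  have hL : (((sM q j + dM q j) * (q ^ 2 - 1) : ℕ) : ℤ) =
      (Q ^ (j + 1) + 1) * (Q ^ (j + 2) - Q ^ 2 - Q + 1) := by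
    rw [Nat.cast_mul, Nat.cast_add, cast_sq_sub_one hq, add_mul, hd, hs]
    ring
  have hR : ((sM q (j + 1) * sM q j * q ^ (2 * j + 1) : ℕ) : ℤ) =
      (Q ^ (j + 1) + 1) * ((Q ^ (j + 1) - 1) * (Q ^ (j + 2) + 1) * (Q ^ j - 1) * Q ^ (2 * j + 1)) := by
    rw [Nat.cast_mul, Nat.cast_mul, hs, hs']
    push_cast
    ring
  rw [hL, hR] at hZ
  have hpos : (0 : ℤ) < Q ^ (j + 1) + 1 := by positivity
  have h1 : (Q ^ (j + 2) - Q ^ 2 - Q + 1) ∣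
      (Q ^ (j + 1) - 1) * (Q ^ (j + 2) + 1) * (Q ^ j - 1) * Q ^ (2 * j + 1) :=
    (mul_dvd_mul_iff_left hpos.ne').mp hZ
  have hcop : IsCoprime (Q ^ (j + 2) - Q ^ 2 - Q + 1) Q :=
    ⟨1, -(Q ^ (j + 1) - Q - 1), by ring⟩
  have h2 : (Q ^ (j + 2) - Q ^ 2 - Q + 1) ∣
      (Q ^ (j + 1) - 1) * (Q ^ (j + 2) + 1) * (Q ^ j - 1) :=
    (hcop.pow_right (n := 2 * j + 1)).dvd_of_dvd_mul_right h1
  have h3 : (Q ^ (j + 2) - Q ^ 2 - Q + 1) ∣ Q * (Q ^ 2 - 1) ^ 2 := by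
    obtain ⟨c, hc⟩ := h2
    refine ⟨Q ^ 3 * c - ((Q ^ (j + 2) - Q ^ 2 - Q + 1) ^ 2 +
      (Q ^ (j + 2) - Q ^ 2 - Q + 1) * ((Q ^ 2 - 1) + (Q ^ 2 + Q) + (Q - 1)) +
      ((Q ^ 2 - 1) * (Q ^ 2 + Q) + (Q ^ 2 + Q) * (Q - 1) + (Q - 1) * (Q ^ 2 - 1))), ?_⟩
    have e : Q * (Q ^ 2 - 1) ^ 2 =
        Q ^ 3 * ((Q ^ (j + 1) - 1) * (Q ^ (j + 2) + 1) * (Q ^ j - 1)) -
        (Q ^ (j + 2) - Q ^ 2 - Q + 1) * ((Q ^ (j + 2) - Q ^ 2 - Q + 1) ^ 2 +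
      (Q ^ (j + 2) - Q ^ 2 - Q + 1) * ((Q ^ 2 - 1) + (Q ^ 2 + Q) + (Q - 1)) +
      ((Q ^ 2 - 1) * (Q ^ 2 + Q) + (Q ^ 2 + Q) * (Q - 1) + (Q - 1) * (Q ^ 2 - 1))) := by ring
    rw [e, hc]
    ring
  have h4 : (Q ^ (j + 2) - Q ^ 2 - Q + 1) ∣ (Q ^ 2 - 1) ^ 2 := by
    rw [mul_comm] at h3
    exact hcop.dvd_of_dvd_mul_right h3
  have h5 : (0 : ℤ) < (Q ^ 2 - 1) ^ 2 := by
    have : (0 : ℤ) < Q ^ 2 - 1 := by nlinarith
    positivity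
  have h6 := Int.le_of_dvd h5 h4
  obtain ⟨k, rfl⟩ := Nat.exists_eq_add_of_le hj
  have h7 : (1 : ℤ) ≤ Q ^ k := one_le_pow₀ (by linarith)
  have h8 : Q ^ (2 + k + 2) = Q ^ 4 * Q ^ k := by ring
  rw [h8] at h6
  nlinarith [mul_le_mul_of_nonneg_left h7 (by positivity : (0 : ℤ) ≤ Q ^ 4)]

end PKNUM

end Cfsg.Agent.Lib.Helper2.OmMin
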