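import Mathlib

set_option autoImplicit false

/-!
# S2345 PK-PNUM : arithmetic of the plus-type tower (`j` = number of hyperbolic planes, dimension `2j`)
-/

namespace Cfsg.Agent.Lib.Helper2.OmMin

/-- number of nonzero singular vectors of the plus-type space of dimension `2j` -/
def sP (q j : ℕ) : ℕ := (q ^ j - 1) * (q ^ (j - 1) + 1)

/-- number of vectors of a given nonzero norm in the plus-type space of dimension `2j` -/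
def nP (q j : ℕ) : ℕ := q ^ (j - 1) * (q ^ j - 1)

/-- the target bound for the plus-type space of dimension `2j` (the statement's expression) -/
def dP (q j : ℕ) : ℕ := (q ^ j - 1) * (q ^ (j - 1) + q) / (q ^ 2 - 1)

namespace PkPNUM

variable {q : ℕ}

theorem one_le_pow' (hq : 2 ≤ q) (j : ℕ) : 1 ≤ q ^ j := Nat.one_le_pow _ _ (by omega)

theorem cast_sP (hq : 2 ≤ q) (k : ℕ) :
    ((sP q (k + 1) : ℕ) : ℤ) = ((q : ℤ) ^ (k + 1) - 1) * ((q : ℤ) ^ k + 1) := by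
  unfold sP
  rw [Nat.add_sub_cancel]
  push_cast [Nat.cast_sub (one_le_pow' hq (k + 1))]
  ring

theorem cast_nP (hq : 2 ≤ q) (k : ℕ) :
    ((nP q (k + 1) : ℕ) : ℤ) = (q : ℤ) ^ k * ((q : ℤ) ^ (k + 1) - 1) := by
  unfold nP
  rw [Nat.add_sub_cancel]
  push_cast [Nat.cast_sub (one_le_pow' hq (k + 1))]
  ring

theorem cast_sq_sub_one (hq : 2 ≤ q) : ((q ^ 2 - 1 : ℕ) : ℤ) = (q : ℤ) ^ 2 - 1 := by
  push_cast [Nat.cast_sub (one_le_pow' hq 2)]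
  ring

/-- the numerator of `dP`, as an integer -/
theorem cast_numP (hq : 2 ≤ q) (k : ℕ) :
    (((q ^ (k + 1) - 1) * (q ^ k + q) : ℕ) : ℤ) =
      ((q : ℤ) ^ (k + 1) - 1) * ((q : ℤ) ^ k + q) := by
  push_cast [Nat.cast_sub (one_le_pow' hq (k + 1))]
  ring

theorem int_dvdP (Q : ℤ) (k : ℕ) :
    (Q ^ 2 - 1 ∣ (Q ^ (k + 1) - 1) * (Q ^ k + Q)) ∧
      (Q ^ 2 - 1 ∣ (Q ^ (k + 1 + 1) - 1) * (Q ^ (k + 1) + Q)) := by
  induction k with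
  | zero =>
    constructor
    · exact ⟨1, by ring⟩
    · exact ⟨2 * Q, by ring⟩
  | succ k ih =>
    refine ⟨ih.2, ?_⟩
    obtain ⟨c, hc⟩ := ih.1
    refine ⟨Q ^ 4 * c + (-(Q ^ (k + 2) * (Q ^ 2 - 1)) + Q * (Q ^ 2 + 1)), ?_⟩
    have : (Q ^ (k + 1 + 1 + 1) - 1) * (Q ^ (k + 1 + 1) + Q) =
        Q ^ 4 * ((Q ^ (k + 1) - 1) * (Q ^ k + Q)) +
          (Q ^ 2 - 1) * (-(Q ^ (k + 2) * (Q ^ 2 - 1)) + Q * (Q ^ 2 + 1)) := by ring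
    rw [this, hc]
    ring

theorem nat_dvdP (hq : 2 ≤ q) (k : ℕ) : q ^ 2 - 1 ∣ (q ^ (k + 1) - 1) * (q ^ k + q) := by
  rw [← Int.natCast_dvd_natCast, cast_numP hq k, cast_sq_sub_one hq]
  exact (int_dvdP (q : ℤ) k).1

theorem dP_mul (hq : 2 ≤ q) (k : ℕ) :
    dP q (k + 1) * (q ^ 2 - 1) = (q ^ (k + 1) - 1) * (q ^ k + q) := by
  unfold dP
  rw [Nat.add_sub_cancel]
  exact Nat.div_mul_cancel (nat_dvdP hq k)

theorem cast_dP_mul (hq : 2 ≤ q) (k : ℕ) :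
    ((dP q (k + 1) : ℕ) : ℤ) * ((q : ℤ) ^ 2 - 1) = ((q : ℤ) ^ (k + 1) - 1) * ((q : ℤ) ^ k + q) := by
  rw [← cast_numP hq k, ← cast_sq_sub_one hq, ← Nat.cast_mul, dP_mul hq k]

theorem sq_sub_one_pos (hq : 2 ≤ q) : 0 < q ^ 2 - 1 := by
  have : 2 ^ 2 ≤ q ^ 2 := Nat.pow_le_pow_left hq 2
  omega

theorem int_sq_sub_one_pos (hq : 2 ≤ q) : (0 : ℤ) < (q : ℤ) ^ 2 - 1 := by
  have h := sq_sub_one_pos hq
  rw [← cast_sq_sub_one hq]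
  exact_mod_cast h

/-- the recursion, valid from `j = 1` on -/
theorem dP_succ' (hq : 2 ≤ q) (k : ℕ) : dP q (k + 2) = sP q (k + 1) + dP q (k + 1) + 1 := by
  have hpos := int_sq_sub_one_pos hq
  have h1 := cast_dP_mul hq (k + 1)
  have h2 := cast_dP_mul hq k
  have h3 := cast_sP hq k
  have key : ((dP q (k + 2) : ℕ) : ℤ) * ((q : ℤ) ^ 2 - 1) =
      ((sP q (k + 1) + dP q (k + 1) + 1 : ℕ) : ℤ) * ((q : ℤ) ^ 2 - 1) := by
    push_cast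
    rw [add_mul, add_mul, h2, h3]
    rw [show k + 1 + 1 = k + 2 from rfl] at h1
    rw [h1]
    ring
  have := mul_right_cancel₀ hpos.ne' key
  exact_mod_cast this

end PkPNUM

open PkPNUM

section PKPNUM
variable {q : ℕ}

theorem sP_zero : sP q 0 = 0 := by
  unfold sP
  simp

theorem nP_zero : nP q 0 = 0 := by
  unfold nP
  simp

theorem sP_succ (hq : 2 ≤ q) (j : ℕ) :
    sP q (j + 1) = (q - 1) * q ^ (2 * j) + q * sP q j + (q - 1) := by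
  have h1 : 1 ≤ q := by omega
  rcases j with _ | k
  · rw [sP_zero]
    unfold sP
    simp
    ring
  · have key : ((sP q (k + 1 + 1) : ℕ) : ℤ) =
        (((q - 1) * q ^ (2 * (k + 1)) + q * sP q (k + 1) + (q - 1) : ℕ) : ℤ) := by
      push_cast [Nat.cast_sub h1]
      rw [cast_sP hq, cast_sP hq]
      ring
    exact_mod_cast key

theorem nP_succ (hq : 2 ≤ q) (j : ℕ) :
    nP q (j + 1) = (q - 1) * q ^ (2 * j) + q * nP q j := by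
  have h1 : 1 ≤ q := by omega
  rcases j with _ | k
  · rw [nP_zero]
    unfold nP
    simp
  · have key : ((nP q (k + 1 + 1) : ℕ) : ℤ) =
        (((q - 1) * q ^ (2 * (k + 1)) + q * nP q (k + 1) : ℕ) : ℤ) := by
      push_cast [Nat.cast_sub h1]
      rw [cast_nP hq, cast_nP hq]
      ring
    exact_mod_cast key

theorem nP_le_sP (hq : 2 ≤ q) (j : ℕ) : nP q j ≤ sP q j := by
  rcases j with _ | k
  · rw [nP_zero, sP_zero]
  · unfold nP sP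
    rw [Nat.add_sub_cancel, mul_comm]
    exact Nat.mul_le_mul_left _ (Nat.le_succ _)

theorem dP_succ (hq : 2 ≤ q) (j : ℕ) (hj : 3 ≤ j) : dP q (j + 1) = sP q j + dP q j + 1 := by
  obtain ⟨k, rfl⟩ := Nat.exists_eq_add_of_le' (show 1 ≤ j by omega)
  exact dP_succ' hq k

theorem dP_pos (hq : 2 ≤ q) (j : ℕ) (hj : 3 ≤ j) : 1 ≤ dP q j := by
  obtain ⟨k, rfl⟩ := Nat.exists_eq_add_of_le' (show 2 ≤ j by omega)
  rw [dP_succ' hq k]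
  omega

/-- the base value is the `SL_4` bound of S2332 -/
theorem dP_three (hq : 2 ≤ q) : dP q 3 = (q ^ 4 - q) / (q - 1) := by
  have e1 : dP q 3 = q ^ 3 + q ^ 2 + q := by
    have hpos := int_sq_sub_one_pos hq
    have h1 := cast_dP_mul hq 2
    have key : ((dP q 3 : ℕ) : ℤ) * ((q : ℤ) ^ 2 - 1) =
        ((q ^ 3 + q ^ 2 + q : ℕ) : ℤ) * ((q : ℤ) ^ 2 - 1) := by
      rw [show (3 : ℕ) = 2 + 1 from rfl, h1]
      push_cast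
      ring
    have := mul_right_cancel₀ hpos.ne' key
    exact_mod_cast this
  have e2 : (q ^ 4 - q) / (q - 1) = q ^ 3 + q ^ 2 + q := by
    obtain ⟨m, rfl⟩ : ∃ m, q = m + 1 := ⟨q - 1, by omega⟩
    have h1 : (m + 1) ^ 4 - (m + 1) = ((m + 1) ^ 3 + (m + 1) ^ 2 + (m + 1)) * m := by
      have : (m + 1) ^ 4 = ((m + 1) ^ 3 + (m + 1) ^ 2 + (m + 1)) * m + (m + 1) := by ring
      omega
    rw [h1, Nat.add_sub_cancel, Nat.mul_div_cancel _ (by omega : 0 < m)]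
  rw [e1, e2]

/-- level `≥ 2` -/
theorem num2_plus (hq : 2 ≤ q) (j : ℕ) (hj : 3 ≤ j) : sP q j + dP q j + 1 ≤ 2 * nP q j := by
  obtain ⟨k, rfl⟩ := Nat.exists_eq_add_of_le' hj
  have hQ2 : (2 : ℤ) ≤ (q : ℤ) := by exact_mod_cast hq
  rw [← dP_succ' hq (k + 2)]
  have hpos := int_sq_sub_one_pos hq
  have h1 := cast_dP_mul hq (k + 3)
  have h2 := cast_nP hq (k + 2)
  have key : ((dP q (k + 2 + 2) : ℕ) : ℤ) * ((q : ℤ) ^ 2 - 1) ≤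
      ((2 * nP q (k + 3) : ℕ) : ℤ) * ((q : ℤ) ^ 2 - 1) := by
    rw [show k + 2 + 2 = k + 3 + 1 from rfl, h1]
    push_cast
    rw [show k + 3 = k + 2 + 1 from rfl, h2]
    set Q : ℤ := (q : ℤ) with hQ
    have ha : Q ^ 2 ≤ Q ^ (k + 2) := by
      have : (1 : ℤ) ≤ Q ^ k := one_le_pow₀ (by linarith)
      have e : Q ^ (k + 2) = Q ^ 2 * Q ^ k := by ring
      rw [e]
      nlinarith [sq_nonneg Q]
    have e1 : Q ^ (k + 2 + 1 + 1) = Q ^ 2 * Q ^ (k + 2) := by ring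
    have e2 : Q ^ (k + 2 + 1) = Q * Q ^ (k + 2) := by ring
    rw [e1, e2]
    set a : ℤ := Q ^ (k + 2) with ha'
    have h4 : (4 : ℤ) ≤ Q ^ 2 := by nlinarith
    have ha4 : (4 : ℤ) ≤ a := by linarith
    -- RHS - LHS = a² Q (Q²-2) - a (Q³ + 2Q² - Q - 2) + Q ≥ 0
    have hmain : 0 ≤ a * (a * Q * (Q ^ 2 - 2) - (Q ^ 3 + 2 * Q ^ 2 - Q - 2)) := by
      apply mul_nonneg (by linarith)
      have : Q ^ 2 * Q * (Q ^ 2 - 2) ≤ a * Q * (Q ^ 2 - 2) := by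
        apply mul_le_mul_of_nonneg_right _ (by nlinarith)
        exact mul_le_mul_of_nonneg_right ha (by linarith)
      nlinarith [mul_nonneg (by linarith : (0 : ℤ) ≤ Q - 2) (sq_nonneg Q),
        mul_nonneg (mul_nonneg (by linarith : (0 : ℤ) ≤ Q - 2) (sq_nonneg Q)) (sq_nonneg Q)]
    nlinarith
  have := le_of_mul_le_mul_right key hpos
  exact_mod_cast this

/-- THE +1 for the plus type (`j = i + 2 ≥ 3`): `(sP j + dP j)(q²-1) = (q^j-1) E`, `E = q^(j+1)+q²+q-1`;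
`E` is prime to `q` and `q³ (q^(j+1)-1)(q^j+1)(q^(j-1)+1) ≡ -q (q²-1)² (mod E)`, so `E ∣ (q²-1)²`, but
`E > (q²-1)² > 0`. -/
theorem arith_plus (hq : 2 ≤ q) (i : ℕ) (hi : 1 ≤ i)
    (h : (sP q (i + 2) + dP q (i + 2)) * (q ^ 2 - 1) ∣
      sP q (i + 3) * sP q (i + 2) * q ^ (2 * i + 3)) : False := by
  have hQ2 : (2 : ℤ) ≤ (q : ℤ) := by exact_mod_cast hq
  set Q : ℤ := (q : ℤ) with hQ
  have hZ : (((sP q (i + 2) + dP q (i + 2)) * (q ^ 2 - 1) : ℕ) : ℤ) ∣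
      ((sP q (i + 3) * sP q (i + 2) * q ^ (2 * i + 3) : ℕ) : ℤ) := Int.natCast_dvd_natCast.mpr h
  have hs : ((sP q (i + 2) : ℕ) : ℤ) = (Q ^ (i + 2) - 1) * (Q ^ (i + 1) + 1) := cast_sP hq (i + 1)
  have hs' : ((sP q (i + 3) : ℕ) : ℤ) = (Q ^ (i + 3) - 1) * (Q ^ (i + 2) + 1) := cast_sP hq (i + 2)
  have hd : ((dP q (i + 2) : ℕ) : ℤ) * (Q ^ 2 - 1) = (Q ^ (i + 2) - 1) * (Q ^ (i + 1) + Q) :=
    cast_dP_mul hq (i + 1)
  have hL : (((sP q (i + 2) + dP q (i + 2)) * (q ^ 2 - 1) : ℕ) : ℤ) =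
      (Q ^ (i + 2) - 1) * (Q ^ (i + 3) + Q ^ 2 + Q - 1) := by
    rw [Nat.cast_mul, Nat.cast_add, cast_sq_sub_one hq, add_mul, hd, hs]
    ring
  have hR : ((sP q (i + 3) * sP q (i + 2) * q ^ (2 * i + 3) : ℕ) : ℤ) =
      (Q ^ (i + 2) - 1) *
        ((Q ^ (i + 3) - 1) * (Q ^ (i + 2) + 1) * (Q ^ (i + 1) + 1) * Q ^ (2 * i + 3)) := by
    rw [Nat.cast_mul, Nat.cast_mul, hs, hs']
    push_cast
    ring
  rw [hL, hR] at hZ
  have hpos : (0 : ℤ) < Q ^ (i + 2) - 1 := by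
    have : (1 : ℤ) < Q ^ (i + 2) := one_lt_pow₀ (by linarith) (by omega)
    linarith
  have h1 : (Q ^ (i + 3) + Q ^ 2 + Q - 1) ∣
      (Q ^ (i + 3) - 1) * (Q ^ (i + 2) + 1) * (Q ^ (i + 1) + 1) * Q ^ (2 * i + 3) :=
    (mul_dvd_mul_iff_left hpos.ne').mp hZ
  have hcop : IsCoprime (Q ^ (i + 3) + Q ^ 2 + Q - 1) Q :=
    ⟨-1, Q ^ (i + 2) + Q + 1, by ring⟩
  have h2 : (Q ^ (i + 3) + Q ^ 2 + Q - 1) ∣
      (Q ^ (i + 3) - 1) * (Q ^ (i + 2) + 1) * (Q ^ (i + 1) + 1) :=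
    (hcop.pow_right (n := 2 * i + 3)).dvd_of_dvd_mul_right h1
  have h3 : (Q ^ (i + 3) + Q ^ 2 + Q - 1) ∣ Q * (Q ^ 2 - 1) ^ 2 := by
    obtain ⟨c, hc⟩ := h2
    refine ⟨((Q ^ (i + 3) + Q ^ 2 + Q - 1) ^ 2 -
      (Q ^ (i + 3) + Q ^ 2 + Q - 1) * (Q * (Q + 1) + (Q ^ 2 - 1) + (Q - 1)) +
      (Q * (Q + 1) * (Q ^ 2 - 1) + (Q ^ 2 - 1) * (Q - 1) + (Q - 1) * (Q * (Q + 1)))) -
        Q ^ 3 * c, ?_⟩
    have e : Q * (Q ^ 2 - 1) ^ 2 =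
        (Q ^ (i + 3) + Q ^ 2 + Q - 1) * ((Q ^ (i + 3) + Q ^ 2 + Q - 1) ^ 2 -
      (Q ^ (i + 3) + Q ^ 2 + Q - 1) * (Q * (Q + 1) + (Q ^ 2 - 1) + (Q - 1)) +
      (Q * (Q + 1) * (Q ^ 2 - 1) + (Q ^ 2 - 1) * (Q - 1) + (Q - 1) * (Q * (Q + 1)))) -
        Q ^ 3 * ((Q ^ (i + 3) - 1) * (Q ^ (i + 2) + 1) * (Q ^ (i + 1) + 1)) := by ring
    rw [e, hc]
    ring
  have h4 : (Q ^ (i + 3) + Q ^ 2 + Q - 1) ∣ (Q ^ 2 - 1) ^ 2 := by
    rw [mul_comm] at h3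
    exact hcop.dvd_of_dvd_mul_right h3
  have h5 : (0 : ℤ) < (Q ^ 2 - 1) ^ 2 := by
    have : (0 : ℤ) < Q ^ 2 - 1 := by nlinarith
    positivity
  have h6 := Int.le_of_dvd h5 h4
  obtain ⟨k, rfl⟩ := Nat.exists_eq_add_of_le hi
  have h7 : (1 : ℤ) ≤ Q ^ k := one_le_pow₀ (by linarith)
  have h8 : Q ^ (1 + k + 3) = Q ^ 4 * Q ^ k := by ring
  rw [h8] at h6
  nlinarith [mul_le_mul_of_nonneg_left h7 (by positivity : (0 : ℤ) ≤ Q ^ 4)]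

end PKPNUM

end Cfsg.Agent.Lib.Helper2.OmMin
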