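import Mathlib
import Cfsg.Agent.Lib.Helper2.OmMin.Defs
import Cfsg.Agent.Lib.Helper6.OmMin_H

set_option autoImplicit false
set_option linter.unusedSectionVars false

/-!
# S2346 PK-T2 : the group generated by the two Siegel radicals of `O(HQ A)` is transitive on the
non-zero vectors of each norm, for `A` nondegenerate with universal norm (explicit moves)
-/

namespace Cfsg.Agent.Lib.Helper2.OmMin

open Matrix Cfsg Cfsg.Agent.Lib.Helper2.HypExt Cfsg.Agent.Lib.Helper2.CDG

universe u

namespace PkT2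

variable {F : Type u} [Field F] {κ : Type} [Fintype κ] [DecidableEq κ]
variable {A : QuadraticForm F (κ → F)} (hA : (QuadraticMap.polarBilin A).Nondegenerate)

/-- `y` is the image of `x` under an element of the group generated by the two Siegel radicals -/
def Reach (x y : Fin 2 ⊕ κ → F) : Prop :=
  ∃ g ∈ Subgroup.closure (Set.range (qe hA) ∪ Set.range (qf hA)),
    ((g : Matrix.GeneralLinearGroup (Fin 2 ⊕ κ) F) : Matrix _ _ F) *ᵥ x = y

theorem Reach.refl (x : Fin 2 ⊕ κ → F) : Reach hA x x :=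
  ⟨1, Subgroup.one_mem _, one_mulVec' x⟩

theorem Reach.trans {x y z : Fin 2 ⊕ κ → F} (h1 : Reach hA x y) (h2 : Reach hA y z) :
    Reach hA x z := by
  obtain ⟨g, hg, rfl⟩ := h1
  obtain ⟨g', hg', rfl⟩ := h2
  exact ⟨g' * g, Subgroup.mul_mem _ hg' hg, mul_mulVec g' g x⟩

theorem Reach.symm {x y : Fin 2 ⊕ κ → F} (h1 : Reach hA x y) : Reach hA y x := by
  obtain ⟨g, hg, rfl⟩ := h1
  refine ⟨g⁻¹, Subgroup.inv_mem _ hg, ?_⟩
  rw [← mul_mulVec, inv_mul_cancel, one_mulVec']

theorem Reach.norm {x y : Fin 2 ⊕ κ → F} (h1 : Reach hA x y) : HQ A x = HQ A y := by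
  obtain ⟨g, _, rfl⟩ := h1
  exact (iso_Q g x).symm

theorem reach_qe (w : κ → F) (a b : F) (t : κ → F) :
    Reach hA (mk3 a b t) (mk3 (a - QuadraticMap.polar (⇑A) w t - A w * b) b (t + b • w)) := by
  refine ⟨qe hA w, Subgroup.subset_closure (Or.inl ⟨w, rfl⟩), ?_⟩
  rw [qe_mulVec]
  simp only [mk3_zero, mk3_one, tl_mk3]

theorem reach_qf (w : κ → F) (a b : F) (t : κ → F) :
    Reach hA (mk3 a b t) (mk3 a (b - QuadraticMap.polar (⇑A) w t - A w * a) (t + a • w)) := by
  refine ⟨qf hA w, Subgroup.subset_closure (Or.inr ⟨w, rfl⟩), ?_⟩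
  rw [qf_mulVec]
  simp only [mk3_zero, mk3_one, tl_mk3]

/-- kill the tail with `qe` when the second coordinate is non-zero -/
theorem kill_e {a b : F} (t : κ → F) (hb : b ≠ 0) : ∃ a', Reach hA (mk3 a b t) (mk3 a' b 0) := by
  have := reach_qe hA (-(b⁻¹ • t)) a b t
  have h0 : t + b • (-(b⁻¹ • t)) = 0 := by
    rw [smul_neg, smul_smul, mul_inv_cancel₀ hb, one_smul, add_neg_cancel]
  rw [h0] at this
  exact ⟨_, this⟩

/-- kill the tail with `qf` when the first coordinate is non-zero -/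
theorem kill_f {a b : F} (t : κ → F) (ha : a ≠ 0) : ∃ b', Reach hA (mk3 a b t) (mk3 a b' 0) := by
  have := reach_qf hA (-(a⁻¹ • t)) a b t
  have h0 : t + a • (-(a⁻¹ • t)) = 0 := by
    rw [smul_neg, smul_smul, mul_inv_cancel₀ ha, one_smul, add_neg_cancel]
  rw [h0] at this
  exact ⟨_, this⟩

/-- first coordinate non-zero: reach second coordinate `1` and tail `0` -/
theorem canon_a (huniv : ∀ c : F, ∃ y : κ → F, A y = c) {a b : F} (t : κ → F) (ha : a ≠ 0) :
    ∃ a', Reach hA (mk3 a b t) (mk3 a' 1 0) := by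
  obtain ⟨b', h1⟩ := kill_f hA (b := b) t ha
  obtain ⟨w, hw⟩ := huniv ((b' - 1) / a)
  have h2 := reach_qf hA w a b' 0
  have e1 : b' - QuadraticMap.polar (⇑A) w 0 - A w * a = 1 := by
    rw [QuadraticMap.polar_zero_right, hw]
    field_simp
    ring
  rw [e1] at h2
  obtain ⟨a', h3⟩ := kill_e hA (a := a) (b := 1) (0 + a • w) one_ne_zero
  exact ⟨a', (h1.trans hA h2).trans hA h3⟩

/-- second coordinate non-zero -/
theorem canon_b (huniv : ∀ c : F, ∃ y : κ → F, A y = c) {a b : F} (t : κ → F) (hb : b ≠ 0) :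
    ∃ a', Reach hA (mk3 a b t) (mk3 a' 1 0) := by
  obtain ⟨a₁, h1⟩ := kill_e hA (a := a) t hb
  obtain ⟨w, hw⟩ := huniv ((a₁ - 1) / b)
  have h2 := reach_qe hA w a₁ b 0
  have e1 : a₁ - QuadraticMap.polar (⇑A) w 0 - A w * b = 1 := by
    rw [QuadraticMap.polar_zero_right, hw]
    field_simp
    ring
  rw [e1] at h2
  obtain ⟨a', h3⟩ := canon_a hA huniv (a := 1) (b := b) (0 + b • w) one_ne_zero
  exact ⟨a', (h1.trans hA h2).trans hA h3⟩

/-- every non-zero vector reaches the canonical vector of its norm -/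
theorem canon (huniv : ∀ c : F, ∃ y : κ → F, A y = c) (x : Fin 2 ⊕ κ → F) (hx : x ≠ 0) :
    Reach hA x (mk3 (HQ A x) 1 0) := by
  have key : ∃ a', Reach hA x (mk3 a' 1 0) := by
    rw [← mk3_eta x]
    by_cases ha : x (Sum.inl 0) = 0
    · by_cases hb : x (Sum.inl 1) = 0
      · have ht : tl x ≠ 0 := by
          intro ht
          apply hx
          apply ext3
          · exact ha
          · exact hb
          · exact ht
        have : ∃ w, QuadraticMap.polar (⇑A) w (tl x) ≠ 0 := by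
          by_contra hcon
          push Not at hcon
          apply ht
          apply hA.1
          intro w
          show QuadraticMap.polar (⇑A) (tl x) w = 0
          rw [QuadraticMap.polar_comm]
          exact hcon w
        obtain ⟨w, hw⟩ := this
        have h1 := reach_qe hA w (x (Sum.inl 0)) (x (Sum.inl 1)) (tl x)
        have hne : x (Sum.inl 0) - QuadraticMap.polar (⇑A) w (tl x) - A w * x (Sum.inl 1) ≠ 0 := by
          rw [ha, hb, mul_zero, sub_zero, zero_sub]
          exact neg_ne_zero.2 hw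
        obtain ⟨a', h2⟩ := canon_a hA huniv (b := x (Sum.inl 1)) (tl x + x (Sum.inl 1) • w) hne
        exact ⟨a', h1.trans hA h2⟩
      · exact canon_b hA huniv (tl x) hb
    · exact canon_a hA huniv (tl x) ha
  obtain ⟨a', h1⟩ := key
  have h2 := h1.norm hA
  rw [HQ_apply (v := mk3 a' 1 0)] at h2
  simp only [mk3_zero, mk3_one, tl_mk3, mul_one, map_zero, add_zero] at h2
  rw [h2]
  exact h1

end PkT2

/-! ## PK-T2 : transitivity on the norm classes of `HQ A` by the group generated by the two Siegel radicals,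
for `A` nondegenerate with universal norm (explicit moves, see the design) -/
theorem trans_HQ_univ {F : Type u} [Field F] {κ : Type} [Fintype κ] [DecidableEq κ]
    {A : QuadraticForm F (κ → F)} (hA : (QuadraticMap.polarBilin A).Nondegenerate)
    (huniv : ∀ c : F, ∃ y : κ → F, A y = c) (x x' : Fin 2 ⊕ κ → F) (hx : x ≠ 0) (hx' : x' ≠ 0)
    (h : HQ A x = HQ A x') :
    ∃ g ∈ Subgroup.closure (Set.range (qe hA) ∪ Set.range (qf hA)),
      ((g : Matrix.GeneralLinearGroup (Fin 2 ⊕ κ) F) : Matrix _ _ F) *ᵥ x = x' := by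
  have h1 := PkT2.canon hA huniv x hx
  have h2 := PkT2.canon hA huniv x' hx'
  rw [← h] at h2
  exact h1.trans hA (h2.symm hA)

end Cfsg.Agent.Lib.Helper2.OmMin
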