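import Mathlib
import Cfsg.Agent.Lib.Helper2.OmMin.Defs
import Cfsg.Agent.Lib.Helper6.OmMin_H
import Cfsg.Agent.Lib.Helper1.SLn

set_option autoImplicit false
set_option linter.unusedSectionVars false

/-!
# S2345 PK-KLEIN, part 1 : the Klein correspondence `SL₄(F) → Ω⁺₆(F)`

`Ω⁺₆` is realised as `Ω(HQ (HQ (hp2 F)))` (`hp2 F` the hyperbolic plane `x₀ x₁` on `Fin 2 → F`), the
six coordinates are the entries of an alternating `4 × 4` matrix `altM x`, the quadratic form is its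
Pfaffian, and `g ∈ SL₄` acts by `A ↦ g A gᵀ`.
-/

namespace Cfsg.Agent.Lib.Helper2.OmMin

open Matrix Cfsg Cfsg.Agent.Lib.Helper2.HypExt Cfsg.Agent.Lib.Helper2.CDG
open Cfsg.Agent.Lib.Helper2.Siegel

universe u

/-- the hyperbolic plane `x₀ x₁` on `Fin 2 → F` -/
noncomputable def hp2 (F : Type u) [Field F] : QuadraticForm F (Fin 2 → F) :=
  QuadraticMap.linMulLin (LinearMap.proj 0) (LinearMap.proj 1)

theorem hp2_apply {F : Type u} [Field F] (v : Fin 2 → F) : hp2 F v = v 0 * v 1 := rfl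

theorem hp2_polar {F : Type u} [Field F] (v v' : Fin 2 → F) :
    QuadraticMap.polar (⇑(hp2 F)) v v' = v 0 * v' 1 + v' 0 * v 1 := by
  unfold QuadraticMap.polar
  rw [hp2_apply, hp2_apply, hp2_apply]
  simp only [Pi.add_apply]
  ring

theorem hp2_nondeg (F : Type u) [Field F] : (QuadraticMap.polarBilin (hp2 F)).Nondegenerate := by
  have hleft : ∀ v : Fin 2 → F, (∀ v', QuadraticMap.polar (⇑(hp2 F)) v v' = 0) → v = 0 := by
    intro v hv
    have e0 := hv ![1, 0]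
    have e1 := hv ![0, 1]
    rw [hp2_polar] at e0 e1
    simp only [Matrix.cons_val_zero, Matrix.cons_val_one, mul_zero, mul_one, one_mul, zero_mul,
      zero_add, add_zero] at e0 e1
    funext i
    fin_cases i
    · exact e1
    · exact e0
  constructor
  · intro v hv
    exact hleft v hv
  · intro v hv
    apply hleft v
    intro v'
    rw [QuadraticMap.polar_comm]
    exact hv v'

namespace PkKLEIN

variable {F : Type u} [Field F]

/-- the index type of `HQ (HQ (hp2 F))` -/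
abbrev I6 := Fin 2 ⊕ (Fin 2 ⊕ Fin 2)

/-- the six-dimensional form of plus type -/
noncomputable abbrev Q6 (F : Type u) [Field F] : QuadraticForm F (I6 → F) := HQ (HQ (hp2 F))

theorem Q6_nondeg (F : Type u) [Field F] : (QuadraticMap.polarBilin (Q6 F)).Nondegenerate :=
  HQ_nondeg _ (HQ_nondeg _ (hp2_nondeg F))

theorem Q6_apply (x : I6 → F) : Q6 F x = x (Sum.inl 0) * x (Sum.inl 1) +
    (x (Sum.inr (Sum.inl 0)) * x (Sum.inr (Sum.inl 1)) +
      x (Sum.inr (Sum.inr 0)) * x (Sum.inr (Sum.inr 1))) := by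
  rw [HQ_apply, HQ_apply, hp2_apply]
  rfl

/-- the alternating matrix of a vector -/
def altM (x : I6 → F) : Matrix (Fin 4) (Fin 4) F :=
  !![0, x (Sum.inl 0), x (Sum.inr (Sum.inl 0)), x (Sum.inr (Sum.inr 0));
     -x (Sum.inl 0), 0, x (Sum.inr (Sum.inr 1)), -x (Sum.inr (Sum.inl 1));
     -x (Sum.inr (Sum.inl 0)), -x (Sum.inr (Sum.inr 1)), 0, x (Sum.inl 1);
     -x (Sum.inr (Sum.inr 0)), x (Sum.inr (Sum.inl 1)), -x (Sum.inl 1), 0]

/-- the vector of a matrix -/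
def altV (B : Matrix (Fin 4) (Fin 4) F) : I6 → F :=
  mk3 (B 0 1) (B 2 3) (mk3 (B 0 2) (B 3 1) ![B 0 3, B 1 2])

/-- alternating matrices -/
def IsAlt (B : Matrix (Fin 4) (Fin 4) F) : Prop := (∀ i j, B j i = -B i j) ∧ ∀ i, B i i = 0

theorem altM_01 (x : I6 → F) : altM x 0 1 = x (Sum.inl 0) := rfl
theorem altM_02 (x : I6 → F) : altM x 0 2 = x (Sum.inr (Sum.inl 0)) := rfl
theorem altM_03 (x : I6 → F) : altM x 0 3 = x (Sum.inr (Sum.inr 0)) := rfl
theorem altM_12 (x : I6 → F) : altM x 1 2 = x (Sum.inr (Sum.inr 1)) := rfl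
theorem altM_13 (x : I6 → F) : altM x 1 3 = -x (Sum.inr (Sum.inl 1)) := rfl
theorem altM_23 (x : I6 → F) : altM x 2 3 = x (Sum.inl 1) := rfl

theorem altV_0 (B : Matrix (Fin 4) (Fin 4) F) : altV B (Sum.inl 0) = B 0 1 := rfl
theorem altV_1 (B : Matrix (Fin 4) (Fin 4) F) : altV B (Sum.inl 1) = B 2 3 := rfl
theorem altV_2 (B : Matrix (Fin 4) (Fin 4) F) : altV B (Sum.inr (Sum.inl 0)) = B 0 2 := rfl
theorem altV_3 (B : Matrix (Fin 4) (Fin 4) F) : altV B (Sum.inr (Sum.inl 1)) = B 3 1 := rfl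
theorem altV_4 (B : Matrix (Fin 4) (Fin 4) F) : altV B (Sum.inr (Sum.inr 0)) = B 0 3 := rfl
theorem altV_5 (B : Matrix (Fin 4) (Fin 4) F) : altV B (Sum.inr (Sum.inr 1)) = B 1 2 := rfl

/-- extensionality in the six coordinates -/
theorem ext6 {x y : I6 → F} (h0 : x (Sum.inl 0) = y (Sum.inl 0)) (h1 : x (Sum.inl 1) = y (Sum.inl 1))
    (h2 : x (Sum.inr (Sum.inl 0)) = y (Sum.inr (Sum.inl 0)))
    (h3 : x (Sum.inr (Sum.inl 1)) = y (Sum.inr (Sum.inl 1)))
    (h4 : x (Sum.inr (Sum.inr 0)) = y (Sum.inr (Sum.inr 0)))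
    (h5 : x (Sum.inr (Sum.inr 1)) = y (Sum.inr (Sum.inr 1))) : x = y := by
  funext i
  rcases i with i | i | i
  · fin_cases i
    · exact h0
    · exact h1
  · fin_cases i
    · exact h2
    · exact h3
  · fin_cases i
    · exact h4
    · exact h5

theorem isAlt_altM (x : I6 → F) : IsAlt (altM x) := by
  constructor
  · intro i j
    fin_cases i <;> fin_cases j <;> simp [altM]
  · intro i
    fin_cases i <;> simp [altM]

theorem conj_apply (g A : Matrix (Fin 4) (Fin 4) F) (i j : Fin 4) :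
    (g * A * gᵀ) i j = ∑ l, ∑ k, g i k * A k l * g j l := by
  simp only [Matrix.mul_apply, Matrix.transpose_apply, Finset.sum_mul]

theorem conj_alt_apply {A : Matrix (Fin 4) (Fin 4) F} (hA : IsAlt A) (g : Matrix (Fin 4) (Fin 4) F)
    (i j : Fin 4) :
    (g * A * gᵀ) i j = (g i 0 * g j 1 - g i 1 * g j 0) * A 0 1 +
      (g i 0 * g j 2 - g i 2 * g j 0) * A 0 2 + (g i 0 * g j 3 - g i 3 * g j 0) * A 0 3 +
      (g i 1 * g j 2 - g i 2 * g j 1) * A 1 2 + (g i 1 * g j 3 - g i 3 * g j 1) * A 1 3 +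
      (g i 2 * g j 3 - g i 3 * g j 2) * A 2 3 := by
  rw [conj_apply]
  simp only [Fin.sum_univ_four]
  rw [hA.1 0 1, hA.1 0 2, hA.1 0 3, hA.1 1 2, hA.1 1 3, hA.1 2 3, hA.2 0, hA.2 1, hA.2 2, hA.2 3]
  ring

theorem isAlt_conj {A : Matrix (Fin 4) (Fin 4) F} (hA : IsAlt A) (g : Matrix (Fin 4) (Fin 4) F) :
    IsAlt (g * A * gᵀ) := by
  constructor
  · intro i j
    rw [conj_alt_apply hA, conj_alt_apply hA]
    ring
  · intro i
    rw [conj_alt_apply hA]
    ring

theorem altV_altM (x : I6 → F) : altV (altM x) = x := by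
  apply ext6 <;> rfl

theorem altM_altV {B : Matrix (Fin 4) (Fin 4) F} (hB : IsAlt B) : altM (altV B) = B := by
  ext i j
  fin_cases i <;> fin_cases j <;> simp [altM, altV, hB.2]
  all_goals exact (hB.1 _ _).symm

theorem altM_add (x y : I6 → F) : altM (x + y) = altM x + altM y := by
  ext i j
  fin_cases i <;> fin_cases j <;> simp [altM] <;> ring

theorem altM_smul (c : F) (x : I6 → F) : altM (c • x) = c • altM x := by
  ext i j
  fin_cases i <;> fin_cases j <;> simp [altM]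

theorem altV_add (B B' : Matrix (Fin 4) (Fin 4) F) : altV (B + B') = altV B + altV B' := by
  apply ext6 <;> simp only [Pi.add_apply, altV_0, altV_1, altV_2, altV_3, altV_4, altV_5,
    Matrix.add_apply]

theorem altV_smul (c : F) (B : Matrix (Fin 4) (Fin 4) F) : altV (c • B) = c • altV B := by
  apply ext6 <;> simp only [Pi.smul_apply, altV_0, altV_1, altV_2, altV_3, altV_4, altV_5,
    Matrix.smul_apply]

theorem det4 (g : Matrix (Fin 4) (Fin 4) F) : g.det =
    g 0 0 * (g 1 1 * (g 2 2 * g 3 3 - g 2 3 * g 3 2) - g 1 2 * (g 2 1 * g 3 3 - g 2 3 * g 3 1)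
      + g 1 3 * (g 2 1 * g 3 2 - g 2 2 * g 3 1))
    - g 0 1 * (g 1 0 * (g 2 2 * g 3 3 - g 2 3 * g 3 2) - g 1 2 * (g 2 0 * g 3 3 - g 2 3 * g 3 0)
      + g 1 3 * (g 2 0 * g 3 2 - g 2 2 * g 3 0))
    + g 0 2 * (g 1 0 * (g 2 1 * g 3 3 - g 2 3 * g 3 1) - g 1 1 * (g 2 0 * g 3 3 - g 2 3 * g 3 0)
      + g 1 3 * (g 2 0 * g 3 1 - g 2 1 * g 3 0))
    - g 0 3 * (g 1 0 * (g 2 1 * g 3 2 - g 2 2 * g 3 1) - g 1 1 * (g 2 0 * g 3 2 - g 2 2 * g 3 0)
      + g 1 2 * (g 2 0 * g 3 1 - g 2 1 * g 3 0)) := by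
  rw [Matrix.det_succ_row_zero]
  simp only [Fin.sum_univ_four, Matrix.det_fin_three, Matrix.submatrix_apply]
  simp [Fin.succAbove, Fin.lt_def]
  ring

/-- the Pfaffian -/
def pf (B : Matrix (Fin 4) (Fin 4) F) : F := B 0 1 * B 2 3 - B 0 2 * B 1 3 + B 0 3 * B 1 2

theorem pf_conj {A : Matrix (Fin 4) (Fin 4) F} (hA : IsAlt A) (g : Matrix (Fin 4) (Fin 4) F) :
    pf (g * A * gᵀ) = g.det * pf A := by
  unfold pf
  simp only [conj_alt_apply hA]
  rw [det4]
  ring

theorem Q6_altV {B : Matrix (Fin 4) (Fin 4) F} (hB : IsAlt B) : Q6 F (altV B) = pf B := by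
  rw [Q6_apply, altV_0, altV_1, altV_2, altV_3, altV_4, altV_5, pf, hB.1 1 3]
  ring

theorem pf_altM (x : I6 → F) : pf (altM x) = Q6 F x := by
  rw [Q6_apply, pf, altM_01, altM_02, altM_03, altM_12, altM_13, altM_23]
  ring

/-- the action of a `4 × 4` matrix on the six-dimensional space, as a linear map -/
def lamL (g : Matrix (Fin 4) (Fin 4) F) : (I6 → F) →ₗ[F] (I6 → F) where
  toFun x := altV (g * altM x * gᵀ)
  map_add' x y := by
    rw [altM_add, Matrix.mul_add, Matrix.add_mul, altV_add]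
  map_smul' c x := by
    rw [altM_smul, Matrix.mul_smul, Matrix.smul_mul, altV_smul]
    rfl

theorem lamL_apply (g : Matrix (Fin 4) (Fin 4) F) (x : I6 → F) :
    lamL g x = altV (g * altM x * gᵀ) := rfl

/-- the matrix of the action -/
noncomputable def kleinMat (g : Matrix (Fin 4) (Fin 4) F) : Matrix I6 I6 F :=
  LinearMap.toMatrix' (lamL g)

theorem kleinMat_mulVec (g : Matrix (Fin 4) (Fin 4) F) (x : I6 → F) :
    kleinMat g *ᵥ x = altV (g * altM x * gᵀ) := by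
  unfold kleinMat
  rw [LinearMap.toMatrix'_mulVec, lamL_apply]

theorem altM_kleinMat (g : Matrix (Fin 4) (Fin 4) F) (x : I6 → F) :
    altM (kleinMat g *ᵥ x) = g * altM x * gᵀ := by
  rw [kleinMat_mulVec, altM_altV (isAlt_conj (isAlt_altM x) g)]

theorem Q6_kleinMat (g : Matrix (Fin 4) (Fin 4) F) (x : I6 → F) :
    Q6 F (kleinMat g *ᵥ x) = g.det * Q6 F x := by
  rw [kleinMat_mulVec, Q6_altV (isAlt_conj (isAlt_altM x) g), pf_conj (isAlt_altM x), pf_altM]

/-- the Klein map into the isometry group -/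
noncomputable def kleinO (g : Matrix.SpecialLinearGroup (Fin 4) F) :
    ↥(Cfsg.isometryGroup F ⇑(Q6 F)) :=
  mkIso (Q6_nondeg F) (kleinMat (g : Matrix (Fin 4) (Fin 4) F)) (fun x => by
    rw [Q6_kleinMat, g.2, one_mul])

theorem kleinO_mulVec (g : Matrix.SpecialLinearGroup (Fin 4) F) (x : I6 → F) :
    ((kleinO g : Matrix.GeneralLinearGroup I6 F) : Matrix I6 I6 F) *ᵥ x =
      altV ((g : Matrix (Fin 4) (Fin 4) F) * altM x * (g : Matrix (Fin 4) (Fin 4) F)ᵀ) := by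
  unfold kleinO
  rw [mkIso_coe, kleinMat_mulVec]

theorem altM_kleinO (g : Matrix.SpecialLinearGroup (Fin 4) F) (x : I6 → F) :
    altM (((kleinO g : Matrix.GeneralLinearGroup I6 F) : Matrix I6 I6 F) *ᵥ x) =
      (g : Matrix (Fin 4) (Fin 4) F) * altM x * (g : Matrix (Fin 4) (Fin 4) F)ᵀ := by
  rw [kleinO_mulVec, altM_altV (isAlt_conj (isAlt_altM x) _)]

/-- the Klein homomorphism `SL₄(F) →* O(Q6)` -/
noncomputable def kleinHom (F : Type u) [Field F] :
    Matrix.SpecialLinearGroup (Fin 4) F →* ↥(Cfsg.isometryGroup F ⇑(Q6 F)) where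
  toFun := kleinO
  map_one' := by
    apply iso_ext
    intro x
    rw [kleinO_mulVec, one_mulVec', Matrix.SpecialLinearGroup.coe_one, Matrix.one_mul,
      Matrix.transpose_one, Matrix.mul_one, altV_altM]
  map_mul' g h := by
    apply iso_ext
    intro x
    rw [mul_mulVec, kleinO_mulVec g, altM_kleinO h, kleinO_mulVec, Matrix.SpecialLinearGroup.coe_mul,
      Matrix.transpose_mul]
    simp only [Matrix.mul_assoc]

theorem kleinHom_apply (g : Matrix.SpecialLinearGroup (Fin 4) F) : kleinHom F g = kleinO g := rfl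

theorem kleinHom_mem_Omega (g : Matrix.SpecialLinearGroup (Fin 4) F) :
    kleinHom F g ∈ Cfsg.Omega F ⇑(Q6 F) := by
  have h1 : g ∈ commutator (Matrix.SpecialLinearGroup (Fin 4) F) := by
    rw [Cfsg.Agent.Lib.Helper1.commutator_SL_eq_top 4 (by norm_num)]
    exact Subgroup.mem_top g
  have h2 : (commutator (Matrix.SpecialLinearGroup (Fin 4) F)).map (kleinHom F) ≤
      commutator ↥(Cfsg.isometryGroup F ⇑(Q6 F)) := by
    rw [commutator_def, commutator_def, Subgroup.map_commutator]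
    exact Subgroup.commutator_mono le_top le_top
  exact h2 (Subgroup.mem_map_of_mem _ h1)

/-- the Klein homomorphism `SL₄(F) →* Ω(Q6)` -/
noncomputable def kleinΩ (F : Type u) [Field F] :
    Matrix.SpecialLinearGroup (Fin 4) F →* ↥(Cfsg.Omega F ⇑(Q6 F)) :=
  (kleinHom F).codRestrict (Cfsg.Omega F ⇑(Q6 F)) kleinHom_mem_Omega

theorem kleinΩ_coe (g : Matrix.SpecialLinearGroup (Fin 4) F) :
    ((kleinΩ F g : ↥(Cfsg.Omega F ⇑(Q6 F))) : ↥(Cfsg.isometryGroup F ⇑(Q6 F))) = kleinHom F g := rfl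

end PkKLEIN

end Cfsg.Agent.Lib.Helper2.OmMin
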