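import Mathlib
import Cfsg.Agent.Lib.Helper1.OmPlus_KLEIN1
import Cfsg.Agent.Lib.Helper6.OmMin_GEN
import Cfsg.Agent.Lib.Helper2.LongRoot7

set_option autoImplicit false
set_option linter.unusedSectionVars false

/-!
# S2345 PK-KLEIN, part 2 : the Klein homomorphism `SL₄(F) → Ω⁺₆(F)` is onto
-/

namespace Cfsg.Agent.Lib.Helper2.OmMin

open Matrix Cfsg Cfsg.Agent.Lib.Helper2.HypExt Cfsg.Agent.Lib.Helper2.CDG
open Cfsg.Agent.Lib.Helper2.Siegel Cfsg.Agent.Lib.Helper2.LongRoot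

universe u

namespace PkKLEIN

variable {F : Type u} [Field F]

/-- the block unipotent matrix `[[1,B],[0,1]]` attached to `w` -/
def upperM (w : Fin 2 ⊕ Fin 2 → F) : Matrix (Fin 4) (Fin 4) F :=
  !![1, 0, w (Sum.inr 0), -w (Sum.inl 0);
     0, 1, -w (Sum.inl 1), -w (Sum.inr 1);
     0, 0, 1, 0;
     0, 0, 0, 1]

/-- the block unipotent matrix `[[1,0],[C,1]]` attached to `w` -/
def lowerM (w : Fin 2 ⊕ Fin 2 → F) : Matrix (Fin 4) (Fin 4) F :=
  !![1, 0, 0, 0;
     0, 1, 0, 0;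
     -w (Sum.inr 1), w (Sum.inl 0), 1, 0;
     w (Sum.inl 1), w (Sum.inr 0), 0, 1]

theorem det_upperM (w : Fin 2 ⊕ Fin 2 → F) : (upperM w).det = 1 := by
  rw [det4]
  simp [upperM]

theorem det_lowerM (w : Fin 2 ⊕ Fin 2 → F) : (lowerM w).det = 1 := by
  rw [det4]
  simp [lowerM]

/-- the elements of `SL₄` -/
def upperS (w : Fin 2 ⊕ Fin 2 → F) : Matrix.SpecialLinearGroup (Fin 4) F := ⟨upperM w, det_upperM w⟩
def lowerS (w : Fin 2 ⊕ Fin 2 → F) : Matrix.SpecialLinearGroup (Fin 4) F := ⟨lowerM w, det_lowerM w⟩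

theorem kleinO_upperS (w : Fin 2 ⊕ Fin 2 → F) :
    kleinO (upperS w) = qe (HQ_nondeg _ (hp2_nondeg F)) w := by
  apply iso_ext
  intro x
  rw [kleinO_mulVec, qe_mulVec]
  show altV (upperM w * altM x * (upperM w)ᵀ) = _
  apply ext6
  · rw [altV_0, conj_alt_apply (isAlt_altM x), altM_01, altM_02, altM_03, altM_12, altM_13, altM_23,
      mk3_zero, HQ_polar, hp2_polar, HQ_apply, hp2_apply]
    simp [upperM, tl]
    ring
  · rw [altV_1, conj_alt_apply (isAlt_altM x), altM_01, altM_02, altM_03, altM_12, altM_13, altM_23,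
      mk3_one]
    simp [upperM]
  · rw [altV_2, conj_alt_apply (isAlt_altM x), altM_01, altM_02, altM_03, altM_12, altM_13, altM_23,
      mk3_inr]
    simp [upperM, tl]
    ring
  · rw [altV_3, conj_alt_apply (isAlt_altM x), altM_01, altM_02, altM_03, altM_12, altM_13, altM_23,
      mk3_inr]
    simp [upperM, tl]
    ring
  · rw [altV_4, conj_alt_apply (isAlt_altM x), altM_01, altM_02, altM_03, altM_12, altM_13, altM_23,
      mk3_inr]
    simp [upperM, tl]
    ring
  · rw [altV_5, conj_alt_apply (isAlt_altM x), altM_01, altM_02, altM_03, altM_12, altM_13, altM_23,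
      mk3_inr]
    simp [upperM, tl]
    ring

theorem kleinO_lowerS (w : Fin 2 ⊕ Fin 2 → F) :
    kleinO (lowerS w) = qf (HQ_nondeg _ (hp2_nondeg F)) w := by
  apply iso_ext
  intro x
  rw [kleinO_mulVec, qf_mulVec]
  show altV (lowerM w * altM x * (lowerM w)ᵀ) = _
  apply ext6
  · rw [altV_0, conj_alt_apply (isAlt_altM x), altM_01, altM_02, altM_03, altM_12, altM_13, altM_23,
      mk3_zero]
    simp [lowerM]
  · rw [altV_1, conj_alt_apply (isAlt_altM x), altM_01, altM_02, altM_03, altM_12, altM_13, altM_23,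
      mk3_one, HQ_polar, hp2_polar, HQ_apply, hp2_apply]
    simp [lowerM, tl]
    ring
  · rw [altV_2, conj_alt_apply (isAlt_altM x), altM_01, altM_02, altM_03, altM_12, altM_13, altM_23,
      mk3_inr]
    simp [lowerM, tl]
    ring
  · rw [altV_3, conj_alt_apply (isAlt_altM x), altM_01, altM_02, altM_03, altM_12, altM_13, altM_23,
      mk3_inr]
    simp [lowerM, tl]
    ring
  · rw [altV_4, conj_alt_apply (isAlt_altM x), altM_01, altM_02, altM_03, altM_12, altM_13, altM_23,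
      mk3_inr]
    simp [lowerM, tl]
    ring
  · rw [altV_5, conj_alt_apply (isAlt_altM x), altM_01, altM_02, altM_03, altM_12, altM_13, altM_23,
      mk3_inr]
    simp [lowerM, tl]
    ring

/-- the Siegel radicals lie in the range of the Klein homomorphism -/
theorem KK_le_range :
    PkGEN.KK (HQ_nondeg _ (hp2_nondeg F)) ≤ (kleinHom F).range := by
  unfold PkGEN.KK
  rw [Subgroup.closure_le]
  rintro g (⟨w, rfl⟩ | ⟨w, rfl⟩)
  · exact ⟨upperS w, kleinO_upperS w⟩
  · exact ⟨lowerS w, kleinO_lowerS w⟩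

/-- `Ω(Q6)` lies in the group generated by the two Siegel radicals -/
theorem Omega_le_KK [Fintype F] :
    Cfsg.Omega F ⇑(Q6 F) ≤ PkGEN.KK (HQ_nondeg _ (hp2_nondeg F)) := by
  have h6 : 5 ≤ Fintype.card I6 := by
    simp [Fintype.card_sum]
  refine (commutator_le_T (Q6_nondeg F) h6).trans ?_
  unfold T
  rw [Subgroup.closure_le]
  rintro g ⟨u, v, c, hu, hv, huv, hg⟩
  rw [eq_LR_of_coe (Q6_nondeg F) g u v hu hv huv c hg, LR_eq_eich (Q6_nondeg F) hu hv huv c]
  exact PkGEN.eich_mem_KK (HQ_nondeg _ (hp2_nondeg F)) u (c • v)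

theorem kleinΩ_surjective [Fintype F] : Function.Surjective (kleinΩ F) := by
  intro y
  obtain ⟨g, hg⟩ := KK_le_range (Omega_le_KK y.2)
  exact ⟨g, Subtype.ext hg⟩

end PkKLEIN

end Cfsg.Agent.Lib.Helper2.OmMin
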