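import Mathlib
import Cfsg.Agent.Lib.Helper4.SLMin.Defs

set_option autoImplicit false

/-!
# S2332 PK-N: arithmetic of `bnd q n = (q^n - q)/(q - 1)` and the divisibility contradictions
-/

namespace Cfsg.Agent.Lib.Helper4.SLMin

namespace PkN

/-- the geometric sum `1 + Q + ... + Q^(n-1)` -/
def gs (Q n : ℕ) : ℕ := ∑ i ∈ Finset.range n, Q ^ i

theorem gs_mul {Q : ℕ} (hQ : 2 ≤ Q) (n : ℕ) : gs Q n * (Q - 1) = Q ^ n - 1 :=
  geom_sum_mul_of_one_le (by omega) n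

theorem gs_mul_int (Q n : ℕ) : (gs Q n : ℤ) * ((Q : ℤ) - 1) = (Q : ℤ) ^ n - 1 := by
  unfold gs
  push_cast
  exact geom_sum_mul (Q : ℤ) n

theorem gs_succ (Q n : ℕ) : gs Q (n + 1) = Q * gs Q n + 1 := by
  unfold gs
  rw [Finset.sum_range_succ', Finset.mul_sum]
  simp [pow_succ, mul_comm]

/-- `bnd Q (n+1) = Q * (1 + Q + ... + Q^(n-1))` -/
theorem bnd_eq {Q : ℕ} (hQ : 2 ≤ Q) (n : ℕ) : bnd Q (n + 1) = Q * gs Q n := by
  unfold bnd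
  have h1 : Q ^ (n + 1) - Q = Q * gs Q n * (Q - 1) := by
    rw [mul_assoc, gs_mul hQ, Nat.mul_sub, mul_one, pow_succ, mul_comm]
  rw [h1]
  exact Nat.mul_div_cancel _ (by omega)

theorem gs_pos (Q n : ℕ) : 1 ≤ gs Q (n + 1) := by
  rw [gs_succ]; omega

end PkN

open PkN

theorem bnd_succ {Q n : ℕ} (hQ : 2 ≤ Q) (hn : 1 ≤ n) : bnd Q (n + 1) = bnd Q n + Q ^ n := by
  obtain ⟨k, rfl⟩ : ∃ k, n = k + 1 := ⟨n - 1, by omega⟩
  rw [bnd_eq hQ, bnd_eq hQ, gs_succ]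
  have h := gs_mul hQ (k + 1)
  rw [gs_succ] at h
  -- Q * (Q * gs k + 1) = Q * gs k + Q^(k+1)
  have h2 : 1 ≤ Q ^ (k + 1) := Nat.one_le_pow _ _ (by omega)
  zify [h2, (by omega : 1 ≤ Q)] at h ⊢
  linear_combination h

theorem bnd_le_two_mul {Q n : ℕ} (hQ : 2 ≤ Q) (_hn : 1 ≤ n) :
    bnd Q (n + 1) ≤ 2 * (Q ^ n - 1) := by
  rw [bnd_eq hQ]
  have h := gs_mul hQ n
  have h2 : 1 ≤ Q ^ n := Nat.one_le_pow _ _ (by omega)
  -- Q * g ≤ 2 (Q-1) g  since Q ≤ 2(Q-1)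
  calc Q * gs Q n ≤ 2 * (Q - 1) * gs Q n := by
        apply Nat.mul_le_mul_right; omega
    _ = 2 * (gs Q n * (Q - 1)) := by ring
    _ = 2 * (Q ^ n - 1) := by rw [h]

namespace PkN

/-- the integer core of N1 -/
theorem int_core (Q s k : ℤ) (hQ : 2 ≤ Q) (hs : Q ^ 2 + Q + 1 ≤ s)
    (h : (Q * s + 1) * ((Q - 1) * s) * (s - 2) = (Q * s - 1) * k) : False := by
  have hdz : (Q * s - 1) ∣ 2 * (Q - 1) * (2 * Q - 1) := by
    refine ⟨(Q - 1) * ((Q * s) ^ 2 + (2 - 2 * Q) * (Q * s) + (2 - 4 * Q)) - Q ^ 2 * k, ?_⟩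
    linear_combination (-(Q ^ 2)) * h
  have hpos : (0 : ℤ) < 2 * (Q - 1) * (2 * Q - 1) := by
    have h1 : (0 : ℤ) < Q - 1 := by linarith
    have h2 : (0 : ℤ) < 2 * Q - 1 := by linarith
    positivity
  have hle := Int.le_of_dvd hpos hdz
  have h3 : Q * (Q ^ 2 + Q + 1) ≤ Q * s := mul_le_mul_of_nonneg_left hs (by linarith)
  have h4 : (0 : ℤ) ≤ (Q - 2) * (Q ^ 2 - Q + 5) := by
    apply mul_nonneg (by linarith)
    nlinarith
  nlinarith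

end PkN

/-- N1 -/
theorem arith_general {Q m N f : ℕ} (hQ : 2 ≤ Q) (hm : 2 ≤ m)
    (hN : N * (Q - 1) = (Q ^ (m + 2) - 1) * (Q ^ (m + 1) - 1)) (hf : f = bnd Q (m + 1))
    (hdvd : (f + Q ^ (m + 1) - 1) ∣ N * (f - 1)) : False := by
  set s := gs Q (m + 1) with hs
  have hs1 : s * (Q - 1) = Q ^ (m + 1) - 1 := gs_mul hQ (m + 1)
  have hs2 : gs Q (m + 2) * (Q - 1) = Q ^ (m + 2) - 1 := gs_mul hQ (m + 2)
  have hs3 : gs Q (m + 2) = Q * s + 1 := gs_succ Q (m + 1)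
  have hs4 : s = Q * gs Q m + 1 := gs_succ Q m
  have hQ1 : 0 < Q - 1 := by omega
  -- N = (Q s + 1) (Q - 1) s
  have hNeq : N = (Q * s + 1) * ((Q - 1) * s) := by
    apply Nat.eq_of_mul_eq_mul_right hQ1
    rw [hN, ← hs2, ← hs1, hs3]
    ring
  -- f = s - 1
  have hfeq : f = s - 1 := by
    rw [hf, bnd_eq hQ, hs4]; omega
  have hs_ge : Q ^ 2 + Q + 1 ≤ s := by
    have h1 : gs Q 3 ≤ gs Q (m + 1) := by
      unfold gs
      apply Finset.sum_le_sum_of_subset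
      intro i hi
      simp only [Finset.mem_range] at hi ⊢
      omega
    have h3 : gs Q 3 = Q ^ 2 + Q + 1 := by
      unfold gs
      simp [Finset.sum_range_succ]
      ring
    omega
  have hQs2 : 2 * 2 ≤ Q * s := Nat.mul_le_mul hQ (by nlinarith)
  -- D = Q s - 1
  have hpow : Q ^ (m + 1) = (Q - 1) * s + 1 := by
    have : 1 ≤ Q ^ (m + 1) := Nat.one_le_pow _ _ (by omega)
    rw [mul_comm]; omega
  have e : Q * s = (Q - 1) * s + s := by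
    have hq : Q = (Q - 1) + 1 := by omega
    conv_lhs => rw [hq]
    ring
  have hs2' : 2 ≤ s := by nlinarith
  have hD : f + Q ^ (m + 1) - 1 = Q * s - 1 := by
    rw [hfeq, hpow]
    omega
  rw [hD, hNeq, hfeq] at hdvd
  obtain ⟨k, hk⟩ := hdvd
  obtain ⟨s', hs'⟩ : ∃ s', s = s' + 2 := ⟨s - 2, by omega⟩
  obtain ⟨Q', hQ'⟩ : ∃ Q', Q = Q' + 1 := ⟨Q - 1, by omega⟩
  obtain ⟨D', hD'⟩ : ∃ D', Q * s = D' + 1 := ⟨Q * s - 1, by omega⟩
  have e1 : s - 1 - 1 = s' := by omega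
  have e2 : Q - 1 = Q' := by omega
  have e3 : Q * s - 1 = D' := by omega
  rw [e1, e2, e3] at hk
  apply PkN.int_core (Q : ℤ) (s : ℤ) (k : ℤ) (by exact_mod_cast hQ) (by exact_mod_cast hs_ge)
  have hkz : (((Q * s + 1) * (Q' * s) * s' : ℕ) : ℤ) = ((D' * k : ℕ) : ℤ) := by rw [hk]
  push_cast at hkz
  have hsz : (s : ℤ) = s' + 2 := by exact_mod_cast hs'
  have hQz : (Q : ℤ) = Q' + 1 := by exact_mod_cast hQ'
  have hDz : (Q : ℤ) * s = D' + 1 := by exact_mod_cast hD'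
  have hs'z : (s' : ℤ) = s - 2 := by linarith
  have hQ'z : (Q' : ℤ) = Q - 1 := by linarith
  have hD'z : (D' : ℤ) = Q * s - 1 := by linarith
  rw [hs'z, hQ'z, hD'z] at hkz
  exact hkz

namespace PkN

theorem not_isPrimePow_ten : ¬ IsPrimePow 10 := by
  intro h
  obtain ⟨p, k, hp, hk, hpk⟩ := h
  have hp' : Nat.Prime p := Nat.prime_iff.2 hp
  have h2 : p ∣ 10 := by rw [← hpk]; exact dvd_pow_self p hk.ne'
  have h5 : (2 : ℕ) ∣ p ^ k := by rw [hpk]; norm_num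
  have h6 : (5 : ℕ) ∣ p ^ k := by rw [hpk]; norm_num
  have e2 : 2 = p := (Nat.prime_dvd_prime_iff_eq Nat.prime_two hp').1 (Nat.Prime.dvd_of_dvd_pow Nat.prime_two h5)
  have e5 : 5 = p := (Nat.prime_dvd_prime_iff_eq Nat.prime_five hp').1 (Nat.Prime.dvd_of_dvd_pow Nat.prime_five h6)
  omega

/-- integer core of N2a: `(Q+2)(Q-1) ∣ (Q²+Q+1)(Q-1)(Q+1)(Q-2)` forces `Q + 2 ∣ 12` -/
theorem int_core_a (Q k : ℤ) (hQ : 2 ≤ Q)
    (h : (Q ^ 2 + Q + 1) * ((Q - 1) * (Q + 1)) * (Q - 2) = ((Q + 2) * (Q - 1)) * k) : Q + 2 ∣ 12 := by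
  have hQ1 : (Q - 1) ≠ 0 := by
    intro h0
    have : Q = 1 := by linarith
    omega
  have h2 : (Q - 1) * ((Q ^ 2 + Q + 1) * (Q + 1) * (Q - 2)) = (Q - 1) * ((Q + 2) * k) := by
    linear_combination h
  have h3 := mul_left_cancel₀ hQ1 h2
  exact ⟨k - (Q ^ 3 - 2 * Q ^ 2 + 2 * Q - 7), by linear_combination h3⟩

/-- integer core of N2b -/
theorem int_core_b (Q k : ℤ) (hQ : 2 ≤ Q)
    (h : (Q ^ 3 - 1) * (Q ^ 2 - 1) = (Q ^ 2 + Q - 1) * k) : False := by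
  have hd : (Q ^ 2 + Q - 1) ∣ 4 * Q - 2 :=
    ⟨k - (Q ^ 3 - Q ^ 2 + Q - 3), by linear_combination h⟩
  have hpos : (0 : ℤ) < 4 * Q - 2 := by linarith
  have hle := Int.le_of_dvd hpos hd
  have hQ2 : Q = 2 := by nlinarith
  subst hQ2
  norm_num at hd

end PkN

/-- N2a -/
theorem arith_three_a {Q N : ℕ} (hQ : IsPrimePow Q)
    (hN : N * (Q - 1) = (Q ^ 3 - 1) * (Q ^ 2 - 1))
    (hdvd : (Q - 1 + Q ^ 2 - 1) ∣ N * (Q - 2)) : Q = 2 ∨ Q = 4 := by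
  have hQ2 : 2 ≤ Q := hQ.two_le
  obtain ⟨a, ha⟩ : ∃ a, Q = a + 2 := ⟨Q - 2, by omega⟩
  have e1 : Q - 1 = a + 1 := by omega
  have e2 : Q - 2 = a := by omega
  have e3 : Q ^ 3 - 1 = (Q ^ 2 + Q + 1) * (a + 1) := by
    have h1 : 1 ≤ Q ^ 3 := Nat.one_le_pow _ _ (by omega)
    zify [h1]
    rw [ha]; push_cast; ring
  have e4 : Q ^ 2 - 1 = (a + 1) * (Q + 1) := by
    have h1 : 1 ≤ Q ^ 2 := Nat.one_le_pow _ _ (by omega)
    zify [h1]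
    rw [ha]; push_cast; ring
  have e5 : Q - 1 + Q ^ 2 - 1 = (Q + 2) * (a + 1) := by
    have h1 : 1 ≤ Q ^ 2 := Nat.one_le_pow _ _ (by omega)
    have h2 : 1 ≤ Q - 1 + Q ^ 2 := by omega
    zify [h1, h2, (by omega : 1 ≤ Q)]
    rw [ha]; push_cast; ring
  rw [e1, e3, e4] at hN
  have hNeq : N = (Q ^ 2 + Q + 1) * ((a + 1) * (Q + 1)) := by
    apply Nat.eq_of_mul_eq_mul_right (show 0 < a + 1 by omega)
    rw [hN]; ring
  rw [e5, e2, hNeq] at hdvd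
  obtain ⟨k, hk⟩ := hdvd
  have hd12 : ((Q : ℤ) + 2) ∣ 12 := by
    apply PkN.int_core_a (Q : ℤ) (k : ℤ) (by exact_mod_cast hQ2)
    have hkz : (((Q ^ 2 + Q + 1) * ((a + 1) * (Q + 1)) * a : ℕ) : ℤ) = (((Q + 2) * (a + 1) * k : ℕ) : ℤ) := by
      rw [hk]
    push_cast at hkz
    have haz : (a : ℤ) = Q - 2 := by
      have : (Q : ℤ) = a + 2 := by exact_mod_cast ha
      linarith
    rw [haz] at hkz
    linear_combination hkz
  have hle : (Q : ℤ) + 2 ≤ 12 := Int.le_of_dvd (by norm_num) hd12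
  have hQle : Q ≤ 10 := by omega
  have hd12' : (Q + 2) ∣ 12 := by exact_mod_cast hd12
  interval_cases Q
  · left; rfl
  · norm_num at hd12'
  · right; rfl
  · norm_num at hd12'
  · norm_num at hd12'
  · norm_num at hd12'
  · norm_num at hd12'
  · norm_num at hd12'
  · exact absurd hQ PkN.not_isPrimePow_ten

/-- N2b -/
theorem arith_three_b {Q N : ℕ} (hQ : 2 ≤ Q) (hN : N * (Q - 1) = (Q ^ 3 - 1) * (Q ^ 2 - 1))
    (hdvd : (Q + Q ^ 2 - 1) ∣ N * (Q - 1)) : False := by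
  rw [hN] at hdvd
  obtain ⟨k, hk⟩ := hdvd
  apply PkN.int_core_b (Q : ℤ) (k : ℤ) (by exact_mod_cast hQ)
  have h1 : 1 ≤ Q ^ 3 := Nat.one_le_pow _ _ (by omega)
  have h2 : 1 ≤ Q ^ 2 := Nat.one_le_pow _ _ (by omega)
  have h3 : 1 ≤ Q + Q ^ 2 := by omega
  zify [h1, h2, h3] at hk
  linear_combination hk

end Cfsg.Agent.Lib.Helper4.SLMin
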