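import Mathlib
import Cfsg.Prelude.Def_Characters
import Cfsg.Agent.Lib.Helper4.SLMin.Defs
import Cfsg.Agent.Lib.Helper4.Characters
import Cfsg.Agent.Lib.Helper1.CharInt
import Cfsg.Agent.Lib.Helper6.SLMin_B

set_option autoImplicit false
set_option linter.unusedSectionVars false

/-!
# S2332, PK-T: integrality on the class of transvections

`tv_integral`: for an irreducible character `χ` of `SL_(m+2)(q)` (`m ≥ 1`) the number
`N χ(τ) / χ(1)` is an algebraic integer, where `N (q - 1) = (q^(m+2) - 1)(q^(m+1) - 1)` is the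
number of transvections `tv x φ 1` and `τ = tauE (m+1) 1`.
-/

namespace Cfsg.Agent.Lib.Helper4.SLMin

open Matrix Cfsg Cfsg.Agent.H9SLRoot Cfsg.Agent.Lib.Helper1.SUMin
open scoped ComplexConjugate

universe u

variable {F : Type u} [Field F] [Fintype F] [DecidableEq F]

local notation "q" => Fintype.card F

namespace PkT

variable {ι : Type} [Fintype ι] [DecidableEq ι]

/-- the hyperplane `x^⊥` has `q^(n-1)` elements -/
theorem card_perp {x : ι → F} (hx : x ≠ 0) :
    (Finset.univ.filter (fun φ : ι → F => φ ⬝ᵥ x = 0)).card * q = q ^ Fintype.card ι := by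
  classical
  let f : (ι → F) →+ F :=
    { toFun := fun φ => φ ⬝ᵥ x
      map_zero' := zero_dotProduct x
      map_add' := fun a b => add_dotProduct a b x }
  have hsurj : Function.Surjective f := by
    intro a
    obtain ⟨i, hi⟩ := Function.ne_iff.mp hx
    refine ⟨Pi.single i (a / x i), ?_⟩
    change (Pi.single i (a / x i) : ι → F) ⬝ᵥ x = a
    rw [single_dotProduct]
    exact div_mul_cancel₀ a hi
  have h1 : Nat.card f.ker * f.ker.index = Nat.card (ι → F) := f.ker.card_mul_index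
  rw [AddSubgroup.index_ker, AddMonoidHom.range_eq_top.mpr hsurj] at h1
  have h2 : Nat.card (⊤ : AddSubgroup F) = q := by
    rw [AddSubgroup.card_top, Nat.card_eq_fintype_card]
  rw [h2, Nat.card_eq_fintype_card (α := ι → F), Fintype.card_fun] at h1
  rw [← h1]
  congr 1
  rw [Nat.card_eq_fintype_card, ← Fintype.card_subtype]
  exact Fintype.card_congr (Equiv.refl _)

variable (ι F) in
/-- the incident pairs `(x, φ)`, `x ≠ 0`, `φ ≠ 0`, `φ ⬝ᵥ x = 0` -/
def pairs : Finset ((ι → F) × (ι → F)) :=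
  Finset.univ.filter (fun p => p.1 ≠ 0 ∧ p.2 ≠ 0 ∧ p.2 ⬝ᵥ p.1 = 0)

theorem mem_pairs {p : (ι → F) × (ι → F)} :
    p ∈ pairs F ι ↔ p.1 ≠ 0 ∧ p.2 ≠ 0 ∧ p.2 ⬝ᵥ p.1 = 0 := by
  unfold pairs
  rw [Finset.mem_filter]
  exact ⟨fun h => h.2, fun h => ⟨Finset.mem_univ _, h⟩⟩

theorem card_pairs {n : ℕ} (hn : Fintype.card ι = n + 1) :
    (pairs F ι).card = (q ^ (n + 1) - 1) * (q ^ n - 1) := by
  classical
  have hA : (Finset.univ.filter (fun x : ι → F => x ≠ 0)).card = q ^ (n + 1) - 1 := by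
    rw [Finset.filter_ne', Finset.card_erase_of_mem (Finset.mem_univ _), Finset.card_univ,
      Fintype.card_fun, hn]
  have hfib : ∀ x ∈ Finset.univ.filter (fun x : ι → F => x ≠ 0),
      ((pairs F ι).filter (fun p => p.1 = x)).card = q ^ n - 1 := by
    intro x hx
    have hx0 : x ≠ 0 := (Finset.mem_filter.mp hx).2
    have himg : (pairs F ι).filter (fun p => p.1 = x) =
        ((Finset.univ.filter (fun φ : ι → F => φ ⬝ᵥ x = 0)).erase 0).image (fun φ => (x, φ)) := by
      ext ⟨y, ψ⟩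
      simp only [Finset.mem_filter, mem_pairs, Finset.mem_univ, true_and, Finset.mem_image,
        Finset.mem_erase, Prod.mk.injEq]
      constructor
      · rintro ⟨⟨_, h2, h3⟩, rfl⟩
        exact ⟨ψ, ⟨h2, h3⟩, rfl, rfl⟩
      · rintro ⟨φ, ⟨h2, h3⟩, rfl, rfl⟩
        exact ⟨⟨hx0, h2, h3⟩, rfl⟩
    rw [himg, Finset.card_image_of_injective _ (fun a b h => (Prod.mk.inj h).2),
      Finset.card_erase_of_mem (by simp)]
    have h1 := card_perp (F := F) hx0
    rw [hn, pow_succ] at h1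
    rw [Nat.eq_of_mul_eq_mul_right Fintype.card_pos h1]
  rw [Finset.card_eq_sum_card_fiberwise (f := Prod.fst)
    (t := Finset.univ.filter (fun x : ι → F => x ≠ 0)), Finset.sum_congr rfl hfib,
    Finset.sum_const, smul_eq_mul, hA]
  intro p hp
  exact Finset.mem_filter.mpr ⟨Finset.mem_univ _, (mem_pairs.mp hp).1⟩

/-- the fibres of `(x, φ) ↦ tv x φ 1` on the incident pairs are the `Fˣ`-orbits -/
theorem fibre_card {x φ : ι → F} (hx : x ≠ 0) (hφ : φ ≠ 0) (h : φ ⬝ᵥ x = 0) :
    ((pairs F ι).filter (fun p => tv p.1 p.2 (1 : F) = tv x φ 1)).card = q - 1 := by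
  classical
  have himg : (pairs F ι).filter (fun p => tv p.1 p.2 (1 : F) = tv x φ 1) =
      (Finset.univ : Finset Fˣ).image (fun c : Fˣ => ((c : F) • x, ((c⁻¹ : Fˣ) : F) • φ)) := by
    ext ⟨y, ψ⟩
    simp only [Finset.mem_filter, mem_pairs, Finset.mem_univ, true_and, Finset.mem_image,
      Prod.mk.injEq]
    constructor
    · rintro ⟨⟨hy, hψ, h'⟩, heq⟩
      have hM : vecMulVec y ψ = vecMulVec x φ := by
        have h0 := congrArg (fun g : SpecialLinearGroup ι F => (g : Matrix ι ι F)) heq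
        simp only [tv_coe h', tv_coe h, tmat, one_smul] at h0
        exact add_left_cancel h0
      have hE : ∀ i j, y i * ψ j = x i * φ j := fun i j => by
        have h0 := congrFun (congrFun hM i) j
        simpa [vecMulVec_apply] using h0
      obtain ⟨j0, hj0⟩ := Function.ne_iff.mp hψ
      obtain ⟨i0, hi0⟩ := Function.ne_iff.mp hx
      simp only [Pi.zero_apply] at hj0 hi0
      have hy' : y = (φ j0 / ψ j0) • x := by
        funext i
        rw [Pi.smul_apply, smul_eq_mul, div_mul_eq_mul_div, eq_div_iff hj0, hE i j0, mul_comm]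
      have hc0 : φ j0 / ψ j0 ≠ 0 := by
        intro h0
        apply hy
        rw [hy', h0, zero_smul]
      have hψ' : ψ = (φ j0 / ψ j0)⁻¹ • φ := by
        funext j
        have h0 := hE i0 j
        rw [hy', Pi.smul_apply, smul_eq_mul] at h0
        rw [Pi.smul_apply, smul_eq_mul, eq_inv_mul_iff_mul_eq₀ hc0]
        apply mul_left_cancel₀ hi0
        rw [← h0]
        ring
      refine ⟨Units.mk0 _ hc0, ?_, ?_⟩
      · rw [Units.val_mk0]
        exact hy'.symm
      · rw [Units.val_inv_eq_inv_val, Units.val_mk0]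
        exact hψ'.symm
    · rintro ⟨c, rfl, rfl⟩
      refine ⟨⟨?_, ?_, ?_⟩, ?_⟩
      · exact smul_ne_zero c.ne_zero hx
      · exact smul_ne_zero (Units.ne_zero _) hφ
      · rw [smul_dotProduct, dotProduct_smul, h, smul_zero, smul_zero]
      · rw [tv_smul]
        congr 1
        rw [Units.val_inv_eq_inv_val, mul_inv_cancel₀ c.ne_zero, one_mul]
  rw [himg, Finset.card_image_of_injective, Finset.card_univ, Fintype.card_units]
  intro c c' hcc
  have h1 := (Prod.mk.inj hcc).1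
  obtain ⟨i0, hi0⟩ := Function.ne_iff.mp hx
  have h2 := congrFun h1 i0
  simp only [Pi.smul_apply, smul_eq_mul, Pi.zero_apply] at h2 hi0
  exact Units.ext (mul_right_cancel₀ hi0 h2)

variable (ι F) in
/-- the set of all transvections `tv x φ 1` -/
noncomputable def tvs : Finset (SpecialLinearGroup ι F) :=
  (pairs F ι).image (fun p => tv p.1 p.2 (1 : F))

theorem mem_tvs {g : SpecialLinearGroup ι F} :
    g ∈ tvs F ι ↔ ∃ x φ : ι → F, x ≠ 0 ∧ φ ≠ 0 ∧ φ ⬝ᵥ x = 0 ∧ g = tv x φ 1 := by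
  unfold tvs
  rw [Finset.mem_image]
  constructor
  · rintro ⟨⟨x, φ⟩, hp, rfl⟩
    obtain ⟨h1, h2, h3⟩ := mem_pairs.mp hp
    exact ⟨x, φ, h1, h2, h3, rfl⟩
  · rintro ⟨x, φ, h1, h2, h3, rfl⟩
    exact ⟨(x, φ), mem_pairs.mpr ⟨h1, h2, h3⟩, rfl⟩

theorem card_tvs {n : ℕ} (hn : Fintype.card ι = n + 1) :
    (tvs F ι).card * (q - 1) = (q ^ (n + 1) - 1) * (q ^ n - 1) := by
  classical
  have hfib : ∀ t ∈ (pairs F ι).image (fun p => tv p.1 p.2 (1 : F)),
      ((pairs F ι).filter (fun p => tv p.1 p.2 (1 : F) = t)).card = q - 1 := by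
    intro t ht
    obtain ⟨⟨x, φ⟩, hp, rfl⟩ := Finset.mem_image.mp ht
    obtain ⟨h1, h2, h3⟩ := mem_pairs.mp hp
    exact fibre_card h1 h2 h3
  rw [← card_pairs (F := F) hn,
    Finset.card_eq_sum_card_image (fun p => tv p.1 p.2 (1 : F)) (pairs F ι),
    Finset.sum_congr rfl hfib, Finset.sum_const, smul_eq_mul]
  rfl

theorem conj_mem_tvs (h : SpecialLinearGroup ι F) {g : SpecialLinearGroup ι F}
    (hg : g ∈ tvs F ι) : h * g * h⁻¹ ∈ tvs F ι := by
  obtain ⟨x, φ, hx, hφ, hd, rfl⟩ := mem_tvs.mp hg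
  rw [tv_conj]
  refine mem_tvs.mpr ⟨_, _, ?_, ?_, ?_, rfl⟩
  · intro h0
    apply hx
    rw [← inv_mulVec_mulVec h x, h0, Matrix.mulVec_zero]
  · intro h0
    apply hφ
    rw [← vecMul_inv_vecMul h φ, h0, Matrix.zero_vecMul]
  · rw [dot_conj]
    exact hd

end PkT

/-- **PK-T**: integrality of the central character on the class of transvections. -/
theorem tv_integral {m : ℕ} (hm : 1 ≤ m) {χ : SpecialLinearGroup (Fin (m + 2)) F → ℂ}
    (hχ : IsIrrCharacter (SpecialLinearGroup (Fin (m + 2)) F) χ) :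
    ∃ N : ℕ, N * (q - 1) = (q ^ (m + 2) - 1) * (q ^ (m + 1) - 1) ∧
      IsIntegral ℤ ((N : ℂ) * χ (tauE (m + 1) 1) / χ 1) := by
  classical
  refine ⟨(PkT.tvs F (Fin (m + 2))).card, PkT.card_tvs (by rw [Fintype.card_fin]), ?_⟩
  have hcf := Cfsg.Agent.Lib.Helper4.isClassFunction_of_isCharacter
    (Cfsg.Agent.Lib.Helper4.isCharacter_of_irr hχ)
  obtain ⟨n, ρ, hirr, rfl⟩ := hχ
  have := hirr
  let f : SpecialLinearGroup (Fin (m + 2)) F → ℤ :=
    fun g => if g ∈ PkT.tvs F (Fin (m + 2)) then 1 else 0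
  have hf : IsClassFunction (SpecialLinearGroup (Fin (m + 2)) F) (fun g => (f g : ℂ)) := by
    intro g h
    have hiff : (h * g * h⁻¹ ∈ PkT.tvs F (Fin (m + 2))) ↔ g ∈ PkT.tvs F (Fin (m + 2)) := by
      constructor
      · intro hh
        have h0 := PkT.conj_mem_tvs h⁻¹ hh
        rw [inv_inv] at h0
        have h1 : h⁻¹ * (h * g * h⁻¹) * h = g := by group
        rw [h1] at h0
        exact h0
      · exact PkT.conj_mem_tvs h
    simp only [f, hiff]
  have key := Cfsg.Agent.Lib.Helper1.isIntegral_central_character ρ f hf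
  have hsum : ∑ g, (f g : ℂ) * ρ.character g =
      ((PkT.tvs F (Fin (m + 2))).card : ℂ) * ρ.character (tauE (m + 1) 1) := by
    have hterm : ∀ g, (f g : ℂ) * ρ.character g =
        if g ∈ PkT.tvs F (Fin (m + 2)) then ρ.character (tauE (m + 1) 1) else 0 := by
      intro g
      by_cases hg : g ∈ PkT.tvs F (Fin (m + 2))
      · simp only [f, hg, if_true, Int.cast_one, one_mul]
        obtain ⟨x, φ, hx, hφ, hd, rfl⟩ := PkT.mem_tvs.mp hg
        obtain ⟨k, hk⟩ := exists_conj_tv hm hx hφ hd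
        rw [← hk]
        exact (hcf _ k).symm
      · simp only [f, hg, if_false, Int.cast_zero, zero_mul]
    rw [Finset.sum_congr rfl (fun g _ => hterm g), ← Finset.sum_filter, Finset.sum_const,
      Finset.filter_mem_eq_inter, Finset.univ_inter, nsmul_eq_mul]
  rw [hsum] at key
  rw [Representation.char_one]
  exact key

end Cfsg.Agent.Lib.Helper4.SLMin
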