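import Mathlib
import Cfsg.Prelude.Def_Characters
import Cfsg.Agent.Lib.Lead.SUMinA3
import Cfsg.Agent.S0148

set_option autoImplicit false

/-!
Abstract wrapper for orbit bounds: a character of a finite group `G` that is not constant on a
parametrised abelian subgroup `ζ : A → G` has, on that subgroup, a constituent `λ` nontrivial at
a prescribed point, and its degree is at least the number of conjugates of `λ` under elements of
`G` normalising the subgroup.
-/

namespace Cfsg.Agent.Lib.Helper1.SUMin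

open Cfsg
open scoped ComplexConjugate

universe u

section W
variable {G : Type u} [Group G] [Fintype G] {A : Type u} [AddCommGroup A] [Fintype A]

/-- the multiplicity of `ψ` on the parametrised abelian subgroup is a natural number -/
theorem sw_mult_nat {χ : G → ℂ} (hχ : IsCharacter G χ) (ζ : A → G)
    (hζ : ∀ a b, ζ (a + b) = ζ a * ζ b) (ψ : AddChar A ℂ) :
    ∃ n : ℕ, mu χ (fun _ => ζ) 0 ψ = n := by
  classical
  have hζ0 : ζ 0 = 1 := a3_z_zero (fun _ => ζ) (fun _ => hζ) 0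
  -- the subgroup `L = ζ A`
  let L : Subgroup G :=
    { carrier := Set.range ζ
      one_mem' := ⟨0, hζ0⟩
      mul_mem' := by
        rintro _ _ ⟨a, rfl⟩ ⟨b, rfl⟩
        exact ⟨a + b, hζ a b⟩
      inv_mem' := by
        rintro _ ⟨a, rfl⟩
        refine ⟨-a, ?_⟩
        rw [eq_inv_iff_mul_eq_one, ← hζ, neg_add_cancel, hζ0] }
  have hL : ∀ g : L, ∃ a, ζ a = (g : G) := fun g => g.2
  let ζ' : A → L := fun a => ⟨ζ a, a, rfl⟩
  have hζ' : ∀ a b, ζ' (a + b) = ζ' a * ζ' b := by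
    intro a b
    apply Subtype.ext
    exact hζ a b
  have hc : ∀ a (g : L), ζ' a * g = g * ζ' a := by
    intro a g
    obtain ⟨b, hb⟩ := hL g
    apply Subtype.ext
    show ζ a * (g : G) = (g : G) * ζ a
    rw [← hb, ← hζ, ← hζ, add_comm]
  have hθ : IsCharacter L (fun g : L => χ (g : G)) :=
    Cfsg.Agent.S0148.isCharacter_restrict L hχ
  have h1 := isCharacter_isoAvg hθ ζ' hζ' hc ψ
  obtain ⟨n, hn⟩ := Cfsg.Agent.Lib.Helper4.isCharacter_apply_one h1
  refine ⟨n, ?_⟩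
  rw [← hn, mu_def, theta_zero, isoAvg_apply, isoAvg_apply]
  rfl

theorem siegel_wrapper {χ : G → ℂ} (hχ : IsCharacter G χ) (ζ : A → G)
    (hζ : ∀ a b, ζ (a + b) = ζ a * ζ b) (a0 : A) (h0 : χ (ζ a0) ≠ χ 1) :
    ∃ lam : AddChar A ℂ, lam a0 ≠ 1 ∧ ∀ O : Finset (AddChar A ℂ),
      (∀ μ ∈ O, ∃ (g : G) (τ : A ≃+ A), (∀ a, g * ζ a * g⁻¹ = ζ (τ a)) ∧ ∀ a, μ a = lam (τ a)) →
      ∃ k : ℕ, χ 1 = k ∧ O.card ≤ k := by
  classical
  have hcf : IsClassFunction G χ := Cfsg.Agent.Lib.Helper4.isClassFunction_of_isCharacter hχ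
  have hζ0 : ζ 0 = 1 := a3_z_zero (fun _ => ζ) (fun _ => hζ) 0
  set z : ℕ → A → G := fun _ => ζ with hz
  choose n hn using fun ψ : AddChar A ℂ => sw_mult_nat hχ ζ hζ ψ
  -- Fourier inversion
  have hF : ∀ c : A, ∑ ψ : AddChar A ℂ, (n ψ : ℂ) * ψ c = χ (ζ c) := by
    intro c
    have := a3_fourier_mu χ z 0 c
    rw [theta_zero] at this
    rw [← this]
    exact Finset.sum_congr rfl fun ψ _ => by rw [hn ψ]
  have hsum : ∑ ψ : AddChar A ℂ, (n ψ : ℂ) = χ 1 := by
    have := hF 0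
    rw [hζ0] at this
    rw [← this]
    exact Finset.sum_congr rfl fun ψ _ => by rw [AddChar.map_zero_eq_one, mul_one]
  -- a constituent nontrivial at `a0`
  obtain ⟨lam, hlam0, hlam⟩ : ∃ lam : AddChar A ℂ, n lam ≠ 0 ∧ lam a0 ≠ 1 := by
    by_contra hcon
    push Not at hcon
    apply h0
    rw [← hF a0, ← hsum]
    apply Finset.sum_congr rfl
    intro ψ _
    by_cases hψ : n ψ = 0
    · rw [hψ, Nat.cast_zero, zero_mul]
    · rw [hcon ψ hψ, mul_one]
  refine ⟨lam, hlam, ?_⟩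
  intro O hO
  -- every member of `O` has the multiplicity of `lam`
  have hmult : ∀ μ ∈ O, n μ = n lam := by
    intro μ hμ
    obtain ⟨g, τ, hg, hμτ⟩ := hO μ hμ
    have h1 := a3_torus hcf z 0 μ lam g (fun _ => τ.toEquiv) (fun j _ a => hg a)
      (fun a => by
        show lam (τ a) = μ a
        rw [hμτ a])
    rw [hn, hn] at h1
    exact_mod_cast h1.symm
  have hk : ∑ ψ : AddChar A ℂ, (n ψ : ℂ) = ((∑ ψ : AddChar A ℂ, n ψ : ℕ) : ℂ) := by
    rw [Nat.cast_sum]
  refine ⟨∑ ψ : AddChar A ℂ, n ψ, by rw [← hsum, hk], ?_⟩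
  calc O.card = ∑ _μ ∈ O, 1 := by rw [Finset.sum_const, smul_eq_mul, mul_one]
    _ ≤ ∑ μ ∈ O, n μ := by
        apply Finset.sum_le_sum
        intro μ hμ
        rw [hmult μ hμ]
        exact Nat.one_le_iff_ne_zero.2 hlam0
    _ ≤ ∑ ψ : AddChar A ℂ, n ψ :=
        Finset.sum_le_sum_of_subset (Finset.subset_univ O)

end W

end Cfsg.Agent.Lib.Helper1.SUMin
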