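import Mathlib
import Cfsg.Agent.Lib.Helper1.OmPlus_KLEIN2
import Cfsg.Agent.Lib.Helper1.CharFound7
import Cfsg.Agent.S2332

set_option autoImplicit false
set_option linter.unusedSectionVars false

/-!
# S2345 PK-KLEIN, part 3 : the bound for `Ω⁺₆(F)` from the bound for `SL₄(F)` (S2332)
-/

namespace Cfsg.Agent.Lib.Helper2.OmMin

open Matrix Cfsg Cfsg.Agent.Lib.Helper2.HypExt

universe u

namespace PkKLEIN

/-- endomorphisms of a one-dimensional space commute -/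
theorem end1_comm (S T : Module.End ℂ (Fin 1 → ℂ)) : S * T = T * S := by
  have hx : ∀ y : Fin 1 → ℂ, y = y 0 • (fun _ => (1 : ℂ)) := by
    intro y
    funext i
    fin_cases i
    simp
  apply LinearMap.ext
  intro x
  rw [Module.End.mul_apply, Module.End.mul_apply]
  have hT := hx (T (fun _ => (1 : ℂ)))
  have hS := hx (S (fun _ => (1 : ℂ)))
  have e1 : S (T x) = (x 0 * (T (fun _ => (1 : ℂ)) 0 * S (fun _ => (1 : ℂ)) 0)) •
      (fun _ => (1 : ℂ)) := by
    conv_lhs => rw [hx x, map_smul, hT, map_smul, map_smul, hS]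
    rw [smul_smul, smul_smul, mul_assoc]
  have e2 : T (S x) = (x 0 * (S (fun _ => (1 : ℂ)) 0 * T (fun _ => (1 : ℂ)) 0)) •
      (fun _ => (1 : ℂ)) := by
    conv_lhs => rw [hx x, map_smul, hS, map_smul, map_smul, hT]
    rw [smul_smul, smul_smul, mul_assoc]
  rw [e1, e2, mul_comm (T (fun _ => (1 : ℂ)) 0)]

/-- a perfect group has no nontrivial one-dimensional representation -/
theorem rep1_trivial {G : Type*} [Group G] (hG : commutator G = ⊤)
    (σ : Representation ℂ G (Fin 1 → ℂ)) (g : G) : σ g = 1 := by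
  have h1 : commutator G ≤ MonoidHom.ker σ := by
    rw [commutator_def, Subgroup.commutator_le]
    intro a _ b _
    rw [MonoidHom.mem_ker, commutatorElement_def]
    have hab : σ b * σ a⁻¹ = σ a⁻¹ * σ b := end1_comm _ _
    calc σ (a * b * a⁻¹ * b⁻¹) = σ a * (σ b * σ a⁻¹) * σ b⁻¹ := by
          simp only [map_mul, mul_assoc]
      _ = σ a * (σ a⁻¹ * σ b) * σ b⁻¹ := by rw [hab]
      _ = σ (a * a⁻¹) * σ (b * b⁻¹) := by simp only [map_mul, mul_assoc]
      _ = 1 := by rw [mul_inv_cancel, mul_inv_cancel, map_one, one_mul]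
  have h2 : g ∈ commutator G := by rw [hG]; exact Subgroup.mem_top g
  exact MonoidHom.mem_ker.1 (h1 h2)

/-- a representation on a zero-dimensional space is trivial -/
theorem rep0_trivial {G : Type*} [Group G] (σ : Representation ℂ G (Fin 0 → ℂ)) (g : G) :
    σ g = 1 := by
  apply LinearMap.ext
  intro x
  exact Subsingleton.elim _ _

end PkKLEIN

open PkKLEIN

section Main

variable {F : Type u} [Field F] [Fintype F]

/-- Klein: `SL₄(F)` maps onto `Ω⁺₆(F) = Ω(HQ (HQ (hp2 F)))` -/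
theorem exists_klein : ∃ φ : Matrix.SpecialLinearGroup (Fin 4) F →*
    ↥(Cfsg.Omega F ⇑(HQ (HQ (hp2 F)))), Function.Surjective φ :=
  ⟨kleinΩ F, kleinΩ_surjective⟩

/-- every irreducible representation of `Ω⁺₆(F)`, `|F| > 3`, of degree `≥ 2` has degree
`≥ (q⁴ - q)/(q - 1)` -/
theorem klein_bound (h3 : 3 < Fintype.card F) :
    ∀ (k : ℕ) (σ : Representation ℂ ↥(Cfsg.Omega F ⇑(HQ (HQ (hp2 F)))) (Fin k → ℂ)),
      σ.IsIrreducible → 2 ≤ k →
        (Fintype.card F ^ 4 - Fintype.card F) / (Fintype.card F - 1) ≤ k := by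
  classical
  intro k σ hσ hk
  have hex : ((4 : ℕ), Fintype.card F) ≠ (3, 2) ∧ ((4 : ℕ), Fintype.card F) ≠ (3, 4) ∧
      ((4 : ℕ), Fintype.card F) ≠ (4, 2) ∧ ((4 : ℕ), Fintype.card F) ≠ (4, 3) := by
    refine ⟨?_, ?_, ?_, ?_⟩ <;> rw [Ne, Prod.mk.injEq] <;> omega
  exact (Cfsg.Agent.S2332.result (F := F) 4 (by norm_num) hex).1 k (σ.comp (kleinΩ F))
    (Cfsg.Agent.Lib.Helper1.isIrreducible_comp_surjective σ hσ (kleinΩ F) kleinΩ_surjective) hk

/-- every nontrivial irreducible representation of `Ω⁺₆(F)` has degree `≥ 2` -/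
theorem klein_two_le {k : ℕ} (σ : Representation ℂ ↥(Cfsg.Omega F ⇑(HQ (HQ (hp2 F)))) (Fin k → ℂ))
    {y : ↥(Cfsg.Omega F ⇑(HQ (HQ (hp2 F))))} (hy : σ y ≠ 1) : 2 ≤ k := by
  by_contra hk
  have hk' : k = 0 ∨ k = 1 := by omega
  rcases hk' with rfl | rfl
  · exact hy (rep0_trivial σ y)
  · obtain ⟨g, rfl⟩ := kleinΩ_surjective (F := F) y
    exact hy (rep1_trivial (Cfsg.Agent.Lib.Helper1.commutator_SL_eq_top 4 (by norm_num))
      (σ.comp (kleinΩ F)) g)

theorem klein_arith (q : ℕ) (hq : 2 ≤ q) : (q ^ 4 - q) / (q - 1) = q ^ 3 + q ^ 2 + q := by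
  obtain ⟨m, rfl⟩ : ∃ m, q = m + 1 := ⟨q - 1, by omega⟩
  have h1 : (m + 1) ^ 4 - (m + 1) = ((m + 1) ^ 3 + (m + 1) ^ 2 + (m + 1)) * m := by
    have : (m + 1) ^ 4 = ((m + 1) ^ 3 + (m + 1) ^ 2 + (m + 1)) * m + (m + 1) := by ring
    omega
  rw [h1, Nat.add_sub_cancel, Nat.mul_div_cancel _ (by omega : 0 < m)]

/-- the full bound for `Ω⁺₆(F)`, `|F| > 3` -/
theorem klein_full (h3 : 3 < Fintype.card F) :
    Full (hp2_nondeg F) (Fintype.card F ^ 3 + Fintype.card F ^ 2 + Fintype.card F) := by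
  intro k σ hσ hz
  rw [← klein_arith _ (by omega)]
  exact klein_bound h3 k σ hσ (klein_two_le σ hz)

end Main

end Cfsg.Agent.Lib.Helper2.OmMin
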