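import Mathlib
import Cfsg.Prelude.Def_Classical
import Cfsg.Agent.Lib.Helper5.OmSyl7
import Cfsg.Agent.Lib.Helper1.DiagForm2
import Cfsg.Agent.Lib.Helper3.SylAbGen

set_option autoImplicit false

open scoped commutatorElement
open Cfsg.Agent.Lib.Helper5.OmSyl Cfsg.Agent.Lib.Helper5.WrP Cfsg.Agent.Lib.Helper1.DiagForm

/-!
# S4629-31 swarm, PK-RESHAPE: from the diagonal forms `wss (update 1 j₀ c₀)` to the model `Qm F k b c`
-/

namespace Cfsg.Agent.Lib.Helper5.OmSyl

/-- the model form as a weighted sum of squares -/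
theorem Qm_eq_wss {F : Type*} [Field F] (k b : ℕ) (c : Fin b → F) (u : MI k b → F) :
    Qm F k b c u = wss (Sum.elim (fun _ => (1 : F)) c : MI k b → F) u := by
  unfold Qm wss
  rw [QuadraticMap.weightedSumSquares_apply]
  apply Finset.sum_congr rfl
  intro x _
  rw [smul_eq_mul, pow_two]

/-- reindexing a weighted sum of squares -/
theorem wss_funCongrLeft {F : Type*} [Field F] {ι κ : Type} [Fintype ι] [Fintype κ] (σ : κ ≃ ι)
    (w : ι → F) (v : ι → F) :
    wss (fun x => w (σ x)) (LinearEquiv.funCongrLeft F F σ v) = wss w v := by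
  unfold wss
  rw [← Equiv.sum_comp σ (fun i => w i * v i ^ 2)]
  rfl

/-- an equivalence between two finite types of the same cardinality sending `x₀` to `j₀` -/
theorem exists_equiv_apply_eq {ι κ : Type} [Fintype ι] [Fintype κ] [DecidableEq ι]
    (h : Fintype.card κ = Fintype.card ι) (x₀ : κ) (j₀ : ι) : ∃ σ : κ ≃ ι, σ x₀ = j₀ := by
  obtain ⟨σ₀⟩ := Fintype.card_eq.mp h
  refine ⟨σ₀.trans (Equiv.swap (σ₀ x₀) j₀), ?_⟩
  rw [Equiv.trans_apply, Equiv.swap_apply_left]

theorem card_MI (k b : ℕ) : Fintype.card (MI k b) = 2 * k + b := by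
  rw [Fintype.card_sum, Fintype.card_prod, Fintype.card_fin, Fintype.card_fin, Fintype.card_fin, mul_comm]

theorem reshape_rest {F : Type*} [Field F] {ι : Type} [Fintype ι] [DecidableEq ι] (k b : ℕ)
    (hcard : Fintype.card ι = 2 * k + (b + 1)) (j₀ : ι) (c₀ : F) :
    ∃ e : (ι → F) ≃ₗ[F] (MI k (b + 1) → F), ∀ v,
      Qm F k (b + 1) (Function.update (fun _ => (1 : F)) 0 c₀) (e v) =
        wss (Function.update (fun _ => (1 : F)) j₀ c₀) v := by
  obtain ⟨σ, hσ⟩ := exists_equiv_apply_eq (κ := MI k (b + 1)) (ι := ι)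
    (by rw [card_MI, hcard]) (Sum.inr 0) j₀
  refine ⟨LinearEquiv.funCongrLeft F F σ, fun v => ?_⟩
  rw [Qm_eq_wss, ← wss_funCongrLeft σ (Function.update (fun _ => (1 : F)) j₀ c₀) v]
  congr 1
  funext x
  rcases x with p | l
  · rw [Sum.elim_inl, Function.update_of_ne]
    intro h
    rw [← hσ] at h
    exact Sum.inl_ne_inr (σ.injective h)
  · rw [Sum.elim_inr]
    by_cases hl : l = 0
    · rw [hl, Function.update_self, hσ, Function.update_self]
    · rw [Function.update_of_ne hl, Function.update_of_ne]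
      intro h
      rw [← hσ] at h
      exact hl (Sum.inr_injective (σ.injective h))

/-- scaling the coordinates by nonzero factors, as a linear equivalence -/
def scaleEquiv {F : Type*} [Field F] {ι : Type} (d : ι → F) (hd : ∀ i, d i ≠ 0) :
    (ι → F) ≃ₗ[F] (ι → F) where
  toFun v := fun i => d i * v i
  invFun v := fun i => (d i)⁻¹ * v i
  map_add' v v' := by
    funext i
    simp only [Pi.add_apply]
    ring
  map_smul' r v := by
    funext i
    simp only [Pi.smul_apply, smul_eq_mul, RingHom.id_apply]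
    ring
  left_inv v := by
    funext i
    show (d i)⁻¹ * (d i * v i) = v i
    rw [← mul_assoc, inv_mul_cancel₀ (hd i), one_mul]
  right_inv v := by
    funext i
    show d i * ((d i)⁻¹ * v i) = v i
    rw [← mul_assoc, mul_inv_cancel₀ (hd i), one_mul]

theorem reshape_sq {F : Type*} [Field F] {ι : Type} [Fintype ι] [DecidableEq ι] (k : ℕ)
    (hcard : Fintype.card ι = 2 * k) (j₀ : ι) (t : F) (ht : t ≠ 0) :
    ∃ e : (ι → F) ≃ₗ[F] (MI k 0 → F), ∀ v,
      Qm F k 0 (fun _ => (1 : F)) (e v) = wss (Function.update (fun _ => (1 : F)) j₀ (t * t)) v := by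
  obtain ⟨σ⟩ : Nonempty (MI k 0 ≃ ι) := Fintype.card_eq.mp (by rw [card_MI, hcard, add_zero])
  have hd : ∀ i, Function.update (fun _ => (1 : F)) j₀ t i ≠ 0 := by
    intro i
    by_cases hi : i = j₀
    · rw [hi, Function.update_self]; exact ht
    · rw [Function.update_of_ne hi]; exact one_ne_zero
  refine ⟨(scaleEquiv _ hd).trans (LinearEquiv.funCongrLeft F F σ), fun v => ?_⟩
  rw [LinearEquiv.trans_apply, Qm_eq_wss]
  have hw : (Sum.elim (fun _ => (1 : F)) (fun _ => (1 : F)) : MI k 0 → F) =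
      fun x => (fun _ : ι => (1 : F)) (σ x) := by
    funext x
    rcases x with p | l <;> rfl
  rw [hw, wss_funCongrLeft σ (fun _ => (1 : F))]
  unfold wss
  apply Finset.sum_congr rfl
  intro i _
  show 1 * (Function.update (fun _ => (1 : F)) j₀ t i * v i) ^ 2 = _
  by_cases hi : i = j₀
  · rw [hi, Function.update_self, Function.update_self]; ring
  · rw [Function.update_of_ne hi, Function.update_of_ne hi]; ring

end Cfsg.Agent.Lib.Helper5.OmSyl
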