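import Mathlib
import Cfsg.Agent.Lib.Helper5.Chain2

set_option autoImplicit false

/-! Transport of a permutation model along an isomorphism. -/

namespace Cfsg.Agent.Lib.Helper1.PMTr

open Cfsg.Agent.Lib.Helper6.TC Cfsg.Agent.Lib.Helper6.PM

/-- transport of a model along an isomorphism -/
noncomputable def transport (M : PModel) {H : Type} [Group H] (e : H ≃* M.G) : PModel where
  G := H
  fin := Finite.of_equiv _ e.symm.toEquiv
  n := M.n
  nl := M.nl
  px := M.px
  elt := fun w => e.symm (M.elt w)
  phi := M.phi.comp e.toMonoidHom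
  elt_nil := by rw [M.elt_nil, map_one]
  elt_append := fun u v => by rw [M.elt_append, map_mul]
  px_lt := M.px_lt
  phi_inv_val := by
    intro w hw p
    rw [MonoidHom.comp_apply, MulEquiv.coe_toMonoidHom, MulEquiv.apply_symm_apply]
    exact M.phi_inv_val w hw p
  phi_injective := M.phi_injective.comp e.injective
  closure_letters := by
    have h := M.closure_letters
    have himg : e.symm.toMonoidHom '' {g : M.G | ∃ c < M.nl, g = M.elt [c]} =
        {g : H | ∃ c < M.nl, g = e.symm (M.elt [c])} := by
      ext g
      constructor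
      · rintro ⟨_, ⟨c, hc, rfl⟩, rfl⟩
        exact ⟨c, hc, rfl⟩
      · rintro ⟨c, hc, rfl⟩
        exact ⟨_, ⟨c, hc, rfl⟩, rfl⟩
    rw [← himg, ← MonoidHom.map_closure, h, ← MonoidHom.range_eq_map]
    exact MonoidHom.range_eq_top.mpr e.symm.surjective

theorem transport_G (M : PModel) {H : Type} [Group H] (e : H ≃* M.G) : (transport M e).G = H := rfl

theorem transport_n (M : PModel) {H : Type} [Group H] (e : H ≃* M.G) : (transport M e).n = M.n := rfl

theorem transport_nl (M : PModel) {H : Type} [Group H] (e : H ≃* M.G) :
    (transport M e).nl = M.nl := rfl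

theorem transport_px (M : PModel) {H : Type} [Group H] (e : H ≃* M.G) :
    (transport M e).px = M.px := rfl

end Cfsg.Agent.Lib.Helper1.PMTr
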