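import Mathlib
import Cfsg.Agent.Lib.Helper4.PPDefs
import Cfsg.Agent.Lib.Lead.CoprimeAction

set_option autoImplicit false
set_option linter.unusedVariables false
set_option linter.unusedSectionVars false

/-! Package G-A of the Shult–Gross theorem (S3793): elementary consequences of the internal
setting `PPS G x p`. -/

namespace Cfsg.Agent.Lib.Helper1.PPGA

open Cfsg.Agent.Lib.Helper4.PP

universe u

section aux

variable {Γ : Type u} [Group Γ]

/-- one-sided conjugation stability gives membership in the normaliser (finite group). -/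
theorem mem_normalizer_of_conj_mem [Finite Γ] (K : Subgroup Γ) (x : Γ)
    (h : ∀ k ∈ K, x * k * x⁻¹ ∈ K) : x ∈ Subgroup.normalizer (K : Set Γ) := by
  have hle : K.map (MulAut.conj x).toMonoidHom ≤ K := by
    rintro _ ⟨k, hk, rfl⟩
    simpa [MulAut.conj_apply] using h k hk
  have hcard : Nat.card K ≤ Nat.card (K.map (MulAut.conj x).toMonoidHom) := by
    rw [Subgroup.card_map_of_injective (MulAut.conj x).injective]
  have heq : K.map (MulAut.conj x).toMonoidHom = K := Subgroup.eq_of_le_of_card_ge hle hcard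
  rw [Subgroup.mem_normalizer_iff]
  intro k
  refine ⟨h k, fun hk => ?_⟩
  rw [← heq] at hk
  obtain ⟨k', hk', hkk⟩ := hk
  have : k' = k := by
    have h2 : x * k' * x⁻¹ = x * k * x⁻¹ := by simpa [MulAut.conj_apply] using hkk
    exact mul_left_cancel (mul_right_cancel h2)
  exact this ▸ hk'

/-- if `y` normalises `N` and `[y, k] ∈ N` then `[a, k] ∈ N` for every `a ∈ ⟨y⟩`. -/
theorem zpowers_comm_mem (N : Subgroup Γ) (y k : Γ)
    (hy : y ∈ Subgroup.normalizer (N : Set Γ)) (h : y * k * y⁻¹ * k⁻¹ ∈ N) :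
    ∀ a ∈ Subgroup.zpowers y, a * k * a⁻¹ * k⁻¹ ∈ N := by
  let S : Subgroup Γ :=
    { carrier := {a | a ∈ Subgroup.normalizer (N : Set Γ) ∧ a * k * a⁻¹ * k⁻¹ ∈ N}
      mul_mem' := by
        rintro a b ⟨ha, ha'⟩ ⟨hb, hb'⟩
        refine ⟨Subgroup.mul_mem _ ha hb, ?_⟩
        have h1 : a * (b * k * b⁻¹ * k⁻¹) * a⁻¹ ∈ N := (Subgroup.mem_normalizer_iff.mp ha _).mp hb'
        have h2 : a * b * k * (a * b)⁻¹ * k⁻¹ =
            (a * (b * k * b⁻¹ * k⁻¹) * a⁻¹) * (a * k * a⁻¹ * k⁻¹) := by group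
        rw [h2]
        exact N.mul_mem h1 ha'
      one_mem' := ⟨Subgroup.one_mem _, by simp⟩
      inv_mem' := by
        rintro a ⟨ha, ha'⟩
        refine ⟨Subgroup.inv_mem _ ha, ?_⟩
        have h1 : a⁻¹ * (a * k * a⁻¹ * k⁻¹)⁻¹ * a⁻¹⁻¹ ∈ N :=
          (Subgroup.mem_normalizer_iff.mp (Subgroup.inv_mem _ ha) _).mp (N.inv_mem ha')
        have h2 : a⁻¹ * k * a⁻¹⁻¹ * k⁻¹ = a⁻¹ * (a * k * a⁻¹ * k⁻¹)⁻¹ * a⁻¹⁻¹ := by group
        rw [h2]
        exact h1 }
  have hS : Subgroup.zpowers y ≤ S := by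
    rw [Subgroup.zpowers_le]
    exact ⟨hy, h⟩
  intro a ha
  exact (hS ha).2

end aux

section GA

variable {Γ : Type u} [Group Γ] [Finite Γ] {G : Subgroup Γ} {x : Γ} {p : ℕ}

theorem PPS.isPGroup_zpowers (h : PPS G x p) : IsPGroup p (Subgroup.zpowers x) := by
  obtain ⟨N, hN⟩ := h.hxp
  rintro ⟨g, hg⟩
  obtain ⟨m, rfl⟩ := Subgroup.mem_zpowers_iff.mp hg
  refine ⟨N, ?_⟩
  apply Subtype.ext
  rw [Subgroup.coe_pow, Subgroup.coe_one]
  show (x ^ m) ^ p ^ N = 1
  rw [← zpow_natCast, ← zpow_mul, mul_comm, zpow_mul, zpow_natCast, hN, one_zpow]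

theorem PPS.not_dvd (h : PPS G x p) : ¬ p ∣ Nat.card G := by
  have hGn := h.hGn
  have hP := PPS.isPGroup_zpowers h
  haveI : Fact p.Prime := ⟨h.hp⟩
  letI : MulAction (Subgroup.zpowers x) G :=
    MulAction.compHom G ((MulAut.conjNormal (H := G)).comp (Subgroup.zpowers x).subtype)
  have hsmul : ∀ (a : Subgroup.zpowers x) (g : G), ((a • g : G) : Γ) = (a : Γ) * g * (a : Γ)⁻¹ := by
    intro a g
    rfl
  have hmod := hP.card_modEq_card_fixedPoints (α := G)
  have hfix : MulAction.fixedPoints (Subgroup.zpowers x) G = {1} := by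
    ext g
    simp only [MulAction.mem_fixedPoints, Set.mem_singleton_iff]
    constructor
    · intro hg
      have h1 := hg ⟨x, Subgroup.mem_zpowers x⟩
      have h2 : x * (g : Γ) * x⁻¹ = g := by
        have := congrArg (fun t : G => (t : Γ)) h1
        simpa [hsmul] using this
      have h3 : x * (g : Γ) = g * x := by
        calc x * (g : Γ) = (x * (g : Γ) * x⁻¹) * x := by group
          _ = g * x := by rw [h2]
      exact Subtype.ext (h.hfpf g g.2 h3)
    · rintro rfl a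
      apply Subtype.ext
      rw [hsmul]
      simp
  rw [hfix] at hmod
  have h1 : Nat.card ({1} : Set G) = 1 := by simp
  rw [h1] at hmod
  intro hdvd
  have h2 : Nat.card G ≡ 0 [MOD p] := (Nat.modEq_zero_iff_dvd).mpr hdvd
  have h3 : 1 ≡ 0 [MOD p] := hmod.symm.trans h2
  have h4 : p ∣ 1 := (Nat.modEq_zero_iff_dvd).mp h3
  exact h.hp.one_lt.ne' (Nat.dvd_one.mp h4)

theorem PPS.coprime_pow (h : PPS G x p) (k : ℕ) :
    (Nat.card (Subgroup.zpowers (x ^ k))).Coprime (Nat.card G) := by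
  have hle : Subgroup.zpowers (x ^ k) ≤ Subgroup.zpowers x :=
    Subgroup.zpowers_le.mpr (Subgroup.pow_mem _ (Subgroup.mem_zpowers x) k)
  have hP : IsPGroup p (Subgroup.zpowers (x ^ k)) :=
    (PPS.isPGroup_zpowers h).to_le hle
  haveI : Fact p.Prime := ⟨h.hp⟩
  obtain ⟨m, hm⟩ := IsPGroup.iff_card.mp hP
  rw [hm]
  apply Nat.Coprime.pow_left
  exact (Nat.Prime.coprime_iff_not_dvd h.hp).mpr (PPS.not_dvd h)

/-- no fixed points on `x`-invariant sections of `G`. -/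
theorem PPS.mem_of_comm_mem (h : PPS G x p) (K N : Subgroup Γ) (hKG : K ≤ G) (hNK : N ≤ K)
    (hKN : K ≤ Subgroup.normalizer (N : Set Γ)) (hxK : ∀ k ∈ K, x * k * x⁻¹ ∈ K)
    (hxN : ∀ k ∈ N, x * k * x⁻¹ ∈ N)
    (k : Γ) (hk : k ∈ K) (hfix : x * k * x⁻¹ * k⁻¹ ∈ N) : k ∈ N := by
  have hxnK : x ∈ Subgroup.normalizer (K : Set Γ) := mem_normalizer_of_conj_mem K x hxK
  have hxnN : x ∈ Subgroup.normalizer (N : Set Γ) := mem_normalizer_of_conj_mem N x hxN
  have hcop : (Nat.card (Subgroup.zpowers x)).Coprime (Nat.card K) := by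
    have h1 := PPS.coprime_pow h 1
    rw [pow_one] at h1
    exact Nat.Coprime.coprime_dvd_right (Subgroup.card_dvd_of_le hKG) h1
  have hsolv : Group.IsSolvable (Subgroup.zpowers x) ∨ Group.IsSolvable K := by
    left
    haveI : IsCyclic (Subgroup.zpowers x) := inferInstance
    letI : CommGroup (Subgroup.zpowers x) := IsCyclic.commGroup
    infer_instance
  obtain ⟨c, hc, hcN⟩ := Cfsg.Agent.Lib.Lead.coprime_fixed_coset (Subgroup.zpowers x) K
    (Subgroup.zpowers_le.mpr hxnK) hcop hsolv N hNK hKN (Subgroup.zpowers_le.mpr hxnN) k hk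
    (zpowers_comm_mem N x k hxnN hfix)
  have hcK : c ∈ K := hc.1
  have hcx : x * c = c * x := by
    have := Subgroup.mem_centralizer_iff.mp hc.2 x (Subgroup.mem_zpowers x)
    exact this
  have hc1 : c = 1 := h.hfpf c (hKG hcK) hcx
  rw [hc1, mul_one] at hcN
  exact (Subgroup.inv_mem_iff N).mp hcN

theorem PPS.quot (h : PPS G x p) (N : Subgroup Γ) [N.Normal] (hNG : N ≤ G) :
    PPS (G.map (QuotientGroup.mk' N)) (QuotientGroup.mk' N x) p := by
  have hGn := h.hGn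
  refine ⟨?_, ?_, h.hp, h.hp2, ?_, ?_⟩
  · exact Subgroup.Normal.map hGn _ (QuotientGroup.mk'_surjective N)
  · haveI := h.hsolv
    have hsurj : Function.Surjective ((QuotientGroup.mk' N).subgroupMap G) :=
      MonoidHom.subgroupMap_surjective _ _
    exact Group.isSolvable_of_surjective hsurj
  · obtain ⟨M, hM⟩ := h.hxp
    exact ⟨M, by rw [← map_pow, hM, map_one]⟩
  · rintro _ ⟨g, hg, rfl⟩ hcomm
    have h1 : (QuotientGroup.mk' N) (x * g) = (QuotientGroup.mk' N) (g * x) := by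
      rw [map_mul, map_mul]; exact hcomm
    have h2 : (g * x)⁻¹ * (x * g) ∈ N := by
      have := (QuotientGroup.eq (s := N)).mp h1.symm
      exact this
    have h3 : x * g * x⁻¹ * g⁻¹ ∈ N := by
      have hN : N.Normal := inferInstance
      have := hN.conj_mem _ h2 (g * x)
      have h4 : g * x * ((g * x)⁻¹ * (x * g)) * (g * x)⁻¹ = x * g * x⁻¹ * g⁻¹ := by group
      rw [h4] at this
      exact this
    have hN : N.Normal := inferInstance
    have hgN : g ∈ N := PPS.mem_of_comm_mem h G N le_rfl hNG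
      (by rw [Subgroup.normalizer_eq_top]; exact le_top)
      (fun k hk => hGn.conj_mem k hk x) (fun k hk => hN.conj_mem k hk x) g hg h3
    exact (QuotientGroup.eq_one_iff g).mpr hgN

theorem PPS.sub (h : PPS G x p) (H : Subgroup Γ) [hHn : H.Normal] (hHG : H ≤ G) : PPS H x p := by
  refine ⟨hHn, ?_, h.hp, h.hp2, h.hxp, fun g hg => h.hfpf g (hHG hg)⟩
  haveI := h.hsolv
  exact Cfsg.Agent.Lib.Lead.isSolvable_of_le hHG

/-- `G = C_G(x^k)·H` when `x^k` centralises `G/H`. -/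
theorem PPS.exists_mul_comm (h : PPS G x p) (k : ℕ) (H : Subgroup Γ) [hHn : H.Normal] (hHG : H ≤ G)
    (hτ : ∀ g ∈ G, g⁻¹ * x ^ k * g * (x ^ k)⁻¹ ∈ H) :
    ∀ g ∈ G, ∃ c ∈ G, ∃ h' ∈ H, x ^ k * c = c * x ^ k ∧ g = c * h' := by
  have hGn := h.hGn
  intro g hg
  have hnG : Subgroup.zpowers (x ^ k) ≤ Subgroup.normalizer (G : Set Γ) := by
    rw [Subgroup.normalizer_eq_top]; exact le_top
  have hnH : Subgroup.zpowers (x ^ k) ≤ Subgroup.normalizer (H : Set Γ) := by
    rw [Subgroup.normalizer_eq_top]; exact le_top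
  have hsolv : Group.IsSolvable (Subgroup.zpowers (x ^ k)) ∨ Group.IsSolvable G := Or.inr h.hsolv
  have h1 : x ^ k * g * (x ^ k)⁻¹ * g⁻¹ ∈ H := by
    have := H.inv_mem (hτ g⁻¹ (G.inv_mem hg))
    have h2 : (g⁻¹⁻¹ * x ^ k * g⁻¹ * (x ^ k)⁻¹)⁻¹ = x ^ k * g * (x ^ k)⁻¹ * g⁻¹ := by group
    rw [h2] at this
    exact this
  obtain ⟨c, hc, hcN⟩ := Cfsg.Agent.Lib.Lead.coprime_fixed_coset (Subgroup.zpowers (x ^ k)) G
    hnG (PPS.coprime_pow h k) hsolv H hHG (by rw [Subgroup.normalizer_eq_top]; exact le_top) hnH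
    g hg (zpowers_comm_mem H (x ^ k) g (hnH (Subgroup.mem_zpowers _)) h1)
  refine ⟨c, hc.1, c⁻¹ * g, ?_, ?_, by group⟩
  · have := H.inv_mem hcN
    have h2 : (g⁻¹ * c)⁻¹ = c⁻¹ * g := by group
    rw [h2] at this
    exact this
  · exact Subgroup.mem_centralizer_iff.mp hc.2 (x ^ k) (Subgroup.mem_zpowers _)

end GA

end Cfsg.Agent.Lib.Helper1.PPGA
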