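import Mathlib
import Cfsg.Agent.Lib.Helper4.PPDefs
import Cfsg.Agent.Lib.Helper1.PPGA

set_option autoImplicit false
set_option linter.unusedVariables false
set_option linter.unusedSectionVars false

/-! Package G-E of the Shult–Gross theorem (S3793): from the key theorem `KTStatement` to the chain
of normal subgroups with nilpotent factors, and the semidirect-product wrapper giving the statement
for an automorphism. -/

namespace Cfsg.Agent.Lib.Helper1.PPGE

open Cfsg.Agent.Lib.Helper4.PP Cfsg.Agent.Lib.Helper1.PPGA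

universe u

section aux

variable {Γ : Type u} [Group Γ] {Δ : Type u} [Group Δ]

/-- pulling back a nilpotency condition along a homomorphism. -/
theorem lcs_comap_le (f : Γ →* Δ) (S T : Subgroup Δ) (k : ℕ)
    (h : S.lowerCentralSeries k ≤ T) : (S.comap f).lowerCentralSeries k ≤ T.comap f := by
  rw [← Subgroup.map_le_iff_le_comap, Subgroup.map_lowerCentralSeries]
  exact (Subgroup.lowerCentralSeries_mono k (Subgroup.map_comap_le f S)).trans h

end aux

theorem chain_of_kt (hKT : KTStatement.{u}) (n : ℕ) :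
    ∀ {Γ : Type u} [Group Γ] [Finite Γ] (G : Subgroup Γ) (x : Γ) (p : ℕ), PPS G x p →
    (∀ g ∈ G, x ^ (p ^ n) * g = g * x ^ (p ^ n)) →
    ∃ F : Fin (n + 1) → Subgroup Γ, F 0 = ⊥ ∧ F (Fin.last n) = G ∧ Monotone F ∧
      (∀ i, (F i).Normal) ∧
      ∀ i : Fin n, ∃ k : ℕ, (F i.succ).lowerCentralSeries k ≤ F i.castSucc := by
  induction n with
  | zero =>
    intro Γ _ _ G x p h hc
    have hG : G = ⊥ := by
      rw [eq_bot_iff]
      intro g hg
      have h1 := hc g hg
      rw [pow_zero, pow_one] at h1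
      exact Subgroup.mem_bot.mpr (h.hfpf g hg h1)
    refine ⟨fun _ => ⊥, rfl, hG.symm, fun _ _ _ => le_rfl, fun _ => inferInstance, fun i => i.elim0⟩
  | succ n ih =>
    intro Γ _ _ G x p h hc
    obtain ⟨D, hDG, hDn, hDnil, hD⟩ := hKT G x p n h hc
    have hq := PPS.quot h D hDG
    have hc' : ∀ g ∈ G.map (QuotientGroup.mk' D),
        (QuotientGroup.mk' D x) ^ (p ^ n) * g = g * (QuotientGroup.mk' D x) ^ (p ^ n) := by
      rintro _ ⟨g, hg, rfl⟩
      have h1 := hD g hg
      have h2 : (QuotientGroup.mk' D) (g⁻¹ * x ^ (p ^ n) * g * (x ^ (p ^ n))⁻¹) = 1 :=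
        (QuotientGroup.eq_one_iff _).mpr h1
      rw [map_mul, map_mul, map_mul, map_inv, map_inv, map_pow] at h2
      -- h2 : ḡ⁻¹ * τ̄ * ḡ * τ̄⁻¹ = 1
      have h3 : (QuotientGroup.mk' D g)⁻¹ * (QuotientGroup.mk' D x) ^ (p ^ n) * (QuotientGroup.mk' D g)
          = (QuotientGroup.mk' D x) ^ (p ^ n) := by
        rw [← mul_inv_eq_one]; exact h2
      generalize (QuotientGroup.mk' D g) = a at h3 ⊢
      generalize (QuotientGroup.mk' D x) ^ (p ^ n) = b at h3 ⊢
      calc b * a = a * (a⁻¹ * b * a) := by group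
        _ = a * b := by rw [h3]
    obtain ⟨F', hF0, hFl, hFm, hFn, hFk⟩ := ih (G.map (QuotientGroup.mk' D)) (QuotientGroup.mk' D x) p hq hc'
    refine ⟨Fin.cons ⊥ (fun i => (F' i).comap (QuotientGroup.mk' D)), ?_, ?_, ?_, ?_, ?_⟩
    · rfl
    · have : Fin.last (n + 1) = (Fin.last n).succ := rfl
      rw [this, Fin.cons_succ, hFl, Subgroup.comap_map_eq, QuotientGroup.ker_mk']
      exact sup_eq_left.mpr hDG
    · rw [Fin.monotone_iff_le_succ]
      intro i
      refine Fin.cases ?_ (fun j => ?_) i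
      · rw [Fin.castSucc_zero, Fin.cons_zero]; exact bot_le
      · rw [← Fin.succ_castSucc, Fin.cons_succ, Fin.cons_succ]
        exact Subgroup.comap_mono (hFm (Fin.castSucc_le_succ j))
    · intro i
      refine Fin.cases ?_ (fun j => ?_) i
      · rw [Fin.cons_zero]; infer_instance
      · rw [Fin.cons_succ]
        haveI := hFn j
        infer_instance
    · intro i
      refine Fin.cases ?_ (fun j => ?_) i
      · rw [Fin.castSucc_zero, Fin.cons_zero, Fin.cons_succ, hF0, MonoidHom.comap_bot,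
          QuotientGroup.ker_mk']
        obtain ⟨k, hk⟩ := (Subgroup.isNilpotent_iff_lowerCentralSeries D).mp hDnil
        exact ⟨k, hk.le⟩
      · obtain ⟨k, hk⟩ := hFk j
        refine ⟨k, ?_⟩
        rw [← Fin.succ_castSucc, Fin.cons_succ, Fin.cons_succ]
        exact lcs_comap_le _ _ _ k hk

theorem result_of (hKT : KTStatement.{u}) {G : Type u} [Group G] [Finite G]
    (hG : Group.IsSolvable G) {p : ℕ} (hp : p.Prime)
    (hp2 : p ≠ 2) (σ : MulAut G) (n : ℕ) (hσ : orderOf σ = p ^ n)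
    (hfpf : ∀ g : G, σ g = g → g = 1) :
    ∃ F : Fin (n + 1) → Subgroup G, F 0 = ⊥ ∧ F (Fin.last n) = ⊤ ∧ Monotone F ∧
      (∀ i, (F i).Normal) ∧
      ∀ i : Fin n, ∃ k : ℕ, (F i.succ).lowerCentralSeries k ≤ F i.castSucc := by
  classical
  have hσfin : IsOfFinOrder σ := by
    rw [← orderOf_pos_iff, hσ]
    exact pow_pos hp.pos n
  have hAfin : Finite ↥(Subgroup.zpowers σ) := by
    apply Nat.finite_of_card_ne_zero
    rw [Nat.card_zpowers, hσ]
    exact (pow_pos hp.pos n).ne'
  let A : Subgroup (MulAut G) := Subgroup.zpowers σ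
  have hΓfin : Finite (G ⋊[A.subtype] ↥A) :=
    Finite.of_equiv _ (SemidirectProduct.equivProd (φ := A.subtype)).symm
  have hinl : Function.Injective (SemidirectProduct.inl : G →* G ⋊[A.subtype] ↥A) :=
    SemidirectProduct.inl_injective
  let s : ↥A := ⟨σ, Subgroup.mem_zpowers σ⟩
  have hs : s ^ (p ^ n) = 1 := by
    apply Subtype.ext
    rw [Subgroup.coe_pow, Subgroup.coe_one]
    show σ ^ (p ^ n) = 1
    rw [← hσ]; exact pow_orderOf_eq_one σ
  have hx : (SemidirectProduct.inr s : G ⋊[A.subtype] ↥A) ^ (p ^ n) = 1 := by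
    rw [← map_pow, hs, map_one]
  have hS : PPS (SemidirectProduct.inl : G →* G ⋊[A.subtype] ↥A).range
      (SemidirectProduct.inr s : G ⋊[A.subtype] ↥A) p := by
    refine ⟨?_, ?_, hp, hp2, ⟨n, hx⟩, ?_⟩
    · rw [SemidirectProduct.range_inl_eq_ker_rightHom]
      infer_instance
    · exact Group.isSolvable_of_surjective
        (MonoidHom.rangeRestrict_surjective (SemidirectProduct.inl : G →* G ⋊[A.subtype] ↥A))
    · rintro _ ⟨g, rfl⟩ hfix
      have hg : g = 1 := by
        apply hfpf g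
        have h2 : (SemidirectProduct.inl ((A.subtype s) g) : G ⋊[A.subtype] ↥A) =
            SemidirectProduct.inl g := by
          rw [SemidirectProduct.inl_aut, hfix]
          rw [mul_assoc, ← map_mul, mul_inv_cancel, map_one, mul_one]
        exact hinl h2
      rw [hg, map_one]
  obtain ⟨F', hF0, hFl, hFm, hFn, hFk⟩ := chain_of_kt hKT n
    (SemidirectProduct.inl : G →* G ⋊[A.subtype] ↥A).range
    (SemidirectProduct.inr s : G ⋊[A.subtype] ↥A) p hS
    (fun g _ => by rw [hx, one_mul, mul_one])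
  refine ⟨fun i => (F' i).comap SemidirectProduct.inl, ?_, ?_, ?_, ?_, ?_⟩
  · show (F' 0).comap SemidirectProduct.inl = ⊥
    rw [hF0, MonoidHom.comap_bot, (MonoidHom.ker_eq_bot_iff _).mpr hinl]
  · show (F' (Fin.last n)).comap SemidirectProduct.inl = ⊤
    rw [hFl]
    exact eq_top_iff.mpr (fun g _ => ⟨g, rfl⟩)
  · intro i j hij
    exact Subgroup.comap_mono (hFm hij)
  · intro i
    haveI := hFn i
    show ((F' i).comap SemidirectProduct.inl).Normal
    infer_instance
  · intro i
    obtain ⟨k, hk⟩ := hFk i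
    exact ⟨k, lcs_comap_le _ _ _ k hk⟩

end Cfsg.Agent.Lib.Helper1.PPGE
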