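import Cfsg.Agent.Lib.Helper1.PSL2Rec12
import Cfsg.Agent.Lib.Helper1.SLCard

set_option autoImplicit false

namespace Cfsg.Agent.Lib.Helper1.PSL2Rec

theorem fact_prime_17 : Fact (Nat.Prime 17) := ⟨by norm_num⟩

attribute [local instance] fact_prime_17

theorem g0_ne_zero_17 : (3 : ZMod 17) ≠ 0 := by decide

set_option maxRecDepth 100000 in
theorem cert_17 : Cert 17 8 3 false := by decide +kernel

set_option maxRecDepth 100000 in
theorem arith_17 : ∀ d, d ∣ (17 + 1) * 8 → d % 17 = 1 → d = 1 ∨ d = 17 + 1 := by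
  intro d hd hmod
  have hle : d ≤ 144 := Nat.le_of_dvd (by norm_num) hd
  have key : ∀ d, d < 145 → d ∣ 144 → d % 17 = 1 → d = 1 ∨ d = 18 := by decide +kernel
  exact key d (by omega) hd hmod

theorem hsq_17 : Nat.card {a : ZMod 17 // a ≠ 0 ∧ sq 17 a} = 8 := by
  rw [Nat.card_eq_fintype_card, Fintype.card_subtype]
  decide

theorem hgen_17 : ∀ x : ZMod 17, x ≠ 0 →
    ∃ j < 8, x = ((3 : ZMod 17) ^ 2) ^ j ∨ x = (3 : ZMod 17) * ((3 : ZMod 17) ^ 2) ^ j := by
  decide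

theorem hsqgen_17 : ∀ a : ZMod 17, a ≠ 0 → sq 17 a → ∃ j : ℕ, a = ((3 : ZMod 17) ^ 2) ^ j := by
  have key : ∀ a : ZMod 17, a ≠ 0 → sq 17 a → ∃ j < 8, a = ((3 : ZMod 17) ^ 2) ^ j := by
    decide
  intro a ha hs
  obtain ⟨j, _, hj⟩ := key a ha hs
  exact ⟨j, hj⟩

/-- the model group for `p = 17` -/
abbrev L17 : Subgroup (Equiv.Perm (Option (ZMod 17))) := Lp 17 3 g0_ne_zero_17

theorem iso_L17 {G : Type*} [Group G] [Finite G] [IsSimpleGroup G] (hG : Nat.card G = 2448) :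
    Nonempty (G ≃* L17) :=
  iso_Lp 17 8 (by norm_num) (by norm_num) (by rw [hG]) arith_17 hsq_17 3 g0_ne_zero_17 false
    hgen_17 hsqgen_17 cert_17 (fun he => by cases he)

theorem psl_iso_L17 {F : Type*} [Field F] [Fintype F] (hF : Fintype.card F = 17) :
    Nonempty (Matrix.ProjectiveSpecialLinearGroup (Fin 2) F ≃* L17) := by
  classical
  have hs : IsSimpleGroup (Matrix.ProjectiveSpecialLinearGroup (Fin 2) F) :=
    Matrix.ProjectiveSpecialLinearGroup.rank_two_simple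
      (by rw [Nat.card_eq_fintype_card, hF]; norm_num)
  have hc := Cfsg.Agent.Lib.Helper1.card_PSL_field (F := F) 2 (by norm_num)
  rw [hF, Fin.prod_univ_two] at hc
  have hcard : Nat.card (Matrix.ProjectiveSpecialLinearGroup (Fin 2) F) = 2448 := by
    generalize Nat.card (Matrix.ProjectiveSpecialLinearGroup (Fin 2) F) = N at hc ⊢
    norm_num at hc
    omega
  exact iso_L17 hcard

theorem iso_psl_17 {G : Type*} [Group G] [Finite G] [IsSimpleGroup G] (hG : Nat.card G = 2448)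
    {F : Type*} [Field F] [Fintype F] (hF : Fintype.card F = 17) :
    Nonempty (G ≃* Matrix.ProjectiveSpecialLinearGroup (Fin 2) F) := by
  obtain ⟨e1⟩ := iso_L17 hG
  obtain ⟨e2⟩ := psl_iso_L17 hF
  exact ⟨e1.trans e2.symm⟩

end Cfsg.Agent.Lib.Helper1.PSL2Rec
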