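import Cfsg.Agent.Lib.Helper1.PSL2Rec12
import Cfsg.Agent.Lib.Helper1.SLCard

set_option autoImplicit false

namespace Cfsg.Agent.Lib.Helper1.PSL2Rec

theorem fact_prime_23 : Fact (Nat.Prime 23) := ⟨by norm_num⟩

attribute [local instance] fact_prime_23

theorem g0_ne_zero_23 : (5 : ZMod 23) ≠ 0 := by decide

set_option maxRecDepth 100000 in
theorem cert_23 : Cert 23 11 5 false := by decide +kernel

set_option maxRecDepth 100000 in
theorem arith_23 : ∀ d, d ∣ (23 + 1) * 11 → d % 23 = 1 → d = 1 ∨ d = 23 + 1 := by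
  intro d hd hmod
  have hle : d ≤ 264 := Nat.le_of_dvd (by norm_num) hd
  have key : ∀ d, d < 265 → d ∣ 264 → d % 23 = 1 → d = 1 ∨ d = 24 := by decide +kernel
  exact key d (by omega) hd hmod

theorem hsq_23 : Nat.card {a : ZMod 23 // a ≠ 0 ∧ sq 23 a} = 11 := by
  rw [Nat.card_eq_fintype_card, Fintype.card_subtype]
  decide

theorem hgen_23 : ∀ x : ZMod 23, x ≠ 0 →
    ∃ j < 11, x = ((5 : ZMod 23) ^ 2) ^ j ∨ x = (5 : ZMod 23) * ((5 : ZMod 23) ^ 2) ^ j := by
  decide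

theorem hsqgen_23 : ∀ a : ZMod 23, a ≠ 0 → sq 23 a → ∃ j : ℕ, a = ((5 : ZMod 23) ^ 2) ^ j := by
  have key : ∀ a : ZMod 23, a ≠ 0 → sq 23 a → ∃ j < 11, a = ((5 : ZMod 23) ^ 2) ^ j := by
    decide
  intro a ha hs
  obtain ⟨j, _, hj⟩ := key a ha hs
  exact ⟨j, hj⟩

/-- the model group for `p = 23` -/
abbrev L23 : Subgroup (Equiv.Perm (Option (ZMod 23))) := Lp 23 5 g0_ne_zero_23

theorem iso_L23 {G : Type*} [Group G] [Finite G] [IsSimpleGroup G] (hG : Nat.card G = 6072) :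
    Nonempty (G ≃* L23) :=
  iso_Lp 23 11 (by norm_num) (by norm_num) (by rw [hG]) arith_23 hsq_23 5 g0_ne_zero_23 false
    hgen_23 hsqgen_23 cert_23 (fun he => by cases he)

theorem psl_iso_L23 {F : Type*} [Field F] [Fintype F] (hF : Fintype.card F = 23) :
    Nonempty (Matrix.ProjectiveSpecialLinearGroup (Fin 2) F ≃* L23) := by
  classical
  have hs : IsSimpleGroup (Matrix.ProjectiveSpecialLinearGroup (Fin 2) F) :=
    Matrix.ProjectiveSpecialLinearGroup.rank_two_simple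
      (by rw [Nat.card_eq_fintype_card, hF]; norm_num)
  have hc := Cfsg.Agent.Lib.Helper1.card_PSL_field (F := F) 2 (by norm_num)
  rw [hF, Fin.prod_univ_two] at hc
  have hcard : Nat.card (Matrix.ProjectiveSpecialLinearGroup (Fin 2) F) = 6072 := by
    generalize Nat.card (Matrix.ProjectiveSpecialLinearGroup (Fin 2) F) = N at hc ⊢
    norm_num at hc
    omega
  exact iso_L23 hcard

theorem iso_psl_23 {G : Type*} [Group G] [Finite G] [IsSimpleGroup G] (hG : Nat.card G = 6072)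
    {F : Type*} [Field F] [Fintype F] (hF : Fintype.card F = 23) :
    Nonempty (G ≃* Matrix.ProjectiveSpecialLinearGroup (Fin 2) F) := by
  obtain ⟨e1⟩ := iso_L23 hG
  obtain ⟨e2⟩ := psl_iso_L23 hF
  exact ⟨e1.trans e2.symm⟩

end Cfsg.Agent.Lib.Helper1.PSL2Rec
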