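import Cfsg.Agent.Lib.Helper1.PSL2Rec12
import Cfsg.Agent.Lib.Helper1.SLCard

set_option autoImplicit false

namespace Cfsg.Agent.Lib.Helper1.PSL2Rec

theorem fact_prime_7 : Fact (Nat.Prime 7) := ⟨by norm_num⟩

attribute [local instance] fact_prime_7

theorem g0_ne_zero_7 : (3 : ZMod 7) ≠ 0 := by decide

set_option maxRecDepth 100000 in
theorem cert_7 : Cert 7 3 3 true := by decide +kernel

theorem arith_7 : ∀ d, d ∣ (7 + 1) * 3 → d % 7 = 1 → d = 1 ∨ d = 7 + 1 := by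
  intro d hd hmod
  have hle : d ≤ 24 := Nat.le_of_dvd (by norm_num) hd
  have key : ∀ d, d < 25 → d ∣ 24 → d % 7 = 1 → d = 1 ∨ d = 8 := by decide
  exact key d (by omega) hd hmod

theorem hsq_7 : Nat.card {a : ZMod 7 // a ≠ 0 ∧ sq 7 a} = 3 := by
  rw [Nat.card_eq_fintype_card, Fintype.card_subtype]
  decide

theorem hgen_7 : ∀ x : ZMod 7, x ≠ 0 →
    ∃ j < 3, x = ((3 : ZMod 7) ^ 2) ^ j ∨ x = (3 : ZMod 7) * ((3 : ZMod 7) ^ 2) ^ j := by
  decide

theorem hsqgen_7 : ∀ a : ZMod 7, a ≠ 0 → sq 7 a → ∃ j : ℕ, a = ((3 : ZMod 7) ^ 2) ^ j := by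
  have key : ∀ a : ZMod 7, a ≠ 0 → sq 7 a → ∃ j < 3, a = ((3 : ZMod 7) ^ 2) ^ j := by
    decide
  intro a ha hs
  obtain ⟨j, _, hj⟩ := key a ha hs
  exact ⟨j, hj⟩

/-- the model group for `p = 7` -/
abbrev L7 : Subgroup (Equiv.Perm (Option (ZMod 7))) := Lp 7 3 g0_ne_zero_7

theorem iso_L7 {G : Type*} [Group G] [Finite G] [IsSimpleGroup G] (hG : Nat.card G = 168) :
    Nonempty (G ≃* L7) :=
  iso_Lp 7 3 (by norm_num) (by norm_num) (by rw [hG]) arith_7 hsq_7 3 g0_ne_zero_7 true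
    hgen_7 hsqgen_7 cert_7 (fun _ X hs hc h2 h3 t ht ht1 ht2 hcomm => exc_seven X hs hc h2 h3 t ht ht1 ht2 hcomm)

theorem psl_iso_L7 {F : Type*} [Field F] [Fintype F] (hF : Fintype.card F = 7) :
    Nonempty (Matrix.ProjectiveSpecialLinearGroup (Fin 2) F ≃* L7) := by
  classical
  have hs : IsSimpleGroup (Matrix.ProjectiveSpecialLinearGroup (Fin 2) F) :=
    Matrix.ProjectiveSpecialLinearGroup.rank_two_simple
      (by rw [Nat.card_eq_fintype_card, hF]; norm_num)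
  have hc := Cfsg.Agent.Lib.Helper1.card_PSL_field (F := F) 2 (by norm_num)
  rw [hF, Fin.prod_univ_two] at hc
  have hcard : Nat.card (Matrix.ProjectiveSpecialLinearGroup (Fin 2) F) = 168 := by
    generalize Nat.card (Matrix.ProjectiveSpecialLinearGroup (Fin 2) F) = N at hc ⊢
    norm_num at hc
    omega
  exact iso_L7 hcard

theorem iso_psl_7 {G : Type*} [Group G] [Finite G] [IsSimpleGroup G] (hG : Nat.card G = 168)
    {F : Type*} [Field F] [Fintype F] (hF : Fintype.card F = 7) :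
    Nonempty (G ≃* Matrix.ProjectiveSpecialLinearGroup (Fin 2) F) := by
  obtain ⟨e1⟩ := iso_L7 hG
  obtain ⟨e2⟩ := psl_iso_L7 hF
  exact ⟨e1.trans e2.symm⟩

end Cfsg.Agent.Lib.Helper1.PSL2Rec
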