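import Mathlib

set_option autoImplicit false

namespace Cfsg.Agent.Lib.Helper1.PSL2Rec

open MulAction

variable {G : Type*} [Group G] [Finite G] (p : ℕ) [hp : Fact p.Prime]

theorem card_sylow_sub (m : ℕ) (hm0 : 0 < m) (hmp : m < p)
    (hG : Nat.card G = (p + 1) * p * m) (P : Sylow p G) :
    Nat.card (P : Subgroup G) = p := by
  have h1 : ¬ p ∣ (p + 1) * m := by
    intro h
    rcases (Nat.Prime.dvd_mul hp.out).1 h with h | h
    · have : p ∣ 1 := (Nat.dvd_add_right (dvd_refl p)).1 h
      exact hp.out.one_lt.ne' (Nat.dvd_one.1 this)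
    · exact absurd (Nat.le_of_dvd hm0 h) (not_le.2 hmp)
  have h2 : (p + 1) * m ≠ 0 := by positivity
  rw [Sylow.card_eq_multiplicity, hG, show (p + 1) * p * m = p * ((p + 1) * m) by ring,
    Nat.factorization_mul hp.out.ne_zero h2, Finsupp.add_apply,
    Nat.Prime.factorization_self hp.out, Nat.factorization_eq_zero_of_not_dvd h1, pow_one]

theorem card_sylow_eq [IsSimpleGroup G] (m : ℕ) (hm0 : 0 < m) (hmp : m < p)
    (hG : Nat.card G = (p + 1) * p * m)
    (harith : ∀ d, d ∣ (p + 1) * m → d % p = 1 → d = 1 ∨ d = p + 1) :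
    Nat.card (Sylow p G) = p + 1 := by
  let P : Sylow p G := default
  have hP := card_sylow_sub p m hm0 hmp hG P
  have hidx : (P : Subgroup G).index = (p + 1) * m := by
    have h := (P : Subgroup G).card_mul_index
    rw [hP, hG, show (p + 1) * p * m = p * ((p + 1) * m) by ring] at h
    exact Nat.eq_of_mul_eq_mul_left hp.out.pos h
  have h1 := Sylow.card_dvd_index P
  rw [hidx] at h1
  have h2 : Nat.card (Sylow p G) % p = 1 := by
    have := card_sylow_modEq_one p G
    rw [Nat.ModEq, Nat.mod_eq_of_lt hp.out.one_lt] at this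
    exact this
  rcases harith _ h1 h2 with h | h
  · exfalso
    have hsub : Subsingleton (Sylow p G) := by
      have : Finite (Sylow p G) := inferInstance
      exact (Nat.card_eq_one_iff_unique.1 h).1
    have hn : (P : Subgroup G).Normal := Sylow.normal_of_subsingleton P
    rcases hn.eq_bot_or_eq_top with h' | h'
    · rw [h', Subgroup.card_bot] at hP
      exact hp.out.one_lt.ne hP
    · rw [h', Subgroup.card_top, hG] at hP
      have : p * 1 < (p + 1) * p * m := by
        calc p * 1 < (p + 1) * p * 1 := by nlinarith [hp.out.pos]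
          _ ≤ (p + 1) * p * m := Nat.mul_le_mul_left _ hm0
      omega
  · exact h

end Cfsg.Agent.Lib.Helper1.PSL2Rec
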