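import Cfsg.Agent.Lib.Helper1.PSL2Rec9

set_option autoImplicit false
set_option linter.unusedSectionVars false

namespace Cfsg.Agent.Lib.Helper1.PSL2Rec

variable (p : ℕ) [hp : Fact p.Prime]

theorem isAS_mem_Lp (g0 : ZMod p) (hg0 : g0 ≠ 0)
    (hsqgen : ∀ a : ZMod p, a ≠ 0 → sq p a → ∃ j : ℕ, a = (g0 ^ 2) ^ j)
    (f : Equiv.Perm (Option (ZMod p))) (hf : IsAS p f) : f ∈ Lp p g0 hg0 := by
  obtain ⟨a, ha, hs, hf0, b, hfb⟩ := hf
  obtain ⟨j, hj⟩ := hsqgen a ha hs
  have h1 : f = sig p ^ (ZMod.val b) * aff p (g0 ^ 2) (pow_ne_zero 2 hg0) 0 ^ j := by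
    ext1 x
    rcases x with _ | x
    · rw [Equiv.Perm.mul_apply, aff_pow_none, sig_pow_none, hf0]
    · rw [Equiv.Perm.mul_apply, aff_pow_some, sig_pow_some, ZMod.natCast_zmod_val, hfb, hj]
  rw [h1]
  apply Subgroup.mul_mem
  · apply Subgroup.pow_mem
    exact Subgroup.subset_closure (by simp)
  · apply Subgroup.pow_mem
    exact Subgroup.subset_closure (by simp)

theorem pow_sub_two (x : ZMod p) (hx : x ≠ 0) : x ^ (p - 2) = x⁻¹ := by
  have h1 : x ^ (p - 2) * x = 1 := by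
    rw [← pow_succ]
    have : p - 2 + 1 = p - 1 := by
      have := hp.out.two_le; omega
    rw [this, ZMod.pow_card_sub_one_eq_one hx]
  exact eq_inv_of_mul_eq_one_left h1

theorem eq_Lp (m : ℕ) (g0 : ZMod p) (hg0 : g0 ≠ 0) (exc : Bool)
    (hgen : ∀ x : ZMod p, x ≠ 0 → ∃ j < m, x = (g0 ^ 2) ^ j ∨ x = g0 * (g0 ^ 2) ^ j)
    (hsqgen : ∀ a : ZMod p, a ≠ 0 → sq p a → ∃ j : ℕ, a = (g0 ^ 2) ^ j)
    (cert : Cert p m g0 exc)
    (X : Subgroup (Equiv.Perm (Option (ZMod p)))) (hsig : sig p ∈ X)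
    (hX2 : ∀ g ∈ X, g none = none → IsAS p g)
    (hX3 : ∀ f : Equiv.Perm (Option (ZMod p)), IsAS p f → f ∈ X)
    (htrans : ∀ x y : Option (ZMod p), ∃ g ∈ X, g x = y)
    (hexc : exc = true → ∀ t ∈ X, t none = some 0 → t (some 0) = none →
      t * aff p (g0 ^ 2) (pow_ne_zero 2 hg0) 0 = aff p (g0 ^ 2) (pow_ne_zero 2 hg0) 0 * t →
      False) :
    X = Lp p g0 hg0 := by
  have hone : (1 : ZMod p) ≠ 0 := by
    have : Fact (1 < p) := ⟨hp.out.one_lt⟩
    exact one_ne_zero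
  obtain ⟨t, ht, ht1, ht2⟩ := exists_swap p X hsig htrans
  have hh0 : aff p (g0 ^ 2) (pow_ne_zero 2 hg0) 0 ∈ X :=
    hX3 _ (isAS_aff p _ _ ⟨g0, by ring⟩ 0)
  obtain ⟨c, hc, hsc, hconj⟩ := conj_eq p X hX2 _ _ hh0 t ht ht1 ht2
  -- the values at `1` and `g0`
  have hval : ∀ x : ZMod p, x ≠ 0 → ∃ a : ZMod p, a ≠ 0 ∧ t (some x) = some a := by
    intro x hx
    have h1 : t (some x) ≠ none := by
      intro h
      rw [← ht2] at h
      exact hx (Option.some.inj (t.injective h))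
    obtain ⟨a, ha⟩ := Option.ne_none_iff_exists'.1 h1
    refine ⟨a, ?_, ha⟩
    rintro rfl
    rw [← ht1] at ha
    exact Option.some_ne_none _ (t.injective ha)
  obtain ⟨a, ha0, ha⟩ := hval 1 hone
  obtain ⟨b, hb0, hb⟩ := hval g0 hg0
  have hT := t_eq_Tfun p m g0 hg0 c hc hgen t ht1 ht2 hconj a b ha hb
  have cond1 : ASfun p (Tfun p m g0 c a b ∘ Tfun p m g0 c a b) := by
    rw [← hT, ← Equiv.Perm.coe_mul]
    apply ASfun_of_isAS
    apply hX2 _ (X.mul_mem ht ht)
    rw [Equiv.Perm.mul_apply, ht1, ht2]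
  have cond2 : ∀ y : ZMod p, y ≠ 0 → ASfun p (Vfun p (Tfun p m g0 c a b) y) := by
    intro y hy
    obtain ⟨ty, _, hty⟩ := hval y hy
    have hv : Vfun p (Tfun p m g0 c a b) y =
        ⇑(t * sig p ^ (ZMod.val (-ty)) * t * sig p ^ (ZMod.val y) * t) := by
      funext x
      simp only [Vfun, ← hT, Equiv.Perm.mul_apply, sig_pow_val, hty, Option.getD_some]
    rw [hv]
    apply ASfun_of_isAS
    apply hX2
    · exact X.mul_mem (X.mul_mem (X.mul_mem (X.mul_mem ht (X.pow_mem hsig _)) ht)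
        (X.pow_mem hsig _)) ht
    · simp only [Equiv.Perm.mul_apply, ht1, sig_pow_val, shift, Option.map_some, zero_add, hty,
        add_neg_cancel, ht2]
  rcases cert c a b hc hsc ha0 hb0 cond1 cond2 with ⟨hsa, hK⟩ | ⟨he, hcc⟩
  · -- the generic case
    have hna : -a ≠ 0 := neg_ne_zero.2 ha0
    have hninv : (-a)⁻¹ ≠ 0 := inv_ne_zero hna
    have hsinv : sq p (-a)⁻¹ := by
      obtain ⟨r, hr⟩ := hsa
      exact ⟨r⁻¹, by rw [hr, mul_inv]⟩
    have htt : tt p = aff p (-a)⁻¹ hninv 0 * t := by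
      ext1 x
      rcases x with _ | x
      · rw [Equiv.Perm.mul_apply, ht1, aff_some, mul_zero, add_zero, tt_none]
      · by_cases hx : x = 0
        · rw [hx, Equiv.Perm.mul_apply, ht2, aff_none, tt_zero]
        · rw [Equiv.Perm.mul_apply, hT, hK, tt_some p x hx]
          simp only [Kfun, if_neg hx, aff_some, add_zero, pow_sub_two p x hx]
          congr 1
          field_simp
    have httX : tt p ∈ X := by
      rw [htt]
      exact X.mul_mem (hX3 _ (isAS_aff p _ _ hsinv 0)) ht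
    apply le_antisymm
    · intro g hg
      rcases hgn : g none with _ | x
      · exact isAS_mem_Lp p g0 hg0 hsqgen g (hX2 g hg hgn)
      · have hu : tt p * sig p ^ (ZMod.val (-x)) * g ∈ X :=
          X.mul_mem (X.mul_mem httX (X.pow_mem hsig _)) hg
        have hu0 : (tt p * sig p ^ (ZMod.val (-x)) * g) none = none := by
          simp only [Equiv.Perm.mul_apply, hgn, sig_pow_val, shift, Option.map_some,
            add_neg_cancel, tt_zero]
        have hu1 := isAS_mem_Lp p g0 hg0 hsqgen _ (hX2 _ hu hu0)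
        have hg' : g = (tt p * sig p ^ (ZMod.val (-x)))⁻¹ *
            (tt p * sig p ^ (ZMod.val (-x)) * g) := by group
        rw [hg']
        apply Subgroup.mul_mem _ _ hu1
        apply Subgroup.inv_mem
        apply Subgroup.mul_mem
        · exact Subgroup.subset_closure (by simp)
        · apply Subgroup.pow_mem
          exact Subgroup.subset_closure (by simp)
    · rw [Lp, Subgroup.closure_le]
      intro g hg
      simp only [Set.mem_insert_iff, Set.mem_singleton_iff] at hg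
      rcases hg with rfl | rfl | rfl
      · exact hsig
      · exact hh0
      · exact httX
  · exfalso
    apply hexc he t ht ht1 ht2
    have h2 : aff p c hc 0 = aff p (g0 ^ 2) (pow_ne_zero 2 hg0) 0 := by
      subst hcc; rfl
    have h3 := hconj.trans h2
    calc t * aff p (g0 ^ 2) (pow_ne_zero 2 hg0) 0
        = (t * aff p (g0 ^ 2) (pow_ne_zero 2 hg0) 0 * t⁻¹) * t := by group
      _ = aff p (g0 ^ 2) (pow_ne_zero 2 hg0) 0 * t := by rw [h3]

end Cfsg.Agent.Lib.Helper1.PSL2Rec
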