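import Cfsg.Agent.Lib.Helper1.PSL2Rec10

set_option autoImplicit false
set_option linter.unusedSectionVars false

namespace Cfsg.Agent.Lib.Helper1.PSL2Rec

variable (p : ℕ) [hp : Fact p.Prime]

theorem iso_Lp {G : Type*} [Group G] [Finite G] [IsSimpleGroup G] (m : ℕ) (hm : p = 2 * m + 1)
    (hm0 : 0 < m) (hG : Nat.card G = (p + 1) * p * m)
    (harith : ∀ d, d ∣ (p + 1) * m → d % p = 1 → d = 1 ∨ d = p + 1)
    (hsq : Nat.card {a : ZMod p // a ≠ 0 ∧ sq p a} = m)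
    (g0 : ZMod p) (hg0 : g0 ≠ 0) (exc : Bool)
    (hgen : ∀ x : ZMod p, x ≠ 0 → ∃ j < m, x = (g0 ^ 2) ^ j ∨ x = g0 * (g0 ^ 2) ^ j)
    (hsqgen : ∀ a : ZMod p, a ≠ 0 → sq p a → ∃ j : ℕ, a = (g0 ^ 2) ^ j)
    (cert : Cert p m g0 exc)
    (hexc : exc = true → ∀ X : Subgroup (Equiv.Perm (Option (ZMod p))), IsSimpleGroup X →
      Nat.card X = (p + 1) * p * m → (∀ g ∈ X, g none = none → IsAS p g) →
      (∀ f : Equiv.Perm (Option (ZMod p)), IsAS p f → f ∈ X) →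
      ∀ t ∈ X, t none = some 0 → t (some 0) = none →
      t * aff p (g0 ^ 2) (pow_ne_zero 2 hg0) 0 = aff p (g0 ^ 2) (pow_ne_zero 2 hg0) 0 * t →
      False) :
    Nonempty (G ≃* Lp p g0 hg0) := by
  have hmp : m < p := by omega
  obtain ⟨φ, hinj, ⟨s, hs⟩, hstab, htr⟩ := exists_rep (G := G) p m hm0 hmp hG harith
  let e : G ≃* φ.range := MonoidHom.ofInjective hinj
  have hsimp : IsSimpleGroup φ.range := e.symm.isSimpleGroup
  have hcardX : Nat.card φ.range = (p + 1) * p * m := by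
    rw [← hG]; exact (Nat.card_congr e.toEquiv).symm
  have hsig : sig p ∈ φ.range := ⟨s, hs⟩
  have hX2 : ∀ g ∈ φ.range, g none = none → IsAS p g := by
    rintro g ⟨x, rfl⟩ hx
    obtain ⟨⟨k, hk⟩, hpow⟩ := hstab x hx
    exact isAS_of_normalizes p m hm _ hx k hk hpow
  have htrans : ∀ x y : Option (ZMod p), ∃ g ∈ φ.range, g x = y := by
    intro x y
    obtain ⟨g, hg⟩ := htr x y
    exact ⟨φ g, ⟨g, rfl⟩, hg⟩
  have hX3 : ∀ f : Equiv.Perm (Option (ZMod p)), IsAS p f → f ∈ φ.range :=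
    fun f hf => isAS_mem p m φ.range hX2 htrans hcardX hsq f hf
  have hX := eq_Lp p m g0 hg0 exc hgen hsqgen cert φ.range hsig hX2 hX3 htrans
    (fun he => hexc he φ.range hsimp hcardX hX2 hX3)
  exact ⟨e.trans (MulEquiv.subgroupCongr hX)⟩

end Cfsg.Agent.Lib.Helper1.PSL2Rec
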