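import Cfsg.Agent.Lib.Helper1.PSL2Rec11

set_option autoImplicit false
set_option linter.unusedSectionVars false

namespace Cfsg.Agent.Lib.Helper1.PSL2Rec

theorem fact_prime_seven : Fact (Nat.Prime 7) := ⟨by norm_num⟩
theorem fact_prime_three : Fact (Nat.Prime 3) := ⟨by norm_num⟩

attribute [local instance] fact_prime_seven fact_prime_three

theorem three_ne_zero_seven : (3 : ZMod 7) ≠ 0 := by decide

/-- elements fixing `∞` and `0` commute with the multiplications -/
theorem commute_of_fix (p : ℕ) [hp : Fact p.Prime] (X : Subgroup (Equiv.Perm (Option (ZMod p))))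
    (hX2 : ∀ g ∈ X, g none = none → IsAS p g) (c0 : ZMod p) (hc0 : c0 ≠ 0)
    (u : Equiv.Perm (Option (ZMod p))) (hu : u ∈ X) (hu1 : u none = none)
    (hu2 : u (some 0) = some 0) : u * aff p c0 hc0 0 = aff p c0 hc0 0 * u := by
  obtain ⟨a, _, _, _, b, hb⟩ := hX2 u hu hu1
  have hb0 : b = 0 := by
    have := hb 0
    rw [hu2, mul_zero, zero_add] at this
    exact (Option.some.inj this).symm
  ext1 x
  rcases x with _ | x
  · simp only [Equiv.Perm.mul_apply, aff_none, hu1]
  · simp only [Equiv.Perm.mul_apply, aff_some, hb, hb0, add_zero]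
    congr 1; ring

theorem fix_of_pow (p : ℕ) [hp : Fact p.Prime] (c0 : ZMod p) (hc0 : c0 ≠ 0) (k : ℕ)
    (hk : aff p c0 hc0 0 ^ k ≠ 1) (y : Option (ZMod p))
    (hy : (aff p c0 hc0 0 ^ k) y = y) : y = none ∨ y = some 0 := by
  rcases y with _ | x
  · left; rfl
  · right
    rw [aff_pow_some] at hy
    have h1 : c0 ^ k * x = x := Option.some.inj hy
    by_contra hx
    have hx0 : x ≠ 0 := fun h => hx (by rw [h])
    have h2 : c0 ^ k = 1 := by
      have : (c0 ^ k - 1) * x = 0 := by rw [sub_mul, one_mul, h1, sub_self]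
      rcases mul_eq_zero.1 this with h | h
      · exact sub_eq_zero.1 h
      · exact absurd h hx0
    apply hk
    ext1 z
    rcases z with _ | z
    · rw [aff_pow_none]; rfl
    · rw [aff_pow_some, h2, one_mul]; rfl

theorem exc_seven (X : Subgroup (Equiv.Perm (Option (ZMod 7)))) (hsimp : IsSimpleGroup X)
    (hcard : Nat.card X = (7 + 1) * 7 * 3)
    (hX2 : ∀ g ∈ X, g none = none → IsAS 7 g)
    (hX3 : ∀ f : Equiv.Perm (Option (ZMod 7)), IsAS 7 f → f ∈ X)
    (t : Equiv.Perm (Option (ZMod 7))) (ht : t ∈ X) (ht1 : t none = some 0)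
    (ht2 : t (some 0) = none)
    (hcomm : t * aff 7 ((3 : ZMod 7) ^ 2) (pow_ne_zero 2 three_ne_zero_seven) 0 =
      aff 7 ((3 : ZMod 7) ^ 2) (pow_ne_zero 2 three_ne_zero_seven) 0 * t) : False := by
  set c0 : ZMod 7 := (3 : ZMod 7) ^ 2 with hc0def
  have hc0 : c0 ≠ 0 := pow_ne_zero 2 three_ne_zero_seven
  set h0 := aff 7 c0 hc0 0 with hh0def
  have hh0 : h0 ∈ X := hX3 _ (isAS_aff 7 _ _ ⟨3, by ring⟩ 0)
  have hpow : h0 ^ 3 = 1 := by
    ext1 x
    rcases x with _ | x
    · rw [aff_pow_none]; rfl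
    · rw [aff_pow_some]
      have : c0 ^ 3 = 1 := by decide
      rw [this, one_mul]; rfl
  have hne : h0 ≠ 1 := by
    intro h
    have h1 := congrArg (fun f : Equiv.Perm (Option (ZMod 7)) => f (some 1)) h
    simp only [hh0def, aff_some, Equiv.Perm.one_apply] at h1
    revert h1
    decide
  let hX0 : ↥X := ⟨h0, hh0⟩
  have hord : orderOf hX0 = 3 := by
    apply orderOf_eq_prime
    · exact Subtype.ext hpow
    · intro h
      exact hne (congrArg Subtype.val h)
  have hcardH : Nat.card (Subgroup.zpowers hX0) = 3 := by rw [Nat.card_zpowers, hord]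
  have hfac : (Nat.card ↥X).factorization 3 = 1 := by
    rw [hcard, show (7 + 1) * 7 * 3 = 3 * 56 by norm_num,
      Nat.factorization_mul (by norm_num) (by norm_num), Finsupp.add_apply,
      Nat.Prime.factorization_self (by norm_num),
      Nat.factorization_eq_zero_of_not_dvd (by norm_num)]
  let P : Sylow 3 ↥X := Sylow.ofCard (Subgroup.zpowers hX0) (by rw [hcardH, hfac, pow_one])
  have hPcoe : (P : Subgroup ↥X) = Subgroup.zpowers hX0 := Sylow.coe_ofCard _ _
  -- elements of the normaliser commute with `h0`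
  have key : ∀ g : ↥X, g ∈ Subgroup.normalizer (P : Set ↥X) →
      (g : Equiv.Perm (Option (ZMod 7))) * h0 = h0 * (g : Equiv.Perm (Option (ZMod 7))) := by
    intro g hg
    have h1 : g * hX0 * g⁻¹ ∈ (P : Subgroup ↥X) := by
      apply (Subgroup.mem_normalizer_iff.1 hg hX0).1
      rw [hPcoe]; exact Subgroup.mem_zpowers hX0
    rw [hPcoe, ← (isOfFinOrder_of_finite hX0).mem_powers_iff_mem_zpowers,
      Submonoid.mem_powers_iff] at h1
    obtain ⟨k, hk⟩ := h1
    have hk' : h0 ^ k = (g : Equiv.Perm (Option (ZMod 7))) * h0 *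
        (g : Equiv.Perm (Option (ZMod 7)))⁻¹ := by
      have := congrArg Subtype.val hk
      simpa using this
    have hkne : h0 ^ k ≠ 1 := by
      rw [hk']
      intro h
      apply hne
      calc h0 = (g : Equiv.Perm (Option (ZMod 7)))⁻¹ * ((g : Equiv.Perm (Option (ZMod 7))) * h0 *
            (g : Equiv.Perm (Option (ZMod 7)))⁻¹) * (g : Equiv.Perm (Option (ZMod 7))) := by group
        _ = 1 := by rw [h]; group
    have hfixg : ∀ y, h0 y = y → (h0 ^ k) ((g : Equiv.Perm (Option (ZMod 7))) y) =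
        (g : Equiv.Perm (Option (ZMod 7))) y := by
      intro y hy
      rw [hk']
      simp only [Equiv.Perm.mul_apply, Equiv.Perm.coe_inv, Equiv.symm_apply_apply, hy]
    have hg1 := fix_of_pow 7 c0 hc0 k hkne _ (hfixg none rfl)
    have hg2 := fix_of_pow 7 c0 hc0 k hkne _
      (hfixg (some 0) (by rw [hh0def, aff_some, mul_zero, add_zero]))
    rcases hg1 with hg1 | hg1
    · have hg2' : (g : Equiv.Perm (Option (ZMod 7))) (some 0) = some 0 := by
        rcases hg2 with hg2 | hg2
        · exact absurd ((g : Equiv.Perm (Option (ZMod 7))).injective (hg2.trans hg1.symm))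
            (Option.some_ne_none _)
        · exact hg2
      exact commute_of_fix 7 X hX2 c0 hc0 _ g.2 hg1 hg2'
    · have hg2' : (g : Equiv.Perm (Option (ZMod 7))) (some 0) = none := by
        rcases hg2 with hg2 | hg2
        · exact hg2
        · exact absurd ((g : Equiv.Perm (Option (ZMod 7))).injective (hg2.trans hg1.symm))
            (Option.some_ne_none _)
      have hinv1 : t⁻¹ none = some 0 := by rw [Equiv.Perm.inv_eq_iff_eq, ht2]
      have hinv2 : t⁻¹ (some 0) = none := by rw [Equiv.Perm.inv_eq_iff_eq, ht1]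
      have hu := commute_of_fix 7 X hX2 c0 hc0 (t⁻¹ * (g : Equiv.Perm (Option (ZMod 7))))
        (X.mul_mem (X.inv_mem ht) g.2)
        (by rw [Equiv.Perm.mul_apply, hg1, hinv2])
        (by rw [Equiv.Perm.mul_apply, hg2', hinv1])
      calc (g : Equiv.Perm (Option (ZMod 7))) * h0
          = t * ((t⁻¹ * (g : Equiv.Perm (Option (ZMod 7)))) * h0) := by group
        _ = t * (h0 * (t⁻¹ * (g : Equiv.Perm (Option (ZMod 7))))) := by rw [hu]
        _ = (t * h0) * (t⁻¹ * (g : Equiv.Perm (Option (ZMod 7)))) := by group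
        _ = (h0 * t) * (t⁻¹ * (g : Equiv.Perm (Option (ZMod 7)))) := by rw [hcomm]
        _ = h0 * (g : Equiv.Perm (Option (ZMod 7))) := by group
  have hNC : Subgroup.normalizer (P : Set ↥X) ≤ Subgroup.centralizer (P : Set ↥X) := by
    intro g hg
    have hc : Commute g hX0 := by
      apply Subtype.ext
      exact key g hg
    rw [Subgroup.mem_centralizer_iff]
    intro h hh
    have hh' : h ∈ Subgroup.zpowers hX0 := by rw [← hPcoe]; exact hh
    obtain ⟨n, rfl⟩ := Subgroup.mem_zpowers_iff.1 hh'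
    exact ((hc.zpow_right n).eq).symm
  have hK := MonoidHom.ker_transferSylow_isComplement' P hNC
  have hcm := hK.card_mul_card
  have hPc : Nat.card (P : Subgroup ↥X) = 3 := by rw [hPcoe, hcardH]
  rw [hPc, hcard] at hcm
  rcases (MonoidHom.normal_ker (MonoidHom.transferSylow P hNC)).eq_bot_or_eq_top with h | h
  · rw [h, Subgroup.card_bot] at hcm; omega
  · rw [h, Subgroup.card_top, hcard] at hcm; omega

end Cfsg.Agent.Lib.Helper1.PSL2Rec
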