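import Cfsg.Agent.Lib.Helper1.PSL2Rec11

set_option autoImplicit false
set_option linter.unusedSectionVars false

namespace Cfsg.Agent.Lib.Helper1.PSL2Rec

open MulAction

variable {G : Type*} [Group G] [Finite G] (p : ℕ) [hp : Fact p.Prime]

/-- variant of `exists_rep` with the Sylow count and the faithfulness as hypotheses -/
theorem exists_rep' (m : ℕ) (hm0 : 0 < m) (hmp : m < p)
    (hG : Nat.card G = (p + 1) * p * m) (hcard : Nat.card (Sylow p G) = p + 1)
    (hfaith : ∀ g : G, (∀ Q : Sylow p G, g • Q = Q) → g = 1) :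
    ∃ φ : G →* Equiv.Perm (Option (ZMod p)), Function.Injective φ ∧ (∃ s, φ s = sig p) ∧
      (∀ g, φ g none = none →
        (∃ k : ℕ, φ g * sig p * (φ g)⁻¹ = sig p ^ k) ∧ φ g ^ (p * m) = 1) ∧
      ∀ x y, ∃ g, φ g x = y := by
  let P : Sylow p G := default
  have hP := card_sylow_sub p m hm0 hmp hG P
  obtain ⟨s0, hs0⟩ := exists_prime_orderOf_dvd_card' (G := ↥(P : Subgroup G)) p (by rw [hP])
  set s : G := (s0 : G) with hsdef
  have hs : s ∈ P := s0.2
  have hso : orderOf s = p := by rw [hsdef, Subgroup.orderOf_coe, hs0]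
  have hnt : Nontrivial (Sylow p G) := by
    rw [← Finite.one_lt_card_iff_nontrivial, hcard]
    have := hp.out.pos
    omega
  obtain ⟨Q0, hQ⟩ := exists_ne P
  let E := labEquiv p s P Q0 hs hso hP hQ hcard
  have hEnone : E none = P := rfl
  have hphis : phi p E s = sig p := phi_s p s P Q0 hs hso hP hQ hcard
  refine ⟨phi p E, ?_, ⟨s, hphis⟩, ?_, ?_⟩
  · rw [injective_iff_map_eq_one]
    intro g hg
    apply hfaith
    intro Q
    have h1 := congrArg (fun f : Equiv.Perm (Option (ZMod p)) => f (E.symm Q)) hg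
    simp only [phi_apply, Equiv.apply_symm_apply, Equiv.Perm.one_apply] at h1
    exact E.symm.injective h1
  · intro g hg
    rw [phi_apply, Equiv.symm_apply_eq, hEnone] at hg
    rw [Sylow.smul_eq_iff_mem_normalizer] at hg
    constructor
    · have h1 : g * s * g⁻¹ ∈ (P : Subgroup G) := (Subgroup.mem_normalizer_iff.1 hg s).1 hs
      have hle : Subgroup.zpowers s ≤ (P : Subgroup G) := by
        rw [Subgroup.zpowers_le]; exact hs
      have heq : Subgroup.zpowers s = (P : Subgroup G) :=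
        Subgroup.eq_of_le_of_card_ge hle (by rw [Nat.card_zpowers, hso, hP])
      rw [← heq, ← (isOfFinOrder_of_finite s).mem_powers_iff_mem_zpowers,
        Submonoid.mem_powers_iff] at h1
      obtain ⟨k, hk⟩ := h1
      refine ⟨k, ?_⟩
      rw [← hphis, ← map_inv, ← map_mul, ← map_mul, ← map_pow, hk]
    · have hN : Nat.card (Subgroup.normalizer (P : Set G)) = p * m := by
        have h1 := Sylow.card_eq_index_normalizer P
        have h2 := (Subgroup.normalizer (P : Set G)).card_mul_index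
        rw [← h1, hcard, hG] at h2
        have h3 : (p + 1) * (p * m) = (p + 1) * p * m := by ring
        rw [← h3, mul_comm] at h2
        exact Nat.eq_of_mul_eq_mul_left (by omega) h2
      have h4 : (⟨g, hg⟩ : Subgroup.normalizer (P : Set G)) ^ (p * m) = 1 := by
        rw [← hN]; exact pow_card_eq_one'
      have h5 : g ^ (p * m) = 1 := by
        have := congrArg Subtype.val h4
        simpa using this
      rw [← map_pow, h5, map_one]
  · intro x y
    obtain ⟨g, hg⟩ := MulAction.exists_smul_eq G (E x) (E y)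
    exact ⟨g, by rw [phi_apply, hg, Equiv.symm_apply_apply]⟩

theorem iso_Lp' (m : ℕ) (hm : p = 2 * m + 1)
    (hm0 : 0 < m) (hG : Nat.card G = (p + 1) * p * m)
    (hcard : Nat.card (Sylow p G) = p + 1)
    (hfaith : ∀ g : G, (∀ Q : Sylow p G, g • Q = Q) → g = 1)
    (hsq : Nat.card {a : ZMod p // a ≠ 0 ∧ sq p a} = m)
    (g0 : ZMod p) (hg0 : g0 ≠ 0)
    (hgen : ∀ x : ZMod p, x ≠ 0 → ∃ j < m, x = (g0 ^ 2) ^ j ∨ x = g0 * (g0 ^ 2) ^ j)
    (hsqgen : ∀ a : ZMod p, a ≠ 0 → sq p a → ∃ j : ℕ, a = (g0 ^ 2) ^ j)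
    (cert : Cert p m g0 false) :
    Nonempty (G ≃* Lp p g0 hg0) := by
  have hmp : m < p := by omega
  obtain ⟨φ, hinj, ⟨s, hs⟩, hstab, htr⟩ := exists_rep' (G := G) p m hm0 hmp hG hcard hfaith
  let e : G ≃* φ.range := MonoidHom.ofInjective hinj
  have hcardX : Nat.card φ.range = (p + 1) * p * m := by
    rw [← hG]; exact (Nat.card_congr e.toEquiv).symm
  have hsig : sig p ∈ φ.range := ⟨s, hs⟩
  have hX2 : ∀ g ∈ φ.range, g none = none → IsAS p g := by
    rintro g ⟨x, rfl⟩ hx
    obtain ⟨⟨k, hk⟩, hpow⟩ := hstab x hx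
    exact isAS_of_normalizes p m hm _ hx k hk hpow
  have htrans : ∀ x y : Option (ZMod p), ∃ g ∈ φ.range, g x = y := by
    intro x y
    obtain ⟨g, hg⟩ := htr x y
    exact ⟨φ g, ⟨g, rfl⟩, hg⟩
  have hX3 : ∀ f : Equiv.Perm (Option (ZMod p)), IsAS p f → f ∈ φ.range :=
    fun f hf => isAS_mem p m φ.range hX2 htrans hcardX hsq f hf
  have hX := eq_Lp p m g0 hg0 false hgen hsqgen cert φ.range hsig hX2 hX3 htrans
    (fun he => by cases he)
  exact ⟨e.trans (MulEquiv.subgroupCongr hX)⟩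

end Cfsg.Agent.Lib.Helper1.PSL2Rec
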