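import Cfsg.Agent.Lib.Helper1.PSL2Rec1

set_option autoImplicit false
set_option linter.unusedSectionVars false

namespace Cfsg.Agent.Lib.Helper1.PSL2Rec

open MulAction

variable {G : Type*} [Group G] [Finite G] (p : ℕ) [hp : Fact p.Prime]

/-- the labelling of the Sylow `p`-subgroups by the projective line -/
def lab (s : G) (P Q0 : Sylow p G) : Option (ZMod p) → Sylow p G
  | none => P
  | some i => s ^ (ZMod.val i) • Q0

theorem pow_smul_ne (s : G) (P Q0 : Sylow p G) (hs : s ∈ P) (hQ : Q0 ≠ P) (k : ℕ) :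
    s ^ k • Q0 ≠ P := by
  intro h
  apply hQ
  have h1 : (s ^ k)⁻¹ • P = P := by
    rw [Sylow.smul_eq_iff_mem_normalizer]
    exact Subgroup.le_normalizer (inv_mem (pow_mem hs k))
  rw [← h1, ← h, smul_smul, inv_mul_cancel, one_smul]

theorem eq_one_of_mem_inf (P Q0 : Sylow p G) (hP : Nat.card (P : Subgroup G) = p) (hQ : Q0 ≠ P)
    (z : G) (hzP : z ∈ P) (hzQ : z ∈ Subgroup.normalizer (Q0 : Set G)) : z = 1 := by
  by_contra hz
  have h1 : z ∈ (P : Subgroup G) ⊓ Subgroup.normalizer (Q0 : Set G) := ⟨hzP, hzQ⟩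
  rw [P.2.inf_normalizer_sylow Q0] at h1
  have hzQ0 : z ∈ (Q0 : Subgroup G) := h1.2
  have hle : Subgroup.zpowers z ≤ (P : Subgroup G) := by
    rw [Subgroup.zpowers_le]; exact hzP
  have hcard : Nat.card (Subgroup.zpowers z) = p := by
    have hd : Nat.card (Subgroup.zpowers z) ∣ p := by
      rw [← hP]; exact Subgroup.card_dvd_of_le hle
    rcases (Nat.dvd_prime hp.out).1 hd with h | h
    · exfalso
      rw [Nat.card_zpowers, orderOf_eq_one_iff] at h
      exact hz h
    · exact h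
  have heq : Subgroup.zpowers z = (P : Subgroup G) :=
    Subgroup.eq_of_le_of_card_ge hle (by rw [hcard, hP])
  have hPQ : (P : Subgroup G) ≤ (Q0 : Subgroup G) := by
    rw [← heq, Subgroup.zpowers_le]; exact hzQ0
  have hQc : Nat.card (Q0 : Subgroup G) = p := by
    rw [Sylow.card_eq_multiplicity, ← Sylow.card_eq_multiplicity P, hP]
  apply hQ
  apply Sylow.ext
  exact (Subgroup.eq_of_le_of_card_ge hPQ (by rw [hQc, hP])).symm

theorem lab_injective (s : G) (P Q0 : Sylow p G) (hs : s ∈ P) (hso : orderOf s = p)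
    (hP : Nat.card (P : Subgroup G) = p) (hQ : Q0 ≠ P) :
    Function.Injective (lab p s P Q0) := by
  intro a b hab
  rcases a with _ | i <;> rcases b with _ | j
  · rfl
  · exact absurd hab.symm (pow_smul_ne p s P Q0 hs hQ _)
  · exact absurd hab (pow_smul_ne p s P Q0 hs hQ _)
  · simp only [lab] at hab
    have h1 : ((s ^ ZMod.val j)⁻¹ * s ^ ZMod.val i) • Q0 = Q0 := by
      rw [mul_smul, hab, smul_smul, inv_mul_cancel, one_smul]
    rw [Sylow.smul_eq_iff_mem_normalizer] at h1
    have h2 : (s ^ ZMod.val j)⁻¹ * s ^ ZMod.val i ∈ P :=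
      mul_mem (inv_mem (pow_mem hs _)) (pow_mem hs _)
    have h3 := eq_one_of_mem_inf p P Q0 hP hQ _ h2 h1
    have h4 : s ^ ZMod.val i = s ^ ZMod.val j := by
      rw [inv_mul_eq_one] at h3; exact h3.symm
    rw [pow_eq_pow_iff_modEq, hso] at h4
    have h5 : ZMod.val i = ZMod.val j := by
      have hi := ZMod.val_lt i
      have hj := ZMod.val_lt j
      rw [Nat.ModEq, Nat.mod_eq_of_lt hi, Nat.mod_eq_of_lt hj] at h4
      exact h4
    exact congrArg some (ZMod.val_injective p h5)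

end Cfsg.Agent.Lib.Helper1.PSL2Rec
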