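import Cfsg.Agent.Lib.Helper1.PSL2Rec2

set_option autoImplicit false
set_option linter.unusedSectionVars false

namespace Cfsg.Agent.Lib.Helper1.PSL2Rec

open MulAction

variable {G : Type*} [Group G] [Finite G] (p : ℕ) [hp : Fact p.Prime]

/-- the translation `x ↦ x + 1` of the projective line -/
def sig : Equiv.Perm (Option (ZMod p)) := Equiv.optionCongr (Equiv.addRight (1 : ZMod p))

@[simp] theorem sig_none : sig p none = none := rfl
@[simp] theorem sig_some (x : ZMod p) : sig p (some x) = some (x + 1) := rfl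

theorem sig_pow_none (k : ℕ) : (sig p ^ k) none = none := by
  induction k with
  | zero => rfl
  | succ n ih => rw [pow_succ, Equiv.Perm.mul_apply, sig_none, ih]

theorem sig_pow_some (k : ℕ) (x : ZMod p) : (sig p ^ k) (some x) = some (x + k) := by
  induction k generalizing x with
  | zero => simp
  | succ n ih =>
    rw [pow_succ, Equiv.Perm.mul_apply, sig_some, ih]
    push_cast; ring_nf

theorem card_line : Nat.card (Option (ZMod p)) = p + 1 := by
  have : NeZero p := ⟨hp.out.ne_zero⟩
  rw [Nat.card_eq_fintype_card, Fintype.card_option, ZMod.card]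

theorem lab_natCast (s : G) (P Q0 : Sylow p G) (hso : orderOf s = p) (k : ℕ) :
    lab p s P Q0 (some (k : ZMod p)) = s ^ k • Q0 := by
  have : NeZero p := ⟨hp.out.ne_zero⟩
  simp only [lab]
  have h1 : s ^ (k % p) = s ^ k := by
    conv_lhs => rw [← hso]
    exact pow_mod_orderOf s k
  rw [ZMod.val_natCast, h1]

theorem smul_lab_some (s : G) (P Q0 : Sylow p G) (hso : orderOf s = p) (i : ZMod p) :
    s • lab p s P Q0 (some i) = lab p s P Q0 (some (i + 1)) := by
  have : NeZero p := ⟨hp.out.ne_zero⟩
  have h1 : i + 1 = ((ZMod.val i + 1 : ℕ) : ZMod p) := by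
    rw [Nat.cast_add, ZMod.natCast_zmod_val, Nat.cast_one]
  rw [h1, lab_natCast p s P Q0 hso]
  simp only [lab]
  rw [smul_smul, ← pow_succ']

theorem smul_lab_none (s : G) (P Q0 : Sylow p G) (hs : s ∈ P) :
    s • lab p s P Q0 none = lab p s P Q0 none := by
  simp only [lab]
  rw [Sylow.smul_eq_iff_mem_normalizer]
  exact Subgroup.le_normalizer hs

/-- the labelling as an equivalence -/
noncomputable def labEquiv (s : G) (P Q0 : Sylow p G) (hs : s ∈ P) (hso : orderOf s = p)
    (hP : Nat.card (P : Subgroup G) = p) (hQ : Q0 ≠ P) (hcard : Nat.card (Sylow p G) = p + 1) :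
    Option (ZMod p) ≃ Sylow p G :=
  Equiv.ofBijective (lab p s P Q0)
    ((lab_injective p s P Q0 hs hso hP hQ).bijective_of_nat_card_le
      (by rw [hcard, card_line]))

/-- the permutation representation on the projective line -/
noncomputable def phi (E : Option (ZMod p) ≃ Sylow p G) : G →* Equiv.Perm (Option (ZMod p)) :=
  (E.symm.permCongrHom).toMonoidHom.comp (MulAction.toPermHom G (Sylow p G))

theorem phi_apply (E : Option (ZMod p) ≃ Sylow p G) (g : G) (x : Option (ZMod p)) :
    phi p E g x = E.symm (g • E x) := rfl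

theorem phi_s (s : G) (P Q0 : Sylow p G) (hs : s ∈ P) (hso : orderOf s = p)
    (hP : Nat.card (P : Subgroup G) = p) (hQ : Q0 ≠ P) (hcard : Nat.card (Sylow p G) = p + 1) :
    phi p (labEquiv p s P Q0 hs hso hP hQ hcard) s = sig p := by
  ext1 x
  rw [phi_apply, Equiv.symm_apply_eq]
  rcases x with _ | i
  · exact smul_lab_none p s P Q0 hs
  · exact smul_lab_some p s P Q0 hso i

theorem sig_ne_one : sig p ≠ 1 := by
  intro h
  have h1 := congrArg (fun f : Equiv.Perm (Option (ZMod p)) => f (some 0)) h
  simp only [sig_some, Equiv.Perm.one_apply, Option.some.injEq, zero_add] at h1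
  have : Fact (1 < p) := ⟨hp.out.one_lt⟩
  exact one_ne_zero h1

end Cfsg.Agent.Lib.Helper1.PSL2Rec
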