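import Cfsg.Agent.Lib.Helper1.PSL2Rec4

set_option autoImplicit false
set_option linter.unusedSectionVars false

namespace Cfsg.Agent.Lib.Helper1.PSL2Rec

/-- being a square, in a form convenient for evaluation -/
def sq (p : ℕ) (a : ZMod p) : Prop := ∃ r : ZMod p, a = r * r

/-- `f` fixes the point at infinity and is `x ↦ a x + b` elsewhere -/
def IsAff (p : ℕ) (a : ZMod p) (f : Option (ZMod p) → Option (ZMod p)) : Prop :=
  f none = none ∧ ∃ b : ZMod p, ∀ x, f (some x) = some (a * x + b)

/-- affine with nonzero square multiplier -/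
def IsAS (p : ℕ) (f : Option (ZMod p) → Option (ZMod p)) : Prop :=
  ∃ a : ZMod p, a ≠ 0 ∧ sq p a ∧ IsAff p a f

variable (p : ℕ) [hp : Fact p.Prime]


theorem IsAff.comp {a a' : ZMod p} {f f' : Option (ZMod p) → Option (ZMod p)}
    (h : IsAff p a f) (h' : IsAff p a' f') : IsAff p (a * a') (f ∘ f') := by
  obtain ⟨h1, b, h2⟩ := h
  obtain ⟨h1', b', h2'⟩ := h'
  refine ⟨by simp [h1, h1'], a * b' + b, fun x => ?_⟩
  simp only [Function.comp_apply, h2', h2]
  congr 1; ring

theorem isAff_one : IsAff p 1 (id : Option (ZMod p) → Option (ZMod p)) :=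
  ⟨rfl, 0, fun x => by simp⟩

theorem isAff_pow {a : ZMod p} (g : Equiv.Perm (Option (ZMod p))) (h : IsAff p a g) (n : ℕ) :
    IsAff p (a ^ n) (g ^ n : Equiv.Perm (Option (ZMod p))) := by
  induction n with
  | zero => simpa using isAff_one p
  | succ n ih =>
    rw [pow_succ, pow_succ]
    have := ih.comp p h
    simpa using this

theorem isAff_of_normalizes (g : Equiv.Perm (Option (ZMod p))) (hg : g none = none) (k : ℕ)
    (hk : g * sig p * g⁻¹ = sig p ^ k) : IsAff p (k : ZMod p) g := by
  have hk' : g * sig p = sig p ^ k * g := by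
    rw [← hk]; group
  have hne : ∀ x, g (some x) ≠ none := by
    intro x h
    rw [← hg] at h
    exact Option.some_ne_none x (g.injective h)
  obtain ⟨b, hb⟩ := Option.ne_none_iff_exists'.1 (hne 0)
  refine ⟨hg, b, ?_⟩
  have key : ∀ n : ℕ, g (some (n : ZMod p)) = some ((k : ZMod p) * n + b) := by
    intro n
    induction n with
    | zero => simpa using hb
    | succ n ih =>
      have h1 : g (some ((n : ZMod p) + 1)) = (sig p ^ k) (g (some (n : ZMod p))) := by
        have := congrArg (fun f : Equiv.Perm (Option (ZMod p)) => f (some (n : ZMod p))) hk'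
        simpa using this
      rw [Nat.cast_succ, h1, ih, sig_pow_some]
      congr 1; ring
  intro x
  have : NeZero p := ⟨hp.out.ne_zero⟩
  have hx := key (ZMod.val x)
  rwa [ZMod.natCast_zmod_val] at hx

theorem isAS_of_normalizes (m : ℕ) (hm : p = 2 * m + 1) (g : Equiv.Perm (Option (ZMod p)))
    (hg : g none = none) (k : ℕ) (hk : g * sig p * g⁻¹ = sig p ^ k) (hpow : g ^ (p * m) = 1) :
    IsAS p g := by
  have h1 := isAff_of_normalizes p g hg k hk
  have hne : (k : ZMod p) ≠ 0 := by
    intro h0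
    obtain ⟨_, b, hb⟩ := h1
    have h2 := hb 0
    have h3 := hb 1
    rw [h0, zero_mul] at h2 h3
    have h4 := g.injective (h2.trans h3.symm)
    have : Fact (1 < p) := ⟨hp.out.one_lt⟩
    exact zero_ne_one (Option.some.inj h4)
  refine ⟨k, hne, ?_, h1⟩
  have h2 := isAff_pow p g h1 (p * m)
  rw [hpow] at h2
  obtain ⟨_, b, hb⟩ := h2
  have h3 := hb 0
  have h4 := hb 1
  simp only [Equiv.Perm.coe_one, id_eq, mul_zero, zero_add, mul_one, Option.some.injEq] at h3 h4
  rw [← h3, add_zero] at h4
  have h5 : (k : ZMod p) ^ m = 1 := by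
    rw [pow_mul, ZMod.pow_card] at h4
    exact h4.symm
  have h6 : p / 2 = m := by omega
  have h7 : IsSquare (k : ZMod p) := by
    rw [ZMod.euler_criterion p hne, h6]; exact h5
  obtain ⟨r, hr⟩ := h7
  exact ⟨r, hr⟩

end Cfsg.Agent.Lib.Helper1.PSL2Rec
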