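import Cfsg.Agent.Lib.Helper1.PSL2Rec5

set_option autoImplicit false
set_option linter.unusedSectionVars false

namespace Cfsg.Agent.Lib.Helper1.PSL2Rec

open MulAction

variable (p : ℕ) [hp : Fact p.Prime]

theorem isAS_mem (m : ℕ) (X : Subgroup (Equiv.Perm (Option (ZMod p))))
    (hX2 : ∀ g ∈ X, g none = none → IsAS p g)
    (htrans : ∀ x y : Option (ZMod p), ∃ g ∈ X, g x = y)
    (hcardX : Nat.card X = (p + 1) * p * m)
    (hsq : Nat.card {a : ZMod p // a ≠ 0 ∧ sq p a} = m)
    (f : Equiv.Perm (Option (ZMod p))) (hf : IsAS p f) : f ∈ X := by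
  classical
  have : NeZero p := ⟨hp.out.ne_zero⟩
  have hpre : IsPretransitive ↥X (Option (ZMod p)) := by
    constructor
    intro x y
    obtain ⟨g, hg, hgx⟩ := htrans x y
    exact ⟨⟨g, hg⟩, hgx⟩
  have hidx := MulAction.index_stabilizer_of_transitive ↥X (none : Option (ZMod p))
  rw [card_line] at hidx
  have hSt : Nat.card (stabilizer ↥X (none : Option (ZMod p))) = p * m := by
    have h2 := (stabilizer ↥X (none : Option (ZMod p))).card_mul_index
    rw [hidx, hcardX] at h2
    have h3 : (p + 1) * (p * m) = (p + 1) * p * m := by ring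
    rw [← h3, mul_comm] at h2
    exact Nat.eq_of_mul_eq_mul_left (by omega) h2
  have hAS : ∀ g : stabilizer ↥X (none : Option (ZMod p)),
      IsAS p ((g : ↥X) : Equiv.Perm (Option (ZMod p))) := by
    intro g
    exact hX2 _ (g : ↥X).2 g.2
  let ι : stabilizer ↥X (none : Option (ZMod p)) → {a : ZMod p // a ≠ 0 ∧ sq p a} × ZMod p :=
    fun g => (⟨(hAS g).choose, (hAS g).choose_spec.1, (hAS g).choose_spec.2.1⟩,
      (hAS g).choose_spec.2.2.2.choose)
  have hι : ∀ (g : stabilizer ↥X (none : Option (ZMod p))) (x : ZMod p), ((g : ↥X) : Equiv.Perm (Option (ZMod p))) (some x) =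
      some (((ι g).1 : ZMod p) * x + (ι g).2) := by
    intro g x
    exact (hAS g).choose_spec.2.2.2.choose_spec x
  have hinj : Function.Injective ι := by
    intro g1 g2 h12
    apply Subtype.ext
    apply Subtype.ext
    ext1 x
    rcases x with _ | x
    · have h1 : ((g1 : ↥X) : Equiv.Perm (Option (ZMod p))) none = none := g1.2
      have h2 : ((g2 : ↥X) : Equiv.Perm (Option (ZMod p))) none = none := g2.2
      rw [h1, h2]
    · rw [hι g1 x, hι g2 x, h12]
  have hcard : Nat.card ({a : ZMod p // a ≠ 0 ∧ sq p a} × ZMod p) ≤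
      Nat.card (stabilizer ↥X (none : Option (ZMod p))) := by
    rw [Nat.card_prod, hsq, hSt, Nat.card_eq_fintype_card, ZMod.card, mul_comm]
  have hbij := hinj.bijective_of_nat_card_le hcard
  obtain ⟨a, ha, hs, hf0, b, hfb⟩ := hf
  obtain ⟨g, hg⟩ := hbij.2 (⟨a, ha, hs⟩, b)
  have hfg : f = ((g : ↥X) : Equiv.Perm (Option (ZMod p))) := by
    ext1 x
    rcases x with _ | x
    · have h1 : ((g : ↥X) : Equiv.Perm (Option (ZMod p))) none = none := g.2
      rw [h1, hf0]
    · rw [hι g x, hfb x, hg]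
  rw [hfg]
  exact (g : ↥X).2

end Cfsg.Agent.Lib.Helper1.PSL2Rec
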