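import Cfsg.Agent.Lib.Helper1.PSL2Rec6

set_option autoImplicit false
set_option linter.unusedSectionVars false

namespace Cfsg.Agent.Lib.Helper1.PSL2Rec

variable (p : ℕ) [NeZero p]

instance sqDecidable : DecidablePred (sq p) := fun a => by
  unfold sq; infer_instance

/-- translation by `z` as a function -/
def shift (z : ZMod p) : Option (ZMod p) → Option (ZMod p) := Option.map (· + z)

/-- the candidate values on the nonzero residues -/
def Tval (g0 c : ZMod p) : ℕ → ZMod p → ZMod p → ZMod p → ZMod p → ZMod p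
  | 0, _, _, _, _ => 0
  | (j + 1), u, a, b, x =>
    if x = u then a else if x = g0 * u then b
    else Tval g0 c j (g0 ^ 2 * u) (c * a) (c * b) x

/-- the candidate map swapping `∞` and `0` -/
def Tfun (m : ℕ) (g0 c a b : ZMod p) : Option (ZMod p) → Option (ZMod p)
  | none => some 0
  | some x => if x = 0 then none else some (Tval p g0 c m 1 a b x)

/-- the map `x ↦ a / x` -/
def Kfun (a : ZMod p) : Option (ZMod p) → Option (ZMod p)
  | none => some 0
  | some x => if x = 0 then none else some (a * x ^ (p - 2))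

/-- evaluation-friendly form of `IsAS` -/
def ASfun (f : Option (ZMod p) → Option (ZMod p)) : Prop :=
  f none = none ∧ ((f (some 1)).getD 0 - (f (some 0)).getD 0 ≠ 0 ∧
    sq p ((f (some 1)).getD 0 - (f (some 0)).getD 0) ∧
    ∀ x, f (some x) = some (((f (some 1)).getD 0 - (f (some 0)).getD 0) * x + (f (some 0)).getD 0))

instance ASfunDecidable (f : Option (ZMod p) → Option (ZMod p)) : Decidable (ASfun p f) := by
  unfold ASfun; infer_instance

/-- the test words -/
def Vfun (T : Option (ZMod p) → Option (ZMod p)) (y : ZMod p) :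
    Option (ZMod p) → Option (ZMod p) :=
  fun x => T (shift p (-(T (some y)).getD 0) (T (shift p y (T x))))

/-- the certificate for one candidate -/
def CertBody (m : ℕ) (g0 : ZMod p) (exc : Bool) (c a b : ZMod p) : Prop :=
  c ≠ 0 → sq p c → a ≠ 0 → b ≠ 0 →
    ASfun p (Tfun p m g0 c a b ∘ Tfun p m g0 c a b) →
    (∀ y : ZMod p, y ≠ 0 → ASfun p (Vfun p (Tfun p m g0 c a b) y)) →
    ((sq p (-a) ∧ ∀ x, Tfun p m g0 c a b x = Kfun p a x) ∨ (exc = true ∧ c = g0 ^ 2))

instance CertBodyDecidable (m : ℕ) (g0 : ZMod p) (exc : Bool) (c a b : ZMod p) :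
    Decidable (CertBody p m g0 exc c a b) := by
  unfold CertBody; infer_instance

/-- the certificate -/
def Cert (m : ℕ) (g0 : ZMod p) (exc : Bool) : Prop :=
  ∀ c a b : ZMod p, CertBody p m g0 exc c a b

instance CertDecidable (m : ℕ) (g0 : ZMod p) (exc : Bool) : Decidable (Cert p m g0 exc) := by
  unfold Cert; infer_instance

end Cfsg.Agent.Lib.Helper1.PSL2Rec

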