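import Cfsg.Agent.Lib.Helper1.PSL2Rec7

set_option autoImplicit false
set_option linter.unusedSectionVars false

namespace Cfsg.Agent.Lib.Helper1.PSL2Rec

variable (p : ℕ) [hp : Fact p.Prime]

/-- `x ↦ a x + b` as a permutation of the projective line -/
def aff (a : ZMod p) (ha : a ≠ 0) (b : ZMod p) : Equiv.Perm (Option (ZMod p)) :=
  Equiv.optionCongr
    { toFun := fun x => a * x + b
      invFun := fun y => a⁻¹ * (y - b)
      left_inv := fun x => by
        change a⁻¹ * (a * x + b - b) = x
        rw [add_sub_cancel_right, ← mul_assoc, inv_mul_cancel₀ ha, one_mul]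
      right_inv := fun y => by
        change a * (a⁻¹ * (y - b)) + b = y
        rw [← mul_assoc, mul_inv_cancel₀ ha, one_mul, sub_add_cancel] }

@[simp] theorem aff_none (a : ZMod p) (ha : a ≠ 0) (b : ZMod p) : aff p a ha b none = none := rfl
@[simp] theorem aff_some (a : ZMod p) (ha : a ≠ 0) (b x : ZMod p) :
    aff p a ha b (some x) = some (a * x + b) := rfl

theorem isAS_aff (a : ZMod p) (ha : a ≠ 0) (hs : sq p a) (b : ZMod p) : IsAS p (aff p a ha b) :=
  ⟨a, ha, hs, rfl, b, fun _ => rfl⟩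

theorem aff_pow_some (a : ZMod p) (ha : a ≠ 0) (j : ℕ) (x : ZMod p) :
    (aff p a ha 0 ^ j) (some x) = some (a ^ j * x) := by
  induction j generalizing x with
  | zero => simp
  | succ n ih =>
    rw [pow_succ, Equiv.Perm.mul_apply, aff_some, add_zero, ih]
    congr 1; ring

theorem aff_pow_none (a : ZMod p) (ha : a ≠ 0) (j : ℕ) :
    (aff p a ha 0 ^ j) none = none := by
  induction j with
  | zero => rfl
  | succ n ih => rw [pow_succ, Equiv.Perm.mul_apply, aff_none, ih]

/-- `x ↦ -1/x` as a function -/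
def ttFun : Option (ZMod p) → Option (ZMod p)
  | none => some 0
  | some x => if x = 0 then none else some (-x⁻¹)

theorem ttFun_ttFun (o : Option (ZMod p)) : ttFun p (ttFun p o) = o := by
  rcases o with _ | x
  · simp [ttFun]
  · by_cases hx : x = 0
    · simp [ttFun, hx]
    · have h1 : -x⁻¹ ≠ 0 := neg_ne_zero.2 (inv_ne_zero hx)
      simp only [ttFun, hx, if_false, h1, inv_neg, inv_inv, neg_neg]

/-- `x ↦ -1/x` as a permutation -/
def tt : Equiv.Perm (Option (ZMod p)) where
  toFun := ttFun p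
  invFun := ttFun p
  left_inv := ttFun_ttFun p
  right_inv := ttFun_ttFun p

@[simp] theorem tt_none : tt p none = some 0 := rfl
@[simp] theorem tt_zero : tt p (some 0) = none := by
  change ttFun p (some 0) = none
  simp [ttFun]
theorem tt_some (x : ZMod p) (hx : x ≠ 0) : tt p (some x) = some (-x⁻¹) := by
  change ttFun p (some x) = _
  simp [ttFun, hx]

/-- the model group -/
def Lp (g0 : ZMod p) (hg0 : g0 ≠ 0) : Subgroup (Equiv.Perm (Option (ZMod p))) :=
  Subgroup.closure {sig p, aff p (g0 ^ 2) (pow_ne_zero 2 hg0) 0, tt p}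

theorem sig_pow_eq_shift (k : ℕ) (o : Option (ZMod p)) :
    (sig p ^ k) o = shift p (k : ZMod p) o := by
  rcases o with _ | x
  · rw [sig_pow_none]; rfl
  · rw [sig_pow_some]; rfl

theorem sig_pow_val (z : ZMod p) (o : Option (ZMod p)) :
    (sig p ^ (ZMod.val z)) o = shift p z o := by
  rw [sig_pow_eq_shift, ZMod.natCast_zmod_val]

theorem ASfun_of_isAS (f : Option (ZMod p) → Option (ZMod p)) (h : IsAS p f) : ASfun p f := by
  obtain ⟨a, ha, hs, h0, b, hb⟩ := h
  have h1 : (f (some 1)).getD 0 - (f (some 0)).getD 0 = a := by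
    rw [hb 1, hb 0]; simp
  have h2 : (f (some 0)).getD 0 = b := by
    rw [hb 0]; simp
  refine ⟨h0, ?_⟩
  rw [h1, h2]
  exact ⟨ha, hs, hb⟩

end Cfsg.Agent.Lib.Helper1.PSL2Rec
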