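import Cfsg.Agent.Lib.Helper1.PSL2Rec8

set_option autoImplicit false
set_option linter.unusedSectionVars false

namespace Cfsg.Agent.Lib.Helper1.PSL2Rec

variable (p : ℕ) [hp : Fact p.Prime]

theorem exists_swap (X : Subgroup (Equiv.Perm (Option (ZMod p)))) (hsig : sig p ∈ X)
    (htrans : ∀ x y : Option (ZMod p), ∃ g ∈ X, g x = y) :
    ∃ t ∈ X, t none = some 0 ∧ t (some 0) = none := by
  obtain ⟨y, hy, hy0⟩ := htrans none (some 0)
  have hz : y⁻¹ none ≠ none := by
    intro h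
    have : y none = none := by
      have h' := Equiv.Perm.inv_eq_iff_eq.1 h
      exact h'.symm
    rw [hy0] at this
    exact Option.some_ne_none _ this
  obtain ⟨j, hj⟩ := Option.ne_none_iff_exists'.1 hz
  refine ⟨y * sig p ^ (ZMod.val j), X.mul_mem hy (X.pow_mem hsig _), ?_, ?_⟩
  · rw [Equiv.Perm.mul_apply, sig_pow_none, hy0]
  · rw [Equiv.Perm.mul_apply, sig_pow_some, ZMod.natCast_zmod_val, zero_add]
    exact (Equiv.Perm.inv_eq_iff_eq.1 hj).symm

/-- the functional equation satisfied by an element swapping `∞` and `0` -/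
theorem conj_eq (X : Subgroup (Equiv.Perm (Option (ZMod p))))
    (hX2 : ∀ g ∈ X, g none = none → IsAS p g)
    (c0 : ZMod p) (hc0 : c0 ≠ 0) (hh0 : aff p c0 hc0 0 ∈ X)
    (t : Equiv.Perm (Option (ZMod p))) (ht : t ∈ X) (ht1 : t none = some 0)
    (ht2 : t (some 0) = none) :
    ∃ c : ZMod p, ∃ hc : c ≠ 0, sq p c ∧ t * aff p c0 hc0 0 * t⁻¹ = aff p c hc 0 := by
  have hinv1 : t⁻¹ none = some 0 := by rw [Equiv.Perm.inv_eq_iff_eq, ht2]
  have hinv2 : t⁻¹ (some 0) = none := by rw [Equiv.Perm.inv_eq_iff_eq, ht1]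
  have hmem : t * aff p c0 hc0 0 * t⁻¹ ∈ X := X.mul_mem (X.mul_mem ht hh0) (X.inv_mem ht)
  have hfix : (t * aff p c0 hc0 0 * t⁻¹) none = none := by
    simp only [Equiv.Perm.mul_apply, hinv1, aff_some, mul_zero, add_zero, ht2]
  have hfix0 : (t * aff p c0 hc0 0 * t⁻¹) (some 0) = some 0 := by
    simp only [Equiv.Perm.mul_apply, hinv2, aff_none, ht1]
  obtain ⟨c, hc, hs, _, b, hb⟩ := hX2 _ hmem hfix
  have hb0 : b = 0 := by
    have := hb 0
    rw [hfix0, mul_zero, zero_add] at this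
    exact (Option.some.inj this).symm
  refine ⟨c, hc, hs, ?_⟩
  ext1 x
  rcases x with _ | x
  · rw [hfix]; rfl
  · rw [hb x, hb0]; rfl

theorem conj_apply (c0 : ZMod p) (hc0 : c0 ≠ 0) (c : ZMod p) (hc : c ≠ 0)
    (t : Equiv.Perm (Option (ZMod p)))
    (hconj : t * aff p c0 hc0 0 * t⁻¹ = aff p c hc 0) (u u' : ZMod p)
    (hu : t (some u) = some u') : t (some (c0 * u)) = some (c * u') := by
  have h1 : t * aff p c0 hc0 0 = aff p c hc 0 * t := by
    rw [← hconj]; group
  have h2 := congrArg (fun f : Equiv.Perm (Option (ZMod p)) => f (some u)) h1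
  simp only [Equiv.Perm.mul_apply, aff_some, add_zero, hu] at h2
  exact h2

theorem t_eq_Tval (g0 : ZMod p) (hg0 : g0 ≠ 0) (c : ZMod p) (hc : c ≠ 0)
    (t : Equiv.Perm (Option (ZMod p)))
    (hconj : t * aff p (g0 ^ 2) (pow_ne_zero 2 hg0) 0 * t⁻¹ = aff p c hc 0) :
    ∀ (J : ℕ) (u a b x : ZMod p), t (some u) = some a → t (some (g0 * u)) = some b →
      (∃ j < J, x = (g0 ^ 2) ^ j * u ∨ x = g0 * (g0 ^ 2) ^ j * u) →
      t (some x) = some (Tval p g0 c J u a b x) := by
  intro J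
  induction J with
  | zero =>
    intro u a b x _ _ h
    obtain ⟨j, hj, _⟩ := h
    exact absurd hj (Nat.not_lt_zero j)
  | succ J ih =>
    intro u a b x hu hgu h
    simp only [Tval]
    by_cases h1 : x = u
    · rw [if_pos h1, h1, hu]
    · rw [if_neg h1]
      by_cases h2 : x = g0 * u
      · rw [if_pos h2, h2, hgu]
      · rw [if_neg h2]
        apply ih
        · exact conj_apply p _ _ c hc t hconj u a hu
        · have := conj_apply p _ _ c hc t hconj (g0 * u) b hgu
          rw [show g0 * (g0 ^ 2 * u) = g0 ^ 2 * (g0 * u) by ring]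
          exact this
        · obtain ⟨j, hj, hx⟩ := h
          rcases j with _ | j
          · exfalso
            rcases hx with hx | hx
            · exact h1 (by rw [hx]; ring)
            · exact h2 (by rw [hx]; ring)
          · refine ⟨j, by omega, ?_⟩
            rcases hx with hx | hx
            · left; rw [hx]; ring
            · right; rw [hx]; ring

theorem t_eq_Tfun (m : ℕ) (g0 : ZMod p) (hg0 : g0 ≠ 0) (c : ZMod p) (hc : c ≠ 0)
    (hgen : ∀ x : ZMod p, x ≠ 0 → ∃ j < m, x = (g0 ^ 2) ^ j ∨ x = g0 * (g0 ^ 2) ^ j)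
    (t : Equiv.Perm (Option (ZMod p))) (ht1 : t none = some 0) (ht2 : t (some 0) = none)
    (hconj : t * aff p (g0 ^ 2) (pow_ne_zero 2 hg0) 0 * t⁻¹ = aff p c hc 0)
    (a b : ZMod p) (ha : t (some 1) = some a) (hb : t (some g0) = some b) :
    ⇑t = Tfun p m g0 c a b := by
  funext o
  rcases o with _ | x
  · rw [ht1]; rfl
  · by_cases hx : x = 0
    · rw [hx, ht2]; simp [Tfun]
    · simp only [Tfun, if_neg hx]
      apply t_eq_Tval p g0 hg0 c hc t hconj m 1 a b x ha (by rw [mul_one]; exact hb)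
      obtain ⟨j, hj, h⟩ := hgen x hx
      exact ⟨j, hj, by simpa using h⟩

end Cfsg.Agent.Lib.Helper1.PSL2Rec
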