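import Mathlib
import Cfsg.Agent.Lib.Lead.PSingDefs

/-!
# S4321, package Q4: `center_of_dich`

If a `p`-element whose class size is divisible by `p` always has `p`-power class size
(`Dich G p`), the Sylow `p`-subgroup `P` is normal and some `p`-element `u` has class size
divisible by `p`, then `p` divides `|Z(G)|`.

Paper proof: `notes/S4321_paper_lead.md`, Q4.
-/

set_option autoImplicit false

namespace Cfsg.Agent.Lib.Helper1.PSing

open Cfsg.Agent.Lib.Lead.PSing
open Pointwise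

universe u

/-- a nilpotent group which is not abelian has a non-central element all of whose
commutators are central -/
theorem exists_second_center {H : Type*} [Group H] [Group.IsNilpotent H]
    (hne : Subgroup.center H ≠ ⊤) :
    ∃ w : H, w ∉ Subgroup.center H ∧ ∀ y : H, w * y * w⁻¹ * y⁻¹ ∈ Subgroup.center H := by
  by_contra hcon
  push Not at hcon
  have key : ∀ n : ℕ, Subgroup.upperCentralSeries H (n + 1) = Subgroup.center H := by
    intro n
    induction n with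
    | zero => exact Subgroup.upperCentralSeries_one H
    | succ k ih =>
      ext x
      rw [Subgroup.mem_upperCentralSeries_succ_iff, ih]
      constructor
      · intro hx
        by_contra hxc
        obtain ⟨y, hy⟩ := hcon x hxc
        apply hy
        have := hx y
        rwa [commutatorElement_def] at this
      · intro hx y
        have h1 : y * x = x * y := Subgroup.mem_center_iff.mp hx y
        have h2 : x * y * x⁻¹ * y⁻¹ = 1 := by
          rw [← h1]; group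
        rw [commutatorElement_def, h2]; exact one_mem _
  obtain ⟨n, hn⟩ := Group.IsNilpotent.nilpotent' (G := H)
  apply hne
  rw [← key n, eq_top_iff, ← hn]
  exact Subgroup.upperCentralSeries_mono H (Nat.le_succ n)

variable {G : Type u} [Group G] [Finite G] {p : ℕ} [Fact p.Prime]

omit [Finite G] in
/-- elements of a Sylow `p`-subgroup have `p`-power order -/
theorem isPEl_of_mem (P : Sylow p G) {x : G} (hx : x ∈ (P : Subgroup G)) : IsPEl p x := by
  obtain ⟨k, hk⟩ := P.isPGroup' ⟨x, hx⟩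
  have h1 : x ^ (p ^ k) = 1 := by
    have := congrArg Subtype.val hk
    simpa using this
  have h2 : orderOf x ∣ p ^ k := orderOf_dvd_of_pow_eq_one h1
  obtain ⟨j, -, hj⟩ := (Nat.dvd_prime_pow (Fact.out : p.Prime)).1 h2
  exact ⟨j, hj⟩

/-- `p`-elements lie in a normal Sylow `p`-subgroup -/
theorem mem_of_isPEl (P : Sylow p G) (hP : (P : Subgroup G).Normal) {x : G} (hx : IsPEl p x) :
    x ∈ (P : Subgroup G) := by
  obtain ⟨k, hk⟩ := hx
  have hz : IsPGroup p (Subgroup.zpowers x) := by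
    apply IsPGroup.of_card (n := k)
    rw [Nat.card_zpowers, hk]
  obtain ⟨Q, hQ⟩ := hz.exists_le_sylow
  have := Sylow.unique_of_normal P hP
  have hQP : Q = P := Subsingleton.elim _ _
  rw [← hQP]
  exact hQ (Subgroup.mem_zpowers x)

/-- a normal Sylow `p`-subgroup centralizes every element whose class size is prime to `p` -/
theorem comm_of_not_dvd (P : Sylow p G) (hP : (P : Subgroup G).Normal) {x : G}
    (hx : ¬ p ∣ cs x) : ∀ y ∈ (P : Subgroup G), y * x = x * y := by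
  have hpr : p.Prime := Fact.out
  have hPC : (P : Subgroup G) ≤ Subgroup.centralizer ({x} : Set G) := by
    have Q : Sylow p ↥(Subgroup.centralizer ({x} : Set G)) := default
    have h1 : Nat.card ↥(Subgroup.centralizer ({x} : Set G)) *
        (Subgroup.centralizer ({x} : Set G)).index = Nat.card G := Subgroup.card_mul_index _
    have hidx0 : (Subgroup.centralizer ({x} : Set G)).index ≠ 0 := Subgroup.index_ne_zero_of_finite
    have h2 : (Nat.card G).factorization p =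
        (Nat.card ↥(Subgroup.centralizer ({x} : Set G))).factorization p := by
      rw [← h1, Nat.factorization_mul Nat.card_pos.ne' hidx0, Finsupp.add_apply,
        Nat.factorization_eq_zero_of_not_dvd hx, add_zero]
    have h3 : Nat.card ↥((Q : Subgroup ↥(Subgroup.centralizer ({x} : Set G))).map
        (Subgroup.centralizer ({x} : Set G)).subtype) = p ^ (Nat.card G).factorization p := by
      rw [h2, ← Q.card_eq_multiplicity]
      exact Nat.card_congr ((Q : Subgroup ↥(Subgroup.centralizer ({x} : Set G))).equivMapOfInjective _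
        (Subgroup.subtype_injective _)).symm.toEquiv
    have := Sylow.unique_of_normal P hP
    have h4 : Sylow.ofCard _ h3 = P := Subsingleton.elim _ _
    have h5 : ((Q : Subgroup ↥(Subgroup.centralizer ({x} : Set G))).map
        (Subgroup.centralizer ({x} : Set G)).subtype) = (P : Subgroup G) := by
      rw [← h4, Sylow.coe_ofCard]
    rw [← h5]
    exact Subgroup.map_subtype_le _
  intro y hy
  have := hPC hy
  rw [Subgroup.mem_centralizer_iff] at this
  exact (this x (Set.mem_singleton x)).symm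

/-- the class of an element of `P` whose class size is divisible by `p` is its `P`-class -/
theorem conj_eq_conj_of_dvd (hD : Dich G p) (P : Sylow p G) (hP : (P : Subgroup G).Normal)
    {x : G} (hxP : x ∈ (P : Subgroup G)) (hx : p ∣ cs x) (g : G) :
    ∃ y ∈ (P : Subgroup G), g * x * g⁻¹ = y * x * y⁻¹ := by
  have hpr : p.Prime := Fact.out
  obtain ⟨k, hk⟩ := hD x (isPEl_of_mem P hxP) hx
  have hk' : (Subgroup.centralizer ({x} : Set G)).index = p ^ k := hk
  have h1 : ((P : Subgroup G) ⊔ Subgroup.centralizer ({x} : Set G)).index ∣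
      (P : Subgroup G).index := Subgroup.index_dvd_of_le le_sup_left
  have h2 : ((P : Subgroup G) ⊔ Subgroup.centralizer ({x} : Set G)).index ∣ p ^ k := by
    rw [← hk']; exact Subgroup.index_dvd_of_le le_sup_right
  obtain ⟨j, -, hj⟩ := (Nat.dvd_prime_pow hpr).1 h2
  have hj0 : j = 0 := by
    by_contra hne
    have h3 : p ∣ (P : Subgroup G).index :=
      dvd_trans (by rw [hj]; exact dvd_pow_self p hne) h1
    exact P.not_dvd_index h3
  have htop : (P : Subgroup G) ⊔ Subgroup.centralizer ({x} : Set G) = ⊤ := by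
    rw [← Subgroup.index_eq_one, hj, hj0, pow_zero]
  have hg : g ∈ ((((P : Subgroup G) ⊔ Subgroup.centralizer ({x} : Set G) : Subgroup G)) : Set G) := by
    rw [htop]; exact Set.mem_univ g
  have := hP
  rw [Subgroup.normal_mul] at hg
  obtain ⟨y, hy, c, hc, rfl⟩ := Set.mem_mul.mp hg
  refine ⟨y, hy, ?_⟩
  have hcx : x * c = c * x := (Subgroup.mem_centralizer_iff.mp hc) x (Set.mem_singleton x)
  calc y * c * x * (y * c)⁻¹ = y * (c * x) * c⁻¹ * y⁻¹ := by group
    _ = y * (x * c) * c⁻¹ * y⁻¹ := by rw [hcx]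
    _ = y * x * y⁻¹ := by group

/-- S4321, package Q4 -/
theorem center_of_dich (hD : Dich G p) (u : G) (hu : IsPEl p u) (hup : p ∣ cs u)
    (P : Sylow p G) (hP : (P : Subgroup G).Normal) : p ∣ Nat.card ↥(Subgroup.center G) := by
  have hpr : p.Prime := Fact.out
  have huP : u ∈ (P : Subgroup G) := mem_of_isPEl P hP hu
  -- `P` is not abelian
  have hne : Subgroup.center ↥(P : Subgroup G) ≠ ⊤ := by
    intro htop
    have hPC : (P : Subgroup G) ≤ Subgroup.centralizer ({u} : Set G) := by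
      intro y hy
      rw [Subgroup.mem_centralizer_iff]
      intro h hh
      rw [Set.mem_singleton_iff.mp hh]
      have hc : (⟨u, huP⟩ : ↥(P : Subgroup G)) ∈ Subgroup.center ↥(P : Subgroup G) := by
        rw [htop]; trivial
      have h1 := Subgroup.mem_center_iff.mp hc ⟨y, hy⟩
      have h2 := congrArg Subtype.val h1
      simpa using h2.symm
    have h3 : cs u ∣ (P : Subgroup G).index := Subgroup.index_dvd_of_le hPC
    exact P.not_dvd_index (dvd_trans hup h3)
  have : Group.IsNilpotent ↥(P : Subgroup G) := P.isPGroup'.isNilpotent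
  obtain ⟨w', hw'1, hw'2⟩ := exists_second_center hne
  obtain ⟨w, hwP⟩ := w'
  -- commutators `[w, y]`, `y ∈ P`, are central in `P`
  have hcen : ∀ y ∈ (P : Subgroup G), ∀ x ∈ (P : Subgroup G),
      x * (w * y * w⁻¹ * y⁻¹) = (w * y * w⁻¹ * y⁻¹) * x := by
    intro y hy x hx
    have h1 := Subgroup.mem_center_iff.mp (hw'2 ⟨y, hy⟩) ⟨x, hx⟩
    have h2 := congrArg Subtype.val h1
    simpa using h2
  have hcP : ∀ y ∈ (P : Subgroup G), w * y * w⁻¹ * y⁻¹ ∈ (P : Subgroup G) := by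
    intro y hy
    exact mul_mem (mul_mem (mul_mem hwP hy) (inv_mem hwP)) (inv_mem hy)
  -- `w` is not central in `P`
  obtain ⟨x0, hx0P, hx0⟩ : ∃ x0 ∈ (P : Subgroup G), x0 * w ≠ w * x0 := by
    by_contra hcon
    push Not at hcon
    apply hw'1
    rw [Subgroup.mem_center_iff]
    rintro ⟨g, hg⟩
    apply Subtype.ext
    simpa using hcon g hg
  -- `[w, ·]` is multiplicative on `P`
  have K1 : ∀ x ∈ (P : Subgroup G), ∀ y ∈ (P : Subgroup G),
      w * (x * y) * w⁻¹ * (x * y)⁻¹ = (w * x * w⁻¹ * x⁻¹) * (w * y * w⁻¹ * y⁻¹) := by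
    intro x hx y hy
    calc w * (x * y) * w⁻¹ * (x * y)⁻¹
        = (w * x * w⁻¹ * x⁻¹) * (x * (w * y * w⁻¹ * y⁻¹)) * x⁻¹ := by group
      _ = (w * x * w⁻¹ * x⁻¹) * ((w * y * w⁻¹ * y⁻¹) * x) * x⁻¹ := by rw [hcen y hy x hx]
      _ = (w * x * w⁻¹ * x⁻¹) * (w * y * w⁻¹ * y⁻¹) := by group
  -- `[w, ·]` is constant on `P`-classes
  have K2 : ∀ x2 ∈ (P : Subgroup G), ∀ x ∈ (P : Subgroup G),
      w * (x2 * x * x2⁻¹) * w⁻¹ * (x2 * x * x2⁻¹)⁻¹ = w * x * w⁻¹ * x⁻¹ := by
    intro x2 hx2 x hx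
    have e1 := K1 (x2 * x) (mul_mem hx2 hx) x2⁻¹ (inv_mem hx2)
    have e2 := K1 x2 hx2 x hx
    have e3 := K1 x2 hx2 x2⁻¹ (inv_mem hx2)
    have e4 : w * (x2 * x2⁻¹) * w⁻¹ * (x2 * x2⁻¹)⁻¹ = 1 := by group
    rw [e4] at e3
    have e5 := hcen x2 hx2 (w * x * w⁻¹ * x⁻¹) (hcP x hx)
    calc w * (x2 * x * x2⁻¹) * w⁻¹ * (x2 * x * x2⁻¹)⁻¹
        = (w * x2 * w⁻¹ * x2⁻¹) * (w * x * w⁻¹ * x⁻¹) * (w * x2⁻¹ * w⁻¹ * x2⁻¹⁻¹) := by
          rw [e1, e2]
      _ = (w * x * w⁻¹ * x⁻¹) * ((w * x2 * w⁻¹ * x2⁻¹) * (w * x2⁻¹ * w⁻¹ * x2⁻¹⁻¹)) := by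
          rw [← e5]; group
      _ = w * x * w⁻¹ * x⁻¹ := by rw [← e3, mul_one]
  -- conjugating `w` inside `P` does not change `[w, ·]`
  have K3 : ∀ x1 ∈ (P : Subgroup G), ∀ y ∈ (P : Subgroup G),
      (x1 * w * x1⁻¹) * y * (x1 * w * x1⁻¹)⁻¹ * y⁻¹ = w * y * w⁻¹ * y⁻¹ := by
    intro x1 hx1 y hy
    have ht : w * y * w⁻¹ ∈ (P : Subgroup G) := mul_mem (mul_mem hwP hy) (inv_mem hwP)
    have e1 := hcen x1 hx1 (w * y * w⁻¹) ht
    calc (x1 * w * x1⁻¹) * y * (x1 * w * x1⁻¹)⁻¹ * y⁻¹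
        = (w * x1 * w⁻¹ * x1⁻¹)⁻¹ * ((w * y * w⁻¹) * (w * x1 * w⁻¹ * x1⁻¹)) * y⁻¹ := by group
      _ = (w * x1 * w⁻¹ * x1⁻¹)⁻¹ * ((w * x1 * w⁻¹ * x1⁻¹) * (w * y * w⁻¹)) * y⁻¹ := by rw [e1]
      _ = w * y * w⁻¹ * y⁻¹ := by group
  -- class sizes of `w` and `x0` are divisible by `p`
  have hw_dvd : p ∣ cs w := by
    by_contra hcon
    exact hx0 (comm_of_not_dvd P hP hcon x0 hx0P)
  have hx0_dvd : p ∣ cs x0 := by
    by_contra hcon
    exact hx0 (comm_of_not_dvd P hP hcon w hwP).symm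
  -- `z0 = [w, x0]` is central in `G`
  have hz0P : w * x0 * w⁻¹ * x0⁻¹ ∈ (P : Subgroup G) := hcP x0 hx0P
  have hz0ne : w * x0 * w⁻¹ * x0⁻¹ ≠ 1 := by
    intro h1
    apply hx0
    have h2 : w * x0 = x0 * w := by
      calc w * x0 = (w * x0 * w⁻¹ * x0⁻¹) * (x0 * w) := by group
        _ = x0 * w := by rw [h1, one_mul]
    exact h2.symm
  have hz0c : w * x0 * w⁻¹ * x0⁻¹ ∈ Subgroup.center G := by
    rw [Subgroup.mem_center_iff]
    intro g
    obtain ⟨x1, hx1, e1⟩ := conj_eq_conj_of_dvd hD P hP hwP hw_dvd g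
    obtain ⟨x2, hx2, e2⟩ := conj_eq_conj_of_dvd hD P hP hx0P hx0_dvd g
    have e3 : g * (w * x0 * w⁻¹ * x0⁻¹) * g⁻¹ = w * x0 * w⁻¹ * x0⁻¹ := by
      calc g * (w * x0 * w⁻¹ * x0⁻¹) * g⁻¹
          = (g * w * g⁻¹) * (g * x0 * g⁻¹) * (g * w * g⁻¹)⁻¹ * (g * x0 * g⁻¹)⁻¹ := by group
        _ = (x1 * w * x1⁻¹) * (x2 * x0 * x2⁻¹) * (x1 * w * x1⁻¹)⁻¹ * (x2 * x0 * x2⁻¹)⁻¹ := by
            rw [e1, e2]
        _ = w * (x2 * x0 * x2⁻¹) * w⁻¹ * (x2 * x0 * x2⁻¹)⁻¹ :=
            K3 x1 hx1 _ (mul_mem (mul_mem hx2 hx0P) (inv_mem hx2))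
        _ = w * x0 * w⁻¹ * x0⁻¹ := K2 x2 hx2 x0 hx0P
    calc g * (w * x0 * w⁻¹ * x0⁻¹) = (g * (w * x0 * w⁻¹ * x0⁻¹) * g⁻¹) * g := by group
      _ = (w * x0 * w⁻¹ * x0⁻¹) * g := by rw [e3]
  -- a non-trivial `p`-element in the centre
  obtain ⟨k, hk⟩ := isPEl_of_mem P hz0P
  have hk0 : k ≠ 0 := by
    intro h0
    rw [h0, pow_zero, orderOf_eq_one_iff] at hk
    exact hz0ne hk
  have h1 : p ∣ orderOf (w * x0 * w⁻¹ * x0⁻¹) := by rw [hk]; exact dvd_pow_self p hk0
  have h2 : orderOf (⟨w * x0 * w⁻¹ * x0⁻¹, hz0c⟩ : ↥(Subgroup.center G)) ∣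
      Nat.card ↥(Subgroup.center G) := orderOf_dvd_natCard _
  rw [Subgroup.orderOf_mk] at h2
  exact dvd_trans h1 h2

end Cfsg.Agent.Lib.Helper1.PSing
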