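import Cfsg.Agent.Lib.Helper1.MatCode5

/-!
# Transformations of `Fin 24` coded by natural numbers (digits in base `32`)
-/

set_option autoImplicit false

namespace Cfsg.Agent.Lib.Helper1.PermCode

open Cfsg.Agent.Lib.Helper1.MatCode

/-- the `i`-th digit of the code -/
def pd (c i : ℕ) : ℕ := dig 32 c i

/-- the transformation of `Fin 24` coded by `c` -/
def PD (c : ℕ) : Function.End (Fin 24) := fun i => ⟨pd c i % 24, Nat.mod_lt _ (by norm_num)⟩

/-- composition on codes -/
def pmu (a b : ℕ) : ℕ := sumTo 24 (fun i => (pd a (pd b i % 24) % 24) * 32 ^ i)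

/-- canonical codes -/
def PCanon (c : ℕ) : Prop := c < 32 ^ 24 ∧ ∀ i, i < 24 → pd c i < 24

theorem pmu_eq (a b : ℕ) :
    pmu a b = ∑ i ∈ Finset.range 24, (fun i => if i < 24 then pd a (pd b i % 24) % 24 else 0) i * 32 ^ i := by
  unfold pmu
  rw [sumTo_eq]
  apply Finset.sum_congr rfl
  intro i hi
  dsimp only
  rw [if_pos (Finset.mem_range.mp hi)]

theorem lt32 (a b : ℕ) (m : ℕ) : (fun i => if i < 24 then pd a (pd b i % 24) % 24 else 0) m < 32 := by
  show (if m < 24 then pd a (pd b m % 24) % 24 else 0) < 32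
  split_ifs
  · exact lt_trans (Nat.mod_lt _ (by norm_num)) (by norm_num)
  · norm_num

theorem pd_pmu (a b i : ℕ) (hi : i < 24) : pd (pmu a b) i = pd a (pd b i % 24) % 24 := by
  unfold pd
  rw [pmu_eq, dig_sum 32 (by norm_num) _ (lt32 a b) 24 i hi, if_pos hi]
  rfl

theorem PD_pmu (a b : ℕ) : PD (pmu a b) = PD a * PD b := by
  funext i
  apply Fin.ext
  show pd (pmu a b) i % 24 = pd a (pd b i % 24) % 24
  rw [pd_pmu a b i i.2, Nat.mod_mod]

theorem canon_pmu (a b : ℕ) : PCanon (pmu a b) := by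
  constructor
  · rw [pmu_eq]
    exact sum_lt_pow 32 (by norm_num) _ (lt32 a b) 24
  · intro i hi
    rw [pd_pmu a b i hi]
    exact Nat.mod_lt _ (by norm_num)

theorem PD_inj {a b : ℕ} (ha : PCanon a) (hb : PCanon b) (h : PD a = PD b) : a = b := by
  have hd : ∀ m, m < 24 → dig 32 a m = dig 32 b m := by
    intro m hm
    have h1 := congrArg (fun f : Function.End (Fin 24) => ((f ⟨m, hm⟩ : Fin 24) : ℕ)) h
    have h2 : pd a m % 24 = pd b m % 24 := h1
    rwa [Nat.mod_eq_of_lt (ha.2 m hm), Nat.mod_eq_of_lt (hb.2 m hm)] at h2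
  have ex : ∀ c : ℕ, c < 32 ^ 24 → c = ∑ k ∈ Finset.range 24, dig 32 c k * 32 ^ k := by
    intro c hc
    have := block_eq 32 c 0 24
    rw [pow_zero, Nat.div_one, Nat.mod_eq_of_lt hc] at this
    simpa using this
  rw [ex a ha.1, ex b hb.1]
  apply Finset.sum_congr rfl
  intro k hk
  rw [hd k (Finset.mem_range.mp hk)]

/-- boolean form of canonicity -/
def pcanonB (c : ℕ) : Bool := decide (c < 32 ^ 24) && (List.range 24).all (fun i => decide (pd c i < 24))

theorem canon_of_pcanonB {c : ℕ} (h : pcanonB c = true) : PCanon c := by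
  unfold pcanonB at h
  rw [Bool.and_eq_true, decide_eq_true_eq, List.all_eq_true] at h
  refine ⟨h.1, fun i hi => ?_⟩
  exact of_decide_eq_true (h.2 i (List.mem_range.mpr hi))

/-- the code of a table -/
def ofTab (t : List ℕ) : ℕ := sumTo 24 (fun i => t.getD i 0 * 32 ^ i)

/-- the code of the identity -/
def pc1 : ℕ := ofTab (List.range 24)

theorem PD_pc1 : PD pc1 = 1 := by
  funext i
  apply Fin.ext
  revert i
  decide +kernel

theorem canon_pc1 : PCanon pc1 := canon_of_pcanonB (by decide +kernel)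

end Cfsg.Agent.Lib.Helper1.PermCode

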