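import Mathlib
import Cfsg.Prelude.Def_Quasithin
import Cfsg.Prelude.Def_QuasithinSetup
import Cfsg.Agent.Lib.Helper9.PCore

/-!
# S1851 swarm, packages PA and PT.
PT: `O_2(H) ≤ T` for a Sylow 2-subgroup `T ≤ H`.
PA: in a group of even characteristic every `H ≥ T` with `O_2(H) ≠ 1` has characteristic 2.
-/

set_option autoImplicit false

namespace Cfsg.Agent.Lib.QtkeUp

open Cfsg Cfsg.Agent.Lib.Helper9

section basics

variable {G : Type*} [Group G]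

theorem qtkeA_mem_pCoreTwoOf {H : Subgroup G} {x : G} :
    x ∈ pCoreTwoOf H ↔ ∃ h : x ∈ H, (⟨x, h⟩ : H) ∈ pCore 2 ↥H := by
  unfold pCoreTwoOf
  constructor
  · rintro ⟨y, hy, rfl⟩
    exact ⟨y.2, hy⟩
  · rintro ⟨h, hx⟩
    exact ⟨⟨x, h⟩, hx, rfl⟩

theorem qtkeA_pCoreTwoOf_le (H : Subgroup G) : pCoreTwoOf H ≤ H := by
  intro x hx
  exact (qtkeA_mem_pCoreTwoOf.1 hx).1

theorem qtkeA_conj_mem_pCoreTwoOf {H : Subgroup G} {h x : G} (hh : h ∈ H) (hx : x ∈ pCoreTwoOf H) :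
    h * x * h⁻¹ ∈ pCoreTwoOf H := by
  obtain ⟨hxH, hx'⟩ := qtkeA_mem_pCoreTwoOf.1 hx
  refine qtkeA_mem_pCoreTwoOf.2 ⟨H.mul_mem (H.mul_mem hh hxH) (H.inv_mem hh), ?_⟩
  have := (pCore_normal' (G := ↥H) 2).conj_mem _ hx' ⟨h, hh⟩
  have heq : (⟨h, hh⟩ : H) * ⟨x, hxH⟩ * (⟨h, hh⟩ : H)⁻¹ =
      ⟨h * x * h⁻¹, H.mul_mem (H.mul_mem hh hxH) (H.inv_mem hh)⟩ := Subtype.ext (by simp)
  rwa [heq] at this

theorem qtkeA_le_pCoreTwoOf {H P : Subgroup G} (hPH : P ≤ H) (hP : IsPGroup 2 ↥P)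
    (hn : ∀ h ∈ H, ∀ x ∈ P, h * x * h⁻¹ ∈ P) : P ≤ pCoreTwoOf H := by
  have hnorm : (P.subgroupOf H).Normal := by
    constructor
    intro n hn' g
    rw [Subgroup.mem_subgroupOf] at hn' ⊢
    simpa using hn g g.2 n hn'
  have hp : IsPGroup 2 ↥(P.subgroupOf H) := hP.comap_subtype
  have hle := le_pCore hnorm hp
  intro x hx
  exact qtkeA_mem_pCoreTwoOf.2 ⟨hPH hx, hle (Subgroup.mem_subgroupOf.2 hx)⟩

theorem qtkeA_isPGroup_pCoreTwoOf [Finite G] (H : Subgroup G) : IsPGroup 2 ↥(pCoreTwoOf H) := by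
  have : Fact (Nat.Prime 2) := ⟨Nat.prime_two⟩
  unfold pCoreTwoOf
  exact (pCore_isPGroup' (G := ↥H) 2).map H.subtype

end basics

variable {G : Type*} [Group G] [Finite G]

/-- **PT**: `O_2(H) ≤ T` for a Sylow 2-subgroup `T ≤ H`. -/
theorem pCoreTwoOf_le_sylow (T : Sylow 2 G) (H : Subgroup G) (hTH : (T : Subgroup G) ≤ H) :
    pCoreTwoOf H ≤ (T : Subgroup G) := by
  have : Fact (Nat.Prime 2) := ⟨Nat.prime_two⟩
  intro x hx
  obtain ⟨hxH, hx'⟩ := qtkeA_mem_pCoreTwoOf.1 hx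
  have h1 : (⟨x, hxH⟩ : H) ∈ ((T.subtype hTH : Sylow 2 ↥H) : Subgroup ↥H) :=
    pCore_le_sylow (T.subtype hTH) hx'
  rw [Sylow.coe_subtype, Subgroup.mem_subgroupOf] at h1
  exact h1

/-- **PA**: in a group of even characteristic every subgroup `H ≥ T` (`T` Sylow) with `O_2(H) ≠ 1`
has characteristic 2. -/
theorem char2_of_sylow_le (hE : IsOfEvenCharacteristic G) (T : Sylow 2 G) (H : Subgroup G)
    (hTH : (T : Subgroup G) ≤ H) (hH : pCore 2 ↥H ≠ ⊥) : IsOfCharacteristicTwo ↥H := by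
  have : Fact (Nat.Prime 2) := ⟨Nat.prime_two⟩
  obtain ⟨R, hRdef⟩ : ∃ R : Subgroup G, R = pCoreTwoOf H := ⟨_, rfl⟩
  obtain ⟨N, hNdef⟩ : ∃ N : Subgroup G, N = Subgroup.normalizer (R : Set G) := ⟨_, rfl⟩
  have hR2 : IsPGroup 2 ↥R := by rw [hRdef]; exact qtkeA_isPGroup_pCoreTwoOf H
  have hRne : R ≠ ⊥ := by
    intro h0
    apply hH
    rw [eq_bot_iff]
    intro y hy
    have : (y : G) ∈ R := by rw [hRdef]; exact qtkeA_mem_pCoreTwoOf.2 ⟨y.2, hy⟩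
    rw [h0, Subgroup.mem_bot] at this
    rw [Subgroup.mem_bot]
    exact Subtype.ext this
  have hHN : H ≤ N := by
    intro h hh
    rw [hNdef, Subgroup.mem_normalizer_iff]
    intro x
    constructor
    · intro hx
      rw [hRdef] at hx ⊢
      exact qtkeA_conj_mem_pCoreTwoOf hh hx
    · intro hx
      rw [hRdef] at hx ⊢
      have := qtkeA_conj_mem_pCoreTwoOf (H.inv_mem hh) hx
      have h2 : h⁻¹ * (h * x * h⁻¹) * h⁻¹⁻¹ = x := by group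
      rwa [h2] at this
  have hTN : (T : Subgroup G) ≤ N := hTH.trans hHN
  have hRN : R ≤ N := by rw [hNdef]; exact Subgroup.le_normalizer
  have hchar : IsOfCharacteristicTwo ↥N := hE N ⟨R, hR2, hRne, hNdef⟩ ⟨T, hTN⟩
  -- `Q := O_2(N)`
  obtain ⟨Q, hQdef⟩ : ∃ Q : Subgroup G, Q = pCoreTwoOf N := ⟨_, rfl⟩
  have hQT : Q ≤ (T : Subgroup G) := by rw [hQdef]; exact pCoreTwoOf_le_sylow T N hTN
  have hQH : Q ≤ H := hQT.trans hTH
  have hQ2 : IsPGroup 2 ↥Q := by rw [hQdef]; exact qtkeA_isPGroup_pCoreTwoOf N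
  have hQR : Q ≤ R := by
    rw [hRdef]
    apply qtkeA_le_pCoreTwoOf hQH hQ2
    intro h hh x hx
    rw [hQdef] at hx ⊢
    exact qtkeA_conj_mem_pCoreTwoOf (hHN hh) hx
  have hRQ : R ≤ Q := by
    rw [hQdef]
    apply qtkeA_le_pCoreTwoOf hRN hR2
    intro n hn x hx
    rw [hNdef, Subgroup.mem_normalizer_iff] at hn
    exact (hn x).1 hx
  have hQeq : Q = R := le_antisymm hQR hRQ
  -- now the centralizer condition
  intro c hc
  have hcN : (c : G) ∈ N := hHN c.2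
  have hcent : (⟨(c : G), hcN⟩ : N) ∈ Subgroup.centralizer (pCore 2 ↥N : Set ↥N) := by
    rw [Subgroup.mem_centralizer_iff]
    intro y hy
    have hyQ : (y : G) ∈ Q := by rw [hQdef]; exact qtkeA_mem_pCoreTwoOf.2 ⟨y.2, hy⟩
    have hyR : (y : G) ∈ pCoreTwoOf H := by rw [← hRdef, ← hQeq]; exact hyQ
    obtain ⟨hyH, hy'⟩ := qtkeA_mem_pCoreTwoOf.1 hyR
    have := Subgroup.mem_centralizer_iff.1 hc ⟨(y : G), hyH⟩ hy'
    apply Subtype.ext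
    have h3 := congrArg Subtype.val this
    simpa using h3
  have h4 : (⟨(c : G), hcN⟩ : N) ∈ pCore 2 ↥N := hchar hcent
  have h5 : (c : G) ∈ pCoreTwoOf N := qtkeA_mem_pCoreTwoOf.2 ⟨hcN, h4⟩
  rw [← hQdef, hQeq, hRdef] at h5
  obtain ⟨h6, h7⟩ := qtkeA_mem_pCoreTwoOf.1 h5
  exact h7

end Cfsg.Agent.Lib.QtkeUp
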