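import Mathlib
import Cfsg.Prelude.Def_Quasithin

/-!
# S1851 swarm, package PC: a perfect subgroup is generated by its elements of odd order.
-/

set_option autoImplicit false

namespace Cfsg.Agent.Lib.QtkeUp

open Cfsg

theorem qtkeC_le_derivedSeries_of_perfect {H : Type*} [Group H] {K : Subgroup H} (hK : ⁅K, K⁆ = K)
    (n : ℕ) : K ≤ derivedSeries H n := by
  induction n with
  | zero => simp
  | succ n ih =>
    rw [derivedSeries_succ]
    calc K = ⁅K, K⁆ := hK.symm
      _ ≤ ⁅derivedSeries H n, derivedSeries H n⁆ := Subgroup.commutator_mono ih ih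

theorem qtkeC_le_of_isSolvable_quotient_of_perfect {H : Type*} [Group H] {K C : Subgroup H}
    [C.Normal] (hq : Group.IsSolvable (H ⧸ C)) (hK : ⁅K, K⁆ = K) : K ≤ C := by
  obtain ⟨n, hn⟩ := hq.solvable
  have h1 := map_derivedSeries_le_derivedSeries (QuotientGroup.mk' C) n
  rw [hn, le_bot_iff, Subgroup.map_eq_bot_iff, QuotientGroup.ker_mk'] at h1
  exact (qtkeC_le_derivedSeries_of_perfect hK n).trans h1

theorem qtkeC_oddGenerated_le {G : Type*} [Group G] (K : Subgroup G) : oddGenerated K ≤ K :=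
  (Subgroup.closure_le K).2 fun _ hx => hx.1

theorem qtkeC_conj_mem_oddGenerated {G : Type*} [Group G] (K : Subgroup G) {k : G} (hk : k ∈ K)
    {x : G} (hx : x ∈ oddGenerated K) : k * x * k⁻¹ ∈ oddGenerated K := by
  unfold oddGenerated at hx ⊢
  induction hx using Subgroup.closure_induction with
  | mem y hy =>
    apply Subgroup.subset_closure
    refine ⟨K.mul_mem (K.mul_mem hk hy.1) (K.inv_mem hk), ?_⟩
    have : orderOf (k * y * k⁻¹) = orderOf y := by
      have := (MulAut.conj k).orderOf_eq y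
      simpa [MulAut.conj_apply] using this
    rw [this]; exact hy.2
  | one => simp
  | mul y z _ _ ihy ihz =>
    have : k * (y * z) * k⁻¹ = (k * y * k⁻¹) * (k * z * k⁻¹) := by group
    rw [this]; exact Subgroup.mul_mem _ ihy ihz
  | inv y _ ihy =>
    have : k * y⁻¹ * k⁻¹ = (k * y * k⁻¹)⁻¹ := by group
    rw [this]; exact Subgroup.inv_mem _ ihy

variable {G : Type*} [Group G] [Finite G]

/-- **PC**: a perfect subgroup is generated by its elements of odd order. -/
theorem oddGenerated_eq_of_perfect (K : Subgroup G) (hK : ⁅K, K⁆ = K) : oddGenerated K = K := by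
  apply le_antisymm (qtkeC_oddGenerated_le K)
  -- work inside `↥K`
  set O' : Subgroup K := (oddGenerated K).subgroupOf K with hO'
  have hN : O'.Normal := by
    constructor
    intro n hn g
    rw [hO', Subgroup.mem_subgroupOf] at hn ⊢
    simpa using qtkeC_conj_mem_oddGenerated K g.2 hn
  have hP : IsPGroup 2 (K ⧸ O') := by
    intro q
    obtain ⟨k, rfl⟩ := QuotientGroup.mk_surjective q
    have hpos : orderOf k ≠ 0 := (orderOf_pos k).ne'
    obtain ⟨a, b, hb, hab⟩ := Nat.exists_eq_two_pow_mul_odd hpos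
    refine ⟨a, ?_⟩
    rw [← QuotientGroup.mk_pow, QuotientGroup.eq_one_iff, hO', Subgroup.mem_subgroupOf]
    apply Subgroup.subset_closure
    refine ⟨(k ^ 2 ^ a).2, ?_⟩
    have h1 : orderOf (k ^ 2 ^ a) ∣ b := by
      apply orderOf_dvd_of_pow_eq_one
      rw [← pow_mul, ← hab, pow_orderOf_eq_one]
    have h2 : orderOf ((k ^ 2 ^ a : K) : G) = orderOf (k ^ 2 ^ a) := Subgroup.orderOf_coe _
    rw [h2]
    exact Odd.of_dvd_nat hb h1
  have hnil : Group.IsNilpotent (K ⧸ O') := hP.isNilpotent
  have hsol : Group.IsSolvable (K ⧸ O') := inferInstance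
  have htop : ⁅(⊤ : Subgroup K), (⊤ : Subgroup K)⁆ = (⊤ : Subgroup K) := by
    apply Subgroup.map_injective K.subtype_injective
    rw [Subgroup.map_commutator, ← MonoidHom.range_eq_map, Subgroup.range_subtype, hK]
  have hle : (⊤ : Subgroup K) ≤ O' := qtkeC_le_of_isSolvable_quotient_of_perfect hsol htop
  intro k hk
  have : (⟨k, hk⟩ : K) ∈ O' := hle (Subgroup.mem_top _)
  rw [hO', Subgroup.mem_subgroupOf] at this
  exact this

end Cfsg.Agent.Lib.QtkeUp
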