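import Mathlib
import Cfsg.Agent.Lib.Helper1.M24V

/-!
# Subsets of the 24 points as bit masks
-/

set_option autoImplicit false

namespace Cfsg.Agent.Lib.Helper1.M24

open Cfsg Cfsg.Agent.Lib.Helper1
open scoped Pointwise

/-- the bit mask of a set of points -/
def maskOf (t : Finset GolayPt) : ℕ := Nat.ofBits (n := 24) (fun i => decide (gUnidx i ∈ t))

theorem maskOf_lt (t : Finset GolayPt) : maskOf t < 2 ^ 24 := Nat.ofBits_lt_two_pow _

theorem testBit_maskOf (t : Finset GolayPt) (p : GolayPt) :
    (maskOf t).testBit (gIdx p) = true ↔ p ∈ t := by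
  rw [maskOf, Nat.testBit_ofBits_lt _ _ (gIdx_lt p)]
  simp [gUnidx_gIdx]

theorem sp_maskOf (t : Finset GolayPt) : sp (maskOf t) = t := by
  ext p
  rw [mem_sp, testBit_maskOf]

theorem popcN_maskOf (t : Finset GolayPt) : popcN 24 (maskOf t) = t.card := by
  rw [← card_sp, sp_maskOf]

theorem popcN_congr (n a b : ℕ) (h : ∀ i < n, a.testBit i = b.testBit i) :
    popcN n a = popcN n b := by
  induction n with
  | zero => rfl
  | succ n ih =>
    rw [popcN, popcN, ih (fun i hi => h i (by omega)), h n (by omega)]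

/-- the masks below `2 ^ n` with exactly `k` bits set -/
def subMasks : ℕ → ℕ → List ℕ
  | 0, 0 => [0]
  | 0, _ + 1 => []
  | n + 1, 0 => subMasks n 0
  | n + 1, k + 1 => subMasks n (k + 1) ++ (subMasks n k).map (fun m => 2 ^ n + m)

theorem popcN_succ_of_lt {n m : ℕ} (h : m < 2 ^ n) : popcN (n + 1) m = popcN n m := by
  rw [popcN, Nat.testBit_lt_two_pow h]
  simp

theorem popcN_succ_add {n m : ℕ} (h : m < 2 ^ n) : popcN (n + 1) (2 ^ n + m) = popcN n m + 1 := by
  rw [popcN, Nat.testBit_two_pow_add_eq, Nat.testBit_lt_two_pow h]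
  simp only [Bool.not_false, if_true]
  rw [popcN_congr n (2 ^ n + m) m (fun i hi => Nat.testBit_two_pow_add_gt hi m)]

theorem mem_subMasks (n k m : ℕ) : m ∈ subMasks n k ↔ m < 2 ^ n ∧ popcN n m = k := by
  induction n generalizing k m with
  | zero =>
    cases k with
    | zero =>
      simp only [subMasks, List.mem_singleton, pow_zero, Nat.lt_one_iff, popcN, and_true]
    | succ k =>
      simp only [subMasks, List.not_mem_nil, pow_zero, Nat.lt_one_iff, popcN, false_iff, not_and]
      intro _; omega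
  | succ n ih =>
    have hsplit : m < 2 ^ (n + 1) → (m < 2 ^ n ∨ ∃ m', m' < 2 ^ n ∧ m = 2 ^ n + m') := by
      intro hm
      by_cases h : m < 2 ^ n
      · exact Or.inl h
      · exact Or.inr ⟨m - 2 ^ n, by rw [pow_succ] at hm; omega, by omega⟩
    cases k with
    | zero =>
      rw [subMasks, ih]
      constructor
      · rintro ⟨h1, h2⟩
        exact ⟨lt_of_lt_of_le h1 (Nat.pow_le_pow_right (by norm_num) (by omega)),
          by rw [popcN_succ_of_lt h1, h2]⟩
      · rintro ⟨h1, h2⟩
        rcases hsplit h1 with h | ⟨m', hm', rfl⟩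
        · exact ⟨h, by rw [← popcN_succ_of_lt h, h2]⟩
        · rw [popcN_succ_add hm'] at h2; omega
    | succ k =>
      rw [subMasks, List.mem_append, List.mem_map, ih]
      constructor
      · rintro (⟨h1, h2⟩ | ⟨m', hm', rfl⟩)
        · exact ⟨lt_of_lt_of_le h1 (Nat.pow_le_pow_right (by norm_num) (by omega)),
            by rw [popcN_succ_of_lt h1, h2]⟩
        · rw [ih] at hm'
          exact ⟨by rw [pow_succ]; omega, by rw [popcN_succ_add hm'.1, hm'.2]⟩
      · rintro ⟨h1, h2⟩
        rcases hsplit h1 with h | ⟨m', hm', rfl⟩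
        · exact Or.inl ⟨h, by rw [← popcN_succ_of_lt h, h2]⟩
        · refine Or.inr ⟨m', ?_, rfl⟩
          rw [ih]
          rw [popcN_succ_add hm'] at h2
          exact ⟨hm', by omega⟩

theorem subMasks_nodup (n k : ℕ) : (subMasks n k).Nodup := by
  induction n generalizing k with
  | zero =>
    cases k with
    | zero => simp [subMasks]
    | succ k => simp [subMasks]
  | succ n ih =>
    cases k with
    | zero => rw [subMasks]; exact ih 0
    | succ k =>
      rw [subMasks, List.nodup_append]
      refine ⟨ih _, (ih k).map (fun a b h => by simpa using h), ?_⟩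
      intro a ha b hb hab
      subst hab
      rw [mem_subMasks] at ha
      rw [List.mem_map] at hb
      obtain ⟨m', _, rfl⟩ := hb
      omega

/-- counting subsets of a given size through masks -/
theorem ncard_subsets_countP (k : ℕ) (Q : Finset GolayPt → Prop) (q : ℕ → Bool)
    (hq : ∀ m ∈ subMasks 24 k, (Q (sp m) ↔ q m = true)) :
    {t : Finset GolayPt | t.card = k ∧ Q t}.ncard = (subMasks 24 k).countP q := by
  have : {t : Finset GolayPt | t.card = k ∧ Q t} =
      (fun m => sp m) '' ↑((subMasks 24 k).filter q).toFinset := by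
    ext t
    simp only [Set.mem_ofPred_eq, Set.mem_image, Finset.mem_coe, List.mem_toFinset, List.mem_filter]
    constructor
    · rintro ⟨hc, hQ⟩
      have hm : maskOf t ∈ subMasks 24 k := by
        rw [mem_subMasks]
        exact ⟨maskOf_lt t, by rw [popcN_maskOf, hc]⟩
      refine ⟨maskOf t, ⟨hm, (hq _ hm).mp (by rw [sp_maskOf]; exact hQ)⟩, sp_maskOf t⟩
    · rintro ⟨m, ⟨hm, hqm⟩, rfl⟩
      exact ⟨by rw [card_sp]; exact ((mem_subMasks _ _ _).mp hm).2, (hq m hm).mpr hqm⟩
  rw [this, Set.InjOn.ncard_image, Set.ncard_coe_finset,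
    List.toFinset_card_of_nodup ((subMasks_nodup 24 k).filter _), List.countP_eq_length_filter]
  intro m hm m' hm' h
  simp only [Finset.mem_coe, List.mem_toFinset, List.mem_filter] at hm hm'
  exact sp_injOn ((mem_subMasks _ _ _).mp hm.1).1 ((mem_subMasks _ _ _).mp hm'.1).1 h

theorem exists_mask_of_card {t : Finset GolayPt} {k : ℕ} (h : t.card = k) :
    ∃ m ∈ subMasks 24 k, t = sp m :=
  ⟨maskOf t, (mem_subMasks _ _ _).mpr ⟨maskOf_lt t, by rw [popcN_maskOf, h]⟩, (sp_maskOf t).symm⟩

end Cfsg.Agent.Lib.Helper1.M24
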