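import Mathlib
import Cfsg.Agent.Lib.Helper1.FamOrbits2
import Cfsg.Agent.Lib.Helper1.M24W10
import Cfsg.Agent.Lib.Helper1.M24Z
import Cfsg.Agent.Lib.Helper1.SubMask
import Cfsg.Prelude.Def_SporadicCombinatorics

/-!
# Quartets of a dodecad: basic facts
-/

set_option autoImplicit false

namespace Cfsg.Agent.Lib.Helper1.M24

open Cfsg Cfsg.Agent.Lib.Helper1
open scoped Pointwise

theorem octad_eq_of_five {o o' : Finset GolayPt} (ho : o ∈ octads) (ho' : o' ∈ octads)
    (h : 5 ≤ (o ∩ o').card) : o = o' := by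
  obtain ⟨s, hs, hcard⟩ := Finset.exists_subset_card_eq h
  obtain ⟨c, -, hc⟩ := octads_steiner.2 s hcard
  have h1 := hc o ⟨ho, hs.trans Finset.inter_subset_left⟩
  have h2 := hc o' ⟨ho', hs.trans Finset.inter_subset_right⟩
  rw [h1, h2]

theorem hexad_eq_of_five {d h h' : Finset GolayPt} (hh : h ∈ hexadsOn d) (hh' : h' ∈ hexadsOn d)
    (h5 : 5 ≤ (h ∩ h').card) : h = h' := by
  obtain ⟨-, o, ho, rfl⟩ := hh
  obtain ⟨-, o', ho', rfl⟩ := hh'
  have : o = o' := by
    apply octad_eq_of_five ho ho'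
    refine le_trans h5 (Finset.card_le_card ?_)
    intro x hx
    simp only [Finset.mem_inter] at hx ⊢
    exact ⟨hx.1.1, hx.2.1⟩
  rw [this]

theorem hexadsOn_smul {g : P24} (hg : g ∈ M24) {d h : Finset GolayPt} (hh : h ∈ hexadsOn d) :
    g • h ∈ hexadsOn (g • d) := by
  obtain ⟨h6, o, ho, rfl⟩ := hh
  refine ⟨by rw [Finset.card_smul_finset]; exact h6, g • o, smul_mem_octads hg ho, ?_⟩
  rw [Finset.smul_finset_inter]

theorem quartets_smul {g : P24} (hg : g ∈ M24) {d : Finset GolayPt}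
    {Q : Finset (Finset GolayPt)} (hQ : Q ∈ quartets d) : g • Q ∈ quartets (g • d) := by
  obtain ⟨h4, h3, hun⟩ := hQ
  have himg : g • Q = Q.image (fun U => g • U) := rfl
  refine ⟨?_, ?_, ?_⟩
  · rw [himg, Finset.card_image_of_injective _ (MulAction.injective g), h4]
  · intro t ht
    rw [himg, Finset.mem_image] at ht
    obtain ⟨t', ht', rfl⟩ := ht
    exact ⟨by rw [Finset.card_smul_finset]; exact (h3 t' ht').1,
      Finset.smul_finset_subset_smul_finset (h3 t' ht').2⟩
  · intro t ht u hu hne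
    rw [himg, Finset.mem_image] at ht hu
    obtain ⟨t', ht', rfl⟩ := ht
    obtain ⟨u', hu', rfl⟩ := hu
    have hne' : t' ≠ u' := fun h => hne (by rw [h])
    rw [← Finset.smul_finset_union]
    exact hexadsOn_smul hg (hun t' ht' u' hu' hne')

theorem quartet_disjoint {d : Finset GolayPt} {Q : Finset (Finset GolayPt)} (hQ : Q ∈ quartets d)
    {t u : Finset GolayPt} (ht : t ∈ Q) (hu : u ∈ Q) (hne : t ≠ u) : Disjoint t u := by
  have h6 := (hQ.2.2 t ht u hu hne).1
  have h1 := Finset.card_union_add_card_inter t u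
  rw [h6, (hQ.2.1 t ht).1, (hQ.2.1 u hu).1] at h1
  rw [Finset.disjoint_iff_inter_eq_empty, ← Finset.card_eq_zero]
  omega

theorem quartet_biUnion {d : Finset GolayPt} (hd : d.card = 12) {Q : Finset (Finset GolayPt)}
    (hQ : Q ∈ quartets d) : Q.biUnion id = d := by
  apply Finset.eq_of_subset_of_card_le
  · intro p hp
    rw [Finset.mem_biUnion] at hp
    obtain ⟨t, ht, hp⟩ := hp
    exact (hQ.2.1 t ht).2 hp
  · rw [Finset.card_biUnion]
    · have : ∑ u ∈ Q, (id u).card = ∑ _u ∈ Q, 3 :=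
        Finset.sum_congr rfl (fun t ht => (hQ.2.1 t ht).1)
      rw [this, Finset.sum_const, hQ.1, hd]
      rfl
    · intro t ht u hu hne
      exact quartet_disjoint hQ ht hu hne

/-- a quartet is determined by two of its members -/
theorem quartet_unique {d : Finset GolayPt} (hd : d.card = 12) {Q Q' : Finset (Finset GolayPt)}
    (hQ : Q ∈ quartets d) (hQ' : Q' ∈ quartets d) {t u : Finset GolayPt} (htu : t ≠ u)
    (ht : t ∈ Q) (hu : u ∈ Q) (ht' : t ∈ Q') (hu' : u ∈ Q') : Q = Q' := by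
  apply Finset.eq_of_subset_of_card_le _ (by rw [hQ.1, hQ'.1])
  intro v hv
  by_cases hvt : v = t
  · rw [hvt]; exact ht'
  by_cases hvu : v = u
  · rw [hvu]; exact hu'
  -- the members of `Q'` other than `t`, `u`
  set R := (Q'.erase t).erase u with hR
  have hRcard : R.card = 2 := by
    rw [hR, Finset.card_erase_of_mem, Finset.card_erase_of_mem ht', hQ'.1]
    rw [Finset.mem_erase]
    exact ⟨Ne.symm htu, hu'⟩
  have hRmem : ∀ r ∈ R, r ∈ Q' ∧ r ≠ t ∧ r ≠ u := by
    intro r hr
    rw [hR, Finset.mem_erase, Finset.mem_erase] at hr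
    exact ⟨hr.2.2, hr.2.1, hr.1⟩
  have hdvt := quartet_disjoint hQ hv ht hvt
  have hdvu := quartet_disjoint hQ hv hu hvu
  have hcover : v = R.biUnion (fun r => v ∩ r) := by
    ext p
    rw [Finset.mem_biUnion]
    constructor
    · intro hp
      have hpd : p ∈ Q'.biUnion id := by
        rw [quartet_biUnion hd hQ']
        exact (hQ.2.1 v hv).2 hp
      rw [Finset.mem_biUnion] at hpd
      obtain ⟨r, hr, hpr⟩ := hpd
      refine ⟨r, ?_, Finset.mem_inter.mpr ⟨hp, hpr⟩⟩
      rw [hR, Finset.mem_erase, Finset.mem_erase]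
      refine ⟨?_, ?_, hr⟩
      · rintro rfl
        exact Finset.disjoint_left.mp hdvu hp hpr
      · rintro rfl
        exact Finset.disjoint_left.mp hdvt hp hpr
    · rintro ⟨r, _, hp⟩
      exact (Finset.mem_inter.mp hp).1
  have hex : ∃ r ∈ R, 2 ≤ (v ∩ r).card := by
    by_contra hcon
    have hcon : ∀ r ∈ R, (v ∩ r).card < 2 := fun r hr => by
      by_contra h
      exact hcon ⟨r, hr, by omega⟩
    have h1 : v.card ≤ ∑ r ∈ R, (v ∩ r).card := by
      conv_lhs => rw [hcover]
      exact Finset.card_biUnion_le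
    have h2 : ∑ r ∈ R, (v ∩ r).card ≤ ∑ _r ∈ R, 1 :=
      Finset.sum_le_sum (fun r hr => by have := hcon r hr; omega)
    rw [Finset.sum_const, hRcard, (hQ.2.1 v hv).1] at *
    simp at h2
    omega
  obtain ⟨r, hr, hr2⟩ := hex
  obtain ⟨hrQ', hrt, hru⟩ := hRmem r hr
  have hdrt := quartet_disjoint hQ' hrQ' ht' hrt
  have heq : t ∪ v = t ∪ r := by
    apply hexad_eq_of_five (hQ.2.2 t ht v hv (Ne.symm hvt)) (hQ'.2.2 t ht' r hrQ' (Ne.symm hrt))
    have hsub : t ∪ (v ∩ r) ⊆ (t ∪ v) ∩ (t ∪ r) := by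
      intro p hp
      simp only [Finset.mem_union, Finset.mem_inter] at hp ⊢
      rcases hp with hp | hp
      · exact ⟨Or.inl hp, Or.inl hp⟩
      · exact ⟨Or.inr hp.1, Or.inr hp.2⟩
    refine le_trans ?_ (Finset.card_le_card hsub)
    rw [Finset.card_union_of_disjoint, (hQ.2.1 t ht).1]
    · omega
    · exact (hdvt.symm).mono_right Finset.inter_subset_left
  have hvr : v = r := by
    ext p
    constructor
    · intro hp
      have : p ∈ t ∪ r := by rw [← heq]; exact Finset.mem_union_right _ hp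
      rcases Finset.mem_union.mp this with h | h
      · exact absurd h (Finset.disjoint_left.mp hdvt hp)
      · exact h
    · intro hp
      have : p ∈ t ∪ v := by rw [heq]; exact Finset.mem_union_right _ hp
      rcases Finset.mem_union.mp this with h | h
      · exact absurd h (Finset.disjoint_left.mp hdrt hp)
      · exact h
  rw [hvr]
  exact hrQ'

end Cfsg.Agent.Lib.Helper1.M24
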