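import Mathlib
import Cfsg.Agent.Lib.Helper1.QuartBasic

/-!
# The quartets of the standard dodecad
-/

set_option autoImplicit false

namespace Cfsg.Agent.Lib.Helper1.M24

open Cfsg Cfsg.Agent.Lib.Helper1
open scoped Pointwise

set_option maxRecDepth 1000000 in
theorem hexList_complete : octList.all (fun o => popcN 24 (o &&& 28637) != 6 ||
    hexList.contains (o &&& 28637)) = true := by decide +kernel

set_option maxRecDepth 1000000 in
theorem hexList_sound : hexList.all (fun m => popcN 24 m == 6 &&
    octList.any (fun o => o &&& 28637 == m)) = true := by decide +kernel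

theorem mem_hexadsOn_std (h : Finset GolayPt) :
    h ∈ hexadsOn d₀fin ↔ ∃ m ∈ hexList, sp m = h := by
  constructor
  · rintro ⟨h6, o, ho, rfl⟩
    obtain ⟨mo, hmo, rfl⟩ := exists_mask_of_mem_octads ho
    rw [d₀fin_eq, sp_inter] at h6 ⊢
    have := List.all_eq_true.mp hexList_complete mo hmo
    rw [Bool.or_eq_true, bne_iff_ne, List.contains_iff_mem] at this
    rcases this with h | h
    · rw [card_sp] at h6
      exact absurd h6 h
    · exact ⟨_, h, rfl⟩
  · rintro ⟨m, hm, rfl⟩
    have := List.all_eq_true.mp hexList_sound m hm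
    rw [Bool.and_eq_true, beq_iff_eq, List.any_eq_true] at this
    obtain ⟨h6, o, ho, hom⟩ := this
    rw [beq_iff_eq] at hom
    refine ⟨by rw [card_sp, h6], sp o, sp_mem_octads ho, ?_⟩
    rw [d₀fin_eq, sp_inter, hom]

/-- check that a list of masks gives a quartet of the standard dodecad -/
def quartOK (l : List ℕ) : Bool :=
  goodL l && (l.length == 4) && l.all (fun m => popcN 24 m == 3 && (m &&& 28637 == m)) &&
    l.all (fun a => l.all (fun b => a == b || hexList.contains (a ||| b)))

theorem famL_mem_quartets {l : List ℕ} (h : quartOK l = true) : famL l ∈ quartets d₀fin := by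
  unfold quartOK at h
  simp only [Bool.and_eq_true, beq_iff_eq, List.all_eq_true, Bool.or_eq_true,
    List.contains_iff_mem] at h
  obtain ⟨⟨⟨hg, hlen⟩, h3⟩, hhex⟩ := h
  refine ⟨by rw [card_famL hg, hlen], ?_, ?_⟩
  · intro t ht
    obtain ⟨m, hm, rfl⟩ := (mem_famL l t).mp ht
    refine ⟨by rw [card_sp, (h3 m hm).1], ?_⟩
    rw [d₀fin_eq, sp_subset_iff (goodL_small hg m hm)]
    exact (h3 m hm).2
  · intro t ht u hu hne
    obtain ⟨a, ha, rfl⟩ := (mem_famL l t).mp ht
    obtain ⟨b, hb, rfl⟩ := (mem_famL l u).mp hu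
    rcases hhex a ha b hb with h | h
    · exact absurd (by rw [h]) hne
    · rw [sp_union, mem_hexadsOn_std]
      exact ⟨_, h, rfl⟩

set_option maxRecDepth 1000000 in
theorem quartList_ok : quartList.all quartOK = true := by decide +kernel

set_option maxRecDepth 1000000 in
theorem quartList_exists : hexList.all (fun h =>
    ((subMasks 24 3).filter (fun m => m &&& h == m)).all (fun mt =>
      quartList.any (fun l => l.contains mt && l.contains (h ^^^ mt)))) = true := by
  decide +kernel

theorem d₀fin_card : d₀fin.card = 12 := d₀fin_mem.2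

/-- existence of a quartet through two triples, for the standard dodecad -/
theorem quartet_exists_std (t u : Finset GolayPt) (ht : t.card = 3) (hu : u.card = 3)
    (htu : Disjoint t u) (hh : t ∪ u ∈ hexadsOn d₀fin) :
    ∃ l ∈ quartList, t ∈ famL l ∧ u ∈ famL l := by
  obtain ⟨mt, hmt, rfl⟩ := exists_mask_of_card ht
  obtain ⟨mu, hmu, rfl⟩ := exists_mask_of_card hu
  obtain ⟨mh, hmh, hsp⟩ := (mem_hexadsOn_std _).mp hh
  have hmt' := (mem_subMasks _ _ _).mp hmt
  have hmu' := (mem_subMasks _ _ _).mp hmu
  rw [sp_union] at hsp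
  have hmhlt : mh < 2 ^ 24 := by
    have := List.all_eq_true.mp hexList_sound mh hmh
    rw [Bool.and_eq_true, beq_iff_eq, List.any_eq_true] at this
    obtain ⟨-, o, ho, hom⟩ := this
    rw [beq_iff_eq] at hom
    rw [← hom]
    exact lt_of_le_of_lt Nat.and_le_right (by norm_num)
  have hor : mt ||| mu < 2 ^ 24 := Nat.or_lt_two_pow hmt'.1 hmu'.1
  have heq : mh = mt ||| mu := sp_injOn hmhlt hor hsp
  have hdis : mt &&& mu = 0 := (sp_disjoint_iff hmt'.1).mp htu
  have h1 := List.all_eq_true.mp quartList_exists mh hmh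
  rw [List.all_eq_true] at h1
  have hsub : mt &&& mh = mt := by
    rw [heq]
    apply Nat.eq_of_testBit_eq
    intro i
    simp only [Nat.testBit_and, Nat.testBit_or]
    cases mt.testBit i <;> simp
  have hxor : mh ^^^ mt = mu := by
    rw [heq]
    apply Nat.eq_of_testBit_eq
    intro i
    have hd := congrArg (fun n => n.testBit i) hdis
    simp only [Nat.testBit_and, Nat.zero_testBit] at hd
    simp only [Nat.testBit_xor, Nat.testBit_or]
    cases h1 : mt.testBit i <;> cases h2 : mu.testBit i <;> simp_all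
  have h2 := h1 mt (List.mem_filter.mpr ⟨hmt, by rw [beq_iff_eq]; exact hsub⟩)
  rw [List.any_eq_true] at h2
  obtain ⟨l, hl, hc⟩ := h2
  rw [Bool.and_eq_true, List.contains_iff_mem, List.contains_iff_mem, hxor] at hc
  exact ⟨l, hl, (mem_famL l _).mpr ⟨mt, hc.1, rfl⟩, (mem_famL l _).mpr ⟨mu, hc.2, rfl⟩⟩

/-- every quartet of the standard dodecad is in the list -/
theorem quartList_complete (Q : Finset (Finset GolayPt)) (hQ : Q ∈ quartets d₀fin) :
    ∃ l ∈ quartList, Q = famL l := by
  have h4 := hQ.1
  obtain ⟨t, ht⟩ : Q.Nonempty := Finset.card_pos.mp (by omega)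
  obtain ⟨u, hu, hut⟩ : ∃ u ∈ Q, u ≠ t := by
    by_contra hcon
    have : Q ⊆ {t} := by
      intro x hx
      rw [Finset.mem_singleton]
      by_contra hne
      exact hcon ⟨x, hx, hne⟩
    have := Finset.card_le_card this
    rw [h4, Finset.card_singleton] at this
    omega
  obtain ⟨l, hl, htl, hul⟩ := quartet_exists_std t u (hQ.2.1 t ht).1 (hQ.2.1 u hu).1
    (quartet_disjoint hQ ht hu (Ne.symm hut)) (hQ.2.2 t ht u hu (Ne.symm hut))
  refine ⟨l, hl, ?_⟩
  exact quartet_unique d₀fin_card hQ
    (famL_mem_quartets (List.all_eq_true.mp quartList_ok l hl)) (Ne.symm hut) ht hu htl hul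

theorem ncard_quartets_std_le : (quartets d₀fin).ncard ≤ 220 := by
  have hsub : quartets d₀fin ⊆ ↑(quartList.map famL).toFinset := by
    intro Q hQ
    obtain ⟨l, hl, rfl⟩ := quartList_complete Q hQ
    rw [Finset.mem_coe, List.mem_toFinset]
    exact List.mem_map_of_mem hl
  calc (quartets d₀fin).ncard ≤ (↑(quartList.map famL).toFinset : Set _).ncard :=
        Set.ncard_le_ncard hsub (Finset.finite_toSet _)
    _ = (quartList.map famL).toFinset.card := Set.ncard_coe_finset _
    _ ≤ (quartList.map famL).length := List.toFinset_card_le _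
    _ = 220 := by rw [List.length_map]; decide +kernel

end Cfsg.Agent.Lib.Helper1.M24
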