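import Mathlib
import Cfsg.Agent.Lib.Helper1.QuartStd

/-!
# Transitivity of the dodecad stabilizer on the quartets
-/

set_option autoImplicit false

namespace Cfsg.Agent.Lib.Helper1.M24

open Cfsg Cfsg.Agent.Lib.Helper1
open scoped Pointwise

/-- the standard quartet -/
abbrev q0fam : Finset (Finset GolayPt) := famL q0

theorem q0_ok : quartOK q0 = true := by decide +kernel

theorem q0fam_mem : q0fam ∈ quartets d₀fin := famL_mem_quartets q0_ok

theorem quartets_inv_std {h : ↥M24} (hh : h ∈ MulAction.stabilizer M24 d₀fin)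
    {x : Finset (Finset GolayPt)} (hx : x ∈ quartets d₀fin) : h • x ∈ quartets d₀fin := by
  have := quartets_smul h.2 hx
  have h2 : (h : P24) • d₀fin = d₀fin := hh
  rwa [h2] at this

/-- the suborbit statement with a single class: transitivity and the count -/
theorem quartets_std :
    MulAction.orbit (MulAction.stabilizer M24 d₀fin) q0fam = quartets d₀fin ∧
      (quartets d₀fin).ncard = 220 := by
  have key := SubOrbits.suborbits (G := M24) (MulAction.stabilizer M24 d₀fin) (quartets d₀fin)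
    (Set.toFinite _) (fun h hh x hx => quartets_inv_std hh hx) (fun _ => 0) (fun _ _ _ => rfl)
    {0} (fun _ => q0fam) (fun _ => 220) (fun _ _ => q0fam_mem) (fun k hk => by
      rw [Finset.mem_singleton] at hk; exact hk.symm) (fun k _ => by
      obtain ⟨L, hnd, hlen, hL⟩ := trav_lower_bound gensD gensD_mem _ _ _ _ travOKQD
      rw [← hlen]
      apply SubOrbits.length_le_ncard _ (Set.toFinite _) L hnd
      intro x hx
      obtain ⟨σ, hσ, rfl⟩ := hL x hx
      exact ⟨⟨⟨σ, hσ.1⟩, hσ.2⟩, rfl⟩) (by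
      rw [Finset.sum_singleton]
      exact ncard_quartets_std_le)
  obtain ⟨-, h2, h3⟩ := key
  have e : {x | x ∈ quartets d₀fin ∧ (0 : ℕ) = 0} = quartets d₀fin := by
    ext x
    simp
  have h2' := h2 0 (Finset.mem_singleton_self _)
  have h3' := h3 0 (Finset.mem_singleton_self _)
  rw [e] at h2' h3'
  exact ⟨h2', h3'⟩

theorem quartet_trans_std (Q Q' : Finset (Finset GolayPt)) (hQ : Q ∈ quartets d₀fin)
    (hQ' : Q' ∈ quartets d₀fin) : ∃ g ∈ M24, g • d₀fin = d₀fin ∧ g • Q = Q' := by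
  rw [← quartets_std.1] at hQ hQ'
  obtain ⟨h₁, rfl⟩ := hQ
  obtain ⟨h₂, rfl⟩ := hQ'
  refine ⟨((h₂ * h₁⁻¹ : MulAction.stabilizer M24 d₀fin) : M24), (h₂ * h₁⁻¹).1.2, (h₂ * h₁⁻¹).2, ?_⟩
  show (h₂ * h₁⁻¹) • h₁ • q0fam = h₂ • q0fam
  rw [mul_smul, inv_smul_smul]

/-- every quartet of every dodecad is an image of the standard one -/
theorem quartet_reach (d : Finset GolayPt) (hd : d ∈ dodecads) (Q : Finset (Finset GolayPt))
    (hQ : Q ∈ quartets d) : ∃ g ∈ M24, g • d₀fin = d ∧ g • q0fam = Q := by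
  obtain ⟨g, hg, rfl⟩ := dodecad_reach d hd
  have hQ' : g⁻¹ • Q ∈ quartets d₀fin := by
    have := quartets_smul (M24.inv_mem hg) hQ
    rwa [inv_smul_smul] at this
  obtain ⟨h, hh, hhd, hhQ⟩ := quartet_trans_std q0fam (g⁻¹ • Q) q0fam_mem hQ'
  refine ⟨g * h, M24.mul_mem hg hh, ?_, ?_⟩
  · rw [mul_smul, hhd]
  · rw [mul_smul, hhQ, smul_inv_smul]

theorem ncard_quartets (d : Finset GolayPt) (hd : d ∈ dodecads) : (quartets d).ncard = 220 := by
  obtain ⟨g, hg, rfl⟩ := dodecad_reach d hd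
  have : quartets (g • d₀fin) = (fun x => g • x) '' quartets d₀fin := by
    ext Q
    constructor
    · intro hQ
      refine ⟨g⁻¹ • Q, ?_, smul_inv_smul g Q⟩
      have := quartets_smul (M24.inv_mem hg) hQ
      rwa [inv_smul_smul] at this
    · rintro ⟨Q', hQ', rfl⟩
      exact quartets_smul hg hQ'
  rw [this, Set.ncard_image_of_injective _ (MulAction.injective g), quartets_std.2]

end Cfsg.Agent.Lib.Helper1.M24
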