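import Mathlib
import Cfsg.Agent.Lib.Helper1.QuartTrans

/-!
# The orbits of a quartet stabilizer on the quartets
-/

set_option autoImplicit false

namespace Cfsg.Agent.Lib.Helper1.M24

open Cfsg Cfsg.Agent.Lib.Helper1
open scoped Pointwise

/-- the weight function of the invariant -/
def wQ (k : ℕ) : ℕ := 1000 * k ^ 2 + k ^ 3

/-- the stabilizer of the standard dodecad and quartet, in the group of all permutations -/
abbrev HQ : Subgroup P24 := H12 ⊓ MulAction.stabilizer P24 q0fam

theorem gensQ_mem : ∀ e ∈ gensQ, e.σ ∈ HQ := by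
  have h : ∀ e ∈ gensQ, pm e.t (cw 6) = cw 6 ∧ fixL e.t q0 = true := by decide +kernel
  intro e he
  exact ⟨mem_H12_of_pm (h e he).1, smul_famL_of_fixL e q0 (h e he).2⟩

/-- the stabilizer of the standard dodecad and quartet, in the group of the code -/
abbrev SQ : Subgroup ↥M24 := MulAction.stabilizer M24 d₀fin ⊓ MulAction.stabilizer M24 q0fam

/-- representatives of the classes -/
def repQ (k : ℕ) : List ℕ :=
  if k = 36108 then repQ_36108 else if k = 18036 then repQ_18036 else if k = 20036 then repQ_20036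
  else if k = 18030 then repQ_18030 else repQ_14018

/-- sizes of the classes -/
def nQ (k : ℕ) : ℕ :=
  if k = 36108 then 1 else if k = 18036 then 12 else if k = 20036 then 27
  else if k = 18030 then 72 else 108

/-- the class values -/
def vQ : Finset ℕ := {36108, 18036, 20036, 18030, 14018}

set_option maxRecDepth 1000000 in
theorem repQ_ok : ∀ k ∈ vQ, quartOK (repQ k) = true ∧ clsWL wQ q0 (repQ k) = k := by
  decide +kernel

theorem clsW_repQ (k : ℕ) (hk : k ∈ vQ) : clsW wQ q0fam (famL (repQ k)) = k := by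
  obtain ⟨h1, h2⟩ := repQ_ok k hk
  have hg : goodL (repQ k) = true := by
    unfold quartOK at h1
    simp only [Bool.and_eq_true] at h1
    exact h1.1.1.1
  have hg0 : goodL q0 = true := by decide +kernel
  rw [clsW_famL wQ hg0 hg, h2]

theorem travQ (k : ℕ) (hk : k ∈ vQ) :
    ∃ L : List (Finset (Finset GolayPt)), L.Nodup ∧ L.length = nQ k ∧
      ∀ x ∈ L, ∃ σ ∈ HQ, σ • famL (repQ k) = x := by
  unfold vQ at hk
  simp only [Finset.mem_insert, Finset.mem_singleton] at hk
  rcases hk with rfl | rfl | rfl | rfl | rfl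
  · exact trav_lower_bound gensQ gensQ_mem _ _ _ _ travOKQ_36108
  · exact trav_lower_bound gensQ gensQ_mem _ _ _ _ travOKQ_18036
  · exact trav_lower_bound gensQ gensQ_mem _ _ _ _ travOKQ_20036
  · exact trav_lower_bound gensQ gensQ_mem _ _ _ _ travOKQ_18030
  · exact trav_lower_bound gensQ gensQ_mem _ _ _ _ travOKQ_14018

/-- the suborbits of the stabilizer of the standard quartet -/
theorem suborbitsQ :
    (∀ x ∈ quartets d₀fin, clsW wQ q0fam x ∈ vQ) ∧
    (∀ k ∈ vQ, MulAction.orbit SQ (famL (repQ k)) =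
      {x | x ∈ quartets d₀fin ∧ clsW wQ q0fam x = k}) ∧
    (∀ k ∈ vQ, {x | x ∈ quartets d₀fin ∧ clsW wQ q0fam x = k}.ncard = nQ k) := by
  apply SubOrbits.suborbits (G := M24) SQ (quartets d₀fin) (Set.toFinite _)
    _ (clsW wQ q0fam) _ vQ (fun k => famL (repQ k)) nQ
  · intro k hk
    exact famL_mem_quartets (repQ_ok k hk).1
  · exact clsW_repQ
  · intro k hk
    obtain ⟨L, hnd, hlen, hL⟩ := travQ k hk
    rw [← hlen]
    apply SubOrbits.length_le_ncard _ (Set.toFinite _) L hnd
    intro x hx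
    obtain ⟨σ, hσ, rfl⟩ := hL x hx
    exact ⟨⟨⟨σ, hσ.1.1⟩, ⟨hσ.1.2, hσ.2⟩⟩, rfl⟩
  · rw [quartets_std.2]
    decide
  · intro h hh x hx
    exact quartets_inv_std hh.1 hx
  · intro h hh x
    exact clsW_smul_of_fix wQ (g := (h : P24)) hh.2 x

end Cfsg.Agent.Lib.Helper1.M24
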