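import Mathlib
import Cfsg.Agent.Lib.Helper1.QuartOrb

/-!
# Elements of the stabilizer of the standard dodecad and quartet
-/

set_option autoImplicit false

namespace Cfsg.Agent.Lib.Helper1.QuartStab

open Cfsg Cfsg.Agent.Lib.Helper1 Cfsg.Agent.Lib.Helper1.M24

noncomputable section

def qc3532 : El K := El.mul n3527 n3520 [0, 22, 2, 3, 9, 18, 14, 11, 4, 8, 6, 13, 1, 7, 10, 15, 5, 19, 16, 20, 17, 21, 12, 23] (by decide +kernel)
def qc3559 : El K := El.mul n3555 n3531 [0, 12, 2, 3, 14, 5, 7, 8, 6, 10, 13, 4, 22, 9, 11, 23, 16, 19, 18, 20, 17, 15, 1, 21] (by decide +kernel)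
def qc129542 : El K := El.mul n3397 n3401 [4, 16, 8, 6, 7, 18, 3, 14, 13, 2, 11, 10, 5, 9, 0, 15, 17, 19, 21, 1, 20, 12, 22, 23] (by decide +kernel)
def qc129555 : El K := El.mul n3394 qc129542 [3, 18, 13, 8, 6, 16, 11, 14, 10, 0, 4, 9, 21, 7, 2, 5, 20, 17, 15, 22, 12, 1, 19, 23] (by decide +kernel)
def qc129573 : El K := El.mul n3397 qc129555 [7, 21, 11, 10, 9, 5, 13, 0, 8, 14, 2, 6, 18, 3, 4, 16, 22, 1, 12, 20, 15, 17, 23, 19] (by decide +kernel)
def qc129590 : El K := El.mul n3394 n3565 [14, 18, 13, 4, 9, 22, 6, 11, 2, 8, 10, 3, 5, 7, 0, 12, 1, 20, 15, 17, 23, 16, 21, 19] (by decide +kernel)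
def qc129591 : El K := El.mul n3394 qc129573 [6, 15, 4, 9, 7, 21, 10, 2, 13, 14, 0, 8, 16, 11, 3, 18, 19, 22, 1, 12, 5, 20, 23, 17] (by decide +kernel)
def qc129614 : El K := El.mul n3394 qc129590 [14, 16, 10, 3, 7, 19, 8, 4, 0, 13, 9, 11, 21, 6, 2, 1, 22, 12, 5, 20, 23, 18, 15, 17] (by decide +kernel)
def qc129617 : El K := El.mul n3397 qc129591 [9, 12, 2, 6, 3, 18, 8, 4, 11, 0, 14, 10, 5, 13, 7, 21, 23, 20, 17, 15, 16, 22, 19, 1] (by decide +kernel)
def qc129641 : El K := El.mul n3397 qc129614 [0, 5, 8, 7, 3, 23, 10, 2, 14, 11, 6, 13, 18, 9, 4, 17, 20, 15, 16, 22, 19, 21, 12, 1] (by decide +kernel)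
def qc129725 : El K := El.mul n3394 n3400 [14, 1, 4, 13, 0, 18, 8, 3, 6, 10, 9, 7, 15, 11, 2, 19, 5, 17, 21, 23, 20, 16, 22, 12] (by decide +kernel)
def qc129726 : El K := El.mul n3474 qc129725 [2, 19, 0, 3, 14, 5, 13, 9, 10, 6, 7, 4, 20, 8, 11, 23, 18, 12, 16, 22, 1, 15, 17, 21] (by decide +kernel)
def qc129727 : El K := El.inv n3453 [2, 23, 8, 7, 14, 5, 6, 0, 3, 4, 10, 13, 16, 9, 11, 1, 20, 21, 18, 22, 19, 15, 12, 17] (by decide +kernel)
def qc129728 : El K := El.mul n3394 qc129555 [11, 16, 10, 13, 8, 18, 4, 14, 9, 2, 3, 7, 15, 6, 0, 21, 12, 20, 5, 19, 1, 22, 17, 23] (by decide +kernel)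
def qc129729 : El K := El.mul qc129727 qc129728 [13, 20, 10, 9, 3, 18, 14, 11, 4, 8, 7, 0, 1, 6, 2, 15, 16, 19, 5, 22, 23, 12, 21, 17] (by decide +kernel)
def qc130682 : El K := El.inv qc129641 [0, 23, 7, 4, 14, 1, 10, 3, 2, 13, 6, 9, 22, 11, 8, 17, 18, 15, 12, 20, 16, 21, 19, 5] (by decide +kernel)
def qc130683 : El K := El.mul n3394 qc129617 [7, 1, 0, 8, 11, 16, 13, 3, 4, 2, 14, 9, 21, 10, 6, 15, 23, 12, 20, 5, 18, 19, 17, 22] (by decide +kernel)
def qc130684 : El K := El.mul qc130682 qc130683 [3, 23, 0, 2, 9, 18, 11, 4, 14, 7, 8, 13, 21, 6, 10, 17, 5, 22, 16, 1, 12, 20, 15, 19] (by decide +kernel)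
def qc130736 : El K := El.mul qc130684 qc129726 [0, 1, 3, 2, 10, 18, 6, 7, 8, 11, 4, 9, 12, 14, 13, 19, 16, 21, 5, 15, 23, 17, 22, 20] (by decide +kernel)

/-- generator 0: linear part ((2, 2), (0, 1)), translation (0, 0) -/
def eq0 : El K := n370
/-- generator 1: linear part ((2, 2), (1, 2)), translation (1, 2) -/
def eq1 : El K := qc129729
/-- generator 2: linear part ((1, 0), (0, 2)), translation (0, 0) -/
def eq2 : El K := qc130736
/-- generator 3: linear part ((1, 0), (0, 1)), translation (1, 0) -/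
def eq3 : El K := qc3559
/-- generator 4: linear part ((1, 1), (0, 1)), translation (2, 0) -/
def eq4 : El K := qc3532
/-- generator 5: linear part ((2, 2), (0, 1)), translation (1, 0) -/
def eq5 : El K := n3527

/-- generators for level 0 -/
def gq0 : List (El K) := [eq0, eq1]
/-- generators for level 1 -/
def gq1 : List (El K) := [eq2]
/-- generators for level 2 -/
def gq2 : List (El K) := [eq3, eq4]
/-- generators for level 3 -/
def gq3 : List (El K) := [eq5]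

end

end Cfsg.Agent.Lib.Helper1.QuartStab
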