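import Mathlib
import Cfsg.Agent.Lib.Helper1.QuartStab1

/-!
# The stabilizer of the standard dodecad and quartet: order and affine action
-/

set_option autoImplicit false

namespace Cfsg.Agent.Lib.Helper1.QuartStab

open Cfsg Cfsg.Agent.Lib.Helper1 Cfsg.Agent.Lib.Helper1.M24
open scoped Pointwise

noncomputable section

/-! ### the complementary dodecad -/

/-- the complement of the standard dodecad -/
def d₁fin : Finset GolayPt := support₂ (ofMask (cw 4089))

theorem d₁fin_mem : d₁fin ∈ dodecads := dodecad_of_idx (by norm_num) (by decide +kernel)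

theorem testBit_compl : ∀ q < 24, (cw 4089).testBit q = !(cw 6).testBit q := by decide +kernel

theorem smul_d₁ {g : P24} (hg : g ∈ H12) : g • d₁fin = d₁fin := by
  apply smul_eq_of_invMask
  intro p
  rw [testBit_compl _ (gIdx_lt _), testBit_compl _ (gIdx_lt _), invMask_d₀ hg p]

/-- the nine points -/
def nineL : List ℕ := [1, 12, 15, 17, 19]

theorem nine_faithful {g : P24} (hg : g ∈ H12)
    (hfix : ∀ j ∈ nineL, g (gUnidx j) = gUnidx j) : g = 1 := by
  let x : Fin 5 → GolayPt := fun i => gUnidx (nineL.getD i.val 0)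
  have h1 : ∀ i : Fin 5, nineL.getD i.val 0 < 24 := by decide
  have h2 : ∀ i : Fin 5, nineL.getD i.val 0 ∈ nineL := by decide
  have hx : Function.Injective x := by
    intro i j hij
    have h3 := gUnidx_inj (h1 i) (h1 j) hij
    revert h3
    revert i j
    decide
  have hxd : ∀ i, x i ∈ d₁fin := by
    intro i
    unfold d₁fin
    rw [mem_support₂_ofMask, gIdx_gUnidx _ (h1 i)]
    revert i
    decide +kernel
  obtain ⟨g0, _, _, _, huniq⟩ := sharp_general d₁fin d₁fin_mem x x hx hx hxd hxd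
  have e1 := huniq g hg.1 (smul_d₁ hg) (fun i => hfix _ (h2 i))
  have e2 := huniq 1 M24.one_mem (one_smul _ _) (fun i => rfl)
  exact e1.trans e2.symm

/-! ### the affine structure -/

/-- the points attached to the vectors -/
def bTbl : List ℕ := [1, 15, 19, 12, 23, 20, 22, 21, 17]

/-- the index of the point attached to a vector -/
def bIdx (a b : ZMod 3) : ℕ := tg bTbl (3 * a.val + b.val)

/-- the point attached to a vector -/
def β (v : Fin 2 → ZMod 3) : GolayPt := gUnidx (bIdx (v 0) (v 1))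

theorem bIdx_lt : ∀ a b : ZMod 3, bIdx a b < 24 := by decide

theorem bIdx_inj : ∀ a b a' b' : ZMod 3, bIdx a b = bIdx a' b' → a = a' ∧ b = b' := by decide

theorem β_injective : Function.Injective β := by
  intro v w h
  have h1 := gUnidx_inj (bIdx_lt _ _) (bIdx_lt _ _) h
  obtain ⟨h0, h1⟩ := bIdx_inj _ _ _ _ h1
  funext i
  fin_cases i
  · exact h0
  · exact h1

theorem nine_sub : ∀ j ∈ nineL, ∃ a b : ZMod 3, bIdx a b = j := by decide

/-- the table acts on the nine points as the affine map acts on the vectors -/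
def affOK (t : List ℕ) (A : Matrix (Fin 2) (Fin 2) (ZMod 3)) (c : Fin 2 → ZMod 3) : Prop :=
  ∀ a b : ZMod 3, tg t (bIdx a b) =
    bIdx (A 0 0 * a + A 0 1 * b + c 0) (A 1 0 * a + A 1 1 * b + c 1)

instance (t : List ℕ) (A : Matrix (Fin 2) (Fin 2) (ZMod 3)) (c : Fin 2 → ZMod 3) :
    Decidable (affOK t A c) := by
  unfold affOK
  infer_instance

theorem aff_of_table {H : Subgroup P24} (e : El H) (A : Matrix (Fin 2) (Fin 2) (ZMod 3))
    (c : Fin 2 → ZMod 3) (h : affOK e.t A c) (v : Fin 2 → ZMod 3) :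
    e.σ (β v) = β (A.mulVec v + c) := by
  have h1 : gIdx (e.σ (β v)) = gIdx (β (A.mulVec v + c)) := by
    rw [e.apply_idx]
    unfold β
    rw [gIdx_gUnidx _ (bIdx_lt _ _), gIdx_gUnidx _ (bIdx_lt _ _), h]
    simp
  rw [← gUnidx_gIdx (e.σ (β v)), h1, gUnidx_gIdx]

/-- the permutations acting as affine maps on the nine points -/
def AffSub : Subgroup P24 where
  carrier := {g | ∃ (A : GL (Fin 2) (ZMod 3)) (c : Fin 2 → ZMod 3), ∀ v,
    g (β v) = β ((A : Matrix (Fin 2) (Fin 2) (ZMod 3)).mulVec v + c)}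
  one_mem' := ⟨1, 0, fun v => by simp⟩
  mul_mem' := by
    rintro g h ⟨A, c, hA⟩ ⟨B, c', hB⟩
    refine ⟨A * B, (A : Matrix (Fin 2) (Fin 2) (ZMod 3)).mulVec c' + c, fun v => ?_⟩
    rw [Equiv.Perm.mul_apply, hB, hA, Matrix.mulVec_add, Matrix.mulVec_mulVec, add_assoc]
    rfl
  inv_mem' := by
    rintro g ⟨A, c, hA⟩
    refine ⟨A⁻¹, -((A⁻¹ : GL (Fin 2) (ZMod 3)) : Matrix (Fin 2) (Fin 2) (ZMod 3)).mulVec c,
      fun v => ?_⟩
    rw [Equiv.Perm.inv_eq_iff_eq, hA, Matrix.mulVec_add, Matrix.mulVec_neg, Matrix.mulVec_mulVec,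
      Matrix.mulVec_mulVec, ← Matrix.GeneralLinearGroup.coe_mul, mul_inv_cancel]
    simp

/-- the group -/
abbrev HL : Subgroup P24 := HQ ⊓ AffSub

theorem HL_le : HL ≤ HQ := inf_le_left

theorem mem_HL_of_tables (e : El K) (A B : Matrix (Fin 2) (Fin 2) (ZMod 3)) (c : Fin 2 → ZMod 3)
    (hAB : A * B = 1) (hBA : B * A = 1) (hpm : pm e.t (cw 6) = cw 6) (hq : fixL e.t q0 = true)
    (hl : affOK e.t A c) : e.σ ∈ HL :=
  ⟨⟨mem_H12_of_pm hpm, smul_famL_of_fixL e q0 hq⟩, ⟨⟨A, B, hAB, hBA⟩, c, aff_of_table e A c hl⟩⟩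

theorem eq0_mem : eq0.σ ∈ HL :=
  mem_HL_of_tables eq0 !![2, 2; 0, 1] !![2, 2; 0, 1] ![0, 0] (by decide) (by decide)
    (by decide +kernel) (by decide +kernel) (by decide +kernel)

theorem eq1_mem : eq1.σ ∈ HL :=
  mem_HL_of_tables eq1 !![2, 2; 1, 2] !![1, 2; 1, 1] ![1, 2] (by decide) (by decide)
    (by decide +kernel) (by decide +kernel) (by decide +kernel)

theorem eq2_mem : eq2.σ ∈ HL :=
  mem_HL_of_tables eq2 !![1, 0; 0, 2] !![1, 0; 0, 2] ![0, 0] (by decide) (by decide)
    (by decide +kernel) (by decide +kernel) (by decide +kernel)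

theorem eq3_mem : eq3.σ ∈ HL :=
  mem_HL_of_tables eq3 !![1, 0; 0, 1] !![1, 0; 0, 1] ![1, 0] (by decide) (by decide)
    (by decide +kernel) (by decide +kernel) (by decide +kernel)

theorem eq4_mem : eq4.σ ∈ HL :=
  mem_HL_of_tables eq4 !![1, 1; 0, 1] !![1, 2; 0, 1] ![2, 0] (by decide) (by decide)
    (by decide +kernel) (by decide +kernel) (by decide +kernel)

theorem eq5_mem : eq5.σ ∈ HL :=
  mem_HL_of_tables eq5 !![2, 2; 0, 1] !![2, 2; 0, 1] ![1, 0] (by decide) (by decide)
    (by decide +kernel) (by decide +kernel) (by decide +kernel)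

theorem gq0_mem : ∀ e ∈ gq0, e.σ ∈ HL := by
  intro e he
  simp only [gq0, List.mem_cons, List.not_mem_nil, or_false] at he
  rcases he with rfl | rfl
  · exact eq0_mem
  · exact eq1_mem

theorem gq1_mem : ∀ e ∈ gq1, e.σ ∈ HL := by
  intro e he
  simp only [gq1, List.mem_cons, List.not_mem_nil, or_false] at he
  rcases he with rfl
  exact eq2_mem

theorem gq2_mem : ∀ e ∈ gq2, e.σ ∈ HL := by
  intro e he
  simp only [gq2, List.mem_cons, List.not_mem_nil, or_false] at he
  rcases he with rfl | rfl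
  · exact eq3_mem
  · exact eq4_mem

theorem gq3_mem : ∀ e ∈ gq3, e.σ ∈ HL := by
  intro e he
  simp only [gq3, List.mem_cons, List.not_mem_nil, or_false] at he
  rcases he with rfl
  exact eq5_mem

/-! ### the triples -/

theorem q0_disjoint : ∀ m ∈ q0, ∀ m' ∈ q0, ∀ a < 24, m.testBit a = true → m'.testBit a = true →
    m = m' := by decide +kernel

/-- an element of the group fixing a point of a triple maps the triple to itself -/
theorem triple_inv {g : P24} (hg : g ∈ HQ) {m : ℕ} (hm : m ∈ q0) {a : ℕ} (ha : a < 24)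
    (hbit : m.testBit a = true) (hfix : g (gUnidx a) = gUnidx a) : InvMask g m := by
  apply invMask_of_smul_eq
  have hgq : g • q0fam = q0fam := MulAction.mem_stabilizer_iff.mp hg.2
  have h1 : g • sp m ∈ q0fam := by
    rw [← hgq]
    exact Finset.smul_mem_smul_finset ((mem_famL _ _).mpr ⟨m, hm, rfl⟩)
  obtain ⟨m', hm', h2⟩ := (mem_famL _ _).mp h1
  have h3 : gUnidx a ∈ sp m' := by
    rw [h2, ← hfix]
    apply Finset.smul_mem_smul_finset (a := g)
    rw [mem_sp, gIdx_gUnidx a ha]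
    exact hbit
  rw [mem_sp, gIdx_gUnidx a ha] at h3
  have h4 : m = m' := q0_disjoint m hm m' hm' a ha hbit h3
  rw [← h4] at h2
  exact h2.symm

/-! ### the chain -/

/-- the first orbit -/
def pr0 (q : ℕ) : Bool := decide (q ∈ d₀pts)

/-- the second orbit -/
def pr1 (q : ℕ) : Bool := decide (q ∈ [2, 3])

/-- the third orbit -/
def pr2 (q : ℕ) : Bool := decide (q ∈ d₀pts ∧ q ∉ [0, 2, 3])

/-- the fourth orbit -/
def pr3 (q : ℕ) : Bool := decide (q ∈ [11, 14])

theorem rch0 : ∀ q < 24, pr0 q = true → Reach HL [] 0 q := by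
  intro q hq hp
  refine reach_of_rnds' (by norm_num) gq0 gq0_mem (by decide +kernel) 5 ?_
  revert q
  decide +kernel

theorem rch1 : ∀ q < 24, pr1 q = true → Reach HL [0] 2 q := by
  intro q hq hp
  refine reach_of_rnds' (by norm_num) gq1 gq1_mem (by decide +kernel) 1 ?_
  revert q
  decide +kernel

theorem rch2 : ∀ q < 24, pr2 q = true → Reach HL [0, 2] 4 q := by
  intro q hq hp
  refine reach_of_rnds' (by norm_num) gq2 gq2_mem (by decide +kernel) 4 ?_
  revert q
  decide +kernel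

theorem rch3 : ∀ q < 24, pr3 q = true → Reach HL [0, 2, 4] 11 q := by
  intro q hq hp
  refine reach_of_rnds' (by norm_num) gq3 gq3_mem (by decide +kernel) 1 ?_
  revert q
  decide +kernel

theorem upq0 {g : P24} (hg : g ∈ HQ) : pr0 (gIdx (g (gUnidx 0))) = true :=
  decide_eq_true (upD hg.1 (by decide))

theorem bits13 : ∀ q < 24, (13 : ℕ).testBit q = true → q ≠ 0 → q ∈ [2, 3] := by decide

theorem bits18448 : ∀ q < 24, (18448 : ℕ).testBit q = true → q ≠ 4 → q ∈ [11, 14] := by decide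

theorem upq1 {g : P24} (hg : g ∈ HQ) (hfix : ∀ j ∈ [0], g (gUnidx j) = gUnidx j) :
    pr1 (gIdx (g (gUnidx 2))) = true := by
  have h0 : g (gUnidx 0) = gUnidx 0 := hfix 0 (by simp)
  have hinv := triple_inv hg (m := 13) (by decide) (a := 0) (by norm_num) (by decide) h0
  have h1 := hinv (gUnidx 2)
  rw [gIdx_gUnidx 2 (by norm_num)] at h1
  have h2 : (13 : ℕ).testBit (gIdx (g (gUnidx 2))) = true := by rw [h1]; decide
  have h3 : gIdx (g (gUnidx 2)) ∉ [0] := up_generic _ (by decide) hfix (by norm_num) (by decide)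
  exact decide_eq_true (bits13 _ (gIdx_lt _) h2 (by simpa using h3))

theorem fix3 {g : P24} (hg : g ∈ HQ) (hfix : ∀ j ∈ [0, 2], g (gUnidx j) = gUnidx j) :
    ∀ j ∈ [0, 2, 3], g (gUnidx j) = gUnidx j := by
  have h0 : g (gUnidx 0) = gUnidx 0 := hfix 0 (by simp)
  have h2 : g (gUnidx 2) = gUnidx 2 := hfix 2 (by simp)
  have hinv := triple_inv hg (m := 13) (by decide) (a := 0) (by norm_num) (by decide) h0
  have h1 := hinv (gUnidx 3)
  rw [gIdx_gUnidx 3 (by norm_num)] at h1
  have hb : (13 : ℕ).testBit (gIdx (g (gUnidx 3))) = true := by rw [h1]; decide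
  have h3 : gIdx (g (gUnidx 3)) ∉ [0, 2] :=
    up_generic _ (by decide) hfix (by norm_num) (by decide)
  have h4 : gIdx (g (gUnidx 3)) = 3 := by
    have := bits13 _ (gIdx_lt _) hb (fun h => h3 (by rw [h]; simp))
    simp only [List.mem_cons, List.not_mem_nil, or_false] at this
    rcases this with h | h
    · exact absurd (by rw [h]; simp) h3
    · exact h
  intro j hj
  simp only [List.mem_cons, List.not_mem_nil, or_false] at hj
  rcases hj with rfl | rfl | rfl
  · exact h0
  · exact h2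
  · rw [← gUnidx_gIdx (g (gUnidx 3)), h4]

theorem upq2 {g : P24} (hg : g ∈ HQ) (hfix : ∀ j ∈ [0, 2], g (gUnidx j) = gUnidx j) :
    pr2 (gIdx (g (gUnidx 4))) = true :=
  decide_eq_true ⟨upD hg.1 (by decide),
    up_generic _ (by decide) (fix3 hg hfix) (by norm_num) (by decide)⟩

theorem upq3 {g : P24} (hg : g ∈ HQ) (hfix : ∀ j ∈ [0, 2, 4], g (gUnidx j) = gUnidx j) :
    pr3 (gIdx (g (gUnidx 11))) = true := by
  have h4 : g (gUnidx 4) = gUnidx 4 := hfix 4 (by simp)
  have hinv := triple_inv hg (m := 18448) (by decide) (a := 4) (by norm_num) (by decide) h4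
  have h1 := hinv (gUnidx 11)
  rw [gIdx_gUnidx 11 (by norm_num)] at h1
  have h2 : (18448 : ℕ).testBit (gIdx (g (gUnidx 11))) = true := by rw [h1]; decide
  have h3 : gIdx (g (gUnidx 11)) ∉ [0, 2, 4] :=
    up_generic _ (by decide) hfix (by norm_num) (by decide)
  exact decide_eq_true (bits18448 _ (gIdx_lt _) h2 (fun h => h3 (by rw [h]; simp)))

/-- the five base points -/
def fiveB : Fin 5 → GolayPt := fun i => gUnidx ([0, 2, 3, 4, 11].getD i.val 0)

theorem trivial_of_fix {g : P24} (hg : g ∈ HQ)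
    (hfix : ∀ j ∈ [0, 2, 4, 11], g (gUnidx j) = gUnidx j) : g = 1 := by
  have hfix' : ∀ j ∈ [0, 2], g (gUnidx j) = gUnidx j := by
    intro j hj
    apply hfix
    simp only [List.mem_cons, List.not_mem_nil, or_false] at hj ⊢
    tauto
  have h3 := fix3 hg hfix'
  have h1 : ∀ i : Fin 5, [0, 2, 3, 4, 11].getD i.val 0 < 24 := by decide
  have hx : Function.Injective fiveB := by
    intro i j hij
    have h3 := gUnidx_inj (h1 i) (h1 j) hij
    revert h3
    revert i j
    decide
  have hxd : ∀ i, fiveB i ∈ d₀fin := by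
    intro i
    unfold fiveB
    rw [mem_d₀fin_iff, gIdx_gUnidx _ (h1 i)]
    revert i
    decide
  have hall : ∀ i, g (fiveB i) = fiveB i := by
    intro i
    unfold fiveB
    fin_cases i
    · exact h3 0 (by simp)
    · exact h3 2 (by simp)
    · exact h3 3 (by simp)
    · exact hfix 4 (by simp)
    · exact hfix 11 (by simp)
  obtain ⟨g0, _, _, huniq⟩ := sharp_D fiveB fiveB hx hx hxd hxd
  have e1 := huniq g hg.1 hall
  have e2 := huniq 1 H12.one_mem (fun i => rfl)
  exact e1.trans e2.symm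

/-- every element of the group acts as an affine map -/
theorem HQ_le_HL : HQ ≤ HL := by
  intro g hg
  refine sift (K' := HL) (H := HQ) [] 0 (fun g hg _ => rch0 _ (gIdx_lt _) (upq0 hg)) HL_le ?_ g hg
    (by simp)
  intro g hg hfix
  refine sift (K' := HL) (H := HQ) [0] 2 (fun g hg hfix => rch1 _ (gIdx_lt _) (upq1 hg hfix))
    HL_le ?_ g hg hfix
  intro g hg hfix
  refine sift (K' := HL) (H := HQ) [0, 2] 4 (fun g hg hfix => rch2 _ (gIdx_lt _) (upq2 hg hfix))
    HL_le ?_ g hg hfix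
  intro g hg hfix
  refine sift (K' := HL) (H := HQ) [0, 2, 4] 11
    (fun g hg hfix => rch3 _ (gIdx_lt _) (upq3 hg hfix)) HL_le ?_ g hg hfix
  intro g hg hfix
  rw [trivial_of_fix hg hfix]
  exact HL.one_mem

theorem card_HQ : Nat.card ↥HQ = 432 := by
  have e0 := level_card (K' := HL) (H := HQ) HL_le [] 0 pr0 rch0 (fun g hg _ => upq0 hg)
  have e1 := level_card (K' := HL) (H := HQ) HL_le [0] 2 pr1 rch1 (fun g hg hfix => upq1 hg hfix)
  have e2 := level_card (K' := HL) (H := HQ) HL_le [0, 2] 4 pr2 rch2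
    (fun g hg hfix => upq2 hg hfix)
  have e3 := level_card (K' := HL) (H := HQ) HL_le [0, 2, 4] 11 pr3 rch3
    (fun g hg hfix => upq3 hg hfix)
  have c0 : (Finset.univ.filter (fun p : GolayPt => pr0 (gIdx p) = true)).card = 12 := by
    decide +kernel
  have c1 : (Finset.univ.filter (fun p : GolayPt => pr1 (gIdx p) = true)).card = 2 := by
    decide +kernel
  have c2 : (Finset.univ.filter (fun p : GolayPt => pr2 (gIdx p) = true)).card = 9 := by
    decide +kernel
  have c3 : (Finset.univ.filter (fun p : GolayPt => pr3 (gIdx p) = true)).card = 2 := by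
    decide +kernel
  have e4 : Nat.card ↥(HQ ⊓ FixL [0, 2, 4, 11]) = 1 := by
    rw [Subgroup.card_eq_one, Subgroup.eq_bot_iff_forall]
    intro g hg
    exact trivial_of_fix hg.1 hg.2
  rw [FixL_nil] at e0
  rw [c0] at e0
  rw [c1] at e1
  rw [c2] at e2
  rw [c3] at e3
  simp only [List.nil_append, List.cons_append] at e0 e1 e2 e3
  rw [e1, e2, e3, e4] at e0
  omega

/-- the group is transitive on the dodecad -/
theorem trans_d₀ (p q : GolayPt) (hp : p ∈ d₀fin) (hq : q ∈ d₀fin) :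
    ∃ g ∈ HQ, g p = q := by
  rw [mem_d₀fin_iff] at hp hq
  obtain ⟨σ₁, hσ₁, -, h1⟩ := rch0 _ (gIdx_lt p) (decide_eq_true hp)
  obtain ⟨σ₂, hσ₂, -, h2⟩ := rch0 _ (gIdx_lt q) (decide_eq_true hq)
  rw [gUnidx_gIdx] at h1 h2
  refine ⟨σ₂ * σ₁⁻¹, HQ.mul_mem (HL_le hσ₂) (HQ.inv_mem (HL_le hσ₁)), ?_⟩
  rw [Equiv.Perm.mul_apply, ← h1]
  simp [h2]

end

end Cfsg.Agent.Lib.Helper1.QuartStab
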