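import Mathlib
import Cfsg.Agent.Lib.Helper1.QuartStab2

/-!
# The structure of the stabilizer of a dodecad and a quartet
-/

set_option autoImplicit false

namespace Cfsg.Agent.Lib.Helper1.QuartStab

open Cfsg Cfsg.Agent.Lib.Helper1 Cfsg.Agent.Lib.Helper1.M24 MulAction
open scoped Pointwise

noncomputable section

theorem exists_aff (g : HQ) : ∃ (A : GL (Fin 2) (ZMod 3)) (c : Fin 2 → ZMod 3), ∀ v,
    (g : P24) (β v) = β ((A : Matrix (Fin 2) (Fin 2) (ZMod 3)).mulVec v + c) :=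
  (HQ_le_HL g.2).2

/-- the linear part -/
def linPart (g : HQ) : GL (Fin 2) (ZMod 3) := Classical.choose (exists_aff g)

/-- the translation part -/
def trPart (g : HQ) : Fin 2 → ZMod 3 := Classical.choose (Classical.choose_spec (exists_aff g))

theorem aff_spec (g : HQ) (v : Fin 2 → ZMod 3) : (g : P24) (β v) =
    β ((linPart g : Matrix (Fin 2) (Fin 2) (ZMod 3)).mulVec v + trPart g) :=
  Classical.choose_spec (Classical.choose_spec (exists_aff g)) v

theorem aff_unique {A B : GL (Fin 2) (ZMod 3)} {c c' : Fin 2 → ZMod 3}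
    (h : ∀ v, β ((A : Matrix (Fin 2) (Fin 2) (ZMod 3)).mulVec v + c) =
      β ((B : Matrix (Fin 2) (Fin 2) (ZMod 3)).mulVec v + c')) : A = B ∧ c = c' := by
  have hc : c = c' := by
    have h0 := β_injective (h 0)
    simpa using h0
  subst hc
  refine ⟨?_, rfl⟩
  apply Matrix.GeneralLinearGroup.ext
  intro i j
  have h1 := β_injective (h (Pi.single j 1))
  have h2 := add_right_cancel h1
  rw [Matrix.mulVec_single_one, Matrix.mulVec_single_one] at h2
  exact congrFun h2 i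

/-- the homomorphism to the general linear group -/
def Ψ : HQ →* GL (Fin 2) (ZMod 3) where
  toFun := linPart
  map_one' := (aff_unique (c := trPart 1) (c' := 0) (fun v => by
    rw [← aff_spec]
    simp)).1
  map_mul' g h := (aff_unique (c := trPart (g * h))
    (c' := (linPart g : Matrix (Fin 2) (Fin 2) (ZMod 3)).mulVec (trPart h) + trPart g) (fun v => by
    rw [← aff_spec, Matrix.GeneralLinearGroup.coe_mul, ← Matrix.mulVec_mulVec, ← add_assoc,
      ← Matrix.mulVec_add, ← aff_spec g, ← aff_spec h]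
    rfl)).1

theorem card_vec : Nat.card (Fin 2 → ZMod 3) = 9 := by
  rw [Nat.card_eq_fintype_card, Fintype.card_fun, ZMod.card, Fintype.card_fin]
  norm_num

theorem card_ker_le : Nat.card ↥Ψ.ker ≤ 9 := by
  rw [← card_vec]
  apply Nat.card_le_card_of_injective (fun g : ↥Ψ.ker => trPart (g : HQ))
  intro g g' hgg
  have hg : linPart (g : HQ) = 1 := g.2
  have hg' : linPart (g' : HQ) = 1 := g'.2
  have hgg' : trPart (g : HQ) = trPart (g' : HQ) := hgg
  have hsame : ∀ v, ((g : HQ) : P24) (β v) = ((g' : HQ) : P24) (β v) := by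
    intro v
    rw [aff_spec, aff_spec, hg, hg', hgg']
  have h1 : (((g : HQ) : P24))⁻¹ * ((g' : HQ) : P24) = 1 := by
    apply nine_faithful (H12.mul_mem (H12.inv_mem (g : HQ).2.1) (g' : HQ).2.1)
    intro j hj
    obtain ⟨a, b, hab⟩ := nine_sub j hj
    have h2 := hsame ![a, b]
    have h3 : β ![a, b] = gUnidx j := by
      unfold β
      rw [← hab]
      rfl
    rw [h3] at h2
    rw [Equiv.Perm.mul_apply, ← h2]
    simp
  apply Subtype.ext
  apply Subtype.ext
  exact inv_mul_eq_one.mp h1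

theorem card_GL23 : Nat.card (GL (Fin 2) (ZMod 3)) = 48 := by
  rw [Matrix.card_GL_field]
  simp [Fin.prod_univ_two, ZMod.card]

/-- a group of order 432 mapping to the general linear group with kernel of order at most 9 -/
theorem of_hom {G : Type*} [Group G] [Finite G] (f : G →* GL (Fin 2) (ZMod 3))
    (hcard : Nat.card G = 432) (hker : Nat.card ↥f.ker ≤ 9) :
    ∃ (N : Subgroup G) (_ : N.Normal), Nat.card ↥N = 9 ∧
      Nonempty (G ⧸ N ≃* GL (Fin 2) (ZMod 3)) := by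
  have h1 := Subgroup.card_eq_card_quotient_mul_card_subgroup f.ker
  have h2 : Nat.card (G ⧸ f.ker) = Nat.card ↥f.range :=
    Nat.card_congr (QuotientGroup.quotientKerEquivRange f).toEquiv
  have h3 : Nat.card ↥f.range ≤ 48 := by
    rw [← card_GL23]
    exact Subgroup.card_le_card_group f.range
  rw [hcard, h2] at h1
  have hpos : 0 < Nat.card ↥f.ker := Nat.card_pos
  have h4 : Nat.card ↥f.range = 48 ∧ Nat.card ↥f.ker = 9 := by
    constructor <;> nlinarith
  have htop : f.range = ⊤ := by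
    apply Subgroup.eq_top_of_card_eq
    rw [h4.1, card_GL23]
  have hsurj : Function.Surjective f := MonoidHom.range_eq_top.mp htop
  exact ⟨f.ker, inferInstance, h4.2, ⟨QuotientGroup.quotientKerEquivOfSurjective f hsurj⟩⟩

theorem main (d : Finset GolayPt) (hd : d ∈ dodecads) (Q : Finset (Finset GolayPt))
    (hQ : Q ∈ quartets d) :
    Nat.card ↥(stabilizer M24 d ⊓ stabilizer M24 Q) = 432 ∧
    (∃ (N : Subgroup ↥(stabilizer M24 d ⊓ stabilizer M24 Q)) (_ : N.Normal), Nat.card N = 9 ∧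
      Nonempty (↥(stabilizer M24 d ⊓ stabilizer M24 Q) ⧸ N ≃* GL (Fin 2) (ZMod 3))) ∧
    ∀ p ∈ d, ∀ q ∈ d, ∃ g ∈ (stabilizer M24 d ⊓ stabilizer M24 Q),
      ((g : ↥M24) : Equiv.Perm GolayPt) p = q := by
  obtain ⟨τ, hτ, rfl, rfl⟩ := quartet_reach d hd Q hQ
  let ι : ↥(stabilizer M24 (τ • d₀fin) ⊓ stabilizer M24 (τ • q0fam)) →* P24 :=
    M24.subtype.comp (stabilizer M24 (τ • d₀fin) ⊓ stabilizer M24 (τ • q0fam)).subtype
  have hι : Function.Injective ι := by
    intro a b hab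
    apply Subtype.ext
    apply Subtype.ext
    exact hab
  have hmemHQ : ∀ g : P24, g ∈ HQ → τ * g * τ⁻¹ ∈ M24 ∧ (τ * g * τ⁻¹) • (τ • d₀fin) = τ • d₀fin ∧
      (τ * g * τ⁻¹) • (τ • q0fam) = τ • q0fam := by
    intro g hg
    refine ⟨M24.mul_mem (M24.mul_mem hτ hg.1.1) (M24.inv_mem hτ), conj_H12_smul hg.1, ?_⟩
    rw [mul_smul, mul_smul, inv_smul_smul, mem_stabilizer_iff.mp hg.2]
  have hrange : ι.range = HQ.map (MulAut.conj τ).toMonoidHom := by
    ext z
    rw [MonoidHom.mem_range, Subgroup.mem_map]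
    constructor
    · rintro ⟨c, rfl⟩
      have hcM : ι c ∈ M24 := (c : ↥M24).2
      have hc2 := Subgroup.mem_inf.mp c.2
      have hcd : ι c • (τ • d₀fin) = τ • d₀fin := mem_stabilizer_iff.mp hc2.1
      have hcq : ι c • (τ • q0fam) = τ • q0fam := mem_stabilizer_iff.mp hc2.2
      refine ⟨τ⁻¹ * ι c * τ, ⟨conj_mem_H12 hτ hcM hcd, ?_⟩, ?_⟩
      · show (τ⁻¹ * ι c * τ) • q0fam = q0fam
        rw [mul_smul, mul_smul, hcq, inv_smul_smul]
      · show τ * (τ⁻¹ * ι c * τ) * τ⁻¹ = ι c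
        group
    · rintro ⟨g, hg, rfl⟩
      obtain ⟨h1, h2, h3⟩ := hmemHQ g hg
      exact ⟨⟨⟨τ * g * τ⁻¹, h1⟩, Subgroup.mem_inf.mpr
        ⟨mem_stabilizer_iff.mpr h2, mem_stabilizer_iff.mpr h3⟩⟩, rfl⟩
  let e : ↥(stabilizer M24 (τ • d₀fin) ⊓ stabilizer M24 (τ • q0fam)) ≃* ↥HQ :=
    ((MonoidHom.ofInjective hι).trans (MulEquiv.subgroupCongr hrange)).trans
      (HQ.equivMapOfInjective _ (MulAut.conj τ).injective).symm
  have hcard : Nat.card ↥(stabilizer M24 (τ • d₀fin) ⊓ stabilizer M24 (τ • q0fam)) = 432 := by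
    rw [Nat.card_congr e.toEquiv, card_HQ]
  refine ⟨hcard, ?_, ?_⟩
  · apply of_hom (Ψ.comp e.toMonoidHom) hcard
    refine le_trans ?_ card_ker_le
    apply Nat.card_le_card_of_injective
      (fun x : ↥(Ψ.comp e.toMonoidHom).ker => (⟨e x.1, x.2⟩ : ↥Ψ.ker))
    intro x y hxy
    apply Subtype.ext
    exact e.injective (congrArg Subtype.val hxy)
  · intro p hp q hq
    rw [mem_smul_iff'] at hp hq
    obtain ⟨g, hg, hgp⟩ := trans_d₀ _ _ hp hq
    obtain ⟨h1, h2, h3⟩ := hmemHQ g hg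
    refine ⟨⟨τ * g * τ⁻¹, h1⟩, Subgroup.mem_inf.mpr
      ⟨mem_stabilizer_iff.mpr h2, mem_stabilizer_iff.mpr h3⟩, ?_⟩
    show (τ * g * τ⁻¹) p = q
    rw [Equiv.Perm.mul_apply, Equiv.Perm.mul_apply, hgp]
    simp

end

end Cfsg.Agent.Lib.Helper1.QuartStab
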