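import Mathlib
import Cfsg.Prelude.Def_Characters

set_option autoImplicit false

namespace Cfsg.Agent.Lib.Helper1

open scoped ComplexConjugate

section
variable {G : Type*} [Group G] {V : Type*} [AddCommGroup V] [Module ℂ V]

/-- In an irreducible representation with a nonzero vector fixed by the whole group,
every vector is a multiple of that vector. -/
theorem irr_fixed_vector_span (ρ : Representation ℂ G V) [ρ.IsIrreducible] (v : V) (hv : v ≠ 0)
    (hfix : ∀ g : G, ρ g v = v) : (ℂ ∙ v) = ⊤ := by
  let S : Subrepresentation ρ :=
    { toSubmodule := ℂ ∙ v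
      apply_mem_toSubmodule := by
        intro g w hw
        obtain ⟨c, rfl⟩ := Submodule.mem_span_singleton.1 hw
        rw [map_smul, hfix g]
        exact Submodule.smul_mem _ c (Submodule.mem_span_singleton_self v) }
  rcases eq_bot_or_eq_top S with h | h
  · exfalso
    have h1 : v ∈ S.toSubmodule := Submodule.mem_span_singleton_self v
    rw [h] at h1
    exact hv ((Submodule.mem_bot ℂ).1 h1)
  · have := congrArg Subrepresentation.toSubmodule h
    exact this

/-- In an irreducible representation with a nonzero vector fixed by the whole group,
the group acts trivially. -/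
theorem irr_fixed_vector_trivial (ρ : Representation ℂ G V) [ρ.IsIrreducible] (v : V) (hv : v ≠ 0)
    (hfix : ∀ g : G, ρ g v = v) (g : G) : ρ g = LinearMap.id := by
  have hspan := irr_fixed_vector_span ρ v hv hfix
  ext w
  have hw : w ∈ (ℂ ∙ v) := hspan ▸ Submodule.mem_top
  obtain ⟨c, rfl⟩ := Submodule.mem_span_singleton.1 hw
  rw [map_smul, hfix g, LinearMap.id_apply]

/-- An irreducible representation with a nonzero fixed vector has the trivial character. -/
theorem irr_fixed_vector_character [FiniteDimensional ℂ V]
    (ρ : Representation ℂ G V) [ρ.IsIrreducible] (v : V) (hv : v ≠ 0)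
    (hfix : ∀ g : G, ρ g v = v) : ρ.character = fun _ => 1 := by
  funext g
  unfold Representation.character
  rw [irr_fixed_vector_trivial ρ v hv hfix g]
  have h1 : Module.finrank ℂ V = 1 := by
    rw [← finrank_top ℂ V, ← irr_fixed_vector_span ρ v hv hfix]
    exact finrank_span_singleton hv
  have : LinearMap.trace ℂ V (LinearMap.id) = (Module.finrank ℂ V : ℂ) := LinearMap.trace_id ℂ V
  rw [this, h1]
  simp

/-- The multiplicity of the trivial character in the restriction of a character to a subgroup
is the dimension of the space of invariants of the subgroup. -/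
theorem classInner_restrict_one [FiniteDimensional ℂ V]
    (ρ : Representation ℂ G V) (H : Subgroup G) [Fintype H] :
    Cfsg.classInner (fun x : H => ρ.character x) (fun _ => 1)
      = (Module.finrank ℂ (Representation.invariants (ρ.comp H.subtype)) : ℂ) := by
  have hH0 : (Nat.card H : ℂ) ≠ 0 := Nat.cast_ne_zero.mpr Nat.card_pos.ne'
  have : Invertible (Nat.card H : ℂ) := invertibleOfNonzero hH0
  rw [← Representation.card_inv_mul_sum_char_eq_finrank (ρ.comp H.subtype)]
  unfold Cfsg.classInner
  congr 1
  refine Finset.sum_congr rfl fun h _ => ?_
  simp only [map_one, mul_one]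
  rfl

end

end Cfsg.Agent.Lib.Helper1
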