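import Mathlib
import Cfsg.Agent.Lib.Helper1.GraphRef3
import Cfsg.Agent.Lib.Helper1.RuD1
import Cfsg.Agent.Lib.Helper1.RuD3

set_option autoImplicit false
set_option maxRecDepth 100000

/-! The Rudvalis group on 4060 points: the two generating permutations and the checks that they preserve the relation. -/

namespace Cfsg.Agent.Lib.Helper1.Ru

open Cfsg.Agent.Lib.Helper1 Cfsg.Agent.Lib.Helper1.GraphRef

theorem chk_permX : chkPerm 4060 (DR.pi 0) (DR.pi 2) = true := by decide +kernel

theorem chk_permY : chkPerm 4060 (DR.pi 1) (DR.pi 3) = true := by decide +kernel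

theorem chk_unitX : chkUnit NETX (DR.pi 0) 4060 = true := by decide +kernel

theorem chk_unitY : chkUnit NETY (DR.pi 1) 4060 = true := by decide +kernel

theorem chk_netX : chkNet NETX row (DR.pi 0) 4060 = true := by decide +kernel

theorem chk_netY : chkNet NETY row (DR.pi 1) 4060 = true := by decide +kernel

end Cfsg.Agent.Lib.Helper1.Ru
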