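import Mathlib
import Cfsg.Agent.Lib.Helper1.GraphRef3
import Cfsg.Agent.Lib.Helper1.RuD1
import Cfsg.Agent.Lib.Helper1.RuD2

set_option autoImplicit false
set_option maxRecDepth 100000

/-! The Rudvalis group on 4060 points: the checks of the colourings. -/

namespace Cfsg.Agent.Lib.Helper1.Ru

open Cfsg.Agent.Lib.Helper1 Cfsg.Agent.Lib.Helper1.GraphRef

theorem chk_keys1_0 : chkKeys (keyFix col0 0) col1 tab1 2 0 4060 = true := by decide +kernel

theorem chk_inc1 : chkInc tab1 2 = true := by decide +kernel

theorem keys1 : ∀ v < 4060, col1 v < 2 ∧ keyFix col0 0 v = tab1 (col1 v) := by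
  intro v hv
  exact chkKeys_spec chk_keys1_0 v (Nat.zero_le _) (by omega)

theorem chk_ml2 : ML2 = (List.range 4060).filter fun w => col1 w == col1 0 := by decide +kernel

theorem chk_keys2_0 : chkKeys (keyPiv row col1 ML2) col2 tab2 3 0 4060 = true := by decide +kernel

theorem chk_inc2 : chkInc tab2 3 = true := by decide +kernel

theorem keys2 : ∀ v < 4060, col2 v < 3 ∧ keyPiv row col1 ML2 v = tab2 (col2 v) := by
  intro v hv
  exact chkKeys_spec chk_keys2_0 v (Nat.zero_le _) (by omega)

theorem chk_keys3_0 : chkKeys (keyFix col2 1) col3 tab3 4 0 4060 = true := by decide +kernel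

theorem chk_inc3 : chkInc tab3 4 = true := by decide +kernel

theorem keys3 : ∀ v < 4060, col3 v < 4 ∧ keyFix col2 1 v = tab3 (col3 v) := by
  intro v hv
  exact chkKeys_spec chk_keys3_0 v (Nat.zero_le _) (by omega)

theorem chk_ml4 : ML4 = (List.range 4060).filter fun w => col3 w == col3 1 := by decide +kernel

theorem chk_keys4_0 : chkKeys (keyPiv row col3 ML4) col4 tab4 6 0 4060 = true := by decide +kernel

theorem chk_inc4 : chkInc tab4 6 = true := by decide +kernel

theorem keys4 : ∀ v < 4060, col4 v < 6 ∧ keyPiv row col3 ML4 v = tab4 (col4 v) := by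
  intro v hv
  exact chkKeys_spec chk_keys4_0 v (Nat.zero_le _) (by omega)

theorem chk_keys5_0 : chkKeys (keyFix col4 2) col5 tab5 7 0 4060 = true := by decide +kernel

theorem chk_inc5 : chkInc tab5 7 = true := by decide +kernel

theorem keys5 : ∀ v < 4060, col5 v < 7 ∧ keyFix col4 2 v = tab5 (col5 v) := by
  intro v hv
  exact chkKeys_spec chk_keys5_0 v (Nat.zero_le _) (by omega)

theorem chk_ml6 : ML6 = (List.range 4060).filter fun w => col5 w == col5 2 := by decide +kernel

theorem chk_keys6_0 : chkKeys (keyPiv row col5 ML6) col6 tab6 11 0 4060 = true := by decide +kernel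

theorem chk_inc6 : chkInc tab6 11 = true := by decide +kernel

theorem keys6 : ∀ v < 4060, col6 v < 11 ∧ keyPiv row col5 ML6 v = tab6 (col6 v) := by
  intro v hv
  exact chkKeys_spec chk_keys6_0 v (Nat.zero_le _) (by omega)

theorem chk_ml7 : ML7 = (List.range 4060).filter fun w => col6 w == col6 4 := by decide +kernel

theorem chk_keys7_0 : chkKeys (keyPiv row col6 ML7) col7 tab7 31 0 812 = true := by decide +kernel

theorem chk_keys7_1 : chkKeys (keyPiv row col6 ML7) col7 tab7 31 812 812 = true := by decide +kernel

theorem chk_keys7_2 : chkKeys (keyPiv row col6 ML7) col7 tab7 31 1624 812 = true := by decide +kernel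

theorem chk_keys7_3 : chkKeys (keyPiv row col6 ML7) col7 tab7 31 2436 812 = true := by decide +kernel

theorem chk_keys7_4 : chkKeys (keyPiv row col6 ML7) col7 tab7 31 3248 812 = true := by decide +kernel

theorem chk_inc7 : chkInc tab7 31 = true := by decide +kernel

theorem keys7 : ∀ v < 4060, col7 v < 31 ∧ keyPiv row col6 ML7 v = tab7 (col7 v) := by
  intro v hv
  by_cases h0 : v < 812
  · exact chkKeys_spec chk_keys7_0 v (by omega) (by omega)
  by_cases h1 : v < 1624
  · exact chkKeys_spec chk_keys7_1 v (by omega) (by omega)
  by_cases h2 : v < 2436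
  · exact chkKeys_spec chk_keys7_2 v (by omega) (by omega)
  by_cases h3 : v < 3248
  · exact chkKeys_spec chk_keys7_3 v (by omega) (by omega)
  exact chkKeys_spec chk_keys7_4 v (by omega) (by omega)

theorem chk_ml8 : ML8 = (List.range 4060).filter fun w => col7 w == col7 37 := by decide +kernel

theorem chk_keys8_0 : chkKeys (keyPiv row col7 ML8) col8 tab8 67 0 4060 = true := by decide +kernel

theorem chk_inc8 : chkInc tab8 67 = true := by decide +kernel

theorem keys8 : ∀ v < 4060, col8 v < 67 ∧ keyPiv row col7 ML8 v = tab8 (col8 v) := by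
  intro v hv
  exact chkKeys_spec chk_keys8_0 v (Nat.zero_le _) (by omega)

theorem chk_ml9 : ML9 = (List.range 4060).filter fun w => col8 w == col8 1050 := by decide +kernel

theorem chk_keys9_0 : chkKeys (keyPiv row col8 ML9) col9 tab9 91 0 4060 = true := by decide +kernel

theorem chk_inc9 : chkInc tab9 91 = true := by decide +kernel

theorem keys9 : ∀ v < 4060, col9 v < 91 ∧ keyPiv row col8 ML9 v = tab9 (col9 v) := by
  intro v hv
  exact chkKeys_spec chk_keys9_0 v (Nat.zero_le _) (by omega)

theorem chk_ml10 : ML10 = (List.range 4060).filter fun w => col9 w == col9 11 := by decide +kernel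

theorem chk_keys10_0 : chkKeys (keyPiv row col9 ML10) col10 tab10 180 0 4060 = true := by decide +kernel

theorem chk_inc10 : chkInc tab10 180 = true := by decide +kernel

theorem keys10 : ∀ v < 4060, col10 v < 180 ∧ keyPiv row col9 ML10 v = tab10 (col10 v) := by
  intro v hv
  exact chkKeys_spec chk_keys10_0 v (Nat.zero_le _) (by omega)

theorem chk_keys11_0 : chkKeys (keyFix col10 7) col11 tab11 181 0 4060 = true := by decide +kernel

theorem chk_inc11 : chkInc tab11 181 = true := by decide +kernel

theorem keys11 : ∀ v < 4060, col11 v < 181 ∧ keyFix col10 7 v = tab11 (col11 v) := by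
  intro v hv
  exact chkKeys_spec chk_keys11_0 v (Nat.zero_le _) (by omega)

theorem chk_ml12 : ML12 = (List.range 4060).filter fun w => col11 w == col11 7 := by decide +kernel

theorem chk_keys12_0 : chkKeys (keyPiv row col11 ML12) col12 tab12 357 0 4060 = true := by decide +kernel

theorem chk_inc12 : chkInc tab12 357 = true := by decide +kernel

theorem keys12 : ∀ v < 4060, col12 v < 357 ∧ keyPiv row col11 ML12 v = tab12 (col12 v) := by
  intro v hv
  exact chkKeys_spec chk_keys12_0 v (Nat.zero_le _) (by omega)

theorem chk_ml13 : ML13 = (List.range 4060).filter fun w => col12 w == col12 3342 := by decide +kernel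

theorem chk_keys13_0 : chkKeys (keyPiv row col12 ML13) col13 tab13 650 0 4060 = true := by decide +kernel

theorem chk_inc13 : chkInc tab13 650 = true := by decide +kernel

theorem keys13 : ∀ v < 4060, col13 v < 650 ∧ keyPiv row col12 ML13 v = tab13 (col13 v) := by
  intro v hv
  exact chkKeys_spec chk_keys13_0 v (Nat.zero_le _) (by omega)

theorem chk_ml14 : ML14 = (List.range 4060).filter fun w => col13 w == col13 1108 := by decide +kernel

theorem chk_keys14_0 : chkKeys (keyPiv row col13 ML14) col14 tab14 1178 0 4060 = true := by decide +kernel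

theorem chk_inc14 : chkInc tab14 1178 = true := by decide +kernel

theorem keys14 : ∀ v < 4060, col14 v < 1178 ∧ keyPiv row col13 ML14 v = tab14 (col14 v) := by
  intro v hv
  exact chkKeys_spec chk_keys14_0 v (Nat.zero_le _) (by omega)

theorem chk_ml15 : ML15 = (List.range 4060).filter fun w => col14 w == col14 778 := by decide +kernel

theorem chk_keys15_0 : chkKeys (keyPiv row col14 ML15) col15 tab15 1869 0 4060 = true := by decide +kernel

theorem chk_inc15 : chkInc tab15 1869 = true := by decide +kernel

theorem keys15 : ∀ v < 4060, col15 v < 1869 ∧ keyPiv row col14 ML15 v = tab15 (col15 v) := by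
  intro v hv
  exact chkKeys_spec chk_keys15_0 v (Nat.zero_le _) (by omega)

theorem chk_ml16 : ML16 = (List.range 4060).filter fun w => col15 w == col15 2533 := by decide +kernel

theorem chk_keys16_0 : chkKeys (keyPiv row col15 ML16) col16 tab16 2583 0 4060 = true := by decide +kernel

theorem chk_inc16 : chkInc tab16 2583 = true := by decide +kernel

theorem keys16 : ∀ v < 4060, col16 v < 2583 ∧ keyPiv row col15 ML16 v = tab16 (col16 v) := by
  intro v hv
  exact chkKeys_spec chk_keys16_0 v (Nat.zero_le _) (by omega)

theorem chk_ml17 : ML17 = (List.range 4060).filter fun w => col16 w == col16 320 := by decide +kernel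

theorem chk_keys17_0 : chkKeys (keyPiv row col16 ML17) col17 tab17 3182 0 4060 = true := by decide +kernel

theorem chk_inc17 : chkInc tab17 3182 = true := by decide +kernel

theorem keys17 : ∀ v < 4060, col17 v < 3182 ∧ keyPiv row col16 ML17 v = tab17 (col17 v) := by
  intro v hv
  exact chkKeys_spec chk_keys17_0 v (Nat.zero_le _) (by omega)

theorem chk_ml18 : ML18 = (List.range 4060).filter fun w => col17 w == col17 3751 := by decide +kernel

theorem chk_keys18_0 : chkKeys (keyPiv row col17 ML18) col18 tab18 3590 0 4060 = true := by decide +kernel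

theorem chk_inc18 : chkInc tab18 3590 = true := by decide +kernel

theorem keys18 : ∀ v < 4060, col18 v < 3590 ∧ keyPiv row col17 ML18 v = tab18 (col18 v) := by
  intro v hv
  exact chkKeys_spec chk_keys18_0 v (Nat.zero_le _) (by omega)

theorem chk_ml19 : ML19 = (List.range 4060).filter fun w => col18 w == col18 1629 := by decide +kernel

theorem chk_keys19_0 : chkKeys (keyPiv row col18 ML19) col19 tab19 3834 0 4060 = true := by decide +kernel

theorem chk_inc19 : chkInc tab19 3834 = true := by decide +kernel

theorem keys19 : ∀ v < 4060, col19 v < 3834 ∧ keyPiv row col18 ML19 v = tab19 (col19 v) := by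
  intro v hv
  exact chkKeys_spec chk_keys19_0 v (Nat.zero_le _) (by omega)

theorem chk_ml20 : ML20 = (List.range 4060).filter fun w => col19 w == col19 194 := by decide +kernel

theorem chk_keys20_0 : chkKeys (keyPiv row col19 ML20) col20 tab20 3965 0 4060 = true := by decide +kernel

theorem chk_inc20 : chkInc tab20 3965 = true := by decide +kernel

theorem keys20 : ∀ v < 4060, col20 v < 3965 ∧ keyPiv row col19 ML20 v = tab20 (col20 v) := by
  intro v hv
  exact chkKeys_spec chk_keys20_0 v (Nat.zero_le _) (by omega)

theorem chk_ml21 : ML21 = (List.range 4060).filter fun w => col20 w == col20 2685 := by decide +kernel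

theorem chk_keys21_0 : chkKeys (keyPiv row col20 ML21) col21 tab21 4027 0 4060 = true := by decide +kernel

theorem chk_inc21 : chkInc tab21 4027 = true := by decide +kernel

theorem keys21 : ∀ v < 4060, col21 v < 4027 ∧ keyPiv row col20 ML21 v = tab21 (col21 v) := by
  intro v hv
  exact chkKeys_spec chk_keys21_0 v (Nat.zero_le _) (by omega)

theorem chk_ml22 : ML22 = (List.range 4060).filter fun w => col21 w == col21 2340 := by decide +kernel

theorem chk_keys22_0 : chkKeys (keyPiv row col21 ML22) col22 tab22 4054 0 4060 = true := by decide +kernel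

theorem chk_inc22 : chkInc tab22 4054 = true := by decide +kernel

theorem keys22 : ∀ v < 4060, col22 v < 4054 ∧ keyPiv row col21 ML22 v = tab22 (col22 v) := by
  intro v hv
  exact chkKeys_spec chk_keys22_0 v (Nat.zero_le _) (by omega)

theorem chk_ml23 : ML23 = (List.range 4060).filter fun w => col22 w == col22 22 := by decide +kernel

theorem chk_keys23_0 : chkKeys (keyPiv row col22 ML23) col23 tab23 4060 0 4060 = true := by decide +kernel

theorem chk_inc23 : chkInc tab23 4060 = true := by decide +kernel

theorem keys23 : ∀ v < 4060, col23 v < 4060 ∧ keyPiv row col22 ML23 v = tab23 (col23 v) := by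
  intro v hv
  exact chkKeys_spec chk_keys23_0 v (Nat.zero_le _) (by omega)

theorem chk_cnt2 : ((List.range 4060).countP fun v => col2 v == col2 1) = 2304 := by decide +kernel

theorem chk_cnt4 : ((List.range 4060).countP fun v => col4 v == col4 2) = 975 := by decide +kernel

theorem chk_cnt10 : ((List.range 4060).countP fun v => col10 v == col10 7) = 16 := by decide +kernel

theorem chk_discrete : chkDiscrete 4060 col23 itab = true := by decide +kernel

end Cfsg.Agent.Lib.Helper1.Ru
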