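import Mathlib
import Cfsg.Agent.Lib.Helper1.GraphRef3
import Cfsg.Agent.Lib.Helper1.RuD1
import Cfsg.Agent.Lib.Helper1.RuD4

set_option autoImplicit false
set_option maxRecDepth 100000

/-! The Rudvalis group on 4060 points: the checks of the labelled action, of the trees of the orbits of the stabilizers, and of the orbits of the stabilizer of a point. -/

namespace Cfsg.Agent.Lib.Helper1.Ru

open Cfsg.Agent.Lib.Helper1 Cfsg.Agent.Lib.Helper1.GraphRef

theorem chk_structR : DR.chkStruct = true := by decide +kernel

theorem chk_fix1 : chkFixW DR WL1 [0] = true := by decide +kernel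

theorem chk_fix2 : chkFixW DR WL2 [0, 1] = true := by decide +kernel

theorem chk_fix3 : chkFixW DR WL3 [0, 1, 2] = true := by decide +kernel

theorem chk_tree1 : chkTree DR WL1 2304 tT1 tPos1 tPar1 = true := by decide +kernel

theorem chk_tree2 : chkTree DR WL2 975 tT2 tPos2 tPar2 = true := by decide +kernel

theorem chk_tree3 : chkTree DR WL3 16 tT3 tPos3 tPar3 = true := by decide +kernel

theorem chk_T0 : tT1 0 = 1 ∧ tT2 0 = 2 ∧ tT3 0 = 7 := by decide +kernel

theorem chk_SOR : SubOrb.chk DR SOR = true := by decide +kernel

theorem arith_SOR : SubOrb.arith DR SOR = true := by decide +kernel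

theorem chk_pow : ((List.range 4060).all fun j => DR.actW (List.replicate 29 0) j == j) = true ∧
    ((List.range 4060).all fun j => DR.actW (List.replicate 29 1) j == j) = true := by
  decide +kernel

end Cfsg.Agent.Lib.Helper1.Ru
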