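import Mathlib
import Cfsg.Agent.Lib.Helper1.GraphRef3
import Cfsg.Agent.Lib.Helper1.RuD1
import Cfsg.Agent.Lib.Helper1.RuD5
import Cfsg.Agent.Lib.Helper1.TitsD5

set_option autoImplicit false
set_option maxRecDepth 100000

/-! The Rudvalis group on 4060 points: the checks for the subgroup isomorphic to the Tits group. -/

namespace Cfsg.Agent.Lib.Helper1.Ru

open Cfsg.Agent.Lib.Helper1 Cfsg.Agent.Lib.Helper1.GraphRef Cfsg.Agent.Lib.Helper1.Tits

/-- the colour of a point: its place among the 1755 points, or 0 -/
def cN (v : ℕ) : ℕ :=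
  cond (Nat.beq v 0) 1 (cond (Nat.testBit (row 0) v) (Nat.add (tPosN v) 2) 0)

/-- the relations of a point to the points of a list, as the bits of a number -/
def adjBits (row : ℕ → ℕ) (Z : List ℕ) (s v : ℕ) : ℕ :=
  List.foldl (fun s z => Nat.add (Nat.mul 2 s) (bitN (row v) z)) s Z

def keyN (v : ℕ) : ℕ := adjBits row ZL (cN v) v

theorem chk_nu : ((List.range 1755).all fun i => decide (tNu i < 4060) &&
    Nat.testBit (row 0) (tNu i) && (tPosN (tNu i) == i)) = true := by decide +kernel

theorem chk_n0 : ((List.range 4060).all fun v => !(Nat.testBit (row 0) v) ||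
    (decide (tPosN v < 1755) && (tNu (tPosN v) == v))) = true := by decide +kernel

theorem chk_row0 : Nat.testBit (row 0) 0 = false := by decide +kernel

theorem chk_fixAB : chkFixW DR [WA, WB] [0] = true := by decide +kernel

theorem chk_eqA : ((List.range 1755).all fun i => DR.actW WA (tNu i) == tNu (DX.pi 0 i)) = true := by
  decide +kernel

theorem chk_eqB : ((List.range 1755).all fun i => DR.actW WB (tNu i) == tNu (DX.pi 1 i)) = true := by
  decide +kernel

theorem chk_Z : (ZL.all fun z => decide (z < 4060) && Nat.testBit (row 0) z) = true := by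
  decide +kernel

theorem chk_keysN : chkKeys keyN colN tabN 4060 0 4060 = true := by decide +kernel

theorem chk_incN : chkInc tabN 4060 = true := by decide +kernel

theorem chk_discreteN : chkDiscrete 4060 colN itabN = true := by decide +kernel

end Cfsg.Agent.Lib.Helper1.Ru
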