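import Mathlib
import Cfsg.Agent.Lib.Helper1.RuC1
import Cfsg.Agent.Lib.Helper1.RuC2
import Cfsg.Agent.Lib.Helper1.RuC3

set_option autoImplicit false
set_option maxRecDepth 100000

/-!
# The Rudvalis group on 4060 points: the order

The group `RuH` generated by two permutations of 4060 points, inside the group `RuA` of the
permutations preserving a relation. The order of `RuA` is bounded by invariant colourings along a
chain of four stabilizers, the order of `RuH` from below by the orbits of explicit elements of its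
stabilizers.
-/

namespace Cfsg.Agent.Lib.Helper1.Ru

open Cfsg.Agent.Lib.Helper1 Cfsg.Agent.Lib.Helper1.GraphRef Cfsg.Agent.Lib.Helper1.MatCode
  Cfsg.Agent.Lib.Helper1.Stem Cfsg.Agent.Lib.Helper1.StemSA

abbrev P4060 : Type := Equiv.Perm (Fin 4060)

theorem hn4060 : 0 < 4060 := by norm_num

/-- the point with a given index -/
def ptR (j : ℕ) : Fin 4060 := pt hn4060 j

def b1 : Fin 4060 := ⟨0, by norm_num⟩
def b2 : Fin 4060 := ⟨1, by norm_num⟩
def b3 : Fin 4060 := ⟨2, by norm_num⟩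
def b4 : Fin 4060 := ⟨7, by norm_num⟩

theorem ptR_0 : ptR 0 = b1 := rfl
theorem ptR_1 : ptR 1 = b2 := rfl
theorem ptR_2 : ptR 2 = b3 := rfl
theorem ptR_7 : ptR 7 = b4 := rfl

/-- the two generating permutations -/
def xP : P4060 := tabPerm (DR.pi 0) (DR.pi 2) chk_permX
def yP : P4060 := tabPerm (DR.pi 1) (DR.pi 3) chk_permY

def gsP : List P4060 := [xP, yP, xP⁻¹, yP⁻¹]

/-- the permutations preserving the relation -/
def RuA : Subgroup P4060 := autGroup 4060 (relRow row)

/-- the group generated by the two permutations -/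
def RuH : Subgroup P4060 := Subgroup.closure {xP, yP}

theorem xP_mem_A : xP ∈ RuA := tabPerm_mem_of_net chk_permX chk_unitX chk_netX

theorem yP_mem_A : yP ∈ RuA := tabPerm_mem_of_net chk_permY chk_unitY chk_netY

theorem H_le_A : RuH ≤ RuA := by
  rw [RuH, Subgroup.closure_le]
  rintro g (rfl | rfl)
  · exact xP_mem_A
  · exact yP_mem_A

theorem piR_lt (i j : ℕ) (hi : i < 4) (hj : j < 4060) : DR.pi i j < 4060 :=
  pi_lt DR chk_structR i j hi hj

theorem pi_actP : ∀ i < DR.k, ∀ j < DR.m, gsP.getD i 1 • ptR j = ptR (DR.pi i j) := by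
  intro i hi j hj
  have hi' : i < 4 := hi
  have hj' : j < 4060 := hj
  have e1 : (ptR j).val = j := pt_val hn4060 hj'
  have e2 : (ptR (DR.pi i j)).val = DR.pi i j := pt_val hn4060 (piR_lt i j hi' hj')
  apply Fin.ext
  rw [e2]
  interval_cases i
  · show (xP (ptR j)).val = _
    rw [xP, tabPerm_apply, e1]
  · show (yP (ptR j)).val = _
    rw [yP, tabPerm_apply, e1]
  · show (xP⁻¹ (ptR j)).val = _
    rw [xP, tabPerm_inv_apply, e1]
  · show (yP⁻¹ (ptR j)).val = _
    rw [yP, tabPerm_inv_apply, e1]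

theorem ptR_inj : ∀ j < DR.m, ∀ j' < DR.m, ptR j = ptR j' → j = j' :=
  fun j hj j' hj' h => pt_inj hn4060 j hj j' hj' h

/-! ### The bound for the order of `RuA` -/

def A1 : Subgroup P4060 := RuA ⊓ MulAction.stabilizer P4060 b1
def A2 : Subgroup P4060 := A1 ⊓ MulAction.stabilizer P4060 b2
def A3 : Subgroup P4060 := A2 ⊓ MulAction.stabilizer P4060 b3
def A4 : Subgroup P4060 := A3 ⊓ MulAction.stabilizer P4060 b4

theorem A1_le : A1 ≤ RuA := inf_le_left
theorem A2_le : A2 ≤ RuA := inf_le_left.trans A1_le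
theorem A3_le : A3 ≤ RuA := inf_le_left.trans A2_le
theorem A4_le : A4 ≤ RuA := inf_le_left.trans A3_le

theorem inv0 : Inv RuA col0 := inv_const RuA 0

theorem inv1 : Inv A1 col1 := step_fix inv0 b1 keys1 chk_inc1

theorem inv2 : Inv A1 col2 := step_piv A1_le inv1 0 ML2 chk_ml2 keys2 chk_inc2

theorem inv3 : Inv A2 col3 := step_fix inv2 b2 keys3 chk_inc3

theorem inv4 : Inv A2 col4 := step_piv A2_le inv3 1 ML4 chk_ml4 keys4 chk_inc4

theorem inv5 : Inv A3 col5 := step_fix inv4 b3 keys5 chk_inc5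

theorem inv6 : Inv A3 col6 := step_piv A3_le inv5 2 ML6 chk_ml6 keys6 chk_inc6

theorem inv7 : Inv A3 col7 := step_piv A3_le inv6 4 ML7 chk_ml7 keys7 chk_inc7

theorem inv8 : Inv A3 col8 := step_piv A3_le inv7 37 ML8 chk_ml8 keys8 chk_inc8

theorem inv9 : Inv A3 col9 := step_piv A3_le inv8 1050 ML9 chk_ml9 keys9 chk_inc9

theorem inv10 : Inv A3 col10 := step_piv A3_le inv9 11 ML10 chk_ml10 keys10 chk_inc10

theorem inv11 : Inv A4 col11 := step_fix inv10 b4 keys11 chk_inc11

theorem inv12 : Inv A4 col12 := step_piv A4_le inv11 7 ML12 chk_ml12 keys12 chk_inc12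

theorem inv13 : Inv A4 col13 := step_piv A4_le inv12 3342 ML13 chk_ml13 keys13 chk_inc13

theorem inv14 : Inv A4 col14 := step_piv A4_le inv13 1108 ML14 chk_ml14 keys14 chk_inc14

theorem inv15 : Inv A4 col15 := step_piv A4_le inv14 778 ML15 chk_ml15 keys15 chk_inc15

theorem inv16 : Inv A4 col16 := step_piv A4_le inv15 2533 ML16 chk_ml16 keys16 chk_inc16

theorem inv17 : Inv A4 col17 := step_piv A4_le inv16 320 ML17 chk_ml17 keys17 chk_inc17

theorem inv18 : Inv A4 col18 := step_piv A4_le inv17 3751 ML18 chk_ml18 keys18 chk_inc18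

theorem inv19 : Inv A4 col19 := step_piv A4_le inv18 1629 ML19 chk_ml19 keys19 chk_inc19

theorem inv20 : Inv A4 col20 := step_piv A4_le inv19 194 ML20 chk_ml20 keys20 chk_inc20

theorem inv21 : Inv A4 col21 := step_piv A4_le inv20 2685 ML21 chk_ml21 keys21 chk_inc21

theorem inv22 : Inv A4 col22 := step_piv A4_le inv21 2340 ML22 chk_ml22 keys22 chk_inc22

theorem inv23 : Inv A4 col23 := step_piv A4_le inv22 22 ML23 chk_ml23 keys23 chk_inc23

theorem A4_eq_bot : A4 = ⊥ := eq_bot_of_discrete inv23 chk_discrete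

theorem card_A_le : Nat.card ↥RuA ≤ 145926144000 := by
  have c1 := card_chain RuA b1
  have c2 := card_chain A1 b2
  have c3 := card_chain A2 b3
  have c4 := card_chain A3 b4
  have e4 : Nat.card ↥(A3 ⊓ MulAction.stabilizer P4060 b4) = 1 := by
    have : A3 ⊓ MulAction.stabilizer P4060 b4 = ⊥ := A4_eq_bot
    rw [this]
    exact Subgroup.card_bot
  have o1 : (MulAction.orbit ↥RuA b1).ncard ≤ 4060 := by
    have := Set.ncard_le_card (MulAction.orbit ↥RuA b1)
    rwa [Nat.card_eq_fintype_card, Fintype.card_fin] at this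
  have o2 : (MulAction.orbit ↥A1 b2).ncard ≤ 2304 := by
    have := orbit_le inv2 b2
    rwa [show ((List.range 4060).countP fun v => col2 v == col2 b2.val) = 2304 from chk_cnt2] at this
  have o3 : (MulAction.orbit ↥A2 b3).ncard ≤ 975 := by
    have := orbit_le inv4 b3
    rwa [show ((List.range 4060).countP fun v => col4 v == col4 b3.val) = 975 from chk_cnt4] at this
  have o4 : (MulAction.orbit ↥A3 b4).ncard ≤ 16 := by
    have := orbit_le inv10 b4
    rwa [show ((List.range 4060).countP fun v => col10 v == col10 b4.val) = 16 from chk_cnt10] at this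
  rw [e4, one_mul] at c4
  have d1 : Nat.card ↥A1 = Nat.card ↥(RuA ⊓ MulAction.stabilizer P4060 b1) := rfl
  have d2 : Nat.card ↥A2 = Nat.card ↥(A1 ⊓ MulAction.stabilizer P4060 b2) := rfl
  have d3 : Nat.card ↥A3 = Nat.card ↥(A2 ⊓ MulAction.stabilizer P4060 b3) := rfl
  rw [← d1] at c1
  rw [← d2] at c2
  rw [← d3] at c3
  rw [← c1, ← c2, ← c3, ← c4]
  calc (MulAction.orbit ↥A3 b4).ncard * (MulAction.orbit ↥A2 b3).ncard *
        (MulAction.orbit ↥A1 b2).ncard * (MulAction.orbit ↥RuA b1).ncard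
      ≤ 16 * 975 * 2304 * 4060 :=
        Nat.mul_le_mul (Nat.mul_le_mul (Nat.mul_le_mul o4 o3) o2) o1
    _ = 145926144000 := by norm_num

/-! ### The bound for the order of `RuH` -/

def H1 : Subgroup P4060 := RuH ⊓ MulAction.stabilizer P4060 b1
def H2 : Subgroup P4060 := H1 ⊓ MulAction.stabilizer P4060 b2
def H3 : Subgroup P4060 := H2 ⊓ MulAction.stabilizer P4060 b3

theorem gsP_mem (i : ℕ) : gsP.getD i 1 ∈ RuH := by
  have hx : xP ∈ RuH := Subgroup.subset_closure (Or.inl rfl)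
  have hy : yP ∈ RuH := Subgroup.subset_closure (Or.inr rfl)
  rcases i with _ | _ | _ | _ | i
  · exact hx
  · exact hy
  · exact RuH.inv_mem hx
  · exact RuH.inv_mem hy
  · exact RuH.one_mem

theorem wordProd_mem (w : List ℕ) : wordProd gsP w ∈ RuH := by
  induction w with
  | nil => rw [wordProd_nil]; exact RuH.one_mem
  | cons i w ih => rw [wordProd_cons]; exact RuH.mul_mem (gsP_mem i) ih

theorem wordProd_fix (w : List ℕ) (hw : ∀ i ∈ w, i < DR.k) (b : ℕ) (hb : b < 4060)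
    (h : DR.actW w b = b) : wordProd gsP w ∈ MulAction.stabilizer P4060 (ptR b) := by
  rw [MulAction.mem_stabilizer_iff]
  have := (StemZB.smul_wordProd DR chk_structR ptR gsP pi_actP w hw b hb).2
  rw [this, h]

theorem fixW_spec {W : List (List ℕ)} {bs : List ℕ} (h : chkFixW DR W bs = true) :
    ∀ w ∈ W, (∀ i ∈ w, i < DR.k) ∧ ∀ b ∈ bs, DR.actW w b = b := by
  intro w hw
  rw [chkFixW, List.all_eq_true] at h
  have := h w hw
  rw [Bool.and_eq_true, List.all_eq_true, List.all_eq_true] at this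
  exact ⟨fun i hi => of_decide_eq_true (this.1 i hi), fun b hb => beq_iff_eq.mp (this.2 b hb)⟩

theorem hW1 : ∀ w ∈ WL1, (∀ i ∈ w, i < DR.k) ∧ wordProd gsP w ∈ H1 := by
  intro w hw
  obtain ⟨h1, h2⟩ := fixW_spec chk_fix1 w hw
  exact ⟨h1, Subgroup.mem_inf.mpr ⟨wordProd_mem w,
    wordProd_fix w h1 0 (by norm_num) (h2 0 (by simp))⟩⟩

theorem hW2 : ∀ w ∈ WL2, (∀ i ∈ w, i < DR.k) ∧ wordProd gsP w ∈ H2 := by
  intro w hw
  obtain ⟨h1, h2⟩ := fixW_spec chk_fix2 w hw
  exact ⟨h1, Subgroup.mem_inf.mpr ⟨Subgroup.mem_inf.mpr ⟨wordProd_mem w,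
    wordProd_fix w h1 0 (by norm_num) (h2 0 (by simp))⟩,
    wordProd_fix w h1 1 (by norm_num) (h2 1 (by simp))⟩⟩

theorem hW3 : ∀ w ∈ WL3, (∀ i ∈ w, i < DR.k) ∧ wordProd gsP w ∈ H3 := by
  intro w hw
  obtain ⟨h1, h2⟩ := fixW_spec chk_fix3 w hw
  exact ⟨h1, Subgroup.mem_inf.mpr ⟨Subgroup.mem_inf.mpr ⟨Subgroup.mem_inf.mpr ⟨wordProd_mem w,
    wordProd_fix w h1 0 (by norm_num) (h2 0 (by simp))⟩,
    wordProd_fix w h1 1 (by norm_num) (h2 1 (by simp))⟩,
    wordProd_fix w h1 2 (by norm_num) (h2 2 (by simp))⟩⟩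

theorem closure_gsP_le : Subgroup.closure {g | ∃ i < DR.k, g = gsP.getD i 1} ≤ RuH := by
  rw [Subgroup.closure_le]
  rintro g ⟨i, _, rfl⟩
  exact gsP_mem i

theorem orbit_H_eq : MulAction.orbit ↥RuH b1 = Set.univ := by
  rw [Set.eq_univ_iff_forall]
  intro v
  obtain ⟨h, hh, hact⟩ := StemZB.exists_mem_closure_smul DR chk_structR ptR gsP pi_actP v.val v.isLt
  refine ⟨⟨h, closure_gsP_le hh⟩, ?_⟩
  show h • b1 = v
  rw [← ptR_0, hact]
  exact pt_self hn4060 v

theorem card_H_ge : 145926144000 ≤ Nat.card ↥RuH := by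
  have c1 := card_chain RuH b1
  have c2 := card_chain H1 b2
  have c3 := card_chain H2 b3
  have c4 := card_chain H3 b4
  have o1 : (MulAction.orbit ↥RuH b1).ncard = 4060 := by
    rw [orbit_H_eq, Set.ncard_univ, Nat.card_eq_fintype_card, Fintype.card_fin]
  have o2 : 2304 ≤ (MulAction.orbit ↥H1 b2).ncard := by
    have := orbit_ge DR chk_structR ptR gsP pi_actP ptR_inj H1 WL1 hW1 2304 tT1 tPos1 tPar1 chk_tree1
    rwa [chk_T0.1] at this
  have o3 : 975 ≤ (MulAction.orbit ↥H2 b3).ncard := by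
    have := orbit_ge DR chk_structR ptR gsP pi_actP ptR_inj H2 WL2 hW2 975 tT2 tPos2 tPar2 chk_tree2
    rwa [chk_T0.2.1] at this
  have o4 : 16 ≤ (MulAction.orbit ↥H3 b4).ncard := by
    have := orbit_ge DR chk_structR ptR gsP pi_actP ptR_inj H3 WL3 hW3 16 tT3 tPos3 tPar3 chk_tree3
    rwa [chk_T0.2.2] at this
  have p4 : 1 ≤ Nat.card ↥(H3 ⊓ MulAction.stabilizer P4060 b4) := Nat.card_pos
  have d1 : Nat.card ↥H1 = Nat.card ↥(RuH ⊓ MulAction.stabilizer P4060 b1) := rfl
  have d2 : Nat.card ↥H2 = Nat.card ↥(H1 ⊓ MulAction.stabilizer P4060 b2) := rfl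
  have d3 : Nat.card ↥H3 = Nat.card ↥(H2 ⊓ MulAction.stabilizer P4060 b3) := rfl
  rw [← d1] at c1
  rw [← d2] at c2
  rw [← d3] at c3
  rw [← c1, ← c2, ← c3, ← c4, o1]
  calc 145926144000 = 1 * 16 * 975 * 2304 * 4060 := by norm_num
    _ ≤ _ := Nat.mul_le_mul (Nat.mul_le_mul (Nat.mul_le_mul (Nat.mul_le_mul p4 o4) o3) o2) (le_refl _)

/-- the order of the group generated by the two permutations -/
theorem card_H : Nat.card ↥RuH = 145926144000 :=
  le_antisymm ((Subgroup.card_le_of_le H_le_A).trans card_A_le) card_H_ge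

/-- the group generated by the two permutations is the group of all the permutations preserving
the relation -/
theorem H_eq_A : RuH = RuA := by
  apply Subgroup.eq_of_le_of_card_ge H_le_A
  rw [card_H]
  exact card_A_le

end Cfsg.Agent.Lib.Helper1.Ru
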