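import Mathlib
import Cfsg.Agent.Lib.Helper1.RuT

set_option autoImplicit false
set_option maxRecDepth 100000

/-!
# The Rudvalis group on 4060 points: the group is simple and transitive

The stabilizer of a point has orbits of 1, 1755 and 2304 points, hence is a maximal subgroup; the
group is generated by two elements of order 29.
-/

namespace Cfsg.Agent.Lib.Helper1.Ru

open Cfsg.Agent.Lib.Helper1 Cfsg.Agent.Lib.Helper1.GraphRef Cfsg.Agent.Lib.Helper1.MatCode
  Cfsg.Agent.Lib.Helper1.Stem Cfsg.Agent.Lib.Helper1.StemSA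

def xH : ↥RuH := ⟨xP, Subgroup.subset_closure (Or.inl rfl)⟩

def yH : ↥RuH := ⟨yP, Subgroup.subset_closure (Or.inr rfl)⟩

def gsH : List ↥RuH := [xH, yH, xH⁻¹, yH⁻¹]

theorem gsH_val (i : ℕ) : ((gsH.getD i 1 : ↥RuH) : P4060) = gsP.getD i 1 := by
  rcases i with _ | _ | _ | _ | i <;> rfl

theorem hgenH : Subgroup.closure {g : ↥RuH | ∃ i < DR.k, g = gsH.getD i 1} = ⊤ := by
  have h := Subgroup.closure_closure_coe_preimage (k := ({xP, yP} : Set P4060))
  rw [eq_top_iff]
  have h' : (⊤ : Subgroup ↥RuH) ≤ Subgroup.closure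
      (((↑) : ↥RuH → P4060) ⁻¹' ({xP, yP} : Set P4060)) := le_of_eq h.symm
  refine h'.trans (Subgroup.closure_mono ?_)
  rintro g (hg | hg)
  · exact ⟨0, by decide, Subtype.ext hg⟩
  · exact ⟨1, by decide, Subtype.ext hg⟩

theorem pi_actH : ∀ i < DR.k, ∀ j < DR.m, gsH.getD i 1 • ptR j = ptR (DR.pi i j) := by
  intro i hi j hj
  have := pi_actP i hi j hj
  rw [← gsH_val] at this
  exact this

instance finiteRuH : Finite ↥RuH := Nat.finite_of_card_ne_zero (by rw [card_H]; norm_num)

theorem wordProd_replicate {Γ : Type*} [Group Γ] (gs : List Γ) (i k : ℕ) :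
    wordProd gs (List.replicate k i) = (gs.getD i 1) ^ k := by
  induction k with
  | zero => rw [List.replicate_zero, wordProd_nil, pow_zero]
  | succ k ih => rw [List.replicate_succ, wordProd_cons, ih, pow_succ']

theorem eq_one_of_fix (g : P4060) (hg : ∀ j < 4060, g • ptR j = ptR j) : g = 1 := by
  ext v
  have := hg v.val v.isLt
  rw [ptR, pt_self hn4060 v] at this
  rw [Equiv.Perm.one_apply]
  exact congrArg Fin.val this

theorem pow_gsP (i : ℕ) (hi : i < 2) : (gsP.getD i 1) ^ 29 = 1 := by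
  apply eq_one_of_fix
  intro j hj
  rw [← wordProd_replicate]
  have h := (StemZB.smul_wordProd DR chk_structR ptR gsP pi_actP (List.replicate 29 i)
    (by intro i' hi'; rw [List.eq_of_mem_replicate hi']; exact lt_trans hi (by decide)) j hj).2
  rw [h]
  congr 1
  have hc := chk_pow
  rw [List.all_eq_true, List.all_eq_true] at hc
  interval_cases i
  · exact beq_iff_eq.mp (hc.1 j (List.mem_range.mpr hj))
  · exact beq_iff_eq.mp (hc.2 j (List.mem_range.mpr hj))

theorem pow_gsH (i : ℕ) (hi : i < DR.k) : (gsH.getD i 1) ^ 29 = 1 := by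
  have hi' : i < 4 := hi
  have hx : xH ^ 29 = 1 := Subtype.ext (pow_gsP 0 (by decide))
  have hy : yH ^ 29 = 1 := Subtype.ext (pow_gsP 1 (by decide))
  interval_cases i
  · exact hx
  · exact hy
  · show (xH⁻¹) ^ 29 = 1
    rw [inv_pow, hx, inv_one]
  · show (yH⁻¹) ^ 29 = 1
    rw [inv_pow, hy, inv_one]

theorem faithful_H (g : ↥RuH) (hg : ∀ j < DR.m, g • ptR j = ptR j) : g = 1 :=
  Subtype.ext (eq_one_of_fix g.1 hg)

theorem nontrivial_H : Nontrivial ↥RuH := by
  rw [← Finite.one_lt_card_iff_nontrivial, card_H]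
  norm_num

/-- the group is simple -/
theorem RuH_simple : IsSimpleGroup ↥RuH :=
  SubOrb.isSimpleGroup_of_suborbits DR chk_structR ptR gsH hgenH pi_actH (by decide) ptR_inj SOR
    chk_SOR arith_SOR 29 5031936000 (by norm_num) (by decide) (by rw [card_H]) (by decide)
    pow_gsH faithful_H nontrivial_H

/-- the group is transitive on the 4060 points -/
theorem RuH_pretransitive : MulAction.IsPretransitive ↥RuH (Fin 4060) := by
  refine ⟨fun v w => ?_⟩
  have hv : v ∈ MulAction.orbit ↥RuH b1 := by rw [orbit_H_eq]; exact Set.mem_univ v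
  have hw : w ∈ MulAction.orbit ↥RuH b1 := by rw [orbit_H_eq]; exact Set.mem_univ w
  obtain ⟨g1, h1⟩ := hv
  obtain ⟨g2, h2⟩ := hw
  refine ⟨g2 * g1⁻¹, ?_⟩
  have h1' : g1 • b1 = v := h1
  have h2' : g2 • b1 = w := h2
  rw [mul_smul, ← h1', inv_smul_smul, h2']

/-- the order of the stabilizer of a point -/
theorem card_stab_H : Nat.card ↥(MulAction.stabilizer ↥RuH (0 : Fin 4060)) = 35942400 := by
  have h := StemOrb.card_stabilizer_mul DR chk_structR ptR gsH hgenH pi_actH (by decide) ptR_inj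
  rw [card_H] at h
  have h' : Nat.card ↥(MulAction.stabilizer ↥RuH (0 : Fin 4060)) * 4060 = 145926144000 := h
  omega

end Cfsg.Agent.Lib.Helper1.Ru
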