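import Mathlib
import Cfsg.Agent.Lib.Helper1.Tits2

set_option autoImplicit false

namespace Cfsg.Agent.Lib.Helper1

open DoubleCoset

namespace TitsData

variable {G W : Type*} [Group G] [Group W] (D : TitsData G W)

/-- Generators inside and outside the type of `H B` commute, for a normal subgroup `H`. -/
theorem commute_of_normal {J : Set W} (hJ : J ⊆ D.S) (H : Subgroup G) [hH : H.Normal]
    (hHle : H ≤ D.par J hJ) {σ σ' : W} (hσ : σ ∈ J) (hσ' : σ' ∈ D.S) (hσ'n : σ' ∉ J)
    (hmeet : ∃ h ∈ H, h ∈ D.C σ) : σ * σ' = σ' * σ := by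
  have hσS : σ ∈ D.S := hJ hσ
  have hne : σ' ≠ σ := fun h => hσ'n (h ▸ hσ)
  obtain ⟨h, hhH, hhC⟩ := hmeet
  obtain ⟨y, hy⟩ := D.C_nonempty σ'
  have hcl : ∀ w : W, w ∈ Subgroup.closure D.S := D.mem_closure
  -- y h lies in C (σ' σ)
  have hlen1 : wlen D.S σ ≤ wlen D.S (σ' * σ) := by
    rw [D.wlen_S hσS]
    by_contra hlt
    have h0 : wlen D.S (σ' * σ) = 0 := by omega
    have h1 : σ' * σ = 1 := (wlen_eq_zero_iff D.S_invol (hcl _)).1 h0
    apply hne
    have h2 : σ' = σ⁻¹ := eq_inv_of_mul_eq_one_left h1
    rw [h2, D.S_invol.inv_eq hσS]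
  have hyh : y * h ∈ D.C (σ' * σ) := D.mul_sub_of_le hσ' hlen1 hy hhC
  have hyinv : y⁻¹ ∈ D.C σ' := D.inv_mem_C hσ' hy
  have hconj : y * h * y⁻¹ ∈ D.par J hJ := hHle (hH.conj_mem h hhH y)
  rcases D.mul_sub_right hσ' (σ' * σ) hyh hyinv with hA | hA
  · -- u = σ' σ σ' in the closure of J
    obtain ⟨w, hw, hwC⟩ := hconj
    have hu : σ' * σ * σ' = w := D.eq_of_mem_of_mem hA hwC
    rw [← hu] at hw
    set u := σ' * σ * σ' with hudef
    have hσ'u : σ' * u = σ * σ' := by
      rw [hudef, ← mul_assoc, ← mul_assoc, D.S_invol σ' hσ', one_mul]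
    by_cases hcase : wlen D.S (σ' * u) ≤ wlen D.S u
    · exfalso
      obtain ⟨l, hl, hlen, hprod⟩ := D.exists_reduced_word_in hJ hw
      have hlS : IsWord D.S l := isWord_mono hJ hl
      have hred : wlen D.S l.prod = l.length := by rw [hprod, hlen]
      have hle : wlen D.S (σ' * l.prod) ≤ l.length := by rw [hprod, hlen]; exact hcase
      obtain ⟨i, hi, hex⟩ := D.exchange hlS hred hσ' hle
      apply hσ'n
      apply D.mem_of_mem_closure hJ hσ'
      have hv : (l.take i).prod ∈ Subgroup.closure J :=
        Subgroup.list_prod_mem _ fun x hx => Subgroup.subset_closure (isWord_take hl i x hx)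
      have hli : l[i] ∈ Subgroup.closure J := Subgroup.subset_closure (hl _ (List.getElem_mem hi))
      have : σ' = (l.take i).prod * l[i] * ((l.take i).prod)⁻¹ := by
        rw [← hex]; group
      rw [this]
      exact Subgroup.mul_mem _ (Subgroup.mul_mem _ hv hli) (Subgroup.inv_mem _ hv)
    · push Not at hcase
      rw [hσ'u] at hcase
      have h2 : wlen D.S (σ * σ') ≤ 2 := by
        have := wlen_mul_left_le D.S_invol hσS (hcl σ')
        rw [D.wlen_S hσ'] at this
        exact this
      have hred : wlen D.S ([σ, σ'] : List W).prod = ([σ, σ'] : List W).length := by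
        have hu1 : 1 ≤ wlen D.S u := by
          by_contra h0
          have h00 : wlen D.S u = 0 := by omega
          have hu1 : u = 1 := (wlen_eq_zero_iff D.S_invol (hcl _)).1 h00
          apply D.ne_one_of_mem_S hσS
          have : σ = σ' * u * σ' := by
            rw [hudef]
            simp only [mul_assoc]
            rw [D.S_invol σ' hσ', mul_one, ← mul_assoc, D.S_invol σ' hσ', one_mul]
          rw [this, hu1, mul_one, D.S_invol σ' hσ']
        simp only [List.prod_cons, List.prod_nil, mul_one, List.length_cons, List.length_nil]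
        omega
      have hword : IsWord D.S [σ, σ'] := by
        intro x hx
        simp only [List.mem_cons, List.not_mem_nil, or_false] at hx
        rcases hx with rfl | rfl
        · exact hσS
        · exact hσ'
      have hle : wlen D.S (σ' * ([σ, σ'] : List W).prod) ≤ ([σ, σ'] : List W).length := by
        simp only [List.prod_cons, List.prod_nil, mul_one, List.length_cons, List.length_nil]
        rw [← mul_assoc, ← hudef]
        omega
      obtain ⟨i, hi, hex⟩ := D.exchange hword hred hσ' hle
      simp only [List.length_cons, List.length_nil] at hi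
      have hi' : i = 0 ∨ i = 1 := by omega
      rcases hi' with rfl | rfl
      · exfalso
        simp at hex
        exact hne hex
      · simp at hex
        exact hex.symm
  · exfalso
    obtain ⟨w, hw, hwC⟩ := hconj
    have hu : σ' * σ = w := D.eq_of_mem_of_mem hA hwC
    rw [← hu] at hw
    apply hσ'n
    apply D.mem_of_mem_closure hJ hσ'
    have : σ' = (σ' * σ) * σ := by rw [mul_assoc, D.S_invol σ hσS, mul_one]
    rw [this]
    exact Subgroup.mul_mem _ hw (Subgroup.subset_closure hσ)

end TitsData

end Cfsg.Agent.Lib.Helper1
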