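import Mathlib
import Cfsg.Agent.Lib.Helper1.RuS
import Cfsg.Agent.Lib.Helper1.RuC5
import Cfsg.Agent.Lib.Helper1.TitsS

set_option autoImplicit false
set_option maxRecDepth 100000

/-!
# The Rudvalis group on 4060 points: a subgroup of the stabilizer of a point isomorphic to the Tits group

Two elements of the stabilizer of the first point act on the 1755 points related to it as the two
generators of the Tits group act on its 1755 vectors; an automorphism of the relation fixing these
1755 points and the first point is trivial.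
-/

namespace Cfsg.Agent.Lib.Helper1.Ru

open Cfsg.Agent.Lib.Helper1 Cfsg.Agent.Lib.Helper1.GraphRef Cfsg.Agent.Lib.Helper1.MatCode
  Cfsg.Agent.Lib.Helper1.Stem Cfsg.Agent.Lib.Helper1.StemSA Cfsg.Agent.Lib.Helper1.Tits

/-- the 1755 points related to the first point -/
def nuF (i : Fin 1755) : Fin 4060 := ptR (tNu i.val)

theorem nu_spec (i : ℕ) (hi : i < 1755) :
    tNu i < 4060 ∧ Nat.testBit (row 0) (tNu i) = true ∧ tPosN (tNu i) = i := by
  have h := chk_nu
  rw [List.all_eq_true] at h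
  have := h i (List.mem_range.mpr hi)
  rw [Bool.and_eq_true, Bool.and_eq_true, beq_iff_eq] at this
  exact ⟨of_decide_eq_true this.1.1, this.1.2, this.2⟩

theorem n0_spec (v : ℕ) (hv : v < 4060) (h : Nat.testBit (row 0) v = true) :
    tPosN v < 1755 ∧ tNu (tPosN v) = v := by
  have h0 := chk_n0
  rw [List.all_eq_true] at h0
  have := h0 v (List.mem_range.mpr hv)
  rw [h, Bool.not_true, Bool.false_or, Bool.and_eq_true, beq_iff_eq] at this
  exact ⟨of_decide_eq_true this.1, this.2⟩

theorem nuF_val (i : Fin 1755) : (nuF i).val = tNu i.val := pt_val hn4060 (nu_spec i.val i.isLt).1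

theorem nuF_injective : Function.Injective nuF := by
  intro i j h
  have := congrArg Fin.val h
  rw [nuF_val, nuF_val] at this
  apply Fin.ext
  rw [← (nu_spec i.val i.isLt).2.2, ← (nu_spec j.val j.isLt).2.2, this]

/-- a point related to the first point is one of the 1755 points -/
theorem exists_nuF (v : Fin 4060) (h : Nat.testBit (row 0) v.val = true) : ∃ i, nuF i = v := by
  obtain ⟨h1, h2⟩ := n0_spec v.val v.isLt h
  exact ⟨⟨tPosN v.val, h1⟩, Fin.ext (by rw [nuF_val]; exact h2)⟩

theorem nuF_rel (i : Fin 1755) : Nat.testBit (row 0) (nuF i).val = true := by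
  rw [nuF_val]
  exact (nu_spec i.val i.isLt).2.1

/-- an automorphism fixing the first point permutes the points related to it -/
theorem rel_of_fix (g : P4060) (hg : g ∈ RuA) (h1 : g b1 = b1) (v : Fin 4060) :
    Nat.testBit (row 0) (g v).val = Nat.testBit (row 0) v.val := by
  have := hg b1 v
  rw [h1] at this
  exact this

/-! ### An automorphism fixing the first point and the 1755 points is trivial -/

/-- the automorphisms fixing the first point and the 1755 points -/
def KN : Subgroup P4060 :=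
  RuA ⊓ MulAction.stabilizer P4060 b1 ⊓ ⨅ i : Fin 1755, MulAction.stabilizer P4060 (nuF i)

theorem KN_le : KN ≤ RuA := inf_le_left.trans inf_le_left

theorem KN_fix1 (g : P4060) (hg : g ∈ KN) : g b1 = b1 :=
  MulAction.mem_stabilizer_iff.mp (Subgroup.mem_inf.mp (Subgroup.mem_inf.mp hg).1).2

theorem KN_fix (g : P4060) (hg : g ∈ KN) (i : Fin 1755) : g (nuF i) = nuF i :=
  MulAction.mem_stabilizer_iff.mp ((Subgroup.mem_iInf.mp (Subgroup.mem_inf.mp hg).2) i)

theorem cN_zero : cN 0 = 1 := rfl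

theorem cN_rel (v : ℕ) (h0 : v ≠ 0) (h : Nat.testBit (row 0) v = true) : cN v = tPosN v + 2 := by
  unfold cN
  have : Nat.beq v 0 = false := by
    cases hb : Nat.beq v 0
    · rfl
    · exact absurd (Nat.eq_of_beq_eq_true hb) h0
  rw [this, h]
  rfl

theorem cN_not (v : ℕ) (h0 : v ≠ 0) (h : Nat.testBit (row 0) v = false) : cN v = 0 := by
  unfold cN
  have : Nat.beq v 0 = false := by
    cases hb : Nat.beq v 0
    · rfl
    · exact absurd (Nat.eq_of_beq_eq_true hb) h0
  rw [this, h]
  rfl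

theorem inv_cN : Inv KN cN := by
  intro g hg v
  have hg1 := KN_fix1 g hg
  by_cases h0 : v = b1
  · rw [h0, hg1]
  · have hne : (g v) ≠ b1 := by
      intro h
      rw [← hg1] at h
      exact h0 (g.injective h)
    have hv0 : v.val ≠ 0 := fun h => h0 (Fin.ext h)
    have hgv0 : (g v).val ≠ 0 := fun h => hne (Fin.ext h)
    have hrel := rel_of_fix g (KN_le hg) hg1 v
    cases hr : Nat.testBit (row 0) v.val
    · rw [hr] at hrel
      rw [cN_not _ hv0 hr, cN_not _ hgv0 hrel]
    · obtain ⟨i, hi⟩ := exists_nuF v hr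
      rw [← hi, KN_fix g hg i]

theorem inv_adjBits {K : Subgroup P4060} (hK : K ≤ RuA) (Z : List ℕ)
    (hZ : ∀ z ∈ Z, z < 4060 ∧ ∀ g ∈ K, g (ptR z) = ptR z) :
    ∀ c : ℕ → ℕ, Inv K c → Inv K fun v => adjBits row Z (c v) v := by
  induction Z with
  | nil => intro c hc; exact hc
  | cons z t ih =>
    intro c hc
    have h1 := inv_rel hK (ptR z) (hZ z (by simp)).2
    have e : (ptR z).val = z := pt_val hn4060 (hZ z (by simp)).1
    rw [e] at h1
    have h2 := hc.comp₂ h1 fun x y => Nat.add (Nat.mul 2 x) y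
    have h3 := ih (fun z' hz' => hZ z' (by simp [hz'])) _ h2
    intro g hg v
    have := h3 g hg v
    unfold adjBits at this ⊢
    beta_reduce at this ⊢
    rw [List.foldl_cons, List.foldl_cons]
    have eb : ∀ u : ℕ, bitN (row u) z = (relRow row u z).toNat := fun u => bitN_eq _ _
    rw [eb, eb]
    exact this

theorem ZL_spec : ∀ z ∈ ZL, z < 4060 ∧ ∀ g ∈ KN, g (ptR z) = ptR z := by
  intro z hz
  have h := chk_Z
  rw [List.all_eq_true] at h
  have := h z hz
  rw [Bool.and_eq_true] at this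
  have hz1 : z < 4060 := of_decide_eq_true this.1
  refine ⟨hz1, fun g hg => ?_⟩
  have e : (ptR z).val = z := pt_val hn4060 hz1
  obtain ⟨i, hi⟩ := exists_nuF (ptR z) (by rw [e]; exact this.2)
  rw [← hi]
  exact KN_fix g hg i

theorem inv_keyN : Inv KN keyN := inv_adjBits KN_le ZL ZL_spec cN inv_cN

theorem keysN : ∀ v < 4060, colN v < 4060 ∧ keyN v = tabN (colN v) := by
  intro v hv
  exact chkKeys_spec chk_keysN v (Nat.zero_le _) (by omega)

theorem KN_eq_bot : KN = ⊥ :=
  eq_bot_of_discrete (inv_rerank' inv_keyN keysN chk_incN) chk_discreteN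

/-! ### The two elements and the subgroup they generate -/

def aP : P4060 := wordProd gsP WA

def bP : P4060 := wordProd gsP WB

/-- the subgroup generated by the two elements -/
def TiP : Subgroup P4060 := Subgroup.closure {aP, bP}

theorem hWAB : ∀ w ∈ [WA, WB], (∀ i ∈ w, i < DR.k) ∧ wordProd gsP w ∈ H1 := by
  intro w hw
  obtain ⟨h1, h2⟩ := fixW_spec chk_fixAB w hw
  exact ⟨h1, Subgroup.mem_inf.mpr ⟨wordProd_mem w,
    wordProd_fix w h1 0 (by norm_num) (h2 0 (by simp))⟩⟩

theorem TiP_le_H1 : TiP ≤ H1 := by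
  rw [TiP, Subgroup.closure_le]
  rintro g (rfl | rfl)
  · exact (hWAB WA (by simp)).2
  · exact (hWAB WB (by simp)).2

theorem TiP_le_H : TiP ≤ RuH := TiP_le_H1.trans inf_le_left

theorem TiP_fix1 (g : P4060) (hg : g ∈ TiP) : g b1 = b1 :=
  MulAction.mem_stabilizer_iff.mp (Subgroup.mem_inf.mp (TiP_le_H1 hg)).2

theorem TiP_le_A (g : P4060) (hg : g ∈ TiP) : g ∈ RuA := H_le_A (TiP_le_H hg)

theorem hinv2 : ∀ (g : ↥TiP) (i : Fin 1755), ∃ i', g • nuF i = nuF i' := by
  intro g i
  have h := rel_of_fix g.1 (TiP_le_A g.1 g.2) (TiP_fix1 g.1 g.2) (nuF i)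
  rw [nuF_rel] at h
  obtain ⟨i', hi'⟩ := exists_nuF (g.1 (nuF i)) h
  exact ⟨i', hi'.symm⟩

/-- the action of the subgroup on the 1755 points -/
noncomputable def rho2 : ↥TiP →* Equiv.Perm (Fin 1755) := GraphRef.permRep nuF nuF_injective hinv2

theorem rho2_injective : Function.Injective rho2 := by
  apply GraphRef.permRep_injective
  intro g hg
  apply Subtype.ext
  have hK : g.1 ∈ KN := by
    refine Subgroup.mem_inf.mpr ⟨Subgroup.mem_inf.mpr ⟨TiP_le_A g.1 g.2, ?_⟩, ?_⟩
    · exact MulAction.mem_stabilizer_iff.mpr (TiP_fix1 g.1 g.2)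
    · exact Subgroup.mem_iInf.mpr fun i => MulAction.mem_stabilizer_iff.mpr (hg i)
  rw [KN_eq_bot, Subgroup.mem_bot] at hK
  exact hK

/-! ### The action of the Tits group on its 1755 vectors -/

def pXF (i : Fin 1755) : V52 := pX i.val

theorem pXF_injective : Function.Injective pXF := by
  intro i j h
  exact Fin.ext (pX_inj i.val i.isLt j.val j.isLt h)

theorem hinv1 : ∀ (g : TG) (i : Fin 1755), ∃ i', g • pXF i = pXF i' := by
  intro g i
  obtain ⟨j', hj', h⟩ := StemOrb.smul_pt DX chk_structX pX gT hgenT pi_actTX g i.val i.isLt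
  exact ⟨⟨j', hj'⟩, h⟩

noncomputable def rho1 : TG →* Equiv.Perm (Fin 1755) := GraphRef.permRep pXF pXF_injective hinv1

theorem rho1_injective : Function.Injective rho1 := by
  apply GraphRef.permRep_injective
  intro g hg
  apply faithful_TG
  intro j hj
  exact hg ⟨j, hj⟩

theorem rho1_gen (k : ℕ) (hk : k < 2) (i : Fin 1755) :
    (rho1 (gT.getD k 1) i).val = DX.pi k i.val := by
  have h1 := GraphRef.permRep_spec pXF pXF_injective hinv1 (gT.getD k 1) i
  have h2 := pi_actTX k hk i.val i.isLt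
  have h3 : pXF (rho1 (gT.getD k 1) i) = pX (DX.pi k i.val) := by
    rw [← h2]
    exact h1
  exact pX_inj _ (rho1 (gT.getD k 1) i).isLt _ (pi_lt DX chk_structX k i.val hk i.isLt) h3

def aTi : ↥TiP := ⟨aP, Subgroup.subset_closure (Or.inl rfl)⟩

def bTi : ↥TiP := ⟨bP, Subgroup.subset_closure (Or.inr rfl)⟩

theorem eq_spec : (∀ i < 1755, DR.actW WA (tNu i) = tNu (DX.pi 0 i)) ∧
    ∀ i < 1755, DR.actW WB (tNu i) = tNu (DX.pi 1 i) := by
  have hA := chk_eqA
  have hB := chk_eqB
  rw [List.all_eq_true] at hA hB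
  exact ⟨fun i hi => beq_iff_eq.mp (hA i (List.mem_range.mpr hi)),
    fun i hi => beq_iff_eq.mp (hB i (List.mem_range.mpr hi))⟩

theorem rho2_gen (w : List ℕ) (k : ℕ) (hk : k < 2) (hw : w ∈ [WA, WB])
    (he : ∀ i < 1755, DR.actW w (tNu i) = tNu (DX.pi k i))
    (g : ↥TiP) (hg : g.1 = wordProd gsP w) (i : Fin 1755) :
    (rho2 g i).val = DX.pi k i.val := by
  have h1 := GraphRef.permRep_spec nuF nuF_injective hinv2 g i
  have hlt := pi_lt DX chk_structX k i.val hk i.isLt
  have h2 := (StemZB.smul_wordProd DR chk_structR ptR gsP pi_actP w (hWAB w hw).1 (tNu i.val)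
    (nu_spec i.val i.isLt).1).2
  rw [he i.val i.isLt] at h2
  have h3 : nuF (rho2 g i) = nuF ⟨DX.pi k i.val, hlt⟩ := by
    rw [show rho2 g i = GraphRef.permRep nuF nuF_injective hinv2 g i from rfl, h1]
    show g.1 • nuF i = _
    rw [hg]
    exact h2
  exact congrArg Fin.val (nuF_injective h3)

theorem rho_a : rho2 aTi = rho1 (gT.getD 0 1) := by
  ext i
  rw [rho2_gen WA 0 (by decide) (by simp) eq_spec.1 aTi rfl i, rho1_gen 0 (by decide) i]

theorem rho_b : rho2 bTi = rho1 (gT.getD 1 1) := by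
  ext i
  rw [rho2_gen WB 1 (by decide) (by simp) eq_spec.2 bTi rfl i, rho1_gen 1 (by decide) i]

/-- the subgroup is isomorphic to the Tits group -/
theorem TiP_equiv : Nonempty (↥TiP ≃* TG) := by
  apply nonempty_mulEquiv_of_ranges rho2 rho1 rho2_injective rho1_injective
    ({aTi, bTi} : Set ↥TiP) ({gT.getD 0 1, gT.getD 1 1} : Set TG)
  · have h := Subgroup.closure_closure_coe_preimage (k := ({aP, bP} : Set P4060))
    rw [eq_top_iff]
    have h' : (⊤ : Subgroup ↥TiP) ≤ Subgroup.closure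
        (((↑) : ↥TiP → P4060) ⁻¹' ({aP, bP} : Set P4060)) := le_of_eq h.symm
    refine h'.trans (Subgroup.closure_mono ?_)
    rintro g (hg | hg)
    · exact Or.inl (Subtype.ext hg)
    · exact Or.inr (Subtype.ext hg)
  · rw [eq_top_iff, ← hgenT]
    apply Subgroup.closure_mono
    rintro g ⟨i, hi, rfl⟩
    interval_cases i
    · exact Or.inl rfl
    · exact Or.inr rfl
  · rw [Set.image_pair, Set.image_pair, rho_a, rho_b]

end Cfsg.Agent.Lib.Helper1.Ru
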