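import Mathlib
import Cfsg.Agent.Lib.Helper1.RuTi

set_option autoImplicit false
set_option maxRecDepth 100000

/-!
# The Rudvalis group on 4060 points: the subgroup of the stabilizer of a point

The subgroup isomorphic to the Tits group, seen inside the stabilizer of the first point.
-/

namespace Cfsg.Agent.Lib.Helper1.Ru

open Cfsg.Agent.Lib.Helper1 Cfsg.Agent.Lib.Helper1.GraphRef Cfsg.Agent.Lib.Helper1.Tits

theorem TiP_simple : IsSimpleGroup ↥TiP := by
  obtain ⟨e⟩ := TiP_equiv
  exact @MulEquiv.isSimpleGroup ↥TiP _ TG _ TG_simple e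

theorem card_TiP : Nat.card ↥TiP = 17971200 := by
  obtain ⟨e⟩ := TiP_equiv
  rw [Nat.card_congr e.toEquiv]
  exact card_TS

/-- the subgroup inside the group -/
def TiH : Subgroup ↥RuH := TiP.subgroupOf RuH

/-- the subgroup inside the stabilizer of the first point -/
def TiSt : Subgroup ↥(MulAction.stabilizer ↥RuH (0 : Fin 4060)) :=
  TiH.subgroupOf (MulAction.stabilizer ↥RuH (0 : Fin 4060))

theorem TiH_le : TiH ≤ MulAction.stabilizer ↥RuH (0 : Fin 4060) := by
  intro g hg
  rw [MulAction.mem_stabilizer_iff]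
  exact TiP_fix1 g.1 hg

/-- the subgroup inside the stabilizer is isomorphic to the subgroup -/
noncomputable def TiSt_equiv : ↥TiSt ≃* ↥TiP :=
  (Subgroup.subgroupOfEquivOfLe TiH_le).trans (Subgroup.subgroupOfEquivOfLe TiP_le_H)

theorem TiSt_simple : IsSimpleGroup ↥TiSt := by
  haveI := TiP_simple
  exact TiSt_equiv.isSimpleGroup

theorem card_TiSt : Nat.card ↥TiSt = 17971200 := by
  rw [Nat.card_congr TiSt_equiv.toEquiv]
  exact card_TiP

end Cfsg.Agent.Lib.Helper1.Ru
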