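import Mathlib
import Cfsg.Prelude.Def_Spor_Ru

set_option autoImplicit false

/-!
# The rank 28 lattice over the Gaussian integers: real coordinates

A vector is handled through its 56 integer coordinates: coordinate `8 n + 2 t + c` is the real
(`c = 0`) or imaginary (`c = 1`) part of the entry `(n, t)`.
-/

namespace Cfsg.Agent.Lib.Helper1.RuLat

open Cfsg.Spor

/-- the vector with given integer coordinates -/
def ofF (x : ℕ → ℤ) : RuVec := fun p => ⟨x (8 * p.1.val + 2 * p.2.val), x (8 * p.1.val + 2 * p.2.val + 1)⟩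

/-- the integer coordinates of a vector -/
def coord (v : RuVec) (q : ℕ) : ℤ :=
  if h : q < 56 then
    (if q % 2 = 0 then (v (⟨q / 8, by omega⟩, ⟨q / 2 % 4, by omega⟩)).re
      else (v (⟨q / 8, by omega⟩, ⟨q / 2 % 4, by omega⟩)).im)
  else 0

theorem ofF_coord (v : RuVec) : ofF (coord v) = v := by
  funext p
  obtain ⟨n, t⟩ := p
  apply Zsqrtd.ext
  · show coord v (8 * n.val + 2 * t.val) = _
    have hn := n.isLt
    have ht := t.isLt
    unfold coord
    rw [dif_pos (by omega), if_pos (by omega)]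
    congr 2
    apply Prod.ext
    · exact Fin.ext (by show (8 * n.val + 2 * t.val) / 8 = n.val; omega)
    · exact Fin.ext (by show (8 * n.val + 2 * t.val) / 2 % 4 = t.val; omega)
  · show coord v (8 * n.val + 2 * t.val + 1) = _
    have hn := n.isLt
    have ht := t.isLt
    unfold coord
    rw [dif_pos (by omega), if_neg (by omega)]
    congr 2
    apply Prod.ext
    · exact Fin.ext (by show (8 * n.val + 2 * t.val + 1) / 8 = n.val; omega)
    · exact Fin.ext (by show (8 * n.val + 2 * t.val + 1) / 2 % 4 = t.val; omega)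

theorem coord_ofF (x : ℕ → ℤ) (q : ℕ) (hq : q < 56) : coord (ofF x) q = x q := by
  unfold coord
  rw [dif_pos hq]
  by_cases h : q % 2 = 0
  · rw [if_pos h]
    show x (8 * (q / 8) + 2 * (q / 2 % 4)) = x q
    congr 1
    omega
  · rw [if_neg h]
    show x (8 * (q / 8) + 2 * (q / 2 % 4) + 1) = x q
    congr 1
    omega

theorem ofF_congr {x y : ℕ → ℤ} (h : ∀ q < 56, x q = y q) : ofF x = ofF y := by
  funext p
  obtain ⟨n, t⟩ := p
  have hn := n.isLt
  have ht := t.isLt
  apply Zsqrtd.ext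
  · exact h _ (by show 8 * n.val + 2 * t.val < 56; omega)
  · exact h _ (by show 8 * n.val + 2 * t.val + 1 < 56; omega)

theorem ofF_injective {x y : ℕ → ℤ} (h : ofF x = ofF y) : ∀ q < 56, x q = y q := by
  intro q hq
  rw [← coord_ofF x q hq, ← coord_ofF y q hq, h]

theorem ofF_add (x y : ℕ → ℤ) : ofF (x + y) = ofF x + ofF y := by
  funext p
  apply Zsqrtd.ext <;> rfl

theorem ofF_neg (x : ℕ → ℤ) : ofF (-x) = -ofF x := by
  funext p
  apply Zsqrtd.ext <;> rfl

theorem ofF_zero : ofF 0 = 0 := by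
  funext p
  apply Zsqrtd.ext <;> rfl

theorem ofF_sub (x y : ℕ → ℤ) : ofF (x - y) = ofF x - ofF y := by
  rw [sub_eq_add_neg, ofF_add, ofF_neg, sub_eq_add_neg]

theorem zsmul_re (c : ℤ) (z : GaussianInt) : (c • z).re = c * z.re := by
  rw [zsmul_eq_mul, Zsqrtd.re_smul]

theorem zsmul_im (c : ℤ) (z : GaussianInt) : (c • z).im = c * z.im := by
  rw [zsmul_eq_mul, Zsqrtd.im_smul]

theorem ofF_zsmul (c : ℤ) (x : ℕ → ℤ) : ofF (c • x) = c • ofF x := by
  funext p
  apply Zsqrtd.ext
  · show c • x _ = (c • ofF x p).re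
    rw [zsmul_re, smul_eq_mul]
    rfl
  · show c • x _ = (c • ofF x p).im
    rw [zsmul_im, smul_eq_mul]
    rfl

theorem coord_add (v w : RuVec) (q : ℕ) : coord (v + w) q = coord v q + coord w q := by
  unfold coord
  by_cases hq : q < 56
  · rw [dif_pos hq, dif_pos hq, dif_pos hq]
    by_cases h : q % 2 = 0
    · rw [if_pos h, if_pos h, if_pos h]; rfl
    · rw [if_neg h, if_neg h, if_neg h]; rfl
  · rw [dif_neg hq, dif_neg hq, dif_neg hq, add_zero]

/-- the norm in coordinates -/
theorem ruNorm_ofF (x : ℕ → ℤ) : ruNorm (ofF x) = ∑ q ∈ Finset.range 56, x q ^ 2 := by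
  unfold ruNorm
  rw [Fintype.sum_prod_type]
  simp only [Fin.sum_univ_succ, Fin.sum_univ_zero, Finset.sum_range_succ, Finset.sum_range_zero,
    Zsqrtd.norm_def, ofF]
  simp only [Fin.val_zero, Fin.val_succ]
  ring

end Cfsg.Agent.Lib.Helper1.RuLat
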