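import Mathlib

set_option autoImplicit false

/-!
# Packing fifty-six small integers into one integer

`pack x = ∑ x q * B ^ q` with `B = 2 ^ 20`; the packing is additive, and injective on families of
absolute value below `2 ^ 19`.
-/

namespace Cfsg.Agent.Lib.Helper1.RuLat

/-- the base of the packing -/
def pB : ℤ := 1048576

/-- the packing of the first `n` values -/
def packN (n : ℕ) (x : ℕ → ℤ) : ℤ := ∑ q ∈ Finset.range n, x q * pB ^ q

/-- the packing of fifty-six values -/
def pack (x : ℕ → ℤ) : ℤ := packN 56 x

theorem packN_succ' (n : ℕ) (x : ℕ → ℤ) : packN (n + 1) x = x 0 + pB * packN n (fun q => x (q + 1)) := by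
  unfold packN
  rw [Finset.sum_range_succ', Finset.mul_sum, pow_zero, mul_one, add_comm]
  congr 1
  apply Finset.sum_congr rfl
  intro q _
  rw [pow_succ]
  ring

theorem packN_eq_zero (n : ℕ) : ∀ x : ℕ → ℤ, (∀ q < n, |x q| < 524288) → packN n x = 0 →
    ∀ q < n, x q = 0 := by
  induction n with
  | zero => intro x _ _ q hq; omega
  | succ n ih =>
    intro x hx h q hq
    rw [packN_succ'] at h
    have h0 : x 0 = 0 := by
      have hb := hx 0 (Nat.succ_pos n)
      have hd : pB ∣ x 0 := by
        have : x 0 = pB * (-packN n fun q => x (q + 1)) := by linarith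
        exact ⟨_, this⟩
      rw [abs_lt] at hb
      obtain ⟨c, hc⟩ := hd
      unfold pB at hc
      omega
    rw [h0, zero_add] at h
    have h1 : packN n (fun q => x (q + 1)) = 0 := by
      rcases mul_eq_zero.mp h with h | h
      · unfold pB at h; omega
      · exact h
    rcases q with _ | q
    · exact h0
    · exact ih (fun q => x (q + 1)) (fun q hq => hx (q + 1) (by omega)) h1 q (by omega)

theorem packN_sub (n : ℕ) (x y : ℕ → ℤ) : packN n (x - y) = packN n x - packN n y := by
  unfold packN
  rw [← Finset.sum_sub_distrib]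
  apply Finset.sum_congr rfl
  intro q _
  rw [Pi.sub_apply]
  ring

theorem packN_add (n : ℕ) (x y : ℕ → ℤ) : packN n (x + y) = packN n x + packN n y := by
  unfold packN
  rw [← Finset.sum_add_distrib]
  apply Finset.sum_congr rfl
  intro q _
  rw [Pi.add_apply]
  ring

theorem packN_smul (n : ℕ) (c : ℤ) (x : ℕ → ℤ) : packN n (c • x) = c * packN n x := by
  unfold packN
  rw [Finset.mul_sum]
  apply Finset.sum_congr rfl
  intro q _
  rw [Pi.smul_apply, smul_eq_mul]
  ring

theorem packN_zero (n : ℕ) : packN n 0 = 0 := by
  unfold packN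
  simp

theorem packN_congr (n : ℕ) {x y : ℕ → ℤ} (h : ∀ q < n, x q = y q) : packN n x = packN n y := by
  unfold packN
  apply Finset.sum_congr rfl
  intro q hq
  rw [h q (Finset.mem_range.mp hq)]

/-- the packing is injective on small values -/
theorem pack_inj (x y : ℕ → ℤ) (hx : ∀ q < 56, |x q| < 262144) (hy : ∀ q < 56, |y q| < 262144)
    (h : pack x = pack y) : ∀ q < 56, x q = y q := by
  intro q hq
  have h' : packN 56 (x - y) = 0 := by
    rw [packN_sub]
    exact sub_eq_zero.mpr h
  have := packN_eq_zero 56 (x - y) (fun q hq => by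
    have h1 := hx q hq
    have h2 := hy q hq
    rw [abs_lt] at h1 h2 ⊢
    rw [Pi.sub_apply]
    constructor <;> linarith) h' q hq
  rw [Pi.sub_apply] at this
  linarith

/-- the packing of a list of values -/
def packL (l : List ℤ) : ℤ := l.foldr (fun a acc => a + pB * acc) 0

theorem packN_eq_packL (n : ℕ) : ∀ x : ℕ → ℤ, packN n x = packL ((List.range n).map x) := by
  induction n with
  | zero => intro x; rfl
  | succ n ih =>
    intro x
    rw [packN_succ', ih, List.range_succ_eq_map, List.map_cons, List.map_map]
    rfl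

theorem pack_eq_packL (x : ℕ → ℤ) : pack x = packL ((List.range 56).map x) := packN_eq_packL 56 x

end Cfsg.Agent.Lib.Helper1.RuLat
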