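import Mathlib
import Cfsg.Agent.Lib.Helper1.RuL1

set_option autoImplicit false

/-!
# The rank 28 lattice over the Gaussian integers: the five generating maps in coordinates
-/

namespace Cfsg.Agent.Lib.Helper1.RuLat

open Cfsg.Spor

/-- a signed permutation of the coordinates inside each block of eight -/
def blkF (src : List ℕ) (sgn : List ℤ) (x : ℕ → ℤ) : ℕ → ℤ :=
  fun q => sgn.getD (q % 8) 0 * x (q / 8 * 8 + src.getD (q % 8) 0)

theorem blkF_apply (src : List ℕ) (sgn : List ℤ) (x : ℕ → ℤ) (n r : ℕ) (hr : r < 8) :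
    blkF src sgn x (8 * n + r) = sgn.getD r 0 * x (8 * n + src.getD r 0) := by
  unfold blkF
  have h1 : (8 * n + r) % 8 = r := by omega
  have h2 : (8 * n + r) / 8 * 8 = 8 * n := by omega
  rw [h1, h2]

/-- multiplication by the unit `i` -/
def iF : (ℕ → ℤ) → ℕ → ℤ := blkF [1, 0, 3, 2, 5, 4, 7, 6] [-1, 1, -1, 1, -1, 1, -1, 1]

/-- right multiplication by `j` -/
def rjF : (ℕ → ℤ) → ℕ → ℤ := blkF [3, 2, 1, 0, 6, 7, 4, 5] [-1, 1, -1, 1, 1, 1, -1, -1]

/-- right multiplication by `k` -/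
def rkF : (ℕ → ℤ) → ℕ → ℤ := blkF [5, 4, 6, 7, 1, 0, 2, 3] [-1, 1, -1, -1, -1, 1, 1, 1]

/-- the sign change on the blocks 0, 3, 5, 6 -/
def sgF (x : ℕ → ℤ) : ℕ → ℤ :=
  fun q => if q / 8 = 0 ∨ q / 8 = 3 ∨ q / 8 = 5 ∨ q / 8 = 6 then -x q else x q

/-- the cyclic shift of the blocks -/
def shF (x : ℕ → ℤ) : ℕ → ℤ := fun q => x (8 * ((q / 8 + 1) % 7) + q % 8)

theorem gI_mul_re (z : GaussianInt) : (gI * z).re = -z.im := by
  rw [Zsqrtd.re_mul]
  simp [gI]

theorem gI_mul_im (z : GaussianInt) : (gI * z).im = z.re := by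
  rw [Zsqrtd.im_mul]
  simp [gI]

theorem gI_smul_ofF (x : ℕ → ℤ) : gI • ofF x = ofF (iF x) := by
  funext p
  obtain ⟨n, t⟩ := p
  show gI * ofF x (n, t) = ofF (iF x) (n, t)
  apply Zsqrtd.ext
  · rw [gI_mul_re]
    show -x (8 * n.val + 2 * t.val + 1) = iF x (8 * n.val + 2 * t.val)
    have ht := t.isLt
    unfold iF
    rw [show 8 * n.val + 2 * t.val = 8 * n.val + (2 * t.val) by rfl, blkF_apply _ _ _ _ _ (by omega)]
    have : t.val = 0 ∨ t.val = 1 ∨ t.val = 2 ∨ t.val = 3 := by omega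
    rcases this with h | h | h | h <;> rw [h] <;> simp
  · rw [gI_mul_im]
    show x (8 * n.val + 2 * t.val) = iF x (8 * n.val + 2 * t.val + 1)
    have ht := t.isLt
    unfold iF
    rw [show 8 * n.val + 2 * t.val + 1 = 8 * n.val + (2 * t.val + 1) by ring,
      blkF_apply _ _ _ _ _ (by omega)]
    have : t.val = 0 ∨ t.val = 1 ∨ t.val = 2 ∨ t.val = 3 := by omega
    rcases this with h | h | h | h <;> rw [h] <;> simp

theorem ruRj_ofF (x : ℕ → ℤ) : ruRj (ofF x) = ofF (rjF x) := by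
  funext p
  obtain ⟨n, t⟩ := p
  fin_cases t
  · show gI * ofF x (n, 1) = _
    apply Zsqrtd.ext
    · rw [gI_mul_re]
      show -x (8 * n.val + 2 * 1 + 1) = rjF x (8 * n.val + 2 * 0)
      unfold rjF
      rw [blkF_apply _ _ _ _ _ (by omega)]
      simp
    · rw [gI_mul_im]
      show x (8 * n.val + 2 * 1) = rjF x (8 * n.val + 2 * 0 + 1)
      unfold rjF
      rw [show 8 * n.val + 2 * 0 + 1 = 8 * n.val + 1 by ring, blkF_apply _ _ _ _ _ (by omega)]
      simp
  · show gI * ofF x (n, 0) = _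
    apply Zsqrtd.ext
    · rw [gI_mul_re]
      show -x (8 * n.val + 2 * 0 + 1) = rjF x (8 * n.val + 2 * 1)
      unfold rjF
      rw [blkF_apply _ _ _ _ _ (by omega)]
      simp
    · rw [gI_mul_im]
      show x (8 * n.val + 2 * 0) = rjF x (8 * n.val + 2 * 1 + 1)
      unfold rjF
      rw [show 8 * n.val + 2 * 1 + 1 = 8 * n.val + 3 by ring, blkF_apply _ _ _ _ _ (by omega)]
      simp
  · show ofF x (n, 3) = _
    apply Zsqrtd.ext
    · show x (8 * n.val + 2 * 3) = rjF x (8 * n.val + 2 * 2)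
      unfold rjF
      rw [blkF_apply _ _ _ _ _ (by omega)]
      simp
    · show x (8 * n.val + 2 * 3 + 1) = rjF x (8 * n.val + 2 * 2 + 1)
      unfold rjF
      rw [show 8 * n.val + 2 * 2 + 1 = 8 * n.val + 5 by ring, blkF_apply _ _ _ _ _ (by omega)]
      simp
  · show -ofF x (n, 2) = _
    apply Zsqrtd.ext
    · show -x (8 * n.val + 2 * 2) = rjF x (8 * n.val + 2 * 3)
      unfold rjF
      rw [blkF_apply _ _ _ _ _ (by omega)]
      simp
    · show -x (8 * n.val + 2 * 2 + 1) = rjF x (8 * n.val + 2 * 3 + 1)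
      unfold rjF
      rw [show 8 * n.val + 2 * 3 + 1 = 8 * n.val + 7 by ring, blkF_apply _ _ _ _ _ (by omega)]
      simp

theorem ruRk_ofF (x : ℕ → ℤ) : ruRk (ofF x) = ofF (rkF x) := by
  funext p
  obtain ⟨n, t⟩ := p
  fin_cases t
  · show gI * ofF x (n, 2) = _
    apply Zsqrtd.ext
    · rw [gI_mul_re]
      show -x (8 * n.val + 2 * 2 + 1) = rkF x (8 * n.val + 2 * 0)
      unfold rkF
      rw [blkF_apply _ _ _ _ _ (by omega)]
      simp
    · rw [gI_mul_im]
      show x (8 * n.val + 2 * 2) = rkF x (8 * n.val + 2 * 0 + 1)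
      unfold rkF
      rw [show 8 * n.val + 2 * 0 + 1 = 8 * n.val + 1 by ring, blkF_apply _ _ _ _ _ (by omega)]
      simp
  · show -ofF x (n, 3) = _
    apply Zsqrtd.ext
    · show -x (8 * n.val + 2 * 3) = rkF x (8 * n.val + 2 * 1)
      unfold rkF
      rw [blkF_apply _ _ _ _ _ (by omega)]
      simp
    · show -x (8 * n.val + 2 * 3 + 1) = rkF x (8 * n.val + 2 * 1 + 1)
      unfold rkF
      rw [show 8 * n.val + 2 * 1 + 1 = 8 * n.val + 3 by ring, blkF_apply _ _ _ _ _ (by omega)]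
      simp
  · show gI * ofF x (n, 0) = _
    apply Zsqrtd.ext
    · rw [gI_mul_re]
      show -x (8 * n.val + 2 * 0 + 1) = rkF x (8 * n.val + 2 * 2)
      unfold rkF
      rw [blkF_apply _ _ _ _ _ (by omega)]
      simp
    · rw [gI_mul_im]
      show x (8 * n.val + 2 * 0) = rkF x (8 * n.val + 2 * 2 + 1)
      unfold rkF
      rw [show 8 * n.val + 2 * 2 + 1 = 8 * n.val + 5 by ring, blkF_apply _ _ _ _ _ (by omega)]
      simp
  · show ofF x (n, 1) = _
    apply Zsqrtd.ext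
    · show x (8 * n.val + 2 * 1) = rkF x (8 * n.val + 2 * 3)
      unfold rkF
      rw [blkF_apply _ _ _ _ _ (by omega)]
      simp
    · show x (8 * n.val + 2 * 1 + 1) = rkF x (8 * n.val + 2 * 3 + 1)
      unfold rkF
      rw [show 8 * n.val + 2 * 3 + 1 = 8 * n.val + 7 by ring, blkF_apply _ _ _ _ _ (by omega)]
      simp

theorem ruSign_ofF (x : ℕ → ℤ) : ruSign (ofF x) = ofF (sgF x) := by
  funext p
  obtain ⟨n, t⟩ := p
  have hn := n.isLt
  have ht := t.isLt
  have h1 : (8 * n.val + 2 * t.val) / 8 = n.val := by omega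
  have h2 : (8 * n.val + 2 * t.val + 1) / 8 = n.val := by omega
  have e0 : (n = 0) ↔ n.val = 0 := Fin.ext_iff
  have e3 : (n = 3) ↔ n.val = 3 := Fin.ext_iff
  have e5 : (n = 5) ↔ n.val = 5 := Fin.ext_iff
  have e6 : (n = 6) ↔ n.val = 6 := Fin.ext_iff
  have e : (n = 0 ∨ n = 3 ∨ n = 5 ∨ n = 6) ↔ (n.val = 0 ∨ n.val = 3 ∨ n.val = 5 ∨ n.val = 6) := by
    rw [e0, e3, e5, e6]
  unfold ruSign
  show (if n = 0 ∨ n = 3 ∨ n = 5 ∨ n = 6 then -ofF x (n, t) else ofF x (n, t)) = _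
  by_cases h0 : n = 0 ∨ n = 3 ∨ n = 5 ∨ n = 6
  · have h := e.mp h0
    rw [if_pos h0]
    apply Zsqrtd.ext
    · show -x (8 * n.val + 2 * t.val) = sgF x (8 * n.val + 2 * t.val)
      unfold sgF
      rw [h1, if_pos h]
    · show -x (8 * n.val + 2 * t.val + 1) = sgF x (8 * n.val + 2 * t.val + 1)
      unfold sgF
      rw [h2, if_pos h]
  · have h : ¬(n.val = 0 ∨ n.val = 3 ∨ n.val = 5 ∨ n.val = 6) := fun h => h0 (e.mpr h)
    rw [if_neg h0]
    apply Zsqrtd.ext
    · show x (8 * n.val + 2 * t.val) = sgF x (8 * n.val + 2 * t.val)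
      unfold sgF
      rw [h1, if_neg h]
    · show x (8 * n.val + 2 * t.val + 1) = sgF x (8 * n.val + 2 * t.val + 1)
      unfold sgF
      rw [h2, if_neg h]

theorem ruShift_ofF (x : ℕ → ℤ) : ruShift (ofF x) = ofF (shF x) := by
  funext p
  obtain ⟨n, t⟩ := p
  have hn := n.isLt
  have ht := t.isLt
  have hv : (n + 1).val = (n.val + 1) % 7 := by
    rw [Fin.val_add]
    rfl
  show ofF x (n + 1, t) = _
  apply Zsqrtd.ext
  · show x (8 * (n + 1).val + 2 * t.val) = shF x (8 * n.val + 2 * t.val)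
    unfold shF
    rw [hv]
    congr 1
    have h1 : (8 * n.val + 2 * t.val) / 8 = n.val := by omega
    have h2 : (8 * n.val + 2 * t.val) % 8 = 2 * t.val := by omega
    rw [h1, h2]
  · show x (8 * (n + 1).val + 2 * t.val + 1) = shF x (8 * n.val + 2 * t.val + 1)
    unfold shF
    rw [hv]
    congr 1
    have h1 : (8 * n.val + 2 * t.val + 1) / 8 = n.val := by omega
    have h2 : (8 * n.val + 2 * t.val + 1) % 8 = 2 * t.val + 1 := by omega
    rw [h1, h2]
    ring

end Cfsg.Agent.Lib.Helper1.RuLat
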