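import Mathlib
import Cfsg.Agent.Lib.Helper1.RuL2
import Cfsg.Agent.Lib.Helper1.RuL1p
import Cfsg.Agent.Lib.Helper1.RuLD1

set_option autoImplicit false
set_option maxRecDepth 100000

/-!
# The rank 28 lattice over the Gaussian integers: a finite set of generators

The lattice is the group generated by ninety-three explicit vectors.
-/

namespace Cfsg.Agent.Lib.Helper1.RuLat

open Cfsg.Spor

/-- decoding of a table of coordinates -/
def decF (l : List ℕ) : ℕ → ℤ := fun q => (l.getD q 16 : ℤ) - 16

/-- the coordinates of the defining vectors -/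
def tblF (i : ℕ) : ℕ → ℤ := decF (tblT.getD i [])

/-- the coordinates of the generators -/
def genF (k : ℕ) : ℕ → ℤ := decF (genTbl.getD k [])

/-- the generators -/
def gen (k : ℕ) : RuVec := ofF (genF k)

/-- the group generated by the generators -/
def Lgen : AddSubgroup RuVec := AddSubgroup.closure (Set.range fun k : Fin 93 => gen k.val)

theorem gen_mem (k : ℕ) (hk : k < 93) : gen k ∈ Lgen :=
  AddSubgroup.subset_closure ⟨⟨k, hk⟩, rfl⟩

/-- the coefficient coded by an entry -/
def cfE (e : ℕ) : ℤ := ((e % 64 : ℕ) : ℤ) - 32

/-- the combination of generators coded by a list -/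
def linF (c : List ℕ) : ℕ → ℤ := fun q => c.foldr (fun e acc => cfE e * genF (e / 64) q + acc) 0

theorem linF_cons (e : ℕ) (c : List ℕ) : linF (e :: c) = cfE e • genF (e / 64) + linF c := by
  funext q
  rfl

theorem ofF_linF_mem (c : List ℕ) (hc : ∀ e ∈ c, e / 64 < 93) : ofF (linF c) ∈ Lgen := by
  induction c with
  | nil =>
    rw [show linF [] = 0 from rfl, ofF_zero]
    exact Lgen.zero_mem
  | cons e t ih =>
    rw [linF_cons, ofF_add, ofF_zsmul]
    exact Lgen.add_mem (Lgen.zsmul_mem (gen_mem _ (hc e (by simp))) _)
      (ih fun e' he' => hc e' (by simp [he']))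

/-! ### The packed form of the combinations -/

/-- the packed generators -/
def genP (k : ℕ) : ℤ := packL ((List.range 56).map (genF k))

theorem genP_eq (k : ℕ) : genP k = pack (genF k) := (pack_eq_packL _).symm

/-- the packed form of a combination -/
def linP (c : List ℕ) : ℤ := c.foldr (fun e acc => cfE e * genP (e / 64) + acc) 0

theorem pack_linF (c : List ℕ) : pack (linF c) = linP c := by
  induction c with
  | nil => exact packN_zero 56
  | cons e t ih =>
    rw [linF_cons]
    unfold pack at ih ⊢
    rw [packN_add, packN_smul, ih]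
    show _ = cfE e * genP (e / 64) + linP t
    rw [genP_eq]
    rfl

theorem decF_bound (l : List ℕ) (hl : ∀ a ∈ l, a ≤ 32) (q : ℕ) : |decF l q| ≤ 16 := by
  unfold decF
  have : l.getD q 16 ≤ 32 := by
    rw [List.getD_eq_getElem?_getD]
    rcases h : l[q]? with _ | a
    · simp
    · have := hl a (List.mem_of_getElem? h)
      simpa using this
  rw [abs_le]
  constructor <;> omega

theorem chk_genTbl : ∀ k < 93, ∀ a ∈ genTbl.getD k [], a ≤ 32 := by decide +kernel

theorem genF_bound (k q : ℕ) : |genF k q| ≤ 16 := by
  by_cases hk : k < 93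
  · exact decF_bound _ (chk_genTbl k hk) q
  · unfold genF
    rw [List.getD_eq_default _ _ (by
      have : genTbl.length = 93 := by decide
      omega)]
    exact decF_bound [] (by simp) q

theorem cfE_bound (e : ℕ) : |cfE e| ≤ 32 := by
  unfold cfE
  have : e % 64 < 64 := Nat.mod_lt _ (by norm_num)
  rw [abs_le]
  constructor <;> omega

theorem linF_bound (c : List ℕ) (q : ℕ) : |linF c q| ≤ 512 * c.length := by
  induction c with
  | nil => simp [linF]
  | cons e t ih =>
    rw [linF_cons, Pi.add_apply, Pi.smul_apply, smul_eq_mul, List.length_cons]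
    have h1 : |cfE e * genF (e / 64) q| ≤ 512 := by
      rw [abs_mul]
      calc |cfE e| * |genF (e / 64) q| ≤ 32 * 16 :=
            mul_le_mul (cfE_bound e) (genF_bound _ _) (abs_nonneg _) (by norm_num)
        _ = 512 := by norm_num
    calc |cfE e * genF (e / 64) q + linF t q| ≤ |cfE e * genF (e / 64) q| + |linF t q| :=
          abs_add_le _ _
      _ ≤ 512 + 512 * t.length := add_le_add h1 ih
      _ = 512 * ((t.length + 1 : ℕ) : ℤ) := by push_cast; ring

/-- a vector with small coordinates whose packing is that of a short combination is the combination -/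
theorem eq_linF_of_pack (x : ℕ → ℤ) (c : List ℕ) (hx : ∀ q < 56, |x q| ≤ 16) (hc : c.length ≤ 100)
    (h : pack x = linP c) : ∀ q < 56, x q = linF c q := by
  apply pack_inj
  · intro q hq
    have := hx q hq
    omega
  · intro q _
    have h1 := linF_bound c q
    have h2 : (512 : ℤ) * c.length ≤ 512 * 100 := by
      have : (c.length : ℤ) ≤ 100 := by exact_mod_cast hc
      omega
    omega
  · rw [h, pack_linF]

end Cfsg.Agent.Lib.Helper1.RuLat
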