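import Mathlib
import Cfsg.Agent.Lib.Helper1.RuL3
import Cfsg.Agent.Lib.Helper1.RuLD2

set_option autoImplicit false
set_option maxRecDepth 100000

/-!
# The rank 28 lattice over the Gaussian integers: the lattice is generated by the ninety-three vectors
-/

namespace Cfsg.Agent.Lib.Helper1.RuLat

open Cfsg.Spor

/-! ### The five maps -/

/-- the five maps on coordinates -/
def mapF (m : ℕ) : (ℕ → ℤ) → ℕ → ℤ :=
  if m = 0 then iF else if m = 1 then rjF else if m = 2 then rkF else if m = 3 then sgF else shF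

/-- the five maps on vectors -/
def mapV (m : ℕ) (v : RuVec) : RuVec :=
  if m = 0 then gI • v else if m = 1 then ruRj v else if m = 2 then ruRk v
  else if m = 3 then ruSign v else ruShift v

theorem mapV_ofF (m : ℕ) (x : ℕ → ℤ) : mapV m (ofF x) = ofF (mapF m x) := by
  unfold mapV mapF
  split_ifs
  · exact gI_smul_ofF x
  · exact ruRj_ofF x
  · exact ruRk_ofF x
  · exact ruSign_ofF x
  · exact ruShift_ofF x

theorem blkF_add (src : List ℕ) (sgn : List ℤ) (x y : ℕ → ℤ) :
    blkF src sgn (x + y) = blkF src sgn x + blkF src sgn y := by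
  funext q
  simp only [blkF, Pi.add_apply]
  ring

theorem sgF_add (x y : ℕ → ℤ) : sgF (x + y) = sgF x + sgF y := by
  funext q
  simp only [sgF, Pi.add_apply]
  split_ifs <;> ring

theorem shF_add (x y : ℕ → ℤ) : shF (x + y) = shF x + shF y := rfl

theorem mapF_add (m : ℕ) (x y : ℕ → ℤ) : mapF m (x + y) = mapF m x + mapF m y := by
  unfold mapF
  split_ifs
  · exact blkF_add _ _ x y
  · exact blkF_add _ _ x y
  · exact blkF_add _ _ x y
  · exact sgF_add x y
  · exact shF_add x y

theorem coord_add_fun (v w : RuVec) : coord (v + w) = coord v + coord w := by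
  funext q
  exact coord_add v w q

theorem mapV_eq (m : ℕ) (v : RuVec) : mapV m v = ofF (mapF m (coord v)) := by
  rw [← mapV_ofF, ofF_coord]

theorem mapV_add (m : ℕ) (v w : RuVec) : mapV m (v + w) = mapV m v + mapV m w := by
  rw [mapV_eq, mapV_eq m v, mapV_eq m w, coord_add_fun, mapF_add, ofF_add]

/-- the five maps as additive maps -/
def mapH (m : ℕ) : RuVec →+ RuVec := AddMonoidHom.mk' (mapV m) (mapV_add m)

theorem mapH_apply (m : ℕ) (v : RuVec) : mapH m v = mapV m v := rfl

theorem mapV_mem_ruLattice (m : ℕ) {v : RuVec} (hv : v ∈ ruLattice) : mapV m v ∈ ruLattice := by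
  rw [ruLattice, AddSubgroup.mem_sInf] at hv ⊢
  intro L hL
  have h := hL.2 v (hv L hL)
  unfold mapV
  split_ifs
  · exact h.1
  · exact h.2.1
  · exact h.2.2.1
  · exact h.2.2.2.1
  · exact h.2.2.2.2

theorem blkF_bound (src : List ℕ) (sgn : List ℤ) (hs : ∀ r < 8, |sgn.getD r 0| ≤ 1) (x : ℕ → ℤ)
    (hx : ∀ q, |x q| ≤ 16) (q : ℕ) : |blkF src sgn x q| ≤ 16 := by
  unfold blkF
  rw [abs_mul]
  have h1 := hs (q % 8) (Nat.mod_lt _ (by norm_num))
  have h2 := hx (q / 8 * 8 + src.getD (q % 8) 0)
  calc |sgn.getD (q % 8) 0| * |x (q / 8 * 8 + src.getD (q % 8) 0)| ≤ 1 * 16 :=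
        mul_le_mul h1 h2 (abs_nonneg _) (by norm_num)
    _ = 16 := by norm_num

theorem mapF_bound (m : ℕ) (x : ℕ → ℤ) (hx : ∀ q, |x q| ≤ 16) (q : ℕ) : |mapF m x q| ≤ 16 := by
  unfold mapF
  split_ifs
  · exact blkF_bound _ _ (by decide) x hx q
  · exact blkF_bound _ _ (by decide) x hx q
  · exact blkF_bound _ _ (by decide) x hx q
  · unfold sgF
    split_ifs
    · rw [abs_neg]; exact hx q
    · exact hx q
  · exact hx _

/-! ### The checks -/

/-- the packed form of a combination, from the table -/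
def linPT (c : List ℕ) : ℤ := c.foldr (fun e acc => cfE e * genPT.getD (e / 64) 0 + acc) 0

theorem chk_genPT : ∀ k < 93, genPT.getD k 0 = genP k := by decide +kernel

theorem linPT_eq (c : List ℕ) (hc : ∀ e ∈ c, e / 64 < 93) : linPT c = linP c := by
  induction c with
  | nil => rfl
  | cons e t ih =>
    show cfE e * genPT.getD (e / 64) 0 + linPT t = cfE e * genP (e / 64) + linP t
    rw [chk_genPT _ (hc e (by simp)), ih fun e' he' => hc e' (by simp [he'])]

/-- the check that a vector given by a table is the combination coded by a list -/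
def chkRow (f : (ℕ → ℤ) → ℕ → ℤ) (rc : List ℕ × List ℕ) : Bool :=
  rc.1.all (fun a => decide (a ≤ 32)) && rc.2.all (fun e => decide (e / 64 < 93)) &&
    decide (rc.2.length ≤ 100) &&
    decide (packL ((List.range 56).map (f (decF rc.1))) = linPT rc.2)

theorem chkRow_spec (f : (ℕ → ℤ) → ℕ → ℤ) (hf : ∀ x : ℕ → ℤ, (∀ q, |x q| ≤ 16) → ∀ q, |f x q| ≤ 16)
    (r c : List ℕ) (h : chkRow f (r, c) = true) :
    (∀ e ∈ c, e / 64 < 93) ∧ ∀ q < 56, f (decF r) q = linF c q := by
  unfold chkRow at h
  rw [Bool.and_eq_true, Bool.and_eq_true, Bool.and_eq_true, List.all_eq_true, List.all_eq_true] at h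
  obtain ⟨⟨⟨h1, h2⟩, h3⟩, h4⟩ := h
  have h2' : ∀ e ∈ c, e / 64 < 93 := fun e he => of_decide_eq_true (h2 e he)
  refine ⟨h2', ?_⟩
  apply eq_linF_of_pack _ _ _ (of_decide_eq_true h3)
  · rw [pack_eq_packL, of_decide_eq_true h4, linPT_eq _ h2']
  · intro q _
    exact hf _ (decF_bound r fun a ha => of_decide_eq_true (h1 a ha)) q

theorem all_zip_getD {α β : Type*} (l1 : List α) (l2 : List β) (f : α × β → Bool) (d1 : α) (d2 : β)
    (h : (l1.zip l2).all f = true) (k : ℕ) (h1 : k < l1.length) (h2 : k < l2.length) :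
    f (l1.getD k d1, l2.getD k d2) = true := by
  rw [List.all_eq_true] at h
  apply h
  rw [List.getD_eq_getElem _ _ h1, List.getD_eq_getElem _ _ h2]
  have hk : k < (l1.zip l2).length := by
    rw [List.length_zip]
    omega
  have := List.getElem_mem hk
  rwa [List.getElem_zip] at this

theorem chk_T : (tblT.zip certT).all (chkRow id) = true := by decide +kernel

theorem chk_M0 : (genTbl.zip certM0).all (chkRow iF) = true := by decide +kernel

theorem chk_M1 : (genTbl.zip certM1).all (chkRow rjF) = true := by decide +kernel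

theorem chk_M2 : (genTbl.zip certM2).all (chkRow rkF) = true := by decide +kernel

theorem chk_M3 : (genTbl.zip certM3).all (chkRow sgF) = true := by decide +kernel

theorem chk_M4 : (genTbl.zip certM4).all (chkRow shF) = true := by decide +kernel

end Cfsg.Agent.Lib.Helper1.RuLat
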