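import Mathlib
import Cfsg.Agent.Lib.Helper1.RuL4

set_option autoImplicit false
set_option maxRecDepth 100000

/-!
# The rank 28 lattice over the Gaussian integers: the lattice is generated by the ninety-three vectors
-/

namespace Cfsg.Agent.Lib.Helper1.RuLat

open Cfsg.Spor

theorem length_genTbl : genTbl.length = 93 := by decide

theorem mapV_gen_mem_aux (f : (ℕ → ℤ) → ℕ → ℤ) (m : ℕ) (hm : mapF m = f)
    (cert : List (List ℕ)) (hl : cert.length = 93)
    (h : (genTbl.zip cert).all (chkRow f) = true) (k : ℕ) (hk : k < 93) : mapV m (gen k) ∈ Lgen := by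
  have h1 := all_zip_getD genTbl cert (chkRow f) [] [] h k (by rw [length_genTbl]; exact hk)
    (by rw [hl]; exact hk)
  obtain ⟨h2, h3⟩ := chkRow_spec f (by rw [← hm]; exact mapF_bound m) _ _ h1
  unfold gen
  rw [mapV_ofF, hm]
  have e : ofF (f (genF k)) = ofF (linF (cert.getD k [])) := ofF_congr h3
  rw [e]
  exact ofF_linF_mem _ h2

theorem mapV_gen_mem (m : ℕ) (k : ℕ) (hk : k < 93) : mapV m (gen k) ∈ Lgen := by
  by_cases h0 : m = 0
  · subst h0
    exact mapV_gen_mem_aux iF 0 rfl certM0 (by decide) chk_M0 k hk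
  by_cases h1 : m = 1
  · subst h1
    exact mapV_gen_mem_aux rjF 1 rfl certM1 (by decide) chk_M1 k hk
  by_cases h2 : m = 2
  · subst h2
    exact mapV_gen_mem_aux rkF 2 rfl certM2 (by decide) chk_M2 k hk
  by_cases h3 : m = 3
  · subst h3
    exact mapV_gen_mem_aux sgF 3 rfl certM3 (by decide) chk_M3 k hk
  · have hm : mapF m = shF := by
      unfold mapF
      rw [if_neg h0, if_neg h1, if_neg h2, if_neg h3]
    exact mapV_gen_mem_aux shF m hm certM4 (by decide) chk_M4 k hk

theorem mapV_mem_Lgen (m : ℕ) {v : RuVec} (hv : v ∈ Lgen) : mapV m v ∈ Lgen := by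
  unfold Lgen at hv
  induction hv using AddSubgroup.closure_induction with
  | mem v hv =>
    obtain ⟨k, rfl⟩ := hv
    exact mapV_gen_mem m k.val k.isLt
  | zero =>
    rw [← mapH_apply, map_zero]
    exact Lgen.zero_mem
  | add v w _ _ hv hw =>
    rw [mapV_add]
    exact Lgen.add_mem hv hw
  | neg v _ hv =>
    rw [← mapH_apply, map_neg]
    exact Lgen.neg_mem hv

/-! ### The defining vectors -/

theorem chk_tbl : ∀ i < 20, ∀ q < 56, coord (ruTable.getD i 0) q = tblF i q := by decide +kernel

theorem ruTable_getD (i : ℕ) : ruTable.getD i 0 = ofF (tblF i) := by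
  by_cases hi : i < 20
  · rw [← ofF_coord (ruTable.getD i 0)]
    exact ofF_congr (chk_tbl i hi)
  · have h1 : ruTable.length = 20 := rfl
    have h2 : tblT.length = 20 := by decide
    rw [List.getD_eq_default _ _ (by omega)]
    unfold tblF
    rw [List.getD_eq_default _ _ (by omega)]
    symm
    rw [← ofF_zero]
    apply ofF_congr
    intro q _
    simp [decF]

theorem table_mem_Lgen (v : RuVec) (hv : v ∈ ruTable) : v ∈ Lgen := by
  obtain ⟨i, hi, rfl⟩ := List.mem_iff_getElem.mp hv
  have h20 : ruTable.length = 20 := rfl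
  have h20' : tblT.length = 20 := by decide
  have hc : certT.length = 20 := by decide
  rw [← List.getD_eq_getElem _ 0 hi, ruTable_getD]
  have h1 := all_zip_getD tblT certT (chkRow id) [] [] chk_T i (by omega) (by omega)
  obtain ⟨h2, h3⟩ := chkRow_spec id (fun x hx => hx) _ _ h1
  have e : ofF (tblF i) = ofF (linF (certT.getD i [])) := ofF_congr h3
  rw [e]
  exact ofF_linF_mem _ h2

theorem Lgen_closed : Lgen ∈ ruClosed := by
  refine ⟨table_mem_Lgen, fun v hv => ⟨?_, ?_, ?_, ?_, ?_⟩⟩
  · exact mapV_mem_Lgen 0 hv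
  · exact mapV_mem_Lgen 1 hv
  · exact mapV_mem_Lgen 2 hv
  · exact mapV_mem_Lgen 3 hv
  · exact mapV_mem_Lgen 4 hv

theorem ruLattice_le_Lgen : ruLattice ≤ Lgen := sInf_le Lgen_closed

/-! ### The generators belong to the lattice -/

/-- the image of a defining vector under a sequence of maps, in coordinates -/
def wordF (w : List ℕ) : ℕ → ℤ :=
  match w with
  | [] => 0
  | i :: ms => ms.foldr (fun m acc => mapF m acc) (tblF i)

/-- the image of a defining vector under a sequence of maps -/
def wordV (w : List ℕ) : RuVec :=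
  match w with
  | [] => 0
  | i :: ms => ms.foldr (fun m acc => mapV m acc) (ruTable.getD i 0)

theorem wordV_eq (w : List ℕ) : wordV w = ofF (wordF w) := by
  rcases w with _ | ⟨i, ms⟩
  · exact ofF_zero.symm
  · show ms.foldr (fun m acc => mapV m acc) (ruTable.getD i 0) =
      ofF (ms.foldr (fun m acc => mapF m acc) (tblF i))
    induction ms with
    | nil => exact ruTable_getD i
    | cons m t ih =>
      rw [List.foldr_cons, List.foldr_cons, ih, mapV_ofF]

theorem wordV_mem (w : List ℕ) : wordV w ∈ ruLattice := by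
  rcases w with _ | ⟨i, ms⟩
  · exact ruLattice.zero_mem
  · show ms.foldr (fun m acc => mapV m acc) (ruTable.getD i 0) ∈ ruLattice
    induction ms with
    | nil =>
      show ruTable.getD i 0 ∈ ruLattice
      by_cases hi : i < ruTable.length
      · rw [List.getD_eq_getElem _ _ hi, ruLattice, AddSubgroup.mem_sInf]
        intro L hL
        exact hL.1 _ (List.getElem_mem hi)
      · rw [List.getD_eq_default _ _ (by omega)]
        exact ruLattice.zero_mem
    | cons m t ih =>
      rw [List.foldr_cons]
      exact mapV_mem_ruLattice m ih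

theorem chk_words : ∀ k < 93, ∀ q < 56,
    genF k q = wordF (wordsG.getD k []) q - wordF (wordsH.getD k []) q := by decide +kernel

theorem gen_mem_ruLattice (k : ℕ) (hk : k < 93) : gen k ∈ ruLattice := by
  have : gen k = wordV (wordsG.getD k []) - wordV (wordsH.getD k []) := by
    rw [wordV_eq, wordV_eq, ← ofF_sub]
    exact ofF_congr (chk_words k hk)
  rw [this]
  exact ruLattice.sub_mem (wordV_mem _) (wordV_mem _)

theorem Lgen_le_ruLattice : Lgen ≤ ruLattice := by
  unfold Lgen
  rw [AddSubgroup.closure_le]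
  rintro _ ⟨k, rfl⟩
  exact gen_mem_ruLattice k.val k.isLt

/-- the lattice is generated by the ninety-three vectors -/
theorem ruLattice_eq : ruLattice = Lgen := le_antisymm ruLattice_le_Lgen Lgen_le_ruLattice

end Cfsg.Agent.Lib.Helper1.RuLat
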