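import Mathlib

set_option autoImplicit false
set_option maxRecDepth 100000

/-!
# Sets of positions below 56 as numbers

Counting of ones, masks of lists, deposit and extraction of bits.
-/

namespace Cfsg.Agent.Lib.Helper1.RuLat

/-- the positions -/
def R56 : List ℕ := List.range 56

/-- the number of ones among the first 56 bits -/
def pc (m : ℕ) : ℕ := R56.countP fun q => m.testBit q

theorem countP_xor_mod (l : List ℕ) (f g : ℕ → Bool) :
    (l.countP fun q => f q ^^ g q) % 2 = (l.countP f + l.countP g) % 2 := by
  induction l with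
  | nil => rfl
  | cons a t ih =>
    rw [List.countP_cons, List.countP_cons, List.countP_cons]
    cases hf : f a <;> cases hg : g a <;> simp <;> omega

theorem pc_xor (a b : ℕ) : pc (a ^^^ b) % 2 = (pc a + pc b) % 2 := by
  unfold pc
  rw [← countP_xor_mod]
  congr 2
  funext q
  rw [Nat.testBit_xor]

theorem pc_zero : pc 0 = 0 := by
  unfold pc
  rw [List.countP_eq_zero]
  intro q _
  simp

theorem pc_and_two_pow (m p : ℕ) (hp : p < 56) : pc (m &&& 2 ^ p) = (m.testBit p).toNat := by
  unfold pc
  cases h : m.testBit p
  · show List.countP (fun q => (m &&& 2 ^ p).testBit q) R56 = 0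
    rw [List.countP_eq_zero]
    intro q _
    rw [Nat.testBit_and, Nat.testBit_two_pow]
    by_cases hq : p = q
    · subst hq; simp [h]
    · simp [hq]
  · have : (fun q => (m &&& 2 ^ p).testBit q) = fun q => decide (q = p) := by
      funext q
      rw [Nat.testBit_and, Nat.testBit_two_pow]
      by_cases hq : p = q
      · subst hq; simp [h]
      · have : ¬ q = p := fun e => hq e.symm
        simp [hq, this]
    rw [this]
    show List.countP (fun q => decide (q = p)) R56 = 1
    have h1 : R56.count p = 1 :=
      List.count_eq_one_of_mem List.nodup_range (List.mem_range.mpr hp)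
    rw [← h1, List.count]
    congr 1

theorem testBit_of_pc_eq_zero (m : ℕ) (h : pc m = 0) (q : ℕ) (hq : q < 56) : m.testBit q = false := by
  unfold pc at h
  rw [List.countP_eq_zero] at h
  have := h q (List.mem_range.mpr hq)
  simpa using this

theorem eq_zero_of_pc (m : ℕ) (hm : m < 2 ^ 56) (h : pc m = 0) : m = 0 := by
  apply Nat.eq_of_testBit_eq
  intro q
  rw [Nat.zero_testBit]
  by_cases hq : q < 56
  · exact testBit_of_pc_eq_zero m h q hq
  · exact Nat.testBit_lt_two_pow (lt_of_lt_of_le hm (Nat.pow_le_pow_right (by norm_num) (by omega)))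

/-! ### The mask of a list of positions -/

/-- the number with ones at the positions of the list -/
def maskL (l : List ℕ) : ℕ := l.foldr (fun p acc => 2 ^ p ||| acc) 0

theorem testBit_maskL (l : List ℕ) (i : ℕ) : (maskL l).testBit i = decide (i ∈ l) := by
  induction l with
  | nil => simp [maskL]
  | cons p t ih =>
    show (2 ^ p ||| maskL t).testBit i = _
    rw [Nat.testBit_or, ih, Nat.testBit_two_pow]
    by_cases h : p = i
    · subst h; simp
    · have : ¬ i = p := fun e => h e.symm
      simp [h, this]

/-- the list of the positions of the ones -/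
def bitsL (m : ℕ) : List ℕ := R56.filter fun q => m.testBit q

theorem maskL_bitsL (m : ℕ) (hm : m < 2 ^ 56) : maskL (bitsL m) = m := by
  apply Nat.eq_of_testBit_eq
  intro i
  rw [testBit_maskL]
  unfold bitsL R56
  by_cases hi : i < 56
  · cases h : m.testBit i <;> simp [List.mem_filter, hi, h]
  · have : m.testBit i = false :=
      Nat.testBit_lt_two_pow (lt_of_lt_of_le hm (Nat.pow_le_pow_right (by norm_num) (by omega)))
    simp [List.mem_filter, hi, this]

theorem length_bitsL (m : ℕ) : (bitsL m).length = pc m := by
  unfold bitsL pc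
  rw [List.countP_eq_length_filter]

theorem bitsL_sublist (m : ℕ) : (bitsL m).Sublist R56 := List.filter_sublist

theorem pc_and_eq_countP (m e : ℕ) : pc (m &&& e) = (bitsL e).countP fun q => m.testBit q := by
  unfold pc bitsL
  rw [List.countP_filter]
  congr 1
  funext q
  rw [Nat.testBit_and]

/-! ### Deposit and extraction of bits -/

/-- deposit of the bits of a number at the positions of a list -/
def dep : List ℕ → ℕ → ℕ
  | [], _ => 0
  | f :: t, k => (if k % 2 = 1 then 2 ^ f else 0) ||| dep t (k / 2)

/-- extraction of the bits at the positions of a list -/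
def ext : List ℕ → ℕ → ℕ
  | [], _ => 0
  | f :: t, m => (if m.testBit f then 1 else 0) + 2 * ext t m

theorem and_two_pow (m f : ℕ) : m &&& 2 ^ f = if m.testBit f then 2 ^ f else 0 := by
  apply Nat.eq_of_testBit_eq
  intro i
  rw [Nat.testBit_and, Nat.testBit_two_pow]
  by_cases h : f = i
  · subst h
    cases hm : m.testBit f <;> simp
  · cases hm : m.testBit f <;> simp [h]

theorem dep_ext (l : List ℕ) (m : ℕ) : dep l (ext l m) = m &&& maskL l := by
  induction l with
  | nil => simp [dep, maskL]
  | cons f t ih =>
    show (if ext (f :: t) m % 2 = 1 then 2 ^ f else 0) ||| dep t (ext (f :: t) m / 2) =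
      m &&& (2 ^ f ||| maskL t)
    have h1 : ext (f :: t) m % 2 = if m.testBit f then 1 else 0 := by
      show ((if m.testBit f then 1 else 0) + 2 * ext t m) % 2 = _
      split_ifs <;> omega
    have h2 : ext (f :: t) m / 2 = ext t m := by
      show ((if m.testBit f then 1 else 0) + 2 * ext t m) / 2 = _
      split_ifs <;> omega
    rw [h1, h2, ih, Nat.and_or_distrib_left, and_two_pow]
    cases m.testBit f <;> simp

theorem ext_lt (l : List ℕ) (m : ℕ) : ext l m < 2 ^ l.length := by
  induction l with
  | nil => simp [ext]
  | cons f t ih =>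
    show (if m.testBit f then 1 else 0) + 2 * ext t m < 2 ^ (t.length + 1)
    rw [pow_succ]
    split_ifs <;> omega

/-! ### Fast counting of ones -/

/-- the table of the numbers of ones of the bytes -/
def pc8T : ℕ := 0x8776766576656554766565546554544376656554655454436554544354434332766565546554544365545443544343326554544354434332544343324332322176656554655454436554544354434332655454435443433254434332433232216554544354434332544343324332322154434332433232214332322132212110

/-- the number of ones of a byte -/
def pc8 (b : ℕ) : ℕ := (pc8T >>> (4 * b)) &&& 15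

/-- the number of ones among the first 56 bits, computed bytewise -/
def pcF (m : ℕ) : ℕ :=
  pc8 (m &&& 255) + pc8 ((m >>> 8) &&& 255) + pc8 ((m >>> 16) &&& 255) + pc8 ((m >>> 24) &&& 255) +
    pc8 ((m >>> 32) &&& 255) + pc8 ((m >>> 40) &&& 255) + pc8 ((m >>> 48) &&& 255)

theorem pc8_spec : ∀ v < 256, pc8 v = (List.range 8).countP fun i => v.testBit i := by decide +kernel

theorem testBit_byte (m s i : ℕ) (hi : i < 8) : ((m >>> s) &&& 255).testBit i = m.testBit (s + i) := by
  rw [Nat.testBit_and, Nat.testBit_shiftRight]
  have : (255 : ℕ).testBit i = true := by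
    interval_cases i <;> rfl
  rw [this, Bool.and_true]

theorem byte_lt (m s : ℕ) : (m >>> s) &&& 255 < 256 := Nat.and_lt_two_pow _ (by norm_num : 255 < 2 ^ 8)

theorem pc8_byte (m s : ℕ) :
    pc8 ((m >>> s) &&& 255) = (List.range 8).countP fun i => m.testBit (s + i) := by
  rw [pc8_spec _ (byte_lt m s)]
  apply List.countP_congr
  intro i hi
  rw [testBit_byte m s i (List.mem_range.mp hi)]

theorem R56_eq : R56 = (List.range 8).map (0 + ·) ++ (List.range 8).map (8 + ·) ++
    (List.range 8).map (16 + ·) ++ (List.range 8).map (24 + ·) ++ (List.range 8).map (32 + ·) ++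
    (List.range 8).map (40 + ·) ++ (List.range 8).map (48 + ·) := by decide

theorem pcF_eq (m : ℕ) : pcF m = pc m := by
  unfold pcF pc
  rw [R56_eq]
  simp only [List.countP_append, List.countP_map]
  have h0 : m &&& 255 = (m >>> 0) &&& 255 := by rw [Nat.shiftRight_zero]
  rw [h0, pc8_byte, pc8_byte, pc8_byte, pc8_byte, pc8_byte, pc8_byte, pc8_byte]
  rfl

end Cfsg.Agent.Lib.Helper1.RuLat
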