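import Mathlib

set_option autoImplicit false

/-! The rank 28 lattice over the Gaussian integers: the positions of the entries `1` and `-1` of the first
nineteen generators. -/

namespace Cfsg.Agent.Lib.Helper1.RuLat

/-- the positions of the entries `1` -/
def PT : List ℕ := [0x4040140044000, 0x20014008802000, 0x10400404401000, 0x2400200000a080, 0x8009000008880, 0x19006400004080, 0x88400800004080, 0x2001080082080, 0x960400040, 0x204100040, 0x4600000040, 0x1408000100000, 0x18011040200000, 0x4820040800800, 0x24401020800000, 0x8800110000000, 0x20200400084080, 0x6022498208000, 0x10810000804080]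

/-- the positions of the entries `-1` -/
def NT : List ℕ := [0x40101010010155, 0x1800801100455, 0x2028002200855, 0x82004500000915, 0x51000a00002115, 0x40000100001615, 0x24006600125, 0x10280120020425, 0xa00a190025, 0x5491490025, 0x106aa60025, 0x40290842010905, 0x980202020905, 0x20284402040105, 0x260208040605, 0x10252004225005, 0x10880a0020119, 0x80001010111, 0x2002209100116]

end Cfsg.Agent.Lib.Helper1.RuLat
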