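import Mathlib
import Cfsg.Agent.Lib.Helper1.RuL5
import Cfsg.Agent.Lib.Helper1.RuL6
import Cfsg.Agent.Lib.Helper1.RuLD3

set_option autoImplicit false
set_option maxRecDepth 100000

/-!
# The rank 28 lattice over the Gaussian integers: congruences satisfied by the vectors of the lattice

The coordinates of a vector of the lattice are, modulo 2, a combination of the first nineteen generators,
and its products with these generators are divisible by 4.
-/

namespace Cfsg.Agent.Lib.Helper1.RuLat

open Cfsg.Spor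

/-! ### More on coordinates -/

theorem coord_zero (q : ℕ) : coord 0 q = 0 := by
  unfold coord
  split_ifs <;> rfl

theorem coord_neg (v : RuVec) (q : ℕ) : coord (-v) q = -coord v q := by
  have h := coord_add v (-v) q
  rw [add_neg_cancel, coord_zero] at h
  linarith

theorem coord_gen (k q : ℕ) (hq : q < 56) : coord (gen k) q = genF k q := coord_ofF _ q hq

/-- the sum over the coordinates -/
def sumR (f : ℕ → ℤ) : ℤ := (R56.map f).sum

theorem sum_range_eq (n : ℕ) (f : ℕ → ℤ) : ∑ q ∈ Finset.range n, f q = ((List.range n).map f).sum := by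
  induction n with
  | zero => rfl
  | succ n ih =>
    rw [Finset.sum_range_succ, ih, List.range_succ, List.map_append, List.sum_append]
    simp

theorem sumR_eq (f : ℕ → ℤ) : sumR f = ∑ q ∈ Finset.range 56, f q := (sum_range_eq 56 f).symm

theorem sumR_add (f g : ℕ → ℤ) : sumR (fun q => f q + g q) = sumR f + sumR g := List.sum_map_add

theorem sumR_congr {f g : ℕ → ℤ} (h : ∀ q < 56, f q = g q) : sumR f = sumR g := by
  unfold sumR
  congr 1
  apply List.map_congr_left
  intro q hq
  exact h q (List.mem_range.mp hq)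

theorem sumR_modEq (n : ℤ) {f g : ℕ → ℤ} (h : ∀ q < 56, f q ≡ g q [ZMOD n]) : sumR f ≡ sumR g [ZMOD n] := by
  rw [sumR_eq, sumR_eq]
  apply Int.ModEq.sum
  intro q hq
  exact h q (Finset.mem_range.mp hq)

/-- the product of two families of coordinates -/
def dotF (x y : ℕ → ℤ) : ℤ := sumR fun q => x q * y q

/-! ### The masks of the odd entries -/

/-- the combination of the masks selected by the bits of a number -/
def MYl : List ℕ → ℕ → ℕ
  | [], _ => 0
  | m :: t, Y => (if Y % 2 = 1 then m else 0) ^^^ MYl t (Y / 2)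

theorem MYl_zero (Ms : List ℕ) : MYl Ms 0 = 0 := by
  induction Ms with
  | nil => rfl
  | cons m t ih =>
    show (if 0 % 2 = 1 then m else 0) ^^^ MYl t (0 / 2) = 0
    rw [Nat.zero_div, ih]
    simp

theorem MYl_xor (Ms : List ℕ) : ∀ Y Y' : ℕ, MYl Ms (Y ^^^ Y') = MYl Ms Y ^^^ MYl Ms Y' := by
  induction Ms with
  | nil => intro Y Y'; show 0 = 0 ^^^ 0; simp
  | cons m t ih =>
    intro Y Y'
    show (if (Y ^^^ Y') % 2 = 1 then m else 0) ^^^ MYl t ((Y ^^^ Y') / 2) =
      ((if Y % 2 = 1 then m else 0) ^^^ MYl t (Y / 2)) ^^^ ((if Y' % 2 = 1 then m else 0) ^^^ MYl t (Y' / 2))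
    rw [Nat.xor_div_two, ih, Nat.xor_mod_two_eq]
    apply Nat.eq_of_testBit_eq
    intro i
    have h1 := Nat.mod_two_eq_zero_or_one Y
    have h2 := Nat.mod_two_eq_zero_or_one Y'
    rcases h1 with h1 | h1 <;> rcases h2 with h2 | h2 <;>
      · have : (Y + Y') % 2 = (Y % 2 + Y' % 2) % 2 := Nat.add_mod _ _ _
        rw [this, h1, h2]
        simp only [Nat.testBit_xor]
        cases m.testBit i <;> cases (MYl t (Y / 2)).testBit i <;> cases (MYl t (Y' / 2)).testBit i <;> simp

theorem MYl_two_pow (Ms : List ℕ) : ∀ k : ℕ, MYl Ms (2 ^ k) = Ms.getD k 0 := by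
  induction Ms with
  | nil => intro k; rfl
  | cons m t ih =>
    intro k
    rcases k with _ | k
    · show (if 2 ^ 0 % 2 = 1 then m else 0) ^^^ MYl t (2 ^ 0 / 2) = m
      rw [show 2 ^ 0 / 2 = 0 by norm_num, MYl_zero]
      simp
    · show (if 2 ^ (k + 1) % 2 = 1 then m else 0) ^^^ MYl t (2 ^ (k + 1) / 2) = t.getD k 0
      have h1 : 2 ^ (k + 1) % 2 = 0 := by rw [pow_succ]; omega
      have h2 : 2 ^ (k + 1) / 2 = 2 ^ k := by rw [pow_succ]; omega
      rw [h1, h2, ih]
      simp

theorem MYl_lt (Ms : List ℕ) (h : ∀ m ∈ Ms, m < 2 ^ 56) : ∀ Y : ℕ, MYl Ms Y < 2 ^ 56 := by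
  induction Ms with
  | nil => intro Y; show 0 < 2 ^ 56; norm_num
  | cons m t ih =>
    intro Y
    show (if Y % 2 = 1 then m else 0) ^^^ MYl t (Y / 2) < 2 ^ 56
    apply Nat.xor_lt_two_pow
    · split_ifs
      · exact h m (by simp)
      · norm_num
    · exact ih (fun m' hm' => h m' (by simp [hm'])) _

/-- the masks of the odd entries of the first nineteen generators -/
def MT : List ℕ := List.zipWith (fun a b => a ||| b) PT NT

/-- the mask of the odd entries of a combination of the first nineteen generators -/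
def MY (Y : ℕ) : ℕ := MYl MT Y

theorem MY_lt (Y : ℕ) : MY Y < 2 ^ 56 := MYl_lt MT (by decide) Y

theorem chk_PN : ∀ j < 19, PT.getD j 0 &&& NT.getD j 0 = 0 ∧ MT.getD j 0 = PT.getD j 0 ||| NT.getD j 0 ∧
    ∀ q < 56, genF j q = (if (PT.getD j 0).testBit q then 1 else 0) -
      (if (NT.getD j 0).testBit q then 1 else 0) := by decide +kernel

theorem chk_even : ∀ k < 93, 19 ≤ k → ∀ q < 56, genF k q % 2 = 0 := by decide +kernel

theorem chk_four : ∀ k < 93, 37 ≤ k → ∀ q < 56, (4 : ℤ) ∣ genF k q := by decide +kernel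

theorem genF_odd (j : ℕ) (hj : j < 19) (q : ℕ) (hq : q < 56) :
    decide (genF j q % 2 = 1) = (MT.getD j 0).testBit q := by
  obtain ⟨h1, h2, h3⟩ := chk_PN j hj
  rw [h3 q hq, h2, Nat.testBit_or]
  have hd : ((PT.getD j 0).testBit q && (NT.getD j 0).testBit q) = false := by
    rw [← Nat.testBit_and, h1, Nat.zero_testBit]
  cases hp : (PT.getD j 0).testBit q <;> cases hn : (NT.getD j 0).testBit q <;> simp_all

/-! ### The residues -/

theorem decide_add_mod (a b : ℤ) :
    decide ((a + b) % 2 = 1) = (decide (a % 2 = 1) ^^ decide (b % 2 = 1)) := by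
  rcases Int.emod_two_eq_zero_or_one a with ha | ha <;> rcases Int.emod_two_eq_zero_or_one b with hb | hb <;>
    · have : (a + b) % 2 = (a % 2 + b % 2) % 2 := Int.add_emod _ _ _
      rw [this, ha, hb]
      simp

/-- the odd coordinates of a vector of the lattice are those of a combination of the first generators -/
theorem residue (v : RuVec) (hv : v ∈ ruLattice) :
    ∃ Y < 2 ^ 19, ∀ q < 56, decide (coord v q % 2 = 1) = (MY Y).testBit q := by
  rw [ruLattice_eq] at hv
  unfold Lgen at hv
  induction hv using AddSubgroup.closure_induction with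
  | mem v hv =>
    obtain ⟨k, rfl⟩ := hv
    by_cases hk : k.val < 19
    · refine ⟨2 ^ k.val, Nat.pow_lt_pow_right (by norm_num) hk, fun q hq => ?_⟩
      show decide (coord (gen k.val) q % 2 = 1) = _
      rw [coord_gen _ _ hq, MY, MYl_two_pow]
      exact genF_odd _ hk q hq
    · refine ⟨0, by norm_num, fun q hq => ?_⟩
      show decide (coord (gen k.val) q % 2 = 1) = _
      rw [coord_gen _ _ hq, MY, MYl_zero, Nat.zero_testBit, chk_even k.val k.isLt (by omega) q hq]
      rfl
  | zero =>
    refine ⟨0, by norm_num, fun q _ => ?_⟩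
    rw [coord_zero, MY, MYl_zero, Nat.zero_testBit]
    rfl
  | add v w _ _ hv hw =>
    obtain ⟨Y, hY, h1⟩ := hv
    obtain ⟨Y', hY', h2⟩ := hw
    refine ⟨Y ^^^ Y', Nat.xor_lt_two_pow hY hY', fun q hq => ?_⟩
    rw [coord_add, decide_add_mod, h1 q hq, h2 q hq]
    unfold MY
    rw [MYl_xor, Nat.testBit_xor]
  | neg v _ hv =>
    obtain ⟨Y, hY, h1⟩ := hv
    refine ⟨Y, hY, fun q hq => ?_⟩
    rw [coord_neg, ← h1 q hq]
    congr 1
    apply propext
    constructor <;> intro h <;> omega

/-! ### The products with the first generators -/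

/-- the product of two tables of coordinates -/
def dotL (r1 r2 : List ℕ) : ℤ := ((r1.zip r2).map fun ab => ((ab.1 : ℤ) - 16) * ((ab.2 : ℤ) - 16)).sum

theorem dotF_decF (r1 r2 : List ℕ) (h1 : r1.length = 56) (h2 : r2.length = 56) :
    dotF (decF r1) (decF r2) = dotL r1 r2 := by
  unfold dotF sumR dotL
  congr 1
  apply List.ext_getElem
  · simp [R56, h1, h2]
  · intro q hq1 hq2
    have hq : q < 56 := by simpa [R56] using hq1
    simp only [List.getElem_map, List.getElem_zip, R56, List.getElem_range, decF]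
    rw [List.getD_eq_getElem _ _ (by omega), List.getD_eq_getElem _ _ (by omega)]

theorem chk_gram : ((genTbl.take 19).all fun r1 => (genTbl.take 37).all fun r2 =>
    decide (r1.length = 56) && decide (r2.length = 56) && decide (dotL r1 r2 % 4 = 0)) = true := by
  decide +kernel

theorem dot_gen_gen (j : ℕ) (hj : j < 19) (k : ℕ) (hk : k < 93) : 4 ∣ dotF (genF j) (genF k) := by
  by_cases hk' : k < 37
  · have h := chk_gram
    rw [List.all_eq_true] at h
    have hl : genTbl.length = 93 := length_genTbl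
    have h1 := h (genTbl.getD j []) (by
      rw [List.getD_eq_getElem _ _ (by omega)]
      rw [List.mem_take_iff_getElem]
      exact ⟨j, by omega, rfl⟩)
    rw [List.all_eq_true] at h1
    have h2 := h1 (genTbl.getD k []) (by
      rw [List.getD_eq_getElem _ _ (by omega)]
      rw [List.mem_take_iff_getElem]
      exact ⟨k, by omega, rfl⟩)
    rw [Bool.and_eq_true, Bool.and_eq_true] at h2
    unfold genF
    rw [dotF_decF _ _ (of_decide_eq_true h2.1.1) (of_decide_eq_true h2.1.2)]
    exact Int.dvd_of_emod_eq_zero (of_decide_eq_true h2.2)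
  · -- the multiples of four
    unfold dotF
    rw [sumR_eq]
    apply Finset.dvd_sum
    intro q hq
    have hq' := Finset.mem_range.mp hq
    have : (4 : ℤ) ∣ genF k q := chk_four k hk (by omega) q hq'
    exact Dvd.dvd.mul_left this _

end Cfsg.Agent.Lib.Helper1.RuLat
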