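import Mathlib
import Cfsg.Agent.Lib.Helper1.RuL7

set_option autoImplicit false
set_option maxRecDepth 100000

/-!
# The rank 28 lattice over the Gaussian integers: the congruences in terms of sets of positions

A vector with coordinates of absolute value at most 2 is described by three sets of positions: the odd
coordinates, the coordinates `-1`, the coordinates `2` and `-2`.
-/

namespace Cfsg.Agent.Lib.Helper1.RuLat

open Cfsg.Spor

theorem dot_mem (v : RuVec) (hv : v ∈ ruLattice) (j : ℕ) (hj : j < 19) :
    (4 : ℤ) ∣ dotF (genF j) (coord v) := by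
  rw [ruLattice_eq] at hv
  unfold Lgen at hv
  induction hv using AddSubgroup.closure_induction with
  | mem v hv =>
    obtain ⟨k, rfl⟩ := hv
    have : dotF (genF j) (coord (gen k.val)) = dotF (genF j) (genF k.val) := by
      unfold dotF
      apply sumR_congr
      intro q hq
      rw [coord_gen _ _ hq]
    rw [this]
    exact dot_gen_gen j hj k.val k.isLt
  | zero =>
    have : dotF (genF j) (coord 0) = 0 := by
      unfold dotF sumR
      simp [coord_zero]
    rw [this]
    exact dvd_zero _
  | add v w _ _ hv hw =>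
    have : dotF (genF j) (coord (v + w)) = dotF (genF j) (coord v) + dotF (genF j) (coord w) := by
      unfold dotF
      rw [← sumR_add]
      apply sumR_congr
      intro q _
      rw [coord_add]
      ring
    rw [this]
    exact dvd_add hv hw
  | neg v _ hv =>
    have : dotF (genF j) (coord (-v)) = -dotF (genF j) (coord v) := by
      have h0 : dotF (genF j) (coord (-v)) + dotF (genF j) (coord v) = 0 := by
        unfold dotF
        rw [← sumR_add]
        have : (fun q => genF j q * coord (-v) q + genF j q * coord v q) = fun _ => 0 := by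
          funext q
          rw [coord_neg]
          ring
        rw [this]
        unfold sumR
        simp
      linarith
    rw [this]
    exact (dvd_neg).mpr hv

/-! ### The three sets of positions of a vector -/

/-- the set of positions given by a family of truth values -/
def mkB (f : ℕ → Bool) : ℕ := Nat.ofBits fun i : Fin 56 => f i.val

theorem testBit_mkB (f : ℕ → Bool) (q : ℕ) (hq : q < 56) : (mkB f).testBit q = f q :=
  Nat.testBit_ofBits_lt _ q hq

theorem mkB_lt (f : ℕ → Bool) : mkB f < 2 ^ 56 := Nat.ofBits_lt_two_pow _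

theorem testBit_mkB_ge (f : ℕ → Bool) (q : ℕ) (hq : 56 ≤ q) : (mkB f).testBit q = false :=
  Nat.testBit_ofBits_ge _ q hq

theorem pc_mkB (f : ℕ → Bool) : pc (mkB f) = R56.countP f := by
  unfold pc
  apply List.countP_congr
  intro q hq
  rw [testBit_mkB f q (List.mem_range.mp hq)]

theorem sum_toNat (l : List ℕ) (f : ℕ → Bool) : (l.map fun q => ((f q).toNat : ℤ)).sum = (l.countP f : ℤ) := by
  induction l with
  | nil => rfl
  | cons a t ih =>
    rw [List.map_cons, List.sum_cons, ih, List.countP_cons]
    cases f a <;> simp <;> ring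

theorem sumR_toNat (f : ℕ → Bool) : sumR (fun q => ((f q).toNat : ℤ)) = (pc (mkB f) : ℤ) := by
  rw [pc_mkB]
  exact sum_toNat R56 f

theorem sumR_testBit (m : ℕ) : sumR (fun q => ((m.testBit q).toNat : ℤ)) = (pc m : ℤ) :=
  sum_toNat R56 _

/-- the odd coordinates -/
def maskS (x : ℕ → ℤ) : ℕ := mkB fun q => decide (x q % 2 = 1)

/-- the coordinates `-1` -/
def maskN (x : ℕ → ℤ) : ℕ := mkB fun q => decide (x q = -1)

/-- the nonzero even coordinates -/
def maskE (x : ℕ → ℤ) : ℕ := mkB fun q => decide (x q % 2 = 0 ∧ x q ≠ 0)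

theorem maskN_sub (x : ℕ → ℤ) : maskN x &&& maskS x = maskN x := by
  apply Nat.eq_of_testBit_eq
  intro q
  rw [Nat.testBit_and]
  by_cases hq : q < 56
  · unfold maskN maskS
    rw [testBit_mkB _ q hq, testBit_mkB _ q hq]
    by_cases h : x q = -1
    · simp [h]
    · simp [h]
  · unfold maskN
    rw [testBit_mkB_ge _ q (by omega)]
    rfl

theorem norm_masks (x : ℕ → ℤ) (hx : ∀ q < 56, |x q| ≤ 2) :
    sumR (fun q => x q ^ 2) = (pc (maskS x) : ℤ) + 4 * (pc (maskE x) : ℤ) := by
  unfold maskS maskE
  rw [← sumR_toNat, ← sumR_toNat]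
  unfold sumR
  rw [← List.sum_map_mul_left, ← List.sum_map_add]
  congr 1
  apply List.map_congr_left
  intro q hq
  have h := hx q (List.mem_range.mp hq)
  rw [abs_le] at h
  have : x q = -2 ∨ x q = -1 ∨ x q = 0 ∨ x q = 1 ∨ x q = 2 := by omega
  rcases this with e | e | e | e | e <;> rw [e] <;> simp

/-- the class modulo 4 of the product of a generator with a vector, from the sets of positions -/
theorem dot_masks (x : ℕ → ℤ) (hx : ∀ q < 56, |x q| ≤ 2) (j : ℕ) (hj : j < 19) :
    dotF (genF j) x ≡ (pc (PT.getD j 0 &&& maskS x) : ℤ) + 3 * (pc (NT.getD j 0 &&& maskS x) : ℤ) +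
      2 * (pc (MT.getD j 0 &&& maskN x) : ℤ) + 2 * (pc (MT.getD j 0 &&& maskE x) : ℤ) [ZMOD 4] := by
  obtain ⟨h1, h2, h3⟩ := chk_PN j hj
  rw [← sumR_testBit, ← sumR_testBit, ← sumR_testBit, ← sumR_testBit]
  unfold dotF
  have e : ∀ f g h k : ℕ → ℤ, sumR f + 3 * sumR g + 2 * sumR h + 2 * sumR k =
      sumR fun q => f q + 3 * g q + 2 * h q + 2 * k q := by
    intro f g h k
    unfold sumR
    rw [← List.sum_map_mul_left, ← List.sum_map_mul_left, ← List.sum_map_mul_left, ← List.sum_map_add,
      ← List.sum_map_add, ← List.sum_map_add]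
  rw [e]
  apply sumR_modEq
  intro q hq
  have hd : ((PT.getD j 0).testBit q && (NT.getD j 0).testBit q) = false := by
    rw [← Nat.testBit_and, h1, Nat.zero_testBit]
  rw [h3 q hq, h2]
  simp only [Nat.testBit_and, Nat.testBit_or]
  unfold maskS maskN maskE
  rw [testBit_mkB _ q hq, testBit_mkB _ q hq, testBit_mkB _ q hq]
  have h := hx q hq
  rw [abs_le] at h
  have : x q = -2 ∨ x q = -1 ∨ x q = 0 ∨ x q = 1 ∨ x q = 2 := by omega
  rcases this with e | e | e | e | e <;> rw [e] <;>
    cases hp : (PT.getD j 0).testBit q <;> cases hn : (NT.getD j 0).testBit q <;>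
    simp_all <;> decide

end Cfsg.Agent.Lib.Helper1.RuLat
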