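import Mathlib
import Cfsg.Agent.Lib.Helper1.RuL8

set_option autoImplicit false
set_option maxRecDepth 100000

/-!
# The rank 28 lattice over the Gaussian integers: the search through the classes modulo 2
-/

namespace Cfsg.Agent.Lib.Helper1.RuLat

/-- all the combinations with at most sixteen positions are in the list -/
def bf (gl : List ℕ) : List ℕ → ℕ → ℕ → ℕ → Bool
  | [], acc, Y, _ => decide (16 < pcF acc) || gl.contains Y
  | m :: t, acc, Y, bit => bf gl t acc Y (2 * bit) && bf gl t (acc ^^^ m) (Y + bit) (2 * bit)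

theorem bf_spec (gl : List ℕ) : ∀ (Ms : List ℕ) (acc Y0 bit : ℕ), bf gl Ms acc Y0 bit = true →
    ∀ Y' < 2 ^ Ms.length, pc (acc ^^^ MYl Ms Y') ≤ 16 → Y0 + bit * Y' ∈ gl := by
  intro Ms
  induction Ms with
  | nil =>
    intro acc Y0 bit h Y' hY' hpc
    have h' : (decide (16 < pcF acc) || gl.contains Y0) = true := h
    have e : Y' = 0 := by simpa using hY'
    subst e
    rw [show MYl [] 0 = 0 from rfl, Nat.xor_zero] at hpc
    rw [pcF_eq, Bool.or_eq_true] at h'
    rcases h' with h' | h'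
    · have := of_decide_eq_true h'
      omega
    · simpa using h'
  | cons m t ih =>
    intro acc Y0 bit h Y' hY' hpc
    have h' : (bf gl t acc Y0 (2 * bit) && bf gl t (acc ^^^ m) (Y0 + bit) (2 * bit)) = true := h
    rw [Bool.and_eq_true] at h'
    rw [List.length_cons, pow_succ] at hY'
    have e : MYl (m :: t) Y' = (if Y' % 2 = 1 then m else 0) ^^^ MYl t (Y' / 2) := rfl
    rw [e] at hpc
    by_cases hb : Y' % 2 = 1
    · rw [if_pos hb, ← Nat.xor_assoc] at hpc
      have := ih (acc ^^^ m) (Y0 + bit) (2 * bit) h'.2 (Y' / 2) (by omega) hpc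
      have e2 : Y0 + bit + 2 * bit * (Y' / 2) = Y0 + bit * Y' := by
        have : Y' = 2 * (Y' / 2) + 1 := by omega
        conv_rhs => rw [this]
        ring
      rwa [e2] at this
    · rw [if_neg hb, Nat.zero_xor] at hpc
      have := ih acc Y0 (2 * bit) h'.1 (Y' / 2) (by omega) hpc
      have e2 : Y0 + 2 * bit * (Y' / 2) = Y0 + bit * Y' := by
        have : Y' = 2 * (Y' / 2) := by omega
        conv_rhs => rw [this]
        ring
      rwa [e2] at this

theorem MYl_shift : ∀ (k : ℕ) (Ms : List ℕ) (Z : ℕ), MYl Ms (2 ^ k * Z) = MYl (Ms.drop k) Z := by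
  intro k
  induction k with
  | zero => intro Ms Z; simp
  | succ k ih =>
    intro Ms Z
    rcases Ms with _ | ⟨m, t⟩
    · rfl
    · show (if 2 ^ (k + 1) * Z % 2 = 1 then m else 0) ^^^ MYl t (2 ^ (k + 1) * Z / 2) = MYl (t.drop k) Z
      have h0 : 2 ^ (k + 1) * Z = 2 * (2 ^ k * Z) := by ring
      have h1 : 2 ^ (k + 1) * Z % 2 = 0 := by rw [h0]; omega
      have h2 : 2 ^ (k + 1) * Z / 2 = 2 ^ k * Z := by rw [h0]; omega
      rw [h1, h2, ih]
      simp

theorem split_xor (k Y : ℕ) : Y = (Y % 2 ^ k) ^^^ (2 ^ k * (Y / 2 ^ k)) := by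
  apply Nat.eq_of_testBit_eq
  intro i
  rw [Nat.testBit_xor, Nat.testBit_mod_two_pow, Nat.testBit_two_pow_mul, Nat.testBit_div_two_pow]
  by_cases h : i < k
  · have : ¬ k ≤ i := by omega
    simp [h, this]
  · have h' : k ≤ i := by omega
    have : k + (i - k) = i := by omega
    simp [h, h', this]

/-- the search through one class of the low bits -/
def bfChunk (gls : List (List ℕ)) (c : ℕ) : Bool := bf (gls.getD c []) (MT.drop 6) (MY c) c 64

theorem bfChunk_spec (gls : List (List ℕ)) (h : ∀ c < 64, bfChunk gls c = true) (Y : ℕ) (hY : Y < 2 ^ 19)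
    (hpc : pc (MY Y) ≤ 16) : Y ∈ gls.getD (Y % 64) [] := by
  have h1 := h (Y % 64) (Nat.mod_lt _ (by norm_num))
  have e : MY Y = MY (Y % 64) ^^^ MYl (MT.drop 6) (Y / 64) := by
    have := split_xor 6 Y
    unfold MY
    conv_lhs => rw [this]
    rw [MYl_xor, MYl_shift]
    norm_num
  rw [e] at hpc
  have hl : (MT.drop 6).length = 13 := by decide
  have := bf_spec _ _ _ _ _ h1 (Y / 64) (by rw [hl]; omega) hpc
  have e2 : Y % 64 + 64 * (Y / 64) = Y := Nat.mod_add_div Y 64
  rwa [e2] at this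

end Cfsg.Agent.Lib.Helper1.RuLat
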