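import Mathlib
import Cfsg.Agent.Lib.Helper1.RuL8

set_option autoImplicit false
set_option maxRecDepth 100000

/-!
# The rank 28 lattice over the Gaussian integers: combinations of the congruences

The congruences modulo 4 satisfied by the sets of positions of a vector of the lattice can be combined;
a combination that avoids the odd positions is a linear condition on the set of the even nonzero positions.
-/

namespace Cfsg.Agent.Lib.Helper1.RuLat

open Cfsg.Spor

/-- the combination of the pairs (set of positions, value) selected by the bits of a number -/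
def CYl : List (ℕ × ℕ) → ℕ → ℕ × ℕ
  | [], _ => (0, 0)
  | mt :: l, Y =>
    match CYl l (Y / 2) with
    | (m, s) => if Y % 2 = 1 then (mt.1 ^^^ m, mt.2 + s) else (m, s)

/-- a congruence modulo 4 on two sets of positions -/
def Sat (σ ε : ℕ) (mt : ℕ × ℕ) : Prop :=
  (mt.2 + 2 * pc (mt.1 &&& σ) + 2 * pc (mt.1 &&& ε)) % 4 = 0

theorem pc_xor_and (a b c : ℕ) : pc ((a ^^^ b) &&& c) % 2 = (pc (a &&& c) + pc (b &&& c)) % 2 := by
  rw [Nat.and_xor_distrib_right, pc_xor]

theorem Sat_CYl (σ ε : ℕ) (l : List (ℕ × ℕ)) (h : ∀ mt ∈ l, Sat σ ε mt) (Y : ℕ) :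
    Sat σ ε (CYl l Y) := by
  induction l generalizing Y with
  | nil =>
    show (0 + 2 * pc (0 &&& σ) + 2 * pc (0 &&& ε)) % 4 = 0
    rw [Nat.zero_and, Nat.zero_and, pc_zero]
  | cons mt l ih =>
    have h1 := ih (fun mt' hmt' => h mt' (by simp [hmt'])) (Y / 2)
    have h2 := h mt (by simp)
    rcases hc : CYl l (Y / 2) with ⟨m, s⟩
    rw [hc] at h1
    show Sat σ ε (match CYl l (Y / 2) with
      | (m, s) => if Y % 2 = 1 then (mt.1 ^^^ m, mt.2 + s) else (m, s))
    rw [hc]
    show Sat σ ε (if Y % 2 = 1 then (mt.1 ^^^ m, mt.2 + s) else (m, s))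
    split_ifs
    · unfold Sat at *
      have e1 := pc_xor_and mt.1 m σ
      have e2 := pc_xor_and mt.1 m ε
      show (mt.2 + s + 2 * pc ((mt.1 ^^^ m) &&& σ) + 2 * pc ((mt.1 ^^^ m) &&& ε)) % 4 = 0
      simp only at h1
      omega
    · exact h1

/-- the sets of odd positions of the first nineteen generators, with the classes modulo 4 of their
products with a vector of entries `1` on a set of positions -/
def MTl (S : ℕ) : List (ℕ × ℕ) :=
  (PT.zip NT).map fun pn => (pn.1 ||| pn.2, (pcF (pn.1 &&& S) + 3 * pcF (pn.2 &&& S)) % 4)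

theorem mem_MTl (S : ℕ) (mt : ℕ × ℕ) (h : mt ∈ MTl S) : ∃ j < 19,
    mt = (MT.getD j 0, (pc (PT.getD j 0 &&& S) + 3 * pc (NT.getD j 0 &&& S)) % 4) := by
  unfold MTl at h
  rw [List.mem_map] at h
  obtain ⟨pn, hpn, rfl⟩ := h
  obtain ⟨j, hj, rfl⟩ := List.mem_iff_getElem.mp hpn
  have hl : (PT.zip NT).length = 19 := by decide
  have hP : PT.length = 19 := by decide
  have hN : NT.length = 19 := by decide
  have hj' : j < 19 := by omega
  refine ⟨j, hj', ?_⟩
  obtain ⟨_, h2, _⟩ := chk_PN j hj'
  rw [h2, List.getElem_zip, pcF_eq, pcF_eq, List.getD_eq_getElem _ _ (by omega),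
    List.getD_eq_getElem _ _ (by omega)]

/-- the congruences satisfied by the sets of positions of a vector of the lattice -/
theorem sat_of_mem (v : RuVec) (hv : v ∈ ruLattice) (hx : ∀ q < 56, |coord v q| ≤ 2) (Y : ℕ) :
    Sat (maskN (coord v)) (maskE (coord v)) (CYl (MTl (maskS (coord v))) Y) := by
  apply Sat_CYl
  intro mt hmt
  obtain ⟨j, hj, rfl⟩ := mem_MTl _ _ hmt
  have h1 := dot_mem v hv j hj
  have h2 := dot_masks (coord v) hx j hj
  have h3 := Int.emod_eq_zero_of_dvd h1
  rw [h2.eq] at h3
  show ((pc (PT.getD j 0 &&& maskS (coord v)) + 3 * pc (NT.getD j 0 &&& maskS (coord v))) % 4 +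
    2 * pc (MT.getD j 0 &&& maskN (coord v)) + 2 * pc (MT.getD j 0 &&& maskE (coord v))) % 4 = 0
  omega

/-! ### Sets of even positions -/

/-- evaluation of a number before its use -/
def frc (r : ℕ) (f : ℕ → Bool) : Bool := Nat.rec (f 0) (fun m _ => f (Nat.succ m)) r

theorem frc_eq (r : ℕ) (f : ℕ → Bool) : frc r f = f r := by
  cases r <;> rfl

/-- the sum of a list of columns -/
def xorL (l : List ℕ) : ℕ := l.foldr (fun c acc => c ^^^ acc) 0

theorem testBit_xorL_map (f : ℕ → ℕ) (l : List ℕ) (i : ℕ) :
    (xorL (l.map f)).testBit i = decide ((l.countP fun q => (f q).testBit i) % 2 = 1) := by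
  induction l with
  | nil => simp [xorL]
  | cons a t ih =>
    show (f a ^^^ xorL (t.map f)).testBit i = _
    rw [Nat.testBit_xor, ih, List.countP_cons]
    cases h : (f a).testBit i
    · simp
    · simp only [if_true, Bool.true_xor]
      rcases Nat.mod_two_eq_zero_or_one (List.countP (fun q => (f q).testBit i) t) with e | e
      · have : (List.countP (fun q => (f q).testBit i) t + 1) % 2 = 1 := by omega
        simp [e, this]
      · have : (List.countP (fun q => (f q).testBit i) t + 1) % 2 = 0 := by omega
        simp [e, this]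

/-- no sum of at least one and at most `b` of the columns, added to `acc`, is the target -/
def noSubA (tg : ℕ) : List ℕ → ℕ → ℕ → Bool
  | [], _, _ => true
  | _ :: _, 0, _ => true
  | c :: t, b + 1, acc =>
    frc (acc ^^^ c) (fun a => (a != tg) && noSubA tg t b a) && noSubA tg t (b + 1) acc

theorem noSubA_spec (tg : ℕ) : ∀ (cols : List ℕ) (b acc : ℕ), noSubA tg cols b acc = true →
    ∀ l : List ℕ, l.Sublist cols → l ≠ [] → l.length ≤ b → acc ^^^ xorL l ≠ tg := by
  intro cols
  induction cols with
  | nil =>
    intro b acc _ l hl hne _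
    rw [List.sublist_nil] at hl
    exact absurd hl hne
  | cons c t ih =>
    intro b acc h l hl hne hb
    rcases b with _ | b
    · have : l = [] := List.eq_nil_of_length_eq_zero (by omega)
      exact absurd this hne
    · have h' : (frc (acc ^^^ c) (fun a => (a != tg) && noSubA tg t b a) &&
          noSubA tg t (b + 1) acc) = true := h
      rw [frc_eq, Bool.and_eq_true, Bool.and_eq_true] at h'
      rcases List.sublist_cons_iff.mp hl with h1 | ⟨r, rfl, h1⟩
      · exact ih (b + 1) acc h'.2 l h1 hne hb
      · rw [List.length_cons] at hb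
        show acc ^^^ (c ^^^ xorL r) ≠ tg
        rw [← Nat.xor_assoc]
        by_cases hr : r = []
        · subst hr
          show acc ^^^ c ^^^ 0 ≠ tg
          rw [Nat.xor_zero]
          simpa using h'.1.1
        · exact ih b (acc ^^^ c) h'.1.2 r h1 hr (by omega)

/-- a nonempty sublist begins with an element of the list and continues in the rest -/
theorem sublist_head (cols : List ℕ) : ∀ l : List ℕ, l.Sublist cols → l ≠ [] →
    ∃ k < cols.length, ∃ r : List ℕ, l = cols.getD k 0 :: r ∧ r.Sublist (cols.drop (k + 1)) := by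
  induction cols with
  | nil =>
    intro l hl hne
    rw [List.sublist_nil] at hl
    exact absurd hl hne
  | cons c t ih =>
    intro l hl hne
    rcases List.sublist_cons_iff.mp hl with h1 | ⟨r, rfl, h1⟩
    · obtain ⟨k, hk, r, e, hr⟩ := ih l h1 hne
      exact ⟨k + 1, by rw [List.length_cons]; omega, r, e, hr⟩
    · exact ⟨0, by simp, r, rfl, h1⟩

/-- the part of the search where the first column is the column `k` -/
def noSubK (tg : ℕ) (cols : List ℕ) (b k : ℕ) : Bool :=
  (cols.getD k 0 != tg) && noSubA tg (cols.drop (k + 1)) b (cols.getD k 0)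

theorem noSubK_spec (tg : ℕ) (cols : List ℕ) (b : ℕ) (h : ∀ k < cols.length, noSubK tg cols b k = true)
    (l : List ℕ) (hl : l.Sublist cols) (hne : l ≠ []) (hb : l.length ≤ b + 1) : xorL l ≠ tg := by
  obtain ⟨k, hk, r, rfl, hr⟩ := sublist_head cols l hl hne
  have h1 := h k hk
  unfold noSubK at h1
  rw [Bool.and_eq_true] at h1
  show cols.getD k 0 ^^^ xorL r ≠ tg
  by_cases hr0 : r = []
  · subst hr0
    show cols.getD k 0 ^^^ 0 ≠ tg
    rw [Nat.xor_zero]
    simpa using h1.1
  · rw [List.length_cons] at hb
    exact noSubA_spec tg _ b _ h1.2 r hr hr0 (by omega)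

/-- a table of columns for a list of sets of positions -/
def ColsOK (cols ms : List ℕ) : Prop :=
  cols.length = 56 ∧ (∀ c ∈ cols, c < 2 ^ ms.length) ∧
    ∀ q < 56, ∀ i < ms.length, (cols.getD q 0).testBit i = (ms.getD i 0).testBit q

theorem cols_eq_map (cols : List ℕ) (h : cols.length = 56) : cols = R56.map fun q => cols.getD q 0 := by
  apply List.ext_getElem
  · simp [R56, h]
  · intro q h1 h2
    simp only [R56, List.getElem_map, List.getElem_range]
    rw [List.getD_eq_getElem _ _ h1]

theorem testBit_xorL_cols (cols ms : List ℕ) (h : ColsOK cols ms) (ε : ℕ) (i : ℕ) :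
    (xorL ((bitsL ε).map fun q => cols.getD q 0)).testBit i =
      decide (i < ms.length ∧ pc (ms.getD i 0 &&& ε) % 2 = 1) := by
  obtain ⟨h1, h2, h3⟩ := h
  rw [testBit_xorL_map]
  by_cases hi : i < ms.length
  · have e : (List.countP (fun q => (cols.getD q 0).testBit i) (bitsL ε)) = pc (ms.getD i 0 &&& ε) := by
      rw [pc_and_eq_countP]
      apply List.countP_congr
      intro q hq
      have hq' : q < 56 := by
        have := (bitsL_sublist ε).subset hq
        simpa [R56] using this
      rw [h3 q hq' i hi]
    rw [e]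
    simp [hi]
  · have e : (List.countP (fun q => (cols.getD q 0).testBit i) (bitsL ε)) = 0 := by
      rw [List.countP_eq_zero]
      intro q hq
      have hq' : q < 56 := by
        have := (bitsL_sublist ε).subset hq
        simpa [R56] using this
      have hc : cols.getD q 0 < 2 ^ ms.length := by
        rw [List.getD_eq_getElem _ _ (by omega)]
        exact h2 _ (List.getElem_mem _)
      have : (cols.getD q 0).testBit i = false :=
        Nat.testBit_lt_two_pow (lt_of_lt_of_le hc (Nat.pow_le_pow_right (by norm_num) (by omega)))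
      rw [this]
      simp
    rw [e]
    simp [hi]

theorem sublist_cols (cols : List ℕ) (h : cols.length = 56) (ε : ℕ) :
    ((bitsL ε).map fun q => cols.getD q 0).Sublist cols := by
  conv_rhs => rw [cols_eq_map cols h]
  exact (bitsL_sublist ε).map _

/-- the check that a table of columns is the table of a list of sets of positions -/
def chkCols (cols ms : List ℕ) : Bool :=
  decide (cols.length = 56) && cols.all (fun c => decide (c < 2 ^ ms.length)) &&
    (List.range 56).all fun q => (List.range ms.length).all fun i =>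
      (cols.getD q 0).testBit i == (ms.getD i 0).testBit q

theorem chkCols_spec (cols ms : List ℕ) (h : chkCols cols ms = true) : ColsOK cols ms := by
  unfold chkCols at h
  rw [Bool.and_eq_true, Bool.and_eq_true, List.all_eq_true, List.all_eq_true] at h
  obtain ⟨⟨h1, h2⟩, h3⟩ := h
  refine ⟨of_decide_eq_true h1, fun c hc => of_decide_eq_true (h2 c hc), fun q hq i hi => ?_⟩
  have := h3 q (List.mem_range.mpr hq)
  rw [List.all_eq_true] at this
  have := this i (List.mem_range.mpr hi)
  simpa using this

end Cfsg.Agent.Lib.Helper1.RuLat
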