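import Mathlib
import Cfsg.Agent.Lib.Helper1.RuL9

set_option autoImplicit false
set_option maxRecDepth 100000

/-!
# The rank 28 lattice over the Gaussian integers: sets of at most four even positions

No nonempty set of at most four positions meets the sets of odd positions of the first nineteen
generators evenly.
-/

namespace Cfsg.Agent.Lib.Helper1.RuLat

/-- the columns of the table of the odd positions of the first nineteen generators -/
def cols0 : List ℕ := [262143, 262144, 327679, 65536, 458815, 1984, 1799, 327928, 473177, 16416, 16546, 14364, 32804, 154, 360545, 131096, 133889, 103552, 25601, 66432, 264962, 169028, 836, 287746, 393730, 15684, 33348, 410882, 164353, 83328, 15617, 197248, 33193, 284176, 206380, 2386, 22161, 426280, 9834, 67860, 301058, 155716, 49153, 211072, 4097, 125056, 18500, 307202, 67634, 393356, 155657, 36976, 299188, 90122, 2097, 72]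

theorem chk_cols0 : chkCols cols0 MT = true := by decide +kernel

theorem dd_0 : ∀ k < 56, 0 ≤ k → k < 2 → noSubK 0 cols0 3 k = true := by decide +kernel

theorem dd_1 : ∀ k < 56, 2 ≤ k → k < 4 → noSubK 0 cols0 3 k = true := by decide +kernel

theorem dd_2 : ∀ k < 56, 4 ≤ k → k < 6 → noSubK 0 cols0 3 k = true := by decide +kernel

theorem dd_3 : ∀ k < 56, 6 ≤ k → k < 9 → noSubK 0 cols0 3 k = true := by decide +kernel

theorem dd_4 : ∀ k < 56, 9 ≤ k → k < 12 → noSubK 0 cols0 3 k = true := by decide +kernel

theorem dd_5 : ∀ k < 56, 12 ≤ k → k < 16 → noSubK 0 cols0 3 k = true := by decide +kernel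

theorem dd_6 : ∀ k < 56, 16 ≤ k → k < 21 → noSubK 0 cols0 3 k = true := by decide +kernel

theorem dd_7 : ∀ k < 56, 21 ≤ k → k < 30 → noSubK 0 cols0 3 k = true := by decide +kernel

theorem dd_8 : ∀ k < 56, 30 ≤ k → k < 56 → noSubK 0 cols0 3 k = true := by decide +kernel

theorem dd_all : ∀ k < cols0.length, noSubK 0 cols0 3 k = true := by
  intro k hk
  have hk' : k < 56 := hk
  by_cases h0 : k < 2
  · exact dd_0 k hk' (by omega) h0
  by_cases h1 : k < 4
  · exact dd_1 k hk' (by omega) h1
  by_cases h2 : k < 6
  · exact dd_2 k hk' (by omega) h2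
  by_cases h3 : k < 9
  · exact dd_3 k hk' (by omega) h3
  by_cases h4 : k < 12
  · exact dd_4 k hk' (by omega) h4
  by_cases h5 : k < 16
  · exact dd_5 k hk' (by omega) h5
  by_cases h6 : k < 21
  · exact dd_6 k hk' (by omega) h6
  by_cases h7 : k < 30
  · exact dd_7 k hk' (by omega) h7
  exact dd_8 k hk' (by omega) hk'

/-- no nonempty set of at most four positions meets all the sets of odd positions evenly -/
theorem dual_dist (ε : ℕ) (hε : ε < 2 ^ 56) (hne : ε ≠ 0) (hpc : pc ε ≤ 4) :
    ∃ j < 19, pc (MT.getD j 0 &&& ε) % 2 = 1 := by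
  by_contra hcon
  have hc := chkCols_spec _ _ chk_cols0
  have hlen : cols0.length = 56 := hc.1
  have hM : MT.length = 19 := by decide
  have h0 : xorL ((bitsL ε).map fun q => cols0.getD q 0) = 0 := by
    apply Nat.eq_of_testBit_eq
    intro i
    rw [testBit_xorL_cols cols0 MT hc, Nat.zero_testBit, decide_eq_false_iff_not]
    rintro ⟨hi, h⟩
    exact hcon ⟨i, by omega, h⟩
  have hne' : ((bitsL ε).map fun q => cols0.getD q 0) ≠ [] := by
    intro hnil
    rw [List.map_eq_nil_iff] at hnil
    have := maskL_bitsL ε hε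
    rw [hnil] at this
    exact hne this.symm
  have hl : ((bitsL ε).map fun q => cols0.getD q 0).length ≤ 3 + 1 := by
    rw [List.length_map, length_bitsL]
    exact hpc
  exact noSubK_spec 0 cols0 3 dd_all _ (sublist_cols cols0 hlen ε) hne' hl h0

end Cfsg.Agent.Lib.Helper1.RuLat
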