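import Mathlib

set_option autoImplicit false

/-! The rank 28 lattice over the Gaussian integers: the combinations of the first nineteen generators with
eight odd entries, each with its set of odd positions, combinations whose odd entries avoid its own, the columns of the
table of their sets of odd positions, and the target. -/

namespace Cfsg.Agent.Lib.Helper1.RuLat

/-- the combinations with eight odd entries -/
def entE : List (ℕ × ℕ × List ℕ × List ℕ × ℕ) := [(20903, 4278190080, [8, 16, 32, 68, 903, 1280, 6144, 10240, 18688, 34821, 65664, 262146], [2311, 2048, 1287, 1024, 1055, 1304, 2328, 2079, 3355, 260, 3332, 283, 28, 3075, 3100, 3, 240, 624, 944, 304, 752, 112, 816, 432, 0, 0, 0, 0, 0, 0, 0, 0, 1333, 2418, 1709, 2794, 1906, 2869, 2221, 1258, 400, 912, 272, 784, 592, 80, 208, 720, 4054, 3593, 913, 590, 3150, 3473, 470, 9], 4056),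
  (21143, 65280, [24, 65, 130, 256, 512, 1024, 6144, 10240, 18469, 34821, 65537, 262145], [2360, 2048, 1336, 1024, 262, 62, 3134, 3334, 0, 0, 0, 0, 0, 0, 0, 0, 3290, 1636, 3746, 1052, 3036, 354, 794, 2468, 2068, 42, 274, 2348, 3346, 1324, 3114, 1044, 3087, 2417, 1713, 975, 3703, 2825, 439, 1225, 2436, 642, 3074, 1796, 3906, 1092, 450, 2756, 1733, 2821, 3715, 835, 2117, 1413, 3523, 3], 384),
  (21159, 1095216660480, [40, 66, 129, 270, 534, 1046, 6160, 10246, 18448, 34830, 65540, 262175], [2880, 2048, 1856, 1024, 894, 62, 3134, 3966, 1151, 257, 3007, 3777, 3257, 2503, 1543, 889, 3036, 1636, 2468, 1052, 354, 3290, 3746, 794, 682, 3474, 3242, 914, 2580, 1324, 2860, 1044, 0, 0, 0, 0, 0, 0, 0, 0, 826, 3898, 2820, 1796, 2116, 1092, 3194, 122, 1035, 3253, 909, 2867, 3469, 1331, 693, 2571], 696),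
  (21183, 71776119061217280, [48, 95, 132, 256, 512, 1024, 6160, 10243, 18435, 34832, 65538, 262148], [2680, 2048, 1656, 1024, 582, 62, 3134, 3654, 3265, 257, 1159, 2375, 2567, 1991, 3969, 577, 602, 1636, 34, 1052, 3674, 2660, 2076, 3106, 3474, 2860, 2580, 3242, 914, 1324, 682, 1044, 909, 2867, 3253, 1035, 693, 2571, 1331, 3469, 3074, 2436, 642, 1796, 450, 1092, 2756, 3906, 0, 0, 0, 0, 0, 0, 0, 0], 768),
  (21628, 280375465082880, [8, 16, 32, 68, 256, 512, 1024, 10246, 20615, 36993, 65664, 262146], [2167, 2048, 1143, 1024, 1807, 1912, 2936, 2831, 3083, 260, 3972, 651, 908, 3715, 3340, 3, 944, 576, 704, 816, 304, 192, 432, 64, 416, 720, 928, 208, 288, 592, 80, 800, 1557, 2658, 1389, 2330, 1634, 2581, 2413, 1306, 0, 0, 0, 0, 0, 0, 0, 0, 3334, 3721, 641, 270, 3982, 3073, 902, 9], 3968),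
  (22439, 16711680, [8, 16, 32, 68, 768, 1415, 6532, 10243, 18435, 35204, 65664, 262146], [2631, 2048, 1607, 1024, 1647, 1064, 2088, 2671, 3755, 260, 3780, 363, 108, 4035, 4012, 3, 0, 0, 0, 0, 0, 0, 0, 0, 432, 816, 112, 752, 944, 304, 240, 624, 1973, 2418, 1757, 2074, 1714, 2165, 2333, 2010, 32, 992, 672, 352, 480, 544, 160, 864, 3686, 3081, 33, 590, 3662, 3105, 614, 9], 104),
  (348709, 255, [3, 5, 24, 40, 192, 329, 585, 1097, 6144, 10240, 18432, 34816], [0, 0, 0, 0, 0, 0, 0, 0, 3323, 1032, 1049, 3306, 2058, 249, 2075, 232, 3971, 2448, 1635, 112, 3937, 2418, 146, 1665, 65, 3154, 2226, 1185, 2211, 1200, 3139, 80, 2103, 1476, 550, 4053, 1335, 2244, 725, 3878, 1537, 1778, 3299, 3088, 483, 272, 3058, 2817, 3853, 254, 1551, 2556, 2334, 1773, 4079, 28], 224)]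

end Cfsg.Agent.Lib.Helper1.RuLat
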