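import Mathlib
import Cfsg.Agent.Lib.Helper1.RuL9
import Cfsg.Agent.Lib.Helper1.RuLD5

set_option autoImplicit false
set_option maxRecDepth 100000

/-!
# The rank 28 lattice over the Gaussian integers: the classes with eight odd positions

A vector of the lattice with entries of absolute value at most 2 and exactly eight odd entries has more
than two even nonzero entries.
-/

namespace Cfsg.Agent.Lib.Helper1.RuLat

open Cfsg.Spor

/-- the check of the combinations that avoid the odd positions, against the table of columns -/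
def rowsOK (S : ℕ) (cols : List ℕ) (tg : ℕ) : List ℕ → ℕ → Bool
  | [], _ => true
  | Y :: t, i =>
    (match CYl (MTl S) Y with
      | (m, s) => frc m fun m => (m &&& S == 0) && (s % 2 == 0) && (tg.testBit i == (s / 2 % 2 == 1)) &&
          (cols.zip R56).all fun cq => cq.1.testBit i == m.testBit cq.2) &&
      rowsOK S cols tg t (i + 1)

theorem rowsOK_spec (S : ℕ) (cols : List ℕ) (tg : ℕ) (hc : cols.length = 56) :
    ∀ (Ys : List ℕ) (i0 : ℕ), rowsOK S cols tg Ys i0 = true → ∀ k < Ys.length,
      (CYl (MTl S) (Ys.getD k 0)).1 &&& S = 0 ∧ (CYl (MTl S) (Ys.getD k 0)).2 % 2 = 0 ∧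
      tg.testBit (i0 + k) = ((CYl (MTl S) (Ys.getD k 0)).2 / 2 % 2 == 1) ∧
      ∀ q < 56, (cols.getD q 0).testBit (i0 + k) = (CYl (MTl S) (Ys.getD k 0)).1.testBit q := by
  intro Ys
  induction Ys with
  | nil => intro i0 _ k hk; simp at hk
  | cons Y t ih =>
    intro i0 h k hk
    have h' : ((match CYl (MTl S) Y with
      | (m, s) => frc m fun m => (m &&& S == 0) && (s % 2 == 0) &&
          (tg.testBit i0 == (s / 2 % 2 == 1)) &&
          (cols.zip R56).all fun cq => cq.1.testBit i0 == m.testBit cq.2) &&
      rowsOK S cols tg t (i0 + 1)) = true := h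
    rw [Bool.and_eq_true] at h'
    rcases k with _ | k
    · obtain ⟨h1, _⟩ := h'
      rw [List.getD_cons_zero, Nat.add_zero]
      rcases hm : CYl (MTl S) Y with ⟨m, s⟩
      rw [hm] at h1
      simp only at h1
      rw [frc_eq, Bool.and_eq_true, Bool.and_eq_true, Bool.and_eq_true, List.all_eq_true] at h1
      obtain ⟨⟨⟨a1, a2⟩, a3⟩, a4⟩ := h1
      refine ⟨by simpa using a1, by simpa using a2, by simpa using a3, fun q hq => ?_⟩
      have hz : (cols.getD q 0, q) ∈ cols.zip R56 := by
        have hl : q < (cols.zip R56).length := by simp [R56, hc, hq]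
        have := List.getElem_mem hl
        rw [List.getElem_zip] at this
        rw [List.getD_eq_getElem _ _ (by omega)]
        simpa [R56] using this
      have := a4 _ hz
      simpa using this
    · have := ih (i0 + 1) h'.2 k (by simpa using hk)
      rw [List.getD_cons_succ]
      have e : i0 + (k + 1) = i0 + 1 + k := by ring
      rw [e]
      exact this

/-- the check of a class -/
def chkEb (b : ℕ) (e : ℕ × ℕ × List ℕ × List ℕ × ℕ) : Bool :=
  (e.2.1 == MY e.1) && rowsOK e.2.1 e.2.2.2.1 e.2.2.2.2 e.2.2.1 0 &&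
    decide (e.2.2.2.1.length = 56) && e.2.2.2.1.all (fun c => decide (c < 2 ^ e.2.2.1.length)) &&
    decide (e.2.2.2.2 < 2 ^ e.2.2.1.length) && (e.2.2.2.2 != 0) && noSubA e.2.2.2.2 e.2.2.2.1 b 0

theorem chkEb_spec (b : ℕ) (e : ℕ × ℕ × List ℕ × List ℕ × ℕ) (h : chkEb b e = true) (σ ε : ℕ)
    (hσ : σ &&& MY e.1 = σ) (hε : ε < 2 ^ 56) (hb : pc ε ≤ b)
    (hs : ∀ Y, Sat σ ε (CYl (MTl (MY e.1)) Y)) : False := by
  obtain ⟨y, S, Ys, cols, tg⟩ := e
  unfold chkEb at h
  simp only [Bool.and_eq_true] at h
  obtain ⟨⟨⟨⟨⟨⟨h1, h2⟩, h3⟩, h4⟩, h5⟩, h6⟩, h7⟩ := h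
  have hS : S = MY y := by simpa using h1
  have hlen : cols.length = 56 := of_decide_eq_true h3
  have h5' : tg < 2 ^ Ys.length := of_decide_eq_true h5
  have h6' : tg ≠ 0 := by simpa using h6
  simp only at hσ hs
  rw [← hS] at hσ hs
  have hr := rowsOK_spec S cols tg hlen Ys 0 h2
  have hX : xorL ((bitsL ε).map fun q => cols.getD q 0) = tg := by
    apply Nat.eq_of_testBit_eq
    intro i
    rw [testBit_xorL_map]
    by_cases hi : i < Ys.length
    · obtain ⟨r1, r2, r3, r4⟩ := hr i hi
      rw [Nat.zero_add] at r3 r4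
      have e1 : (List.countP (fun q => (cols.getD q 0).testBit i) (bitsL ε)) =
          pc ((CYl (MTl S) (Ys.getD i 0)).1 &&& ε) := by
        rw [pc_and_eq_countP]
        apply List.countP_congr
        intro q hq
        have hq' : q < 56 := by
          have := (bitsL_sublist ε).subset hq
          simpa [R56] using this
        rw [r4 q hq']
      rw [e1, r3]
      have hsat := hs (Ys.getD i 0)
      unfold Sat at hsat
      have e3 : (CYl (MTl S) (Ys.getD i 0)).1 &&& σ = 0 := by
        rw [← hσ, Nat.and_comm σ S, ← Nat.and_assoc, r1, Nat.zero_and]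
      rw [e3, pc_zero] at hsat
      generalize (CYl (MTl S) (Ys.getD i 0)).2 = t at *
      generalize pc ((CYl (MTl S) (Ys.getD i 0)).1 &&& ε) = a at *
      have : a % 2 = t / 2 % 2 := by omega
      rw [this]
      rcases Nat.mod_two_eq_zero_or_one (t / 2) with e | e <;> simp [e]
    · have e1 : (List.countP (fun q => (cols.getD q 0).testBit i) (bitsL ε)) = 0 := by
        rw [List.countP_eq_zero]
        intro q hq
        have hq' : q < 56 := by
          have := (bitsL_sublist ε).subset hq
          simpa [R56] using this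
        have hc : cols.getD q 0 < 2 ^ Ys.length := by
          rw [List.getD_eq_getElem _ _ (by omega)]
          rw [List.all_eq_true] at h4
          exact of_decide_eq_true (h4 _ (List.getElem_mem _))
        have : (cols.getD q 0).testBit i = false :=
          Nat.testBit_lt_two_pow (lt_of_lt_of_le hc (Nat.pow_le_pow_right (by norm_num) (by omega)))
        rw [this]
        simp
      have e2 : tg.testBit i = false :=
        Nat.testBit_lt_two_pow (lt_of_lt_of_le h5' (Nat.pow_le_pow_right (by norm_num) (by omega)))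
      rw [e1, e2]
      simp
  by_cases h0 : (bitsL ε) = []
  · rw [h0] at hX
    exact h6' hX.symm
  · have hne : ((bitsL ε).map fun q => cols.getD q 0) ≠ [] := by
      intro hnil
      rw [List.map_eq_nil_iff] at hnil
      exact h0 hnil
    have hl : ((bitsL ε).map fun q => cols.getD q 0).length ≤ b := by
      rw [List.length_map, length_bitsL]
      exact hb
    have := noSubA_spec tg cols b 0 h7 _ (sublist_cols cols hlen ε) hne hl
    rw [Nat.zero_xor] at this
    exact this hX

theorem chk_entE : entE.all (chkEb 2) = true := by decide +kernel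

end Cfsg.Agent.Lib.Helper1.RuLat
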