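import Mathlib
import Cfsg.Agent.Lib.Helper1.RuL10
import Cfsg.Agent.Lib.Helper1.RuLD4

set_option autoImplicit false
set_option maxRecDepth 100000

/-! The rank 28 lattice over the Gaussian integers: the search through the classes modulo 2, part 1. -/

namespace Cfsg.Agent.Lib.Helper1.RuLat

theorem bf_0 : bfChunk goodL 0 = true := by decide +kernel

theorem bf_1 : bfChunk goodL 1 = true := by decide +kernel

theorem bf_2 : bfChunk goodL 2 = true := by decide +kernel

theorem bf_3 : bfChunk goodL 3 = true := by decide +kernel

theorem bf_4 : bfChunk goodL 4 = true := by decide +kernel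

theorem bf_5 : bfChunk goodL 5 = true := by decide +kernel

theorem bf_6 : bfChunk goodL 6 = true := by decide +kernel

theorem bf_7 : bfChunk goodL 7 = true := by decide +kernel

theorem bf_8 : bfChunk goodL 8 = true := by decide +kernel

theorem bf_9 : bfChunk goodL 9 = true := by decide +kernel

theorem bf_10 : bfChunk goodL 10 = true := by decide +kernel

theorem bf_11 : bfChunk goodL 11 = true := by decide +kernel

theorem bf_12 : bfChunk goodL 12 = true := by decide +kernel

theorem bf_13 : bfChunk goodL 13 = true := by decide +kernel

theorem bf_14 : bfChunk goodL 14 = true := by decide +kernel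

theorem bf_15 : bfChunk goodL 15 = true := by decide +kernel

theorem bf_part1 : ∀ c < 64, 0 ≤ c → c < 16 → bfChunk goodL c = true := by
  intro c hc h1 h2
  interval_cases c
  · exact bf_0
  · exact bf_1
  · exact bf_2
  · exact bf_3
  · exact bf_4
  · exact bf_5
  · exact bf_6
  · exact bf_7
  · exact bf_8
  · exact bf_9
  · exact bf_10
  · exact bf_11
  · exact bf_12
  · exact bf_13
  · exact bf_14
  · exact bf_15

end Cfsg.Agent.Lib.Helper1.RuLat
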