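import Mathlib
import Cfsg.Agent.Lib.Helper1.RuL10
import Cfsg.Agent.Lib.Helper1.RuLD4

set_option autoImplicit false
set_option maxRecDepth 100000

/-! The rank 28 lattice over the Gaussian integers: the search through the classes modulo 2, part 2. -/

namespace Cfsg.Agent.Lib.Helper1.RuLat

theorem bf_16 : bfChunk goodL 16 = true := by decide +kernel

theorem bf_17 : bfChunk goodL 17 = true := by decide +kernel

theorem bf_18 : bfChunk goodL 18 = true := by decide +kernel

theorem bf_19 : bfChunk goodL 19 = true := by decide +kernel

theorem bf_20 : bfChunk goodL 20 = true := by decide +kernel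

theorem bf_21 : bfChunk goodL 21 = true := by decide +kernel

theorem bf_22 : bfChunk goodL 22 = true := by decide +kernel

theorem bf_23 : bfChunk goodL 23 = true := by decide +kernel

theorem bf_24 : bfChunk goodL 24 = true := by decide +kernel

theorem bf_25 : bfChunk goodL 25 = true := by decide +kernel

theorem bf_26 : bfChunk goodL 26 = true := by decide +kernel

theorem bf_27 : bfChunk goodL 27 = true := by decide +kernel

theorem bf_28 : bfChunk goodL 28 = true := by decide +kernel

theorem bf_29 : bfChunk goodL 29 = true := by decide +kernel

theorem bf_30 : bfChunk goodL 30 = true := by decide +kernel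

theorem bf_31 : bfChunk goodL 31 = true := by decide +kernel

theorem bf_part2 : ∀ c < 64, 16 ≤ c → c < 32 → bfChunk goodL c = true := by
  intro c hc h1 h2
  interval_cases c
  · exact bf_16
  · exact bf_17
  · exact bf_18
  · exact bf_19
  · exact bf_20
  · exact bf_21
  · exact bf_22
  · exact bf_23
  · exact bf_24
  · exact bf_25
  · exact bf_26
  · exact bf_27
  · exact bf_28
  · exact bf_29
  · exact bf_30
  · exact bf_31

end Cfsg.Agent.Lib.Helper1.RuLat
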