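import Mathlib
import Cfsg.Agent.Lib.Helper1.RuL10
import Cfsg.Agent.Lib.Helper1.RuLD4

set_option autoImplicit false
set_option maxRecDepth 100000

/-! The rank 28 lattice over the Gaussian integers: the search through the classes modulo 2, part 3. -/

namespace Cfsg.Agent.Lib.Helper1.RuLat

theorem bf_32 : bfChunk goodL 32 = true := by decide +kernel

theorem bf_33 : bfChunk goodL 33 = true := by decide +kernel

theorem bf_34 : bfChunk goodL 34 = true := by decide +kernel

theorem bf_35 : bfChunk goodL 35 = true := by decide +kernel

theorem bf_36 : bfChunk goodL 36 = true := by decide +kernel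

theorem bf_37 : bfChunk goodL 37 = true := by decide +kernel

theorem bf_38 : bfChunk goodL 38 = true := by decide +kernel

theorem bf_39 : bfChunk goodL 39 = true := by decide +kernel

theorem bf_40 : bfChunk goodL 40 = true := by decide +kernel

theorem bf_41 : bfChunk goodL 41 = true := by decide +kernel

theorem bf_42 : bfChunk goodL 42 = true := by decide +kernel

theorem bf_43 : bfChunk goodL 43 = true := by decide +kernel

theorem bf_44 : bfChunk goodL 44 = true := by decide +kernel

theorem bf_45 : bfChunk goodL 45 = true := by decide +kernel

theorem bf_46 : bfChunk goodL 46 = true := by decide +kernel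

theorem bf_47 : bfChunk goodL 47 = true := by decide +kernel

theorem bf_part3 : ∀ c < 64, 32 ≤ c → c < 48 → bfChunk goodL c = true := by
  intro c hc h1 h2
  interval_cases c
  · exact bf_32
  · exact bf_33
  · exact bf_34
  · exact bf_35
  · exact bf_36
  · exact bf_37
  · exact bf_38
  · exact bf_39
  · exact bf_40
  · exact bf_41
  · exact bf_42
  · exact bf_43
  · exact bf_44
  · exact bf_45
  · exact bf_46
  · exact bf_47

end Cfsg.Agent.Lib.Helper1.RuLat
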