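import Mathlib
import Cfsg.Agent.Lib.Helper1.RuL10
import Cfsg.Agent.Lib.Helper1.RuLD4

set_option autoImplicit false
set_option maxRecDepth 100000

/-! The rank 28 lattice over the Gaussian integers: the search through the classes modulo 2, part 4. -/

namespace Cfsg.Agent.Lib.Helper1.RuLat

theorem bf_48 : bfChunk goodL 48 = true := by decide +kernel

theorem bf_49 : bfChunk goodL 49 = true := by decide +kernel

theorem bf_50 : bfChunk goodL 50 = true := by decide +kernel

theorem bf_51 : bfChunk goodL 51 = true := by decide +kernel

theorem bf_52 : bfChunk goodL 52 = true := by decide +kernel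

theorem bf_53 : bfChunk goodL 53 = true := by decide +kernel

theorem bf_54 : bfChunk goodL 54 = true := by decide +kernel

theorem bf_55 : bfChunk goodL 55 = true := by decide +kernel

theorem bf_56 : bfChunk goodL 56 = true := by decide +kernel

theorem bf_57 : bfChunk goodL 57 = true := by decide +kernel

theorem bf_58 : bfChunk goodL 58 = true := by decide +kernel

theorem bf_59 : bfChunk goodL 59 = true := by decide +kernel

theorem bf_60 : bfChunk goodL 60 = true := by decide +kernel

theorem bf_61 : bfChunk goodL 61 = true := by decide +kernel

theorem bf_62 : bfChunk goodL 62 = true := by decide +kernel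

theorem bf_63 : bfChunk goodL 63 = true := by decide +kernel

theorem bf_part4 : ∀ c < 64, 48 ≤ c → c < 64 → bfChunk goodL c = true := by
  intro c hc h1 h2
  interval_cases c
  · exact bf_48
  · exact bf_49
  · exact bf_50
  · exact bf_51
  · exact bf_52
  · exact bf_53
  · exact bf_54
  · exact bf_55
  · exact bf_56
  · exact bf_57
  · exact bf_58
  · exact bf_59
  · exact bf_60
  · exact bf_61
  · exact bf_62
  · exact bf_63

end Cfsg.Agent.Lib.Helper1.RuLat
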