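import Mathlib
import Cfsg.Agent.Lib.Helper1.RuL11
import Cfsg.Agent.Lib.Helper1.RuL12
import Cfsg.Agent.Lib.Helper1.RuLB1
import Cfsg.Agent.Lib.Helper1.RuLB2
import Cfsg.Agent.Lib.Helper1.RuLB3
import Cfsg.Agent.Lib.Helper1.RuLB4

set_option autoImplicit false
set_option maxRecDepth 100000

/-!
# The rank 28 lattice over the Gaussian integers: the norms are divisible by 8 and never equal to 8
-/

namespace Cfsg.Agent.Lib.Helper1.RuLat

open Cfsg.Spor

/-! ### The product of two vectors -/

/-- the product of two vectors -/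
def dotV (v w : RuVec) : ℤ := dotF (coord v) (coord w)

theorem dotV_add_left (v v' w : RuVec) : dotV (v + v') w = dotV v w + dotV v' w := by
  unfold dotV dotF
  rw [← sumR_add]
  apply sumR_congr
  intro q _
  rw [coord_add]
  ring

theorem dotV_comm (v w : RuVec) : dotV v w = dotV w v := by
  unfold dotV dotF
  apply sumR_congr
  intro q _
  ring

theorem dotV_add_right (v w w' : RuVec) : dotV v (w + w') = dotV v w + dotV v w' := by
  rw [dotV_comm, dotV_add_left, dotV_comm w, dotV_comm w']

theorem dotV_zero_left (w : RuVec) : dotV 0 w = 0 := by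
  unfold dotV dotF sumR
  simp [coord_zero]

theorem dotV_neg_left (v w : RuVec) : dotV (-v) w = -dotV v w := by
  have h := dotV_add_left v (-v) w
  rw [add_neg_cancel, dotV_zero_left] at h
  linarith

theorem dotV_zero_right (v : RuVec) : dotV v 0 = 0 := by rw [dotV_comm, dotV_zero_left]

theorem dotV_neg_right (v w : RuVec) : dotV v (-w) = -dotV v w := by
  rw [dotV_comm, dotV_neg_left, dotV_comm]

theorem ruNorm_eq_sumR (v : RuVec) : ruNorm v = sumR fun q => coord v q ^ 2 := by
  conv_lhs => rw [← ofF_coord v]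
  rw [ruNorm_ofF, ← sumR_eq]

theorem ruNorm_eq_dotV (v : RuVec) : ruNorm v = dotV v v := by
  rw [ruNorm_eq_sumR]
  unfold dotV dotF
  apply sumR_congr
  intro q _
  ring

theorem ruNorm_add (v w : RuVec) : ruNorm (v + w) = ruNorm v + ruNorm w + 2 * dotV v w := by
  rw [ruNorm_eq_dotV, ruNorm_eq_dotV, ruNorm_eq_dotV, dotV_add_left, dotV_add_right, dotV_add_right,
    dotV_comm w v]
  ring

theorem ruNorm_neg (v : RuVec) : ruNorm (-v) = ruNorm v := by
  rw [ruNorm_eq_dotV, ruNorm_eq_dotV, dotV_neg_left, dotV_neg_right, neg_neg]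

theorem dotV_gen (k l : ℕ) : dotV (gen k) (gen l) = dotF (genF k) (genF l) := by
  unfold dotV dotF
  apply sumR_congr
  intro q hq
  rw [coord_gen _ _ hq, coord_gen _ _ hq]

/-! ### The divisibility of the products -/

theorem four_dvd_gen_gen (k : ℕ) (hk : k < 93) (l : ℕ) (hl : l < 93) :
    4 ∣ dotF (genF k) (genF l) := by
  by_cases h1 : k < 19
  · exact dot_gen_gen k h1 l hl
  by_cases h2 : l < 19
  · have : dotF (genF k) (genF l) = dotF (genF l) (genF k) := by
      unfold dotF
      apply sumR_congr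
      intro q _
      ring
    rw [this]
    exact dot_gen_gen l h2 k hk
  unfold dotF
  rw [sumR_eq]
  apply Finset.dvd_sum
  intro q hq
  have hq' := Finset.mem_range.mp hq
  have e1 := chk_even k hk (by omega) q hq'
  have e2 := chk_even l hl (by omega) q hq'
  obtain ⟨a, ha⟩ : (2 : ℤ) ∣ genF k q := Int.dvd_of_emod_eq_zero e1
  obtain ⟨b, hb⟩ : (2 : ℤ) ∣ genF l q := Int.dvd_of_emod_eq_zero e2
  exact ⟨a * b, by rw [ha, hb]; ring⟩

theorem four_dvd_dotV (v w : RuVec) (hv : v ∈ ruLattice) (hw : w ∈ ruLattice) : 4 ∣ dotV v w := by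
  have key : ∀ l < 93, ∀ v ∈ ruLattice, 4 ∣ dotV v (gen l) := by
    intro l hl v hv
    rw [ruLattice_eq] at hv
    unfold Lgen at hv
    induction hv using AddSubgroup.closure_induction with
    | mem v hv =>
      obtain ⟨k, rfl⟩ := hv
      show 4 ∣ dotV (gen k.val) (gen l)
      rw [dotV_gen]
      exact four_dvd_gen_gen k.val k.isLt l hl
    | zero => rw [dotV_zero_left]; exact dvd_zero _
    | add v w _ _ hv hw => rw [dotV_add_left]; exact dvd_add hv hw
    | neg v _ hv => rw [dotV_neg_left]; exact (dvd_neg).mpr hv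
  rw [ruLattice_eq] at hw
  unfold Lgen at hw
  induction hw using AddSubgroup.closure_induction with
  | mem w hw =>
    obtain ⟨l, rfl⟩ := hw
    exact key l.val l.isLt v hv
  | zero => rw [dotV_zero_right]; exact dvd_zero _
  | add w w' _ _ hw hw' => rw [dotV_add_right]; exact dvd_add hw hw'
  | neg w _ hw => rw [dotV_neg_right]; exact (dvd_neg).mpr hw

theorem chk_norm8 : (genTbl.all fun r => decide (r.length = 56) && decide (dotL r r % 8 = 0)) = true := by
  decide +kernel

theorem eight_dvd_gen (k : ℕ) (hk : k < 93) : 8 ∣ ruNorm (gen k) := by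
  rw [ruNorm_eq_dotV, dotV_gen]
  have h := chk_norm8
  rw [List.all_eq_true] at h
  have hl : genTbl.length = 93 := length_genTbl
  have h1 := h (genTbl.getD k []) (by
    rw [List.getD_eq_getElem _ _ (by omega)]
    exact List.getElem_mem _)
  rw [Bool.and_eq_true] at h1
  unfold genF
  rw [dotF_decF _ _ (of_decide_eq_true h1.1) (of_decide_eq_true h1.1)]
  exact Int.dvd_of_emod_eq_zero (of_decide_eq_true h1.2)

theorem eight_dvd_norm_aux (v : RuVec) (hv : v ∈ Lgen) : 8 ∣ ruNorm v := by
  unfold Lgen at hv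
  induction hv using AddSubgroup.closure_induction with
  | mem v hv =>
    obtain ⟨k, rfl⟩ := hv
    exact eight_dvd_gen k.val k.isLt
  | zero =>
    rw [ruNorm_eq_dotV, dotV_zero_left]
    exact dvd_zero _
  | add v w hv1 hw1 hv2 hw2 =>
    have m1 : v ∈ ruLattice := by rw [ruLattice_eq]; exact hv1
    have m2 : w ∈ ruLattice := by rw [ruLattice_eq]; exact hw1
    rw [ruNorm_add]
    obtain ⟨c, hc⟩ := four_dvd_dotV v w m1 m2
    have h3 : (8 : ℤ) ∣ 2 * dotV v w := ⟨c, by rw [hc]; ring⟩
    exact dvd_add (dvd_add hv2 hw2) h3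
  | neg v _ hv2 =>
    rw [ruNorm_neg]
    exact hv2

/-- the norms of the vectors of the lattice are divisible by 8 -/
theorem eight_dvd_norm (v : RuVec) (hv : v ∈ ruLattice) : 8 ∣ ruNorm v := by
  rw [ruLattice_eq] at hv
  exact eight_dvd_norm_aux v hv

/-! ### The coordinates and the norm -/

theorem coord_sq_le (v : RuVec) (q : ℕ) (hq : q < 56) : coord v q ^ 2 ≤ ruNorm v := by
  rw [ruNorm_eq_sumR, sumR_eq]
  exact Finset.single_le_sum (f := fun q => coord v q ^ 2) (fun i _ => sq_nonneg _)
    (Finset.mem_range.mpr hq)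

theorem ruNorm_nonneg (v : RuVec) : 0 ≤ ruNorm v := by
  rw [ruNorm_eq_sumR, sumR_eq]
  exact Finset.sum_nonneg fun i _ => sq_nonneg _

theorem eq_zero_of_coord (v : RuVec) (h : ∀ q < 56, coord v q = 0) : v = 0 := by
  rw [← ofF_coord v, ← ofF_zero]
  exact ofF_congr h

theorem eq_zero_of_norm (v : RuVec) (h : ruNorm v ≤ 0) : v = 0 := by
  apply eq_zero_of_coord
  intro q hq
  have := coord_sq_le v q hq
  have h2 : coord v q ^ 2 ≤ 0 := le_trans this h
  exact pow_eq_zero_iff (two_ne_zero) |>.mp (le_antisymm h2 (sq_nonneg _))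

theorem abs_coord_le_two (v : RuVec) (h : ruNorm v ≤ 8) (q : ℕ) (hq : q < 56) : |coord v q| ≤ 2 := by
  have h1 := coord_sq_le v q hq
  have h2 : coord v q ^ 2 ≤ 8 := le_trans h1 h
  rw [abs_le]
  constructor <;> nlinarith

/-! ### The classes modulo 2 -/

theorem bf_all : ∀ c < 64, bfChunk goodL c = true := by
  intro c hc
  by_cases h1 : c < 16
  · exact bf_part1 c hc (by omega) h1
  by_cases h2 : c < 32
  · exact bf_part2 c hc (by omega) h2
  by_cases h3 : c < 48
  · exact bf_part3 c hc (by omega) h3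
  · exact bf_part4 c hc (by omega) hc

/-- the set of odd positions of a vector of the lattice is that of a combination of the first nineteen
generators -/
theorem maskS_eq_MY (v : RuVec) (hv : v ∈ ruLattice) : ∃ Y < 2 ^ 19, maskS (coord v) = MY Y := by
  obtain ⟨Y, hY, h⟩ := residue v hv
  refine ⟨Y, hY, ?_⟩
  apply Nat.eq_of_testBit_eq
  intro q
  by_cases hq : q < 56
  · unfold maskS
    rw [testBit_mkB _ q hq]
    exact h q hq
  · unfold maskS
    rw [testBit_mkB_ge _ q (by omega)]
    symm
    exact Nat.testBit_lt_two_pow (lt_of_lt_of_le (MY_lt Y) (Nat.pow_le_pow_right (by norm_num) (by omega)))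

theorem good_of_small (Y : ℕ) (hY : Y < 2 ^ 19) (h : pc (MY Y) ≤ 16) : Y ∈ goodL.flatten := by
  have h1 := bfChunk_spec goodL bf_all Y hY h
  rw [List.mem_flatten]
  refine ⟨goodL.getD (Y % 64) [], ?_, h1⟩
  have hl : goodL.length = 64 := by decide
  rw [List.getD_eq_getElem _ _ (by rw [hl]; exact Nat.mod_lt _ (by norm_num))]
  exact List.getElem_mem _

theorem chk_good8 : (goodL.flatten.all fun y =>
    decide (8 < pcF (MY y)) || (y == 0) || entE.any fun e => e.1 == y) = true := by decide +kernel

theorem MY_zero : MY 0 = 0 := MYl_zero MT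

/-- the even nonzero positions of a vector without odd entries meet the sets of odd positions of the
first nineteen generators evenly -/
theorem even_of_maskS_zero (v : RuVec) (hv : v ∈ ruLattice) (hx : ∀ q < 56, |coord v q| ≤ 2)
    (hS : maskS (coord v) = 0) (j : ℕ) (hj : j < 19) : pc (MT.getD j 0 &&& maskE (coord v)) % 2 = 0 := by
  have h1 := dot_mem v hv j hj
  have h2 := dot_masks (coord v) hx j hj
  have h3 := Int.emod_eq_zero_of_dvd h1
  rw [h2.eq] at h3
  have hN : maskN (coord v) = 0 := by
    have := maskN_sub (coord v)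
    rw [hS, Nat.and_zero] at this
    exact this.symm
  rw [hS, hN, Nat.and_zero, Nat.and_zero, Nat.and_zero, pc_zero] at h3
  omega

/-- a vector of the lattice with small entries and at most sixteen odd entries, not all of whose entries
are even: the class of its odd positions -/
theorem maskE_lt (x : ℕ → ℤ) : maskE x < 2 ^ 56 := mkB_lt _

theorem eq_zero_of_masks (v : RuVec) (hS : maskS (coord v) = 0) (hE : maskE (coord v) = 0) : v = 0 := by
  apply eq_zero_of_coord
  intro q hq
  have h1 : (maskS (coord v)).testBit q = false := by rw [hS, Nat.zero_testBit]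
  have h2 : (maskE (coord v)).testBit q = false := by rw [hE, Nat.zero_testBit]
  unfold maskS at h1
  unfold maskE at h2
  rw [testBit_mkB _ q hq] at h1 h2
  have h1' : ¬ coord v q % 2 = 1 := by simpa using h1
  have h2' : ¬ (coord v q % 2 = 0 ∧ coord v q ≠ 0) := by simpa using h2
  by_contra hne
  have : coord v q % 2 = 0 := by omega
  exact h2' ⟨this, hne⟩

/-- no vector of the lattice has norm 8 -/
theorem norm_ne_eight (v : RuVec) (hv : v ∈ ruLattice) : ruNorm v ≠ 8 := by
  intro h8
  have hx : ∀ q < 56, |coord v q| ≤ 2 := abs_coord_le_two v (le_of_eq h8)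
  have hn := norm_masks (coord v) hx
  rw [← ruNorm_eq_sumR, h8] at hn
  obtain ⟨Y, hY, hS⟩ := maskS_eq_MY v hv
  have hpc : pc (MY Y) ≤ 16 := by
    rw [← hS]
    omega
  have hg := good_of_small Y hY hpc
  have hc := chk_good8
  rw [List.all_eq_true] at hc
  have h1 := hc Y hg
  rw [Bool.or_eq_true, Bool.or_eq_true] at h1
  rcases h1 with (h1 | h1) | h1
  · have := of_decide_eq_true h1
    rw [pcF_eq, ← hS] at this
    omega
  · have hY0 : Y = 0 := by simpa using h1
    rw [hY0, MY_zero] at hS
    have hpcE : pc (maskE (coord v)) = 2 := by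
      rw [hS, pc_zero] at hn
      omega
    have hne : maskE (coord v) ≠ 0 := by
      intro h0
      rw [h0, pc_zero] at hpcE
      omega
    obtain ⟨j, hj, hodd⟩ := dual_dist _ (maskE_lt _) hne (by omega)
    have := even_of_maskS_zero v hv hx hS j hj
    omega
  · rw [List.any_eq_true] at h1
    obtain ⟨e, he, hey⟩ := h1
    have hey' : e.1 = Y := by simpa using hey
    have hce := chk_entE
    rw [List.all_eq_true] at hce
    have h2 := hce e he
    apply chkEb_spec 2 e h2 (maskN (coord v)) (maskE (coord v))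
    · rw [hey', ← hS]
      exact maskN_sub _
    · exact maskE_lt _
    · omega
    · intro Y'
      rw [hey', ← hS]
      exact sat_of_mem v hv hx Y'

end Cfsg.Agent.Lib.Helper1.RuLat
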