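import Mathlib
import Cfsg.Agent.Lib.Helper1.RuL8
import Cfsg.Agent.Lib.Helper1.RuLD6

set_option autoImplicit false
set_option maxRecDepth 100000

/-!
# The rank 28 lattice over the Gaussian integers: the table of the lines of vectors of norm 16

A vector with entries `c`, `-c` and `0` is given by the set of its nonzero positions and the set of its
negative positions; the multiplication by the unit `i` is computed on these sets.
-/

namespace Cfsg.Agent.Lib.Helper1.RuLat

open Cfsg.Spor

/-- the fifty-six positions -/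
def m56 : ℕ := 0xffffffffffffff

/-- the even positions -/
def E0m : ℕ := 0x55555555555555

/-- the exchange of the two positions of each pair -/
def swp (S : ℕ) : ℕ := ((S &&& E0m) <<< 1) ||| ((S >>> 1) &&& E0m)

/-- the negative positions after the multiplication by the unit `i` -/
def mulImN (S N : ℕ) : ℕ := (((S ^^^ N) >>> 1) &&& E0m) ||| ((N &&& E0m) <<< 1)

/-- the nonzero positions of the multiple by a power of the unit `i` -/
def mvS (S u : ℕ) : ℕ := if u % 2 = 0 then S else swp S

/-- the negative positions of the multiple by a power of the unit `i` -/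
def mvN (S N u : ℕ) : ℕ :=
  if u = 0 then N else if u = 1 then mulImN S N else if u = 2 then S ^^^ N else mulImN S (S ^^^ N)

/-- the entry of the table for a line -/
def ltE (j : ℕ) : ℕ := (LTL.getD (j / 256) 0 >>> (113 * (j % 256))) &&& 0x1ffffffffffffffffffffffffffff

/-- the nonzero positions of the vector of a line -/
def ltS (j : ℕ) : ℕ := ltE j &&& m56

/-- the negative positions of the vector of a line -/
def ltN (j : ℕ) : ℕ := (ltE j >>> 56) &&& m56

/-- the mark of the lines of vectors with a single nonzero entry -/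
def ltF (j : ℕ) : ℕ := ltE j >>> 112

/-- the vector with entries `c` and `-c` at given positions -/
def vecM (S N : ℕ) (c : ℤ) : ℕ → ℤ := fun q => if N.testBit q then -c else if S.testBit q then c else 0

theorem testBit_E0m_lt : ∀ q < 64, E0m.testBit q = decide (q < 56 ∧ q % 2 = 0) := by decide

theorem testBit_E0m (q : ℕ) : E0m.testBit q = decide (q < 56 ∧ q % 2 = 0) := by
  by_cases hq : q < 64
  · exact testBit_E0m_lt q hq
  · have h1 : E0m.testBit q = false :=
      Nat.testBit_lt_two_pow (lt_of_lt_of_le (by decide : E0m < 2 ^ 56)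
        (Nat.pow_le_pow_right (by norm_num) (by omega)))
    rw [h1]
    symm
    rw [decide_eq_false_iff_not]
    omega

theorem iF_even (x : ℕ → ℤ) (q : ℕ) (hq : q % 2 = 0) : iF x q = -x (q + 1) := by
  unfold iF blkF
  have h8 : q % 8 < 8 := Nat.mod_lt _ (by norm_num)
  have : q % 8 = 0 ∨ q % 8 = 2 ∨ q % 8 = 4 ∨ q % 8 = 6 := by omega
  rcases this with h | h | h | h <;> rw [h] <;>
    simp only [List.getD_cons_zero, List.getD_cons_succ] <;>
    · rw [neg_one_mul]
      congr 2
      omega

theorem iF_odd (x : ℕ → ℤ) (q : ℕ) (hq : q % 2 = 1) : iF x q = x (q - 1) := by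
  unfold iF blkF
  have h8 : q % 8 < 8 := Nat.mod_lt _ (by norm_num)
  have : q % 8 = 1 ∨ q % 8 = 3 ∨ q % 8 = 5 ∨ q % 8 = 7 := by omega
  rcases this with h | h | h | h <;> rw [h] <;>
    simp only [List.getD_cons_zero, List.getD_cons_succ] <;>
    · rw [one_mul]
      congr 1
      omega

theorem testBit_swp_even (S q : ℕ) (hq : q % 2 = 0) (h56 : q < 56) :
    (swp S).testBit q = S.testBit (q + 1) := by
  unfold swp
  rw [Nat.testBit_or, Nat.testBit_shiftLeft, Nat.testBit_and, Nat.testBit_and, Nat.testBit_shiftRight,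
    testBit_E0m, testBit_E0m]
  have e1 : decide (q - 1 < 56 ∧ (q - 1) % 2 = 0) = false ∨ ¬ q ≥ 1 := by
    by_cases h : q ≥ 1
    · left
      rw [decide_eq_false_iff_not]
      omega
    · right; exact h
  have e2 : decide (q < 56 ∧ q % 2 = 0) = true := by
    rw [decide_eq_true_iff]
    exact ⟨h56, hq⟩
  rw [e2, Nat.add_comm 1 q]
  rcases e1 with e1 | e1
  · rw [e1]; simp
  · have : decide (q ≥ 1) = false := by simpa using e1
    rw [this]; simp

theorem testBit_swp_odd (S q : ℕ) (hq : q % 2 = 1) (h56 : q < 56) :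
    (swp S).testBit q = S.testBit (q - 1) := by
  unfold swp
  rw [Nat.testBit_or, Nat.testBit_shiftLeft, Nat.testBit_and, Nat.testBit_and, Nat.testBit_shiftRight,
    testBit_E0m, testBit_E0m]
  have e1 : decide (q - 1 < 56 ∧ (q - 1) % 2 = 0) = true := by
    rw [decide_eq_true_iff]
    omega
  have e2 : decide (q < 56 ∧ q % 2 = 0) = false := by
    rw [decide_eq_false_iff_not]
    omega
  have e3 : decide (q ≥ 1) = true := by
    rw [decide_eq_true_iff]
    omega
  rw [e1, e2, e3]
  simp

theorem testBit_mulImN_even (S N q : ℕ) (hq : q % 2 = 0) (h56 : q < 56) :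
    (mulImN S N).testBit q = (S.testBit (q + 1) ^^ N.testBit (q + 1)) := by
  unfold mulImN
  rw [Nat.testBit_or, Nat.testBit_shiftLeft, Nat.testBit_and, Nat.testBit_and, Nat.testBit_shiftRight,
    testBit_E0m, testBit_E0m, Nat.testBit_xor]
  have e1 : decide (q - 1 < 56 ∧ (q - 1) % 2 = 0) = false ∨ ¬ q ≥ 1 := by
    by_cases h : q ≥ 1
    · left
      rw [decide_eq_false_iff_not]
      omega
    · right; exact h
  have e2 : decide (q < 56 ∧ q % 2 = 0) = true := by
    rw [decide_eq_true_iff]
    exact ⟨h56, hq⟩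
  rw [e2, Nat.add_comm 1 q]
  rcases e1 with e1 | e1
  · rw [e1]; simp
  · have : decide (q ≥ 1) = false := by simpa using e1
    rw [this]; simp

theorem testBit_mulImN_odd (S N q : ℕ) (hq : q % 2 = 1) (h56 : q < 56) :
    (mulImN S N).testBit q = N.testBit (q - 1) := by
  unfold mulImN
  rw [Nat.testBit_or, Nat.testBit_shiftLeft, Nat.testBit_and, Nat.testBit_and, Nat.testBit_shiftRight,
    testBit_E0m, testBit_E0m, Nat.testBit_xor]
  have e1 : decide (q - 1 < 56 ∧ (q - 1) % 2 = 0) = true := by
    rw [decide_eq_true_iff]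
    omega
  have e2 : decide (q < 56 ∧ q % 2 = 0) = false := by
    rw [decide_eq_false_iff_not]
    omega
  have e3 : decide (q ≥ 1) = true := by
    rw [decide_eq_true_iff]
    omega
  rw [e1, e2, e3]
  simp

theorem sub_testBit (S N : ℕ) (h : N &&& S = N) (q : ℕ) (hN : N.testBit q = true) : S.testBit q = true := by
  have := congrArg (fun m => m.testBit q) h
  simp only [Nat.testBit_and] at this
  rw [hN] at this
  simpa using this

/-- the multiplication by the unit `i` on the sets of positions -/
theorem iF_vecM (S N : ℕ) (c : ℤ) (h : N &&& S = N) (q : ℕ) (hq : q < 56) :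
    iF (vecM S N c) q = vecM (swp S) (mulImN S N) c q := by
  rcases Nat.mod_two_eq_zero_or_one q with h2 | h2
  · rw [iF_even _ _ h2]
    unfold vecM
    rw [testBit_swp_even S q h2 hq, testBit_mulImN_even S N q h2 hq]
    cases hN : N.testBit (q + 1)
    · cases hS : S.testBit (q + 1) <;> simp
    · rw [sub_testBit S N h (q + 1) hN]
      simp
  · rw [iF_odd _ _ h2]
    unfold vecM
    rw [testBit_swp_odd S q h2 hq, testBit_mulImN_odd S N q h2 hq]

theorem neg_vecM (S N : ℕ) (c : ℤ) (h : N &&& S = N) (q : ℕ) :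
    -vecM S N c q = vecM S (S ^^^ N) c q := by
  unfold vecM
  rw [Nat.testBit_xor]
  cases hN : N.testBit q
  · cases hS : S.testBit q <;> simp
  · rw [sub_testBit S N h q hN]
    simp

theorem xor_sub (S N : ℕ) (h : N &&& S = N) : (S ^^^ N) &&& S = S ^^^ N := by
  apply Nat.eq_of_testBit_eq
  intro q
  rw [Nat.testBit_and, Nat.testBit_xor]
  cases hN : N.testBit q
  · cases hS : S.testBit q <;> simp
  · rw [sub_testBit S N h q hN]
    simp

/-! ### The vectors of the lines -/

/-- the absolute value of the nonzero entries of the vectors of a line -/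
def scl (j : ℕ) : ℤ := if ltF j = 0 then 1 else 4

/-- the coordinates of the multiple by a power of `i` of the vector of a line -/
def minF (j u : ℕ) : ℕ → ℤ := vecM (mvS (ltS j) u) (mvN (ltS j) (ltN j) u) (scl j)

/-- the multiple by a power of `i` of the vector of a line -/
def minV (j u : ℕ) : RuVec := ofF (minF j u)

theorem chk_LT : ∀ j < 4060, ltN j &&& ltS j = ltN j ∧ ltS j < 2 ^ 56 ∧
    ((ltF j = 0 ∧ pcF (ltS j) = 16) ∨ (ltF j = 1 ∧ pcF (ltS j) = 1)) := by decide +kernel

theorem minV_one (j : ℕ) (hj : j < 4060) : minV j 1 = gI • minV j 0 := by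
  unfold minV
  rw [gI_smul_ofF]
  apply ofF_congr
  intro q hq
  exact (iF_vecM _ _ _ (chk_LT j hj).1 q hq).symm

theorem minV_two (j : ℕ) (hj : j < 4060) : minV j 2 = -minV j 0 := by
  unfold minV
  rw [← ofF_neg]
  apply ofF_congr
  intro q _
  exact (neg_vecM _ _ _ (chk_LT j hj).1 q).symm

theorem minV_three (j : ℕ) (hj : j < 4060) : minV j 3 = gI • minV j 2 := by
  unfold minV
  rw [gI_smul_ofF]
  apply ofF_congr
  intro q hq
  exact (iF_vecM _ _ _ (xor_sub _ _ (chk_LT j hj).1) q hq).symm

theorem gI_smul_gI_smul (v : RuVec) : gI • gI • v = -v := by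
  funext p
  show gI * (gI * v p) = -v p
  rw [← mul_assoc]
  have : gI * gI = -1 := by
    apply Zsqrtd.ext <;> simp [gI]
  rw [this, neg_one_mul]

theorem gI_smul_neg (v : RuVec) : gI • (-v) = -(gI • v) := smul_neg gI v

theorem gI_smul_minV (j : ℕ) (hj : j < 4060) (u : ℕ) (hu : u < 4) :
    gI • minV j u = minV j ((u + 1) % 4) := by
  interval_cases u
  · exact (minV_one j hj).symm
  · rw [minV_one j hj, gI_smul_gI_smul]
    exact (minV_two j hj).symm
  · exact (minV_three j hj).symm
  · rw [minV_three j hj, gI_smul_gI_smul, minV_two j hj, neg_neg]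

theorem neg_minV (j : ℕ) (hj : j < 4060) (u : ℕ) (hu : u < 4) : -minV j u = minV j ((u + 2) % 4) := by
  rw [← gI_smul_gI_smul, gI_smul_minV j hj u hu, gI_smul_minV j hj _ (Nat.mod_lt _ (by norm_num))]
  congr 1
  omega

end Cfsg.Agent.Lib.Helper1.RuLat
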