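import Mathlib
import Cfsg.Agent.Lib.Helper1.RuL9
import Cfsg.Agent.Lib.Helper1.RuL14

set_option autoImplicit false
set_option maxRecDepth 100000

/-!
# The rank 28 lattice over the Gaussian integers: the classes with sixteen odd positions

For a set of sixteen odd positions, the congruences modulo 4 either have no solution, or determine
the negative positions from those at a few free positions; each solution is found in the table of
the lines.
-/

namespace Cfsg.Agent.Lib.Helper1.RuLat

open Cfsg.Spor

/-! ### The classes without solution -/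

/-- the check of a class without solution -/
def chkU (e : ℕ × ℕ × ℕ) : Bool :=
  (e.2.1 == MY e.1) && (pcF e.2.1 == 16) &&
    match CYl (MTl e.2.1) e.2.2 with
    | (m, t) => (m &&& e.2.1 == 0) && (t % 4 == 2)

theorem chkU_spec (e : ℕ × ℕ × ℕ) (h : chkU e = true) (σ : ℕ) (hσ : σ &&& MY e.1 = σ)
    (hs : ∀ Y, Sat σ 0 (CYl (MTl (MY e.1)) Y)) : False := by
  obtain ⟨y, S, Y0⟩ := e
  unfold chkU at h
  simp only [Bool.and_eq_true] at h
  obtain ⟨⟨h1, _⟩, h3⟩ := h
  have hS : S = MY y := by simpa using h1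
  simp only at hσ hs
  rw [← hS] at hσ hs
  have h4 := hs Y0
  rcases hm : CYl (MTl S) Y0 with ⟨m, t⟩
  rw [hm] at h3 h4
  simp only [Bool.and_eq_true] at h3
  have a1 : m &&& S = 0 := by simpa using h3.1
  have a2 : t % 4 = 2 := by simpa using h3.2
  unfold Sat at h4
  have e3 : m &&& σ = 0 := by
    rw [← hσ, Nat.and_comm σ S, ← Nat.and_assoc, a1, Nat.zero_and]
  simp only at h4
  rw [e3, Nat.and_zero, pc_zero] at h4
  omega

/-! ### The classes with solutions -/

theorem countP_or_disjoint (l : List ℕ) (f g : ℕ → Bool) (h : ∀ q, ¬ (f q = true ∧ g q = true)) :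
    l.countP (fun q => f q || g q) = l.countP f + l.countP g := by
  induction l with
  | nil => rfl
  | cons a t ih =>
    rw [List.countP_cons, List.countP_cons, List.countP_cons, ih]
    have := h a
    cases hf : f a <;> cases hg : g a <;> simp_all <;> omega

theorem pc_or_disjoint (a b : ℕ) (h : a &&& b = 0) : pc (a ||| b) = pc a + pc b := by
  unfold pc
  rw [← countP_or_disjoint]
  · apply List.countP_congr
    intro q _
    rw [Nat.testBit_or]
  · intro q ⟨h1, h2⟩
    have := congrArg (fun m => m.testBit q) h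
    simp only [Nat.testBit_and, Nat.zero_testBit] at this
    rw [h1, h2] at this
    simp at this

/-- the table of the values of the first nineteen generators -/
def TvL (Tv : ℕ) : List ℕ := (List.range 19).map fun j => (Tv >>> (2 * j)) &&& 3

/-- whether the position of a pivot is a negative position -/
def oddP (pv D : ℕ) : Bool := decide ((pv / 2 ^ 25 % 2 + pcF ((pv >>> 26) &&& D)) % 2 = 1)

/-- the negative positions at the pivots, from the negative positions at the free positions -/
def pivBits (piv : List ℕ) (D : ℕ) : ℕ :=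
  piv.foldr (fun pv acc => (if oddP pv D then 2 ^ (pv % 64) else 0) ||| acc) 0

theorem testBit_pivBits (piv : List ℕ) (D q : ℕ) :
    (pivBits piv D).testBit q = piv.any fun pv => decide (pv % 64 = q) && oddP pv D := by
  induction piv with
  | nil => simp [pivBits]
  | cons pv t ih =>
    show ((if oddP pv D then 2 ^ (pv % 64) else 0) ||| pivBits t D).testBit q = _
    rw [Nat.testBit_or, ih, List.any_cons]
    congr 1
    cases oddP pv D
    · simp
    · simp [Nat.testBit_two_pow]

/-- the check that a vector is in the table of the lines -/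
def chkLn (S Nk code : ℕ) : Bool :=
  decide (code < 16240) && frc (ltE (code / 4)) fun e =>
    (e >>> 112 == 0) && (mvS (e &&& m56) (code % 4) == S) &&
      (mvN (e &&& m56) ((e >>> 56) &&& m56) (code % 4) == Nk)

theorem chkLn_spec (S Nk code : ℕ) (h : chkLn S Nk code = true) :
    code < 16240 ∧ ltF (code / 4) = 0 ∧ mvS (ltS (code / 4)) (code % 4) = S ∧
      mvN (ltS (code / 4)) (ltN (code / 4)) (code % 4) = Nk := by
  unfold chkLn at h
  rw [frc_eq] at h
  simp only [Bool.and_eq_true] at h
  obtain ⟨h1, ⟨h2, h3⟩, h4⟩ := h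
  exact ⟨of_decide_eq_true h1, by simpa [ltF] using h2, by simpa [ltS] using h3,
    by simpa [ltS, ltN] using h4⟩

/-- the check of a pivot -/
def chkPiv (S PV : ℕ) (L : List (ℕ × ℕ)) (pv : ℕ) : Bool :=
  match CYl L (pv / 64 % 2 ^ 19) with
  | (m, t) => (m &&& S == pv >>> 26) && (t % 4 == 2 * (pv / 2 ^ 25 % 2)) &&
      ((pv >>> 26) &&& PV == 2 ^ (pv % 64))

/-- the check of a class with solutions -/
def chkS (e : ℕ × ℕ × ℕ × List ℕ × List ℕ × List ℕ) : Bool :=
  (e.2.1 == MY e.1) && (pcF e.2.1 == 16) && (MTl e.2.1 == MT.zip (TvL e.2.2.1)) &&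
    frc (maskL (e.2.2.2.2.1.map (· % 64))) fun PV => frc (maskL e.2.2.2.1) fun F =>
      (PV ||| F == e.2.1) && (PV &&& F == 0) &&
      e.2.2.2.2.1.all (chkPiv e.2.1 PV (MT.zip (TvL e.2.2.1))) &&
      (e.2.2.2.2.2.length == 2 ^ e.2.2.2.1.length) &&
      (e.2.2.2.2.2.zip (List.range (2 ^ e.2.2.2.1.length))).all fun ck =>
        frc (dep e.2.2.2.1 ck.2) fun D => chkLn e.2.1 (D ||| pivBits e.2.2.2.2.1 D) ck.1

theorem and_sub_left (a S σ : ℕ) (hσ : σ &&& S = σ) : a &&& σ = (a &&& S) &&& σ := by
  conv_lhs => rw [← hσ]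
  rw [Nat.and_comm σ S, Nat.and_assoc]

/-- the value of a negative position at a pivot -/
theorem oddP_eq (S PV F σ : ℕ) (hS : PV ||| F = S) (hd : PV &&& F = 0) (hσ : σ &&& S = σ)
    (hS56 : S < 2 ^ 56)
    (L : List (ℕ × ℕ)) (hs : ∀ Y, Sat σ 0 (CYl L Y)) (pv : ℕ) (h : chkPiv S PV L pv = true) :
    oddP pv (σ &&& F) = σ.testBit (pv % 64) := by
  unfold chkPiv at h
  have h4 := hs (pv / 64 % 2 ^ 19)
  rcases hm : CYl L (pv / 64 % 2 ^ 19) with ⟨m, t⟩
  rw [hm] at h h4
  simp only [Bool.and_eq_true] at h
  obtain ⟨⟨a1, a2⟩, a3⟩ := h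
  have a1' : m &&& S = pv >>> 26 := by simpa using a1
  have a2' : t % 4 = 2 * (pv / 2 ^ 25 % 2) := by simpa using a2
  have a3' : (pv >>> 26) &&& PV = 2 ^ (pv % 64) := by simpa using a3
  unfold Sat at h4
  simp only at h4
  rw [Nat.and_zero, pc_zero, and_sub_left m S σ hσ, a1'] at h4
  -- split of the set of negative positions
  have e1 : (pv >>> 26) &&& σ = (2 ^ (pv % 64) &&& σ) ||| ((pv >>> 26) &&& (σ &&& F)) := by
    have hσ2 : σ = (σ &&& PV) ||| (σ &&& F) := by
      rw [← Nat.and_or_distrib_left, hS, hσ]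
    conv_lhs => rw [hσ2]
    rw [Nat.and_or_distrib_left]
    congr 1
    rw [← a3', Nat.and_assoc, Nat.and_comm σ PV]
  have e2 : (2 ^ (pv % 64) &&& σ) &&& ((pv >>> 26) &&& (σ &&& F)) = 0 := by
    apply Nat.eq_of_testBit_eq
    intro q
    have hq := congrArg (fun m => m.testBit q) hd
    have hq3 := congrArg (fun m => m.testBit q) a3'
    simp only [Nat.testBit_and, Nat.zero_testBit, Nat.testBit_two_pow] at hq hq3 ⊢
    by_cases hpq : pv % 64 = q
    · have : PV.testBit q = true := by
        have : decide (pv % 64 = q) = true := by simpa using hpq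
        rw [this] at hq3
        simp only [Bool.and_eq_true] at hq3
        exact hq3.2
      rw [this] at hq
      have : F.testBit q = false := by simpa using hq
      rw [this]
      simp
    · have : decide (pv % 64 = q) = false := by simpa using hpq
      rw [this]
      simp
  rw [e1, pc_or_disjoint _ _ e2, Nat.and_comm (2 ^ (pv % 64)) σ] at h4
  have hbit : pc (σ &&& 2 ^ (pv % 64)) = (σ.testBit (pv % 64)).toNat := by
    by_cases h56 : pv % 64 < 56
    · exact pc_and_two_pow σ _ h56
    · have hσ56 : σ < 2 ^ 56 := by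
        rw [← hσ]
        exact lt_of_le_of_lt Nat.and_le_right hS56
      have : σ.testBit (pv % 64) = false :=
        Nat.testBit_lt_two_pow (lt_of_lt_of_le hσ56 (Nat.pow_le_pow_right (by norm_num) (by omega)))
      rw [and_two_pow, this]
      exact pc_zero
  rw [hbit] at h4
  unfold oddP
  rw [pcF_eq]
  generalize pc ((pv >>> 26) &&& (σ &&& F)) = a at *
  generalize pv / 2 ^ 25 % 2 = c at *
  cases hb : σ.testBit (pv % 64)
  · rw [hb] at h4
    simp only [Bool.toNat_false] at h4
    rw [decide_eq_false_iff_not]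
    omega
  · rw [hb] at h4
    simp only [Bool.toNat_true] at h4
    rw [decide_eq_true_iff]
    omega

/-- the solutions of a checked class are in the table of the lines -/
theorem chkS_spec (e : ℕ × ℕ × ℕ × List ℕ × List ℕ × List ℕ) (h : chkS e = true) (σ : ℕ)
    (hσ : σ &&& MY e.1 = σ) (hs : ∀ Y, Sat σ 0 (CYl (MTl (MY e.1)) Y)) :
    ∃ code < 16240, ltF (code / 4) = 0 ∧ mvS (ltS (code / 4)) (code % 4) = MY e.1 ∧
      mvN (ltS (code / 4)) (ltN (code / 4)) (code % 4) = σ := by
  obtain ⟨y, S, Tv, fl, piv, ln⟩ := e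
  unfold chkS at h
  simp only [frc_eq, Bool.and_eq_true] at h
  obtain ⟨⟨⟨h1, _⟩, h3⟩, ⟨⟨⟨h4, h5⟩, h6⟩, h7⟩, h8⟩ := h
  have hS : S = MY y := by simpa using h1
  simp only at hσ hs ⊢
  rw [← hS] at hσ hs ⊢
  have hL : MTl S = MT.zip (TvL Tv) := by simpa using h3
  have hPF : maskL (piv.map (· % 64)) ||| maskL fl = S := by simpa using h4
  have hd : maskL (piv.map (· % 64)) &&& maskL fl = 0 := by simpa using h5
  have hlen : ln.length = 2 ^ fl.length := by simpa using h7
  rw [List.all_eq_true] at h6 h8
  rw [← hL] at h6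
  have hS56 : S < 2 ^ 56 := by rw [hS]; exact MY_lt y
  -- the free part
  have hκ := ext_lt fl σ
  have hD := dep_ext fl σ
  have hmem : (ln.getD (ext fl σ) 0, ext fl σ) ∈ ln.zip (List.range (2 ^ fl.length)) := by
    have hl : ext fl σ < (ln.zip (List.range (2 ^ fl.length))).length := by
      rw [List.length_zip, List.length_range, hlen]
      simpa using hκ
    have := List.getElem_mem hl
    rw [List.getElem_zip, List.getElem_range] at this
    rwa [List.getD_eq_getElem _ _ (by rw [hlen]; exact hκ)]
  have h9 := h8 _ hmem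
  dsimp only at h9
  rw [hD] at h9
  obtain ⟨c1, c2, c3, c4⟩ := chkLn_spec _ _ _ h9
  refine ⟨_, c1, c2, c3, ?_⟩
  rw [c4]
  -- the set of negative positions is determined by its free part
  apply Nat.eq_of_testBit_eq
  intro q
  rw [Nat.testBit_or, testBit_pivBits, Nat.testBit_and]
  have hodd : ∀ pv ∈ piv, oddP pv (σ &&& maskL fl) = σ.testBit (pv % 64) := fun pv hpv =>
    oddP_eq S _ _ σ hPF hd hσ hS56 (MTl S) hs pv (h6 pv hpv)
  have hq1 := congrArg (fun m => m.testBit q) hd
  have hq2 := congrArg (fun m => m.testBit q) hPF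
  have hq3 := congrArg (fun m => m.testBit q) hσ
  simp only [Nat.testBit_and, Nat.testBit_or, Nat.zero_testBit] at hq1 hq2 hq3
  cases hF : (maskL fl).testBit q
  · rw [hF] at hq1 hq2
    simp only [Bool.and_false, Bool.false_or, Bool.or_false] at hq2 ⊢
    cases hPV : (maskL (piv.map (· % 64))).testBit q
    · rw [hPV] at hq2
      rw [← hq2] at hq3
      have hσq : σ.testBit q = false := by simpa using hq3.symm
      rw [hσq, List.any_eq_false]
      intro pv hpv
      rw [testBit_maskL] at hPV
      have : ¬ q ∈ piv.map (· % 64) := by simpa using hPV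
      have hne : ¬ pv % 64 = q := fun e => this (List.mem_map.mpr ⟨pv, hpv, e⟩)
      simp [hne]
    · rw [testBit_maskL] at hPV
      have hq : q ∈ piv.map (· % 64) := by simpa using hPV
      obtain ⟨pv0, hpv0, e0⟩ := List.mem_map.mp hq
      cases hσq : σ.testBit q
      · rw [List.any_eq_false]
        intro pv hpv
        by_cases hne : pv % 64 = q
        · have := hodd pv hpv
          rw [hne, hσq] at this
          simp [this]
        · simp [hne]
      · rw [List.any_eq_true]
        refine ⟨pv0, hpv0, ?_⟩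
        have := hodd pv0 hpv0
        have e0' : pv0 % 64 = q := e0
        rw [e0', hσq] at this
        simp [e0', this]
  · rw [hF] at hq1
    simp only [Bool.and_true] at hq1 ⊢
    cases hσq : σ.testBit q
    · simp only [Bool.false_or]
      rw [List.any_eq_false]
      intro pv hpv
      by_cases hne : pv % 64 = q
      · have := hodd pv hpv
        rw [hne, hσq] at this
        simp [this]
      · simp [hne]
    · simp

theorem chkS_pc (e : ℕ × ℕ × ℕ × List ℕ × List ℕ × List ℕ) (h : chkS e = true) : pc (MY e.1) = 16 := by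
  unfold chkS at h
  simp only [Bool.and_eq_true] at h
  obtain ⟨⟨⟨h1, h2⟩, _⟩, _⟩ := h
  have hS : e.2.1 = MY e.1 := by simpa using h1
  rw [← hS, ← pcF_eq]
  simpa using h2

theorem chkU_pc (e : ℕ × ℕ × ℕ) (h : chkU e = true) : pc (MY e.1) = 16 := by
  unfold chkU at h
  simp only [Bool.and_eq_true] at h
  obtain ⟨⟨h1, h2⟩, _⟩ := h
  have hS : e.2.1 = MY e.1 := by simpa using h1
  rw [← hS, ← pcF_eq]
  simpa using h2

end Cfsg.Agent.Lib.Helper1.RuLat
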