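import Mathlib
import Cfsg.Agent.Lib.Helper1.RuL15
import Cfsg.Agent.Lib.Helper1.RuLD7

set_option autoImplicit false
set_option maxRecDepth 100000

/-! The rank 28 lattice over the Gaussian integers: the check of the classes with solutions, part 1. -/

namespace Cfsg.Agent.Lib.Helper1.RuLat

theorem chk_S0 : entS0.all chkS = true := by decide +kernel

theorem chk_S1 : entS1.all chkS = true := by decide +kernel

theorem chk_S2 : entS2.all chkS = true := by decide +kernel

theorem chk_S3 : entS3.all chkS = true := by decide +kernel

theorem chk_S4 : entS4.all chkS = true := by decide +kernel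

end Cfsg.Agent.Lib.Helper1.RuLat
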