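import Mathlib
import Cfsg.Agent.Lib.Helper1.RuL15
import Cfsg.Agent.Lib.Helper1.RuLD7

set_option autoImplicit false
set_option maxRecDepth 100000

/-! The rank 28 lattice over the Gaussian integers: the check of the classes with solutions, part 2. -/

namespace Cfsg.Agent.Lib.Helper1.RuLat

theorem chk_S5 : entS5.all chkS = true := by decide +kernel

theorem chk_S6 : entS6.all chkS = true := by decide +kernel

theorem chk_S7 : entS7.all chkS = true := by decide +kernel

theorem chk_S8 : entS8.all chkS = true := by decide +kernel

theorem chk_S9 : entS9.all chkS = true := by decide +kernel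

end Cfsg.Agent.Lib.Helper1.RuLat
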