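import Mathlib
import Cfsg.Agent.Lib.Helper1.RuL15
import Cfsg.Agent.Lib.Helper1.RuLD4
import Cfsg.Agent.Lib.Helper1.RuLD5
import Cfsg.Agent.Lib.Helper1.RuLD7
import Cfsg.Agent.Lib.Helper1.RuLD8

set_option autoImplicit false
set_option maxRecDepth 100000

/-! The rank 28 lattice over the Gaussian integers: the check of the classes without solution, and the
list of all the classes. -/

namespace Cfsg.Agent.Lib.Helper1.RuLat

theorem chk_U : entU.all chkU = true := by decide +kernel

/-- all the classes with solutions -/
def entS : List (ℕ × ℕ × ℕ × List ℕ × List ℕ × List ℕ) :=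
  entS0 ++ entS1 ++ entS2 ++ entS3 ++ entS4 ++ entS5 ++ entS6 ++ entS7 ++ entS8 ++ entS9

theorem chk_good16 : (frc (maskL (entS.map (·.1))) fun bS => frc (maskL (entU.map (·.1))) fun bU =>
    goodL.flatten.all fun y =>
      (y == 0) || (entE.any fun e => e.1 == y) || bS.testBit y || bU.testBit y) = true := by
  decide +kernel

theorem chk_entE8 : (entE.all fun e => pcF (MY e.1) == 8) = true := by decide +kernel

end Cfsg.Agent.Lib.Helper1.RuLat
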