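import Mathlib
import Cfsg.Agent.Lib.Helper1.RuL13
import Cfsg.Agent.Lib.Helper1.RuLC1
import Cfsg.Agent.Lib.Helper1.RuLC2
import Cfsg.Agent.Lib.Helper1.RuLC3

set_option autoImplicit false
set_option maxRecDepth 100000

/-!
# The rank 28 lattice over the Gaussian integers: the vectors of norm 16

Every vector of norm 16 of the lattice is one of the 16240 vectors of the table of the lines.
-/

namespace Cfsg.Agent.Lib.Helper1.RuLat

open Cfsg.Spor

theorem mem_entS (e : ℕ × ℕ × ℕ × List ℕ × List ℕ × List ℕ) (h : e ∈ entS) : chkS e = true := by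
  unfold entS at h
  simp only [List.mem_append] at h
  have a0 := chk_S0; have a1 := chk_S1; have a2 := chk_S2; have a3 := chk_S3; have a4 := chk_S4
  have a5 := chk_S5; have a6 := chk_S6; have a7 := chk_S7; have a8 := chk_S8; have a9 := chk_S9
  rw [List.all_eq_true] at a0 a1 a2 a3 a4 a5 a6 a7 a8 a9
  rcases h with ((((((((h | h) | h) | h) | h) | h) | h) | h) | h) | h
  · exact a0 e h
  · exact a1 e h
  · exact a2 e h
  · exact a3 e h
  · exact a4 e h
  · exact a5 e h
  · exact a6 e h
  · exact a7 e h
  · exact a8 e h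
  · exact a9 e h

/-- the coordinates of a vector with entries `1`, `-1`, `0` from its sets of positions -/
theorem coord_eq_vecM (x : ℕ → ℤ) (hx : ∀ q < 56, |x q| ≤ 2) (hE : maskE x = 0) (q : ℕ) (hq : q < 56) :
    x q = vecM (maskS x) (maskN x) 1 q := by
  have h2 : (maskE x).testBit q = false := by rw [hE, Nat.zero_testBit]
  unfold vecM maskS maskN
  unfold maskE at h2
  rw [testBit_mkB _ q hq] at h2 ⊢
  rw [testBit_mkB _ q hq]
  have h2' : ¬ (x q % 2 = 0 ∧ x q ≠ 0) := by simpa using h2
  have h := hx q hq
  rw [abs_le] at h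
  have : x q = -2 ∨ x q = -1 ∨ x q = 0 ∨ x q = 1 ∨ x q = 2 := by omega
  rcases this with e | e | e | e | e
  · exfalso; apply h2'; rw [e]; constructor <;> norm_num
  · rw [e]; simp
  · rw [e]; simp
  · rw [e]; simp
  · exfalso; apply h2'; rw [e]; constructor <;> norm_num

/-- the vectors of norm 16 with entries of absolute value at most 2 -/
theorem small_entries (v : RuVec) (hv : v ∈ ruLattice) (hx : ∀ q < 56, |coord v q| ≤ 2)
    (h16 : ruNorm v = 16) :
    ∃ code < 16240, ltF (code / 4) = 0 ∧ v = minV (code / 4) (code % 4) := by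
  have hn := norm_masks (coord v) hx
  rw [← ruNorm_eq_sumR, h16] at hn
  obtain ⟨Y, hY, hS⟩ := maskS_eq_MY v hv
  have hpc : pc (MY Y) ≤ 16 := by
    rw [← hS]
    omega
  have hg := good_of_small Y hY hpc
  have hc := chk_good16
  rw [frc_eq, frc_eq, List.all_eq_true] at hc
  have h1 := hc Y hg
  simp only [Bool.or_eq_true] at h1
  have hsat : ∀ Y', Sat (maskN (coord v)) (maskE (coord v)) (CYl (MTl (MY Y)) Y') := by
    intro Y'
    rw [← hS]
    exact sat_of_mem v hv hx Y'
  have hNS : maskN (coord v) &&& MY Y = maskN (coord v) := by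
    rw [← hS]
    exact maskN_sub _
  rcases h1 with ((h1 | h1) | h1) | h1
  · -- no odd entry
    exfalso
    have hY0 : Y = 0 := by simpa using h1
    rw [hY0, MY_zero] at hS
    have hpcE : pc (maskE (coord v)) = 4 := by
      rw [hS, pc_zero] at hn
      omega
    have hne : maskE (coord v) ≠ 0 := by
      intro h0
      rw [h0, pc_zero] at hpcE
      omega
    obtain ⟨j, hj, hodd⟩ := dual_dist _ (maskE_lt _) hne (by omega)
    have := even_of_maskS_zero v hv hx hS j hj
    omega
  · -- eight odd entries
    exfalso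
    rw [List.any_eq_true] at h1
    obtain ⟨e, he, hey⟩ := h1
    have hey' : e.1 = Y := by simpa using hey
    have hce := chk_entE
    rw [List.all_eq_true] at hce
    have h2 := hce e he
    have h8 := chk_entE8
    rw [List.all_eq_true] at h8
    have h3 := h8 e he
    have h3' : pc (MY Y) = 8 := by
      rw [← hey', ← pcF_eq]
      simpa using h3
    apply chkEb_spec 2 e h2 (maskN (coord v)) (maskE (coord v))
    · rw [hey']; exact hNS
    · exact maskE_lt _
    · rw [hS, h3'] at hn
      omega
    · rw [hey']; exact hsat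
  · -- sixteen odd entries, with solutions
    rw [testBit_maskL] at h1
    have h1' : Y ∈ entS.map (·.1) := by simpa using h1
    obtain ⟨e, he, hey⟩ := List.mem_map.mp h1'
    have hey' : e.1 = Y := hey
    have hchk := mem_entS e he
    have h16' := chkS_pc e hchk
    rw [hey'] at h16'
    have hE : maskE (coord v) = 0 := by
      apply eq_zero_of_pc _ (maskE_lt _)
      rw [hS, h16'] at hn
      omega
    rw [hE] at hsat
    obtain ⟨code, c1, c2, c3, c4⟩ := chkS_spec e hchk (maskN (coord v)) (by rw [hey']; exact hNS)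
      (by rw [hey']; exact hsat)
    refine ⟨code, c1, c2, ?_⟩
    rw [← ofF_coord v]
    unfold minV
    apply ofF_congr
    intro q hq
    rw [coord_eq_vecM (coord v) hx hE q hq]
    unfold minF scl
    rw [c3, c4, hey', ← hS, if_pos c2]
  · -- sixteen odd entries, without solution
    exfalso
    rw [testBit_maskL] at h1
    have h1' : Y ∈ entU.map (·.1) := by simpa using h1
    obtain ⟨e, he, hey⟩ := List.mem_map.mp h1'
    have hey' : e.1 = Y := hey
    have hcu := chk_U
    rw [List.all_eq_true] at hcu
    have hchk := hcu e he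
    have h16' := chkU_pc e hchk
    rw [hey'] at h16'
    have hE : maskE (coord v) = 0 := by
      apply eq_zero_of_pc _ (maskE_lt _)
      rw [hS, h16'] at hn
      omega
    rw [hE] at hsat
    exact chkU_spec e hchk (maskN (coord v)) (by rw [hey']; exact hNS) (by rw [hey']; exact hsat)

/-! ### The vectors with a single nonzero entry -/

theorem chk_gen4 : ∀ q < 56, ∀ k < 56, genF (37 + q) k = if k = q then 4 else 0 := by decide +kernel

theorem chk_frame : ∀ q < 56, frameL.getD q 0 < 16240 ∧ ltF (frameL.getD q 0 / 4) = 1 ∧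
    mvS (ltS (frameL.getD q 0 / 4)) (frameL.getD q 0 % 4) = 2 ^ q ∧
    mvN (ltS (frameL.getD q 0 / 4)) (ltN (frameL.getD q 0 / 4)) (frameL.getD q 0 % 4) = 0 := by
  decide +kernel

theorem gen4_eq_minV (q : ℕ) (hq : q < 56) :
    gen (37 + q) = minV (frameL.getD q 0 / 4) (frameL.getD q 0 % 4) := by
  obtain ⟨_, h2, h3, h4⟩ := chk_frame q hq
  unfold gen minV
  apply ofF_congr
  intro k hk
  rw [chk_gen4 q hq k hk]
  have hs : scl (frameL.getD q 0 / 4) = 4 := by
    unfold scl
    rw [h2]
    rfl
  unfold minF
  rw [h3, h4, hs]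
  unfold vecM
  rw [Nat.zero_testBit, Nat.testBit_two_pow]
  by_cases h : k = q
  · subst h; simp
  · have : ¬ q = k := fun e => h e.symm
    simp [h, this]

theorem dotV_gen4 (v : RuVec) (q : ℕ) (hq : q < 56) : dotV v (gen (37 + q)) = 4 * coord v q := by
  unfold dotV dotF
  rw [sumR_eq, Finset.sum_eq_single q]
  · rw [coord_gen _ _ hq, chk_gen4 q hq q hq, if_pos rfl]
    ring
  · intro k hk hne
    rw [coord_gen _ _ (Finset.mem_range.mp hk), chk_gen4 q hq k (Finset.mem_range.mp hk), if_neg hne,
      mul_zero]
  · intro h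
    exact absurd (Finset.mem_range.mpr hq) h

theorem ruNorm_gen4 (q : ℕ) (hq : q < 56) : ruNorm (gen (37 + q)) = 16 := by
  rw [ruNorm_eq_dotV, dotV_gen4 _ q hq, coord_gen _ _ hq, chk_gen4 q hq q hq, if_pos rfl]
  norm_num

/-- every vector of norm 16 of the lattice is in the table of the lines -/
theorem min_vectors (v : RuVec) (hv : v ∈ ruLattice) (h16 : ruNorm v = 16) :
    ∃ j < 4060, ∃ u < 4, v = minV j u := by
  by_cases hx : ∀ q < 56, |coord v q| ≤ 2
  · obtain ⟨code, c1, _, c3⟩ := small_entries v hv hx h16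
    exact ⟨code / 4, by omega, code % 4, Nat.mod_lt _ (by norm_num), c3⟩
  · push_neg at hx
    obtain ⟨q, hq, hbig⟩ := hx
    have hsq := coord_sq_le v q hq
    rw [h16] at hsq
    obtain ⟨c1, _, _, _⟩ := chk_frame q hq
    have hg := gen_mem_ruLattice (37 + q) (by omega)
    have hj : frameL.getD q 0 / 4 < 4060 := by omega
    have hu : frameL.getD q 0 % 4 < 4 := Nat.mod_lt _ (by norm_num)
    by_cases hpos : 0 ≤ coord v q
    · rw [abs_of_nonneg hpos] at hbig
      -- subtract the vector with the entry 4
      have hw : v + -gen (37 + q) ∈ ruLattice := ruLattice.add_mem hv (ruLattice.neg_mem hg)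
      have hnw : ruNorm (v + -gen (37 + q)) = 32 - 8 * coord v q := by
        rw [ruNorm_add, ruNorm_neg, dotV_neg_right, dotV_gen4 v q hq, h16, ruNorm_gen4 q hq]
        ring
      have h3 : coord v q = 3 ∨ coord v q = 4 := by
        have : coord v q ≤ 4 := by nlinarith
        omega
      rcases h3 with h3 | h3
      · exfalso
        rw [h3] at hnw
        exact norm_ne_eight _ hw (by rw [hnw]; norm_num)
      · rw [h3] at hnw
        have := eq_zero_of_norm _ (by rw [hnw]; norm_num : ruNorm (v + -gen (37 + q)) ≤ 0)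
        have hv' : v = gen (37 + q) := by
          rw [← sub_eq_add_neg, sub_eq_zero] at this
          exact this
        exact ⟨_, hj, _, hu, by rw [hv', gen4_eq_minV q hq]⟩
    · push_neg at hpos
      rw [abs_of_neg hpos] at hbig
      have hw : v + gen (37 + q) ∈ ruLattice := ruLattice.add_mem hv hg
      have hnw : ruNorm (v + gen (37 + q)) = 32 + 8 * coord v q := by
        rw [ruNorm_add, dotV_gen4 v q hq, h16, ruNorm_gen4 q hq]
        ring
      have h3 : coord v q = -3 ∨ coord v q = -4 := by
        have : -4 ≤ coord v q := by nlinarith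
        omega
      rcases h3 with h3 | h3
      · exfalso
        rw [h3] at hnw
        exact norm_ne_eight _ hw (by rw [hnw]; norm_num)
      · rw [h3] at hnw
        have := eq_zero_of_norm _ (by rw [hnw]; norm_num : ruNorm (v + gen (37 + q)) ≤ 0)
        have hv' : v = -gen (37 + q) := by
          exact eq_neg_of_add_eq_zero_left this
        refine ⟨_, hj, (frameL.getD q 0 % 4 + 2) % 4, Nat.mod_lt _ (by norm_num), ?_⟩
        rw [hv', gen4_eq_minV q hq, neg_minV _ hj _ hu]

end Cfsg.Agent.Lib.Helper1.RuLat
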