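import Mathlib
import Cfsg.Agent.Lib.Helper1.RuL13
import Cfsg.Agent.Lib.Helper1.RuL14

set_option autoImplicit false
set_option maxRecDepth 100000

/-!
# The rank 28 lattice over the Gaussian integers: maps given by twenty-eight vectors of the table

A list of twenty-eight codes of vectors of the table of the lines defines the map whose matrix over the
Gaussian integers has these vectors as columns.
-/

namespace Cfsg.Agent.Lib.Helper1.RuLat

open Cfsg.Spor

/-- the code of the column at a real position -/
def colC (codes : List ℕ) (q : ℕ) : ℕ :=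
  4 * (codes.getD (q / 2) 0 / 4) + (codes.getD (q / 2) 0 % 4 + q % 2) % 4

/-- the column at a real position -/
def colF (codes : List ℕ) (q : ℕ) : ℕ → ℤ := minF (colC codes q / 4) (colC codes q % 4)

/-- the map in coordinates -/
def X4F (codes : List ℕ) (x : ℕ → ℤ) : ℕ → ℤ := fun k => sumR fun q => x q * colF codes q k

/-- the map on vectors -/
def X4V (codes : List ℕ) (v : RuVec) : RuVec := ofF (X4F codes (coord v))

theorem X4F_add (codes : List ℕ) (x y : ℕ → ℤ) : X4F codes (x + y) = X4F codes x + X4F codes y := by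
  funext k
  show sumR (fun q => (x q + y q) * colF codes q k) = _
  rw [Pi.add_apply]
  unfold X4F
  rw [← sumR_add]
  apply sumR_congr
  intro q _
  ring

theorem X4V_add (codes : List ℕ) (v w : RuVec) : X4V codes (v + w) = X4V codes v + X4V codes w := by
  unfold X4V
  rw [coord_add_fun, X4F_add, ofF_add]

theorem X4F_congr (codes : List ℕ) {x y : ℕ → ℤ} (h : ∀ q < 56, x q = y q) (k : ℕ) :
    X4F codes x k = X4F codes y k := by
  unfold X4F
  apply sumR_congr
  intro q hq
  rw [h q hq]

theorem X4V_ofF (codes : List ℕ) (x : ℕ → ℤ) : X4V codes (ofF x) = ofF (X4F codes x) := by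
  unfold X4V
  apply ofF_congr
  intro k _
  exact X4F_congr codes (fun q hq => coord_ofF x q hq) k

/-! ### The multiplication by the unit `i` -/

theorem coord_gI_smul (v : RuVec) (q : ℕ) (hq : q < 56) : coord (gI • v) q = iF (coord v) q := by
  conv_lhs => rw [← ofF_coord v, gI_smul_ofF]
  exact coord_ofF _ q hq

theorem sumR_pairs (f : ℕ → ℤ) : sumR f = ∑ p ∈ Finset.range 28, (f (2 * p) + f (2 * p + 1)) := by
  rw [sumR_eq]
  have : ∀ n : ℕ, ∑ q ∈ Finset.range (2 * n), f q = ∑ p ∈ Finset.range n, (f (2 * p) + f (2 * p + 1)) := by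
    intro n
    induction n with
    | zero => rfl
    | succ n ih =>
      rw [show 2 * (n + 1) = 2 * n + 1 + 1 by ring, Finset.sum_range_succ, Finset.sum_range_succ, ih,
        Finset.sum_range_succ]
      ring
  exact this 28

theorem iF_sumR (c : ℕ → ℤ) (C : ℕ → ℕ → ℤ) (k : ℕ) :
    iF (fun k => sumR fun q => c q * C q k) k = sumR fun q => c q * iF (C q) k := by
  rcases Nat.mod_two_eq_zero_or_one k with h | h
  · rw [iF_even _ _ h]
    have : (fun q => c q * iF (C q) k) = fun q => -(c q * C q (k + 1)) := by
      funext q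
      rw [iF_even _ _ h]
      ring
    rw [this, sumR_eq, sumR_eq, Finset.sum_neg_distrib]
  · rw [iF_odd _ _ h]
    congr 1
    funext q
    rw [iF_odd _ _ h]

theorem minF_succ (j : ℕ) (hj : j < 4060) (u : ℕ) (hu : u < 4) (k : ℕ) (hk : k < 56) :
    minF j ((u + 1) % 4) k = iF (minF j u) k := by
  have h := gI_smul_minV j hj u hu
  unfold minV at h
  rw [gI_smul_ofF] at h
  exact (ofF_injective h k hk).symm

theorem iF_iF (x : ℕ → ℤ) (k : ℕ) : iF (iF x) k = -x k := by
  rcases Nat.mod_two_eq_zero_or_one k with h | h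
  · rw [iF_even _ _ h, iF_odd _ _ (by omega)]
    rfl
  · rw [iF_odd _ _ h, iF_even _ _ (by omega)]
    congr 2
    omega

/-- the codes are codes of vectors of the table -/
def CodesOK (codes : List ℕ) : Prop := ∀ p < 28, codes.getD p 0 < 16240

theorem colF_odd (codes : List ℕ) (hc : CodesOK codes) (p : ℕ) (hp : p < 28) (k : ℕ) (hk : k < 56) :
    colF codes (2 * p + 1) k = iF (colF codes (2 * p)) k := by
  have h1 := hc p hp
  unfold colF colC
  have e1 : (2 * p + 1) / 2 = p := by omega
  have e2 : 2 * p / 2 = p := by omega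
  have e3 : (2 * p + 1) % 2 = 1 := by omega
  have e4 : 2 * p % 2 = 0 := by omega
  rw [e1, e2, e3, e4]
  have e5 : (4 * (codes.getD p 0 / 4) + (codes.getD p 0 % 4 + 1) % 4) / 4 = codes.getD p 0 / 4 := by omega
  have e6 : (4 * (codes.getD p 0 / 4) + (codes.getD p 0 % 4 + 0) % 4) / 4 = codes.getD p 0 / 4 := by omega
  have e7 : (4 * (codes.getD p 0 / 4) + (codes.getD p 0 % 4 + 1) % 4) % 4 =
      (codes.getD p 0 % 4 + 1) % 4 := by omega
  have e8 : (4 * (codes.getD p 0 / 4) + (codes.getD p 0 % 4 + 0) % 4) % 4 = codes.getD p 0 % 4 := by omega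
  rw [e5, e6, e7, e8]
  exact minF_succ _ (by omega) _ (Nat.mod_lt _ (by norm_num)) k hk

theorem X4F_iF (codes : List ℕ) (hc : CodesOK codes) (x : ℕ → ℤ) (k : ℕ) (hk : k < 56) :
    X4F codes (iF x) k = iF (X4F codes x) k := by
  unfold X4F
  rw [iF_sumR, sumR_pairs, sumR_pairs]
  apply Finset.sum_congr rfl
  intro p hp
  have hp' := Finset.mem_range.mp hp
  have hk1 : k + 1 < 56 ∨ k % 2 = 1 := by omega
  rw [iF_even x (2 * p) (by omega), iF_odd x (2 * p + 1) (by omega), Nat.add_sub_cancel]
  have a1 : iF (colF codes (2 * p + 1)) k = -colF codes (2 * p) k := by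
    rcases Nat.mod_two_eq_zero_or_one k with h | h
    · rw [iF_even _ _ h, colF_odd codes hc p hp' (k + 1) (by omega), iF_odd _ _ (by omega)]
      rfl
    · rw [iF_odd _ _ h, colF_odd codes hc p hp' (k - 1) (by omega), iF_even _ _ (by omega)]
      congr 2
      omega
  rw [a1, colF_odd codes hc p hp' k hk]
  ring

theorem X4V_gI (codes : List ℕ) (hc : CodesOK codes) (v : RuVec) :
    X4V codes (gI • v) = gI • X4V codes v := by
  unfold X4V
  rw [gI_smul_ofF]
  apply ofF_congr
  intro k hk
  rw [← X4F_iF codes hc _ k hk]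
  exact X4F_congr codes (fun q hq => coord_gI_smul v q hq) k

/-! ### The norm -/

/-- the columns are pairwise orthogonal of norm 16 -/
def Unitary4 (codes : List ℕ) : Prop :=
  ∀ q < 56, ∀ q' < 56, dotF (colF codes q) (colF codes q') = if q = q' then 16 else 0

theorem dotF_X4F (codes : List ℕ) (hU : Unitary4 codes) (x y : ℕ → ℤ) :
    dotF (X4F codes x) (X4F codes y) = 16 * dotF x y := by
  unfold dotF X4F
  simp only [sumR_eq]
  calc ∑ k ∈ Finset.range 56, (∑ q ∈ Finset.range 56, x q * colF codes q k) *
        (∑ q' ∈ Finset.range 56, y q' * colF codes q' k)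
      = ∑ k ∈ Finset.range 56, ∑ q ∈ Finset.range 56, ∑ q' ∈ Finset.range 56,
          x q * y q' * (colF codes q k * colF codes q' k) := by
        apply Finset.sum_congr rfl
        intro k _
        rw [Finset.sum_mul_sum]
        apply Finset.sum_congr rfl
        intro q _
        apply Finset.sum_congr rfl
        intro q' _
        ring
    _ = ∑ q ∈ Finset.range 56, ∑ q' ∈ Finset.range 56, x q * y q' *
          ∑ k ∈ Finset.range 56, colF codes q k * colF codes q' k := by
        rw [Finset.sum_comm]
        apply Finset.sum_congr rfl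
        intro q _
        rw [Finset.sum_comm]
        apply Finset.sum_congr rfl
        intro q' _
        rw [Finset.mul_sum]
    _ = ∑ q ∈ Finset.range 56, ∑ q' ∈ Finset.range 56, x q * y q' * (if q = q' then 16 else 0) := by
        apply Finset.sum_congr rfl
        intro q hq
        apply Finset.sum_congr rfl
        intro q' hq'
        have := hU q (Finset.mem_range.mp hq) q' (Finset.mem_range.mp hq')
        unfold dotF at this
        rw [sumR_eq] at this
        rw [this]
    _ = ∑ q ∈ Finset.range 56, x q * y q * 16 := by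
        apply Finset.sum_congr rfl
        intro q hq
        simp only [mul_ite, mul_zero]
        rw [Finset.sum_ite_eq]
        simp [hq]
    _ = 16 * ∑ q ∈ Finset.range 56, x q * y q := by
        rw [Finset.mul_sum]
        apply Finset.sum_congr rfl
        intro q _
        ring

theorem dotV_X4V (codes : List ℕ) (hU : Unitary4 codes) (v w : RuVec) :
    dotV (X4V codes v) (X4V codes w) = 16 * dotV v w := by
  unfold dotV X4V
  rw [← dotF_X4F codes hU]
  unfold dotF
  apply sumR_congr
  intro k hk
  rw [coord_ofF _ k hk, coord_ofF _ k hk]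

/-! ### The packed form -/

theorem pack_X4F (codes : List ℕ) (x : ℕ → ℤ) :
    pack (X4F codes x) = sumR fun q => x q * pack (colF codes q) := by
  unfold pack packN X4F
  simp only [sumR_eq]
  calc ∑ k ∈ Finset.range 56, (∑ q ∈ Finset.range 56, x q * colF codes q k) * pB ^ k
      = ∑ k ∈ Finset.range 56, ∑ q ∈ Finset.range 56, x q * (colF codes q k * pB ^ k) := by
        apply Finset.sum_congr rfl
        intro k _
        rw [Finset.sum_mul]
        apply Finset.sum_congr rfl
        intro q _
        ring
    _ = ∑ q ∈ Finset.range 56, x q * ∑ k ∈ Finset.range 56, colF codes q k * pB ^ k := by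
        rw [Finset.sum_comm]
        apply Finset.sum_congr rfl
        intro q _
        rw [Finset.mul_sum]

end Cfsg.Agent.Lib.Helper1.RuLat
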