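import Mathlib
import Cfsg.Agent.Lib.Helper1.RuL17

set_option autoImplicit false
set_option maxRecDepth 100000

/-!
# The rank 28 lattice over the Gaussian integers: the checks for a map given by twenty-eight vectors

The data of a map: the codes of its columns, the table of the columns, the packed columns, the images
of the vectors of the lines, the images of the generators as combinations of the generators.
-/

namespace Cfsg.Agent.Lib.Helper1.RuLat

open Cfsg.Spor

/-- the data of a map -/
structure XDat where
  codes : List ℕ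
  cl : List (List ℕ)
  pk : List ℤ
  img : ℕ
  cert : List (List ℕ)

/-- the code of the image of the vector of a line -/
def imgc (img j : ℕ) : ℕ := (img >>> (14 * j)) &&& 16383

/-- the combination of the packed columns with coefficients `1`, `-1` at given positions -/
def sumM (pk : List ℤ) (S N : ℕ) : ℤ :=
  ((pk.zip R56).map fun Pq => if N.testBit Pq.2 then -Pq.1 else if S.testBit Pq.2 then Pq.1 else 0).sum

/-- the packed form of a vector with entries `1`, `-1` at given positions -/
def packM (S N : ℕ) : ℤ := packL (R56.map (vecM S N 1))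

/-- the absolute value of the entries, from the entry of the table -/
def sclE (e : ℕ) : ℤ := if e >>> 112 = 0 then 1 else 4

/-- the check of the image of the vector of a line -/
def chkImg (pk : List ℤ) (img j : ℕ) : Bool :=
  frc (ltE j) fun e => frc (imgc img j) fun c => frc (ltE (c / 4)) fun e' =>
    frc (mvS (e' &&& m56) (c % 4)) fun S' =>
    frc (mvN (e' &&& m56) ((e' >>> 56) &&& m56) (c % 4)) fun N' =>
    frc (e &&& m56) fun S => frc ((e >>> 56) &&& m56) fun N =>
      decide (c < 16240) && decide (sclE e * sumM pk S N = 4 * (sclE e' * packM S' N'))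

/-- the check of the image of a generator -/
def chkRow4 (pk : List ℤ) (rc : List ℕ × List ℕ) : Bool :=
  rc.1.all (fun a => decide (a ≤ 32)) && rc.2.all (fun e => decide (e / 64 < 93)) &&
    decide (rc.2.length ≤ 100) && decide (rc.1.length = 56) &&
    decide (((rc.1.zip pk).map fun aP => ((aP.1 : ℤ) - 16) * aP.2).sum = 4 * linPT rc.2)

/-- the data are valid -/
structure XDat.Valid (D : XDat) : Prop where
  codes_ok : CodesOK D.codes
  cl_eq : ∀ q < 56, ∀ k < 56, colF D.codes q k = decF (D.cl.getD q []) k
  cl_len : ∀ q < 56, (D.cl.getD q []).length = 56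
  pk_eq : ∀ q < 56, D.pk.getD q 0 = packL ((List.range 56).map (decF (D.cl.getD q [])))
  pk_len : D.pk.length = 56
  unit : ∀ q < 56, ∀ q' < 56, dotL (D.cl.getD q []) (D.cl.getD q' []) = if q = q' then 16 else 0
  cert_len : D.cert.length = 93
  cert_ok : (genTbl.zip D.cert).all (chkRow4 D.pk) = true
  img_ok : ∀ j < 4060, chkImg D.pk D.img j = true

variable {D : XDat}

theorem XDat.Valid.unitary (h : D.Valid) : Unitary4 D.codes := by
  intro q hq q' hq'
  rw [← h.unit q hq q' hq', ← dotF_decF _ _ (h.cl_len q hq) (h.cl_len q' hq')]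
  unfold dotF
  apply sumR_congr
  intro k hk
  rw [h.cl_eq q hq k hk, h.cl_eq q' hq' k hk]

theorem XDat.Valid.pk_pack (h : D.Valid) (q : ℕ) (hq : q < 56) :
    D.pk.getD q 0 = pack (colF D.codes q) := by
  rw [h.pk_eq q hq, ← pack_eq_packL]
  unfold pack
  apply packN_congr
  intro k hk
  exact (h.cl_eq q hq k hk).symm

theorem zip_map_sum {α : Type*} (r : List α) (pk : List ℤ) (d : α) (h1 : r.length = 56)
    (h2 : pk.length = 56) (f : α → ℤ → ℤ) :
    ((r.zip pk).map fun aP => f aP.1 aP.2).sum = sumR fun q => f (r.getD q d) (pk.getD q 0) := by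
  unfold sumR
  congr 1
  apply List.ext_getElem
  · simp [R56, h1, h2]
  · intro q hq1 hq2
    have hq : q < 56 := by simpa [R56] using hq2
    simp only [List.getElem_map, List.getElem_zip, R56, List.getElem_range]
    rw [List.getD_eq_getElem _ _ (by omega), List.getD_eq_getElem _ _ (by omega)]

theorem abs_vecM_le (S N : ℕ) (c : ℤ) (q : ℕ) : |vecM S N c q| ≤ |c| := by
  unfold vecM
  split_ifs
  · rw [abs_neg]
  · exact le_refl _
  · rw [abs_zero]; exact abs_nonneg _

theorem abs_scl (j : ℕ) : |scl j| ≤ 4 := by
  unfold scl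
  split_ifs <;> norm_num

theorem abs_minF_le (j u q : ℕ) : |minF j u q| ≤ 4 :=
  le_trans (abs_vecM_le _ _ _ q) (abs_scl j)

theorem abs_X4F_le (codes : List ℕ) (x : ℕ → ℤ) (M : ℤ) (hx : ∀ q, |x q| ≤ M) (k : ℕ) :
    |X4F codes x k| ≤ 56 * (M * 4) := by
  unfold X4F
  rw [sumR_eq]
  have hM : 0 ≤ M := le_trans (abs_nonneg _) (hx 0)
  calc |∑ q ∈ Finset.range 56, x q * colF codes q k|
      ≤ ∑ q ∈ Finset.range 56, |x q * colF codes q k| := Finset.abs_sum_le_sum_abs _ _
    _ ≤ ∑ _q ∈ Finset.range 56, M * 4 := by
        apply Finset.sum_le_sum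
        intro q _
        rw [abs_mul]
        exact mul_le_mul (hx q) (abs_minF_le _ _ _) (abs_nonneg _) hM
    _ = 56 * (M * 4) := by
        rw [Finset.sum_const, Finset.card_range]
        simp

/-- the images of the generators -/
theorem XDat.Valid.gen_img (h : D.Valid) (k : ℕ) (hk : k < 93) :
    (∀ e ∈ D.cert.getD k [], e / 64 < 93) ∧
      ∀ q < 56, X4F D.codes (genF k) q = 4 * linF (D.cert.getD k []) q := by
  have h1 := all_zip_getD genTbl D.cert (chkRow4 D.pk) [] [] h.cert_ok k
    (by rw [length_genTbl]; exact hk) (by rw [h.cert_len]; exact hk)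
  unfold chkRow4 at h1
  simp only [Bool.and_eq_true, List.all_eq_true] at h1
  obtain ⟨⟨⟨⟨a1, a2⟩, a3⟩, a4⟩, a5⟩ := h1
  have a2' : ∀ e ∈ D.cert.getD k [], e / 64 < 93 := fun e he => of_decide_eq_true (a2 e he)
  refine ⟨a2', ?_⟩
  have a4' := of_decide_eq_true a4
  have a5' := of_decide_eq_true a5
  have hb : ∀ q, |genF k q| ≤ 16 := genF_bound k
  have key : pack (X4F D.codes (genF k)) = pack ((4 : ℤ) • linF (D.cert.getD k [])) := by
    rw [pack_X4F]
    unfold pack
    rw [packN_smul]
    show _ = 4 * pack (linF (D.cert.getD k []))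
    rw [pack_linF, ← linPT_eq _ a2', ← a5',
      zip_map_sum _ _ 16 a4' h.pk_len (fun a P => ((a : ℤ) - 16) * P)]
    apply sumR_congr
    intro q hq
    rw [h.pk_pack q hq]
    rfl
  intro q hq
  have := pack_inj _ _ ?_ ?_ key q hq
  · rw [this]; rfl
  · intro q' _
    have := abs_X4F_le D.codes (genF k) 16 hb q'
    omega
  · intro q' _
    have h1 := linF_bound (D.cert.getD k []) q'
    have h2 : (512 : ℤ) * (D.cert.getD k []).length ≤ 512 * 100 := by
      have : ((D.cert.getD k []).length : ℤ) ≤ 100 := by exact_mod_cast of_decide_eq_true a3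
      omega
    rw [Pi.smul_apply, smul_eq_mul, abs_mul]
    have : |(4 : ℤ)| = 4 := by norm_num
    rw [this]
    omega

theorem vecM_scale (S N : ℕ) (c : ℤ) (q : ℕ) : vecM S N c q = c * vecM S N 1 q := by
  unfold vecM
  split_ifs <;> ring

theorem sumM_eq (pk : List ℤ) (hl : pk.length = 56) (S N : ℕ) :
    sumM pk S N = sumR fun q => vecM S N 1 q * pk.getD q 0 := by
  unfold sumM
  have h56 : R56.length = 56 := by simp [R56]
  have := zip_map_sum R56 pk 0 h56 hl (fun q P => if N.testBit q then -P else if S.testBit q then P else 0)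
  have e : ((pk.zip R56).map fun Pq => if N.testBit Pq.2 then -Pq.1 else if S.testBit Pq.2 then Pq.1
      else 0).sum = ((R56.zip pk).map fun aP => if N.testBit aP.1 then -aP.2 else if S.testBit aP.1
      then aP.2 else 0).sum := by
    congr 1
    apply List.ext_getElem
    · simp [List.length_zip, Nat.min_comm]
    · intro i h1 h2
      simp [List.getElem_zip]
  rw [e, this]
  apply sumR_congr
  intro q hq
  have : R56.getD q 0 = q := by
    rw [List.getD_eq_getElem _ _ (by rw [h56]; exact hq)]
    simp [R56]
  rw [this]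
  unfold vecM
  split_ifs <;> ring

theorem packM_eq (S N : ℕ) : packM S N = pack (vecM S N 1) := by
  unfold packM R56
  rw [← pack_eq_packL]

/-- the images of the vectors of the lines -/
theorem XDat.Valid.line_img (h : D.Valid) (j : ℕ) (hj : j < 4060) :
    imgc D.img j < 16240 ∧ ∀ k < 56, X4F D.codes (minF j 0) k =
      4 * minF (imgc D.img j / 4) (imgc D.img j % 4) k := by
  have h1 := h.img_ok j hj
  unfold chkImg at h1
  simp only [frc_eq, Bool.and_eq_true] at h1
  obtain ⟨a1, a2⟩ := h1
  have a1' := of_decide_eq_true a1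
  have a2' := of_decide_eq_true a2
  refine ⟨a1', ?_⟩
  set c := imgc D.img j with hc
  have e0 : ∀ q, minF j 0 q = scl j * vecM (ltS j) (ltN j) 1 q := by
    intro q
    unfold minF mvS mvN
    rw [if_pos (by norm_num), if_pos rfl]
    exact vecM_scale _ _ _ q
  have key : pack (X4F D.codes (minF j 0)) = pack ((4 : ℤ) • minF (c / 4) (c % 4)) := by
    rw [pack_X4F]
    unfold pack
    rw [packN_smul]
    have e1 : packN 56 (minF (c / 4) (c % 4)) = scl (c / 4) *
        pack (vecM (mvS (ltS (c / 4)) (c % 4)) (mvN (ltS (c / 4)) (ltN (c / 4)) (c % 4)) 1) := by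
      unfold pack
      rw [← packN_smul]
      apply packN_congr
      intro q _
      rw [Pi.smul_apply, smul_eq_mul]
      unfold minF
      exact vecM_scale _ _ _ q
    rw [e1, ← packM_eq]
    have e2 : (sumR fun q => minF j 0 q * packN 56 (colF D.codes q)) =
        scl j * sumM D.pk (ltS j) (ltN j) := by
      rw [sumM_eq _ h.pk_len]
      unfold sumR
      rw [← List.sum_map_mul_left]
      congr 1
      apply List.map_congr_left
      intro q hq
      have hq' : q < 56 := by simpa [R56] using hq
      rw [e0, h.pk_pack q hq']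
      unfold pack
      ring
    rw [e2]
    exact a2'
  intro k hk
  have := pack_inj _ _ ?_ ?_ key k hk
  · rw [this]; rfl
  · intro q' _
    have := abs_X4F_le D.codes (minF j 0) 4 (abs_minF_le j 0) q'
    omega
  · intro q' _
    rw [Pi.smul_apply, smul_eq_mul, abs_mul]
    have h4 : |(4 : ℤ)| = 4 := by norm_num
    have := abs_minF_le (c / 4) (c % 4) q'
    rw [h4]
    omega

end Cfsg.Agent.Lib.Helper1.RuLat
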