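import Mathlib
import Cfsg.Agent.Lib.Helper1.RuL16
import Cfsg.Agent.Lib.Helper1.RuL18

set_option autoImplicit false
set_option maxRecDepth 100000

/-!
# The rank 28 lattice over the Gaussian integers: a map given by valid data preserves the lattice

The quarter of the map given by valid data maps the lattice into itself, is additive, commutes with
the multiplication by `i`, preserves the norm and permutes the vectors of the lines.
-/

namespace Cfsg.Agent.Lib.Helper1.RuLat

open Cfsg.Spor

theorem coord_zsmul (c : ℤ) (v : RuVec) (q : ℕ) (hq : q < 56) : coord (c • v) q = c * coord v q := by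
  conv_lhs => rw [← ofF_coord v, ← ofF_zsmul]
  rw [coord_ofF _ q hq]
  rfl

theorem four_smul_inj (a b : RuVec) (h : (4 : ℤ) • a = (4 : ℤ) • b) : a = b := by
  rw [← ofF_coord a, ← ofF_coord b]
  apply ofF_congr
  intro q hq
  have := congrArg (fun v => coord v q) h
  simp only [coord_zsmul _ _ q hq] at this
  omega

theorem dotV_zsmul (c d : ℤ) (v w : RuVec) : dotV (c • v) (d • w) = c * d * dotV v w := by
  unfold dotV dotF
  unfold sumR
  rw [← List.sum_map_mul_left]
  congr 1
  apply List.map_congr_left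
  intro q hq
  have hq' : q < 56 := by simpa [R56] using hq
  rw [coord_zsmul _ _ q hq', coord_zsmul _ _ q hq']
  ring

theorem ruNorm_zsmul (c : ℤ) (v : RuVec) : ruNorm (c • v) = c * c * ruNorm v := by
  rw [ruNorm_eq_dotV, ruNorm_eq_dotV, dotV_zsmul]

/-- the map as an additive map -/
def X4H (codes : List ℕ) : RuVec →+ RuVec := AddMonoidHom.mk' (X4V codes) (X4V_add codes)

theorem X4H_apply (codes : List ℕ) (v : RuVec) : X4H codes v = X4V codes v := rfl

variable {D : XDat}

/-- the map sends the lattice into its multiples by 4 -/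
theorem X4V_mem (h : D.Valid) (v : RuVec) (hv : v ∈ ruLattice) :
    ∃ w ∈ ruLattice, X4V D.codes v = (4 : ℤ) • w := by
  rw [ruLattice_eq] at hv
  unfold Lgen at hv
  induction hv using AddSubgroup.closure_induction with
  | mem v hv =>
    obtain ⟨k, rfl⟩ := hv
    obtain ⟨h1, h2⟩ := h.gen_img k.val k.isLt
    refine ⟨ofF (linF (D.cert.getD k.val [])), ?_, ?_⟩
    · rw [ruLattice_eq]
      exact ofF_linF_mem _ h1
    · show X4V D.codes (ofF (genF k.val)) = _
      rw [X4V_ofF, ← ofF_zsmul]
      exact ofF_congr h2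
  | zero =>
    refine ⟨0, ruLattice.zero_mem, ?_⟩
    rw [← X4H_apply, map_zero, smul_zero]
  | add v w _ _ hv hw =>
    obtain ⟨a, ha, ea⟩ := hv
    obtain ⟨b, hb, eb⟩ := hw
    exact ⟨a + b, ruLattice.add_mem ha hb, by rw [X4V_add, ea, eb, smul_add]⟩
  | neg v _ hv =>
    obtain ⟨a, ha, ea⟩ := hv
    refine ⟨-a, ruLattice.neg_mem ha, ?_⟩
    rw [← X4H_apply, map_neg, X4H_apply, ea, smul_neg]

/-- the quarter of the map -/
def XtV (codes : List ℕ) (v : RuVec) : RuVec := ofF fun k => X4F codes (coord v) k / 4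

theorem XtV_eq_of (codes : List ℕ) (v w : RuVec) (e : X4V codes v = (4 : ℤ) • w) : XtV codes v = w := by
  unfold XtV
  rw [← ofF_coord w]
  apply ofF_congr
  intro k hk
  have := congrArg (fun v => coord v k) e
  simp only [coord_zsmul _ _ k hk] at this
  unfold X4V at this
  rw [coord_ofF _ k hk] at this
  rw [this]
  omega

theorem XtV_spec (h : D.Valid) (v : RuVec) (hv : v ∈ ruLattice) :
    XtV D.codes v ∈ ruLattice ∧ (4 : ℤ) • XtV D.codes v = X4V D.codes v := by
  obtain ⟨w, hw, e⟩ := X4V_mem h v hv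
  rw [XtV_eq_of D.codes v w e]
  exact ⟨hw, e.symm⟩

theorem XtV_add (h : D.Valid) (v w : RuVec) (hv : v ∈ ruLattice) (hw : w ∈ ruLattice) :
    XtV D.codes (v + w) = XtV D.codes v + XtV D.codes w := by
  apply four_smul_inj
  rw [(XtV_spec h _ (ruLattice.add_mem hv hw)).2, smul_add, (XtV_spec h v hv).2, (XtV_spec h w hw).2,
    X4V_add]

theorem XtV_gI (h : D.Valid) (v : RuVec) (hv : v ∈ ruLattice) :
    XtV D.codes (gI • v) = gI • XtV D.codes v := by
  apply four_smul_inj
  rw [(XtV_spec h _ (gI_smul_mem_ruLattice hv)).2, smul_comm, (XtV_spec h v hv).2,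
    X4V_gI D.codes h.codes_ok]

theorem XtV_norm (h : D.Valid) (v : RuVec) (hv : v ∈ ruLattice) :
    ruNorm (XtV D.codes v) = ruNorm v := by
  have h1 : ruNorm ((4 : ℤ) • XtV D.codes v) = 16 * ruNorm v := by
    rw [(XtV_spec h v hv).2, ruNorm_eq_dotV, dotV_X4V D.codes h.unitary, ← ruNorm_eq_dotV]
  rw [ruNorm_zsmul] at h1
  omega

/-! ### The powers of the unit `i` -/

/-- the multiplication by a power of the unit `i` -/
def gIpow (u : ℕ) (v : RuVec) : RuVec := (fun w => gI • w)^[u] v

theorem gIpow_succ (u : ℕ) (v : RuVec) : gIpow (u + 1) v = gI • gIpow u v := by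
  unfold gIpow
  rw [Function.iterate_succ_apply']

theorem gIpow_minV (j : ℕ) (hj : j < 4060) (u' : ℕ) (hu' : u' < 4) (u : ℕ) :
    gIpow u (minV j u') = minV j ((u' + u) % 4) := by
  induction u with
  | zero =>
    show minV j u' = _
    rw [Nat.add_zero, Nat.mod_eq_of_lt hu']
  | succ u ih =>
    rw [gIpow_succ, ih, gI_smul_minV j hj _ (Nat.mod_lt _ (by norm_num))]
    congr 1
    omega

theorem minV_eq_gIpow (j : ℕ) (hj : j < 4060) (u : ℕ) (hu : u < 4) : minV j u = gIpow u (minV j 0) := by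
  rw [gIpow_minV j hj 0 (by norm_num), Nat.zero_add, Nat.mod_eq_of_lt hu]

theorem X4V_gIpow (codes : List ℕ) (hc : CodesOK codes) (u : ℕ) (v : RuVec) :
    X4V codes (gIpow u v) = gIpow u (X4V codes v) := by
  induction u with
  | zero => rfl
  | succ u ih => rw [gIpow_succ, gIpow_succ, X4V_gI codes hc, ih]

theorem gIpow_zsmul (u : ℕ) (c : ℤ) (v : RuVec) : gIpow u (c • v) = c • gIpow u v := by
  induction u with
  | zero => rfl
  | succ u ih => rw [gIpow_succ, gIpow_succ, ih, smul_comm]

theorem gIpow_mem (u : ℕ) (v : RuVec) (hv : v ∈ ruLattice) : gIpow u v ∈ ruLattice := by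
  induction u with
  | zero => exact hv
  | succ u ih =>
    rw [gIpow_succ]
    exact gI_smul_mem_ruLattice ih

/-! ### The images of the vectors of the lines -/

theorem X4V_minV (h : D.Valid) (j : ℕ) (hj : j < 4060) (u : ℕ) (hu : u < 4) :
    X4V D.codes (minV j u) =
      (4 : ℤ) • minV (imgc D.img j / 4) ((imgc D.img j % 4 + u) % 4) := by
  obtain ⟨h1, h2⟩ := h.line_img j hj
  have e0 : X4V D.codes (minV j 0) = (4 : ℤ) • minV (imgc D.img j / 4) (imgc D.img j % 4) := by
    unfold minV
    rw [X4V_ofF, ← ofF_zsmul]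
    exact ofF_congr h2
  rw [minV_eq_gIpow j hj u hu, X4V_gIpow D.codes h.codes_ok, e0, gIpow_zsmul,
    gIpow_minV _ (by omega) _ (Nat.mod_lt _ (by norm_num))]

theorem XtV_minV (h : D.Valid) (j : ℕ) (hj : j < 4060) (u : ℕ) (hu : u < 4) :
    XtV D.codes (minV j u) = minV (imgc D.img j / 4) ((imgc D.img j % 4 + u) % 4) :=
  XtV_eq_of _ _ _ (X4V_minV h j hj u hu)

/-- the vectors of a line are in the lattice together -/
theorem minV_mem_of (j : ℕ) (hj : j < 4060) (u : ℕ) (hu : u < 4) (h : minV j u ∈ ruLattice)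
    (u' : ℕ) (hu' : u' < 4) : minV j u' ∈ ruLattice := by
  have := gIpow_mem (u' + 4 - u) _ h
  rw [gIpow_minV j hj u hu] at this
  have e : (u + (u' + 4 - u)) % 4 = u' := by omega
  rwa [e] at this

/-- the map sends the lines in the lattice to lines in the lattice -/
theorem minV_mem_img (h : D.Valid) (j : ℕ) (hj : j < 4060) (hm : minV j 0 ∈ ruLattice) :
    minV (imgc D.img j / 4) 0 ∈ ruLattice := by
  have h1 := (XtV_spec h _ hm).1
  rw [XtV_minV h j hj 0 (by norm_num)] at h1
  have hc := (h.line_img j hj).1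
  exact minV_mem_of _ (by omega) _ (Nat.mod_lt _ (by norm_num)) h1 0 (by norm_num)

end Cfsg.Agent.Lib.Helper1.RuLat
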