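import Mathlib
import Cfsg.Agent.Lib.Helper1.RuL19
import Cfsg.Agent.Lib.Helper1.RuLD10

set_option autoImplicit false
set_option maxRecDepth 100000

/-!
# The rank 28 lattice over the Gaussian integers: the vectors of the table are pairwise distinct
-/

namespace Cfsg.Agent.Lib.Helper1.RuLat

open Cfsg.Spor

/-- the nonzero positions of the vector with a code -/
def cS (c : ℕ) : ℕ := mvS (ltS (c / 4)) (c % 4)

/-- the negative positions of the vector with a code -/
def cN (c : ℕ) : ℕ := mvN (ltS (c / 4)) (ltN (c / 4)) (c % 4)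

/-- the search of the code of a vector given by its sets of positions -/
def invC (S N : ℕ) : Option ℕ :=
  ((bkL.getD ((S ||| N <<< 56) % 4093 / 64) []).getD ((S ||| N <<< 56) % 4093 % 64) []).find? fun c =>
    (cS c == S) && (cN c == N)

/-- the check that the search finds a code -/
def chkInv (c : ℕ) : Bool :=
  frc (ltE (c / 4)) fun e => frc (mvS (e &&& m56) (c % 4)) fun S =>
    frc (mvN (e &&& m56) ((e >>> 56) &&& m56) (c % 4)) fun N =>
      decide (S < 2 ^ 56) && (N &&& S == N) && (invC S N == some c)

theorem chkInv_spec (c : ℕ) (h : chkInv c = true) :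
    cS c < 2 ^ 56 ∧ cN c &&& cS c = cN c ∧ invC (cS c) (cN c) = some c := by
  unfold chkInv at h
  simp only [frc_eq, Bool.and_eq_true] at h
  obtain ⟨⟨h1, h2⟩, h3⟩ := h
  exact ⟨of_decide_eq_true h1, by simpa [cS, cN, ltS, ltN] using h2, by simpa [cS, cN, ltS, ltN] using h3⟩

/-- the check for a range of codes -/
def chkInvR (k : ℕ) : Bool := (List.range' (1015 * k) 1015).all chkInv

theorem cS_cN_inj (hall : ∀ k < 16, chkInvR k = true) (c1 c2 : ℕ) (h1 : c1 < 16240) (h2 : c2 < 16240)
    (hS : cS c1 = cS c2) (hN : cN c1 = cN c2) : c1 = c2 := by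
  have key : ∀ c < 16240, chkInv c = true := by
    intro c hc
    have := hall (c / 1015) (by omega)
    unfold chkInvR at this
    rw [List.all_eq_true] at this
    exact this c (by rw [List.mem_range']; exact ⟨c % 1015, Nat.mod_lt _ (by norm_num), by omega⟩)
  have a1 := (chkInv_spec c1 (key c1 h1)).2.2
  have a2 := (chkInv_spec c2 (key c2 h2)).2.2
  rw [hS, hN, a2] at a1
  exact (Option.some.inj a1).symm

theorem minV_code (c : ℕ) : minV (c / 4) (c % 4) = ofF (vecM (cS c) (cN c) (scl (c / 4))) := rfl

theorem scl_pos (j : ℕ) : 0 < scl j := by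
  unfold scl
  split_ifs <;> norm_num

theorem testBit_of_vecM (S N : ℕ) (c : ℤ) (hc : 0 < c) (hN : N &&& S = N) (q : ℕ) :
    S.testBit q = decide (vecM S N c q ≠ 0) ∧ N.testBit q = decide (vecM S N c q < 0) := by
  unfold vecM
  cases hNq : N.testBit q
  · cases hSq : S.testBit q
    · simp
    · simp only [Bool.false_eq_true, if_false, if_true]
      constructor
      · symm; rw [decide_eq_true_iff]; omega
      · symm; rw [decide_eq_false_iff_not]; omega
  · rw [sub_testBit S N hN q hNq]
    simp only [if_true]
    constructor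
    · symm; rw [decide_eq_true_iff]; omega
    · symm; rw [decide_eq_true_iff]; omega

/-- the vectors of the table are pairwise distinct -/
theorem minV_inj (hall : ∀ k < 16, chkInvR k = true) (c1 c2 : ℕ) (h1 : c1 < 16240) (h2 : c2 < 16240)
    (h : minV (c1 / 4) (c1 % 4) = minV (c2 / 4) (c2 % 4)) : c1 = c2 := by
  have key : ∀ c < 16240, chkInv c = true := by
    intro c hc
    have := hall (c / 1015) (by omega)
    unfold chkInvR at this
    rw [List.all_eq_true] at this
    exact this c (by rw [List.mem_range']; exact ⟨c % 1015, Nat.mod_lt _ (by norm_num), by omega⟩)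
  obtain ⟨a1, a2, _⟩ := chkInv_spec c1 (key c1 h1)
  obtain ⟨b1, b2, _⟩ := chkInv_spec c2 (key c2 h2)
  rw [minV_code, minV_code] at h
  have hq := ofF_injective h
  have hbits : ∀ q, (cS c1).testBit q = (cS c2).testBit q ∧ (cN c1).testBit q = (cN c2).testBit q := by
    intro q
    by_cases hq56 : q < 56
    · have e := hq q hq56
      obtain ⟨x1, x2⟩ := testBit_of_vecM (cS c1) (cN c1) _ (scl_pos (c1 / 4)) a2 q
      obtain ⟨y1, y2⟩ := testBit_of_vecM (cS c2) (cN c2) _ (scl_pos (c2 / 4)) b2 q
      rw [x1, x2, y1, y2, e]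
      exact ⟨rfl, rfl⟩
    · have z1 : (cS c1).testBit q = false :=
        Nat.testBit_lt_two_pow (lt_of_lt_of_le a1 (Nat.pow_le_pow_right (by norm_num) (by omega)))
      have z2 : (cS c2).testBit q = false :=
        Nat.testBit_lt_two_pow (lt_of_lt_of_le b1 (Nat.pow_le_pow_right (by norm_num) (by omega)))
      have z3 : (cN c1).testBit q = false := by
        by_contra hb
        have := sub_testBit _ _ a2 q (by simpa using hb)
        rw [z1] at this
        exact Bool.false_ne_true this
      have z4 : (cN c2).testBit q = false := by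
        by_contra hb
        have := sub_testBit _ _ b2 q (by simpa using hb)
        rw [z2] at this
        exact Bool.false_ne_true this
      rw [z1, z2, z3, z4]
      exact ⟨rfl, rfl⟩
  exact cS_cN_inj hall c1 c2 h1 h2 (Nat.eq_of_testBit_eq fun q => (hbits q).1)
    (Nat.eq_of_testBit_eq fun q => (hbits q).2)

end Cfsg.Agent.Lib.Helper1.RuLat
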