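import Mathlib
import Cfsg.Agent.Lib.Helper1.RuL18
import Cfsg.Agent.Lib.Helper1.RuLD9

set_option autoImplicit false
set_option maxRecDepth 100000

/-! The rank 28 lattice over the Gaussian integers: the check of the data of the map X. -/

namespace Cfsg.Agent.Lib.Helper1.RuLat

/-- the data of the map -/
def DX : XDat := ⟨codX, clX, pkX, imgXN, certX⟩

theorem chkX_codes : CodesOK DX.codes := by
  unfold CodesOK
  decide +kernel

theorem chkX_cl : ∀ q < 56, ∀ k < 56, colF DX.codes q k = decF (DX.cl.getD q []) k := by decide +kernel

theorem chkX_len : ∀ q < 56, (DX.cl.getD q []).length = 56 := by decide +kernel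

theorem chkX_pk : ∀ q < 56, DX.pk.getD q 0 = packL ((List.range 56).map (decF (DX.cl.getD q []))) := by
  decide +kernel

theorem chkX_unit : ∀ q < 56, ∀ q' < 56,
    dotL (DX.cl.getD q []) (DX.cl.getD q' []) = if q = q' then 16 else 0 := by decide +kernel

theorem chkX_cert : (genTbl.zip DX.cert).all (chkRow4 DX.pk) = true := by decide +kernel

/-- the check of the images of one hundred and forty-five lines -/
def chkXI (c : ℕ) : Bool := (List.range' (145 * c) 145).all fun j => chkImg DX.pk DX.img j

theorem chkX_img0 : chkXI 0 = true := by decide +kernel

theorem chkX_img1 : chkXI 1 = true := by decide +kernel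

theorem chkX_img2 : chkXI 2 = true := by decide +kernel

theorem chkX_img3 : chkXI 3 = true := by decide +kernel

theorem chkX_img4 : chkXI 4 = true := by decide +kernel

theorem chkX_img5 : chkXI 5 = true := by decide +kernel

theorem chkX_img6 : chkXI 6 = true := by decide +kernel

theorem chkX_img7 : chkXI 7 = true := by decide +kernel

theorem chkX_img8 : chkXI 8 = true := by decide +kernel

theorem chkX_img9 : chkXI 9 = true := by decide +kernel

theorem chkX_img10 : chkXI 10 = true := by decide +kernel

theorem chkX_img11 : chkXI 11 = true := by decide +kernel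

theorem chkX_img12 : chkXI 12 = true := by decide +kernel

theorem chkX_img13 : chkXI 13 = true := by decide +kernel

theorem chkX_img14 : chkXI 14 = true := by decide +kernel

theorem chkX_img15 : chkXI 15 = true := by decide +kernel

theorem chkX_img16 : chkXI 16 = true := by decide +kernel

theorem chkX_img17 : chkXI 17 = true := by decide +kernel

theorem chkX_img18 : chkXI 18 = true := by decide +kernel

theorem chkX_img19 : chkXI 19 = true := by decide +kernel

theorem chkX_img20 : chkXI 20 = true := by decide +kernel

theorem chkX_img21 : chkXI 21 = true := by decide +kernel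

theorem chkX_img22 : chkXI 22 = true := by decide +kernel

theorem chkX_img23 : chkXI 23 = true := by decide +kernel

theorem chkX_img24 : chkXI 24 = true := by decide +kernel

theorem chkX_img25 : chkXI 25 = true := by decide +kernel

theorem chkX_img26 : chkXI 26 = true := by decide +kernel

theorem chkX_img27 : chkXI 27 = true := by decide +kernel

theorem chkX_img : ∀ c < 28, chkXI c = true := by
  intro c hc
  interval_cases c
  · exact chkX_img0
  · exact chkX_img1
  · exact chkX_img2
  · exact chkX_img3
  · exact chkX_img4
  · exact chkX_img5
  · exact chkX_img6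
  · exact chkX_img7
  · exact chkX_img8
  · exact chkX_img9
  · exact chkX_img10
  · exact chkX_img11
  · exact chkX_img12
  · exact chkX_img13
  · exact chkX_img14
  · exact chkX_img15
  · exact chkX_img16
  · exact chkX_img17
  · exact chkX_img18
  · exact chkX_img19
  · exact chkX_img20
  · exact chkX_img21
  · exact chkX_img22
  · exact chkX_img23
  · exact chkX_img24
  · exact chkX_img25
  · exact chkX_img26
  · exact chkX_img27

theorem DX_valid : DX.Valid where
  codes_ok := chkX_codes
  cl_eq := chkX_cl
  cl_len := chkX_len
  pk_eq := chkX_pk
  pk_len := by decide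
  unit := chkX_unit
  cert_len := by decide
  cert_ok := chkX_cert
  img_ok := by
    intro j hj
    have h := chkX_img (j / 145) (by omega)
    unfold chkXI at h
    rw [List.all_eq_true] at h
    exact h j (by rw [List.mem_range']; exact ⟨j % 145, Nat.mod_lt _ (by norm_num), by omega⟩)

end Cfsg.Agent.Lib.Helper1.RuLat
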