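import Mathlib
import Cfsg.Agent.Lib.Helper1.RuL18
import Cfsg.Agent.Lib.Helper1.RuLD9

set_option autoImplicit false
set_option maxRecDepth 100000

/-! The rank 28 lattice over the Gaussian integers: the check of the data of the map Y. -/

namespace Cfsg.Agent.Lib.Helper1.RuLat

/-- the data of the map -/
def DY : XDat := ⟨codY, clY, pkY, imgYN, certY⟩

theorem chkY_codes : CodesOK DY.codes := by
  unfold CodesOK
  decide +kernel

theorem chkY_cl : ∀ q < 56, ∀ k < 56, colF DY.codes q k = decF (DY.cl.getD q []) k := by decide +kernel

theorem chkY_len : ∀ q < 56, (DY.cl.getD q []).length = 56 := by decide +kernel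

theorem chkY_pk : ∀ q < 56, DY.pk.getD q 0 = packL ((List.range 56).map (decF (DY.cl.getD q []))) := by
  decide +kernel

theorem chkY_unit : ∀ q < 56, ∀ q' < 56,
    dotL (DY.cl.getD q []) (DY.cl.getD q' []) = if q = q' then 16 else 0 := by decide +kernel

theorem chkY_cert : (genTbl.zip DY.cert).all (chkRow4 DY.pk) = true := by decide +kernel

/-- the check of the images of one hundred and forty-five lines -/
def chkYI (c : ℕ) : Bool := (List.range' (145 * c) 145).all fun j => chkImg DY.pk DY.img j

theorem chkY_img0 : chkYI 0 = true := by decide +kernel

theorem chkY_img1 : chkYI 1 = true := by decide +kernel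

theorem chkY_img2 : chkYI 2 = true := by decide +kernel

theorem chkY_img3 : chkYI 3 = true := by decide +kernel

theorem chkY_img4 : chkYI 4 = true := by decide +kernel

theorem chkY_img5 : chkYI 5 = true := by decide +kernel

theorem chkY_img6 : chkYI 6 = true := by decide +kernel

theorem chkY_img7 : chkYI 7 = true := by decide +kernel

theorem chkY_img8 : chkYI 8 = true := by decide +kernel

theorem chkY_img9 : chkYI 9 = true := by decide +kernel

theorem chkY_img10 : chkYI 10 = true := by decide +kernel

theorem chkY_img11 : chkYI 11 = true := by decide +kernel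

theorem chkY_img12 : chkYI 12 = true := by decide +kernel

theorem chkY_img13 : chkYI 13 = true := by decide +kernel

theorem chkY_img14 : chkYI 14 = true := by decide +kernel

theorem chkY_img15 : chkYI 15 = true := by decide +kernel

theorem chkY_img16 : chkYI 16 = true := by decide +kernel

theorem chkY_img17 : chkYI 17 = true := by decide +kernel

theorem chkY_img18 : chkYI 18 = true := by decide +kernel

theorem chkY_img19 : chkYI 19 = true := by decide +kernel

theorem chkY_img20 : chkYI 20 = true := by decide +kernel

theorem chkY_img21 : chkYI 21 = true := by decide +kernel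

theorem chkY_img22 : chkYI 22 = true := by decide +kernel

theorem chkY_img23 : chkYI 23 = true := by decide +kernel

theorem chkY_img24 : chkYI 24 = true := by decide +kernel

theorem chkY_img25 : chkYI 25 = true := by decide +kernel

theorem chkY_img26 : chkYI 26 = true := by decide +kernel

theorem chkY_img27 : chkYI 27 = true := by decide +kernel

theorem chkY_img : ∀ c < 28, chkYI c = true := by
  intro c hc
  interval_cases c
  · exact chkY_img0
  · exact chkY_img1
  · exact chkY_img2
  · exact chkY_img3
  · exact chkY_img4
  · exact chkY_img5
  · exact chkY_img6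
  · exact chkY_img7
  · exact chkY_img8
  · exact chkY_img9
  · exact chkY_img10
  · exact chkY_img11
  · exact chkY_img12
  · exact chkY_img13
  · exact chkY_img14
  · exact chkY_img15
  · exact chkY_img16
  · exact chkY_img17
  · exact chkY_img18
  · exact chkY_img19
  · exact chkY_img20
  · exact chkY_img21
  · exact chkY_img22
  · exact chkY_img23
  · exact chkY_img24
  · exact chkY_img25
  · exact chkY_img26
  · exact chkY_img27

theorem DY_valid : DY.Valid where
  codes_ok := chkY_codes
  cl_eq := chkY_cl
  cl_len := chkY_len
  pk_eq := chkY_pk
  pk_len := by decide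
  unit := chkY_unit
  cert_len := by decide
  cert_ok := chkY_cert
  img_ok := by
    intro j hj
    have h := chkY_img (j / 145) (by omega)
    unfold chkYI at h
    rw [List.all_eq_true] at h
    exact h j (by rw [List.mem_range']; exact ⟨j % 145, Nat.mod_lt _ (by norm_num), by omega⟩)

end Cfsg.Agent.Lib.Helper1.RuLat
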