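import Mathlib
import Cfsg.Agent.Lib.Helper1.RuL20

set_option autoImplicit false
set_option maxRecDepth 100000

/-! The rank 28 lattice over the Gaussian integers: the check that the vectors of the table are pairwise
distinct. -/

namespace Cfsg.Agent.Lib.Helper1.RuLat

theorem chk_inv0 : chkInvR 0 = true := by decide +kernel

theorem chk_inv1 : chkInvR 1 = true := by decide +kernel

theorem chk_inv2 : chkInvR 2 = true := by decide +kernel

theorem chk_inv3 : chkInvR 3 = true := by decide +kernel

theorem chk_inv4 : chkInvR 4 = true := by decide +kernel

theorem chk_inv5 : chkInvR 5 = true := by decide +kernel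

theorem chk_inv6 : chkInvR 6 = true := by decide +kernel

theorem chk_inv7 : chkInvR 7 = true := by decide +kernel

theorem chk_inv8 : chkInvR 8 = true := by decide +kernel

theorem chk_inv9 : chkInvR 9 = true := by decide +kernel

theorem chk_inv10 : chkInvR 10 = true := by decide +kernel

theorem chk_inv11 : chkInvR 11 = true := by decide +kernel

theorem chk_inv12 : chkInvR 12 = true := by decide +kernel

theorem chk_inv13 : chkInvR 13 = true := by decide +kernel

theorem chk_inv14 : chkInvR 14 = true := by decide +kernel

theorem chk_inv15 : chkInvR 15 = true := by decide +kernel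

theorem chk_inv : ∀ k < 16, chkInvR k = true := by
  intro k hk
  interval_cases k
  · exact chk_inv0
  · exact chk_inv1
  · exact chk_inv2
  · exact chk_inv3
  · exact chk_inv4
  · exact chk_inv5
  · exact chk_inv6
  · exact chk_inv7
  · exact chk_inv8
  · exact chk_inv9
  · exact chk_inv10
  · exact chk_inv11
  · exact chk_inv12
  · exact chk_inv13
  · exact chk_inv14
  · exact chk_inv15

end Cfsg.Agent.Lib.Helper1.RuLat
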