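import Mathlib
import Cfsg.Agent.Lib.Helper1.RuLC4
import Cfsg.Agent.Lib.Helper1.RuLC5
import Cfsg.Agent.Lib.Helper1.RuLC6
import Cfsg.Agent.Lib.Helper1.RuS

set_option autoImplicit false
set_option maxRecDepth 100000

/-!
# The rank 28 lattice over the Gaussian integers: the vectors of the table belong to the lattice

The two maps given by the data act on the lines as the two generating permutations of the group on 4060
points; as this group is transitive, all the vectors of the table are in the lattice.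
-/

namespace Cfsg.Agent.Lib.Helper1.RuLat

open Cfsg.Spor Cfsg.Agent.Lib.Helper1.Ru Cfsg.Agent.Lib.Helper1.GraphRef

theorem chk_imgpi : ((List.range 4060).all fun j =>
    (imgc DX.img j / 4 == DR.pi 0 j) && (imgc DY.img j / 4 == DR.pi 1 j)) = true := by decide +kernel

theorem imgX_pi (j : Fin 4060) : imgc DX.img j.val / 4 = (xP j).val := by
  have h := chk_imgpi
  rw [List.all_eq_true] at h
  have := h j.val (List.mem_range.mpr j.isLt)
  rw [Bool.and_eq_true] at this
  rw [xP, tabPerm_apply]
  simpa using this.1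

theorem imgY_pi (j : Fin 4060) : imgc DY.img j.val / 4 = (yP j).val := by
  have h := chk_imgpi
  rw [List.all_eq_true] at h
  have := h j.val (List.mem_range.mpr j.isLt)
  rw [Bool.and_eq_true] at this
  rw [yP, tabPerm_apply]
  simpa using this.2

/-- the lines whose vectors are in the lattice -/
def TL : Set (Fin 4060) := {j | minV j.val 0 ∈ ruLattice}

theorem mapsTo_inv {n : ℕ} (g : Equiv.Perm (Fin n)) (T : Set (Fin n)) (h : ∀ j ∈ T, g j ∈ T) :
    ∀ j ∈ T, g⁻¹ j ∈ T := by
  have hb : Set.BijOn g T T :=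
    (T.toFinite.injOn_iff_bijOn_of_mapsTo (f := g) h).mp g.injective.injOn
  intro j hj
  obtain ⟨i, hi, e⟩ := hb.surjOn hj
  rw [← e]
  simpa using hi

theorem TL_invariant (g : P4060) (hg : g ∈ RuH) : ∀ j ∈ TL, g j ∈ TL := by
  unfold RuH at hg
  induction hg using Subgroup.closure_induction with
  | mem g hg =>
    intro j hj
    rcases hg with rfl | rfl
    · show minV (xP j).val 0 ∈ ruLattice
      rw [← imgX_pi]
      exact minV_mem_img DX_valid j.val j.isLt hj
    · show minV (yP j).val 0 ∈ ruLattice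
      rw [← imgY_pi]
      exact minV_mem_img DY_valid j.val j.isLt hj
  | one => intro j hj; exact hj
  | mul g g' _ _ h1 h2 =>
    intro j hj
    exact h1 _ (h2 j hj)
  | inv g _ h1 => exact mapsTo_inv g TL h1

theorem frame0 : frameL.getD 0 0 = 0 := by decide

theorem zero_mem_TL : b1 ∈ TL := by
  show minV 0 0 ∈ ruLattice
  have := gen4_eq_minV 0 (by norm_num)
  rw [frame0] at this
  rw [← this]
  exact gen_mem_ruLattice 37 (by norm_num)

/-- all the vectors of the table are in the lattice -/
theorem minV_mem (j : ℕ) (hj : j < 4060) (u : ℕ) (hu : u < 4) : minV j u ∈ ruLattice := by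
  have h0 : minV j 0 ∈ ruLattice := by
    have hv : (⟨j, hj⟩ : Fin 4060) ∈ MulAction.orbit ↥RuH b1 := by
      rw [orbit_H_eq]
      exact Set.mem_univ _
    obtain ⟨g, hg⟩ := hv
    have := TL_invariant g.val g.property b1 zero_mem_TL
    have e : (g.val b1) = ⟨j, hj⟩ := hg
    rw [e] at this
    exact this
  exact minV_mem_of j hj 0 (by norm_num) h0 u hu

theorem ruNorm_gI_smul (v : RuVec) : ruNorm (gI • v) = ruNorm v := by
  unfold ruNorm
  apply Finset.sum_congr rfl
  intro p _
  show (gI * v p).norm = (v p).norm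
  rw [Zsqrtd.norm_mul]
  have : gI.norm = 1 := by
    simp [gI, Zsqrtd.norm_def]
  rw [this, one_mul]

theorem ruNorm_gIpow (u : ℕ) (v : RuVec) : ruNorm (gIpow u v) = ruNorm v := by
  induction u with
  | zero => rfl
  | succ u ih => rw [gIpow_succ, ruNorm_gI_smul, ih]

theorem ruNorm_vecM (S N : ℕ) (c : ℤ) (hN : N &&& S = N) :
    ruNorm (ofF (vecM S N c)) = c * c * (pc S : ℤ) := by
  rw [ruNorm_ofF, ← sumR_eq, ← sumR_testBit]
  unfold sumR
  rw [← List.sum_map_mul_left]
  congr 1
  apply List.map_congr_left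
  intro q _
  unfold vecM
  cases hNq : N.testBit q
  · cases hSq : S.testBit q
    · simp
    · simp only [Bool.false_eq_true, if_false, if_true, Bool.toNat_true]
      push_cast
      ring
  · rw [sub_testBit S N hN q hNq]
    simp only [if_true, Bool.toNat_true]
    push_cast
    ring

theorem ruNorm_minV (j : ℕ) (hj : j < 4060) (u : ℕ) (hu : u < 4) : ruNorm (minV j u) = 16 := by
  rw [minV_eq_gIpow j hj u hu, ruNorm_gIpow]
  obtain ⟨h1, _, h3⟩ := chk_LT j hj
  have e : minV j 0 = ofF (vecM (ltS j) (ltN j) (scl j)) := rfl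
  rw [e, ruNorm_vecM _ _ _ h1, ← pcF_eq]
  unfold scl
  rcases h3 with ⟨a, b⟩ | ⟨a, b⟩
  · rw [a, b]
    norm_num
  · rw [a, b]
    norm_num

end Cfsg.Agent.Lib.Helper1.RuLat
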