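import Mathlib
import Cfsg.Agent.Lib.Helper1.RuL21

set_option autoImplicit false
set_option maxRecDepth 100000

/-!
# The rank 28 lattice over the Gaussian integers: the relation on 4060 points is the orthogonality of the lines
-/

namespace Cfsg.Agent.Lib.Helper1.RuLat

open Cfsg.Spor Cfsg.Agent.Lib.Helper1.Ru Cfsg.Agent.Lib.Helper1.GraphRef

/-! ### The products and the unit `i` -/

theorem dotV_gI_gI (v w : RuVec) : dotV (gI • v) (gI • w) = dotV v w := by
  have h1 := ruNorm_add (gI • v) (gI • w)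
  rw [← smul_add, ruNorm_gI_smul, ruNorm_gI_smul, ruNorm_gI_smul, ruNorm_add] at h1
  linarith

theorem dotV_gI_left (v w : RuVec) : dotV (gI • v) w = -dotV v (gI • w) := by
  have := dotV_gI_gI (gI • v) w
  rw [gI_smul_gI_smul, dotV_neg_left] at this
  linarith

/-- two vectors are orthogonal for the Hermitian product -/
def Orth (v w : RuVec) : Prop := dotV v w = 0 ∧ dotV v (gI • w) = 0

theorem Orth_gI_right (v w : RuVec) : Orth v (gI • w) ↔ Orth v w := by
  unfold Orth
  rw [gI_smul_gI_smul, dotV_neg_right]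
  constructor
  · rintro ⟨h1, h2⟩
    exact ⟨by linarith, h1⟩
  · rintro ⟨h1, h2⟩
    exact ⟨h2, by linarith⟩

theorem Orth_gI_left (v w : RuVec) : Orth (gI • v) w ↔ Orth v w := by
  unfold Orth
  rw [dotV_gI_gI, dotV_gI_left]
  constructor
  · rintro ⟨h1, h2⟩
    exact ⟨h2, by linarith⟩
  · rintro ⟨h1, h2⟩
    exact ⟨by linarith, h1⟩

theorem Orth_gIpow (a b : ℕ) (v w : RuVec) : Orth (gIpow a v) (gIpow b w) ↔ Orth v w := by
  induction a with
  | zero =>
    induction b with
    | zero => rfl
    | succ b ih =>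
      rw [gIpow_succ, Orth_gI_right]
      exact ih
  | succ a ih =>
    rw [gIpow_succ, Orth_gI_left]
    exact ih

/-! ### The two maps preserve the orthogonality -/

variable {D : XDat}

theorem dotV_XtV (h : D.Valid) (v w : RuVec) (hv : v ∈ ruLattice) (hw : w ∈ ruLattice) :
    dotV (XtV D.codes v) (XtV D.codes w) = dotV v w := by
  have h1 : dotV ((4 : ℤ) • XtV D.codes v) ((4 : ℤ) • XtV D.codes w) = 16 * dotV v w := by
    rw [(XtV_spec h v hv).2, (XtV_spec h w hw).2, dotV_X4V D.codes h.unitary]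
  rw [dotV_zsmul] at h1
  omega

theorem Orth_XtV (h : D.Valid) (v w : RuVec) (hv : v ∈ ruLattice) (hw : w ∈ ruLattice) :
    Orth (XtV D.codes v) (XtV D.codes w) ↔ Orth v w := by
  unfold Orth
  rw [← XtV_gI h w hw, dotV_XtV h v w hv hw, dotV_XtV h v _ hv (gI_smul_mem_ruLattice hw)]

/-- the lines with given indices are orthogonal -/
def OrthI (a b : ℕ) : Prop := Orth (minV a 0) (minV b 0)

theorem OrthI_img (h : D.Valid) (a b : ℕ) (ha : a < 4060) (hb : b < 4060) :
    OrthI (imgc D.img a / 4) (imgc D.img b / 4) ↔ OrthI a b := by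
  unfold OrthI
  have ma := minV_mem a ha 0 (by norm_num)
  have mb := minV_mem b hb 0 (by norm_num)
  have ca := (h.line_img a ha).1
  have cb := (h.line_img b hb).1
  rw [← Orth_XtV h _ _ ma mb, XtV_minV h a ha 0 (by norm_num), XtV_minV h b hb 0 (by norm_num),
    minV_eq_gIpow _ (by omega) _ (Nat.mod_lt _ (by norm_num)),
    minV_eq_gIpow (imgc D.img b / 4) (by omega) _ (Nat.mod_lt _ (by norm_num)), Orth_gIpow]

/-- the permutations preserving the orthogonality of the lines -/
def KO : Subgroup P4060 where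
  carrier := {g | ∀ a b : Fin 4060, OrthI (g a).val (g b).val ↔ OrthI a.val b.val}
  one_mem' := fun _ _ => Iff.rfl
  mul_mem' := by
    intro g g' hg hg' a b
    rw [Equiv.Perm.mul_apply, Equiv.Perm.mul_apply, hg, hg']
  inv_mem' := by
    intro g hg a b
    have := hg (g⁻¹ a) (g⁻¹ b)
    have e1 : g (g⁻¹ a) = a := g.apply_symm_apply a
    have e2 : g (g⁻¹ b) = b := g.apply_symm_apply b
    rw [e1, e2] at this
    exact this.symm

theorem RuH_le_KO : RuH ≤ KO := by
  unfold RuH
  rw [Subgroup.closure_le]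
  rintro g (rfl | rfl)
  · intro a b
    rw [← imgX_pi, ← imgX_pi]
    exact OrthI_img DX_valid a.val b.val a.isLt b.isLt
  · intro a b
    rw [← imgY_pi, ← imgY_pi]
    exact OrthI_img DY_valid a.val b.val a.isLt b.isLt

/-! ### The first row -/

theorem chk_row0 : ((List.range 4060).all fun k => (row 0).testBit k == (ltS k % 4 == 0)) = true := by
  decide +kernel

theorem minF_zero (k q : ℕ) : minF k 0 q = vecM (ltS k) (ltN k) (scl k) q := rfl

theorem minF_eq_zero_iff (k : ℕ) (hk : k < 4060) (q : ℕ) : minF k 0 q = 0 ↔ (ltS k).testBit q = false := by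
  rw [minF_zero, (testBit_of_vecM _ _ _ (scl_pos k) (chk_LT k hk).1 q).1]
  simp

theorem OrthI_zero (k : ℕ) (hk : k < 4060) : OrthI 0 k ↔ (row 0).testBit k = true := by
  have h := chk_row0
  rw [List.all_eq_true] at h
  have h1 := h k (List.mem_range.mpr hk)
  have h1' : (row 0).testBit k = (ltS k % 4 == 0) := by simpa using h1
  rw [h1']
  unfold OrthI Orth
  have e0 : minV 0 0 = gen 37 := by
    have := gen4_eq_minV 0 (by norm_num)
    rw [frame0] at this
    exact this.symm
  rw [e0, dotV_comm, dotV_gen4 _ 0 (by norm_num), dotV_comm, dotV_gen4 _ 0 (by norm_num),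
    coord_gI_smul _ 0 (by norm_num), iF_even _ 0 (by norm_num)]
  have c0 : coord (minV k 0) 0 = minF k 0 0 := coord_ofF _ 0 (by norm_num)
  have c1 : coord (minV k 0) (0 + 1) = minF k 0 1 := coord_ofF _ 1 (by norm_num)
  rw [c0, c1]
  have a0 := minF_eq_zero_iff k hk 0
  have a1 := minF_eq_zero_iff k hk 1
  rw [Nat.testBit_eq_decide_div_mod_eq] at a0 a1
  simp only [pow_zero, Nat.div_one, pow_one, decide_eq_false_iff_not] at a0 a1
  constructor
  · rintro ⟨h1, h2⟩
    have b0 := a0.mp (by omega)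
    have b1 := a1.mp (by omega)
    simp only [beq_iff_eq]
    omega
  · intro h3
    simp only [beq_iff_eq] at h3
    have b0 := a0.mpr (by omega)
    have b1 := a1.mpr (by omega)
    rw [b0, b1]
    constructor <;> norm_num

/-- the relation on the 4060 points is the orthogonality of the lines -/
theorem link (a b : Fin 4060) : relRow row a.val b.val = true ↔ OrthI a.val b.val := by
  have hv : a ∈ MulAction.orbit ↥RuH b1 := by
    rw [orbit_H_eq]
    exact Set.mem_univ _
  obtain ⟨g, hg⟩ := hv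
  have hg' : g.val b1 = a := hg
  have hK := RuH_le_KO g.property
  have hA : g.val ∈ RuA := H_le_A g.property
  rw [RuA, mem_autGroup] at hA
  have e2 : g.val (g.val⁻¹ b) = b := g.val.apply_symm_apply b
  have s1 := hK b1 (g.val⁻¹ b)
  rw [hg', e2] at s1
  have s2 := hA b1 (g.val⁻¹ b)
  rw [hg', e2] at s2
  rw [s1, s2]
  show (row 0).testBit (g.val⁻¹ b).val = true ↔ _
  exact (OrthI_zero _ (g.val⁻¹ b).isLt).symm

end Cfsg.Agent.Lib.Helper1.RuLat
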