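import Mathlib
import Cfsg.Agent.Lib.Helper1.RuL22

set_option autoImplicit false
set_option maxRecDepth 100000

/-!
# The rank 28 lattice over the Gaussian integers: the action of the automorphisms on the 4060 lines
-/

namespace Cfsg.Agent.Lib.Helper1.RuLat

open Cfsg.Spor Cfsg.Agent.Lib.Helper1.Ru Cfsg.Agent.Lib.Helper1.GraphRef

open scoped Pointwise

/-- the lattice as a type -/
abbrev RL : Type := ↥ruLattice

/-- the group of the automorphisms of the lattice -/
abbrev G4 : Type := ↥fourRu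

/-- the vectors of the table as elements of the lattice -/
def mvL (j : Fin 4060) (u : Fin 4) : RL := ⟨minV j.val u.val, minV_mem j.val j.isLt u.val u.isLt⟩

theorem mvL_val (j : Fin 4060) (u : Fin 4) : (mvL j u).val = minV j.val u.val := rfl

theorem ruI_val (w : RL) : (ruI w).val = gI • w.val := rfl

theorem ruI_mvL (j : Fin 4060) (u : Fin 4) : ruI (mvL j u) = mvL j (u + 1) := by
  apply Subtype.ext
  show gI • minV j.val u.val = minV j.val (u + 1 : Fin 4).val
  rw [gI_smul_minV j.val j.isLt u.val u.isLt, Fin.val_add]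
  rfl

theorem exists_mvL (w : RL) (h : ruNorm w.val = 16) : ∃ j u, w = mvL j u := by
  obtain ⟨j, hj, u, hu, e⟩ := min_vectors w.val w.property h
  exact ⟨⟨j, hj⟩, ⟨u, hu⟩, Subtype.ext e⟩

theorem mvL_inj (j j' : Fin 4060) (u u' : Fin 4) (h : mvL j u = mvL j' u') : j = j' ∧ u = u' := by
  have h' : minV j.val u.val = minV j'.val u'.val := congrArg Subtype.val h
  have hj := j.isLt
  have hj' := j'.isLt
  have hu := u.isLt
  have hu' := u'.isLt
  have e1 : (4 * j.val + u.val) / 4 = j.val := by omega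
  have e2 : (4 * j.val + u.val) % 4 = u.val := by omega
  have e3 : (4 * j'.val + u'.val) / 4 = j'.val := by omega
  have e4 : (4 * j'.val + u'.val) % 4 = u'.val := by omega
  have := minV_inj chk_inv (4 * j.val + u.val) (4 * j'.val + u'.val) (by omega) (by omega)
    (by rw [e1, e2, e3, e4]; exact h')
  exact ⟨Fin.ext (by omega), Fin.ext (by omega)⟩

theorem ruNorm_mvL (j : Fin 4060) (u : Fin 4) : ruNorm (mvL j u).val = 16 :=
  ruNorm_minV j.val j.isLt u.val u.isLt

/-! ### The automorphisms -/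

theorem g_add (g : G4) (v w : RL) : g.val (v + w) = g.val v + g.val w := g.property.1 v w

theorem g_ruI (g : G4) (v : RL) : g.val (ruI v) = ruI (g.val v) := g.property.2.1 v

theorem g_norm (g : G4) (v : RL) : ruNorm (g.val v).val = ruNorm v.val := g.property.2.2 v

theorem g_dotV (g : G4) (v w : RL) : dotV (g.val v).val (g.val w).val = dotV v.val w.val := by
  have h1 := g_norm g (v + w)
  rw [g_add] at h1
  have e1 : (g.val v + g.val w).val = (g.val v).val + (g.val w).val := rfl
  have e2 : (v + w).val = v.val + w.val := rfl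
  rw [e1, e2, ruNorm_add, ruNorm_add, g_norm, g_norm] at h1
  linarith

theorem g_Orth (g : G4) (v w : RL) : Orth (g.val v).val (g.val w).val ↔ Orth v.val w.val := by
  unfold Orth
  rw [← ruI_val, ← g_ruI, g_dotV, g_dotV, ruI_val]

/-- the image of the vectors of a line -/
theorem g_mvL (g : G4) (j : Fin 4060) : ∃ j' u0, ∀ u, g.val (mvL j u) = mvL j' (u0 + u) := by
  obtain ⟨j', u0, e⟩ := exists_mvL (g.val (mvL j 0)) (by rw [g_norm, ruNorm_mvL])
  refine ⟨j', u0, ?_⟩
  have key : ∀ n : ℕ, g.val (mvL j (Fin.ofNat 4 n)) = mvL j' (u0 + Fin.ofNat 4 n) := by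
    intro n
    induction n with
    | zero =>
      have : Fin.ofNat 4 0 = 0 := rfl
      rw [this, add_zero]
      exact e
    | succ n ih =>
      have : Fin.ofNat 4 (n + 1) = Fin.ofNat 4 n + 1 := by
        apply Fin.ext
        rw [Fin.val_add]
        show (n + 1) % 4 = (n % 4 + 1 % 4) % 4
        omega
      rw [this, ← ruI_mvL, g_ruI, ih, ruI_mvL, add_assoc]
  intro u
  have := key u.val
  have e2 : Fin.ofNat 4 u.val = u := Fin.ext (Nat.mod_eq_of_lt u.isLt)
  rwa [e2] at this

/-! ### The lines -/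

/-- the set of the four vectors of a line -/
def lineS (j : Fin 4060) : Set RL := Set.range (mvL j)

theorem lineS_injective : Function.Injective lineS := by
  intro j j' h
  have : mvL j 0 ∈ lineS j' := by
    rw [← h]
    exact ⟨0, rfl⟩
  obtain ⟨u, hu⟩ := this
  exact ((mvL_inj _ _ _ _ hu).1).symm

theorem smul_lineS (g : G4) (j : Fin 4060) : ∃ j', g • lineS j = lineS j' := by
  obtain ⟨j', u0, h⟩ := g_mvL g j
  refine ⟨j', ?_⟩
  apply Set.ext
  intro w
  constructor
  · rintro ⟨_, ⟨u, rfl⟩, rfl⟩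
    exact ⟨u0 + u, (h u).symm⟩
  · rintro ⟨u, rfl⟩
    refine ⟨mvL j (u - u0), ⟨_, rfl⟩, ?_⟩
    show g.val (mvL j (u - u0)) = _
    rw [h, add_sub_cancel]

/-- the action of the automorphisms on the 4060 lines -/
noncomputable def rho : G4 →* P4060 := permRep lineS lineS_injective smul_lineS

theorem rho_spec (g : G4) (j : Fin 4060) : ∃ u, g.val (mvL j 0) = mvL (rho g j) u := by
  have h := permRep_spec lineS lineS_injective smul_lineS g j
  have : g • mvL j 0 ∈ g • lineS j := Set.smul_mem_smul_set ⟨0, rfl⟩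
  rw [← h] at this
  obtain ⟨u, hu⟩ := this
  exact ⟨u, hu.symm⟩

theorem rho_eq_of (g : G4) (j j' : Fin 4060) (u : Fin 4) (h : g.val (mvL j 0) = mvL j' u) :
    rho g j = j' := by
  obtain ⟨u', e⟩ := rho_spec g j
  rw [h] at e
  exact ((mvL_inj _ _ _ _ e).1).symm

theorem OrthI_mvL (a b : Fin 4060) (ua ub : Fin 4) :
    Orth (mvL a ua).val (mvL b ub).val ↔ OrthI a.val b.val := by
  rw [mvL_val, mvL_val, minV_eq_gIpow a.val a.isLt ua.val ua.isLt,
    minV_eq_gIpow b.val b.isLt ub.val ub.isLt, Orth_gIpow]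
  rfl

/-- the action on the lines preserves the relation -/
theorem rho_mem_A (g : G4) : rho g ∈ RuA := by
  rw [RuA, mem_autGroup]
  intro a b
  rw [Bool.eq_iff_iff, link, link]
  obtain ⟨ua, ha⟩ := rho_spec g a
  obtain ⟨ub, hb⟩ := rho_spec g b
  rw [← OrthI_mvL (rho g a) (rho g b) ua ub, ← ha, ← hb, g_Orth, OrthI_mvL]

end Cfsg.Agent.Lib.Helper1.RuLat
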