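import Mathlib
import Cfsg.Agent.Lib.Helper1.RuL23

set_option autoImplicit false
set_option maxRecDepth 100000

/-!
# The rank 28 lattice over the Gaussian integers: the two maps are automorphisms of the lattice

The lattice is generated by its vectors of norm 16; the quarter of a map given by valid data is an
automorphism of the lattice, which acts on the lines as the permutation read from the data.
-/

namespace Cfsg.Agent.Lib.Helper1.RuLat

open Cfsg.Spor Cfsg.Agent.Lib.Helper1.Ru Cfsg.Agent.Lib.Helper1.GraphRef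

/-- the group generated by the vectors of the table -/
def MinG : AddSubgroup RuVec := AddSubgroup.closure {v | ∃ j < 4060, ∃ u < 4, v = minV j u}

theorem chk_wnorm : ∀ k < 93,
    (wordsG.getD k [] = [] ∨ sumR (fun q => wordF (wordsG.getD k []) q ^ 2) = 16) ∧
    (wordsH.getD k [] = [] ∨ sumR (fun q => wordF (wordsH.getD k []) q ^ 2) = 16) := by decide +kernel

theorem wordV_mem_MinG (w : List ℕ) (h : w = [] ∨ sumR (fun q => wordF w q ^ 2) = 16) :
    wordV w ∈ MinG := by
  rcases h with rfl | h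
  · exact MinG.zero_mem
  · have h16 : ruNorm (wordV w) = 16 := by
      rw [wordV_eq, ruNorm_ofF, ← sumR_eq]
      exact h
    obtain ⟨j, hj, u, hu, e⟩ := min_vectors _ (wordV_mem w) h16
    exact AddSubgroup.subset_closure ⟨j, hj, u, hu, e⟩

theorem lattice_le_MinG : ruLattice ≤ MinG := by
  rw [ruLattice_eq]
  unfold Lgen
  rw [AddSubgroup.closure_le]
  rintro _ ⟨k, rfl⟩
  have e : gen k.val = wordV (wordsG.getD k.val []) - wordV (wordsH.getD k.val []) := by
    rw [wordV_eq, wordV_eq, ← ofF_sub]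
    exact ofF_congr (chk_words k.val k.isLt)
  show gen k.val ∈ MinG
  rw [e]
  obtain ⟨h1, h2⟩ := chk_wnorm k.val k.isLt
  exact MinG.sub_mem (wordV_mem_MinG _ h1) (wordV_mem_MinG _ h2)

theorem lattice_induction_aux (P : RuVec → Prop) (hm : ∀ j < 4060, ∀ u < 4, P (minV j u)) (h0 : P 0)
    (ha : ∀ v w, v ∈ ruLattice → w ∈ ruLattice → P v → P w → P (v + w))
    (hn : ∀ v, v ∈ ruLattice → P v → P (-v)) (v : RuVec) (hv' : v ∈ MinG) : v ∈ ruLattice ∧ P v := by
  unfold MinG at hv'
  induction hv' using AddSubgroup.closure_induction with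
  | mem v hv =>
    obtain ⟨j, hj, u, hu, rfl⟩ := hv
    exact ⟨minV_mem j hj u hu, hm j hj u hu⟩
  | zero => exact ⟨ruLattice.zero_mem, h0⟩
  | add v w _ _ h1 h2 =>
    exact ⟨ruLattice.add_mem h1.1 h2.1, ha v w h1.1 h2.1 h1.2 h2.2⟩
  | neg v _ h1 => exact ⟨ruLattice.neg_mem h1.1, hn v h1.1 h1.2⟩

/-- induction on the lattice along the vectors of the table -/
theorem lattice_induction (P : RuVec → Prop) (hm : ∀ j < 4060, ∀ u < 4, P (minV j u)) (h0 : P 0)
    (ha : ∀ v w, v ∈ ruLattice → w ∈ ruLattice → P v → P w → P (v + w))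
    (hn : ∀ v, v ∈ ruLattice → P v → P (-v)) (v : RuVec) (hv : v ∈ ruLattice) : P v :=
  (lattice_induction_aux P hm h0 ha hn v (lattice_le_MinG hv)).2

/-! ### The quarter of a map as an automorphism -/

variable {D : XDat}

theorem XtV_zero (h : D.Valid) : XtV D.codes 0 = 0 := by
  have := XtV_add h 0 0 ruLattice.zero_mem ruLattice.zero_mem
  rw [add_zero] at this
  exact left_eq_add.mp this

theorem XtV_neg (h : D.Valid) (v : RuVec) (hv : v ∈ ruLattice) : XtV D.codes (-v) = -XtV D.codes v := by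
  have := XtV_add h v (-v) hv (ruLattice.neg_mem hv)
  rw [add_neg_cancel, XtV_zero h] at this
  exact (neg_eq_of_add_eq_zero_right this.symm).symm

/-- the quarter of the map on the lattice -/
def XtL (h : D.Valid) (w : RL) : RL := ⟨XtV D.codes w.val, (XtV_spec h w.val w.property).1⟩

theorem XtL_add (h : D.Valid) (v w : RL) : XtL h (v + w) = XtL h v + XtL h w :=
  Subtype.ext (XtV_add h v.val w.val v.property w.property)

theorem XtL_ruI (h : D.Valid) (v : RL) : XtL h (ruI v) = ruI (XtL h v) :=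
  Subtype.ext (XtV_gI h v.val v.property)

theorem XtL_norm (h : D.Valid) (v : RL) : ruNorm (XtL h v).val = ruNorm v.val :=
  XtV_norm h v.val v.property

/-- the quarter of the map as an additive map -/
def XtH (h : D.Valid) : RL →+ RL := AddMonoidHom.mk' (XtL h) (XtL_add h)

theorem XtL_injective (h : D.Valid) : Function.Injective (XtL h) := by
  have : Function.Injective (XtH h) := by
    rw [injective_iff_map_eq_zero]
    intro w hw
    have h1 : ruNorm (XtL h w).val = 0 := by
      have : XtL h w = 0 := hw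
      rw [this]
      show ruNorm (0 : RuVec) = 0
      rw [ruNorm_eq_dotV, dotV_zero_left]
    rw [XtL_norm] at h1
    exact Subtype.ext (eq_zero_of_norm w.val (le_of_eq h1))
  exact this

theorem XtL_surjective (h : D.Valid) (π : P4060)
    (hπ : ∀ j : Fin 4060, imgc D.img j.val / 4 = (π j).val) : Function.Surjective (XtL h) := by
  intro w
  have key : ∃ w' ∈ ruLattice, XtV D.codes w' = w.val := by
    apply lattice_induction (fun v => ∃ w' ∈ ruLattice, XtV D.codes w' = v) _ _ _ _ w.val w.property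
    · intro j hj u hu
      -- the line sent to the line `j`
      have e1 := hπ (π⁻¹ ⟨j, hj⟩)
      have e2 : π (π⁻¹ ⟨j, hj⟩) = ⟨j, hj⟩ := π.apply_symm_apply _
      rw [e2] at e1
      have hj0 := (π⁻¹ ⟨j, hj⟩).isLt
      have hu0 : imgc D.img (π⁻¹ ⟨j, hj⟩).val % 4 < 4 := Nat.mod_lt _ (by norm_num)
      refine ⟨minV (π⁻¹ ⟨j, hj⟩).val ((u + 4 - imgc D.img (π⁻¹ ⟨j, hj⟩).val % 4) % 4),
        minV_mem _ hj0 _ (Nat.mod_lt _ (by norm_num)), ?_⟩
      rw [XtV_minV h _ hj0 _ (Nat.mod_lt _ (by norm_num)), e1]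
      congr 1
      omega
    · exact ⟨0, ruLattice.zero_mem, XtV_zero h⟩
    · rintro v w' _ _ ⟨a, ha, ea⟩ ⟨b, hb, eb⟩
      exact ⟨a + b, ruLattice.add_mem ha hb, by rw [XtV_add h a b ha hb, ea, eb]⟩
    · rintro v _ ⟨a, ha, ea⟩
      exact ⟨-a, ruLattice.neg_mem ha, by rw [XtV_neg h a ha, ea]⟩
  obtain ⟨w', hw', e⟩ := key
  exact ⟨⟨w', hw'⟩, Subtype.ext e⟩

/-- the automorphism of the lattice given by valid data -/
noncomputable def Xg (h : D.Valid) (π : P4060) (hπ : ∀ j : Fin 4060, imgc D.img j.val / 4 = (π j).val) :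
    G4 :=
  ⟨Equiv.ofBijective (XtL h) ⟨XtL_injective h, XtL_surjective h π hπ⟩,
    ⟨XtL_add h, XtL_ruI h, XtL_norm h⟩⟩

theorem rho_Xg (h : D.Valid) (π : P4060) (hπ : ∀ j : Fin 4060, imgc D.img j.val / 4 = (π j).val) :
    rho (Xg h π hπ) = π := by
  apply Equiv.ext
  intro j
  have hc := (h.line_img j.val j.isLt).1
  apply rho_eq_of (Xg h π hπ) j (π j) ⟨imgc D.img j.val % 4, Nat.mod_lt _ (by norm_num)⟩
  show XtL h (mvL j 0) = _
  apply Subtype.ext
  show XtV D.codes (minV j.val 0) = minV (π j).val (imgc D.img j.val % 4)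
  rw [XtV_minV h j.val j.isLt 0 (by norm_num), hπ j]
  congr 1
  omega

/-- the action on the lines maps the automorphisms onto the group on 4060 points -/
theorem range_rho : rho.range = RuH := by
  apply le_antisymm
  · rintro _ ⟨g, rfl⟩
    rw [H_eq_A]
    exact rho_mem_A g
  · unfold RuH
    rw [Subgroup.closure_le]
    rintro g (rfl | rfl)
    · exact ⟨Xg DX_valid xP imgX_pi, rho_Xg DX_valid xP imgX_pi⟩
    · exact ⟨Xg DY_valid yP imgY_pi, rho_Xg DY_valid yP imgY_pi⟩

end Cfsg.Agent.Lib.Helper1.RuLat
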