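import Mathlib
import Cfsg.Agent.Lib.Helper1.RuL24

set_option autoImplicit false
set_option maxRecDepth 100000

/-!
# The rank 28 lattice over the Gaussian integers: the automorphisms fixing all the lines are the four scalars
-/

namespace Cfsg.Agent.Lib.Helper1.RuLat

open Cfsg.Spor Cfsg.Agent.Lib.Helper1.Ru Cfsg.Agent.Lib.Helper1.GraphRef Cfsg.Agent.Lib.Helper1.StemLL

/-! ### More on the powers of the unit `i` -/

theorem gIpow_add (a b : ℕ) (v : RuVec) : gIpow a (gIpow b v) = gIpow (a + b) v := by
  unfold gIpow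
  rw [Function.iterate_add_apply]

theorem gIpow_four (v : RuVec) : gIpow 4 v = v := by
  show gI • gI • gI • gI • v = v
  rw [gI_smul_gI_smul, gI_smul_gI_smul, neg_neg]

theorem gIpow_vadd (u : ℕ) (v w : RuVec) : gIpow u (v + w) = gIpow u v + gIpow u w := by
  induction u with
  | zero => rfl
  | succ u ih => rw [gIpow_succ, gIpow_succ, gIpow_succ, ih, smul_add]

theorem gIpow_zero_vec (u : ℕ) : gIpow u (0 : RuVec) = 0 := by
  induction u with
  | zero => rfl
  | succ u ih => rw [gIpow_succ, ih, smul_zero]

theorem gIpow_neg (u : ℕ) (v : RuVec) : gIpow u (-v) = -gIpow u v := by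
  induction u with
  | zero => rfl
  | succ u ih => rw [gIpow_succ, gIpow_succ, ih, smul_neg]

theorem gI_gIpow (u : ℕ) (v : RuVec) : gI • gIpow u v = gIpow u (gI • v) := by
  rw [← gIpow_succ]
  unfold gIpow
  rw [Function.iterate_succ_apply]

theorem dotV_gIpow (u : ℕ) (v w : RuVec) : dotV (gIpow u v) (gIpow u w) = dotV v w := by
  induction u with
  | zero => rfl
  | succ u ih => rw [gIpow_succ, gIpow_succ, dotV_gI_gI, ih]

/-! ### Lines that are not orthogonal -/

theorem unit_eq (g : G4) (a b : Fin 4060) (ua ub : Fin 4) (ha : g.val (mvL a 0) = mvL a ua)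
    (hb : g.val (mvL b 0) = mvL b ub) (hno : ¬ OrthI a.val b.val) : ua = ub := by
  by_contra hne
  apply hno
  have hp := g_dotV g (mvL a 0) (mvL b 0)
  have hq : dotV (g.val (mvL a 0)).val (gI • (g.val (mvL b 0)).val) =
      dotV (mvL a 0).val (gI • (mvL b 0).val) := by
    rw [← ruI_val, ← g_ruI, g_dotV, ruI_val]
  rw [ha, hb] at hp hq
  have hua := ua.isLt
  have hub := ub.isLt
  have hne' : ua.val ≠ ub.val := fun e => hne (Fin.ext e)
  have e0 : minV a.val ua.val = gIpow ua.val (minV a.val 0) := minV_eq_gIpow _ a.isLt _ hua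
  have e1 : minV b.val ub.val = gIpow ua.val (minV b.val ((ub.val + 4 - ua.val) % 4)) := by
    rw [gIpow_minV b.val b.isLt _ (Nat.mod_lt _ (by norm_num))]
    congr 1
    omega
  simp only [mvL_val] at hp hq
  rw [e0, e1, dotV_gIpow] at hp
  rw [e0, e1, gI_gIpow, dotV_gIpow] at hq
  have hd : (ub.val + 4 - ua.val) % 4 = 1 ∨ (ub.val + 4 - ua.val) % 4 = 2 ∨
      (ub.val + 4 - ua.val) % 4 = 3 := by omega
  have z0 : ((0 : Fin 4) : ℕ) = 0 := rfl
  rw [z0] at hp hq
  unfold OrthI Orth
  rcases hd with h | h | h
  · rw [h, minV_one _ b.isLt] at hp hq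
    rw [gI_smul_gI_smul, dotV_neg_right] at hq
    constructor <;> linarith
  · rw [h, minV_two _ b.isLt] at hp hq
    rw [dotV_neg_right] at hp
    rw [smul_neg, dotV_neg_right] at hq
    constructor <;> linarith
  · rw [h, minV_three _ b.isLt, minV_two _ b.isLt] at hp hq
    rw [smul_neg, dotV_neg_right] at hp
    rw [smul_neg, smul_neg, gI_smul_gI_smul, neg_neg] at hq
    constructor <;> linarith

/-! ### The spanning tree -/

/-- the parent of a line in the tree -/
def parT (j : ℕ) : ℕ := fld 12 4095 parTN j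

/-- the depth of a line in the tree -/
def depT (j : ℕ) : ℕ := fld 2 3 depTN j

theorem chk_tree : ((List.range' 1 4059).all fun j => frc (parT j) fun p =>
    decide (p < 4060) && decide (depT p < depT j) && !(row j).testBit p) = true := by decide +kernel

theorem tree_spec (j : ℕ) (h1 : 1 ≤ j) (hj : j < 4060) :
    parT j < 4060 ∧ depT (parT j) < depT j ∧ (row j).testBit (parT j) = false := by
  have h := chk_tree
  rw [List.all_eq_true] at h
  have := h j (by rw [List.mem_range']; exact ⟨j - 1, by omega, by omega⟩)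
  rw [frc_eq] at this
  simp only [Bool.and_eq_true] at this
  obtain ⟨⟨a1, a2⟩, a3⟩ := this
  exact ⟨of_decide_eq_true a1, of_decide_eq_true a2, by simpa using a3⟩

/-- an automorphism fixing all the lines multiplies all the vectors of the table by the same unit -/
theorem units_const (g : G4) (hg : ∀ j, rho g j = j) : ∃ u0 : Fin 4, ∀ j, g.val (mvL j 0) = mvL j u0 := by
  have h1 : ∀ j, ∃ u, g.val (mvL j 0) = mvL j u := by
    intro j
    obtain ⟨u, hu⟩ := rho_spec g j
    rw [hg j] at hu
    exact ⟨u, hu⟩
  choose ku hku using h1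
  refine ⟨ku b1, ?_⟩
  have key : ∀ n : ℕ, ∀ j : Fin 4060, depT j.val = n → ku j = ku b1 := by
    intro n
    induction n using Nat.strong_induction_on with
    | _ n ih =>
      intro j hn
      by_cases hj0 : j.val = 0
      · have : j = b1 := Fin.ext hj0
        rw [this]
      · obtain ⟨t1, t2, t3⟩ := tree_spec j.val (by omega) j.isLt
        have hno : ¬ OrthI j.val (parT j.val) := by
          intro ho
          have := (link j ⟨parT j.val, t1⟩).mpr ho
          have e : relRow row j.val (parT j.val) = (row j.val).testBit (parT j.val) := rfl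
          rw [e, t3] at this
          exact Bool.false_ne_true this
        have e1 := unit_eq g j ⟨parT j.val, t1⟩ _ _ (hku j) (hku _) hno
        rw [e1]
        exact ih (depT (parT j.val)) (by omega) ⟨parT j.val, t1⟩ rfl
  intro j
  rw [← key _ j rfl]
  exact hku j

end Cfsg.Agent.Lib.Helper1.RuLat
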