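import Mathlib
import Cfsg.Agent.Lib.Helper1.RuL25

set_option autoImplicit false
set_option maxRecDepth 100000

/-!
# The rank 28 lattice over the Gaussian integers: the centre of the group of automorphisms and its quotient

The automorphisms fixing all the lines are the multiplications by the four units; they form the centre,
and the quotient is the group on 4060 points.
-/

namespace Cfsg.Agent.Lib.Helper1.RuLat

open Cfsg.Spor Cfsg.Agent.Lib.Helper1.Ru Cfsg.Agent.Lib.Helper1.GraphRef

/-! ### The multiplications by the units -/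

/-- the multiplication by a power of the unit `i` as a permutation of the lattice -/
def scalE (u : Fin 4) : Equiv.Perm RL where
  toFun w := ⟨gIpow u.val w.val, gIpow_mem _ _ w.property⟩
  invFun w := ⟨gIpow (4 - u.val) w.val, gIpow_mem _ _ w.property⟩
  left_inv w := by
    apply Subtype.ext
    show gIpow (4 - u.val) (gIpow u.val w.val) = w.val
    rw [gIpow_add, show 4 - u.val + u.val = 4 by omega, gIpow_four]
  right_inv w := by
    apply Subtype.ext
    show gIpow u.val (gIpow (4 - u.val) w.val) = w.val
    rw [gIpow_add, show u.val + (4 - u.val) = 4 by omega, gIpow_four]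

/-- the multiplication by a power of the unit `i` as an automorphism of the lattice -/
def scal (u : Fin 4) : G4 :=
  ⟨scalE u, ⟨fun v w => Subtype.ext (gIpow_vadd u.val v.val w.val),
    fun v => Subtype.ext (gI_gIpow u.val v.val).symm, fun v => ruNorm_gIpow u.val v.val⟩⟩

theorem scal_apply (u : Fin 4) (w : RL) : ((scal u).val w).val = gIpow u.val w.val := rfl

theorem scal_mvL (u : Fin 4) (j : Fin 4060) (t : Fin 4) : (scal u).val (mvL j t) = mvL j (u + t) := by
  apply Subtype.ext
  show gIpow u.val (minV j.val t.val) = minV j.val (u + t : Fin 4).val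
  rw [gIpow_minV j.val j.isLt t.val t.isLt, Fin.val_add, Nat.add_comm]

theorem g_zero (g : G4) : g.val 0 = 0 := by
  have := g_add g 0 0
  rw [add_zero] at this
  exact left_eq_add.mp this

theorem g_neg (g : G4) (v : RL) : g.val (-v) = -g.val v := by
  have := g_add g v (-v)
  rw [add_neg_cancel, g_zero] at this
  exact (neg_eq_of_add_eq_zero_right this.symm).symm

/-- an automorphism multiplying the vectors of the table by a unit is the multiplication by this unit -/
theorem eq_scal (g : G4) (u0 : Fin 4) (h : ∀ j, g.val (mvL j 0) = mvL j u0) : g = scal u0 := by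
  have hall : ∀ j t, g.val (mvL j t) = mvL j (u0 + t) := by
    intro j t
    obtain ⟨j', u0', h'⟩ := g_mvL g j
    have e := h' 0
    rw [h j, add_zero] at e
    obtain ⟨e1, e2⟩ := mvL_inj _ _ _ _ e
    rw [h' t, ← e1, ← e2]
  have key : ∀ v : RuVec, v ∈ ruLattice → ∀ hv : v ∈ ruLattice,
      (g.val ⟨v, hv⟩).val = gIpow u0.val v := by
    intro v hv
    apply lattice_induction (fun v => ∀ hv : v ∈ ruLattice, (g.val ⟨v, hv⟩).val = gIpow u0.val v) _ _ _ _ v hv
    · intro j hj u hu hv'
      have := hall ⟨j, hj⟩ ⟨u, hu⟩
      have e : (⟨minV j u, hv'⟩ : RL) = mvL ⟨j, hj⟩ ⟨u, hu⟩ := rfl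
      rw [e, this, ← scal_mvL]
      rfl
    · intro hv'
      have e : (⟨0, hv'⟩ : RL) = 0 := rfl
      rw [e, g_zero, gIpow_zero_vec]
      rfl
    · intro v w hv hw h1 h2 hvw
      have e : (⟨v + w, hvw⟩ : RL) = ⟨v, hv⟩ + ⟨w, hw⟩ := rfl
      rw [e, g_add, gIpow_vadd, ← h1 hv, ← h2 hw]
      rfl
    · intro v hv h1 hnv
      have e : (⟨-v, hnv⟩ : RL) = -⟨v, hv⟩ := rfl
      rw [e, g_neg, gIpow_neg, ← h1 hv]
      rfl
  apply Subtype.ext
  apply Equiv.ext
  intro w
  apply Subtype.ext
  rw [scal_apply]
  exact key w.val w.property w.property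

theorem rho_scal (u : Fin 4) : rho (scal u) = 1 := by
  apply Equiv.ext
  intro j
  rw [Equiv.Perm.one_apply]
  apply rho_eq_of (scal u) j j (u + 0)
  exact scal_mvL u j 0

theorem scal_injective : Function.Injective scal := by
  intro u u' h
  have h1 := scal_mvL u b1 0
  rw [h, scal_mvL] at h1
  have := (mvL_inj _ _ _ _ h1).2
  simpa using this.symm

/-- the automorphisms fixing all the lines are the multiplications by the units -/
theorem ker_rho : (rho.ker : Set G4) = Set.range scal := by
  apply Set.ext
  intro g
  constructor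
  · intro hg
    have hg' : rho g = 1 := hg
    obtain ⟨u0, h⟩ := units_const g (fun j => by rw [hg', Equiv.Perm.one_apply])
    exact ⟨u0, (eq_scal g u0 h).symm⟩
  · rintro ⟨u, rfl⟩
    exact rho_scal u

theorem card_ker : Nat.card ↥rho.ker = 4 := by
  have e1 : Nat.card ↥rho.ker = Nat.card ↥(Set.range scal) :=
    Nat.card_congr (Equiv.setCongr ker_rho)
  rw [e1, Nat.card_congr (Equiv.ofInjective scal scal_injective).symm, Nat.card_eq_fintype_card,
    Fintype.card_fin]

/-! ### The centre -/

theorem not_comm_H : xP * yP ≠ yP * xP := by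
  intro h
  have := congrArg (fun g : P4060 => (g b1).val) h
  simp only [Equiv.Perm.mul_apply] at this
  rw [xP, yP, tabPerm_apply, tabPerm_apply, tabPerm_apply, tabPerm_apply] at this
  revert this
  decide +kernel

theorem center_H : Subgroup.center ↥RuH = ⊥ := by
  have := RuH_simple
  rcases (inferInstance : (Subgroup.center ↥RuH).Normal).eq_bot_or_eq_top with h | h
  · exact h
  · exfalso
    apply not_comm_H
    have hx : xH ∈ Subgroup.center ↥RuH := by rw [h]; exact Subgroup.mem_top _
    have := Subgroup.mem_center_iff.mp hx yH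
    have := congrArg Subtype.val this
    exact this.symm

theorem center_eq_ker : Subgroup.center G4 = rho.ker := by
  apply le_antisymm
  · intro z hz
    rw [MonoidHom.mem_ker]
    have hr : rho z ∈ RuH := by rw [← range_rho]; exact ⟨z, rfl⟩
    have hc : (⟨rho z, hr⟩ : ↥RuH) ∈ Subgroup.center ↥RuH := by
      rw [Subgroup.mem_center_iff]
      intro h
      have hh : h.val ∈ rho.range := by rw [range_rho]; exact h.property
      obtain ⟨g, hg⟩ := hh
      apply Subtype.ext
      show h.val * rho z = rho z * h.val
      rw [← hg, ← map_mul, ← map_mul, Subgroup.mem_center_iff.mp hz g]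
    rw [center_H, Subgroup.mem_bot] at hc
    exact congrArg Subtype.val hc
  · intro z hz
    have : z ∈ (rho.ker : Set G4) := hz
    rw [ker_rho] at this
    obtain ⟨u, rfl⟩ := this
    rw [Subgroup.mem_center_iff]
    intro g
    apply Subtype.ext
    apply Equiv.ext
    intro w
    apply Subtype.ext
    show (g.val ((scal u).val w)).val = ((scal u).val (g.val w)).val
    rw [scal_apply]
    -- the automorphism commutes with the powers of the unit
    have key : ∀ n : ℕ, ∀ w : RL, ∀ hn : gIpow n w.val ∈ ruLattice,
        (g.val ⟨gIpow n w.val, hn⟩).val = gIpow n (g.val w).val := by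
      intro n
      induction n with
      | zero => intro w _; rfl
      | succ n ih =>
        intro w hn
        have hn' : gIpow n w.val ∈ ruLattice := gIpow_mem n _ w.property
        have e : (⟨gIpow (n + 1) w.val, hn⟩ : RL) = ruI ⟨gIpow n w.val, hn'⟩ :=
          Subtype.ext (gIpow_succ n w.val)
        rw [e, g_ruI, ruI_val, ih w hn', gIpow_succ]
    exact key u.val w _

/-! ### The quotient -/

/-- the quotient of the group of automorphisms by its centre is the group on 4060 points -/
noncomputable def Ru_equiv : Cfsg.Spor.Ru ≃* ↥RuH :=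
  (QuotientGroup.quotientMulEquivOfEq center_eq_ker).trans
    ((QuotientGroup.quotientKerEquivRange rho).trans (MulEquiv.subgroupCongr range_rho))

theorem card_center : Nat.card ↥(Subgroup.center ↥fourRu) = 4 := by
  have : Subgroup.center G4 = rho.ker := center_eq_ker
  rw [show Subgroup.center ↥fourRu = rho.ker from this]
  exact card_ker

theorem card_Ru : Nat.card Cfsg.Spor.Ru = 145926144000 := by
  rw [Nat.card_congr Ru_equiv.toEquiv]
  exact card_H

theorem Ru_simple : IsSimpleGroup Cfsg.Spor.Ru := by
  have := RuH_simple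
  exact Ru_equiv.isSimpleGroup

end Cfsg.Agent.Lib.Helper1.RuLat
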