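import Mathlib
import Cfsg.Agent.Lib.Helper1.RuS
import Cfsg.Agent.Lib.Helper1.RuM1
import Cfsg.Agent.Lib.Helper1.PMChk
import Cfsg.Agent.Lib.Helper1.PMTr

set_option autoImplicit false
set_option maxRecDepth 100000

/-! The Rudvalis group as a permutation group on 4060 points: the model of the group generated by
the two permutations. -/

namespace Cfsg.Agent.Lib.Helper1.RuM

open Cfsg Cfsg.Agent.Lib.Helper1 Cfsg.Agent.Lib.Helper1.MatCode Cfsg.Agent.Lib.Helper1.GraphRef
  Cfsg.Agent.Lib.Helper1.Ru
open Cfsg.Agent.Lib.Helper6.TC Cfsg.Agent.Lib.Helper6.PM Cfsg.Agent.Lib.Helper2.PMS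
open Cfsg.Agent.Lib.Helper5.Chain Cfsg.Agent.Lib.Helper5.Srch Cfsg.Agent.Lib.Helper1.PMChk
  Cfsg.Agent.Lib.Helper1.PMTr

/-- the right action of the letters `x, y, x⁻¹, y⁻¹` -/
def px (c q : ℕ) : ℕ :=
  Nat.rec (motive := fun _ => ℕ) (DR.pi 2 q) (fun c _ =>
    Nat.rec (motive := fun _ => ℕ) (DR.pi 3 q) (fun c _ =>
      Nat.rec (motive := fun _ => ℕ) (DR.pi 0 q) (fun _ _ => DR.pi 1 q) c) c) c

theorem px_lt : ∀ c < 4, ∀ q < 4060, px c q < 4060 := by
  intro c hc q hq
  interval_cases c
  · exact piR_lt 2 q (by norm_num) hq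
  · exact piR_lt 3 q (by norm_num) hq
  · exact piR_lt 0 q (by norm_num) hq
  · exact piR_lt 1 q (by norm_num) hq

theorem inv_letter (c : ℕ) (hc : c < 4) (x : Fin 4060) :
    (((gsH.getD c 1 : ↥RuH) : P4060)⁻¹ x).val = px c x.val := by
  interval_cases c
  · show (xP⁻¹ x).val = _
    rw [xP, tabPerm_inv_apply]
    rfl
  · show (yP⁻¹ x).val = _
    rw [yP, tabPerm_inv_apply]
    rfl
  · show ((xP⁻¹)⁻¹ x).val = _
    rw [inv_inv, xP, tabPerm_apply]
    rfl
  · show ((yP⁻¹)⁻¹ x).val = _
    rw [inv_inv, yP, tabPerm_apply]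
    rfl

theorem inv_word (w : List ℕ) (hw : ∀ c ∈ w, c < 4) (x : Fin 4060) :
    (((wordProd gsH w : ↥RuH) : P4060)⁻¹ x).val = wapp px w x.val := by
  induction w generalizing x with
  | nil =>
    rw [wordProd_nil]
    rfl
  | cons c w ih =>
    rw [wordProd_cons, Subgroup.coe_mul, mul_inv_rev, Equiv.Perm.mul_apply, wapp_cons]
    have hc : c < 4 := hw c List.mem_cons_self
    have h1 := ih (fun c' hc' => hw c' (List.mem_cons_of_mem _ hc'))
      (((gsH.getD c 1 : ↥RuH) : P4060)⁻¹ x)
    rw [inv_letter c hc x] at h1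
    exact h1

theorem closure_elt : Subgroup.closure {g : ↥RuH | ∃ c < 4, g = wordProd gsH [c]} = ⊤ := by
  have h := hgenH
  have e : {g : ↥RuH | ∃ c < 4, g = wordProd gsH [c]} =
      {g : ↥RuH | ∃ i < DR.k, g = gsH.getD i 1} := by
    ext g
    constructor
    · rintro ⟨c, hc, rfl⟩
      refine ⟨c, hc, ?_⟩
      rw [wordProd_cons, wordProd_nil, mul_one]
    · rintro ⟨c, hc, rfl⟩
      refine ⟨c, hc, ?_⟩
      rw [wordProd_cons, wordProd_nil, mul_one]
  rw [e]
  exact h

instance : Finite ↥RuH := Nat.finite_of_card_ne_zero (by rw [card_H]; norm_num)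

/-- the model of the group generated by the two permutations -/
noncomputable def ruM0 : PModel where
  G := ↥RuH
  n := 4060
  nl := 4
  px := px
  elt := wordProd gsH
  phi := RuH.subtype
  elt_nil := wordProd_nil gsH
  elt_append := wordProd_append gsH
  px_lt := px_lt
  phi_inv_val := fun w hw p => inv_word w hw p
  phi_injective := RuH.subtype_injective
  closure_letters := closure_elt

theorem chk_old : chkRange (chkOld px 4060 pm) 0 4 = true := by decide +kernel

theorem chk_new0 : chkNew 4060 4 ds pm 0 = true := by decide +kernel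

theorem chk_new1 : chkNew 4060 4 ds pm 1 = true := by decide +kernel

theorem chk_new2 : chkNew 4060 4 ds pm 2 = true := by decide +kernel

theorem chk_new3 : chkNew 4060 4 ds pm 3 = true := by decide +kernel

theorem chk_new4 : chkNew 4060 4 ds pm 4 = true := by decide +kernel

theorem chk_new5 : chkNew 4060 4 ds pm 5 = true := by decide +kernel

theorem chk_new6 : chkNew 4060 4 ds pm 6 = true := by decide +kernel

theorem chk_new7 : chkNew 4060 4 ds pm 7 = true := by decide +kernel

theorem chk_new8 : chkNew 4060 4 ds pm 8 = true := by decide +kernel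

theorem chk_new9 : chkNew 4060 4 ds pm 9 = true := by decide +kernel

theorem chk_new10 : chkNew 4060 4 ds pm 10 = true := by decide +kernel

theorem chk_new11 : chkNew 4060 4 ds pm 11 = true := by decide +kernel

theorem chk_new : chkRange (chkNew 4060 4 ds pm) 0 ds.length = true := by
  apply chkRange_of_forall
  intro k _ hk
  have hk' : k < 12 := hk
  interval_cases k
  · exact chk_new0
  · exact chk_new1
  · exact chk_new2
  · exact chk_new3
  · exact chk_new4
  · exact chk_new5
  · exact chk_new6
  · exact chk_new7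
  · exact chk_new8
  · exact chk_new9
  · exact chk_new10
  · exact chk_new11

theorem chk_slp0 : chkSLP ruM0.px ruM0.n ruM0.nl ds pm = true :=
  chkSLP_of_pieces px 4060 4 ds pm chk_old chk_new

/-- the model of the group generated by the two permutations, with the strong generators as
letters (16 letters) -/
noncomputable def ruS0 : PModel := slpModel ruM0 ds pm chk_slp0

theorem ruS0_nl : ruS0.nl = 16 := slpModel_nl ruM0 ds pm chk_slp0

theorem chk_lv0 : chkLevel pm 0 lv0 [lv1, lv2, lv3] = true := by decide +kernel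

theorem chk_lv1 : chkLevel pm 1 lv1 [lv2, lv3] = true := by decide +kernel

theorem chk_lv2 : chkLevel pm 2 lv2 [lv3] = true := by decide +kernel

theorem chk_lv3 : chkLevel pm 4 lv3 [] = true := by decide +kernel

theorem chain_ok : IsChain pm baseC levelsC :=
  isChain_cons pm 0 _ lv0 _ chk_lv0 (isChain_cons pm 1 _ lv1 _ chk_lv1
    (isChain_cons pm 2 _ lv2 _ chk_lv2 (isChain_cons pm 4 _ lv3 _ chk_lv3 (isChain_nil pm))))

theorem chk_let : chkLet 16 levelsC = true := by decide +kernel

theorem levels_prod : (levelsC.map List.length).prod = 145926144000 := by decide +kernel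

/-- the stabilizer chain -/
def DC : ChainData where
  base := baseC
  levels := levelsC

theorem factsC0 : ChainFacts ruS0 DC where
  hbase := by
    intro b hb
    have : b < 4060 := by
      revert b
      decide
    exact this
  hlet := by
    rw [ruS0_nl]
    exact letters_of_chkLet 16 levelsC chk_let
  hchain := chain_ok
  hcard := by
    show Nat.card ↥RuH = _
    rw [card_H]
    exact levels_prod.symm

end Cfsg.Agent.Lib.Helper1.RuM
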