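import Mathlib
import Cfsg.Agent.Lib.Helper1.RuL26
import Cfsg.Agent.Lib.Helper1.RuM2

set_option autoImplicit false
set_option maxRecDepth 100000

/-! The Rudvalis group of the definitions as a permutation group on 4060 points. -/

namespace Cfsg.Agent.Lib.Helper1.RuM

open Cfsg Cfsg.Agent.Lib.Helper1 Cfsg.Agent.Lib.Helper1.MatCode Cfsg.Agent.Lib.Helper1.GraphRef
  Cfsg.Agent.Lib.Helper1.Ru Cfsg.Agent.Lib.Helper1.RuLat
open Cfsg.Agent.Lib.Helper6.TC Cfsg.Agent.Lib.Helper6.PM Cfsg.Agent.Lib.Helper2.PMS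
open Cfsg.Agent.Lib.Helper5.Chain Cfsg.Agent.Lib.Helper5.Srch Cfsg.Agent.Lib.Helper1.PMChk
  Cfsg.Agent.Lib.Helper1.PMTr

/-- **the permutation model of the Rudvalis group of the definitions** on 4060 points (the lines
of minimal vectors of the lattice, numbered as in `RuLat.minV`), with letters `x, y, x⁻¹, y⁻¹`
(two elements of order 29) -/
noncomputable def ruM : PModel := transport ruM0 Ru_equiv

theorem ruM_G : ruM.G = Cfsg.Spor.Ru := rfl

theorem ruM_n : ruM.n = 4060 := rfl

theorem ruM_nl : ruM.nl = 4 := rfl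

theorem ruM_px : ruM.px = px := rfl

theorem chk_slp : chkSLP ruM.px ruM.n ruM.nl ds pm = true := chk_slp0

/-- the model of the Rudvalis group with the strong generators as letters (16 letters) -/
noncomputable def ruS : PModel := slpModel ruM ds pm chk_slp

theorem ruS_G : ruS.G = Cfsg.Spor.Ru := rfl

theorem ruS_n : ruS.n = 4060 := rfl

theorem ruS_nl : ruS.nl = 16 := slpModel_nl ruM ds pm chk_slp

theorem ruS_px : ruS.px = pm := rfl

theorem factsC : ChainFacts ruS DC where
  hbase := factsC0.hbase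
  hlet := by
    rw [ruS_nl]
    exact letters_of_chkLet 16 levelsC chk_let
  hchain := chain_ok
  hcard := by
    show Nat.card Cfsg.Spor.Ru = _
    rw [card_Ru]
    exact levels_prod.symm

end Cfsg.Agent.Lib.Helper1.RuM
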