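import Mathlib
import Cfsg.Agent.Lib.Helper6.Mult.PM3

set_option autoImplicit false

/-! Sets of points given by packed lists of their elements: the action of a letter of a model with
a faithful permutation action given by tables, checked with the tables of the letter and of its
inverse and with membership masks computed from the lists. -/

namespace Cfsg.Agent.Lib.Helper1.SetAct

open Cfsg.Agent.Lib.Helper6.TC Cfsg.Agent.Lib.Helper6.PM
open Cfsg.Agent.Lib.Helper1 Cfsg.Agent.Lib.Helper1.MatCode Cfsg.Agent.Lib.Helper1.StemSA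

open scoped Pointwise

/-- the entry `t` of a packed list with entries of `b` bits -/
def ent (b L t : ℕ) : ℕ := (L >>> (b * t)) % 2 ^ b

/-- the mask of the first `r` entries of a packed list -/
def maskOf (b L : ℕ) : ℕ → ℕ
  | 0 => 0
  | r + 1 => maskOf b L r ||| (1 <<< ent b L r)

theorem testBit_maskOf (b L r q : ℕ) :
    (maskOf b L r).testBit q = true ↔ ∃ t < r, ent b L t = q := by
  induction r with
  | zero => simp [maskOf]
  | succ r ih =>
    rw [maskOf, Nat.testBit_or, Bool.or_eq_true, ih, Nat.testBit_shiftLeft]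
    constructor
    · rintro (⟨t, ht, h⟩ | h)
      · exact ⟨t, by omega, h⟩
      · simp only [Bool.and_eq_true, decide_eq_true_eq] at h
        obtain ⟨h1, h2⟩ := h
        refine ⟨r, by omega, ?_⟩
        by_contra hne
        have : 0 < q - ent b L r := by omega
        obtain ⟨c, hc⟩ := Nat.exists_eq_succ_of_ne_zero (by omega : q - ent b L r ≠ 0)
        rw [hc] at h2
        simp [Nat.testBit_succ] at h2
    · rintro ⟨t, ht, h⟩
      by_cases htr : t < r
      · exact Or.inl ⟨t, htr, h⟩
      · right
        have : t = r := by omega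
        subst this
        rw [h]
        simp

/-- evaluation of a function at a number that is computed first -/
def withNat (x : ℕ) (f : ℕ → Bool) : Bool :=
  Nat.rec (motive := fun _ => Bool) (f 0) (fun n _ => f (n + 1)) x

theorem withNat_eq (x : ℕ) (f : ℕ → Bool) : withNat x f = f x := by
  cases x <;> rfl

variable (M : PModel) (b r : ℕ)

/-- the set of the points of a packed list -/
def ptL (L : ℕ) : Set (Fin M.n) := {p | ∃ t < r, ent b L t = p.val}

theorem ptL_eq_maskSet (L : ℕ) : ptL M b r L = maskSet M (maskOf b L r) := by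
  ext p
  rw [mem_maskSet, testBit_maskOf]
  rfl

/-- the image under `f` of the entries of the list `L` lies in the mask `K` -/
def chkSub (f : ℕ → ℕ) (L K : ℕ) : Bool :=
  (List.range r).all fun t => K.testBit (f (ent b L t))

/-- the check of the action of a letter on one set: with the table `f` of the letter and the table
`f'` of its inverse -/
def chkOne (f f' : ℕ → ℕ) (LA LB : ℕ) : Bool :=
  withNat LA fun la => withNat LB fun lb =>
    withNat (maskOf b la r) fun ka => withNat (maskOf b lb r) fun kb =>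
      chkSub b r f lb ka && chkSub b r f' la kb

/-- the image of a set under an element, from the tables of the actions of its inverse and of the
element -/
theorem smul_ptL (g : M.G) (f f' : ℕ → ℕ) (hf : ∀ p : Fin M.n, (g⁻¹ • p).val = f p.val)
    (hf' : ∀ p : Fin M.n, (g • p).val = f' p.val) (LA LB : ℕ)
    (h : chkOne b r f f' LA LB = true) : g • ptL M b r LA = ptL M b r LB := by
  unfold chkOne at h
  rw [withNat_eq, withNat_eq, withNat_eq, withNat_eq, Bool.and_eq_true] at h
  obtain ⟨h1, h2⟩ := h
  unfold chkSub at h1 h2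
  rw [List.all_eq_true] at h1 h2
  ext p
  rw [Set.mem_smul_set_iff_inv_smul_mem]
  constructor
  · rintro ⟨t, ht, e⟩
    have h3 := h2 t (List.mem_range.mpr ht)
    rw [testBit_maskOf] at h3
    obtain ⟨t', ht', e'⟩ := h3
    refine ⟨t', ht', ?_⟩
    rw [e', e, ← hf', smul_inv_smul]
  · rintro ⟨t, ht, e⟩
    have h3 := h1 t (List.mem_range.mpr ht)
    rw [testBit_maskOf] at h3
    obtain ⟨t', ht', e'⟩ := h3
    refine ⟨t', ht', ?_⟩
    rw [e', e, hf]

/-- the check of the action of a letter on the sets -/
def chkSetAct (f f' : ℕ → ℕ) (SL : ℕ → ℕ) (pi : ℕ → ℕ) (m : ℕ) : Bool :=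
  (List.range m).all fun j => chkOne b r f f' (SL j) (SL (pi j))

theorem smul_ptL_of_chk (g : M.G) (f f' : ℕ → ℕ)
    (hf : ∀ p : Fin M.n, (g⁻¹ • p).val = f p.val)
    (hf' : ∀ p : Fin M.n, (g • p).val = f' p.val) (SL : ℕ → ℕ) (pi : ℕ → ℕ) (m : ℕ)
    (h : chkSetAct b r f f' SL pi m = true) (j : ℕ) (hj : j < m) :
    g • ptL M b r (SL j) = ptL M b r (SL (pi j)) := by
  unfold chkSetAct at h
  rw [List.all_eq_true] at h
  exact smul_ptL M b r g f f' hf hf' _ _ (h j (List.mem_range.mpr hj))

/-- the check of the action of a letter on the sets of a range -/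
def chkSetActR (f f' : ℕ → ℕ) (SL : ℕ → ℕ) (pi : ℕ → ℕ) (lo len : ℕ) : Bool :=
  (List.range' lo len).all fun j => chkOne b r f f' (SL j) (SL (pi j))

theorem smul_ptL_of_chkR (g : M.G) (f f' : ℕ → ℕ)
    (hf : ∀ p : Fin M.n, (g⁻¹ • p).val = f p.val)
    (hf' : ∀ p : Fin M.n, (g • p).val = f' p.val) (SL : ℕ → ℕ) (pi : ℕ → ℕ) (lo len : ℕ)
    (h : chkSetActR b r f f' SL pi lo len = true) (j : ℕ) (hlo : lo ≤ j) (hj : j < lo + len) :
    g • ptL M b r (SL j) = ptL M b r (SL (pi j)) := by
  unfold chkSetActR at h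
  rw [List.all_eq_true] at h
  exact smul_ptL M b r g f f' hf hf' _ _ (h j (by rw [List.mem_range'_1]; exact ⟨hlo, hj⟩))

/-- the action of a letter whose inverse is another letter -/
theorem letter_tables (c c' : ℕ) (hc : c < M.nl) (hc' : c' < M.nl)
    (hinv : ∀ q < M.n, M.px c' (M.px c q) = q) :
    (∀ p : Fin M.n, ((M.elt [c])⁻¹ • p).val = M.px c p.val) ∧
      (∀ p : Fin M.n, (M.elt [c] • p).val = M.px c' p.val) := by
  have h1 : ∀ p : Fin M.n, ((M.elt [c])⁻¹ • p).val = M.px c p.val := by
    intro p
    rw [M.inv_elt_smul_val [c] (by intro x hx; rw [List.mem_singleton] at hx; rw [hx]; exact hc)]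
    rfl
  have h2 : ∀ p : Fin M.n, ((M.elt [c'])⁻¹ • p).val = M.px c' p.val := by
    intro p
    rw [M.inv_elt_smul_val [c'] (by intro x hx; rw [List.mem_singleton] at hx; rw [hx]; exact hc')]
    rfl
  refine ⟨h1, ?_⟩
  have e : M.elt [c] * M.elt [c'] = 1 := by
    rw [← M.elt_append, ← M.elt_nil]
    apply M.elt_eq_of_wapp
    · intro x hx
      simp only [List.cons_append, List.nil_append, List.mem_cons, List.not_mem_nil, or_false] at hx
      rcases hx with rfl | rfl
      · exact hc
      · exact hc'
    · intro x hx; simp at hx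
    · intro q hq
      show M.px c' (M.px c q) = q
      exact hinv q hq
  intro p
  have e2 : M.elt [c] = (M.elt [c'])⁻¹ := eq_inv_of_mul_eq_one_left e
  rw [e2]
  exact h2 p

/-- the sets of distinct masks are distinct -/
theorem ptL_ne (LA LB : ℕ)
    (h : maskOf b LA r % 2 ^ M.n ≠ maskOf b LB r % 2 ^ M.n) : ptL M b r LA ≠ ptL M b r LB := by
  intro e
  rw [ptL_eq_maskSet, ptL_eq_maskSet] at e
  exact h (maskSet_injective M _ _ e)

end Cfsg.Agent.Lib.Helper1.SetAct
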