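import Mathlib
import Cfsg.Agent.Lib.Helper1.GL2Borel
import Cfsg.Agent.Lib.Helper1.SL2Torus
import Cfsg.Agent.Lib.Helper1.SLn

set_option autoImplicit false

namespace Cfsg.Agent.Lib.Helper1

open Matrix

variable {F : Type*} [Field F]

/-- upper transvection in `SL_2` -/
noncomputable abbrev t01 (t : F) : SpecialLinearGroup (Fin 2) F :=
  SpecialLinearGroup.transvection (zero_ne_one : (0 : Fin 2) ≠ 1) t

/-- lower transvection in `SL_2` -/
noncomputable abbrev t10 (t : F) : SpecialLinearGroup (Fin 2) F :=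
  SpecialLinearGroup.transvection (one_ne_zero : (1 : Fin 2) ≠ 0) t

theorem t01_val (t : F) : ((t01 t : SpecialLinearGroup (Fin 2) F) : Matrix (Fin 2) (Fin 2) F) =
    !![1, t; 0, 1] := by
  ext i j
  fin_cases i <;> fin_cases j <;> simp [SpecialLinearGroup.transvection_coe]

theorem t10_val (t : F) : ((t10 t : SpecialLinearGroup (Fin 2) F) : Matrix (Fin 2) (Fin 2) F) =
    !![1, 0; t, 1] := by
  ext i j
  fin_cases i <;> fin_cases j <;> simp [SpecialLinearGroup.transvection_coe]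

theorem toGL_t01 (t : F) : (SpecialLinearGroup.toGL (t01 t) : GL (Fin 2) F) = uT t := by
  apply Units.ext
  rw [uT_val, ← t01_val]
  rfl

/-- The upper unitriangular subgroup of `SL_2(F)`. -/
noncomputable def uSL (F : Type*) [Field F] : Subgroup (SpecialLinearGroup (Fin 2) F) :=
  (uGL F).comap SpecialLinearGroup.toGL

theorem mem_uSL_iff (g : SpecialLinearGroup (Fin 2) F) : g ∈ uSL F ↔ ∃ t : F, g = t01 t := by
  unfold uSL
  rw [Subgroup.mem_comap, mem_uGL_iff]
  constructor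
  · rintro ⟨t, ht⟩
    refine ⟨t, SpecialLinearGroup.toGL_injective ?_⟩
    rw [ht, toGL_t01]
  · rintro ⟨t, rfl⟩
    exact ⟨t, toGL_t01 t⟩

theorem t01_mem (t : F) : t01 t ∈ uSL F := (mem_uSL_iff _).2 ⟨t, rfl⟩

theorem t01_injective : Function.Injective (t01 : F → SpecialLinearGroup (Fin 2) F) := by
  intro s t h
  have := congrArg (fun A : SpecialLinearGroup (Fin 2) F => (A : Matrix (Fin 2) (Fin 2) F) 0 1) h
  simpa [t01_val] using this

theorem card_uSL : Nat.card (uSL F) = Nat.card F := by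
  symm
  apply Nat.card_congr
  refine Equiv.ofBijective (fun t => ⟨t01 t, t01_mem t⟩) ⟨?_, ?_⟩
  · intro s t h
    exact t01_injective (congrArg Subtype.val h)
  · rintro ⟨g, hg⟩
    obtain ⟨t, rfl⟩ := (mem_uSL_iff g).1 hg
    exact ⟨t, rfl⟩

/-- Conjugating an upper transvection by a matrix with zero top-left entry gives a lower one. -/
theorem conj_t01_of_zero (g : SpecialLinearGroup (Fin 2) F) (h : g 0 0 = 0) (t : F) :
    g * t01 t * g⁻¹ = t10 (-(g 1 0) ^ 2 * t) := by
  rw [mul_inv_eq_iff_eq_mul]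
  have hdet := g.2
  rw [Matrix.det_fin_two] at hdet
  have h' : (g : Matrix (Fin 2) (Fin 2) F) 0 0 = 0 := h
  rw [h', zero_mul, zero_sub] at hdet
  apply Subtype.ext
  simp only [Matrix.SpecialLinearGroup.coe_mul, t01_val, t10_val]
  ext i j
  fin_cases i <;> fin_cases j <;> simp [Matrix.mul_apply, Fin.sum_univ_two, h']
  linear_combination (-(g : Matrix (Fin 2) (Fin 2) F) 1 0 * t) * hdet

end Cfsg.Agent.Lib.Helper1

namespace Cfsg.Agent.Lib.Helper1

open Matrix

variable {F : Type*} [Field F]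

/-- If `g` has nonzero lower-left entry, `U` and `g U g⁻¹` generate `SL_2(F)`. -/
theorem uSL_sup_cj_eq_top (g : SpecialLinearGroup (Fin 2) F) (hc : g 1 0 ≠ 0) :
    uSL F ⊔ cj g (uSL F) = ⊤ := by
  apply eq_top_of_transvection_mem
  intro i j hij r
  fin_cases i
  · obtain rfl : j = 1 := by fin_cases j <;> tauto
    exact Subgroup.mem_sup_left (t01_mem r)
  · obtain rfl : j = 0 := by fin_cases j <;> tauto
    change t10 r ∈ _
    set c := g 1 0 with hcdef
    set u := t01 (-(g 0 0) / c) with hu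
    have hg'00 : (u * g) 0 0 = 0 := by
      change ((u * g : SpecialLinearGroup (Fin 2) F) : Matrix (Fin 2) (Fin 2) F) 0 0 = 0
      rw [Matrix.SpecialLinearGroup.coe_mul, hu, t01_val, Matrix.mul_apply, Fin.sum_univ_two]
      simp only [Matrix.of_apply, Matrix.cons_val', Matrix.cons_val_zero, Matrix.cons_val_one,
        Matrix.cons_val_fin_one, one_mul]
      change g 0 0 + -(g 0 0) / c * g 1 0 = 0
      rw [← hcdef]
      field_simp
      ring
    have hg'10 : (u * g) 1 0 = c := by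
      change ((u * g : SpecialLinearGroup (Fin 2) F) : Matrix (Fin 2) (Fin 2) F) 1 0 = c
      rw [Matrix.SpecialLinearGroup.coe_mul, hu, t01_val, Matrix.mul_apply, Fin.sum_univ_two]
      simp only [Matrix.of_apply, Matrix.cons_val', Matrix.cons_val_zero, Matrix.cons_val_one,
        Matrix.cons_val_fin_one, one_mul, zero_mul, zero_add]
      rfl
    have key := conj_t01_of_zero (u * g) hg'00 (-r / c ^ 2)
    rw [hg'10] at key
    have hr : -c ^ 2 * (-r / c ^ 2) = r := by
      field_simp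
    rw [hr] at key
    rw [← key]
    have : u * g * t01 (-r / c ^ 2) * (u * g)⁻¹ = u * (g * t01 (-r / c ^ 2) * g⁻¹) * u⁻¹ := by group
    rw [this]
    have hu_mem : u ∈ uSL F ⊔ cj g (uSL F) := Subgroup.mem_sup_left (t01_mem _)
    have hmid : g * t01 (-r / c ^ 2) * g⁻¹ ∈ uSL F ⊔ cj g (uSL F) :=
      Subgroup.mem_sup_right (conj_mem_cj g _ (t01_mem _))
    exact Subgroup.mul_mem _ (Subgroup.mul_mem _ hu_mem hmid) (Subgroup.inv_mem _ hu_mem)

/-- Upper triangular elements normalise `U`. -/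
theorem cj_uSL_of_lower_zero (g : SpecialLinearGroup (Fin 2) F) (h : g 1 0 = 0) :
    cj g (uSL F) = uSL F := by
  have hgl : (SpecialLinearGroup.toGL g : GL (Fin 2) F) ∈
      Subgroup.normalizer ((uGL F : Subgroup (GL (Fin 2) F)) : Set (GL (Fin 2) F)) :=
    (mem_normalizer_uGL_iff _).2 h
  have hn : g ∈ Subgroup.normalizer ((uSL F : Subgroup (SpecialLinearGroup (Fin 2) F)) :
      Set (SpecialLinearGroup (Fin 2) F)) := by
    rw [Subgroup.mem_normalizer_iff] at hgl ⊢
    intro x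
    unfold uSL
    rw [Subgroup.mem_comap, Subgroup.mem_comap, hgl (SpecialLinearGroup.toGL x)]
    simp only [map_mul, map_inv]
  exact cj_eq_of_mem_normalizer hn

end Cfsg.Agent.Lib.Helper1

namespace Cfsg.Agent.Lib.Helper1

open Matrix

variable {F : Type*} [Field F] [Fintype F] (p : ℕ) [Fact p.Prime] [CharP F p]

theorem card_uSL_eq_pow :
    Nat.card (uSL F) = p ^ (Nat.card (SpecialLinearGroup (Fin 2) F)).factorization p := by
  have hp : p.Prime := Fact.out
  obtain ⟨n, -, hq⟩ := FiniteField.card F p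
  rw [card_uSL, card_SL2, Nat.card_eq_fintype_card, hq]
  have hq1 : 1 ≤ (p ^ (n : ℕ)) ^ 2 := Nat.one_le_pow _ _ (pos_of_gt (Nat.one_le_pow _ _ hp.pos))
  have hnd : ¬ p ∣ (p ^ (n : ℕ)) ^ 2 - 1 := by
    intro h
    have h2 : p ∣ (p ^ (n : ℕ)) ^ 2 := dvd_pow (dvd_pow_self p n.ne_zero) two_ne_zero
    have h3 : p ∣ 1 := by
      have := Nat.dvd_sub h2 h
      rwa [Nat.sub_sub_self hq1] at this
    exact hp.one_lt.ne' (Nat.dvd_one.1 h3)
  have hne : (p ^ (n : ℕ)) ^ 2 - 1 ≠ 0 := by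
    intro h0
    rw [h0] at hnd
    exact hnd (dvd_zero p)
  rw [Nat.factorization_mul (pow_ne_zero _ hp.ne_zero) hne, Finsupp.add_apply,
    Nat.factorization_eq_zero_of_not_dvd hnd, add_zero, Nat.factorization_pow, Finsupp.smul_apply,
    hp.factorization_self, smul_eq_mul, mul_one]

/-- The unitriangular group as a Sylow `p`-subgroup of `SL_2(q)`. -/
noncomputable def uSLSylow : Sylow p (SpecialLinearGroup (Fin 2) F) :=
  Sylow.ofCard (uSL F) (card_uSL_eq_pow p)

theorem coe_uSLSylow : ((uSLSylow p : Sylow p (SpecialLinearGroup (Fin 2) F)) :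
    Subgroup (SpecialLinearGroup (Fin 2) F)) = uSL F :=
  Sylow.coe_ofCard _ _

theorem sylow_SL2_eq_cj (P : Sylow p (SpecialLinearGroup (Fin 2) F)) :
    ∃ g : SpecialLinearGroup (Fin 2) F,
      (P : Subgroup (SpecialLinearGroup (Fin 2) F)) = cj g (uSL F) := by
  obtain ⟨g, hg⟩ := MulAction.exists_smul_eq (SpecialLinearGroup (Fin 2) F) (uSLSylow p) P
  refine ⟨g, ?_⟩
  rw [← hg, Sylow.coe_subgroup_smul, coe_uSLSylow]
  rfl

/-- Any two distinct Sylow `p`-subgroups of `SL_2(q)` generate `SL_2(q)`. -/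
theorem sylow_SL2_sup_eq_top (P Q : Sylow p (SpecialLinearGroup (Fin 2) F)) (h : P ≠ Q) :
    (P : Subgroup (SpecialLinearGroup (Fin 2) F)) ⊔ (Q : Subgroup (SpecialLinearGroup (Fin 2) F)) = ⊤ := by
  obtain ⟨x, hx⟩ := sylow_SL2_eq_cj p P
  obtain ⟨y, hy⟩ := sylow_SL2_eq_cj p Q
  have hyx : cj y (uSL F) = cj x (cj (x⁻¹ * y) (uSL F)) := by
    rw [cj_cj]; congr 1; group
  have hc : (x⁻¹ * y) 1 0 ≠ 0 := by
    intro h0
    apply h
    apply Sylow.ext
    rw [hx, hy, hyx, cj_uSL_of_lower_zero _ h0]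
  have htop := uSL_sup_cj_eq_top (x⁻¹ * y) hc
  rw [hx, hy, hyx]
  unfold cj at htop ⊢
  rw [← Subgroup.map_sup, htop]
  exact Subgroup.map_top_of_surjective _ (MulAut.conj x).surjective

end Cfsg.Agent.Lib.Helper1
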