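import Mathlib
import Cfsg.Agent.Lib.Helper5.SLClass.PDefs
import Cfsg.Agent.Lib.Helper2.SLClass_C4c

set_option autoImplicit false

/-!
PK-PN of S2480 (helper5's `k(PSL_n(q))` cluster): the numerics of the triple sum over
`(c, y, z)`, `c ^ n = 1`.
-/

namespace Cfsg.Agent.Lib.Helper5.SLClass

open Polynomial Cfsg.Agent.Lib.Helper5.GLClass

/-- the pair sum of S2479 -/
noncomputable def pnS (F : Type*) [Field F] [Fintype F] [DecidableEq F] (m : ℕ) : ℕ :=
  ∑ yz : Fˣ × Fˣ, PL (Fintype.card F) m (Nat.lcm (orderOf yz.1) (orderOf yz.2))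

theorem pn_PL_mul (q n r l : ℕ) (hr : r ∣ n) : PL q n (r * l) = PL q (n / r) l := by
  unfold PL
  have e : (l ∣ n / r) ↔ (r * l ∣ n) := Nat.dvd_div_iff_mul_dvd hr
  by_cases h : r * l ∣ n
  · rw [if_pos h, if_pos (e.2 h), Nat.div_div_eq_div_mul]
  · rw [if_neg h, if_neg (fun h' => h (e.1 h'))]

section

variable {F : Type*} [Field F] [Fintype F] [DecidableEq F]

theorem pn_S_one : pnS F 1 ≤ Fintype.card F - 1 := by
  have key := c4c_sum_le (F := F) 1 1 0 0 (by
    intro l hl2 hl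
    have h1 : l ≤ 1 := Nat.le_of_dvd (by norm_num) hl
    omega)
  rw [c4c_TN11] at key
  unfold pnS
  omega

theorem pn_S_two : pnS F 2 + (Fintype.card F - 1) ≤
    (Fintype.card F ^ 2 - Fintype.card F) + (Fintype.card F - 1) +
      (Fintype.card F - 1) * Nat.gcd 2 (Fintype.card F - 1) ^ 2 := by
  have key := c4c_sum_le (F := F) 2 1 0 (Fintype.card F - 1) (by
    intro l hl2 hl
    have h1 : l ≤ 2 := Nat.le_of_dvd (by norm_num) hl
    have h2 : l = 2 := by omega
    subst h2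
    rw [PL, if_pos (dvd_refl 2)]
    simp [c4c_TN11])
  rw [c4c_TN22] at key
  unfold pnS
  omega

theorem pn_S_two' : pnS F 2 ≤ (Fintype.card F - 1) * (Fintype.card F + 4) := by
  have hq : 2 ≤ Fintype.card F := Fintype.one_lt_card
  have key := pn_S_two (F := F)
  have hg : Nat.gcd 2 (Fintype.card F - 1) ≤ 2 := Nat.le_of_dvd (by norm_num) (Nat.gcd_dvd_left _ _)
  have hg2 : Nat.gcd 2 (Fintype.card F - 1) ^ 2 ≤ 4 := by
    calc Nat.gcd 2 (Fintype.card F - 1) ^ 2 ≤ 2 ^ 2 := Nat.pow_le_pow_left hg 2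
      _ = 4 := by norm_num
  have h3 := Nat.mul_le_mul_left (Fintype.card F - 1) hg2
  generalize pnS F 2 = sm at key ⊢
  generalize Nat.gcd 2 (Fintype.card F - 1) ^ 2 = G at *
  generalize Fintype.card F = q at *
  obtain ⟨m, rfl⟩ : ∃ m, q = m + 1 := ⟨q - 1, by omega⟩
  simp only [Nat.add_sub_cancel] at *
  have hA : (m + 1) ^ 2 - (m + 1) = m * (m + 1) := by
    apply Nat.sub_eq_of_eq_add; ring
  rw [hA] at key
  nlinarith

/-- crude bound for the pair sum -/
theorem pn_S_crude (hq : 3 ≤ Fintype.card F) (m : ℕ) (hm : 1 ≤ m) :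
    pnS F m ≤ (Fintype.card F - 1) * Fintype.card F ^ m := by
  rcases Nat.lt_or_ge m 3 with h | h
  · interval_cases m
    · have := pn_S_one (F := F)
      have h1 : 1 ≤ Fintype.card F ^ 1 := Nat.one_le_pow _ _ (by omega)
      calc pnS F 1 ≤ (Fintype.card F - 1) * 1 := by omega
        _ ≤ _ := Nat.mul_le_mul_left _ h1
    · have := pn_S_two' (F := F)
      refine le_trans this (Nat.mul_le_mul_left _ ?_)
      nlinarith
  · have h1 := pairs_sum_le (F := F) m h
    refine le_trans h1 (Nat.mul_le_mul_left _ ?_)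
    obtain ⟨k, rfl⟩ : ∃ k, m = k + 2 := ⟨m - 2, by omega⟩
    have e1 : k + 2 - 1 = k + 1 := by omega
    have e2 : k + 2 - 2 = k := by omega
    rw [e1, e2, pow_succ, pow_succ, pow_succ]
    have h2 : Fintype.card F + 3 ≤ Fintype.card F * Fintype.card F := by nlinarith
    have h3 := Nat.mul_le_mul_left (Fintype.card F ^ k) h2
    nlinarith [h3]

/-- the triple sum in terms of the pair sums -/
theorem pn_total_le (n : ℕ) (B : ℕ)
    (hB : ∀ r, 2 ≤ r → r ∣ n → r ∣ Fintype.card F - 1 → pnS F (n / r) ≤ B) :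
    ∑ c ∈ (Finset.univ : Finset Fˣ).filter (fun c => c ^ n = 1), ∑ yz : Fˣ × Fˣ,
        PL (Fintype.card F) n (orderOf c * Nat.lcm (orderOf yz.1) (orderOf yz.2)) ≤
      pnS F n + (Nat.gcd n (Fintype.card F - 1) - 1) * B := by
  set s := (Finset.univ : Finset Fˣ).filter (fun c => c ^ n = 1) with hs
  have h1s : (1 : Fˣ) ∈ s := by
    rw [hs, Finset.mem_filter]
    exact ⟨Finset.mem_univ _, one_pow n⟩
  have hinner : ∀ c ∈ s, ∑ yz : Fˣ × Fˣ,
      PL (Fintype.card F) n (orderOf c * Nat.lcm (orderOf yz.1) (orderOf yz.2)) =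
        pnS F (n / orderOf c) := by
    intro c hc
    rw [hs, Finset.mem_filter] at hc
    have hr : orderOf c ∣ n := orderOf_dvd_of_pow_eq_one hc.2
    unfold pnS
    apply Finset.sum_congr rfl
    intro yz _
    exact pn_PL_mul _ _ _ _ hr
  rw [Finset.sum_congr rfl hinner, ← Finset.add_sum_erase s _ h1s, orderOf_one, Nat.div_one]
  apply Nat.add_le_add_left
  have hcard : (s.erase 1).card ≤ Nat.gcd n (Fintype.card F - 1) - 1 := by
    rw [Finset.card_erase_of_mem h1s]
    have := c4c_card_pow_eq_one_le (F := F) n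
    rw [← hs] at this
    omega
  have hterm : ∀ c ∈ s.erase 1, pnS F (n / orderOf c) ≤ B := by
    intro c hc
    rw [Finset.mem_erase, hs, Finset.mem_filter] at hc
    obtain ⟨hc1, -, hcn⟩ := hc
    have hr : orderOf c ∣ n := orderOf_dvd_of_pow_eq_one hcn
    have hr1 : orderOf c ≠ 1 := by
      intro h
      exact hc1 (orderOf_eq_one_iff.1 h)
    have hr0 : 0 < orderOf c := orderOf_pos c
    have hrq : orderOf c ∣ Fintype.card F - 1 := by
      rw [← Fintype.card_units]
      exact orderOf_dvd_card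
    exact hB _ (by omega) hr hrq
  calc ∑ c ∈ s.erase 1, pnS F (n / orderOf c) ≤ (s.erase 1).card • B :=
        Finset.sum_le_card_nsmul _ _ _ hterm
    _ = (s.erase 1).card * B := smul_eq_mul _ _
    _ ≤ _ := Nat.mul_le_mul_right _ hcard

theorem pn_two :
    ∑ c ∈ (Finset.univ : Finset Fˣ).filter (fun c => c ^ 2 = 1), ∑ yz : Fˣ × Fˣ,
        PL (Fintype.card F) 2 (orderOf c * Nat.lcm (orderOf yz.1) (orderOf yz.2)) ≤
      (Fintype.card F - 1) * (Fintype.card F ^ (2 - 1) + 5 * Fintype.card F ^ (2 - 2)) := by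
  have hq : 2 ≤ Fintype.card F := Fintype.one_lt_card
  have key := pn_total_le (F := F) 2 (Fintype.card F - 1) (by
    intro r hr2 hr _
    have h1 : r ≤ 2 := Nat.le_of_dvd (by norm_num) hr
    have h2 : r = 2 := by omega
    subst h2
    exact pn_S_one)
  refine le_trans key ?_
  show _ ≤ (Fintype.card F - 1) * (Fintype.card F ^ 1 + 5 * Fintype.card F ^ 0)
  rw [pow_one, pow_zero]
  have h2 := pn_S_two (F := F)
  have hg : Nat.gcd 2 (Fintype.card F - 1) ∣ 2 := Nat.gcd_dvd_left _ _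
  generalize pnS F 2 = sm at h2 ⊢
  generalize Fintype.card F = q at *
  obtain ⟨m, rfl⟩ : ∃ m, q = m + 1 := ⟨q - 1, by omega⟩
  simp only [Nat.add_sub_cancel] at *
  have hA : (m + 1) ^ 2 - (m + 1) = m * (m + 1) := by
    apply Nat.sub_eq_of_eq_add; ring
  rw [hA] at h2
  rcases (Nat.dvd_prime Nat.prime_two).mp hg with h | h
  · rw [h] at h2 ⊢
    simp only [Nat.sub_self, zero_mul, add_zero]
    nlinarith
  · rw [h] at h2 ⊢
    have e : (2 - 1) * m = m := by norm_num
    rw [e]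
    nlinarith

theorem pn_three :
    ∑ c ∈ (Finset.univ : Finset Fˣ).filter (fun c => c ^ 3 = 1), ∑ yz : Fˣ × Fˣ,
        PL (Fintype.card F) 3 (orderOf c * Nat.lcm (orderOf yz.1) (orderOf yz.2)) ≤
      (Fintype.card F - 1) * (Fintype.card F ^ (3 - 1) + 5 * Fintype.card F ^ (3 - 2)) := by
  have hq : 2 ≤ Fintype.card F := Fintype.one_lt_card
  have key := pn_total_le (F := F) 3 (Fintype.card F - 1) (by
    intro r hr2 hr _
    have h1 : r ≤ 3 := Nat.le_of_dvd (by norm_num) hr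
    have h2 : r = 3 := by
      interval_cases r
      · omega
      · rfl
    subst h2
    exact pn_S_one)
  refine le_trans key ?_
  have h2 : pnS F 3 ≤ _ := pairs_sum_le (F := F) 3 (by norm_num)
  have hg : Nat.gcd 3 (Fintype.card F - 1) ≤ 3 :=
    Nat.le_of_dvd (by norm_num) (Nat.gcd_dvd_left _ _)
  have h3 : (Nat.gcd 3 (Fintype.card F - 1) - 1) * (Fintype.card F - 1) ≤
      2 * (Fintype.card F - 1) := Nat.mul_le_mul_right _ (by omega)
  generalize pnS F 3 = sm at h2 ⊢
  generalize (Nat.gcd 3 (Fintype.card F - 1) - 1) * (Fintype.card F - 1) = ex at *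
  generalize Fintype.card F = q at *
  obtain ⟨m, rfl⟩ : ∃ m, q = m + 1 := ⟨q - 1, by omega⟩
  simp only [Nat.add_sub_cancel, Nat.reduceSub, pow_one] at *
  nlinarith

theorem pn_four :
    ∑ c ∈ (Finset.univ : Finset Fˣ).filter (fun c => c ^ 4 = 1), ∑ yz : Fˣ × Fˣ,
        PL (Fintype.card F) 4 (orderOf c * Nat.lcm (orderOf yz.1) (orderOf yz.2)) ≤
      (Fintype.card F - 1) * (Fintype.card F ^ (4 - 1) + 5 * Fintype.card F ^ (4 - 2)) := by
  have hq : 2 ≤ Fintype.card F := Fintype.one_lt_card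
  have key := pn_total_le (F := F) 4 ((Fintype.card F - 1) * (Fintype.card F + 4)) (by
    intro r hr2 hr _
    have h1 : r ≤ 4 := Nat.le_of_dvd (by norm_num) hr
    interval_cases r
    · exact pn_S_two'
    · omega
    · refine le_trans pn_S_one ?_
      calc Fintype.card F - 1 = (Fintype.card F - 1) * 1 := (mul_one _).symm
        _ ≤ _ := Nat.mul_le_mul_left _ (by omega))
  refine le_trans key ?_
  have h2 : pnS F 4 ≤ _ := pairs_sum_le (F := F) 4 (by norm_num)
  have hg4 : Nat.gcd 4 (Fintype.card F - 1) ∣ 4 := Nat.gcd_dvd_left _ _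
  have hg4' : Nat.gcd 4 (Fintype.card F - 1) ∣ Fintype.card F - 1 := Nat.gcd_dvd_right _ _
  have h4le : Nat.gcd 4 (Fintype.card F - 1) ≤ 4 := Nat.le_of_dvd (by norm_num) hg4
  generalize pnS F 4 = sm at h2 ⊢
  generalize Nat.gcd 4 (Fintype.card F - 1) = g4 at *
  generalize Fintype.card F = q at *
  obtain ⟨m, rfl⟩ : ∃ m, q = m + 1 := ⟨q - 1, by omega⟩
  simp only [Nat.add_sub_cancel, Nat.reduceSub] at *
  interval_cases g4
  · simp at hg4
  · simp only [Nat.sub_self, zero_mul, add_zero]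
    nlinarith
  · have e : (2 - 1) * (m * (m + 1 + 4)) = m * (m + 1 + 4) := by norm_num
    rw [e]
    nlinarith
  · omega
  · obtain ⟨c, rfl⟩ := hg4'
    have hc : 1 ≤ c := by omega
    have e : (4 - 1) * (4 * c * (4 * c + 1 + 4)) = 3 * (4 * c * (4 * c + 1 + 4)) := by norm_num
    rw [e]
    nlinarith

theorem pn_ge_five (k : ℕ) :
    ∑ c ∈ (Finset.univ : Finset Fˣ).filter (fun c => c ^ (k + 5) = 1), ∑ yz : Fˣ × Fˣ,
        PL (Fintype.card F) (k + 5) (orderOf c * Nat.lcm (orderOf yz.1) (orderOf yz.2)) ≤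
      (Fintype.card F - 1) *
        (Fintype.card F ^ (k + 5 - 1) + 5 * Fintype.card F ^ (k + 5 - 2)) := by
  have hq : 2 ≤ Fintype.card F := Fintype.one_lt_card
  have key := pn_total_le (F := F) (k + 5)
    ((Fintype.card F - 1) * Fintype.card F ^ ((k + 5) / 2)) (by
    intro r hr2 hr hrq
    have hq3 : 3 ≤ Fintype.card F := by
      have := Nat.le_of_dvd (by omega) hrq
      omega
    have h1 : r ≤ k + 5 := Nat.le_of_dvd (by omega) hr
    have h2 : 1 ≤ (k + 5) / r := Nat.div_pos h1 (by omega)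
    have h3 : (k + 5) / r ≤ (k + 5) / 2 := Nat.div_le_div_left hr2 (by norm_num)
    refine le_trans (pn_S_crude hq3 _ h2) (Nat.mul_le_mul_left _ ?_)
    exact Nat.pow_le_pow_right (by omega) h3)
  refine le_trans key ?_
  have h2 : pnS F (k + 5) ≤ _ := pairs_sum_le (F := F) (k + 5) (by omega)
  have hg : Nat.gcd (k + 5) (Fintype.card F - 1) ≤ Fintype.card F - 1 :=
    Nat.gcd_le_right _ (by omega)
  have hP : Fintype.card F ^ ((k + 5) / 2) * Fintype.card F ≤ Fintype.card F ^ (k + 3) := by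
    rw [← pow_succ]
    exact Nat.pow_le_pow_right (by omega) (by omega)
  have e1 : k + 5 - 1 = k + 4 := by omega
  have e2 : k + 5 - 2 = k + 3 := by omega
  rw [e1, e2] at h2 ⊢
  have h3 : (Nat.gcd (k + 5) (Fintype.card F - 1) - 1) *
      ((Fintype.card F - 1) * Fintype.card F ^ ((k + 5) / 2)) ≤
      (Fintype.card F - 1) * Fintype.card F ^ (k + 3) := by
    calc (Nat.gcd (k + 5) (Fintype.card F - 1) - 1) *
        ((Fintype.card F - 1) * Fintype.card F ^ ((k + 5) / 2))
        ≤ Fintype.card F * ((Fintype.card F - 1) * Fintype.card F ^ ((k + 5) / 2)) :=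
          Nat.mul_le_mul_right _ (by omega)
      _ = (Fintype.card F - 1) * (Fintype.card F ^ ((k + 5) / 2) * Fintype.card F) := by ring
      _ ≤ _ := Nat.mul_le_mul_left _ hP
  generalize pnS F (k + 5) = sm at h2 ⊢
  generalize (Nat.gcd (k + 5) (Fintype.card F - 1) - 1) *
      ((Fintype.card F - 1) * Fintype.card F ^ ((k + 5) / 2)) = ex at *
  nlinarith

end

open scoped Classical in
theorem triples_sum_le {F : Type*} [Field F] [Fintype F] [DecidableEq F] (n : ℕ) (hn : 2 ≤ n) :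
    ∑ c ∈ (Finset.univ : Finset Fˣ).filter (fun c => c ^ n = 1), ∑ yz : Fˣ × Fˣ,
        PL (Fintype.card F) n (orderOf c * Nat.lcm (orderOf yz.1) (orderOf yz.2)) ≤
      (Fintype.card F - 1) * (Fintype.card F ^ (n - 1) + 5 * Fintype.card F ^ (n - 2)) := by
  rcases Nat.lt_or_ge n 5 with h | h
  · interval_cases n
    · exact pn_two
    · exact pn_three
    · exact pn_four
  · obtain ⟨k, rfl⟩ : ∃ k, n = k + 5 := ⟨n - 5, by omega⟩
    exact pn_ge_five k

end Cfsg.Agent.Lib.Helper5.SLClass
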