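import Mathlib

set_option autoImplicit false

/-!
PK-PZ of S2480 (helper5's `k(PSL_n(q))` cluster): the centre of `SL_n(F)` consists of the scalar
matrices `c • 1` with `c ^ n = 1`, and has `gcd(n, q - 1)` elements over a field with `q` elements.
-/

namespace Cfsg.Agent.Lib.Helper5.SLClass

theorem sl_center_scalar {F : Type*} [Field F] (n : ℕ)
    (z : Matrix.SpecialLinearGroup (Fin n) F)
    (hz : z ∈ Subgroup.center (Matrix.SpecialLinearGroup (Fin n) F)) (hn : 1 ≤ n) :
    ∃ c : Fˣ, c ^ n = 1 ∧ z.val = (c : F) • (1 : Matrix (Fin n) (Fin n) F) := by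
  obtain ⟨r, hr, hrz⟩ := Matrix.SpecialLinearGroup.mem_center_iff.1 hz
  rw [Fintype.card_fin] at hr
  refine ⟨Units.ofPowEqOne r n hr (by omega), Units.pow_ofPowEqOne hr (by omega), ?_⟩
  rw [← hrz, Units.val_ofPowEqOne, Matrix.smul_one_eq_diagonal]
  rfl

theorem sl_center_card {F : Type*} [Field F] [Fintype F] (n : ℕ) (hn : 1 ≤ n) :
    Nat.card (Subgroup.center (Matrix.SpecialLinearGroup (Fin n) F)) =
      Nat.gcd n (Fintype.card F - 1) := by
  classical
  have e := Matrix.SpecialLinearGroup.center_equiv_rootsOfUnity' (R := F) (⟨0, by omega⟩ : Fin n)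
  rw [Nat.card_congr e.toEquiv, Fintype.card_fin, rootsOfUnity_eq_ker,
    IsCyclic.card_powMonoidHom_ker, Nat.card_eq_fintype_card, Fintype.card_units, Nat.gcd_comm]

end Cfsg.Agent.Lib.Helper5.SLClass
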