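import Mathlib
import Cfsg.Agent.Lib.Helper1.SRG100c

/-!
# Uniqueness of the strongly regular graph with parameters `(100, 22, 0, 6)`
-/

set_option autoImplicit false
set_option linter.unusedSectionVars false

namespace Cfsg.Agent.Lib.Helper1.SRG100

open Cfsg Finset Cfsg.Agent.Lib.Helper1.HSG
open scoped Classical

theorem main {V W : Type*} [Fintype V] [Fintype W] {G : SimpleGraph V} {H : SimpleGraph W}
    [DecidableRel G.Adj] [DecidableRel H.Adj] (hG : G.IsSRGWith 100 22 0 6)
    (hH : H.IsSRGWith 100 22 0 6) : Nonempty (G ≃g H) := by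
  have fG := facts_of_srg G hG
  have fH := facts_of_srg H hH
  have hV : Nonempty V := by
    rw [← Fintype.card_pos_iff, hG.card]
    norm_num
  have hW : Nonempty W := by
    rw [← Fintype.card_pos_iff, hH.card]
    norm_num
  obtain ⟨v₀⟩ := hV
  obtain ⟨w₀⟩ := hW
  have e1 := graphIso G fG v₀
  have e2 := graphIso H fH w₀
  have hS := Cfsg.Agent.S0410.result (α := ↥(N G v₀)) (β := ↥(N H w₀))
    (by rw [Fintype.card_coe, fG.deg]) (by rw [Fintype.card_coe, fH.deg])
    (blocks_steiner G fG v₀) (blocks_steiner H fH w₀)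
  obtain ⟨e, he⟩ := hS
  exact ⟨e1.trans ((isoOf _ _ e he).trans e2.symm)⟩

end Cfsg.Agent.Lib.Helper1.SRG100
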