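import Mathlib

/-!
# Strongly regular graphs with parameters `(77, 16, 0, 4)`: the positive semidefinite form

For such a graph the matrix `22 I - 11 A + 2 J` is `88` times the projection onto the eigenspace of
the eigenvalue `-6`; we use that it is positive semidefinite, in a form about integer combinations
of indicator functions of sets of vertices.
-/

set_option autoImplicit false
set_option linter.unusedSectionVars false
set_option linter.unusedSimpArgs false

namespace Cfsg.Agent.Lib.Helper1.SRG77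

open Finset
open scoped Classical

noncomputable section

variable {V : Type*} [Fintype V] (G : SimpleGraph V)

/-- the neighbours -/
def Nb (v : V) : Finset V := Finset.univ.filter (fun w => G.Adj v w)

theorem mem_Nb (v w : V) : w ∈ Nb G v ↔ G.Adj v w := by simp [Nb]

/-- the facts used, with classical decidability -/
structure Facts : Prop where
  card : Fintype.card V = 77
  deg : ∀ v, (Nb G v).card = 16
  adj : ∀ v w, G.Adj v w → Nb G v ∩ Nb G w = ∅
  nonadj : ∀ v w, v ≠ w → ¬ G.Adj v w → (Nb G v ∩ Nb G w).card = 4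

section

variable [DecidableRel G.Adj] (hG : G.IsSRGWith 77 16 0 4)
include hG

theorem card_Nb (v : V) : (Nb G v).card = 16 := by
  have h := hG.regular v
  rw [← h, SimpleGraph.degree]
  congr 1
  ext w
  simp [mem_Nb]

theorem cn_adj {v w : V} (h : G.Adj v w) : Nb G v ∩ Nb G w = ∅ := by
  have h0 := hG.of_adj v w h
  rw [Fintype.card_eq_zero_iff] at h0
  rw [Finset.eq_empty_iff_forall_notMem]
  intro x hx
  rw [Finset.mem_inter, mem_Nb, mem_Nb] at hx
  exact h0.false ⟨x, hx⟩

theorem cn_nonadj {v w : V} (hne : v ≠ w) (h : ¬ G.Adj v w) : (Nb G v ∩ Nb G w).card = 4 := by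
  have h0 := hG.of_not_adj hne h
  rw [← h0]
  symm
  apply Fintype.card_of_subtype
  intro x
  rw [Finset.mem_inter, mem_Nb, mem_Nb]
  rfl

theorem facts_of_srg : Facts G :=
  ⟨hG.card, card_Nb G hG, fun _ _ h => cn_adj G hG h, fun _ _ hne h => cn_nonadj G hG hne h⟩

end

/-- the indicator of adjacency -/
def ad (u v : V) : ℤ := if G.Adj u v then 1 else 0

/-- the indicator of equality -/
def dl (u v : V) : ℤ := if u = v then 1 else 0

/-- the entries of `22 I - 11 A + 2 J` -/
def m (u v : V) : ℤ := 2 + 22 * dl u v - 11 * ad G u v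

theorem ad_symm (u v : V) : ad G u v = ad G v u := by
  unfold ad
  by_cases h : G.Adj u v
  · rw [if_pos h, if_pos h.symm]
  · rw [if_neg h, if_neg (fun h' => h h'.symm)]

theorem dl_symm (u v : V) : dl u v = dl v u := by
  unfold dl
  by_cases h : u = v
  · rw [if_pos h, if_pos h.symm]
  · rw [if_neg h, if_neg (fun h' => h h'.symm)]

theorem m_symm (u v : V) : m G u v = m G v u := by
  unfold m
  rw [ad_symm, dl_symm]

theorem sum_dl_left (v : V) : ∑ w, dl w v = 1 := by
  unfold dl
  rw [Finset.sum_ite_eq' Finset.univ v (fun _ => (1 : ℤ))]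
  simp

theorem sum_dl_right (u : V) : ∑ w, dl u w = 1 := by
  unfold dl
  rw [Finset.sum_ite_eq Finset.univ u (fun _ => (1 : ℤ))]
  simp

theorem sum_dl_mul_left (u : V) (f : V → ℤ) : ∑ w, dl u w * f w = f u := by
  unfold dl
  simp [Finset.sum_ite_eq]

theorem sum_mul_dl_right (v : V) (f : V → ℤ) : ∑ w, f w * dl w v = f v := by
  unfold dl
  simp [Finset.sum_ite_eq']

variable (hG : Facts G)
include hG

theorem no_triangle {a b c : V} (hab : G.Adj a b) (hac : G.Adj a c) : ¬ G.Adj b c := by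
  intro hbc
  have h := hG.adj _ _ hbc
  have : a ∈ Nb G b ∩ Nb G c := by
    rw [Finset.mem_inter, mem_Nb, mem_Nb]
    exact ⟨hab.symm, hac.symm⟩
  rw [h] at this
  simp at this

theorem sum_ad_right (u : V) : ∑ w, ad G u w = 16 := by
  unfold ad
  rw [Finset.sum_boole]
  have := hG.deg u
  unfold Nb at this
  rw [this]
  rfl

theorem sum_ad_left (v : V) : ∑ w, ad G w v = 16 := by
  simp_rw [ad_symm G _ v]
  exact sum_ad_right G hG v

theorem sum_ad_ad (u v : V) : ∑ w, ad G u w * ad G w v = ((Nb G u ∩ Nb G v).card : ℤ) := by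
  unfold ad
  have : ∀ w, (if G.Adj u w then (1 : ℤ) else 0) * (if G.Adj w v then 1 else 0) =
      if (G.Adj u w ∧ G.Adj v w) then 1 else 0 := by
    intro w
    by_cases h1 : G.Adj u w <;> by_cases h2 : G.Adj w v
    · rw [if_pos h1, if_pos h2, if_pos ⟨h1, h2.symm⟩]; rfl
    · rw [if_pos h1, if_neg h2, if_neg (fun h => h2 h.2.symm)]; rfl
    · rw [if_neg h1, if_pos h2, if_neg (fun h => h1 h.1)]; rfl
    · rw [if_neg h1, if_neg h2, if_neg (fun h => h1 h.1)]; rfl
  simp_rw [this]
  rw [Finset.sum_boole]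
  congr 2
  ext w
  simp [mem_Nb]

theorem m_sq (u v : V) : ∑ w, m G u w * m G w v = 88 * m G u v := by
  have hexp : ∀ w, m G u w * m G w v = 4 + 44 * dl w v - 22 * ad G w v + 44 * dl u w
      + 484 * (dl u w * dl w v) - 242 * (dl u w * ad G w v) - 22 * ad G u w
      - 242 * (ad G u w * dl w v) + 121 * (ad G u w * ad G w v) := by
    intro w
    unfold m
    ring
  simp_rw [hexp]
  simp only [Finset.sum_add_distrib, Finset.sum_sub_distrib, ← Finset.mul_sum]
  rw [sum_dl_left, sum_dl_right, sum_ad_left G hG, sum_ad_right G hG, sum_dl_mul_left,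
    sum_dl_mul_left, sum_mul_dl_right, sum_ad_ad G hG]
  simp only [Finset.sum_const, Finset.card_univ, hG.card]
  unfold m
  by_cases huv : u = v
  · subst huv
    have h1 : ad G u u = 0 := by
      unfold ad
      rw [if_neg (G.loopless.irrefl u)]
    have h2 : dl u u = 1 := by
      unfold dl
      rw [if_pos rfl]
    rw [h1, h2, Finset.inter_self, hG.deg]
    norm_num
  · have h2 : dl u v = 0 := by
      unfold dl
      rw [if_neg huv]
    by_cases ha : G.Adj u v
    · have h1 : ad G u v = 1 := by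
        unfold ad
        rw [if_pos ha]
      rw [h1, h2, hG.adj u v ha]
      norm_num
    · have h1 : ad G u v = 0 := by
        unfold ad
        rw [if_neg ha]
      rw [h1, h2, hG.nonadj u v huv ha]
      norm_num

omit hG in
/-- the sum of the entries over a pair of sets -/
def S (P R : Finset V) : ℤ := ∑ u ∈ P, ∑ v ∈ R, m G u v

omit hG in
/-- the number of adjacent pairs between two sets -/
def E (P R : Finset V) : ℤ := ∑ u ∈ P, ∑ v ∈ R, ad G u v

omit hG in
theorem S_eq (P R : Finset V) :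
    S G P R = 2 * P.card * R.card + 22 * (P ∩ R).card - 11 * E G P R := by
  unfold S E m
  simp only [Finset.sum_add_distrib, Finset.sum_sub_distrib, ← Finset.mul_sum, Finset.sum_const,
    nsmul_eq_mul]
  have h1 : ∑ u ∈ P, ∑ v ∈ R, dl u v = ((P ∩ R).card : ℤ) := by
    unfold dl
    simp only [Finset.sum_ite_eq, Finset.sum_boole]
    congr 2
  rw [h1]
  ring

omit hG in
theorem E_symm (P R : Finset V) : E G P R = E G R P := by
  unfold E
  rw [Finset.sum_comm]
  simp_rw [ad_symm G]

omit hG in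
theorem E_nonneg (P R : Finset V) : 0 ≤ E G P R := by
  unfold E ad
  apply Finset.sum_nonneg
  intro u _
  apply Finset.sum_nonneg
  intro v _
  split_ifs <;> norm_num

omit hG in
theorem E_all (P R : Finset V) (h : ∀ u ∈ P, ∀ v ∈ R, G.Adj u v) :
    E G P R = P.card * R.card := by
  unfold E ad
  rw [Finset.sum_congr rfl (fun u hu => Finset.sum_congr rfl (fun v hv => if_pos (h u hu v hv)))]
  simp

omit hG in
theorem E_none (P R : Finset V) (h : ∀ u ∈ P, ∀ v ∈ R, ¬ G.Adj u v) :
    E G P R = 0 := by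
  unfold E ad
  rw [Finset.sum_congr rfl (fun u hu => Finset.sum_congr rfl (fun v hv => if_neg (h u hu v hv)))]
  simp

omit hG in
theorem E_eq_zero_iff (P R : Finset V) : E G P R = 0 ↔ ∀ u ∈ P, ∀ v ∈ R, ¬ G.Adj u v := by
  constructor
  · intro h u hu v hv hadj
    unfold E at h
    have h1 := (Finset.sum_eq_zero_iff_of_nonneg (fun u _ => Finset.sum_nonneg (fun v _ => by
      unfold ad; split_ifs <;> norm_num))).mp h u hu
    have h2 := (Finset.sum_eq_zero_iff_of_nonneg (fun v _ => by
      unfold ad; split_ifs <;> norm_num)).mp h1 v hv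
    unfold ad at h2
    rw [if_pos hadj] at h2
    exact one_ne_zero h2
  · exact E_none G P R

omit hG in
theorem E_singleton_right (P : Finset V) (w : V) : E G P {w} = ((P ∩ Nb G w).card : ℤ) := by
  unfold E
  simp only [Finset.sum_singleton]
  unfold ad
  rw [Finset.sum_boole]
  congr 2
  ext x
  simp only [Finset.mem_filter, Finset.mem_inter, mem_Nb]
  constructor
  · rintro ⟨h1, h2⟩
    exact ⟨h1, h2.symm⟩
  · rintro ⟨h1, h2⟩
    exact ⟨h1, h2.symm⟩

omit hG in
theorem S_singleton_right (P : Finset V) (w : V) :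
    S G P {w} = 2 * P.card + 22 * (if w ∈ P then 1 else 0) - 11 * (P ∩ Nb G w).card := by
  rw [S_eq, E_singleton_right]
  have : ((P ∩ {w}).card : ℤ) = if w ∈ P then 1 else 0 := by
    by_cases h : w ∈ P
    · rw [if_pos h, Finset.inter_singleton_of_mem h]
      simp
    · rw [if_neg h, Finset.inter_singleton_of_notMem h]
      simp
  rw [this]
  simp

/-- the form is `88` times a sum of squares -/
theorem psd_aux {k : ℕ} (P : Fin k → Finset V) (a : Fin k → ℤ) :
    ∑ w, (∑ i, a i * S G (P i) {w}) ^ 2 = 88 * ∑ i, ∑ j, a i * a j * S G (P i) (P j) := by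
  have h1 : ∀ w, (∑ i, a i * S G (P i) {w}) ^ 2 =
      ∑ i, ∑ j, a i * a j * ∑ u ∈ P i, ∑ v ∈ P j, m G u w * m G w v := by
    intro w
    rw [sq, Finset.sum_mul_sum]
    apply Finset.sum_congr rfl
    intro i _
    apply Finset.sum_congr rfl
    intro j _
    unfold S
    simp only [Finset.sum_singleton]
    rw [mul_mul_mul_comm, Finset.sum_mul_sum]
    congr 1
    apply Finset.sum_congr rfl
    intro u _
    apply Finset.sum_congr rfl
    intro v _
    rw [m_symm G v w]
  simp_rw [h1]
  rw [Finset.sum_comm]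
  rw [Finset.mul_sum]
  apply Finset.sum_congr rfl
  intro i _
  rw [Finset.sum_comm, Finset.mul_sum]
  apply Finset.sum_congr rfl
  intro j _
  rw [← Finset.mul_sum]
  have : ∑ w, ∑ u ∈ P i, ∑ v ∈ P j, m G u w * m G w v = 88 * S G (P i) (P j) := by
    rw [Finset.sum_comm]
    unfold S
    rw [Finset.mul_sum]
    apply Finset.sum_congr rfl
    intro u _
    rw [Finset.sum_comm, Finset.mul_sum]
    apply Finset.sum_congr rfl
    intro v _
    exact m_sq G hG u v
  rw [this]
  ring

theorem psd {k : ℕ} (P : Fin k → Finset V) (a : Fin k → ℤ) :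
    0 ≤ ∑ i, ∑ j, a i * a j * S G (P i) (P j) := by
  have h := psd_aux G hG P a
  have h2 : 0 ≤ ∑ w, (∑ i, a i * S G (P i) {w}) ^ 2 :=
    Finset.sum_nonneg (fun w _ => sq_nonneg _)
  rw [h] at h2
  linarith

theorem psd_eq {k : ℕ} (P : Fin k → Finset V) (a : Fin k → ℤ)
    (h0 : ∑ i, ∑ j, a i * a j * S G (P i) (P j) = 0) (w : V) :
    ∑ i, a i * S G (P i) {w} = 0 := by
  have h := psd_aux G hG P a
  rw [h0, mul_zero] at h
  have := (Finset.sum_eq_zero_iff_of_nonneg (fun w _ => sq_nonneg _)).mp h w (Finset.mem_univ w)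
  exact pow_eq_zero_iff (two_ne_zero) |>.mp this

omit hG in
theorem S_symm (P R : Finset V) : S G P R = S G R P := by
  rw [S_eq, S_eq, E_symm, Finset.inter_comm]
  ring

theorem psd3 (P0 P1 P2 : Finset V) (a0 a1 a2 : ℤ) :
    0 ≤ a0 * a0 * S G P0 P0 + a1 * a1 * S G P1 P1 + a2 * a2 * S G P2 P2
      + 2 * (a0 * a1 * S G P0 P1 + a0 * a2 * S G P0 P2 + a1 * a2 * S G P1 P2) := by
  have h := psd G hG ![P0, P1, P2] ![a0, a1, a2]
  simp only [Fin.sum_univ_three, Matrix.cons_val_zero, Matrix.cons_val_one, Matrix.cons_val_two,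
    Matrix.head_cons, Matrix.tail_cons, Matrix.cons_val] at h
  rw [S_symm G P1 P0, S_symm G P2 P0, S_symm G P2 P1] at h
  linarith

theorem psd3_eq (P0 P1 P2 : Finset V) (a0 a1 a2 : ℤ)
    (h0 : a0 * a0 * S G P0 P0 + a1 * a1 * S G P1 P1 + a2 * a2 * S G P2 P2
      + 2 * (a0 * a1 * S G P0 P1 + a0 * a2 * S G P0 P2 + a1 * a2 * S G P1 P2) = 0) (w : V) :
    a0 * S G P0 {w} + a1 * S G P1 {w} + a2 * S G P2 {w} = 0 := by
  have h := psd_eq G hG ![P0, P1, P2] ![a0, a1, a2] ?_ w
  · simpa only [Fin.sum_univ_three, Matrix.cons_val_zero, Matrix.cons_val_one, Matrix.cons_val_two,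
      Matrix.head_cons, Matrix.tail_cons, Matrix.cons_val] using h
  · simp only [Fin.sum_univ_three, Matrix.cons_val_zero, Matrix.cons_val_one, Matrix.cons_val_two,
      Matrix.head_cons, Matrix.tail_cons, Matrix.cons_val]
    rw [S_symm G P1 P0, S_symm G P2 P0, S_symm G P2 P1]
    linarith

theorem psd4 (P0 P1 P2 P3 : Finset V) (a0 a1 a2 a3 : ℤ) :
    0 ≤ a0 * a0 * S G P0 P0 + a1 * a1 * S G P1 P1 + a2 * a2 * S G P2 P2 + a3 * a3 * S G P3 P3
      + 2 * (a0 * a1 * S G P0 P1 + a0 * a2 * S G P0 P2 + a0 * a3 * S G P0 P3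
        + a1 * a2 * S G P1 P2 + a1 * a3 * S G P1 P3 + a2 * a3 * S G P2 P3) := by
  have h := psd G hG ![P0, P1, P2, P3] ![a0, a1, a2, a3]
  simp only [Fin.sum_univ_four, Matrix.cons_val_zero, Matrix.cons_val_one, Matrix.cons_val_two,
    Matrix.head_cons, Matrix.tail_cons, Matrix.cons_val] at h
  rw [S_symm G P1 P0, S_symm G P2 P0, S_symm G P2 P1, S_symm G P3 P0, S_symm G P3 P1,
    S_symm G P3 P2] at h
  linarith

end

end Cfsg.Agent.Lib.Helper1.SRG77
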