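import Cfsg.Agent.Lib.Helper1.SRG77a

/-!
# Strongly regular graphs with parameters `(77, 16, 0, 4)`: the local structure at a vertex

The non-neighbours `x` of a vertex `v₀` give sets `Q x` of four neighbours of `v₀`; two of them
meet in at most two points, and each is disjoint from exactly fifteen others: its twelve neighbours
and three more, its mates.
-/

set_option autoImplicit false
set_option linter.unusedSectionVars false
set_option linter.unusedSimpArgs false

namespace Cfsg.Agent.Lib.Helper1.SRG77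

open Finset
open scoped Classical

noncomputable section

variable {V : Type*} [Fintype V] (G : SimpleGraph V) (hG : Facts G) (v₀ : V)

/-- the non-neighbours of the base vertex -/
def X : Finset V := Finset.univ.filter (fun x => x ≠ v₀ ∧ ¬ G.Adj v₀ x)

theorem mem_X (x : V) : x ∈ X G v₀ ↔ x ≠ v₀ ∧ ¬ G.Adj v₀ x := by simp [X]

/-- the neighbours of the base vertex adjacent to `x` -/
def Q (x : V) : Finset V := Nb G v₀ ∩ Nb G x

theorem mem_Q (x a : V) : a ∈ Q G v₀ x ↔ G.Adj v₀ a ∧ G.Adj x a := by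
  simp [Q, mem_Nb]

include hG

theorem card_X : (X G v₀).card = 60 := by
  have h1 : X G v₀ = Finset.univ \ insert v₀ (Nb G v₀) := by
    ext b
    simp only [mem_X, Finset.mem_sdiff, Finset.mem_univ, true_and, Finset.mem_insert, mem_Nb,
      not_or]
  rw [h1, Finset.card_sdiff_of_subset (Finset.subset_univ _), Finset.card_univ, hG.card,
    Finset.card_insert_of_notMem, hG.deg _]
  rw [mem_Nb]
  exact G.loopless.irrefl v₀

theorem card_Q {x : V} (hx : x ∈ X G v₀) : (Q G v₀ x).card = 4 := by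
  rw [mem_X] at hx
  exact hG.nonadj v₀ x hx.1.symm hx.2

theorem N_coclique {a b : V} (ha : G.Adj v₀ a) (hb : G.Adj v₀ b) : ¬ G.Adj a b :=
  no_triangle G hG ha hb

theorem Q_disj_of_adj {x y : V} (h : G.Adj x y) : Disjoint (Q G v₀ x) (Q G v₀ y) := by
  rw [Finset.disjoint_left]
  intro a hax hay
  rw [mem_Q] at hax hay
  exact no_triangle G hG hax.2.symm hay.2.symm h

theorem Nb_point {a : V} (ha : G.Adj v₀ a) :
    Nb G a = insert v₀ ((X G v₀).filter (fun x => a ∈ Q G v₀ x)) := by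
  ext w
  simp only [mem_Nb, Finset.mem_insert, Finset.mem_filter, mem_X, mem_Q]
  constructor
  · intro h
    by_cases hw : w = v₀
    · exact Or.inl hw
    · refine Or.inr ⟨⟨hw, ?_⟩, ha, h.symm⟩
      intro h2
      exact no_triangle G hG ha h2 h
  · rintro (h | h)
    · rw [h]
      exact ha.symm
    · exact h.2.2.symm

theorem cover1 {a : V} (ha : G.Adj v₀ a) :
    ((X G v₀).filter (fun x => a ∈ Q G v₀ x)).card = 15 := by
  have h := hG.deg a
  rw [Nb_point G hG v₀ ha, Finset.card_insert_of_notMem] at h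
  · omega
  · simp [mem_X]

theorem cover2 {a b : V} (ha : G.Adj v₀ a) (hb : G.Adj v₀ b) (hab : a ≠ b) :
    ((X G v₀).filter (fun x => a ∈ Q G v₀ x ∧ b ∈ Q G v₀ x)).card = 3 := by
  have h := hG.nonadj a b hab (N_coclique G hG v₀ ha hb)
  have h2 : Nb G a ∩ Nb G b =
      insert v₀ ((X G v₀).filter (fun x => a ∈ Q G v₀ x ∧ b ∈ Q G v₀ x)) := by
    rw [Nb_point G hG v₀ ha, Nb_point G hG v₀ hb]
    ext w
    simp only [Finset.mem_inter, Finset.mem_insert, Finset.mem_filter]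
    tauto
  rw [h2, Finset.card_insert_of_notMem] at h
  · omega
  · simp [mem_X]

omit hG in
theorem inter_card_eq_sum (y z : V) :
    ((Q G v₀ y ∩ Q G v₀ z).card : ℤ) = ∑ a ∈ Q G v₀ y, if a ∈ Q G v₀ z then 1 else 0 := by
  rw [Finset.sum_boole]
  congr 2

theorem sum1 {y : V} (hy : y ∈ X G v₀) :
    ∑ z ∈ X G v₀, ((Q G v₀ y ∩ Q G v₀ z).card : ℤ) = 60 := by
  simp_rw [inter_card_eq_sum]
  rw [Finset.sum_comm]
  simp_rw [Finset.sum_boole]
  have : ∀ a ∈ Q G v₀ y, (((X G v₀).filter (fun x => a ∈ Q G v₀ x)).card : ℤ) = 15 := by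
    intro a ha
    rw [mem_Q] at ha
    rw [cover1 G hG v₀ ha.1]
    rfl
  rw [Finset.sum_congr rfl this, Finset.sum_const, card_Q G hG v₀ hy]
  rfl

omit hG in
theorem inter_sq_eq_sum (y z : V) :
    ((Q G v₀ y ∩ Q G v₀ z).card : ℤ) ^ 2 =
      ∑ a ∈ Q G v₀ y, ∑ b ∈ Q G v₀ y, if (a ∈ Q G v₀ z ∧ b ∈ Q G v₀ z) then 1 else 0 := by
  rw [sq, inter_card_eq_sum, Finset.sum_mul_sum]
  apply Finset.sum_congr rfl
  intro a _
  apply Finset.sum_congr rfl
  intro b _
  by_cases h1 : a ∈ Q G v₀ z <;> by_cases h2 : b ∈ Q G v₀ z <;> simp [h1, h2]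

theorem sum2 {y : V} (hy : y ∈ X G v₀) :
    ∑ z ∈ X G v₀, ((Q G v₀ y ∩ Q G v₀ z).card : ℤ) ^ 2 = 96 := by
  simp_rw [inter_sq_eq_sum]
  rw [Finset.sum_comm]
  have hrow : ∀ a ∈ Q G v₀ y, ∑ z ∈ X G v₀, ∑ b ∈ Q G v₀ y,
      (if (a ∈ Q G v₀ z ∧ b ∈ Q G v₀ z) then (1 : ℤ) else 0) = 24 := by
    intro a ha
    rw [Finset.sum_comm]
    simp_rw [Finset.sum_boole]
    rw [← Finset.add_sum_erase _ _ ha]
    have ha' := (mem_Q G v₀ y a).mp ha
    have h1 : (((X G v₀).filter (fun z => a ∈ Q G v₀ z ∧ a ∈ Q G v₀ z)).card : ℤ) = 15 := by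
      simp only [and_self]
      rw [cover1 G hG v₀ ha'.1]
      rfl
    have h2 : ∀ b ∈ (Q G v₀ y).erase a,
        (((X G v₀).filter (fun z => a ∈ Q G v₀ z ∧ b ∈ Q G v₀ z)).card : ℤ) = 3 := by
      intro b hb
      have hb' := (mem_Q G v₀ y b).mp (Finset.mem_of_mem_erase hb)
      rw [cover2 G hG v₀ ha'.1 hb'.1 (Finset.ne_of_mem_erase hb).symm]
      rfl
    rw [h1, Finset.sum_congr rfl h2, Finset.sum_const, Finset.card_erase_of_mem ha,
      card_Q G hG v₀ hy]
    rfl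
  rw [Finset.sum_congr rfl hrow, Finset.sum_const, card_Q G hG v₀ hy]
  rfl

end

end Cfsg.Agent.Lib.Helper1.SRG77
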