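import Cfsg.Agent.Lib.Helper1.SRG77b

/-!
# Strongly regular graphs with parameters `(77, 16, 0, 4)`: two quads meet in at most two points
-/

set_option autoImplicit false
set_option linter.unusedSectionVars false
set_option linter.unusedSimpArgs false

namespace Cfsg.Agent.Lib.Helper1.SRG77

open Finset
open scoped Classical

noncomputable section

variable {V : Type*} [Fintype V] (G : SimpleGraph V) (hG : Facts G) (v₀ : V)

include hG

theorem not_adj_of_common {y z a : V} (hy : G.Adj y a) (hz : G.Adj z a) : ¬ G.Adj y z :=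
  fun h => no_triangle G hG hy.symm hz.symm h

theorem inter_le_two {y z : V} (hy : y ∈ X G v₀) (hz : z ∈ X G v₀) (hne : y ≠ z) :
    (Q G v₀ y ∩ Q G v₀ z).card ≤ 2 := by
  by_contra hcon
  push Not at hcon
  set T := Q G v₀ y ∩ Q G v₀ z with hT
  set D := (Q G v₀ y ∪ Q G v₀ z) \ T with hD
  have hy' := (mem_X G v₀ y).mp hy
  have hz' := (mem_X G v₀ z).mp hz
  have hTle : T.card ≤ 4 := by
    rw [← card_Q G hG v₀ hy]
    exact Finset.card_le_card Finset.inter_subset_left
  have hunion : (Q G v₀ y ∪ Q G v₀ z).card + T.card = 8 := by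
    rw [hT, Finset.card_union_add_card_inter, card_Q G hG v₀ hy, card_Q G hG v₀ hz]
  have hDcard : D.card + 2 * T.card = 8 := by
    have : D.card = (Q G v₀ y ∪ Q G v₀ z).card - T.card := by
      rw [hD, Finset.card_sdiff_of_subset]
      exact Finset.inter_subset_left.trans Finset.subset_union_left
    omega
  -- membership facts
  have hTmem : ∀ a ∈ T, G.Adj v₀ a ∧ G.Adj y a ∧ G.Adj z a := by
    intro a ha
    rw [hT, Finset.mem_inter, mem_Q, mem_Q] at ha
    exact ⟨ha.1.1, ha.1.2, ha.2.2⟩
  have hDmem : ∀ a ∈ D, G.Adj v₀ a ∧ ((G.Adj y a ∧ ¬ G.Adj z a) ∨ (¬ G.Adj y a ∧ G.Adj z a)) := by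
    intro a ha
    rw [hD, Finset.mem_sdiff, Finset.mem_union, hT, Finset.mem_inter, mem_Q, mem_Q] at ha
    rcases ha with ⟨h1 | h1, h2⟩
    · exact ⟨h1.1, Or.inl ⟨h1.2, fun h => h2 ⟨h1, h1.1, h⟩⟩⟩
    · exact ⟨h1.1, Or.inr ⟨fun h => h2 ⟨⟨h1.1, h⟩, h1⟩, h1.2⟩⟩
  obtain ⟨a₀, ha₀⟩ : T.Nonempty := by
    rw [← Finset.card_pos]
    omega
  have hyz : ¬ G.Adj y z := not_adj_of_common G hG (hTmem a₀ ha₀).2.1 (hTmem a₀ ha₀).2.2
  -- the numbers of adjacent pairs
  have e00 : E G {v₀} {v₀} = 0 := E_none G _ _ (by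
    intro u hu v hv
    rw [Finset.mem_singleton] at hu hv
    rw [hu, hv]
    exact G.loopless.irrefl v₀)
  have e01 : E G {v₀} T = T.card := by
    rw [E_all G _ _ (by
      intro u hu v hv
      rw [Finset.mem_singleton] at hu
      rw [hu]
      exact (hTmem v hv).1)]
    simp
  have e02 : E G {v₀} D = D.card := by
    rw [E_all G _ _ (by
      intro u hu v hv
      rw [Finset.mem_singleton] at hu
      rw [hu]
      exact (hDmem v hv).1)]
    simp
  have e03 : E G {v₀} {y, z} = 0 := E_none G _ _ (by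
    intro u hu v hv
    rw [Finset.mem_singleton] at hu
    rw [Finset.mem_insert, Finset.mem_singleton] at hv
    rw [hu]
    rcases hv with rfl | rfl
    · exact hy'.2
    · exact hz'.2)
  have e11 : E G T T = 0 := E_none G _ _ (fun u hu v hv =>
    N_coclique G hG v₀ (hTmem u hu).1 (hTmem v hv).1)
  have e12 : E G T D = 0 := E_none G _ _ (fun u hu v hv =>
    N_coclique G hG v₀ (hTmem u hu).1 (hDmem v hv).1)
  have e22 : E G D D = 0 := E_none G _ _ (fun u hu v hv =>
    N_coclique G hG v₀ (hDmem u hu).1 (hDmem v hv).1)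
  have e13 : E G T {y, z} = 2 * T.card := by
    rw [E_all G _ _ (by
      intro u hu v hv
      rw [Finset.mem_insert, Finset.mem_singleton] at hv
      rcases hv with rfl | rfl
      · exact (hTmem u hu).2.1.symm
      · exact (hTmem u hu).2.2.symm)]
    rw [Finset.card_pair hne]
    push_cast
    ring
  have e23 : E G D {y, z} = D.card := by
    unfold E
    rw [Finset.sum_congr rfl (g := fun _ => (1 : ℤ))]
    · simp
    · intro u hu
      rw [Finset.sum_pair hne]
      unfold ad
      rcases (hDmem u hu).2 with h | h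
      · rw [if_pos h.1.symm, if_neg (fun h' => h.2 h'.symm)]
        rfl
      · rw [if_neg (fun h' => h.1 h'.symm), if_pos h.2.symm]
        rfl
  have e33 : E G {y, z} {y, z} = 0 := E_none G _ _ (by
    intro u hu v hv
    rw [Finset.mem_insert, Finset.mem_singleton] at hu hv
    rcases hu with rfl | rfl <;> rcases hv with rfl | rfl
    · exact G.loopless.irrefl _
    · exact hyz
    · exact fun h => hyz h.symm
    · exact G.loopless.irrefl _)
  -- disjointness
  have hv₀T : v₀ ∉ T := fun h => G.loopless.irrefl v₀ (hTmem v₀ h).1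
  have hv₀D : v₀ ∉ D := fun h => G.loopless.irrefl v₀ (hDmem v₀ h).1
  have i01 : ({v₀} ∩ T : Finset V).card = 0 := by
    rw [Finset.singleton_inter_of_notMem hv₀T]; rfl
  have i02 : ({v₀} ∩ D : Finset V).card = 0 := by
    rw [Finset.singleton_inter_of_notMem hv₀D]; rfl
  have i03 : ({v₀} ∩ {y, z} : Finset V).card = 0 := by
    rw [Finset.singleton_inter_of_notMem]
    · rfl
    · rw [Finset.mem_insert, Finset.mem_singleton]
      rintro (h | h)
      · exact hy'.1 h.symm
      · exact hz'.1 h.symm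
  have i12 : (T ∩ D).card = 0 := by
    rw [Finset.card_eq_zero, hD]
    exact Finset.inter_sdiff_self _ _
  have i13 : (T ∩ {y, z}).card = 0 := by
    rw [Finset.card_eq_zero, Finset.eq_empty_iff_forall_notMem]
    intro a ha
    rw [Finset.mem_inter, Finset.mem_insert, Finset.mem_singleton] at ha
    rcases ha.2 with h | h
    · exact hy'.2 (h ▸ (hTmem a ha.1).1)
    · exact hz'.2 (h ▸ (hTmem a ha.1).1)
  have i23 : (D ∩ {y, z}).card = 0 := by
    rw [Finset.card_eq_zero, Finset.eq_empty_iff_forall_notMem]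
    intro a ha
    rw [Finset.mem_inter, Finset.mem_insert, Finset.mem_singleton] at ha
    rcases ha.2 with h | h
    · exact hy'.2 (h ▸ (hDmem a ha.1).1)
    · exact hz'.2 (h ▸ (hDmem a ha.1).1)
  have c3 : ({y, z} : Finset V).card = 2 := Finset.card_pair hne
  -- the two cases
  have hcases : T.card = 3 ∨ T.card = 4 := by omega
  rcases hcases with ht | ht
  · have hd : D.card = 2 := by omega
    have h := psd4 G hG {v₀} T D {y, z} 2 2 1 2
    rw [S_eq, S_eq G T T, S_eq G D D, S_eq G {y, z} {y, z}, S_eq G {v₀} T, S_eq G {v₀} D,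
      S_eq G {v₀} {y, z}, S_eq G T D, S_eq G T {y, z}, S_eq G D {y, z}, e00, e01, e02, e03, e11,
      e12, e22, e13, e23, e33, i01, i02, i03, i12, i13, i23, Finset.inter_self, Finset.inter_self,
      Finset.inter_self, Finset.inter_self, c3, ht, hd, Finset.card_singleton] at h
    norm_num at h
  · have hd : D.card = 0 := by omega
    have h := psd4 G hG {v₀} T D {y, z} 3 2 0 2
    rw [S_eq, S_eq G T T, S_eq G D D, S_eq G {y, z} {y, z}, S_eq G {v₀} T, S_eq G {v₀} D,
      S_eq G {v₀} {y, z}, S_eq G T D, S_eq G T {y, z}, S_eq G D {y, z}, e00, e01, e02, e03, e11,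
      e12, e22, e13, e23, e33, i01, i02, i03, i12, i13, i23, Finset.inter_self, Finset.inter_self,
      Finset.inter_self, Finset.inter_self, c3, ht, hd, Finset.card_singleton] at h
    norm_num at h

end

end Cfsg.Agent.Lib.Helper1.SRG77
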