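import Cfsg.Agent.Lib.Helper1.SRG77c

/-!
# Strongly regular graphs with parameters `(77, 16, 0, 4)`: the mates of a non-neighbour
-/

set_option autoImplicit false
set_option linter.unusedSectionVars false
set_option linter.unusedSimpArgs false

namespace Cfsg.Agent.Lib.Helper1.SRG77

open Finset
open scoped Classical

noncomputable section

variable {V : Type*} [Fintype V] (G : SimpleGraph V) (hG : Facts G) (v₀ : V)

include hG

theorem Q_nonempty {y : V} (hy : y ∈ X G v₀) : (Q G v₀ y).Nonempty := by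
  rw [← Finset.card_pos, card_Q G hG v₀ hy]
  norm_num

theorem not_disjoint_self {y : V} (hy : y ∈ X G v₀) : ¬ Disjoint (Q G v₀ y) (Q G v₀ y) := by
  rw [Finset.disjoint_self_iff_empty]
  exact (Q_nonempty G hG v₀ hy).ne_empty

omit hG in
theorem disjoint_iff_card {y z : V} :
    Disjoint (Q G v₀ y) (Q G v₀ z) ↔ (Q G v₀ y ∩ Q G v₀ z).card = 0 := by
  rw [Finset.card_eq_zero, Finset.disjoint_iff_inter_eq_empty]

theorem card_disj {y : V} (hy : y ∈ X G v₀) :
    ((X G v₀).filter (fun z => Disjoint (Q G v₀ y) (Q G v₀ z))).card = 15 := by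
  have key : ∀ z ∈ X G v₀, ((Q G v₀ y ∩ Q G v₀ z).card : ℤ) ^ 2
      - 3 * ((Q G v₀ y ∩ Q G v₀ z).card : ℤ) + 2 =
      2 * (if Disjoint (Q G v₀ y) (Q G v₀ z) then 1 else 0) + 6 * (if z = y then 1 else 0) := by
    intro z hz
    by_cases hzy : z = y
    · subst hzy
      rw [if_neg (not_disjoint_self G hG v₀ hz), if_pos rfl, Finset.inter_self, card_Q G hG v₀ hz]
      norm_num
    · rw [if_neg hzy]
      have hle := inter_le_two G hG v₀ hy hz (fun h => hzy h.symm)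
      have : (Q G v₀ y ∩ Q G v₀ z).card = 0 ∨ (Q G v₀ y ∩ Q G v₀ z).card = 1 ∨
          (Q G v₀ y ∩ Q G v₀ z).card = 2 := by omega
      rcases this with h | h | h
      · rw [if_pos ((disjoint_iff_card G v₀).mpr h), h]
        norm_num
      · rw [if_neg (fun hd => by rw [disjoint_iff_card] at hd; omega), h]
        norm_num
      · rw [if_neg (fun hd => by rw [disjoint_iff_card] at hd; omega), h]
        norm_num
  have hsum := Finset.sum_congr rfl key
  rw [Finset.sum_add_distrib, Finset.sum_sub_distrib, ← Finset.mul_sum, sum1 G hG v₀ hy,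
    sum2 G hG v₀ hy, Finset.sum_add_distrib, ← Finset.mul_sum, ← Finset.mul_sum,
    Finset.sum_boole, Finset.sum_ite_eq' (X G v₀) y (fun _ => (1 : ℤ)), if_pos hy,
    Finset.sum_const, card_X G hG v₀] at hsum
  have : (((X G v₀).filter (fun z => Disjoint (Q G v₀ y) (Q G v₀ z))).card : ℤ) = 15 := by
    norm_num at hsum
    linarith
  exact_mod_cast this

theorem degX {y : V} (hy : y ∈ X G v₀) : (Nb G y ∩ X G v₀).card = 12 := by
  have hy' := (mem_X G v₀ y).mp hy
  have h1 : Nb G y \ Nb G v₀ = Nb G y ∩ X G v₀ := by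
    ext w
    simp only [Finset.mem_sdiff, Finset.mem_inter, mem_Nb, mem_X]
    constructor
    · rintro ⟨h1, h2⟩
      refine ⟨h1, ?_, h2⟩
      rintro rfl
      exact hy'.2 h1.symm
    · rintro ⟨h1, _, h3⟩
      exact ⟨h1, h3⟩
  have h2 := Finset.card_inter_add_card_sdiff (Nb G y) (Nb G v₀)
  rw [h1, hG.deg, Finset.inter_comm] at h2
  have h3 : (Nb G v₀ ∩ Nb G y).card = 4 := card_Q G hG v₀ hy
  omega

omit hG in
/-- the mates of `y` -/
def Z (y : V) : Finset V :=
  (X G v₀).filter (fun z => z ≠ y ∧ ¬ G.Adj y z ∧ Disjoint (Q G v₀ y) (Q G v₀ z))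

omit hG in
theorem mem_Z (y z : V) : z ∈ Z G v₀ y ↔
    z ∈ X G v₀ ∧ z ≠ y ∧ ¬ G.Adj y z ∧ Disjoint (Q G v₀ y) (Q G v₀ z) := by
  simp [Z]

theorem card_Z {y : V} (hy : y ∈ X G v₀) : (Z G v₀ y).card = 3 := by
  have h1 : (X G v₀).filter (fun z => Disjoint (Q G v₀ y) (Q G v₀ z)) =
      (Nb G y ∩ X G v₀) ∪ Z G v₀ y := by
    ext z
    simp only [Finset.mem_filter, Finset.mem_union, Finset.mem_inter, mem_Nb, mem_Z]
    constructor
    · rintro ⟨hz, hd⟩
      by_cases hadj : G.Adj y z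
      · exact Or.inl ⟨hadj, hz⟩
      · refine Or.inr ⟨hz, ?_, hadj, hd⟩
        rintro rfl
        exact not_disjoint_self G hG v₀ hz hd
    · rintro (⟨hadj, hz⟩ | ⟨hz, _, _, hd⟩)
      · exact ⟨hz, Q_disj_of_adj G hG v₀ hadj⟩
      · exact ⟨hz, hd⟩
  have h2 : Disjoint (Nb G y ∩ X G v₀) (Z G v₀ y) := by
    rw [Finset.disjoint_left]
    intro z hz1 hz2
    rw [Finset.mem_inter, mem_Nb] at hz1
    rw [mem_Z] at hz2
    exact hz2.2.2.1 hz1.1
  have h3 := card_disj G hG v₀ hy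
  rw [h1, Finset.card_union_of_disjoint h2, degX G hG v₀ hy] at h3
  omega

/-- the mates of `y` are not adjacent to the points of the quad of `y` -/
theorem Z_not_adj_Q {y z a : V} (hz : z ∈ Z G v₀ y) (ha : a ∈ Q G v₀ y) : ¬ G.Adj z a := by
  intro h
  rw [mem_Z] at hz
  have ha' := (mem_Q G v₀ y a).mp ha
  have : a ∈ Q G v₀ z := (mem_Q G v₀ z a).mpr ⟨ha'.1, h⟩
  exact Finset.disjoint_left.mp hz.2.2.2 ha this

/-- the numbers for the vector `Z - 3 (v₀ + y) - 2 Q` -/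
theorem mates_form {y : V} (hy : y ∈ X G v₀) :
    1 * 1 * S G (Z G v₀ y) (Z G v₀ y) + (-3) * (-3) * S G {v₀, y} {v₀, y}
      + (-2) * (-2) * S G (Q G v₀ y) (Q G v₀ y)
      + 2 * (1 * (-3) * S G (Z G v₀ y) {v₀, y} + 1 * (-2) * S G (Z G v₀ y) (Q G v₀ y)
        + (-3) * (-2) * S G {v₀, y} (Q G v₀ y)) = - 11 * E G (Z G v₀ y) (Z G v₀ y) := by
  have hy' := (mem_X G v₀ y).mp hy
  have hne : v₀ ≠ y := fun h => hy'.1 h.symm
  have e11 : E G {v₀, y} {v₀, y} = 0 := E_none G _ _ (by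
    intro u hu v hv
    rw [Finset.mem_insert, Finset.mem_singleton] at hu hv
    rcases hu with rfl | rfl <;> rcases hv with rfl | rfl
    · exact G.loopless.irrefl _
    · exact hy'.2
    · exact fun h => hy'.2 h.symm
    · exact G.loopless.irrefl _)
  have e22 : E G (Q G v₀ y) (Q G v₀ y) = 0 := E_none G _ _ (fun u hu v hv =>
    N_coclique G hG v₀ ((mem_Q G v₀ y u).mp hu).1 ((mem_Q G v₀ y v).mp hv).1)
  have e01 : E G (Z G v₀ y) {v₀, y} = 0 := E_none G _ _ (by
    intro u hu v hv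
    rw [Finset.mem_insert, Finset.mem_singleton] at hv
    have hu' := (mem_Z G v₀ y u).mp hu
    have hu'' := (mem_X G v₀ u).mp hu'.1
    rcases hv with h | h
    · rw [h]
      exact fun h => hu''.2 h.symm
    · rw [h]
      exact fun h => hu'.2.2.1 h.symm)
  have e02 : E G (Z G v₀ y) (Q G v₀ y) = 0 := E_none G _ _ (fun u hu v hv =>
    Z_not_adj_Q G hG v₀ hu hv)
  have e12 : E G {v₀, y} (Q G v₀ y) = 8 := by
    rw [E_all G _ _ (by
      intro u hu v hv
      rw [Finset.mem_insert, Finset.mem_singleton] at hu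
      have hv' := (mem_Q G v₀ y v).mp hv
      rcases hu with rfl | rfl
      · exact hv'.1
      · exact hv'.2), Finset.card_pair hne, card_Q G hG v₀ hy]
    norm_num
  have i01 : (Z G v₀ y ∩ {v₀, y}).card = 0 := by
    rw [Finset.card_eq_zero, Finset.eq_empty_iff_forall_notMem]
    intro a ha
    rw [Finset.mem_inter, Finset.mem_insert, Finset.mem_singleton, mem_Z, mem_X] at ha
    rcases ha.2 with h | h
    · exact ha.1.1.1 h
    · exact ha.1.2.1 h
  have i02 : (Z G v₀ y ∩ Q G v₀ y).card = 0 := by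
    rw [Finset.card_eq_zero, Finset.eq_empty_iff_forall_notMem]
    intro a ha
    rw [Finset.mem_inter, mem_Z, mem_X, mem_Q] at ha
    exact ha.1.1.2 ha.2.1
  have i12 : (({v₀, y} : Finset V) ∩ Q G v₀ y).card = 0 := by
    rw [Finset.card_eq_zero, Finset.eq_empty_iff_forall_notMem]
    intro a ha
    rw [Finset.mem_inter, Finset.mem_insert, Finset.mem_singleton, mem_Q] at ha
    rcases ha.1 with h | h
    · exact G.loopless.irrefl v₀ (h ▸ ha.2.1)
    · exact hy'.2 (h ▸ ha.2.1)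
  rw [S_eq, S_eq G {v₀, y} {v₀, y}, S_eq G (Q G v₀ y) (Q G v₀ y), S_eq G (Z G v₀ y) {v₀, y},
    S_eq G (Z G v₀ y) (Q G v₀ y), S_eq G {v₀, y} (Q G v₀ y), e11, e22, e01, e02, e12, i01, i02, i12,
    Finset.inter_self, Finset.inter_self, Finset.inter_self, card_Z G hG v₀ hy,
    Finset.card_pair hne, card_Q G hG v₀ hy]
  push_cast
  ring

theorem E_Z_Z {y : V} (hy : y ∈ X G v₀) : E G (Z G v₀ y) (Z G v₀ y) = 0 := by
  have h := psd3 G hG (Z G v₀ y) {v₀, y} (Q G v₀ y) 1 (-3) (-2)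
  rw [mates_form G hG v₀ hy] at h
  have h2 := E_nonneg G (Z G v₀ y) (Z G v₀ y)
  linarith

theorem Z_coclique {y z z' : V} (hy : y ∈ X G v₀) (hz : z ∈ Z G v₀ y) (hz' : z' ∈ Z G v₀ y) :
    ¬ G.Adj z z' :=
  (E_eq_zero_iff G _ _).mp (E_Z_Z G hG v₀ hy) z hz z' hz'

/-- the law given by the equality case -/
theorem law {y : V} (hy : y ∈ X G v₀) (w : V) :
    ((Z G v₀ y ∩ Nb G w).card : ℤ) + 2 + 6 * (if w ∈ ({v₀, y} : Finset V) then 1 else 0)
      + 4 * (if w ∈ Q G v₀ y then 1 else 0) =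
    3 * (({v₀, y} : Finset V) ∩ Nb G w).card + 2 * (Q G v₀ y ∩ Nb G w).card
      + 2 * (if w ∈ Z G v₀ y then 1 else 0) := by
  have hy' := (mem_X G v₀ y).mp hy
  have hne : v₀ ≠ y := fun h => hy'.1 h.symm
  have h0 := mates_form G hG v₀ hy
  rw [E_Z_Z G hG v₀ hy, mul_zero] at h0
  have h := psd3_eq G hG (Z G v₀ y) {v₀, y} (Q G v₀ y) 1 (-3) (-2) h0 w
  rw [S_singleton_right, S_singleton_right, S_singleton_right, card_Z G hG v₀ hy,
    Finset.card_pair hne, card_Q G hG v₀ hy] at h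
  push_cast at h
  linarith

end

end Cfsg.Agent.Lib.Helper1.SRG77
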