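import Cfsg.Agent.Lib.Helper1.SRG77d

/-!
# Strongly regular graphs with parameters `(77, 16, 0, 4)`: the parallel classes
-/

set_option autoImplicit false
set_option linter.unusedSectionVars false
set_option linter.unusedSimpArgs false

namespace Cfsg.Agent.Lib.Helper1.SRG77

open Finset
open scoped Classical

noncomputable section

variable {V : Type*} [Fintype V] (G : SimpleGraph V) (hG : Facts G) (v₀ : V)

include hG

theorem law_N {y a : V} (hy : y ∈ X G v₀) (ha : G.Adj v₀ a) (haQ : a ∉ Q G v₀ y) :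
    (Z G v₀ y ∩ Nb G a).card = 1 := by
  have hy' := (mem_X G v₀ y).mp hy
  have h := law G hG v₀ hy a
  have h1 : a ∉ ({v₀, y} : Finset V) := by
    rw [Finset.mem_insert, Finset.mem_singleton]
    rintro (h | h)
    · exact G.loopless.irrefl v₀ (h ▸ ha)
    · exact hy'.2 (h ▸ ha)
  have h2 : a ∉ Z G v₀ y := by
    intro h
    rw [mem_Z, mem_X] at h
    exact h.1.2 ha
  have hya : ¬ G.Adj y a := fun h => haQ ((mem_Q G v₀ y a).mpr ⟨ha, h⟩)
  have h3 : (({v₀, y} : Finset V) ∩ Nb G a) = {v₀} := by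
    ext w
    simp only [Finset.mem_inter, Finset.mem_insert, Finset.mem_singleton, mem_Nb]
    constructor
    · rintro ⟨h | h, h'⟩
      · exact h
      · exact absurd (h ▸ h').symm hya
    · intro h
      exact ⟨Or.inl h, h ▸ ha.symm⟩
  have h4 : Q G v₀ y ∩ Nb G a = ∅ := by
    rw [Finset.eq_empty_iff_forall_notMem]
    intro w hw
    rw [Finset.mem_inter, mem_Q, mem_Nb] at hw
    exact N_coclique G hG v₀ ha hw.1.1 hw.2
  rw [if_neg h1, if_neg haQ, if_neg h2, h3, h4] at h
  simp only [Finset.card_singleton, Finset.card_empty] at h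
  have : ((Z G v₀ y ∩ Nb G a).card : ℤ) = 1 := by
    push_cast at h
    linarith
  exact_mod_cast this

omit hG in
theorem Q_inter_Nb {y w : V} (hw : w ∈ X G v₀) : Q G v₀ y ∩ Nb G w = Q G v₀ y ∩ Q G v₀ w := by
  ext a
  simp only [Finset.mem_inter, mem_Q, mem_Nb]
  tauto

theorem law_X {y w : V} (hy : y ∈ X G v₀) (hw : w ∈ X G v₀) (hwy : w ≠ y)
    (hwZ : w ∉ Z G v₀ y) :
    (G.Adj y w → (Z G v₀ y ∩ Nb G w).card = 1) ∧
    (¬ G.Adj y w → (Z G v₀ y ∩ Nb G w).card + 2 = 2 * (Q G v₀ y ∩ Q G v₀ w).card) := by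
  have hy' := (mem_X G v₀ y).mp hy
  have hw' := (mem_X G v₀ w).mp hw
  have h := law G hG v₀ hy w
  have h1 : w ∉ ({v₀, y} : Finset V) := by
    rw [Finset.mem_insert, Finset.mem_singleton]
    rintro (h | h)
    · exact hw'.1 h
    · exact hwy h
  have h2 : w ∉ Q G v₀ y := by
    intro h
    rw [mem_Q] at h
    exact hw'.2 h.1
  rw [if_neg h1, if_neg h2, if_neg hwZ, Q_inter_Nb G v₀ hw] at h
  constructor
  · intro hadj
    have h3 : (({v₀, y} : Finset V) ∩ Nb G w) = {y} := by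
      ext u
      simp only [Finset.mem_inter, Finset.mem_insert, Finset.mem_singleton, mem_Nb]
      constructor
      · rintro ⟨h | h, h'⟩
        · exact absurd (h ▸ h').symm hw'.2
        · exact h
      · intro h
        exact ⟨Or.inr h, h ▸ hadj.symm⟩
    have h4 : Q G v₀ y ∩ Q G v₀ w = ∅ :=
      Finset.disjoint_iff_inter_eq_empty.mp (Q_disj_of_adj G hG v₀ hadj)
    rw [h3, h4] at h
    simp only [Finset.card_singleton, Finset.card_empty] at h
    have : ((Z G v₀ y ∩ Nb G w).card : ℤ) = 1 := by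
      push_cast at h
      linarith
    exact_mod_cast this
  · intro hadj
    have h3 : (({v₀, y} : Finset V) ∩ Nb G w) = ∅ := by
      rw [Finset.eq_empty_iff_forall_notMem]
      intro u hu
      rw [Finset.mem_inter, Finset.mem_insert, Finset.mem_singleton, mem_Nb] at hu
      rcases hu.1 with h | h
      · exact hw'.2 (h ▸ hu.2).symm
      · exact hadj (h ▸ hu.2).symm
    rw [h3] at h
    simp only [Finset.card_empty] at h
    have : ((Z G v₀ y ∩ Nb G w).card : ℤ) + 2 = 2 * ((Q G v₀ y ∩ Q G v₀ w).card : ℤ) := by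
      push_cast at h
      linarith
    exact_mod_cast this

theorem Z_disj {y z z' : V} (hy : y ∈ X G v₀) (hz : z ∈ Z G v₀ y) (hz' : z' ∈ Z G v₀ y)
    (hne : z ≠ z') : Disjoint (Q G v₀ z) (Q G v₀ z') := by
  rw [Finset.disjoint_left]
  intro a ha ha'
  rw [mem_Q] at ha ha'
  have haQ : a ∉ Q G v₀ y := fun h => Z_not_adj_Q G hG v₀ hz h ha.2
  have h1 := law_N G hG v₀ hy ha.1 haQ
  have h2 : 1 < (Z G v₀ y ∩ Nb G a).card := by
    rw [Finset.one_lt_card]
    refine ⟨z, ?_, z', ?_, hne⟩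
    · rw [Finset.mem_inter, mem_Nb]
      exact ⟨hz, ha.2.symm⟩
    · rw [Finset.mem_inter, mem_Nb]
      exact ⟨hz', ha'.2.symm⟩
  omega

omit hG in
theorem mem_Z_symm {y z : V} (hy : y ∈ X G v₀) (hz : z ∈ Z G v₀ y) : y ∈ Z G v₀ z := by
  rw [mem_Z] at hz ⊢
  exact ⟨hy, hz.2.1.symm, fun h => hz.2.2.1 h.symm, hz.2.2.2.symm⟩

theorem Z_trans {y z z' : V} (hy : y ∈ X G v₀) (hz : z ∈ Z G v₀ y) (hz' : z' ∈ Z G v₀ y)
    (hne : z ≠ z') : z' ∈ Z G v₀ z := by
  rw [mem_Z]
  exact ⟨((mem_Z G v₀ y z').mp hz').1, hne.symm, Z_coclique G hG v₀ hy hz hz',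
    Z_disj G hG v₀ hy hz hz' hne⟩

omit hG in
/-- the parallel class of `y` -/
def cls (y : V) : Finset V := insert y (Z G v₀ y)

omit hG in
theorem self_notMem_Z (y : V) : y ∉ Z G v₀ y := by
  rw [mem_Z]
  exact fun h => h.2.1 rfl

omit hG in
theorem self_mem_cls (y : V) : y ∈ cls G v₀ y := Finset.mem_insert_self _ _

theorem card_cls {y : V} (hy : y ∈ X G v₀) : (cls G v₀ y).card = 4 := by
  unfold cls
  rw [Finset.card_insert_of_notMem (self_notMem_Z G v₀ y), card_Z G hG v₀ hy]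

omit hG in
theorem cls_subset_X {y u : V} (hy : y ∈ X G v₀) (hu : u ∈ cls G v₀ y) : u ∈ X G v₀ := by
  unfold cls at hu
  rw [Finset.mem_insert] at hu
  rcases hu with h | h
  · rw [h]
    exact hy
  · exact ((mem_Z G v₀ y u).mp h).1

theorem Z_eq_erase {y u : V} (hy : y ∈ X G v₀) (hu : u ∈ cls G v₀ y) :
    Z G v₀ u = (cls G v₀ y).erase u := by
  have huX := cls_subset_X G v₀ hy hu
  symm
  apply Finset.eq_of_subset_of_card_le
  · intro v hv
    rw [Finset.mem_erase] at hv
    have hvc := hv.2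
    unfold cls at hvc hu
    rw [Finset.mem_insert] at hvc hu
    rcases hu with h | h
    · rcases hvc with h' | h'
      · exact absurd (h'.trans h.symm) hv.1
      · rw [h]
        exact h'
    · rcases hvc with h' | h'
      · rw [h']
        exact mem_Z_symm G v₀ hy h
      · exact Z_trans G hG v₀ hy h h' (fun e => hv.1 e.symm)
  · rw [card_Z G hG v₀ huX, Finset.card_erase_of_mem hu, card_cls G hG v₀ hy]

theorem cls_eq {y u : V} (hy : y ∈ X G v₀) (hu : u ∈ cls G v₀ y) :
    cls G v₀ u = cls G v₀ y := by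
  have h := Z_eq_erase G hG v₀ hy hu
  unfold cls at h ⊢
  rw [h]
  exact Finset.insert_erase hu

/-- the quads of the members of a class are pairwise disjoint -/
theorem cls_disj {y u u' : V} (hy : y ∈ X G v₀) (hu : u ∈ cls G v₀ y) (hu' : u' ∈ cls G v₀ y)
    (hne : u ≠ u') : Disjoint (Q G v₀ u) (Q G v₀ u') := by
  have h := Z_eq_erase G hG v₀ hy hu
  have : u' ∈ Z G v₀ u := by
    rw [h, Finset.mem_erase]
    exact ⟨hne.symm, hu'⟩
  exact ((mem_Z G v₀ u u').mp this).2.2.2

/-- the members of a class are pairwise non-adjacent -/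
theorem cls_not_adj {y u u' : V} (hy : y ∈ X G v₀) (hu : u ∈ cls G v₀ y)
    (hu' : u' ∈ cls G v₀ y) : ¬ G.Adj u u' := by
  by_cases hne : u = u'
  · rw [hne]
    exact G.loopless.irrefl _
  have h := Z_eq_erase G hG v₀ hy hu
  have : u' ∈ Z G v₀ u := by
    rw [h, Finset.mem_erase]
    exact ⟨fun e => hne e.symm, hu'⟩
  exact ((mem_Z G v₀ u u').mp this).2.2.1

/-- every neighbour of the base vertex lies in the quad of a member of each class -/
theorem cls_cover {y a : V} (hy : y ∈ X G v₀) (ha : G.Adj v₀ a) :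
    ∃ u ∈ cls G v₀ y, a ∈ Q G v₀ u := by
  by_cases haQ : a ∈ Q G v₀ y
  · exact ⟨y, self_mem_cls G v₀ y, haQ⟩
  · have h := law_N G hG v₀ hy ha haQ
    obtain ⟨z, hz⟩ : (Z G v₀ y ∩ Nb G a).Nonempty := by
      rw [← Finset.card_pos]
      omega
    rw [Finset.mem_inter, mem_Nb] at hz
    exact ⟨z, Finset.mem_insert_of_mem hz.1, (mem_Q G v₀ z a).mpr ⟨ha, hz.2.symm⟩⟩

/-- the pattern of a non-neighbour against a class not containing it -/
theorem pattern {y w : V} (hy : y ∈ X G v₀) (hw : w ∈ X G v₀) (hwc : w ∉ cls G v₀ y) :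
    (∀ u ∈ cls G v₀ y, (Q G v₀ u ∩ Q G v₀ w).card = 1 ∧ ¬ G.Adj u w) ∨
    (∀ u ∈ cls G v₀ y, ((Q G v₀ u ∩ Q G v₀ w).card = 0 ∧ G.Adj u w) ∨
      ((Q G v₀ u ∩ Q G v₀ w).card = 2 ∧ ¬ G.Adj u w)) := by
  -- the law at each member of the class
  have hlaw : ∀ u ∈ cls G v₀ y,
      (G.Adj u w → (cls G v₀ y ∩ Nb G w).card = 2) ∧
      (¬ G.Adj u w → (cls G v₀ y ∩ Nb G w).card + 2 = 2 * (Q G v₀ u ∩ Q G v₀ w).card) := by
    intro u hu
    have huX := cls_subset_X G v₀ hy hu
    have hwu : w ≠ u := fun h => hwc (h ▸ hu)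
    have hZ := Z_eq_erase G hG v₀ hy hu
    have hwZ : w ∉ Z G v₀ u := by
      rw [hZ, Finset.mem_erase]
      exact fun h => hwc h.2
    have h := law_X G hG v₀ huX hw hwu hwZ
    rw [hZ, Finset.erase_inter] at h
    constructor
    · intro hadj
      have h1 := h.1 hadj
      have hmem : u ∈ cls G v₀ y ∩ Nb G w := by
        rw [Finset.mem_inter, mem_Nb]
        exact ⟨hu, hadj.symm⟩
      rw [Finset.card_erase_of_mem hmem] at h1
      have := Finset.card_pos.mpr ⟨u, hmem⟩
      omega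
    · intro hadj
      have h1 := h.2 hadj
      have hmem : u ∉ cls G v₀ y ∩ Nb G w := by
        rw [Finset.mem_inter, mem_Nb]
        exact fun h => hadj h.2.symm
      rw [Finset.erase_eq_of_notMem hmem] at h1
      exact h1
  by_cases ht : (cls G v₀ y ∩ Nb G w).card = 0
  · left
    intro u hu
    have hadj : ¬ G.Adj u w := by
      intro hadj
      have := (hlaw u hu).1 hadj
      omega
    have := (hlaw u hu).2 hadj
    exact ⟨by omega, hadj⟩
  · right
    obtain ⟨u₀, hu₀⟩ : (cls G v₀ y ∩ Nb G w).Nonempty := by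
      rw [← Finset.card_pos]
      omega
    rw [Finset.mem_inter, mem_Nb] at hu₀
    have ht2 := (hlaw u₀ hu₀.1).1 hu₀.2.symm
    intro u hu
    by_cases hadj : G.Adj u w
    · left
      refine ⟨?_, hadj⟩
      rw [Finset.card_eq_zero]
      exact Finset.disjoint_iff_inter_eq_empty.mp (Q_disj_of_adj G hG v₀ hadj)
    · right
      have := (hlaw u hu).2 hadj
      exact ⟨by omega, hadj⟩

/-- between different classes, adjacent means disjoint quads -/
theorem adj_iff_disj {y w u : V} (hy : y ∈ X G v₀) (hw : w ∈ X G v₀) (hwc : w ∉ cls G v₀ y)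
    (hu : u ∈ cls G v₀ y) : G.Adj u w ↔ Disjoint (Q G v₀ u) (Q G v₀ w) := by
  rw [disjoint_iff_card]
  rcases pattern G hG v₀ hy hw hwc with h | h
  · have := h u hu
    constructor
    · intro h'
      exact absurd h' this.2
    · intro h'
      omega
  · rcases h u hu with h1 | h1
    · exact ⟨fun _ => h1.1, fun _ => h1.2⟩
    · constructor
      · intro h'
        exact absurd h' h1.2
      · intro h'
        omega

/-- different classes are disjoint -/
theorem cls_disjoint {y y' u' : V} (hy : y ∈ X G v₀) (hy' : y' ∈ X G v₀)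
    (hne : y' ∉ cls G v₀ y) (hu' : u' ∈ cls G v₀ y') : u' ∉ cls G v₀ y := by
  intro h
  have h1 := cls_eq G hG v₀ hy h
  have h2 := cls_eq G hG v₀ hy' hu'
  apply hne
  rw [← h1, h2]
  exact self_mem_cls G v₀ y'

/-- two different classes are crossing or two-related -/
theorem class_pair {y y' : V} (hy : y ∈ X G v₀) (hy' : y' ∈ X G v₀) (hne : y' ∉ cls G v₀ y) :
    (∀ u ∈ cls G v₀ y, ∀ u' ∈ cls G v₀ y', (Q G v₀ u ∩ Q G v₀ u').card = 1) ∨
    (∀ u ∈ cls G v₀ y, ∀ u' ∈ cls G v₀ y',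
      (Q G v₀ u ∩ Q G v₀ u').card = 0 ∨ (Q G v₀ u ∩ Q G v₀ u').card = 2) := by
  have hne' : y ∉ cls G v₀ y' := by
    intro h
    have := cls_eq G hG v₀ hy' h
    apply hne
    rw [this]
    exact self_mem_cls G v₀ y'
  by_cases h1 : ∃ u₁ ∈ cls G v₀ y, ∃ u₁' ∈ cls G v₀ y', (Q G v₀ u₁ ∩ Q G v₀ u₁').card = 1
  · left
    obtain ⟨u₁, hu₁, u₁', hu₁', hc⟩ := h1
    have hA : ∀ u ∈ cls G v₀ y, (Q G v₀ u ∩ Q G v₀ u₁').card = 1 := by
      have hw := cls_subset_X G v₀ hy' hu₁'
      have hwc := cls_disjoint G hG v₀ hy hy' hne hu₁'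
      rcases pattern G hG v₀ hy hw hwc with h | h
      · exact fun u hu => (h u hu).1
      · rcases h u₁ hu₁ with h' | h' <;> omega
    intro u hu u' hu'
    have hw := cls_subset_X G v₀ hy hu
    have hwc := cls_disjoint G hG v₀ hy' hy hne' hu
    rcases pattern G hG v₀ hy' hw hwc with h | h
    · rw [Finset.inter_comm]
      exact (h u' hu').1
    · have := hA u hu
      rw [Finset.inter_comm] at this
      rcases h u₁' hu₁' with h' | h' <;> omega
  · right
    push Not at h1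
    intro u hu u' hu'
    have hw := cls_subset_X G v₀ hy' hu'
    have hwc := cls_disjoint G hG v₀ hy hy' hne hu'
    rcases pattern G hG v₀ hy hw hwc with h | h
    · exact absurd (h u hu).1 (h1 u hu u' hu')
    · rcases h u hu with h' | h'
      · exact Or.inl h'.1
      · exact Or.inr h'.1

/-- some class crosses a given class -/
theorem exists_cross {y : V} (hy : y ∈ X G v₀) :
    ∃ z ∈ X G v₀, (Q G v₀ y ∩ Q G v₀ z).card = 1 := by
  by_contra hcon
  push Not at hcon
  have key : ∀ z ∈ X G v₀, ((Q G v₀ y ∩ Q G v₀ z).card : ℤ) ^ 2 =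
      2 * ((Q G v₀ y ∩ Q G v₀ z).card : ℤ) + 8 * (if z = y then 1 else 0) := by
    intro z hz
    by_cases hzy : z = y
    · subst hzy
      rw [if_pos rfl, Finset.inter_self, card_Q G hG v₀ hz]
      norm_num
    · rw [if_neg hzy]
      have hle := inter_le_two G hG v₀ hy hz (fun h => hzy h.symm)
      have h1 := hcon z hz
      have : (Q G v₀ y ∩ Q G v₀ z).card = 0 ∨ (Q G v₀ y ∩ Q G v₀ z).card = 2 := by omega
      rcases this with h | h <;> rw [h] <;> norm_num
  have hsum := Finset.sum_congr rfl key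
  rw [sum2 G hG v₀ hy, Finset.sum_add_distrib, ← Finset.mul_sum, ← Finset.mul_sum,
    sum1 G hG v₀ hy, Finset.sum_ite_eq' (X G v₀) y (fun _ => (1 : ℤ)), if_pos hy] at hsum
  norm_num at hsum

end

end Cfsg.Agent.Lib.Helper1.SRG77
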