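import Mathlib

set_option autoImplicit false

namespace Cfsg.Agent.Lib.Helper1.Stein

variable (n : ℕ)

/-- the subset of `Fin n` coded by a bitmask -/
def toFin (m : ℕ) : Finset (Fin n) := Finset.univ.filter (fun i => m.testBit i = true)

theorem mem_toFin {m : ℕ} {i : Fin n} : i ∈ toFin n m ↔ m.testBit i = true := by
  simp [toFin]

/-- the bitmask coding a subset of `Fin n` -/
def ofFin (s : Finset (Fin n)) : ℕ := Nat.ofBits (fun i : Fin n => decide (i ∈ s))

theorem testBit_ofFin (s : Finset (Fin n)) (i : Fin n) :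
    (ofFin n s).testBit i = decide (i ∈ s) := by
  rw [ofFin, Nat.testBit_ofBits_lt _ _ i.2]

theorem testBit_ofFin_ge (s : Finset (Fin n)) (i : ℕ) (h : n ≤ i) :
    (ofFin n s).testBit i = false := Nat.testBit_ofBits_ge _ _ h

theorem toFin_ofFin (s : Finset (Fin n)) : toFin n (ofFin n s) = s := by
  ext i
  rw [mem_toFin, testBit_ofFin]
  simp

theorem toFin_lor (a b : ℕ) : toFin n (a ||| b) = toFin n a ∪ toFin n b := by
  ext i
  simp [mem_toFin, Nat.testBit_or]

theorem toFin_land (a b : ℕ) : toFin n (a &&& b) = toFin n a ∩ toFin n b := by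
  ext i
  simp [mem_toFin, Nat.testBit_and]

theorem toFin_zero : toFin n 0 = ∅ := by
  ext i
  simp [mem_toFin]

theorem toFin_two_pow (i : Fin n) : toFin n (1 <<< (i : ℕ)) = {i} := by
  ext j
  rw [mem_toFin, Finset.mem_singleton, Nat.one_shiftLeft, Nat.testBit_two_pow]
  simp only [decide_eq_true_eq]
  constructor
  · intro h; exact Fin.ext h.symm
  · intro h; rw [h]

/-- number of set bits below `n` -/
def popc : ℕ → ℕ → ℕ
  | 0, _ => 0
  | (n + 1), m => popc n m + (if m.testBit n = true then 1 else 0)

theorem popc_eq_sum (m : ℕ) : popc n m = ∑ i : Fin n, (if m.testBit i = true then 1 else 0) := by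
  induction n with
  | zero => simp [popc]
  | succ k ih =>
    rw [popc, ih, Fin.sum_univ_castSucc]
    simp

theorem card_toFin (m : ℕ) : (toFin n m).card = popc n m := by
  rw [popc_eq_sum, toFin, Finset.card_filter]

end Cfsg.Agent.Lib.Helper1.Stein
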