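import Mathlib
import Cfsg.Agent.Lib.Helper1.Stein1

/-!
# The local structure of a strongly regular graph with parameters `(77, 16, 0, 4)`: the search

Quads are coded by bitmasks on sixteen cells; a family of parallel classes containing the rows and
the columns of the four by four grid is completed by a depth first search, which finds six
families.
-/

set_option autoImplicit false
set_option linter.unusedSectionVars false
set_option linter.unusedSimpArgs false

namespace Cfsg.Agent.Lib.Helper1.SRG77

open Cfsg.Agent.Lib.Helper1.Stein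


def pcA : ℕ → ℕ → ℕ
  | 0, _ => 0
  | (f+1), m => bif Nat.beq m 0 then 0 else Nat.succ (pcA f (Nat.land m (m - 1)))

def pc (m : ℕ) : ℕ := pcA 17 m

def is1 (x : ℕ) : Bool := match pc x with | 1 => true | _ => false
def is02 (x : ℕ) : Bool := match pc x with | 0 => true | 1 => false | 2 => true | _ => false

def tb (q a : ℕ) : Bool := Nat.beq (Nat.land (Nat.shiftRight q a) 1) 1
def has (a b q : ℕ) : Bool := tb q a && tb q b
def dj (q q' : ℕ) : Bool := Nat.beq (Nat.land q q') 0

def rowsL : List ℕ := [15, 240, 3840, 61440]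
def colsL : List ℕ := [4369, 8738, 17476, 34952]

def lineOK (K : List ℕ) (q : ℕ) : Bool :=
  K.all (fun l => is1 (Nat.land q l)) || K.all (fun l => is02 (Nat.land q l))

def cand : List ℕ := [51, 60, 85, 90, 102, 105, 150, 153, 165, 170, 195, 204, 771, 780, 816, 960, 1285, 1290, 1360, 1440, 1542, 1545, 1632, 1680, 2310, 2313, 2400, 2448, 2565, 2570, 2640, 2720, 3075, 3084, 3120, 3264, 4386, 4420, 4488, 4626, 4641, 4680, 4740, 5140, 5160, 5185, 5250, 6168, 6180, 6210, 6273, 8466, 8481, 8520, 8580, 8721, 8772, 8840, 9240, 9252, 9282, 9345, 10260, 10280, 10305, 10370, 12291, 12300, 12336, 12480, 13056, 15360, 16660, 16680, 16705, 16770, 16920, 16932, 16962, 17025, 17425, 17442, 17544, 18450, 18465, 18504, 18564, 20485, 20490, 20560, 20640, 21760, 23040, 24582, 24585, 24672, 24720, 26112, 26880, 33048, 33060, 33090, 33153, 33300, 33320, 33345, 33410, 33810, 33825, 33864, 33924, 34833, 34850, 34884, 36870, 36873, 36960, 37008, 38400, 39168, 40965, 40970, 41040, 41120, 42240, 43520, 49155, 49164, 49200, 49344, 49920, 52224]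

def covers (a b : ℕ) (K : List ℕ) : Bool := K.any (has a b)
def covL (L : List (List ℕ)) (a b : ℕ) : ℕ := (L.filter (covers a b)).length

def pairs : List (ℕ × ℕ) :=
  (List.range 16).flatMap (fun a => ((List.range 16).filter (fun b => Nat.blt a b)).map (fun b => (a, b)))

def sameType (L : List (List ℕ)) (q0 m : ℕ) : Bool :=
  L.all (fun K => is1 (Nat.land q0 (K.headD 0)) == is1 (Nat.land m (K.headD 0)))

def mates (L : List (List ℕ)) (cd : List ℕ) (q0 : ℕ) : List (List ℕ) :=
  let D0 := cd.filter (fun m => dj q0 m && sameType L q0 m)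
  D0.flatMap (fun m1 =>
    let D1 := D0.filter (fun m => dj m1 m && Nat.blt m1 m)
    D1.flatMap (fun m2 =>
      let D2 := D1.filter (fun m => dj m2 m && Nat.blt m2 m)
      D2.map (fun m3 => [m1, m2, m3])))

def inL (L : List (List ℕ)) (q : ℕ) : Bool := L.any (fun K => K.any (fun x => Nat.beq x q))

def extensions (L : List (List ℕ)) (cd : List ℕ) (a b : ℕ) : List (List ℕ) :=
  (cd.filter (fun q0 => has a b q0 && !(inL L q0))).flatMap
    (fun q0 => (mates L cd q0).map (fun t => q0 :: t))

def triOK (L : List (List ℕ)) (K : List ℕ) : Bool :=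
  K.all (fun q =>
    let nb := L.flatMap (fun K1 => (K1.filter (dj q)).map (fun q1 => (q1, K1)))
    nb.all (fun p1 => nb.all (fun p2 => !(dj p1.1 p2.1) || p1.2.any (fun x => Nat.beq x p2.1))))

def sameSet (K K' : List ℕ) : Bool :=
  K.all (fun q => K'.any (fun x => Nat.beq x q)) && K'.all (fun q => K.any (fun x => Nat.beq x q))

def sameFam (s L : List (List ℕ)) : Bool :=
  s.all (fun K => L.any (sameSet K)) && L.all (fun K => s.any (sameSet K))

def sols : List (List (List ℕ)) := [
[[15, 240, 3840, 61440], [4369, 8738, 17476, 34952], [51, 204, 13056, 52224], [60, 195, 15360, 49920], [1285, 2570, 20560, 41120], [1290, 2565, 20640, 41040], [1632, 2448, 24582, 36873], [1680, 2400, 24585, 36870], [4386, 8721, 17544, 34884], [4680, 8580, 18450, 33825], [4740, 8520, 18465, 33810], [5140, 10280, 16705, 33410], [5160, 10260, 16770, 33345], [6210, 9345, 16920, 33060], [6273, 9282, 16932, 33048]],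
[[15, 240, 3840, 61440], [4369, 8738, 17476, 34952], [51, 204, 13056, 52224], [60, 195, 15360, 49920], [1360, 2720, 20485, 40970], [1440, 2640, 20490, 40965], [1542, 2313, 24672, 37008], [1545, 2310, 24720, 36960], [4386, 8721, 17544, 34884], [4680, 8580, 18450, 33825], [4740, 8520, 18465, 33810], [5185, 10370, 16660, 33320], [5250, 10305, 16680, 33300], [6168, 9252, 16962, 33153], [6180, 9240, 17025, 33090]],
[[15, 240, 3840, 61440], [4369, 8738, 17476, 34952], [85, 170, 21760, 43520], [90, 165, 23040, 42240], [771, 3084, 12336, 49344], [780, 3075, 12480, 49200], [1632, 2448, 24582, 36873], [1680, 2400, 24585, 36870], [4420, 8840, 17425, 34850], [4626, 8481, 18504, 33924], [4680, 8580, 18450, 33825], [5160, 10260, 16770, 33345], [5250, 10305, 16680, 33300], [6180, 9240, 17025, 33090], [6273, 9282, 16932, 33048]],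
[[15, 240, 3840, 61440], [4369, 8738, 17476, 34952], [85, 170, 21760, 43520], [90, 165, 23040, 42240], [816, 3264, 12291, 49164], [960, 3120, 12300, 49155], [1542, 2313, 24672, 37008], [1545, 2310, 24720, 36960], [4420, 8840, 17425, 34850], [4641, 8466, 18564, 33864], [4740, 8520, 18465, 33810], [5160, 10260, 16770, 33345], [5250, 10305, 16680, 33300], [6168, 9252, 16962, 33153], [6210, 9345, 16920, 33060]],
[[15, 240, 3840, 61440], [4369, 8738, 17476, 34952], [102, 153, 26112, 39168], [105, 150, 26880, 38400], [771, 3084, 12336, 49344], [780, 3075, 12480, 49200], [1360, 2720, 20485, 40970], [1440, 2640, 20490, 40965], [4488, 8772, 17442, 34833], [4626, 8481, 18504, 33924], [4740, 8520, 18465, 33810], [5160, 10260, 16770, 33345], [5185, 10370, 16660, 33320], [6180, 9240, 17025, 33090], [6210, 9345, 16920, 33060]],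
[[15, 240, 3840, 61440], [4369, 8738, 17476, 34952], [102, 153, 26112, 39168], [105, 150, 26880, 38400], [816, 3264, 12291, 49164], [960, 3120, 12300, 49155], [1285, 2570, 20560, 41120], [1290, 2565, 20640, 41040], [4488, 8772, 17442, 34833], [4641, 8466, 18564, 33864], [4680, 8580, 18450, 33825], [5140, 10280, 16705, 33410], [5250, 10305, 16680, 33300], [6180, 9240, 17025, 33090], [6210, 9345, 16920, 33060]]]

def isSol (L : List (List ℕ)) : Bool := sols.any (fun s => sameFam s L)

def dfs : ℕ → List (List ℕ) → List ℕ → List (ℕ × ℕ) → Bool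
  | 0, _, _, _ => false
  | (n+1), L, cd, rest =>
    match rest.dropWhile (fun p => Nat.ble 3 (covL L p.1 p.2)) with
    | [] => isSol L
    | p :: rest' => (extensions L cd p.1 p.2).all
        (fun K => !(triOK L K) || dfs n (K :: L) (cd.filter (lineOK K)) (p :: rest'))



/-! ### the number of bits -/

/-- the number of bits among the lowest `n`, from the bottom -/
def popb : ℕ → ℕ → ℕ
  | 0, _ => 0
  | (n+1), m => m % 2 + popb n (m / 2)

theorem popb_zero : ∀ n : ℕ, popb n 0 = 0
  | 0 => rfl
  | (n+1) => by
    unfold popb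
    rw [Nat.zero_div, popb_zero n]

theorem popb_le : ∀ n m : ℕ, popb n m ≤ n
  | 0, _ => le_refl _
  | (n+1), m => by
    unfold popb
    have := popb_le n (m / 2)
    omega

theorem popb_eq_sum : ∀ n m : ℕ, popb n m = ∑ i : Fin n, (if m.testBit i = true then 1 else 0)
  | 0, _ => by simp [popb]
  | (n+1), m => by
    unfold popb
    rw [Fin.sum_univ_succ, popb_eq_sum n (m / 2)]
    congr 1
    · rw [Fin.val_zero, Nat.testBit_zero]
      rcases Nat.mod_two_eq_zero_or_one m with h | h <;> simp [h]
    · apply Finset.sum_congr rfl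
      intro i _
      rw [Fin.val_succ, ← Nat.succ_eq_add_one, Nat.testBit_succ]

theorem popb_eq_card (n m : ℕ) : popb n m = (toFin n m).card := by
  rw [card_toFin, popc_eq_sum, popb_eq_sum]

theorem popb_clear : ∀ n m : ℕ, 0 < m → m < 2 ^ n → popb n (m &&& (m - 1)) + 1 = popb n m
  | 0, m, h0, h1 => by
    simp at h1
    omega
  | (n+1), m, h0, h1 => by
    unfold popb
    rw [Nat.and_div_two]
    have hmod : (m &&& (m - 1)) % 2 = (m % 2) &&& ((m - 1) % 2) := by
      have := @Nat.and_mod_two_pow m (m - 1) 1
      simpa using this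
    have hp : 2 ^ (n + 1) = 2 * 2 ^ n := by ring
    rcases Nat.mod_two_eq_zero_or_one m with h | h
    · have hk : 0 < m / 2 := by omega
      have h2 : (m - 1) / 2 = m / 2 - 1 := by omega
      have h3 : (m - 1) % 2 = 1 := by omega
      have ih := popb_clear n (m / 2) hk (by omega)
      rw [hmod, h, h3, h2]
      simp only [Nat.zero_and]
      omega
    · have h2 : (m - 1) / 2 = m / 2 := by omega
      have h3 : (m - 1) % 2 = 0 := by omega
      rw [hmod, h, h3, h2, Nat.and_self]
      simp only [Nat.and_zero]
      omega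

theorem pcA_eq : ∀ f n m : ℕ, m < 2 ^ n → popb n m ≤ f → pcA f m = popb n m
  | 0, n, m, _, h => by
    unfold pcA
    omega
  | (f+1), n, m, hlt, h => by
    unfold pcA
    by_cases hm : m = 0
    · subst hm
      rw [popb_zero]
      rfl
    · have hb : Nat.beq m 0 = false := by
        rw [← Bool.not_eq_true, Nat.beq_eq]
        exact hm
      rw [hb, cond_false]
      have hc := popb_clear n m (by omega) hlt
      have hle : m &&& (m - 1) ≤ m := Nat.and_le_left
      have := pcA_eq f n (m &&& (m - 1)) (by omega) (by omega)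
      show Nat.succ (pcA f (m &&& (m - 1))) = popb n m
      rw [this]
      omega

theorem pc_eq_card {m : ℕ} (h : m < 65536) : pc m = (toFin 16 m).card := by
  unfold pc
  rw [pcA_eq 17 16 m h (by have := popb_le 16 m; omega), popb_eq_card]

/-! ### the primitives -/

theorem tb_eq (q a : ℕ) : tb q a = q.testBit a := by
  unfold tb Nat.testBit
  show Nat.beq (q >>> a &&& 1) 1 = (1 &&& q >>> a != 0)
  rw [Nat.and_comm 1]
  rcases Nat.mod_two_eq_zero_or_one (q >>> a) with h | h
  · rw [Nat.and_one_is_mod, h]
    rfl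
  · rw [Nat.and_one_is_mod, h]
    rfl

theorem has_iff (a b q : ℕ) : has a b q = true ↔ q.testBit a = true ∧ q.testBit b = true := by
  unfold has
  rw [Bool.and_eq_true, tb_eq, tb_eq]

theorem dj_iff (q q' : ℕ) : dj q q' = true ↔ q &&& q' = 0 := by
  unfold dj
  rw [Nat.beq_eq]
  rfl

theorem is1_iff (x : ℕ) : is1 x = true ↔ pc x = 1 := by
  unfold is1
  split <;> simp_all

theorem is02_iff (x : ℕ) : is02 x = true ↔ pc x = 0 ∨ pc x = 2 := by
  unfold is02
  split <;> simp_all

end Cfsg.Agent.Lib.Helper1.SRG77
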