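import Cfsg.Agent.Lib.Helper1.SRG77f

/-!
# The local structure of a strongly regular graph with parameters `(77, 16, 0, 4)`:
the search is exhaustive
-/

set_option autoImplicit false
set_option linter.unusedSectionVars false
set_option linter.unusedSimpArgs false

namespace Cfsg.Agent.Lib.Helper1.SRG77

open Cfsg.Agent.Lib.Helper1.Stein
open scoped Classical

noncomputable section

/-- the family of classes coded by a list of lists -/
def famOf (s : List (List ℕ)) : Finset (Finset ℕ) := (s.map List.toFinset).toFinset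

theorem mem_famOf (s : List (List ℕ)) (K : Finset ℕ) :
    K ∈ famOf s ↔ ∃ Kl ∈ s, Kl.toFinset = K := by
  unfold famOf
  rw [List.mem_toFinset, List.mem_map]

/-- a class covers a pair of cells -/
def coversF (a b : ℕ) (K : Finset ℕ) : Prop := ∃ q ∈ K, q.testBit a = true ∧ q.testBit b = true

/-- the properties of the family of classes of a graph -/
structure ValidFam (F : Finset (Finset ℕ)) : Prop where
  rows : rowsL.toFinset ∈ F
  cols : colsL.toFinset ∈ F
  quad : ∀ K ∈ F, ∀ q ∈ K, q < 65536 ∧ pc q = 4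
  card : ∀ K ∈ F, K.card = 4
  disj : ∀ K ∈ F, ∀ q ∈ K, ∀ q' ∈ K, q ≠ q' → q &&& q' = 0
  rel : ∀ K ∈ F, ∀ K' ∈ F, K ≠ K' →
    (∀ q ∈ K, ∀ q' ∈ K', pc (q &&& q') = 1) ∨
    (∀ q ∈ K, ∀ q' ∈ K', pc (q &&& q') = 0 ∨ pc (q &&& q') = 2)
  cover : ∀ a b, a < b → b < 16 → (F.filter (coversF a b)).card = 3
  tri : ∀ K1 ∈ F, ∀ K2 ∈ F, ∀ K3 ∈ F, K1 ≠ K2 → K1 ≠ K3 → K2 ≠ K3 →
    ∀ q1 ∈ K1, ∀ q2 ∈ K2, ∀ q3 ∈ K3, ¬ (q1 &&& q2 = 0 ∧ q1 &&& q3 = 0 ∧ q2 &&& q3 = 0)

theorem covers_iff (a b : ℕ) (Kl : List ℕ) : covers a b Kl = true ↔ coversF a b Kl.toFinset := by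
  unfold covers coversF
  rw [List.any_eq_true]
  constructor
  · rintro ⟨q, hq, h⟩
    exact ⟨q, List.mem_toFinset.mpr hq, (has_iff a b q).mp h⟩
  · rintro ⟨q, hq, h⟩
    exact ⟨q, List.mem_toFinset.mp hq, (has_iff a b q).mpr h⟩

theorem mem_pairs (a b : ℕ) : (a, b) ∈ pairs ↔ a < b ∧ b < 16 := by
  unfold pairs
  simp only [List.mem_flatMap, List.mem_range, List.mem_map, List.mem_filter, Prod.mk.injEq]
  constructor
  · rintro ⟨a', ha', b', ⟨hb', hlt⟩, rfl, rfl⟩
    rw [Nat.blt_eq] at hlt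
    exact ⟨hlt, hb'⟩
  · rintro ⟨h1, h2⟩
    refine ⟨a, by omega, b, ⟨h2, ?_⟩, rfl, rfl⟩
    rw [Nat.blt_eq]
    exact h1

theorem dropWhile_nil_spec {α : Type*} (P : α → Bool) :
    ∀ l : List α, l.dropWhile P = [] → ∀ x ∈ l, P x = true
  | [], _, x, hx => by simp at hx
  | (y :: l), h, x, hx => by
    rw [List.dropWhile_cons] at h
    by_cases hy : P y = true
    · rw [if_pos hy] at h
      rw [List.mem_cons] at hx
      rcases hx with rfl | hx
      · exact hy
      · exact dropWhile_nil_spec P l h x hx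
    · rw [if_neg hy] at h
      simp at h

theorem dropWhile_cons_spec {α : Type*} (P : α → Bool) (a : α) (t : List α) :
    ∀ l : List α, l.dropWhile P = a :: t →
      P a = false ∧ (∀ x ∈ l, x ∈ a :: t ∨ P x = true) ∧ (∀ x ∈ a :: t, x ∈ l)
  | [], h => by simp at h
  | (y :: l), h => by
    rw [List.dropWhile_cons] at h
    by_cases hy : P y = true
    · rw [if_pos hy] at h
      obtain ⟨h1, h2, h3⟩ := dropWhile_cons_spec P a t l h
      refine ⟨h1, ?_, ?_⟩
      · intro x hx
        rw [List.mem_cons] at hx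
        rcases hx with rfl | hx
        · exact Or.inr hy
        · exact h2 x hx
      · intro x hx
        exact List.mem_cons_of_mem _ (h3 x hx)
    · rw [if_neg hy] at h
      rw [List.cons.injEq] at h
      obtain ⟨rfl, rfl⟩ := h
      refine ⟨by simpa using hy, ?_, ?_⟩
      · intro x hx
        exact Or.inl hx
      · intro x hx
        exact hx

theorem inL_iff (L : List (List ℕ)) (q : ℕ) : inL L q = true ↔ ∃ K ∈ L, q ∈ K := by
  unfold inL
  rw [List.any_eq_true]
  constructor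
  · rintro ⟨K, hK, h⟩
    rw [List.any_eq_true] at h
    obtain ⟨x, hx, hxq⟩ := h
    rw [Nat.beq_eq] at hxq
    exact ⟨K, hK, hxq ▸ hx⟩
  · rintro ⟨K, hK, h⟩
    refine ⟨K, hK, ?_⟩
    rw [List.any_eq_true]
    exact ⟨q, h, by rw [Nat.beq_eq]⟩

theorem sameSet_spec (K K' : List ℕ) (h : sameSet K K' = true) : K.toFinset = K'.toFinset := by
  unfold sameSet at h
  rw [Bool.and_eq_true, List.all_eq_true, List.all_eq_true] at h
  ext q
  rw [List.mem_toFinset, List.mem_toFinset]
  constructor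
  · intro hq
    have := h.1 q hq
    rw [List.any_eq_true] at this
    obtain ⟨x, hx, hxq⟩ := this
    rw [Nat.beq_eq] at hxq
    exact hxq ▸ hx
  · intro hq
    have := h.2 q hq
    rw [List.any_eq_true] at this
    obtain ⟨x, hx, hxq⟩ := this
    rw [Nat.beq_eq] at hxq
    exact hxq ▸ hx

theorem sameFam_spec (s L : List (List ℕ)) (h : sameFam s L = true) : famOf s = famOf L := by
  unfold sameFam at h
  rw [Bool.and_eq_true, List.all_eq_true, List.all_eq_true] at h
  ext K
  rw [mem_famOf, mem_famOf]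
  constructor
  · rintro ⟨Ks, hKs, rfl⟩
    have := h.1 Ks hKs
    rw [List.any_eq_true] at this
    obtain ⟨Kl, hKl, hs⟩ := this
    exact ⟨Kl, hKl, (sameSet_spec Ks Kl hs).symm⟩
  · rintro ⟨Kl, hKl, rfl⟩
    have := h.2 Kl hKl
    rw [List.any_eq_true] at this
    obtain ⟨Ks, hKs, hs⟩ := this
    exact ⟨Ks, hKs, (sameSet_spec Kl Ks hs).symm⟩

theorem isSol_spec (L : List (List ℕ)) (h : isSol L = true) : ∃ s ∈ sols, famOf s = famOf L := by
  unfold isSol at h
  rw [List.any_eq_true] at h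
  obtain ⟨s, hs, h'⟩ := h
  exact ⟨s, hs, sameFam_spec s L h'⟩

/-- the invariant of the search -/
structure Inv (F : Finset (Finset ℕ)) (L : List (List ℕ)) (cd : List ℕ)
    (rest : List (ℕ × ℕ)) : Prop where
  mem : ∀ K ∈ L, K.toFinset ∈ F
  nodup : (L.map List.toFinset).Nodup
  hcd : ∀ K ∈ F, K ∉ L.map List.toFinset → ∀ q ∈ K, q ∈ cd
  hrest : ∀ p ∈ pairs, p ∈ rest ∨ 3 ≤ covL L p.1 p.2
  hsub : ∀ p ∈ rest, p ∈ pairs

variable {F : Finset (Finset ℕ)} {L : List (List ℕ)} {cd : List ℕ} {rest : List (ℕ × ℕ)}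

/-- the chosen classes covering a pair -/
def covSet (L : List (List ℕ)) (a b : ℕ) : Finset (Finset ℕ) :=
  ((L.filter (covers a b)).map List.toFinset).toFinset

theorem covSet_card (hI : Inv F L cd rest) (a b : ℕ) : (covSet L a b).card = covL L a b := by
  unfold covSet covL
  rw [List.toFinset_card_of_nodup, List.length_map]
  exact hI.nodup.sublist (List.filter_sublist.map _)

theorem covSet_sub (hI : Inv F L cd rest) (a b : ℕ) :
    covSet L a b ⊆ F.filter (coversF a b) := by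
  intro K hK
  unfold covSet at hK
  rw [List.mem_toFinset, List.mem_map] at hK
  obtain ⟨Kl, hKl, rfl⟩ := hK
  rw [List.mem_filter] at hKl
  rw [Finset.mem_filter]
  exact ⟨hI.mem Kl hKl.1, (covers_iff a b Kl).mp hKl.2⟩

theorem covSet_mem (a b : ℕ) {K : Finset ℕ} (hK : K ∈ covSet L a b) :
    K ∈ L.map List.toFinset := by
  unfold covSet at hK
  rw [List.mem_toFinset, List.mem_map] at hK
  obtain ⟨Kl, hKl, rfl⟩ := hK
  exact List.mem_map.mpr ⟨Kl, (List.mem_filter.mp hKl).1, rfl⟩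

theorem exists_new (hF : ValidFam F) (hI : Inv F L cd rest) {a b : ℕ} (hab : a < b) (hb : b < 16)
    (hlt : covL L a b < 3) : ∃ K ∈ F, coversF a b K ∧ K ∉ L.map List.toFinset := by
  by_contra hcon
  push Not at hcon
  have hsub : F.filter (coversF a b) ⊆ covSet L a b := by
    intro K hK
    rw [Finset.mem_filter] at hK
    have := hcon K hK.1 hK.2
    rw [List.mem_map] at this
    obtain ⟨Kl, hKl, rfl⟩ := this
    unfold covSet
    rw [List.mem_toFinset, List.mem_map]
    exact ⟨Kl, List.mem_filter.mpr ⟨hKl, (covers_iff a b Kl).mpr hK.2⟩, rfl⟩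
  have h1 := Finset.card_le_card hsub
  rw [hF.cover a b hab hb, covSet_card hI] at h1
  omega

theorem exists_bits {q : ℕ} (hq : q < 65536) (h4 : pc q = 4) :
    ∃ a b : ℕ, a < b ∧ b < 16 ∧ q.testBit a = true ∧ q.testBit b = true := by
  rw [pc_eq_card hq] at h4
  have h1 : 1 < (toFin 16 q).card := by omega
  rw [Finset.one_lt_card] at h1
  obtain ⟨a, ha, b, hb, hab⟩ := h1
  rw [mem_toFin] at ha hb
  rcases lt_or_gt_of_ne hab with h | h
  · exact ⟨a, b, h, b.2, ha, hb⟩
  · exact ⟨b, a, h, a.2, hb, ha⟩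

theorem fam_eq (hF : ValidFam F) (hI : Inv F L cd rest)
    (hall : ∀ p ∈ pairs, 3 ≤ covL L p.1 p.2) : F = famOf L := by
  ext K
  rw [mem_famOf]
  constructor
  · intro hK
    by_contra hcon
    have hKL : K ∉ L.map List.toFinset := by
      rw [List.mem_map]
      exact hcon
    obtain ⟨q, hq⟩ : K.Nonempty := by
      rw [← Finset.card_pos, hF.card K hK]
      norm_num
    obtain ⟨hq1, hq2⟩ := hF.quad K hK q hq
    obtain ⟨a, b, hab, hb, ha', hb'⟩ := exists_bits hq1 hq2
    have h3 := hall (a, b) ((mem_pairs a b).mpr ⟨hab, hb⟩)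
    have hsub : insert K (covSet L a b) ⊆ F.filter (coversF a b) := by
      intro K' hK'
      rw [Finset.mem_insert] at hK'
      rcases hK' with rfl | hK'
      · rw [Finset.mem_filter]
        exact ⟨hK, q, hq, ha', hb'⟩
      · exact covSet_sub hI a b hK'
    have h1 := Finset.card_le_card hsub
    rw [hF.cover a b hab hb, Finset.card_insert_of_notMem, covSet_card hI] at h1
    · simp only at h3
      omega
    · intro h
      exact hKL (covSet_mem a b h)
  · rintro ⟨Kl, hKl, rfl⟩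
    exact hI.mem Kl hKl

theorem mem_mates (L : List (List ℕ)) (cd : List ℕ) (q0 m1 m2 m3 : ℕ)
    (h1 : m1 ∈ cd) (h2 : m2 ∈ cd) (h3 : m3 ∈ cd)
    (d1 : dj q0 m1 = true) (d2 : dj q0 m2 = true) (d3 : dj q0 m3 = true)
    (s1 : sameType L q0 m1 = true) (s2 : sameType L q0 m2 = true) (s3 : sameType L q0 m3 = true)
    (d12 : dj m1 m2 = true) (d13 : dj m1 m3 = true) (d23 : dj m2 m3 = true)
    (l12 : m1 < m2) (l23 : m2 < m3) : [m1, m2, m3] ∈ mates L cd q0 := by
  unfold mates
  simp only [List.mem_flatMap, List.mem_map, List.mem_filter, Bool.and_eq_true, Nat.blt_eq]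
  refine ⟨m1, ⟨h1, d1, s1⟩, m2, ⟨⟨h2, d2, s2⟩, d12, l12⟩, m3, ⟨⟨⟨h3, d3, s3⟩, d13, ?_⟩, d23, l23⟩, rfl⟩
  omega


theorem covL_cons_le (Kl : List ℕ) (L : List (List ℕ)) (a b : ℕ) :
    covL L a b ≤ covL (Kl :: L) a b := by
  unfold covL
  rw [List.filter_cons]
  split
  · simp
  · exact le_refl _

theorem ne_of_new {Ks : Finset ℕ} (hnew : Ks ∉ L.map List.toFinset) {K : List ℕ} (hK : K ∈ L) :
    Ks ≠ K.toFinset := by
  intro h
  apply hnew
  rw [h]
  exact List.mem_map.mpr ⟨K, hK, rfl⟩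

theorem sameType_of_rel (hF : ValidFam F) (hI : Inv F L cd rest) {Ks : Finset ℕ} (hKs : Ks ∈ F)
    (hnew : Ks ∉ L.map List.toFinset) {q q' : ℕ} (hq : q ∈ Ks) (hq' : q' ∈ Ks) :
    sameType L q q' = true := by
  unfold sameType
  rw [List.all_eq_true]
  intro K hK
  have hKF := hI.mem K hK
  have hne : Ks ≠ K.toFinset := ne_of_new hnew hK
  have hhd : K.headD 0 ∈ K.toFinset := by
    cases K with
    | nil =>
      have := hF.card _ hKF
      simp at this
    | cons x t => simp
  rcases hF.rel Ks hKs K.toFinset hKF hne with h | h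
  · have h1 := (is1_iff _).mpr (h q hq _ hhd)
    have h2 := (is1_iff _).mpr (h q' hq' _ hhd)
    show (is1 (q &&& K.headD 0) == is1 (q' &&& K.headD 0)) = true
    rw [h1, h2]
    rfl
  · have h1 : is1 (q &&& K.headD 0) = false := by
      rw [Bool.eq_false_iff]
      intro hc
      rw [is1_iff] at hc
      rcases h q hq _ hhd with h0 | h0 <;> omega
    have h2 : is1 (q' &&& K.headD 0) = false := by
      rw [Bool.eq_false_iff]
      intro hc
      rw [is1_iff] at hc
      rcases h q' hq' _ hhd with h0 | h0 <;> omega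
    show (is1 (q &&& K.headD 0) == is1 (q' &&& K.headD 0)) = true
    rw [h1, h2]
    rfl

theorem lineOK_of_rel (hF : ValidFam F) {K Ks : Finset ℕ} (hK : K ∈ F) (hKs : Ks ∈ F)
    (hne : K ≠ Ks) {Kl : List ℕ} (hKl : Kl.toFinset = Ks) {q : ℕ} (hq : q ∈ K) :
    lineOK Kl q = true := by
  unfold lineOK
  rw [Bool.or_eq_true, List.all_eq_true, List.all_eq_true]
  rcases hF.rel K hK Ks hKs hne with h | h
  · left
    intro l hl
    exact (is1_iff _).mpr (h q hq l (hKl ▸ List.mem_toFinset.mpr hl))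
  · right
    intro l hl
    exact (is02_iff _).mpr (h q hq l (hKl ▸ List.mem_toFinset.mpr hl))

theorem not_inL_of_new (hF : ValidFam F) (hI : Inv F L cd rest) {Ks : Finset ℕ} (hKs : Ks ∈ F)
    (hnew : Ks ∉ L.map List.toFinset) {q : ℕ} (hq : q ∈ Ks) : inL L q = false := by
  rw [Bool.eq_false_iff]
  intro hc
  rw [inL_iff] at hc
  obtain ⟨K, hK, hqK⟩ := hc
  have hKF := hI.mem K hK
  have hne : Ks ≠ K.toFinset := ne_of_new hnew hK
  have h4 := (hF.quad Ks hKs q hq).2
  have hqq : q &&& q = q := Nat.and_self q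
  rcases hF.rel Ks hKs K.toFinset hKF hne with h | h
  · have := h q hq q (List.mem_toFinset.mpr hqK)
    rw [hqq] at this
    omega
  · have := h q hq q (List.mem_toFinset.mpr hqK)
    rw [hqq] at this
    omega

theorem exists_ext (hF : ValidFam F) (hI : Inv F L cd rest) {a b : ℕ} {Ks : Finset ℕ}
    (hKs : Ks ∈ F) (hcov : coversF a b Ks) (hnew : Ks ∉ L.map List.toFinset) :
    ∃ Kl ∈ extensions L cd a b, Kl.toFinset = Ks := by
  obtain ⟨q0, hq0, ha, hb⟩ := hcov
  have hc3 : (Ks.erase q0).card = 3 := by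
    rw [Finset.card_erase_of_mem hq0, hF.card Ks hKs]
  obtain ⟨e, he⟩ : ∃ e : Fin 3 ↪o ℕ, e = (Ks.erase q0).orderEmbOfFin hc3 := ⟨_, rfl⟩
  have hmem : ∀ i, e i ∈ Ks.erase q0 := fun i => by
    rw [he]
    exact Finset.orderEmbOfFin_mem _ hc3 i
  have hmemK : ∀ i, e i ∈ Ks := fun i => Finset.mem_of_mem_erase (hmem i)
  have hneq : ∀ i, q0 ≠ e i := fun i => (Finset.ne_of_mem_erase (hmem i)).symm
  have h01 : e 0 < e 1 := e.strictMono (by decide)
  have h12 : e 1 < e 2 := e.strictMono (by decide)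
  have hdj : ∀ x ∈ Ks, ∀ y ∈ Ks, x ≠ y → dj x y = true := fun x hx y hy hxy =>
    (dj_iff x y).mpr (hF.disj Ks hKs x hx y hy hxy)
  have hcdm : ∀ x ∈ Ks, x ∈ cd := fun x hx => hI.hcd Ks hKs hnew x hx
  refine ⟨[q0, e 0, e 1, e 2], ?_, ?_⟩
  · unfold extensions
    rw [List.mem_flatMap]
    refine ⟨q0, ?_, ?_⟩
    · rw [List.mem_filter]
      refine ⟨hcdm q0 hq0, ?_⟩
      rw [Bool.and_eq_true, has_iff a b q0]
      refine ⟨⟨ha, hb⟩, ?_⟩
      rw [not_inL_of_new hF hI hKs hnew hq0]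
      rfl
    · rw [List.mem_map]
      refine ⟨[e 0, e 1, e 2], ?_, rfl⟩
      apply mem_mates
      · exact hcdm _ (hmemK 0)
      · exact hcdm _ (hmemK 1)
      · exact hcdm _ (hmemK 2)
      · exact hdj _ hq0 _ (hmemK 0) (hneq 0)
      · exact hdj _ hq0 _ (hmemK 1) (hneq 1)
      · exact hdj _ hq0 _ (hmemK 2) (hneq 2)
      · exact sameType_of_rel hF hI hKs hnew hq0 (hmemK 0)
      · exact sameType_of_rel hF hI hKs hnew hq0 (hmemK 1)
      · exact sameType_of_rel hF hI hKs hnew hq0 (hmemK 2)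
      · exact hdj _ (hmemK 0) _ (hmemK 1) (by omega)
      · exact hdj _ (hmemK 0) _ (hmemK 2) (by omega)
      · exact hdj _ (hmemK 1) _ (hmemK 2) (by omega)
      · exact h01
      · exact h12
  · ext x
    simp only [List.toFinset_cons, List.toFinset_nil, Finset.mem_insert, Finset.notMem_empty,
      or_false]
    constructor
    · rintro (rfl | rfl | rfl | rfl)
      · exact hq0
      · exact hmemK 0
      · exact hmemK 1
      · exact hmemK 2
    · intro hx
      by_cases hxq : x = q0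
      · left
        exact hxq
      · have hx' : x ∈ Ks.erase q0 := Finset.mem_erase.mpr ⟨hxq, hx⟩
        have hr := Finset.range_orderEmbOfFin (Ks.erase q0) hc3
        have hx'' : x ∈ Set.range e := by
          rw [he, hr]
          exact hx'
        obtain ⟨i, rfl⟩ := hx''
        fin_cases i
        · right; left; rfl
        · right; right; left; rfl
        · right; right; right; rfl

theorem triOK_of_new (hF : ValidFam F) (hI : Inv F L cd rest) {Ks : Finset ℕ} (hKs : Ks ∈ F)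
    (hnew : Ks ∉ L.map List.toFinset) {Kl : List ℕ} (hKl : Kl.toFinset = Ks) :
    triOK L Kl = true := by
  unfold triOK
  rw [List.all_eq_true]
  intro q hq
  simp only
  rw [List.all_eq_true]
  intro p1 hp1
  rw [List.all_eq_true]
  intro p2 hp2
  rw [List.mem_flatMap] at hp1 hp2
  obtain ⟨K1, hK1, hp1⟩ := hp1
  obtain ⟨K2, hK2, hp2⟩ := hp2
  rw [List.mem_map] at hp1 hp2
  obtain ⟨q1, hq1, rfl⟩ := hp1
  obtain ⟨q2, hq2, rfl⟩ := hp2
  rw [List.mem_filter] at hq1 hq2
  show (!(dj q1 q2) || K1.any (fun x => Nat.beq x q2)) = true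
  cases hd : dj q1 q2 with
  | false => rfl
  | true =>
    rw [Bool.not_true, Bool.false_or]
    by_contra hcon
    have hq2K1 : q2 ∉ K1 := by
      intro hmem
      apply hcon
      rw [List.any_eq_true]
      exact ⟨q2, hmem, by rw [Nat.beq_eq]⟩
    have hne12 : K1.toFinset ≠ K2.toFinset := by
      intro h
      apply hq2K1
      rw [← List.mem_toFinset, h, List.mem_toFinset]
      exact hq2.1
    have hqK : q ∈ Ks := by
      rw [← hKl, List.mem_toFinset]
      exact hq
    exact hF.tri Ks hKs K1.toFinset (hI.mem K1 hK1) K2.toFinset (hI.mem K2 hK2)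
      (ne_of_new hnew hK1) (ne_of_new hnew hK2) hne12 q hqK q1 (List.mem_toFinset.mpr hq1.1)
      q2 (List.mem_toFinset.mpr hq2.1)
      ⟨(dj_iff _ _).mp hq1.2, (dj_iff _ _).mp hq2.2, (dj_iff _ _).mp hd⟩

theorem inv_step (hF : ValidFam F) (hI : Inv F L cd rest) {Ks : Finset ℕ} (hKs : Ks ∈ F)
    (hnew : Ks ∉ L.map List.toFinset) {Kl : List ℕ} (hKl : Kl.toFinset = Ks) {p : ℕ × ℕ}
    {rest' : List (ℕ × ℕ)}
    (hdw : rest.dropWhile (fun p => Nat.ble 3 (covL L p.1 p.2)) = p :: rest') :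
    Inv F (Kl :: L) (cd.filter (lineOK Kl)) (p :: rest') := by
  obtain ⟨hP, h2, h3⟩ := dropWhile_cons_spec _ p rest' rest hdw
  refine ⟨?_, ?_, ?_, ?_, ?_⟩
  · intro K hK
    rw [List.mem_cons] at hK
    rcases hK with rfl | hK
    · rw [hKl]
      exact hKs
    · exact hI.mem K hK
  · rw [List.map_cons, List.nodup_cons, hKl]
    exact ⟨hnew, hI.nodup⟩
  · intro K hK hKn q hq
    rw [List.map_cons, List.mem_cons, not_or, hKl] at hKn
    rw [List.mem_filter]
    exact ⟨hI.hcd K hK hKn.2 q hq, lineOK_of_rel hF hK hKs hKn.1 hKl hq⟩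
  · intro p' hp'
    rcases hI.hrest p' hp' with h | h
    · rcases h2 p' h with h' | h'
      · left
        exact h'
      · right
        have h'' : 3 ≤ covL L p'.1 p'.2 := Nat.le_of_ble_eq_true h'
        exact le_trans h'' (covL_cons_le Kl L _ _)
    · right
      exact le_trans h (covL_cons_le Kl L _ _)
  · intro p' hp'
    exact hI.hsub p' (h3 p' hp')

theorem dfs_sound (hF : ValidFam F) : ∀ (n : ℕ) (L : List (List ℕ)) (cd : List ℕ)
    (rest : List (ℕ × ℕ)), dfs n L cd rest = true → Inv F L cd rest → ∃ s ∈ sols, F = famOf s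
  | 0, _, _, _, h, _ => by
    unfold dfs at h
    exact absurd h (by simp)
  | (n+1), L, cd, rest, h, hI => by
    unfold dfs at h
    split at h
    · rename_i hdw
      have hall : ∀ p ∈ pairs, 3 ≤ covL L p.1 p.2 := by
        intro p hp
        rcases hI.hrest p hp with h' | h'
        · exact Nat.le_of_ble_eq_true (dropWhile_nil_spec _ rest hdw p h')
        · exact h'
      obtain ⟨s, hs, he⟩ := isSol_spec L h
      exact ⟨s, hs, (fam_eq hF hI hall).trans he.symm⟩
    · rename_i p rest' hdw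
      obtain ⟨hP, h2, h3⟩ := dropWhile_cons_spec _ p rest' rest hdw
      have hpp : p ∈ pairs := hI.hsub p (h3 p (List.mem_cons_self))
      have hab := (mem_pairs p.1 p.2).mp hpp
      have hlt : covL L p.1 p.2 < 3 := by
        by_contra hge
        push Not at hge
        have : Nat.ble 3 (covL L p.1 p.2) = true := Nat.ble_eq_true_of_le hge
        rw [this] at hP
        exact absurd hP (by simp)
      obtain ⟨Ks, hKs, hcov, hnew⟩ := exists_new hF hI hab.1 hab.2 hlt
      obtain ⟨Kl, hKlm, hKl⟩ := exists_ext hF hI hKs hcov hnew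
      rw [List.all_eq_true] at h
      have h' := h Kl hKlm
      rw [triOK_of_new hF hI hKs hnew hKl, Bool.not_true, Bool.false_or] at h'
      exact dfs_sound hF n _ _ _ h' (inv_step hF hI hKs hnew hKl hdw)

end

end Cfsg.Agent.Lib.Helper1.SRG77
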