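import Cfsg.Agent.Lib.Helper1.SRG77p0

/-!
# The local structure of a strongly regular graph with parameters `(77, 16, 0, 4)`:
a large branch of the search
-/

set_option autoImplicit false

namespace Cfsg.Agent.Lib.Helper1.SRG77

set_option maxRecDepth 1000000 in
set_option maxHeartbeats 0 in
theorem heavy2 : branchF [195, 60, 15360, 49920] = true := by decide +kernel

end Cfsg.Agent.Lib.Helper1.SRG77
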