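import Cfsg.Agent.Lib.Helper1.SRG77p1
import Cfsg.Agent.Lib.Helper1.SRG77p2
import Cfsg.Agent.Lib.Helper1.SRG77p3
import Cfsg.Agent.Lib.Helper1.SRG77p4
import Cfsg.Agent.Lib.Helper1.SRG77p5
import Cfsg.Agent.Lib.Helper1.SRG77p6

/-!
# The local structure of a strongly regular graph with parameters `(77, 16, 0, 4)`: the search runs
-/

set_option autoImplicit false

namespace Cfsg.Agent.Lib.Helper1.SRG77

theorem dfs_unfold (n : ℕ) (L : List (List ℕ)) (cd : List ℕ) (rest : List (ℕ × ℕ)) (p : ℕ × ℕ)
    (rest' : List (ℕ × ℕ))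
    (h : rest.dropWhile (fun p => Nat.ble 3 (covL L p.1 p.2)) = p :: rest') :
    dfs (n+1) L cd rest = (extensions L cd p.1 p.2).all
      (fun K => !(triOK L K) || dfs n (K :: L) (cd.filter (lineOK K)) (p :: rest')) := by
  rw [dfs, h]

set_option maxRecDepth 1000000 in
theorem hdw0 :
    pairs.dropWhile (fun p => Nat.ble 3 (covL L0 p.1 p.2)) = (0, 1) :: pairs.tail := by
  decide +kernel

set_option maxRecDepth 1000000 in
theorem pairs_eq : (0, 1) :: pairs.tail = pairs := by decide +kernel

set_option maxRecDepth 1000000 in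
set_option maxHeartbeats 0 in
theorem light :
    (extensions L0 cand 0 1).all (fun K => decide (K ∈ heavyL) || branchF K) = true := by
  decide +kernel

theorem branch_all (K : List ℕ) (hK : K ∈ extensions L0 cand 0 1) : branchF K = true := by
  have h := light
  rw [List.all_eq_true] at h
  have h1 := h K hK
  rw [Bool.or_eq_true, decide_eq_true_eq] at h1
  rcases h1 with h1 | h1
  · unfold heavyL at h1
    simp only [List.mem_cons, List.not_mem_nil, or_false] at h1
    rcases h1 with rfl | rfl | rfl | rfl | rfl | rfl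
    · exact heavy1
    · exact heavy2
    · exact heavy3
    · exact heavy4
    · exact heavy5
    · exact heavy6
  · exact h1

theorem dfs_ok : dfs 14 [rowsL, colsL] cand pairs = true := by
  have h : dfs 14 L0 cand pairs = (extensions L0 cand 0 1).all
      (fun K => !(triOK L0 K) || dfs 13 (K :: L0) (cand.filter (lineOK K))
        ((0, 1) :: pairs.tail)) := dfs_unfold 13 L0 cand pairs (0, 1) pairs.tail hdw0
  rw [pairs_eq] at h
  show dfs 14 L0 cand pairs = true
  rw [h, List.all_eq_true]
  intro K hK
  exact branch_all K hK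

end Cfsg.Agent.Lib.Helper1.SRG77
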