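import Cfsg.Agent.Lib.Helper1.SRG77f

/-!
# The local structure of a strongly regular graph with parameters `(77, 16, 0, 4)`:
the list of candidate quads is complete
-/

set_option autoImplicit false

namespace Cfsg.Agent.Lib.Helper1.SRG77

/-- the check that a mask which looks like a quad is in the list -/
def candChk (q : ℕ) : Bool :=
  bif Nat.beq (pc q) 4 then
    (bif lineOK rowsL q && lineOK colsL q then cand.any (fun x => Nat.beq x q) else true)
  else true

set_option maxRecDepth 1000000 in
set_option maxHeartbeats 0 in
theorem cand_all : (List.range 65536).all candChk = true := by decide +kernel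

theorem cand_complete {q : ℕ} (hq : q < 65536) (h4 : pc q = 4) (hr : lineOK rowsL q = true)
    (hc : lineOK colsL q = true) : q ∈ cand := by
  have h := cand_all
  rw [List.all_eq_true] at h
  have h1 := h q (List.mem_range.mpr hq)
  unfold candChk at h1
  rw [h4, hr, hc] at h1
  have h2 : cand.any (fun x => Nat.beq x q) = true := h1
  rw [List.any_eq_true] at h2
  obtain ⟨x, hx, hxq⟩ := h2
  rw [Nat.beq_eq] at hxq
  exact hxq ▸ hx

end Cfsg.Agent.Lib.Helper1.SRG77
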