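import Cfsg.Agent.Lib.Helper1.SRG77g
import Cfsg.Agent.Lib.Helper1.SRG77k
import Cfsg.Agent.Lib.Helper1.SRG77k2

/-!
# The local structure of a strongly regular graph with parameters `(77, 16, 0, 4)`:
the six families
-/

set_option autoImplicit false
set_option linter.unusedSectionVars false
set_option linter.unusedSimpArgs false

namespace Cfsg.Agent.Lib.Helper1.SRG77

open Cfsg.Agent.Lib.Helper1.Stein
open scoped Classical

noncomputable section

variable {F : Finset (Finset ℕ)}

theorem rows_ne_cols : rowsL.toFinset ≠ colsL.toFinset := by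
  intro h
  have h1 : (15 : ℕ) ∈ rowsL.toFinset := by
    rw [List.mem_toFinset]
    unfold rowsL
    simp
  rw [h, List.mem_toFinset] at h1
  unfold colsL at h1
  simp at h1

theorem inv_init (hF : ValidFam F) : Inv F [rowsL, colsL] cand pairs := by
  refine ⟨?_, ?_, ?_, ?_, ?_⟩
  · intro K hK
    rw [List.mem_cons, List.mem_singleton] at hK
    rcases hK with rfl | rfl
    · exact hF.rows
    · exact hF.cols
  · rw [List.map_cons, List.map_cons, List.map_nil, List.nodup_cons, List.mem_singleton]
    exact ⟨rows_ne_cols, List.nodup_singleton _⟩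
  · intro K hK hKn q hq
    rw [List.map_cons, List.map_cons, List.map_nil, List.mem_cons, List.mem_singleton, not_or] at hKn
    obtain ⟨hq1, hq2⟩ := hF.quad K hK q hq
    exact cand_complete hq1 hq2 (lineOK_of_rel hF hK hF.rows hKn.1 rfl hq)
      (lineOK_of_rel hF hK hF.cols hKn.2 rfl hq)
  · intro p hp
    left
    exact hp
  · intro p hp
    exact hp

/-- the classification of the families -/
theorem classify (hF : ValidFam F) : ∃ s ∈ sols, F = famOf s :=
  dfs_sound hF 14 _ _ _ dfs_ok (inv_init hF)

end

end Cfsg.Agent.Lib.Helper1.SRG77
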