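import Cfsg.Agent.Lib.Helper1.SRG77e
import Cfsg.Agent.Lib.Helper1.SRG77f

/-!
# The local structure of a strongly regular graph with parameters `(77, 16, 0, 4)`:
the codes of the vertices
-/

set_option autoImplicit false
set_option linter.unusedSectionVars false
set_option linter.unusedSimpArgs false

namespace Cfsg.Agent.Lib.Helper1.SRG77

open Cfsg.Agent.Lib.Helper1.Stein
open scoped Classical

noncomputable section

theorem toFin_eq_zero {m : ℕ} (hm : m < 65536) (h : toFin 16 m = ∅) : m = 0 := by
  apply Nat.eq_of_testBit_eq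
  intro i
  rw [Nat.zero_testBit]
  by_cases hi : i < 16
  · have : (⟨i, hi⟩ : Fin 16) ∉ toFin 16 m := by
      rw [h]
      exact Finset.notMem_empty _
    rw [mem_toFin] at this
    simpa using this
  · apply Nat.testBit_lt_two_pow
    calc m < 2 ^ 16 := hm
      _ ≤ 2 ^ i := Nat.pow_le_pow_right (by norm_num) (by omega)

theorem ofFin_lt (s : Finset (Fin 16)) : ofFin 16 s < 65536 := by
  unfold ofFin
  exact Nat.ofBits_lt_two_pow _

theorem ofFin_eq_of_testBit {m : ℕ} (hm : m < 65536) (s : Finset (Fin 16))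
    (h : ∀ i : Fin 16, m.testBit i = true ↔ i ∈ s) : ofFin 16 s = m := by
  apply Nat.eq_of_testBit_eq
  intro i
  by_cases hi : i < 16
  · have h1 := testBit_ofFin 16 s ⟨i, hi⟩
    simp only at h1
    rw [h1]
    have h2 := h ⟨i, hi⟩
    simp only at h2
    by_cases hs : (⟨i, hi⟩ : Fin 16) ∈ s
    · rw [decide_eq_true hs, h2.mpr hs]
    · rw [decide_eq_false hs]
      cases hb : m.testBit i with
      | false => rfl
      | true => exact absurd (h2.mp hb) hs
  · rw [testBit_ofFin_ge 16 s i (by omega)]
    symm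
    apply Nat.testBit_lt_two_pow
    calc m < 2 ^ 16 := hm
      _ ≤ 2 ^ i := Nat.pow_le_pow_right (by norm_num) (by omega)

variable {V : Type*} [Fintype V] (G : SimpleGraph V) (hG : Facts G) (v₀ : V) (cell : Fin 16 → V)

/-- the code of a vertex -/
def code (x : V) : ℕ := ofFin 16 (Finset.univ.filter (fun k : Fin 16 => G.Adj x (cell k)))

/-- a labelling of the neighbours of the base vertex -/
structure Frame0 : Prop where
  inj : Function.Injective cell
  adj : ∀ k, G.Adj v₀ (cell k)

theorem code_lt (x : V) : code G cell x < 65536 := ofFin_lt _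

theorem testBit_code (x : V) (k : Fin 16) :
    (code G cell x).testBit k = true ↔ G.Adj x (cell k) := by
  unfold code
  rw [testBit_ofFin]
  simp

theorem testBit_code_ge (x : V) (i : ℕ) (h : 16 ≤ i) : (code G cell x).testBit i = false :=
  testBit_ofFin_ge 16 _ i h

theorem toFin_code (x : V) :
    toFin 16 (code G cell x) = Finset.univ.filter (fun k : Fin 16 => G.Adj x (cell k)) :=
  toFin_ofFin 16 _

variable {G v₀ cell}

include hG in
theorem image_cell (hf : Frame0 G v₀ cell) : Finset.univ.image cell = Nb G v₀ := by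
  apply Finset.eq_of_subset_of_card_le
  · intro a ha
    rw [Finset.mem_image] at ha
    obtain ⟨k, _, rfl⟩ := ha
    exact (mem_Nb G v₀ _).mpr (hf.adj k)
  · rw [hG.deg v₀, Finset.card_image_of_injective _ hf.inj]
    simp

include hG in
theorem exists_cell (hf : Frame0 G v₀ cell) {a : V} (ha : G.Adj v₀ a) : ∃ k, cell k = a := by
  have h : a ∈ Finset.univ.image cell := by
    rw [image_cell hG hf, mem_Nb]
    exact ha
  rw [Finset.mem_image] at h
  obtain ⟨k, _, hk⟩ := h
  exact ⟨k, hk⟩

include hG in
theorem image_toFin_land (hf : Frame0 G v₀ cell) (x x' : V) :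
    (toFin 16 (code G cell x &&& code G cell x')).image cell = Q G v₀ x ∩ Q G v₀ x' := by
  rw [toFin_land, toFin_code, toFin_code]
  ext a
  simp only [Finset.mem_image, Finset.mem_inter, Finset.mem_filter, Finset.mem_univ, true_and,
    mem_Q]
  constructor
  · rintro ⟨k, ⟨h1, h2⟩, rfl⟩
    exact ⟨⟨hf.adj k, h1⟩, ⟨hf.adj k, h2⟩⟩
  · rintro ⟨⟨h0, h1⟩, ⟨_, h2⟩⟩
    obtain ⟨k, rfl⟩ := exists_cell hG hf h0
    exact ⟨k, ⟨h1, h2⟩, rfl⟩

include hG in
theorem pc_land_code (hf : Frame0 G v₀ cell) (x x' : V) :
    pc (code G cell x &&& code G cell x') = (Q G v₀ x ∩ Q G v₀ x').card := by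
  have hlt : code G cell x &&& code G cell x' < 65536 :=
    lt_of_le_of_lt Nat.and_le_left (code_lt G cell x)
  rw [pc_eq_card hlt, ← image_toFin_land hG hf, Finset.card_image_of_injective _ hf.inj]

include hG in
theorem pc_code (hf : Frame0 G v₀ cell) {x : V} (hx : x ∈ X G v₀) : pc (code G cell x) = 4 := by
  have h := pc_land_code hG hf x x
  rw [Nat.and_self, Finset.inter_self, card_Q G hG v₀ hx] at h
  exact h

include hG in
theorem land_eq_zero_iff (hf : Frame0 G v₀ cell) (x x' : V) :
    code G cell x &&& code G cell x' = 0 ↔ Disjoint (Q G v₀ x) (Q G v₀ x') := by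
  have hlt : code G cell x &&& code G cell x' < 65536 :=
    lt_of_le_of_lt Nat.and_le_left (code_lt G cell x)
  rw [disjoint_iff_card G v₀, ← pc_land_code hG hf, pc_eq_card hlt, Finset.card_eq_zero]
  constructor
  · intro h
    rw [h, toFin_zero]
  · intro h
    exact toFin_eq_zero hlt h

include hG in
theorem code_injOn (hf : Frame0 G v₀ cell) : Set.InjOn (code G cell) (X G v₀) := by
  intro x hx x' hx' h
  by_contra hne
  have h1 := inter_le_two G hG v₀ hx hx' hne
  rw [← pc_land_code hG hf, ← h, Nat.and_self, pc_code hG hf hx] at h1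
  omega

end

end Cfsg.Agent.Lib.Helper1.SRG77
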