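import Cfsg.Agent.Lib.Helper1.SRG77l

/-!
# The local structure of a strongly regular graph with parameters `(77, 16, 0, 4)`:
a frame exists
-/

set_option autoImplicit false
set_option linter.unusedSectionVars false
set_option linter.unusedSimpArgs false

namespace Cfsg.Agent.Lib.Helper1.SRG77

open Cfsg.Agent.Lib.Helper1.Stein
open scoped Classical

noncomputable section

/-- the mask of a row -/
def rowM (i : Fin 4) : ℕ := rowsL.getD i.val 0

/-- the mask of a column -/
def colM (j : Fin 4) : ℕ := colsL.getD j.val 0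

theorem rowM_lt : ∀ i : Fin 4, rowM i < 65536 := by decide

theorem colM_lt : ∀ j : Fin 4, colM j < 65536 := by decide

theorem rowM_testBit : ∀ i : Fin 4, ∀ k : Fin 16,
    (rowM i).testBit k.val = true ↔ k.val / 4 = i.val := by decide

theorem colM_testBit : ∀ j : Fin 4, ∀ k : Fin 16,
    (colM j).testBit k.val = true ↔ k.val % 4 = j.val := by decide

theorem image_rowM : Finset.univ.image rowM = rowsL.toFinset := by decide

theorem image_colM : Finset.univ.image colM = colsL.toFinset := by decide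

variable {V : Type*} [Fintype V] (G : SimpleGraph V) (hG : Facts G) (v₀ : V)

theorem exists_enum {s : Finset V} (h : s.card = 4) :
    ∃ r : Fin 4 → V, Function.Injective r ∧ Finset.univ.image r = s := by
  obtain ⟨e⟩ : Nonempty (Fin 4 ≃ s) := ⟨(Finset.equivFinOfCardEq h).symm⟩
  refine ⟨fun i => (e i).1, ?_, ?_⟩
  · intro i j hij
    exact e.injective (Subtype.ext hij)
  · ext a
    rw [Finset.mem_image]
    constructor
    · rintro ⟨i, _, rfl⟩
      exact (e i).2
    · intro ha
      exact ⟨e.symm ⟨a, ha⟩, Finset.mem_univ _, by simp⟩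

include hG in
theorem exists_frame : ∃ cell : Fin 16 → V, Frame G v₀ cell := by
  obtain ⟨y₀, hy₀⟩ : (X G v₀).Nonempty := by
    rw [← Finset.card_pos, card_X G hG v₀]
    norm_num
  obtain ⟨z₀, hz₀, h1⟩ := exists_cross G hG v₀ hy₀
  have hz₀c : z₀ ∉ cls G v₀ y₀ := by
    intro h
    by_cases he : y₀ = z₀
    · rw [← he, Finset.inter_self, card_Q G hG v₀ hy₀] at h1
      omega
    · have := cls_disj G hG v₀ hy₀ (self_mem_cls G v₀ y₀) h he
      rw [disjoint_iff_card] at this
      omega
  have hall : ∀ u ∈ cls G v₀ y₀, ∀ u' ∈ cls G v₀ z₀, (Q G v₀ u ∩ Q G v₀ u').card = 1 := by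
    rcases class_pair G hG v₀ hy₀ hz₀ hz₀c with h | h
    · exact h
    · have := h y₀ (self_mem_cls G v₀ y₀) z₀ (self_mem_cls G v₀ z₀)
      omega
  obtain ⟨r, hr, hrimg⟩ := exists_enum (card_cls G hG v₀ hy₀)
  obtain ⟨c, hc, hcimg⟩ := exists_enum (card_cls G hG v₀ hz₀)
  have hrm : ∀ i, r i ∈ cls G v₀ y₀ := fun i => by
    rw [← hrimg]
    exact Finset.mem_image_of_mem _ (Finset.mem_univ _)
  have hcm : ∀ j, c j ∈ cls G v₀ z₀ := fun j => by
    rw [← hcimg]
    exact Finset.mem_image_of_mem _ (Finset.mem_univ _)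
  have hex : ∀ i j, ∃ a, Q G v₀ (r i) ∩ Q G v₀ (c j) = {a} := fun i j =>
    Finset.card_eq_one.mp (hall _ (hrm i) _ (hcm j))
  choose cf hcf using hex
  have hmem : ∀ i j, cf i j ∈ Q G v₀ (r i) ∧ cf i j ∈ Q G v₀ (c j) := by
    intro i j
    have : cf i j ∈ Q G v₀ (r i) ∩ Q G v₀ (c j) := by
      rw [hcf i j]
      exact Finset.mem_singleton_self _
    exact Finset.mem_inter.mp this
  have hrow : ∀ i i' j', cf i' j' ∈ Q G v₀ (r i) → i = i' := by
    intro i i' j' h
    by_contra hne
    have hne' : r i ≠ r i' := fun h' => hne (hr h')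
    have hd := cls_disj G hG v₀ hy₀ (hrm i) (hrm i') hne'
    rw [Finset.disjoint_left] at hd
    exact hd h (hmem i' j').1
  have hcol : ∀ j i' j', cf i' j' ∈ Q G v₀ (c j) → j = j' := by
    intro j i' j' h
    by_contra hne
    have hne' : c j ≠ c j' := fun h' => hne (hc h')
    have hd := cls_disj G hG v₀ hz₀ (hcm j) (hcm j') hne'
    rw [Finset.disjoint_left] at hd
    exact hd h (hmem i' j').2
  obtain ⟨cell, hcell⟩ : ∃ cell : Fin 16 → V, ∀ k : Fin 16,
      cell k = cf ⟨k.val / 4, by omega⟩ ⟨k.val % 4, by omega⟩ := ⟨_, fun _ => rfl⟩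
  have hf0 : Frame0 G v₀ cell := by
    constructor
    · intro k k' h
      rw [hcell k, hcell k'] at h
      have h1 := hrow ⟨k.val / 4, by omega⟩ ⟨k'.val / 4, by omega⟩ ⟨k'.val % 4, by omega⟩
        (h ▸ (hmem _ _).1)
      have h2 := hcol ⟨k.val % 4, by omega⟩ ⟨k'.val / 4, by omega⟩ ⟨k'.val % 4, by omega⟩
        (h ▸ (hmem _ _).2)
      rw [Fin.mk.injEq] at h1 h2
      apply Fin.ext
      omega
    · intro k
      rw [hcell k]
      exact ((mem_Q G v₀ _ _).mp (hmem _ _).1).1
  have hadjr : ∀ i (k : Fin 16), G.Adj (r i) (cell k) ↔ k.val / 4 = i.val := by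
    intro i k
    constructor
    · intro h
      have hq : cell k ∈ Q G v₀ (r i) := (mem_Q G v₀ _ _).mpr ⟨hf0.adj k, h⟩
      rw [hcell k] at hq
      have := hrow i _ _ hq
      rw [this]
    · intro h
      have hq := (hmem ⟨k.val / 4, by omega⟩ ⟨k.val % 4, by omega⟩).1
      rw [← hcell k] at hq
      have hi : (⟨k.val / 4, by omega⟩ : Fin 4) = i := Fin.ext h
      rw [hi] at hq
      exact ((mem_Q G v₀ _ _).mp hq).2
  have hadjc : ∀ j (k : Fin 16), G.Adj (c j) (cell k) ↔ k.val % 4 = j.val := by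
    intro j k
    constructor
    · intro h
      have hq : cell k ∈ Q G v₀ (c j) := (mem_Q G v₀ _ _).mpr ⟨hf0.adj k, h⟩
      rw [hcell k] at hq
      have := hcol j _ _ hq
      rw [this]
    · intro h
      have hq := (hmem ⟨k.val / 4, by omega⟩ ⟨k.val % 4, by omega⟩).2
      rw [← hcell k] at hq
      have hj : (⟨k.val % 4, by omega⟩ : Fin 4) = j := Fin.ext h
      rw [hj] at hq
      exact ((mem_Q G v₀ _ _).mp hq).2
  have hcr : ∀ i, code G cell (r i) = rowM i := by
    intro i
    unfold code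
    apply ofFin_eq_of_testBit (rowM_lt i)
    intro k
    rw [Finset.mem_filter, rowM_testBit i k, hadjr i k]
    simp
  have hcc : ∀ j, code G cell (c j) = colM j := by
    intro j
    unfold code
    apply ofFin_eq_of_testBit (colM_lt j)
    intro k
    rw [Finset.mem_filter, colM_testBit j k, hadjc j k]
    simp
  refine ⟨cell, hf0, ?_, ?_⟩
  · rw [mem_fam]
    refine ⟨y₀, hy₀, ?_⟩
    unfold clsCode
    rw [← hrimg, Finset.image_image, ← image_rowM]
    apply Finset.image_congr
    intro i _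
    exact hcr i
  · rw [mem_fam]
    refine ⟨z₀, hz₀, ?_⟩
    unfold clsCode
    rw [← hcimg, Finset.image_image, ← image_colM]
    apply Finset.image_congr
    intro j _
    exact hcc j

end

end Cfsg.Agent.Lib.Helper1.SRG77
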