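import Cfsg.Agent.Lib.Helper1.SRG77i
import Cfsg.Agent.Lib.Helper1.SRG77g

/-!
# The local structure of a strongly regular graph with parameters `(77, 16, 0, 4)`:
the family of coded classes is valid
-/

set_option autoImplicit false
set_option linter.unusedSectionVars false
set_option linter.unusedSimpArgs false

namespace Cfsg.Agent.Lib.Helper1.SRG77

open Cfsg.Agent.Lib.Helper1.Stein
open scoped Classical

noncomputable section

variable {V : Type*} [Fintype V] (G : SimpleGraph V) (hG : Facts G) (v₀ : V) (cell : Fin 16 → V)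

/-- the class of a vertex, coded -/
def clsCode (x : V) : Finset ℕ := (cls G v₀ x).image (code G cell)

/-- the family of coded classes -/
def fam : Finset (Finset ℕ) := (X G v₀).image (clsCode G v₀ cell)

/-- a labelling of the neighbours of the base vertex for which the rows and the columns are
classes -/
structure Frame : Prop extends Frame0 G v₀ cell where
  rows : rowsL.toFinset ∈ fam G v₀ cell
  cols : colsL.toFinset ∈ fam G v₀ cell

variable {G v₀ cell}

theorem mem_clsCode {x : V} {q : ℕ} :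
    q ∈ clsCode G v₀ cell x ↔ ∃ u ∈ cls G v₀ x, code G cell u = q := by
  unfold clsCode
  rw [Finset.mem_image]

theorem mem_fam {K : Finset ℕ} : K ∈ fam G v₀ cell ↔ ∃ x ∈ X G v₀, clsCode G v₀ cell x = K := by
  unfold fam
  rw [Finset.mem_image]

include hG in
theorem clsCode_eq_of_mem {x u : V} (hx : x ∈ X G v₀) (hu : u ∈ cls G v₀ x) :
    clsCode G v₀ cell u = clsCode G v₀ cell x := by
  unfold clsCode
  rw [cls_eq G hG v₀ hx hu]

include hG in
theorem mem_cls_of_code_mem (hf : Frame0 G v₀ cell) {x u : V} (hx : x ∈ X G v₀)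
    (hu : u ∈ X G v₀) (h : code G cell u ∈ clsCode G v₀ cell x) : u ∈ cls G v₀ x := by
  rw [mem_clsCode] at h
  obtain ⟨u', hu', he⟩ := h
  have := code_injOn hG hf (cls_subset_X G v₀ hx hu') hu he
  rw [← this]
  exact hu'

include hG in
theorem notMem_cls_of_ne {x x' : V} (hx : x ∈ X G v₀)
    (h : clsCode G v₀ cell x ≠ clsCode G v₀ cell x') : x' ∉ cls G v₀ x := by
  intro hm
  exact h (clsCode_eq_of_mem hG hx hm).symm

include hG in
theorem notMem_cls_of_ne' {x x' u u' : V} (hx : x ∈ X G v₀) (hx' : x' ∈ X G v₀)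
    (h : clsCode G v₀ cell x ≠ clsCode G v₀ cell x') (hu : u ∈ cls G v₀ x)
    (hu' : u' ∈ cls G v₀ x') : u' ∉ cls G v₀ u := by
  have hux := cls_subset_X G v₀ hx hu
  apply notMem_cls_of_ne hG (cell := cell) hux
  rw [clsCode_eq_of_mem hG hx hu, clsCode_eq_of_mem hG hx' hu']
  exact h

include hG in
theorem validFam (hf : Frame G v₀ cell) : ValidFam (fam G v₀ cell) := by
  have hf0 := hf.toFrame0
  refine ⟨hf.rows, hf.cols, ?_, ?_, ?_, ?_, ?_, ?_⟩
  · -- quads
    intro K hK q hq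
    obtain ⟨x, hx, rfl⟩ := mem_fam.mp hK
    obtain ⟨u, hu, rfl⟩ := mem_clsCode.mp hq
    exact ⟨code_lt G cell u, pc_code hG hf0 (cls_subset_X G v₀ hx hu)⟩
  · -- four in a class
    intro K hK
    obtain ⟨x, hx, rfl⟩ := mem_fam.mp hK
    unfold clsCode
    rw [Finset.card_image_of_injOn, card_cls G hG v₀ hx]
    intro u hu u' hu' h
    exact code_injOn hG hf0 (cls_subset_X G v₀ hx hu) (cls_subset_X G v₀ hx hu') h
  · -- disjoint in a class
    intro K hK q hq q' hq' hne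
    obtain ⟨x, hx, rfl⟩ := mem_fam.mp hK
    obtain ⟨u, hu, rfl⟩ := mem_clsCode.mp hq
    obtain ⟨u', hu', rfl⟩ := mem_clsCode.mp hq'
    rw [land_eq_zero_iff hG hf0]
    apply cls_disj G hG v₀ hx hu hu'
    intro h
    exact hne (by rw [h])
  · -- two classes
    intro K hK K' hK' hne
    obtain ⟨x, hx, rfl⟩ := mem_fam.mp hK
    obtain ⟨x', hx', rfl⟩ := mem_fam.mp hK'
    have hn := notMem_cls_of_ne hG hx hne
    rcases class_pair G hG v₀ hx hx' hn with h | h
    · left
      intro q hq q' hq'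
      obtain ⟨u, hu, rfl⟩ := mem_clsCode.mp hq
      obtain ⟨u', hu', rfl⟩ := mem_clsCode.mp hq'
      rw [pc_land_code hG hf0]
      exact h u hu u' hu'
    · right
      intro q hq q' hq'
      obtain ⟨u, hu, rfl⟩ := mem_clsCode.mp hq
      obtain ⟨u', hu', rfl⟩ := mem_clsCode.mp hq'
      rw [pc_land_code hG hf0]
      exact h u hu u' hu'
  · -- three classes on a pair of cells
    intro a b hab hb
    have ha : a < 16 := by omega
    have hne : cell ⟨a, ha⟩ ≠ cell ⟨b, hb⟩ := by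
      intro h
      have := hf0.inj h
      rw [Fin.mk.injEq] at this
      omega
    have h3 := cover2 G hG v₀ (hf0.adj ⟨a, ha⟩) (hf0.adj ⟨b, hb⟩) hne
    have hbit : ∀ x : V, (cell ⟨a, ha⟩ ∈ Q G v₀ x ∧ cell ⟨b, hb⟩ ∈ Q G v₀ x) ↔
        ((code G cell x).testBit a = true ∧ (code G cell x).testBit b = true) := by
      intro x
      rw [mem_Q, mem_Q]
      have h1 := testBit_code G cell x ⟨a, ha⟩
      have h2 := testBit_code G cell x ⟨b, hb⟩
      simp only at h1 h2
      rw [h1, h2]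
      constructor
      · rintro ⟨⟨_, h1⟩, ⟨_, h2⟩⟩
        exact ⟨h1, h2⟩
      · rintro ⟨h1, h2⟩
        exact ⟨⟨hf0.adj _, h1⟩, ⟨hf0.adj _, h2⟩⟩
    have himg : (fam G v₀ cell).filter (coversF a b) =
        ((X G v₀).filter (fun x => cell ⟨a, ha⟩ ∈ Q G v₀ x ∧ cell ⟨b, hb⟩ ∈ Q G v₀ x)).image
          (clsCode G v₀ cell) := by
      ext K
      rw [Finset.mem_filter, Finset.mem_image]
      constructor
      · rintro ⟨hK, q, hq, hqa, hqb⟩
        obtain ⟨x, hx, rfl⟩ := mem_fam.mp hK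
        obtain ⟨u, hu, rfl⟩ := mem_clsCode.mp hq
        refine ⟨u, ?_, clsCode_eq_of_mem hG hx hu⟩
        rw [Finset.mem_filter]
        exact ⟨cls_subset_X G v₀ hx hu, (hbit u).mpr ⟨hqa, hqb⟩⟩
      · rintro ⟨x, hx, rfl⟩
        rw [Finset.mem_filter] at hx
        refine ⟨mem_fam.mpr ⟨x, hx.1, rfl⟩, code G cell x, ?_, (hbit x).mp hx.2⟩
        exact mem_clsCode.mpr ⟨x, self_mem_cls G v₀ x, rfl⟩
    rw [himg, Finset.card_image_of_injOn, h3]
    intro x hx x' hx' h
    rw [Finset.mem_coe, Finset.mem_filter] at hx hx'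
    by_contra hxx
    have hmem : x' ∈ cls G v₀ x := by
      apply mem_cls_of_code_mem hG hf0 hx.1 hx'.1
      rw [h]
      exact mem_clsCode.mpr ⟨x', self_mem_cls G v₀ x', rfl⟩
    have hd := cls_disj G hG v₀ hx.1 (self_mem_cls G v₀ x) hmem hxx
    rw [Finset.disjoint_left] at hd
    exact hd hx.2.1 hx'.2.1
  · -- no triangles
    intro K1 hK1 K2 hK2 K3 hK3 h12 h13 h23 q1 hq1 q2 hq2 q3 hq3
    obtain ⟨x1, hx1, rfl⟩ := mem_fam.mp hK1
    obtain ⟨x2, hx2, rfl⟩ := mem_fam.mp hK2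
    obtain ⟨x3, hx3, rfl⟩ := mem_fam.mp hK3
    obtain ⟨u1, hu1, rfl⟩ := mem_clsCode.mp hq1
    obtain ⟨u2, hu2, rfl⟩ := mem_clsCode.mp hq2
    obtain ⟨u3, hu3, rfl⟩ := mem_clsCode.mp hq3
    rintro ⟨d12, d13, d23⟩
    rw [land_eq_zero_iff hG hf0] at d12 d13 d23
    have hX1 := cls_subset_X G v₀ hx1 hu1
    have hX2 := cls_subset_X G v₀ hx2 hu2
    have hX3 := cls_subset_X G v₀ hx3 hu3
    have a12 : G.Adj u1 u2 :=
      (adj_iff_disj G hG v₀ hX1 hX2 (notMem_cls_of_ne' hG hx1 hx2 h12 hu1 hu2)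
        (self_mem_cls G v₀ u1)).mpr d12
    have a13 : G.Adj u1 u3 :=
      (adj_iff_disj G hG v₀ hX1 hX3 (notMem_cls_of_ne' hG hx1 hx3 h13 hu1 hu3)
        (self_mem_cls G v₀ u1)).mpr d13
    have a23 : G.Adj u2 u3 :=
      (adj_iff_disj G hG v₀ hX2 hX3 (notMem_cls_of_ne' hG hx2 hx3 h23 hu2 hu3)
        (self_mem_cls G v₀ u2)).mpr d23
    exact no_triangle G hG a12 a13 a23

end

end Cfsg.Agent.Lib.Helper1.SRG77
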