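import Cfsg.Agent.Lib.Helper1.SRG77l

/-!
# The local structure of a strongly regular graph with parameters `(77, 16, 0, 4)`:
relabelling the cells
-/

set_option autoImplicit false
set_option linter.unusedSectionVars false
set_option linter.unusedSimpArgs false

namespace Cfsg.Agent.Lib.Helper1.SRG77

open Cfsg.Agent.Lib.Helper1.Stein
open scoped Classical

/-- pull a mask back along a list of positions -/
def pmL : List ℕ → ℕ → ℕ
  | [], _ => 0
  | (t :: ts), m => Nat.bit (tb m t) (pmL ts m)

theorem testBit_pmL : ∀ (τl : List ℕ) (m k : ℕ),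
    (pmL τl m).testBit k = (decide (k < τl.length) && m.testBit (τl.getD k 0))
  | [], m, k => by
    unfold pmL
    simp
  | (t :: ts), m, 0 => by
    unfold pmL
    rw [Nat.testBit_bit_zero, tb_eq]
    simp
  | (t :: ts), m, (k+1) => by
    unfold pmL
    rw [Nat.testBit_bit_succ, testBit_pmL ts m k]
    simp

/-- the six relabellings -/
def tauL : List (List ℕ) := [
 [0,1,2,3,4,5,6,7,8,9,10,11,12,13,14,15],
 [0,1,3,2,4,5,7,6,8,9,11,10,12,13,15,14],
 [0,2,1,3,4,6,5,7,8,10,9,11,12,14,13,15],
 [0,2,3,1,4,6,7,5,8,10,11,9,12,14,15,13],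
 [0,3,1,2,4,7,5,6,8,11,9,10,12,15,13,14],
 [0,3,2,1,4,7,6,5,8,11,10,9,12,15,14,13]]

theorem tau_good : ∀ τl ∈ tauL, τl.length = 16 ∧ τl.Nodup ∧ ∀ t ∈ τl, t < 16 := by decide

/-- the first family -/
def sol0 : List (List ℕ) := sols.headD []

set_option maxRecDepth 1000000 in
set_option maxHeartbeats 0 in
theorem relabel_ok :
    (List.zip sols tauL).all (fun p => sameFam (p.1.map (List.map (pmL p.2))) sol0) = true := by
  decide +kernel

theorem sols_length : sols.length = 6 := by decide

theorem tauL_length : tauL.length = 6 := by decide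

noncomputable section

theorem toFinset_map_list (f : ℕ → ℕ) (Kl : List ℕ) :
    (Kl.map f).toFinset = Kl.toFinset.image f := by
  ext x
  simp only [List.mem_toFinset, List.mem_map, Finset.mem_image]

theorem famOf_map (s : List (List ℕ)) (f : ℕ → ℕ) :
    (famOf s).image (fun K => K.image f) = famOf (s.map (List.map f)) := by
  ext K
  rw [Finset.mem_image, mem_famOf]
  constructor
  · rintro ⟨K', hK', rfl⟩
    rw [mem_famOf] at hK'
    obtain ⟨Kl, hKl, rfl⟩ := hK'
    refine ⟨Kl.map f, List.mem_map.mpr ⟨Kl, hKl, rfl⟩, ?_⟩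
    rw [toFinset_map_list]
  · rintro ⟨Kl', hKl', rfl⟩
    rw [List.mem_map] at hKl'
    obtain ⟨Kl, hKl, rfl⟩ := hKl'
    refine ⟨Kl.toFinset, (mem_famOf s _).mpr ⟨Kl, hKl, rfl⟩, ?_⟩
    rw [toFinset_map_list]

theorem exists_tau {s : List (List ℕ)} (hs : s ∈ sols) :
    ∃ τl ∈ tauL, (famOf s).image (fun K => K.image (pmL τl)) = famOf sol0 := by
  rw [List.mem_iff_getElem] at hs
  obtain ⟨i, hi, rfl⟩ := hs
  have hi' : i < tauL.length := by
    rw [tauL_length, ← sols_length]
    exact hi
  refine ⟨tauL[i], List.getElem_mem hi', ?_⟩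
  have h := relabel_ok
  rw [List.all_eq_true] at h
  have hz : (sols[i], tauL[i]) ∈ List.zip sols tauL := by
    have hlen : i < (List.zip sols tauL).length := by
      rw [List.length_zip]
      omega
    have := List.getElem_mem hlen
    rw [List.getElem_zip] at this
    exact this
  have h1 := h _ hz
  rw [famOf_map]
  exact sameFam_spec _ _ h1

variable {V : Type*} [Fintype V] {G : SimpleGraph V} (hG : Facts G) {v₀ : V} {cell : Fin 16 → V}

theorem relabel (hf : Frame0 G v₀ cell) {τl : List ℕ}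
    (hτ : τl.length = 16 ∧ τl.Nodup ∧ ∀ t ∈ τl, t < 16) :
    ∃ cell' : Fin 16 → V, Frame0 G v₀ cell' ∧
      fam G v₀ cell' = (fam G v₀ cell).image (fun K => K.image (pmL τl)) := by
  obtain ⟨hlen, hnd, hlt⟩ := hτ
  have hget : ∀ k : Fin 16, τl.getD k.val 0 = τl[k.val]'(by rw [hlen]; exact k.2) := by
    intro k
    rw [List.getD_eq_getElem]
  have hb : ∀ k : Fin 16, τl.getD k.val 0 < 16 := by
    intro k
    rw [hget k]
    exact hlt _ (List.getElem_mem _)
  obtain ⟨τ, hτd⟩ : ∃ τ : Fin 16 → Fin 16, ∀ k, (τ k).val = τl.getD k.val 0 :=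
    ⟨fun k => ⟨τl.getD k.val 0, hb k⟩, fun _ => rfl⟩
  have hτi : Function.Injective τ := by
    intro k k' h
    have h1 : τl.getD k.val 0 = τl.getD k'.val 0 := by
      rw [← hτd k, ← hτd k', h]
    rw [hget k, hget k', hnd.getElem_inj_iff] at h1
    exact Fin.ext h1
  refine ⟨cell ∘ τ, ⟨hf.inj.comp hτi, fun k => hf.adj (τ k)⟩, ?_⟩
  have hcode : ∀ x : V, code G (cell ∘ τ) x = pmL τl (code G cell x) := by
    intro x
    apply Nat.eq_of_testBit_eq
    intro i
    rw [testBit_pmL, hlen]
    by_cases hi : i < 16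
    · rw [decide_eq_true hi, Bool.true_and]
      have h1 := testBit_code G (cell ∘ τ) x ⟨i, hi⟩
      have h2 := testBit_code G cell x (τ ⟨i, hi⟩)
      rw [hτd ⟨i, hi⟩] at h2
      simp only [Function.comp_apply] at h1 h2
      rw [Bool.eq_iff_iff, h1, h2]
    · rw [decide_eq_false hi, Bool.false_and]
      exact testBit_code_ge G _ x i (by omega)
  have hcls : ∀ x : V, clsCode G v₀ (cell ∘ τ) x = (clsCode G v₀ cell x).image (pmL τl) := by
    intro x
    unfold clsCode
    rw [Finset.image_image]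
    apply Finset.image_congr
    intro u _
    exact hcode u
  unfold fam
  rw [Finset.image_image]
  apply Finset.image_congr
  intro x _
  exact hcls x

end

end Cfsg.Agent.Lib.Helper1.SRG77
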