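import Cfsg.Agent.Lib.Helper1.SRG77l

/-!
# The local structure of a strongly regular graph with parameters `(77, 16, 0, 4)`:
the family of coded classes determines the graph
-/

set_option autoImplicit false
set_option linter.unusedSectionVars false
set_option linter.unusedSimpArgs false

namespace Cfsg.Agent.Lib.Helper1.SRG77

open Cfsg.Agent.Lib.Helper1.Stein
open scoped Classical

noncomputable section

/-- the adjacency of the labels -/
def R (F : Finset (Finset ℕ)) (m n : ℕ) : Prop :=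
  (m = 131072 ∧ 65536 ≤ n ∧ n < 65552) ∨ (n = 131072 ∧ 65536 ≤ m ∧ m < 65552) ∨
  (65536 ≤ m ∧ m < 65552 ∧ n < 65536 ∧ n.testBit (m - 65536) = true) ∨
  (65536 ≤ n ∧ n < 65552 ∧ m < 65536 ∧ m.testBit (n - 65536) = true) ∨
  (m < 65536 ∧ n < 65536 ∧ m &&& n = 0 ∧ ¬ ∃ K ∈ F, m ∈ K ∧ n ∈ K)

variable {V : Type*} [Fintype V] (G : SimpleGraph V) (hG : Facts G) (v₀ : V) (cell : Fin 16 → V)

/-- the label of a vertex -/
def lab (x : V) : ℕ :=
  if x = v₀ then 131072
  else if h : ∃ k, cell k = x then 65536 + (Classical.choose h).val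
  else code G cell x

variable {G v₀ cell}

theorem lab_base : lab G v₀ cell v₀ = 131072 := by
  unfold lab
  rw [if_pos rfl]

theorem lab_cell (hf : Frame0 G v₀ cell) (k : Fin 16) : lab G v₀ cell (cell k) = 65536 + k.val := by
  unfold lab
  have hne : cell k ≠ v₀ := by
    intro h
    have := hf.adj k
    rw [h] at this
    exact G.loopless.irrefl _ this
  have hex : ∃ k', cell k' = cell k := ⟨k, rfl⟩
  rw [if_neg hne, dif_pos hex]
  have := hf.inj (Classical.choose_spec hex)
  rw [this]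

theorem lab_X (hf : Frame0 G v₀ cell) {x : V} (hx : x ∈ X G v₀) :
    lab G v₀ cell x = code G cell x := by
  unfold lab
  rw [mem_X] at hx
  have hex : ¬ ∃ k, cell k = x := by
    rintro ⟨k, rfl⟩
    exact hx.2 (hf.adj k)
  rw [if_neg hx.1, dif_neg hex]

include hG in
theorem vertex_cases (hf : Frame0 G v₀ cell) (x : V) :
    (x = v₀ ∧ lab G v₀ cell x = 131072) ∨
    (∃ k : Fin 16, x = cell k ∧ lab G v₀ cell x = 65536 + k.val) ∨
    (x ∈ X G v₀ ∧ lab G v₀ cell x = code G cell x ∧ lab G v₀ cell x < 65536) := by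
  by_cases h0 : x = v₀
  · left
    exact ⟨h0, h0 ▸ lab_base⟩
  · by_cases h1 : G.Adj v₀ x
    · right
      left
      obtain ⟨k, rfl⟩ := exists_cell hG hf h1
      exact ⟨k, rfl, lab_cell hf k⟩
    · right
      right
      have hx : x ∈ X G v₀ := (mem_X G v₀ x).mpr ⟨h0, h1⟩
      have := lab_X hf hx
      exact ⟨hx, this, this ▸ code_lt G cell x⟩

include hG in
theorem adj_X_iff (hf : Frame0 G v₀ cell) {x x' : V} (hx : x ∈ X G v₀) (hx' : x' ∈ X G v₀) :
    G.Adj x x' ↔ (code G cell x &&& code G cell x' = 0 ∧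
      ¬ ∃ K ∈ fam G v₀ cell, code G cell x ∈ K ∧ code G cell x' ∈ K) := by
  constructor
  · intro h
    have hn : x' ∉ cls G v₀ x := fun hm =>
      cls_not_adj G hG v₀ hx (self_mem_cls G v₀ x) hm h
    refine ⟨(land_eq_zero_iff hG hf x x').mpr
      ((adj_iff_disj G hG v₀ hx hx' hn (self_mem_cls G v₀ x)).mp h), ?_⟩
    rintro ⟨K, hK, h1, h2⟩
    obtain ⟨y, hy, rfl⟩ := mem_fam.mp hK
    have m1 := mem_cls_of_code_mem hG hf hy hx h1
    have m2 := mem_cls_of_code_mem hG hf hy hx' h2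
    exact cls_not_adj G hG v₀ hy m1 m2 h
  · rintro ⟨h0, hno⟩
    have hn : x' ∉ cls G v₀ x := by
      intro hm
      apply hno
      refine ⟨clsCode G v₀ cell x, mem_fam.mpr ⟨x, hx, rfl⟩, ?_, ?_⟩
      · exact mem_clsCode.mpr ⟨x, self_mem_cls G v₀ x, rfl⟩
      · exact mem_clsCode.mpr ⟨x', hm, rfl⟩
    exact (adj_iff_disj G hG v₀ hx hx' hn (self_mem_cls G v₀ x)).mpr
      ((land_eq_zero_iff hG hf x x').mp h0)

theorem R_symm (F : Finset (Finset ℕ)) (m n : ℕ) : R F m n ↔ R F n m := by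
  unfold R
  rw [Nat.and_comm m n]
  constructor
  · rintro (h | h | h | h | ⟨h1, h2, h3, h4⟩)
    · exact Or.inr (Or.inl h)
    · exact Or.inl h
    · exact Or.inr (Or.inr (Or.inr (Or.inl h)))
    · exact Or.inr (Or.inr (Or.inl h))
    · refine Or.inr (Or.inr (Or.inr (Or.inr ⟨h2, h1, h3, ?_⟩)))
      rintro ⟨K, hK, a, b⟩
      exact h4 ⟨K, hK, b, a⟩
  · rintro (h | h | h | h | ⟨h1, h2, h3, h4⟩)
    · exact Or.inr (Or.inl h)
    · exact Or.inl h
    · exact Or.inr (Or.inr (Or.inr (Or.inl h)))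
    · exact Or.inr (Or.inr (Or.inl h))
    · refine Or.inr (Or.inr (Or.inr (Or.inr ⟨h2, h1, h3, ?_⟩)))
      rintro ⟨K, hK, a, b⟩
      exact h4 ⟨K, hK, b, a⟩

include hG in
theorem adj_iff_R_aux (hf : Frame0 G v₀ cell) (x y : V) :
    (x = v₀ → (G.Adj x y ↔ R (fam G v₀ cell) (lab G v₀ cell x) (lab G v₀ cell y))) ∧
    (∀ k : Fin 16, x = cell k → (∃ k', y = cell k') ∨ y ∈ X G v₀ →
      (G.Adj x y ↔ R (fam G v₀ cell) (lab G v₀ cell x) (lab G v₀ cell y))) ∧
    (x ∈ X G v₀ → y ∈ X G v₀ →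
      (G.Adj x y ↔ R (fam G v₀ cell) (lab G v₀ cell x) (lab G v₀ cell y))) := by
  refine ⟨?_, ?_, ?_⟩
  · rintro rfl
    rw [lab_base]
    rcases vertex_cases hG hf y with ⟨rfl, hl⟩ | ⟨k, rfl, hl⟩ | ⟨hy, hl, hlt⟩
    · rw [lab_base]
      unfold R
      constructor
      · intro h
        exact absurd h (G.loopless.irrefl _)
      · rintro (h | h | h | h | h) <;> omega
    · rw [hl]
      unfold R
      constructor
      · intro _
        left
        exact ⟨rfl, by omega, by omega⟩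
      · intro _
        exact hf.adj k
    · unfold R
      constructor
      · intro h
        exact absurd h ((mem_X G x y).mp hy).2
      · rintro (h | h | h | h | h) <;> omega
  · rintro k rfl hy
    rw [lab_cell hf k]
    rcases hy with ⟨k', rfl⟩ | hy
    · rw [lab_cell hf k']
      unfold R
      constructor
      · intro h
        exact absurd h (N_coclique G hG v₀ (hf.adj k) (hf.adj k'))
      · rintro (h | h | h | h | h) <;> omega
    · rw [lab_X hf hy]
      have hlt := code_lt G cell y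
      have hb := testBit_code G cell y k
      unfold R
      constructor
      · intro h
        right
        right
        left
        refine ⟨by omega, by omega, hlt, ?_⟩
        rw [Nat.add_sub_cancel_left]
        exact hb.mpr h.symm
      · rintro (h | h | h | h | h)
        · omega
        · omega
        · have h4 := h.2.2.2
          rw [Nat.add_sub_cancel_left] at h4
          exact (hb.mp h4).symm
        · omega
        · omega
  · intro hx hy
    rw [lab_X hf hx, lab_X hf hy, adj_X_iff hG hf hx hy]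
    have h1 := code_lt G cell x
    have h2 := code_lt G cell y
    unfold R
    constructor
    · intro h
      exact Or.inr (Or.inr (Or.inr (Or.inr ⟨h1, h2, h⟩)))
    · rintro (h | h | h | h | h)
      · omega
      · omega
      · omega
      · omega
      · exact h.2.2

include hG in
theorem adj_iff_R (hf : Frame0 G v₀ cell) (x y : V) :
    G.Adj x y ↔ R (fam G v₀ cell) (lab G v₀ cell x) (lab G v₀ cell y) := by
  rcases vertex_cases hG hf x with ⟨hx, _⟩ | ⟨k, hx, _⟩ | ⟨hx, _, _⟩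
  · exact (adj_iff_R_aux hG hf x y).1 hx
  · rcases vertex_cases hG hf y with ⟨hy, _⟩ | ⟨k', hy, _⟩ | ⟨hy, _, _⟩
    · rw [SimpleGraph.adj_comm, R_symm]
      exact (adj_iff_R_aux hG hf y x).1 hy
    · exact (adj_iff_R_aux hG hf x y).2.1 k hx (Or.inl ⟨k', hy⟩)
    · exact (adj_iff_R_aux hG hf x y).2.1 k hx (Or.inr hy)
  · rcases vertex_cases hG hf y with ⟨hy, _⟩ | ⟨k', hy, _⟩ | ⟨hy, _, _⟩
    · rw [SimpleGraph.adj_comm, R_symm]
      exact (adj_iff_R_aux hG hf y x).1 hy
    · rw [SimpleGraph.adj_comm, R_symm]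
      exact (adj_iff_R_aux hG hf y x).2.1 k' hy (Or.inr hx)
    · exact (adj_iff_R_aux hG hf x y).2.2 hx hy

include hG in
theorem lab_injective (hf : Frame0 G v₀ cell) : Function.Injective (lab G v₀ cell) := by
  intro x y h
  rcases vertex_cases hG hf x with ⟨hx, hlx⟩ | ⟨k, hx, hlx⟩ | ⟨hx, hlx, hltx⟩ <;>
  rcases vertex_cases hG hf y with ⟨hy, hly⟩ | ⟨k', hy, hly⟩ | ⟨hy, hly, hlty⟩
  · rw [hx, hy]
  · have := k'.2
    omega
  · omega
  · have := k.2
    omega
  · have h1 := k.2
    have h2 := k'.2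
    have : k = k' := Fin.ext (by omega)
    rw [hx, hy, this]
  · omega
  · omega
  · have := k'.2
    omega
  · apply code_injOn hG hf hx hy
    rw [← hlx, ← hly, h]

variable {W : Type*} [Fintype W] {H : SimpleGraph W} (hH : Facts H) {w₀ : W} {cell' : Fin 16 → W}

include hG hH in
theorem exists_lab (hf : Frame0 G v₀ cell) (hf' : Frame0 H w₀ cell')
    (h : fam G v₀ cell = fam H w₀ cell') (v : V) :
    ∃ w, lab H w₀ cell' w = lab G v₀ cell v := by
  rcases vertex_cases hG hf v with ⟨_, hl⟩ | ⟨k, _, hl⟩ | ⟨hx, hl, _⟩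
  · exact ⟨w₀, by rw [hl, lab_base]⟩
  · exact ⟨cell' k, by rw [hl, lab_cell hf' k]⟩
  · have h1 : code G cell v ∈ clsCode G v₀ cell v :=
      mem_clsCode.mpr ⟨v, self_mem_cls G v₀ v, rfl⟩
    have h2 : clsCode G v₀ cell v ∈ fam H w₀ cell' := by
      rw [← h]
      exact mem_fam.mpr ⟨v, hx, rfl⟩
    obtain ⟨y', hy', he⟩ := mem_fam.mp h2
    rw [← he] at h1
    obtain ⟨u', hu', hc⟩ := mem_clsCode.mp h1
    refine ⟨u', ?_⟩
    rw [lab_X hf' (cls_subset_X H w₀ hy' hu'), hc, hl]

include hG hH in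
theorem iso_of_fam_eq (hf : Frame0 G v₀ cell) (hf' : Frame0 H w₀ cell')
    (h : fam G v₀ cell = fam H w₀ cell') : Nonempty (G ≃g H) := by
  choose f hf1 using exists_lab hG hH hf hf' h
  have hinj : Function.Injective f := by
    intro v v' hv
    apply lab_injective hG hf
    rw [← hf1 v, ← hf1 v', hv]
  have hsurj : Function.Surjective f := by
    intro w
    obtain ⟨v, hv⟩ := exists_lab hH hG hf' hf h.symm w
    refine ⟨v, ?_⟩
    apply lab_injective hH hf'
    rw [hf1 v, hv]
  refine ⟨⟨Equiv.ofBijective f ⟨hinj, hsurj⟩, ?_⟩⟩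
  intro v v'
  show H.Adj (f v) (f v') ↔ G.Adj v v'
  rw [adj_iff_R hH hf', adj_iff_R hG hf, hf1, hf1, h]

end

end Cfsg.Agent.Lib.Helper1.SRG77
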