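import Cfsg.Agent.Lib.Helper1.SRG77h
import Cfsg.Agent.Lib.Helper1.SRG77j
import Cfsg.Agent.Lib.Helper1.SRG77m
import Cfsg.Agent.Lib.Helper1.SRG77n

/-!
# The strongly regular graph with parameters `(77, 16, 0, 4)` is unique
-/

set_option autoImplicit false
set_option linter.unusedSectionVars false

namespace Cfsg.Agent.Lib.Helper1.SRG77

open scoped Classical

noncomputable section

variable {V : Type*} [Fintype V] {G : SimpleGraph V}

theorem exists_good_frame (hG : Facts G) (v₀ : V) :
    ∃ cell : Fin 16 → V, Frame0 G v₀ cell ∧ fam G v₀ cell = famOf sol0 := by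
  obtain ⟨cell, hf⟩ := exists_frame G hG v₀
  obtain ⟨s, hs, he⟩ := classify (validFam hG hf)
  obtain ⟨τl, hτl, ht⟩ := exists_tau hs
  obtain ⟨cell', hf', he'⟩ := relabel hf.toFrame0 (tau_good τl hτl)
  exact ⟨cell', hf', by rw [he', he, ht]⟩

variable {W : Type*} [Fintype W] {H : SimpleGraph W}

theorem unique (hG : Facts G) (hH : Facts H) : Nonempty (G ≃g H) := by
  obtain ⟨v₀⟩ : Nonempty V := Fintype.card_pos_iff.mp (by rw [hG.card]; norm_num)
  obtain ⟨w₀⟩ : Nonempty W := Fintype.card_pos_iff.mp (by rw [hH.card]; norm_num)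
  obtain ⟨cell, hf, he⟩ := exists_good_frame hG v₀
  obtain ⟨cell', hf', he'⟩ := exists_good_frame hH w₀
  exact iso_of_fam_eq hG hH hf hf' (he.trans he'.symm)

end

end Cfsg.Agent.Lib.Helper1.SRG77
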