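import Cfsg.Agent.Lib.Helper1.SRG77f

/-!
# The local structure of a strongly regular graph with parameters `(77, 16, 0, 4)`:
the branches of the search at the top
-/

set_option autoImplicit false

namespace Cfsg.Agent.Lib.Helper1.SRG77

/-- the rows and the columns -/
def L0 : List (List ℕ) := [rowsL, colsL]

/-- one branch of the search at the top -/
def branchF (K : List ℕ) : Bool :=
  !(triOK L0 K) || dfs 13 (K :: L0) (cand.filter (lineOK K)) pairs

/-- the six large branches -/
def heavyL : List (List ℕ) := [[51, 204, 13056, 52224], [195, 60, 15360, 49920],
  [771, 3084, 12336, 49344], [3075, 780, 12480, 49200], [12291, 816, 3264, 49164],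
  [49155, 960, 3120, 12300]]

end Cfsg.Agent.Lib.Helper1.SRG77
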