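import Mathlib
import Cfsg.Prelude
import Cfsg.Agent.Lib.Helper1.SUCenter

set_option autoImplicit false
set_option linter.unusedSectionVars false

namespace Cfsg.Agent.Lib.Helper1.SUCenter2

open Cfsg.Agent.Lib.Helper2.Herm Cfsg.Agent.Lib.Helper1.HermCount Cfsg.Agent.Lib.Helper1.GUBasic Matrix
open Cfsg.Agent.S0278 Cfsg.Agent.Lib.Helper1.SUCenter

variable {F : Type*} [Field F] [Fintype F] {q : ℕ} {n : ℕ}

/-- if central elements are scalar, the centre is in bijection with the `n`-torsion of the norm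
one group. -/
theorem card_center_of_scalar (hF : Fintype.card F = q ^ 2) (i₀ : Fin n)
    (hsc : ∀ g : Cfsg.SU n F q, g ∈ Subgroup.center (Cfsg.SU n F q) →
      ((g : Matrix.SpecialLinearGroup (Fin n) F) : Matrix (Fin n) (Fin n) F) =
      (((g : Matrix.SpecialLinearGroup (Fin n) F) : Matrix (Fin n) (Fin n) F) i₀ i₀) • 1) :
    Nat.card (Subgroup.center (Cfsg.SU n F q)) =
      Nat.card (powMonoidHom n : normOne F q →* normOne F q).ker := by
  classical
  have key : ∀ g : Subgroup.center (Cfsg.SU n F q),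
      nrm q ((((g : Cfsg.SU n F q) : Matrix.SpecialLinearGroup (Fin n) F) :
        Matrix (Fin n) (Fin n) F) i₀ i₀) = 1 ∧
      ((((g : Cfsg.SU n F q) : Matrix.SpecialLinearGroup (Fin n) F) :
        Matrix (Fin n) (Fin n) F) i₀ i₀) ^ n = 1 := fun g =>
    scalar_props hF g.1 _ i₀ (hsc g.1 g.2)
  have hne : ∀ l : F, nrm q l = 1 → l ≠ 0 := by
    intro l hl h0
    rw [h0, (nrm_eq_zero hF 0).mpr rfl] at hl
    exact zero_ne_one hl
  apply Nat.card_congr
  refine ⟨fun g => ⟨⟨Units.mk0 _ (hne _ (key g).1), (key g).1⟩, ?_⟩,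
    fun l => ⟨scalarSU ((l.1.1 : Fˣ) : F) l.1.2 ?_, scalarSU_mem_center _ _ _⟩, ?_, ?_⟩
  · rw [MonoidHom.mem_ker, powMonoidHom_apply]
    apply Subtype.ext
    apply Units.ext
    simp only [SubmonoidClass.coe_pow, Units.val_pow_eq_pow_val, Units.val_mk0]
    exact (key g).2
  · have := l.2
    rw [MonoidHom.mem_ker, powMonoidHom_apply] at this
    have h2 := congrArg (fun z : normOne F q => ((z.1 : Fˣ) : F)) this
    simpa using h2
  · intro g
    apply Subtype.ext
    apply SU_ext
    change (((Units.mk0 _ (hne _ (key g).1) : Fˣ) : F)) • (1 : Matrix (Fin n) (Fin n) F) = _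
    rw [Units.val_mk0]
    exact (hsc g.1 g.2).symm
  · intro l
    apply Subtype.ext
    apply Subtype.ext
    apply Units.ext
    change (((l.1.1 : Fˣ) : F) • (1 : Matrix (Fin n) (Fin n) F)) i₀ i₀ = _
    simp

/-- there is an element of norm one whose square is not one. -/
theorem exists_norm_one_sq_ne_one (hF : Fintype.card F = q ^ 2) :
    ∃ l : F, nrm q l = 1 ∧ l * l ≠ 1 ∧ l ≠ 0 := by
  classical
  have hq := two_le_q hF
  by_contra hcon
  push Not at hcon
  -- all norm one elements are roots of X^2 - 1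
  have hsub : fibre q (1 : F) ⊆ Polynomial.nthRootsFinset 2 (1 : F) := by
    intro x hx
    rw [fibre, Finset.mem_filter] at hx
    rw [Polynomial.mem_nthRootsFinset (by norm_num)]
    by_cases hx0 : x = 0
    · have := hx.2
      rw [hx0, (nrm_eq_zero hF 0).mpr rfl] at this
      exact absurd this zero_ne_one
    · by_contra hsq
      exact hx0 (hcon x hx.2 (by rw [← pow_two]; exact hsq))
  have h1 := Finset.card_le_card hsub
  rw [card_fibre hF one_mem_fixedUnits] at h1
  have h2 : (Polynomial.nthRootsFinset 2 (1 : F)).card ≤ 2 := by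
    rw [Polynomial.nthRootsFinset_def]
    exact (Multiset.toFinset_card_le _).trans (Polynomial.card_nthRoots 2 1)
  omega

/-- the rotation by a quarter turn. -/
def rot : Matrix (Fin 2) (Fin 2) F := !![0, -1; 1, 0]

theorem rot_mulVec (x : Fin 2 → F) : rot *ᵥ x = ![-x 1, x 0] := by
  funext i
  fin_cases i <;> simp [rot, Matrix.mulVec, dotProduct, Fin.sum_univ_two]

theorem rot_preserves (hF : Fintype.card F = q ^ 2) (u v : Fin 2 → F) :
    Cfsg.hermForm 2 F q (rot *ᵥ u) (rot *ᵥ v) = Cfsg.hermForm 2 F q u v := by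
  rw [rot_mulVec, rot_mulVec]
  unfold Cfsg.hermForm
  rw [Fin.sum_univ_two, Fin.sum_univ_two]
  simp only [Matrix.cons_val_zero, Matrix.cons_val_one]
  rw [neg_pow_q hF]
  ring

theorem rot_det : (rot : Matrix (Fin 2) (Fin 2) F).det = 1 := by
  simp [rot, Matrix.det_fin_two]

/-- central elements of `SU_2` are scalar. -/
theorem central_scalar_two (hF : Fintype.card F = q ^ 2)
    (g : Cfsg.SU 2 F q) (hg : g ∈ Subgroup.center (Cfsg.SU 2 F q)) :
    ((g : Matrix.SpecialLinearGroup (Fin 2) F) : Matrix (Fin 2) (Fin 2) F) =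
      (((g : Matrix.SpecialLinearGroup (Fin 2) F) : Matrix (Fin 2) (Fin 2) F) 0 0) • 1 := by
  classical
  obtain ⟨l, hl1, hlsq, hl0⟩ := exists_norm_one_sq_ne_one hF
  set d : Fin 2 → F := ![l, l⁻¹] with hd
  have hd1 : ∀ a, nrm q (d a) = 1 := by
    intro a
    fin_cases a
    · exact hl1
    · exact nrm_inv l hl1
  have hprod : ∏ a, d a = 1 := by
    rw [Fin.prod_univ_two, hd]
    simp [mul_inv_cancel₀ hl0]
  have hne : d 0 ≠ d 1 := by
    rw [hd]
    simp only [Matrix.cons_val_zero, Matrix.cons_val_one]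
    intro h
    apply hlsq
    calc l * l = l * l⁻¹ := by rw [← h]
      _ = 1 := mul_inv_cancel₀ hl0
  have h01 := central_entry_zero g hg d hd1 hprod 0 1 hne
  have h10 := central_entry_zero g hg d hd1 hprod 1 0 hne.symm
  -- diagonal entries agree
  have h1 := central_comm g hg (mkSU rot rot_det (rot_preserves hF)) (Pi.single 0 1)
  rw [mkSU_coe] at h1
  have h2 := congrFun h1 1
  rw [rot_mulVec, rot_mulVec] at h2
  simp only [Matrix.cons_val_one, Matrix.cons_val_zero] at h2
  have e1 : (((g : Matrix.SpecialLinearGroup (Fin 2) F) : Matrix (Fin 2) (Fin 2) F) *ᵥ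
      ![-(Pi.single 0 1 : Fin 2 → F) 1, (Pi.single 0 1 : Fin 2 → F) 0]) 1 =
      ((g : Matrix.SpecialLinearGroup (Fin 2) F) : Matrix (Fin 2) (Fin 2) F) 1 1 := by
    simp [Matrix.mulVec, dotProduct, Fin.sum_univ_two]
  have e2 : (((g : Matrix.SpecialLinearGroup (Fin 2) F) : Matrix (Fin 2) (Fin 2) F) *ᵥ
      (Pi.single 0 1 : Fin 2 → F)) 0 =
      ((g : Matrix.SpecialLinearGroup (Fin 2) F) : Matrix (Fin 2) (Fin 2) F) 0 0 := by
    simp [Matrix.mulVec, dotProduct, Fin.sum_univ_two]
  rw [e1, e2] at h2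
  ext i j
  fin_cases i <;> fin_cases j
  · simp
  · simpa using h01
  · simpa using h10
  · simpa using h2

theorem card_center_two (hF : Fintype.card F = q ^ 2) :
    Nat.card (Subgroup.center (Cfsg.SU 2 F q)) = Nat.gcd 2 (q + 1) := by
  rw [card_center_of_scalar hF (0 : Fin 2) (central_scalar_two hF),
    IsCyclic.card_powMonoidHom_ker, card_normOne hF, Nat.gcd_comm]

end Cfsg.Agent.Lib.Helper1.SUCenter2
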