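import Mathlib
import Cfsg.Prelude.Def_Classical

set_option autoImplicit false

/-! The special unitary groups and the projective special unitary groups over isomorphic fields
are isomorphic. -/

namespace Cfsg.Agent.Lib.Helper1.SUCongr

open Matrix

variable {K K' : Type*} [Field K] [Field K'] {n : ℕ} {q : ℕ}

theorem hermForm_map (e : K →+* K') (u v : Fin n → K) :
    Cfsg.hermForm n K' q (e ∘ u) (e ∘ v) = e (Cfsg.hermForm n K q u v) := by
  unfold Cfsg.hermForm
  rw [map_sum]
  apply Finset.sum_congr rfl
  intro i _
  rw [map_mul, map_pow]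
  rfl

/-- the special linear groups over isomorphic fields -/
def slCongr (e : K ≃+* K') : SpecialLinearGroup (Fin n) K ≃* SpecialLinearGroup (Fin n) K' where
  toFun := SpecialLinearGroup.map (e : K →+* K')
  invFun := SpecialLinearGroup.map (e.symm : K' →+* K)
  left_inv g := by
    apply Subtype.ext
    ext i j
    show e.symm (e (g.1 i j)) = g.1 i j
    rw [RingEquiv.symm_apply_apply]
  right_inv g := by
    apply Subtype.ext
    ext i j
    show e (e.symm (g.1 i j)) = g.1 i j
    rw [RingEquiv.apply_symm_apply]
  map_mul' := map_mul _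

theorem slCongr_coe (e : K ≃+* K') (g : SpecialLinearGroup (Fin n) K) :
    ((slCongr e g : SpecialLinearGroup (Fin n) K') : Matrix (Fin n) (Fin n) K') =
      (g : Matrix (Fin n) (Fin n) K).map e := rfl

theorem map_mem_SU (e : K ≃+* K') (g : SpecialLinearGroup (Fin n) K) (hg : g ∈ Cfsg.SU n K q) :
    slCongr e g ∈ Cfsg.SU n K' q := by
  intro u v
  have hu : u = (e : K →+* K') ∘ (e.symm ∘ u) := by
    funext i
    show u i = e (e.symm (u i))
    rw [RingEquiv.apply_symm_apply]
  have hv : v = (e : K →+* K') ∘ (e.symm ∘ v) := by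
    funext i
    show v i = e (e.symm (v i))
    rw [RingEquiv.apply_symm_apply]
  have key : ∀ w : Fin n → K,
      (Cfsg.slToMat n K' (slCongr e g)) *ᵥ ((e : K →+* K') ∘ w) =
        (e : K →+* K') ∘ ((Cfsg.slToMat n K g) *ᵥ w) := by
    intro w
    funext i
    exact (RingHom.map_mulVec (e : K →+* K') (g : Matrix (Fin n) (Fin n) K) w i).symm
  have h := hg (e.symm ∘ u) (e.symm ∘ v)
  rw [hu, hv, key, key, hermForm_map, hermForm_map, h]

/-- the special unitary groups over isomorphic fields -/
def suCongr (e : K ≃+* K') : ↥(Cfsg.SU n K q) ≃* ↥(Cfsg.SU n K' q) where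
  toFun g := ⟨slCongr e g.1, map_mem_SU e g.1 g.2⟩
  invFun g := ⟨slCongr e.symm g.1, map_mem_SU e.symm g.1 g.2⟩
  left_inv g := by
    apply Subtype.ext
    exact (slCongr e).symm_apply_apply g.1
  right_inv g := by
    apply Subtype.ext
    exact (slCongr e).apply_symm_apply g.1
  map_mul' a b := by
    apply Subtype.ext
    exact map_mul (slCongr e) a.1 b.1

/-- an isomorphism maps the centre onto the centre -/
theorem map_center {G H : Type*} [Group G] [Group H] (f : G ≃* H) :
    (Subgroup.center G).map f.toMonoidHom = Subgroup.center H := by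
  ext h
  constructor
  · rintro ⟨g, hg, rfl⟩
    rw [Subgroup.mem_center_iff]
    intro x
    obtain ⟨y, rfl⟩ := f.surjective x
    have := Subgroup.mem_center_iff.mp hg y
    show f y * f g = f g * f y
    rw [← map_mul, ← map_mul, this]
  · intro hh
    refine ⟨f.symm h, ?_, f.apply_symm_apply h⟩
    show f.symm h ∈ Subgroup.center G
    rw [Subgroup.mem_center_iff]
    intro x
    apply f.injective
    rw [map_mul, map_mul, f.apply_symm_apply]
    exact Subgroup.mem_center_iff.mp hh (f x)

/-- the projective special unitary groups over isomorphic fields -/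
noncomputable def psuCongr (e : K ≃+* K') : Cfsg.PSU n K q ≃* Cfsg.PSU n K' q :=
  QuotientGroup.congr (Subgroup.center ↥(Cfsg.SU n K q)) (Subgroup.center ↥(Cfsg.SU n K' q))
    (suCongr e) (map_center (suCongr e))

end Cfsg.Agent.Lib.Helper1.SUCongr
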