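import Mathlib
import Cfsg.Agent.S0179

set_option autoImplicit false

namespace Cfsg.Agent.Lib.Helper1

open Cfsg.Agent.S0179

/-- The degree of an irreducible complex representation divides the index of any subgroup
all of whose elements act by scalars. -/
theorem finrank_dvd_index_of_scalar {G : Type*} [Group G] [Finite G] {V : Type*} [AddCommGroup V]
    [Module ℂ V] [FiniteDimensional ℂ V] (ρ : Representation ℂ G V) [ρ.IsIrreducible]
    (A : Subgroup G) (hA : ∀ a ∈ A, ∃ ω : ℂ, ρ a = ω • (LinearMap.id : V →ₗ[ℂ] V)) :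
    Module.finrank ℂ V ∣ A.index := by
  classical
  set K := MonoidHom.ker ρ with hK
  have hKn : K.Normal := MonoidHom.normal_ker ρ
  let π : G →* G ⧸ K := QuotientGroup.mk' K
  have hπ : Function.Surjective π := QuotientGroup.mk'_surjective K
  let σ : Representation ℂ (G ⧸ K) V := QuotientGroup.lift K ρ le_rfl
  have hσπ : ∀ g : G, σ (π g) = ρ g := fun g => rfl
  have hcomp : (σ.comp π : Representation ℂ G V) = ρ := by
    ext g : 1
    exact hσπ g
  have hirr : σ.IsIrreducible := by
    apply isIrreducible_of_comp σ π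
    rw [hcomp]
    infer_instance
  have hinj : Function.Injective σ := by
    intro a b hab
    obtain ⟨x, rfl⟩ := hπ a
    obtain ⟨y, rfl⟩ := hπ b
    rw [hσπ, hσπ] at hab
    have h1 : x⁻¹ * y ∈ K := by
      rw [hK, MonoidHom.mem_ker, map_mul, ← hab, ← map_mul, inv_mul_cancel, map_one]
    exact (QuotientGroup.eq).2 h1
  have : Fintype (G ⧸ K) := Fintype.ofFinite _
  have hdvd := degree_mul_card_center_dvd σ hinj
  have h1 : Module.finrank ℂ V ∣ (Subgroup.center (G ⧸ K)).index := by
    rw [← (Subgroup.center (G ⧸ K)).index_mul_card] at hdvd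
    exact Nat.dvd_of_mul_dvd_mul_right Nat.card_pos hdvd
  have h2 : A.map π ≤ Subgroup.center (G ⧸ K) := by
    rintro _ ⟨z, hz, rfl⟩
    rw [Subgroup.mem_center_iff]
    intro q
    obtain ⟨y, rfl⟩ := hπ q
    apply hinj
    obtain ⟨ω, hω⟩ := hA z hz
    rw [map_mul, map_mul, hσπ, hσπ, hω]
    ext v
    simp
  have h3 := Subgroup.index_dvd_of_le h2
  have h4 : (A.map π).index ∣ A.index := A.index_map_dvd hπ
  exact h1.trans (h3.trans h4)

end Cfsg.Agent.Lib.Helper1
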