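import Mathlib

/-!
# S4395, Area E, package FIELD: finite-field facts used by the constructions GODD / GEVEN.
Everything is stated for a generic finite field `K` with `Nat.card K = p ^ orderOf (p : ZMod q)`.
-/

set_option autoImplicit false

namespace Cfsg.Agent.Lib.Lead.Sch

variable (p q : ℕ) [Fact p.Prime] [Fact q.Prime]

theorem fld_cast_ne_zero (hpq : p ≠ q) : (p : ZMod q) ≠ 0 := by
  have hq := (Fact.out : q.Prime)
  have hp := (Fact.out : p.Prime)
  intro h
  rw [ZMod.natCast_eq_zero_iff] at h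
  exact hpq ((Nat.prime_dvd_prime_iff_eq hq hp).1 h).symm

theorem field_a_pos (hpq : p ≠ q) : 0 < orderOf (p : ZMod q) := by
  have hq := (Fact.out : q.Prime)
  rw [orderOf_pos_iff, isOfFinOrder_iff_pow_eq_one]
  exact ⟨q - 1, Nat.sub_pos_of_lt hq.one_lt, ZMod.pow_card_sub_one_eq_one (fld_cast_ne_zero p q hpq)⟩

/-- `q ∣ p ^ d - 1` iff `p ^ d = 1` in `ZMod q`. -/
theorem fld_dvd_iff (d : ℕ) : q ∣ p ^ d - 1 ↔ (p : ZMod q) ^ d = 1 := by
  have hp := (Fact.out : p.Prime)
  have h1 : 1 ≤ p ^ d := Nat.one_le_pow _ _ hp.pos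
  rw [← ZMod.natCast_eq_zero_iff, Nat.cast_sub h1, sub_eq_zero, Nat.cast_pow, Nat.cast_one]

variable {K : Type*} [Field K] [Finite K]

theorem field_exists_zeta (hpq : p ≠ q) (hK : Nat.card K = p ^ orderOf (p : ZMod q)) :
    ∃ ζ : K, orderOf ζ = q := by
  have hdvd : q ∣ Nat.card Kˣ := by
    rw [Nat.card_units, hK, fld_dvd_iff]
    exact pow_orderOf_eq_one _
  obtain ⟨x, hx⟩ := exists_prime_orderOf_dvd_card' q hdvd
  exact ⟨(x : K), by rw [orderOf_units, hx]⟩

theorem field_irr (hpq : p ≠ q) (hK : Nat.card K = p ^ orderOf (p : ZMod q)) (ζ : K)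
    (hζ : orderOf ζ = q) (W : AddSubgroup K) (hW : ∀ w ∈ W, ζ * w ∈ W) : W = ⊥ ∨ W = ⊤ := by
  classical
  have hp := (Fact.out : p.Prime)
  have hq := (Fact.out : q.Prime)
  haveI : Fintype K := Fintype.ofFinite K
  by_cases hbot : W = ⊥
  · exact Or.inl hbot
  right
  have hcard2 : 2 ≤ Nat.card K := by
    have := Finite.one_lt_card (α := K)
    omega
  -- the stabiliser subfield
  let S : Subfield K :=
    { carrier := {k | ∀ w ∈ W, k * w ∈ W}
      mul_mem' := by
        intro a b ha hb w hw
        rw [mul_assoc]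
        exact ha _ (hb _ hw)
      one_mem' := by
        intro w hw
        rwa [one_mul]
      add_mem' := by
        intro a b ha hb w hw
        rw [add_mul]
        exact W.add_mem (ha _ hw) (hb _ hw)
      zero_mem' := by
        intro w _
        rw [zero_mul]
        exact W.zero_mem
      neg_mem' := by
        intro a ha w hw
        rw [neg_mul]
        exact W.neg_mem (ha _ hw)
      inv_mem' := by
        intro a ha
        by_cases ha0 : a = 0
        · subst ha0
          rw [inv_zero]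
          intro w _
          rw [zero_mul]
          exact W.zero_mem
        · have hpow : ∀ n : ℕ, ∀ w ∈ W, a ^ n * w ∈ W := by
            intro n
            induction n with
            | zero => intro w hw; rwa [pow_zero, one_mul]
            | succ n ih =>
              intro w hw
              rw [pow_succ, mul_assoc]
              exact ih _ (ha _ hw)
          have h1 : a ^ (Fintype.card K - 1) = 1 := FiniteField.pow_card_sub_one_eq_one a ha0
          have h2 : a⁻¹ = a ^ (Fintype.card K - 2) := by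
            have hc : 2 ≤ Fintype.card K := by rwa [← Nat.card_eq_fintype_card]
            have : a ^ (Fintype.card K - 2) * a = 1 := by
              rw [← pow_succ]
              have : Fintype.card K - 2 + 1 = Fintype.card K - 1 := by omega
              rw [this, h1]
            exact (eq_inv_of_mul_eq_one_left this).symm
          rw [h2]
          exact hpow _ }
  have hmemS : ∀ k : K, k ∈ S ↔ ∀ w ∈ W, k * w ∈ W := fun k => Iff.rfl
  have hζS : ζ ∈ S := hW
  -- card S = p ^ d, d ≤ a
  have hSdvd : Nat.card S ∣ p ^ orderOf (p : ZMod q) := by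
    rw [← hK]
    exact AddSubgroup.card_addSubgroup_dvd_card S.toSubring.toAddSubgroup
  obtain ⟨d, hda, hSd⟩ := (Nat.dvd_prime_pow hp).1 hSdvd
  -- q ∣ p ^ d - 1
  have hqd : q ∣ p ^ d - 1 := by
    rw [← hSd, ← Nat.card_units]
    have hζ0 : (⟨ζ, hζS⟩ : S) ≠ 0 := by
      intro h
      have h' : ζ = 0 := congrArg Subtype.val h
      rw [h', orderOf_eq_zero_iff.2 (by
        intro hfin
        obtain ⟨n, hn, hn1⟩ := isOfFinOrder_iff_pow_eq_one.1 hfin
        rw [zero_pow hn.ne'] at hn1
        exact zero_ne_one hn1)] at hζ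
      exact hq.ne_zero hζ.symm
    have ho : orderOf (Units.mk0 (⟨ζ, hζS⟩ : S) hζ0) = q := by
      rw [← orderOf_units, Units.val_mk0, ← hζ]
      exact (orderOf_injective ((S.subtype : ↥S →+* K) : ↥S →* K)
        (fun a b h => Subtype.ext h) (⟨ζ, hζS⟩ : S)).symm
    rw [← ho]
    exact orderOf_dvd_natCard _
  have had : orderOf (p : ZMod q) ∣ d := orderOf_dvd_of_pow_eq_one ((fld_dvd_iff p q d).1 hqd)
  have hd0 : d ≠ 0 := by
    intro h0
    rw [h0, pow_zero] at hSd
    have : Subsingleton S := (Nat.card_eq_one_iff_unique.1 hSd).1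
    exact zero_ne_one (Subsingleton.elim (0 : S) 1)
  have hdeq : d = orderOf (p : ZMod q) :=
    le_antisymm hda (Nat.le_of_dvd (Nat.pos_of_ne_zero hd0) had)
  have hStop : ∀ k : K, k ∈ S := by
    have hcardeq : Nat.card S = Nat.card K := by rw [hSd, hdeq, hK]
    have hsurj : Function.Surjective (S.subtype) := by
      have hinj : Function.Injective (S.subtype) := Subtype.val_injective
      have := (Nat.bijective_iff_injective_and_card (S.subtype)).2 ⟨hinj, hcardeq⟩
      exact this.2
    intro k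
    obtain ⟨s, hs⟩ := hsurj k
    rw [← hs]
    exact s.2
  -- conclude
  obtain ⟨w, hwW, hw0⟩ : ∃ w ∈ W, w ≠ 0 := by
    by_contra hcon
    push Not at hcon
    apply hbot
    rw [eq_bot_iff]
    intro w hw
    rw [AddSubgroup.mem_bot]
    exact hcon w hw
  rw [eq_top_iff]
  intro x _
  have := (hmemS _).1 (hStop (x * w⁻¹)) w hwW
  rwa [mul_assoc, inv_mul_cancel₀ hw0, mul_one] at this

/-- root count for `X ^ n + c X`. -/
theorem fld_card_roots_le (n : ℕ) (hn : 2 ≤ n) (c : K) :
    Nat.card {z : K // z ^ n + c * z = 0} ≤ n := by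
  classical
  haveI := Fintype.ofFinite K
  set f : Polynomial K := Polynomial.X ^ n + Polynomial.C c * Polynomial.X with hf
  have hdeg : f.natDegree = n := by
    rw [hf, Polynomial.natDegree_add_eq_left_of_natDegree_lt]
    · exact Polynomial.natDegree_X_pow n
    · rw [Polynomial.natDegree_X_pow]
      calc (Polynomial.C c * Polynomial.X).natDegree ≤ (Polynomial.X : Polynomial K).natDegree :=
            Polynomial.natDegree_C_mul_le c _
        _ ≤ 1 := Polynomial.natDegree_X_le
        _ < n := by omega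
  have hf0 : f ≠ 0 := by
    intro h
    rw [h, Polynomial.natDegree_zero] at hdeg
    omega
  have hsub : ∀ z : K, z ^ n + c * z = 0 → z ∈ f.roots.toFinset := by
    intro z hz
    rw [Multiset.mem_toFinset, Polynomial.mem_roots hf0]
    simp [hf, Polynomial.IsRoot, hz]
  rw [Nat.card_eq_fintype_card, Fintype.card_subtype]
  calc (Finset.univ.filter fun z : K => z ^ n + c * z = 0).card ≤ f.roots.toFinset.card :=
        Finset.card_le_card (fun z hz => hsub z (by simpa using hz))
    _ ≤ Multiset.card f.roots := Multiset.toFinset_card_le _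
    _ ≤ f.natDegree := Polynomial.card_roots' f
    _ = n := hdeg

theorem field_even (hpq : p ≠ q) (s : ℕ) (ha : orderOf (p : ZMod q) = 2 * s)
    (hK : Nat.card K = p ^ (2 * s)) (ζ : K) (hζ : orderOf ζ = q) :
    ∃ σ : K ≃+* K, (∀ x, σ (σ x) = x) ∧ σ ζ = ζ⁻¹ ∧ Nat.card {z : K // z + σ z = 0} = p ^ s ∧
      (∀ v : K, ∃ z : K, z + σ z = v * σ v) ∧ (∀ z : K, z + σ z = 0 → ∃ w : K, z = w - σ w) := by
  classical
  have hp := (Fact.out : p.Prime)
  have hq := (Fact.out : q.Prime)
  haveI : Fintype K := Fintype.ofFinite K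
  have hs : 1 ≤ s := by
    have := field_a_pos p q hpq
    omega
  have hFK : Fintype.card K = p ^ (2 * s) := by rw [← Nat.card_eq_fintype_card, hK]
  haveI : CharP K p := charP_of_card_eq_prime_pow hFK
  haveI : ExpChar K p := ExpChar.prime hp
  let σ : K ≃+* K := iterateFrobeniusEquiv K p s
  have hσ : ∀ x, σ x = x ^ p ^ s := fun x => iterateFrobeniusEquiv_def K p s x
  have hσσ : ∀ x, σ (σ x) = x := by
    intro x
    rw [hσ, hσ, ← pow_mul, ← pow_add, ← two_mul, ← hFK]
    exact FiniteField.pow_card x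
  -- p ^ s = -1 in ZMod q
  have hps : ((p : ZMod q)) ^ s = -1 := by
    have h2 : ((p : ZMod q) ^ s) * ((p : ZMod q) ^ s) = 1 := by
      rw [← pow_add, ← two_mul, ← ha]
      exact pow_orderOf_eq_one _
    rcases mul_self_eq_one_iff.1 h2 with h | h
    · exfalso
      have h3 := orderOf_dvd_of_pow_eq_one h
      rw [ha] at h3
      have := Nat.le_of_dvd (by omega) h3
      omega
    · exact h
  have hqdvd : q ∣ p ^ s + 1 := by
    rw [← ZMod.natCast_eq_zero_iff]
    push_cast
    rw [hps]
    ring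
  have hσζ : σ ζ = ζ⁻¹ := by
    rw [hσ]
    have h1 : ζ ^ (p ^ s + 1) = 1 := by
      rw [← orderOf_dvd_iff_pow_eq_one, hζ]
      exact hqdvd
    rw [pow_succ] at h1
    exact eq_inv_of_mul_eq_one_left h1
  have hps2 : 2 ≤ p ^ s := by
    calc 2 ≤ p := hp.two_le
      _ = p ^ 1 := (pow_one p).symm
      _ ≤ p ^ s := Nat.pow_le_pow_right hp.pos hs
  -- the norm-like maps
  let N : K →+ K := AddMonoidHom.mk' (fun x => x + σ x) (by
    intro a b
    simp only [map_add]
    abel)
  let D : K →+ K := AddMonoidHom.mk' (fun x => x - σ x) (by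
    intro a b
    simp only [map_add]
    abel)
  have hN : ∀ x, N x = x + σ x := fun _ => rfl
  have hD : ∀ x, D x = x - σ x := fun _ => rfl
  have hkerN : Nat.card N.ker ≤ p ^ s := by
    refine le_trans (le_of_eq ?_) (fld_card_roots_le (K := K) (p ^ s) hps2 1)
    refine Nat.card_congr (Equiv.subtypeEquivRight ?_)
    intro z
    rw [AddMonoidHom.mem_ker, hN, hσ, one_mul, add_comm]
  have hkerD : Nat.card D.ker ≤ p ^ s := by
    refine le_trans (le_of_eq ?_) (fld_card_roots_le (K := K) (p ^ s) hps2 (-1))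
    refine Nat.card_congr (Equiv.subtypeEquivRight ?_)
    intro z
    rw [AddMonoidHom.mem_ker, hD, hσ, neg_one_mul, ← sub_eq_add_neg, sub_eq_zero, sub_eq_zero,
      eq_comm]
  have hNr : N.range ≤ D.ker := by
    rintro _ ⟨x, rfl⟩
    rw [AddMonoidHom.mem_ker, hD, hN, map_add, hσσ]
    abel
  have hDr : D.range ≤ N.ker := by
    rintro _ ⟨x, rfl⟩
    rw [AddMonoidHom.mem_ker, hN, hD, map_sub, hσσ]
    abel
  have hNprod : Nat.card N.ker * Nat.card N.range = p ^ s * p ^ s := by
    rw [← AddSubgroup.index_ker, AddSubgroup.card_mul_index, hK, two_mul, pow_add]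
  have hDprod : Nat.card D.ker * Nat.card D.range = p ^ s * p ^ s := by
    rw [← AddSubgroup.index_ker, AddSubgroup.card_mul_index, hK, two_mul, pow_add]
  have hpspos : 0 < p ^ s := by omega
  have hNrange_le : Nat.card N.range ≤ p ^ s :=
    le_trans (AddSubgroup.card_le_of_le hNr) hkerD
  have hkerN_eq : Nat.card N.ker = p ^ s := by
    refine le_antisymm hkerN ?_
    by_contra hlt
    push Not at hlt
    have : Nat.card N.ker * Nat.card N.range < p ^ s * p ^ s :=
      calc Nat.card N.ker * Nat.card N.range ≤ Nat.card N.ker * p ^ s :=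
            Nat.mul_le_mul_left _ hNrange_le
        _ < p ^ s * p ^ s := Nat.mul_lt_mul_of_pos_right hlt hpspos
    omega
  have hNrange_eq : Nat.card N.range = p ^ s := by
    rw [hkerN_eq] at hNprod
    exact Nat.eq_of_mul_eq_mul_left hpspos hNprod
  have hNr_eq : N.range = D.ker :=
    AddSubgroup.eq_of_le_of_card_ge hNr (by rw [hNrange_eq]; exact hkerD)
  have hkerD_eq : Nat.card D.ker = p ^ s := by rw [← hNr_eq, hNrange_eq]
  have hDrange_eq : Nat.card D.range = p ^ s := by
    rw [hkerD_eq] at hDprod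
    exact Nat.eq_of_mul_eq_mul_left hpspos hDprod
  have hDr_eq : D.range = N.ker :=
    AddSubgroup.eq_of_le_of_card_ge hDr (by rw [hDrange_eq, hkerN_eq])
  refine ⟨σ, hσσ, hσζ, ?_, ?_, ?_⟩
  · rw [← hkerN_eq]
    refine Nat.card_congr (Equiv.subtypeEquivRight ?_)
    intro z
    rw [AddMonoidHom.mem_ker, hN]
  · intro v
    have hmem : v * σ v ∈ D.ker := by
      rw [AddMonoidHom.mem_ker, hD, map_mul, hσσ, mul_comm, sub_self]
    rw [← hNr_eq] at hmem
    obtain ⟨z, hz⟩ := hmem
    exact ⟨z, hz⟩
  · intro z hz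
    have hmem : z ∈ N.ker := by rw [AddMonoidHom.mem_ker, hN]; exact hz
    rw [← hDr_eq] at hmem
    obtain ⟨w, hw⟩ := hmem
    exact ⟨w, hw.symm⟩

end Cfsg.Agent.Lib.Lead.Sch
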