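import Mathlib
import Cfsg.Agent.Lib.Lead.SchDefs
import Cfsg.Agent.Lib.Helper1.SchField
import Cfsg.Agent.Lib.Helper7.SchLA1

/-!
# S4395, Area L, LA2a even case: `fc_even`.
-/

set_option autoImplicit false
universe u

namespace Cfsg.Agent.Lib.Lead.Sch

theorem fce_card_dual_zmod {A : Type u} [AddCommGroup A] [Finite A] (p : ℕ) [Fact p.Prime]
    [Module (ZMod p) A] : Nat.card (A →ₗ[ZMod p] ZMod p) = Nat.card A := by
  have : Module.Finite (ZMod p) A := Module.Finite.of_finite
  have h1 := Module.natCard_eq_pow_finrank (K := ZMod p) (V := Module.Dual (ZMod p) A)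
  have h2 := Module.natCard_eq_pow_finrank (K := ZMod p) (V := A)
  rw [Subspace.dual_finrank_eq] at h1
  exact h1.trans h2.symm

theorem fce_card_addHom_aux {A : Type u} [AddCommGroup A] [Finite A] (p : ℕ) [Fact p.Prime]
    [Module (ZMod p) A] : Nat.card (A →+ ZMod p) = Nat.card A := by
  have e : (A →+ ZMod p) ≃ (A →ₗ[ZMod p] ZMod p) :=
    { toFun := fun f => f.toZModLinearMap p
      invFun := fun f => f.toAddMonoidHom
      left_inv := fun f => by ext; rfl
      right_inv := fun f => by ext; rfl }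
  rw [Nat.card_congr e]
  exact fce_card_dual_zmod p

/-- the number of additive characters `A → ZMod p` of a finite elementary abelian `p`-group. -/
theorem fce_card_addHom {A : Type u} [AddCommGroup A] [Finite A] (p : ℕ) [Fact p.Prime]
    (hA : ∀ a : A, p • a = 0) : Nat.card (A →+ ZMod p) = Nat.card A :=
  @fce_card_addHom_aux A _ _ p _ (AddCommGroup.zmodModule hA)

/-- the powers of `ζ` span `K` additively. -/
theorem fce_span {K : Type u} [Field K] (ζ : K) (hgen : ∀ S : Subring K, ζ ∈ S → S = ⊤)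
    (M : AddSubgroup K) (hM : ∀ i : ℕ, ζ ^ i ∈ M) : ∀ x : K, x ∈ M := by
  intro x
  have h1 : x ∈ Subring.closure ({ζ} : Set K) := by
    rw [hgen _ (Subring.subset_closure (Set.mem_singleton ζ))]
    exact Subring.mem_top x
  rw [Subring.mem_closure_iff] at h1
  refine (AddSubgroup.closure_le M).2 ?_ h1
  intro y hy
  rw [SetLike.mem_coe, ← Submonoid.powers_eq_closure, Submonoid.mem_powers_iff] at hy
  obtain ⟨i, rfl⟩ := hy
  exact hM i

theorem fc_even (p q : ℕ) [Fact p.Prime] [Fact q.Prime] (hpq : p ≠ q) (s : ℕ)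
    (ha : orderOf (p : ZMod q) = 2 * s)
    {K : Type u} [Field K] [Finite K] [CharP K p] (ζ : K) (hζq : ζ ^ q = 1) (hζ1 : ζ ≠ 1)
    (hgen : ∀ S : Subring K, ζ ∈ S → S = ⊤) :
    Nat.card {l : K →+ ZMod p // ∀ i : ℕ, l (ζ ^ i) = - l (ζ⁻¹ ^ i)} ≤ p ^ s := by
  classical
  have hp := (Fact.out : p.Prime)
  have hq := (Fact.out : q.Prime)
  have hK' : Nat.card K = p ^ orderOf (p : ZMod q) := field_card p q hpq ζ hζq hζ1 hgen
  have hK : Nat.card K = p ^ (2 * s) := by rw [← ha]; exact hK'
  have hζ : orderOf ζ = q := orderOf_eq_prime hζq hζ1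
  obtain ⟨σ, hσσ, hσζ, hcard, -, -⟩ := field_even p q hpq s ha hK ζ hζ
  -- N = 1 + σ
  let N : K →+ K := AddMonoidHom.mk' (fun x => x + σ x) (by
    intro a b
    simp only [map_add]
    abel)
  have hN : ∀ x, N x = x + σ x := fun _ => rfl
  have hkerN : Nat.card N.ker = p ^ s := by
    rw [← hcard]
    refine Nat.card_congr (Equiv.subtypeEquivRight ?_)
    intro z
    rw [AddMonoidHom.mem_ker, hN]
  have hpspos : 0 < p ^ s := pow_pos hp.pos s
  -- the index of the range
  have hindex : N.range.index = p ^ s := by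
    have h1 : Nat.card N.ker * Nat.card N.range = p ^ s * p ^ s := by
      rw [← AddSubgroup.index_ker, AddSubgroup.card_mul_index, hK, two_mul, pow_add]
    rw [hkerN] at h1
    have h2 : Nat.card N.range = p ^ s := Nat.eq_of_mul_eq_mul_left hpspos h1
    have h3 : Nat.card N.range * N.range.index = p ^ s * p ^ s := by
      rw [AddSubgroup.card_mul_index, hK, two_mul, pow_add]
    rw [h2] at h3
    exact Nat.eq_of_mul_eq_mul_left hpspos h3
  -- the quotient is elementary abelian
  have hexp : ∀ a : K ⧸ N.range, p • a = 0 := by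
    intro a
    induction a using QuotientAddGroup.induction_on with
    | H x =>
      rw [← QuotientAddGroup.mk_nsmul, nsmul_eq_mul, CharP.cast_eq_zero K p, zero_mul]
      rfl
  have hcount : Nat.card ((K ⧸ N.range) →+ ZMod p) = p ^ s := by
    rw [fce_card_addHom p hexp]
    exact hindex
  -- every admissible `l` kills the range of `N`
  have hkill : ∀ l : K →+ ZMod p, (∀ i : ℕ, l (ζ ^ i) = - l (ζ⁻¹ ^ i)) → N.range ≤ l.ker := by
    intro l hl
    have hall : ∀ x : K, x ∈ (l + l.comp σ.toAddMonoidHom).ker := by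
      refine fce_span ζ hgen _ ?_
      intro i
      rw [AddMonoidHom.mem_ker, AddMonoidHom.add_apply, AddMonoidHom.comp_apply]
      have : σ.toAddMonoidHom (ζ ^ i) = ζ⁻¹ ^ i := by
        show σ (ζ ^ i) = ζ⁻¹ ^ i
        rw [map_pow, hσζ]
      rw [this, hl i, neg_add_cancel]
    rintro _ ⟨x, rfl⟩
    have := hall x
    rw [AddMonoidHom.mem_ker, AddMonoidHom.add_apply, AddMonoidHom.comp_apply] at this
    rw [AddMonoidHom.mem_ker, hN, map_add]
    exact this
  -- inject into the dual of the quotient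
  let f : {l : K →+ ZMod p // ∀ i : ℕ, l (ζ ^ i) = - l (ζ⁻¹ ^ i)} → ((K ⧸ N.range) →+ ZMod p) :=
    fun l => QuotientAddGroup.lift N.range l.1 (hkill l.1 l.2)
  have hf : Function.Injective f := by
    intro l l' h
    apply Subtype.ext
    ext x
    have := DFunLike.congr_fun h (QuotientAddGroup.mk x)
    exact this
  haveI : Finite ((K ⧸ N.range) →+ ZMod p) := by
    apply Nat.finite_of_card_ne_zero
    rw [hcount]
    exact hpspos.ne'
  calc Nat.card {l : K →+ ZMod p // ∀ i : ℕ, l (ζ ^ i) = - l (ζ⁻¹ ^ i)}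
      ≤ Nat.card ((K ⧸ N.range) →+ ZMod p) := Nat.card_le_card_of_injective f hf
    _ = p ^ s := hcount

end Cfsg.Agent.Lib.Lead.Sch
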