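import Mathlib
import Cfsg.Agent.Lib.Lead.SchDefs
import Cfsg.Agent.Lib.Helper1.SchField

/-!
# S4395, Area E, package GEVEN: the universal group when `a = orderOf (p : ZMod q)` is even.
Explicit group on triples `(v, z, k) : K × K × ZMod n` with `z + σ z = v * σ v`,
`(v,z,k) (v',z',k') = (v + ζ^k v', z + z' + σ(v) ζ^k v', k + k')`.
-/

set_option autoImplicit false
universe u

namespace Cfsg.Agent.Lib.Lead.Sch

/-- the data needed for the even construction. -/
structure EData (p q : ℕ) (K : Type u) [Field K] where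
  σ : K ≃+* K
  ζ : K
  n : ℕ
  n_pos : 0 < n
  σσ : ∀ x, σ (σ x) = x
  σζ : σ ζ * ζ = 1
  ζn : ζ ^ n = 1
  ζq : ζ ^ q = 1
  ζ_ne : ζ ≠ 1
  pK : (p : K) = 0
  solve : ∀ v : K, ∃ z : K, z + σ z = v * σ v
  ker : ∀ z : K, z + σ z = 0 → ∃ w : K, z = w - σ w
  irr : ∀ W : AddSubgroup K, (∀ w ∈ W, ζ * w ∈ W) → W = ⊥ ∨ W = ⊤

namespace EData

variable {p q : ℕ} {K : Type u} [Field K] (E : EData p q K)

instance neZero_n : NeZero E.n := ⟨E.n_pos.ne'⟩

/-- `ζ ^ k` for `k : ZMod n`. -/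
def ζp (k : ZMod E.n) : K := E.ζ ^ k.val

theorem ζ_pow_mod (m : ℕ) : E.ζ ^ (m % E.n) = E.ζ ^ m := by
  conv_rhs => rw [← Nat.div_add_mod m E.n, pow_add, pow_mul, E.ζn, one_pow, one_mul]

@[simp] theorem ζp_zero : E.ζp 0 = 1 := by
  rw [ζp, ZMod.val_zero, pow_zero]

theorem ζp_add (k k' : ZMod E.n) : E.ζp (k + k') = E.ζp k * E.ζp k' := by
  rw [ζp, ζp, ζp, ZMod.val_add, ζ_pow_mod, pow_add]

theorem ζp_natCast (m : ℕ) : E.ζp (m : ZMod E.n) = E.ζ ^ m := by
  rw [ζp, ZMod.val_natCast, ζ_pow_mod]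

theorem ζp_one : E.ζp 1 = E.ζ := by
  have := E.ζp_natCast 1
  rwa [Nat.cast_one, pow_one] at this

theorem σ_ζp (k : ZMod E.n) : E.σ (E.ζp k) * E.ζp k = 1 := by
  rw [ζp, map_pow, ← mul_pow, E.σζ, one_pow]

theorem ζp_neg (k : ZMod E.n) : E.ζp (-k) * E.ζp k = 1 := by
  rw [← ζp_add, neg_add_cancel, ζp_zero]

end EData

/-- the group of the even case. -/
@[ext] structure GEv {p q : ℕ} {K : Type u} [Field K] (E : EData p q K) where
  v : K
  z : K
  k : ZMod E.n
  hz : z + E.σ z = v * E.σ v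

namespace GEv

variable {p q : ℕ} {K : Type u} [Field K] {E : EData p q K}

instance : Mul (GEv E) :=
  ⟨fun a b => ⟨a.v + E.ζp a.k * b.v, a.z + b.z + E.σ a.v * (E.ζp a.k * b.v), a.k + b.k, by
    have h1 := a.hz
    have h2 := b.hz
    have h3 := E.σ_ζp a.k
    simp only [map_add, map_mul, E.σσ]
    linear_combination h1 + h2 - (b.v * E.σ b.v) * h3⟩⟩

instance : One (GEv E) := ⟨⟨0, 0, 0, by simp⟩⟩

instance : Inv (GEv E) :=
  ⟨fun a => ⟨-(E.ζp (-a.k) * a.v), -a.z + E.σ a.v * a.v, -a.k, by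
    have h1 := a.hz
    have h3 := E.σ_ζp (-a.k)
    simp only [map_add, map_mul, map_neg, E.σσ]
    linear_combination -h1 - (a.v * E.σ a.v) * h3⟩⟩

@[simp] theorem mul_v (a b : GEv E) : (a * b).v = a.v + E.ζp a.k * b.v := rfl
@[simp] theorem mul_z (a b : GEv E) :
    (a * b).z = a.z + b.z + E.σ a.v * (E.ζp a.k * b.v) := rfl
@[simp] theorem mul_k (a b : GEv E) : (a * b).k = a.k + b.k := rfl
@[simp] theorem one_v : (1 : GEv E).v = 0 := rfl
@[simp] theorem one_z : (1 : GEv E).z = 0 := rfl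
@[simp] theorem one_k : (1 : GEv E).k = 0 := rfl
@[simp] theorem inv_v (a : GEv E) : (a⁻¹).v = -(E.ζp (-a.k) * a.v) := rfl
@[simp] theorem inv_z (a : GEv E) : (a⁻¹).z = -a.z + E.σ a.v * a.v := rfl
@[simp] theorem inv_k (a : GEv E) : (a⁻¹).k = -a.k := rfl

instance : Group (GEv E) where
  mul_assoc a b c := by
    ext
    · simp only [mul_v, mul_k, E.ζp_add]
      ring
    · have h3 := E.σ_ζp a.k
      simp only [mul_v, mul_z, mul_k, E.ζp_add, map_add, map_mul]
      linear_combination (E.σ b.v * E.ζp b.k * c.v) * h3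
    · simp only [mul_k]
      ring
  one_mul a := by
    ext <;> simp
  mul_one a := by
    ext <;> simp
  inv_mul_cancel a := by
    ext
    · simp only [mul_v, inv_v, inv_k, one_v]
      ring
    · have h3 := E.σ_ζp (-a.k)
      simp only [mul_z, inv_v, inv_z, inv_k, one_z, map_neg, map_mul]
      linear_combination (-(E.σ a.v * a.v)) * h3
    · simp

end GEv

namespace GEv

variable {p q : ℕ} {K : Type u} [Field K] {E : EData p q K}

instance instFinite [Finite K] : Finite (GEv E) :=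
  Finite.of_injective (fun a : GEv E => (a.v, a.z, a.k)) (by
    intro a b h
    simp only [Prod.mk.injEq] at h
    exact GEv.ext h.1 h.2.1 h.2.2)

/-- `P`: elements with `k = 0`. -/
def PP (E : EData p q K) : Subgroup (GEv E) where
  carrier := {a | a.k = 0}
  mul_mem' := by
    intro a b ha hb
    simp only [Set.mem_ofPred_eq] at *
    simp [ha, hb]
  one_mem' := rfl
  inv_mem' := by
    intro a ha
    simp only [Set.mem_ofPred_eq] at *
    simp [ha]

/-- `C`: elements with `v = 0`, `k = 0`. -/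
def CC (E : EData p q K) : Subgroup (GEv E) where
  carrier := {a | a.v = 0 ∧ a.k = 0}
  mul_mem' := by
    rintro a b ⟨ha, ha'⟩ ⟨hb, hb'⟩
    refine ⟨?_, ?_⟩ <;> simp [ha, ha', hb, hb']
  one_mem' := ⟨rfl, rfl⟩
  inv_mem' := by
    rintro a ⟨ha, ha'⟩
    refine ⟨?_, ?_⟩ <;> simp [ha, ha']

theorem mem_PP {a : GEv E} : a ∈ PP E ↔ a.k = 0 := Iff.rfl
theorem mem_CC {a : GEv E} : a ∈ CC E ↔ a.v = 0 ∧ a.k = 0 := Iff.rfl

/-- the generator `y`. -/
def yy (E : EData p q K) : GEv E := ⟨0, 0, 1, by simp⟩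

@[simp] theorem yy_v : (yy E).v = 0 := rfl
@[simp] theorem yy_z : (yy E).z = 0 := rfl
@[simp] theorem yy_k : (yy E).k = 1 := rfl

theorem pow_k (a : GEv E) (m : ℕ) : (a ^ m).k = (m : ZMod E.n) * a.k := by
  induction m with
  | zero => simp
  | succ m ih =>
    rw [pow_succ, mul_k, ih]
    push_cast
    ring

theorem pow_v (a : GEv E) (ha : a.k = 0) (m : ℕ) : (a ^ m).v = (m : K) * a.v := by
  induction m with
  | zero => simp
  | succ m ih =>
    rw [pow_succ, mul_v, ih, pow_k, ha, mul_zero, E.ζp_zero]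
    push_cast
    ring

theorem pow_z (a : GEv E) (ha : a.k = 0) (m : ℕ) :
    (a ^ m).z = (m : K) * a.z + (m.choose 2 : K) * (E.σ a.v * a.v) := by
  induction m with
  | zero => simp
  | succ m ih =>
    rw [pow_succ, mul_z, ih, pow_v a ha, pow_k, ha, mul_zero, E.ζp_zero, map_mul, map_natCast]
    have h2 : ((m + 1).choose 2 : K) = (m.choose 2 : K) + m := by
      rw [Nat.choose_succ_succ' m 1, Nat.choose_one_right]
      push_cast
      ring
    rw [h2]
    push_cast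
    ring

theorem yy_pow_v (m : ℕ) : ((yy E) ^ m).v = 0 := by
  induction m with
  | zero => simp
  | succ m ih => rw [pow_succ, mul_v, ih, yy_v, mul_zero, add_zero]

theorem yy_pow_z (m : ℕ) : ((yy E) ^ m).z = 0 := by
  induction m with
  | zero => simp
  | succ m ih => rw [pow_succ, mul_z, ih, yy_pow_v, yy_z, yy_v]; simp

theorem yy_pow_k (m : ℕ) : ((yy E) ^ m).k = (m : ZMod E.n) := by
  rw [pow_k, yy_k, mul_one]

theorem comm_v {u w : GEv E} (hu : u.k = 0) (hw : w.k = 0) : (u * w * u⁻¹ * w⁻¹).v = 0 := by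
  simp [hu, hw]

theorem comm_k {u w : GEv E} (hu : u.k = 0) (hw : w.k = 0) : (u * w * u⁻¹ * w⁻¹).k = 0 := by
  simp [hu, hw]

theorem comm_z {u w : GEv E} (hu : u.k = 0) (hw : w.k = 0) :
    (u * w * u⁻¹ * w⁻¹).z = E.σ u.v * w.v - E.σ w.v * u.v := by
  simp [hu, hw]
  ring

theorem PP_normal : (PP E).Normal :=
  ⟨fun a ha g => by
    rw [mem_PP] at *
    simp [ha]⟩

theorem CC_le_PP : CC E ≤ PP E := fun _ ha => ha.2

theorem CC_central : CC E ≤ Subgroup.center (GEv E) := by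
  rintro c ⟨hcv, hck⟩
  rw [Subgroup.mem_center_iff]
  intro g
  ext
  · simp [hcv, hck]
  · simp [hcv, hck]
    ring
  · simp [hck]

theorem CC_exp (c : GEv E) (hc : c ∈ CC E) : c ^ p = 1 := by
  obtain ⟨hcv, hck⟩ := hc
  ext
  · rw [pow_v c hck, hcv, mul_zero, one_v]
  · rw [pow_z c hck, hcv, E.pK]
    simp
  · rw [pow_k, hck, mul_zero, one_k]

theorem pow_p_mem_CC (a : GEv E) (ha : a ∈ PP E) : a ^ p ∈ CC E := by
  rw [mem_PP] at ha
  refine ⟨?_, ?_⟩
  · rw [pow_v a ha, E.pK, zero_mul]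
  · rw [pow_k, ha, mul_zero]

theorem PP_pgroup : IsPGroup p (PP E) := by
  intro g
  refine ⟨2, ?_⟩
  apply Subtype.ext
  rw [Subgroup.coe_pow, Subgroup.coe_one, sq, pow_mul]
  exact CC_exp _ (pow_p_mem_CC _ g.2)

theorem yy_order : orderOf (yy E) = E.n := by
  rw [orderOf_eq_iff E.n_pos]
  refine ⟨?_, ?_⟩
  · ext
    · rw [yy_pow_v, one_v]
    · rw [yy_pow_z, one_z]
    · rw [yy_pow_k, one_k, ZMod.natCast_self]
  · intro m hm hm0 h
    have hk : ((yy E) ^ m).k = 0 := by rw [h, one_k]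
    rw [yy_pow_k, ZMod.natCast_eq_zero_iff] at hk
    exact absurd (Nat.le_of_dvd hm0 hk) (not_le.2 hm)

theorem gen_top : PP E ⊔ Subgroup.zpowers (yy E) = ⊤ := by
  rw [eq_top_iff]
  intro a _
  have h1 : a * ((yy E) ^ a.k.val)⁻¹ ∈ PP E := by
    rw [mem_PP, mul_k, inv_k, yy_pow_k, ZMod.natCast_zmod_val, add_neg_cancel]
  have h2 : (yy E) ^ a.k.val ∈ Subgroup.zpowers (yy E) := Subgroup.npow_mem_zpowers _ _
  have := Subgroup.mul_mem_sup h1 h2
  rwa [inv_mul_cancel_right] at this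

theorem yy_pow_q_central : (yy E) ^ q ∈ Subgroup.center (GEv E) := by
  rw [Subgroup.mem_center_iff]
  intro g
  ext
  · rw [mul_v, mul_v, yy_pow_v, yy_pow_k, E.ζp_natCast, E.ζq]
    simp
  · rw [mul_z, mul_z, yy_pow_v, yy_pow_z]
    simp
  · rw [mul_k, mul_k, add_comm]

theorem quot_comm' (u : GEv E) (hu : u ∈ PP E) (w : GEv E) (hw : w ∈ PP E) :
    u * w * u⁻¹ * w⁻¹ ∈ CC E :=
  ⟨comm_v hu hw, comm_k hu hw⟩

theorem exists_comm {c : GEv E} (hc : c ∈ CC E) :
    ∃ u ∈ PP E, ∃ w ∈ PP E, c = u * w * u⁻¹ * w⁻¹ := by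
  obtain ⟨hcv, hck⟩ := hc
  have hcz : c.z + E.σ c.z = 0 := by
    have := c.hz
    rw [hcv] at this
    simpa using this
  obtain ⟨w₀, hw₀⟩ := E.ker c.z hcz
  obtain ⟨z₁, hz₁⟩ := E.solve 1
  obtain ⟨z₂, hz₂⟩ := E.solve w₀
  refine ⟨⟨1, z₁, 0, hz₁⟩, rfl, ⟨w₀, z₂, 0, hz₂⟩, rfl, ?_⟩
  ext
  · rw [comm_v rfl rfl, hcv]
  · rw [comm_z rfl rfl, hw₀]
    simp
  · rw [comm_k rfl rfl, hck]

theorem C_gen' : CC E ≤ Subgroup.closure
    ({x : GEv E | ∃ u ∈ PP E, x = u ^ p} ∪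
      {x : GEv E | ∃ u ∈ PP E, ∃ v ∈ PP E, x = u * v * u⁻¹ * v⁻¹}) := by
  intro c hc
  obtain ⟨u, hu, w, hw, h⟩ := exists_comm hc
  exact Subgroup.subset_closure (Or.inr ⟨u, hu, w, hw, h⟩)

/-- the `v`-coordinates of a subgroup of `P`. -/
def vImage (D : Subgroup (GEv E)) (hD : D ≤ PP E) : AddSubgroup K where
  carrier := {x | ∃ a ∈ D, a.v = x}
  zero_mem' := ⟨1, D.one_mem, rfl⟩
  add_mem' := by
    rintro _ _ ⟨a, ha, rfl⟩ ⟨b, hb, rfl⟩
    refine ⟨a * b, D.mul_mem ha hb, ?_⟩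
    have := hD ha
    rw [mem_PP] at this
    simp [this]
  neg_mem' := by
    rintro _ ⟨a, ha, rfl⟩
    refine ⟨a⁻¹, D.inv_mem ha, ?_⟩
    have := hD ha
    rw [mem_PP] at this
    simp [this]

/-- the elements of `P` with `v`-coordinate in `W`. -/
def vPre (E : EData p q K) (W : AddSubgroup K) : Subgroup (GEv E) where
  carrier := {a | a.k = 0 ∧ a.v ∈ W}
  mul_mem' := by
    rintro a b ⟨ha, ha'⟩ ⟨hb, hb'⟩
    refine ⟨by simp [ha, hb], ?_⟩
    simp only [mul_v, ha, E.ζp_zero, one_mul]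
    exact W.add_mem ha' hb'
  one_mem' := ⟨rfl, W.zero_mem⟩
  inv_mem' := by
    rintro a ⟨ha, ha'⟩
    refine ⟨by simp [ha], ?_⟩
    simp only [inv_v, ha, neg_zero, E.ζp_zero, one_mul]
    exact W.neg_mem ha'

theorem yy_conj_v (a : GEv E) : (yy E * a * (yy E)⁻¹).v = E.ζ * a.v := by
  simp [E.ζp_one]

theorem yy_conj_k (a : GEv E) : (yy E * a * (yy E)⁻¹).k = a.k := by
  simp

theorem irr' (D : Subgroup (GEv E)) (hCD : CC E ≤ D) (hD : D ≤ PP E)
    (hinv : ∀ d ∈ D, yy E * d * (yy E)⁻¹ ∈ D) : D = CC E ∨ D = PP E := by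
  have hW : ∀ w ∈ vImage D hD, E.ζ * w ∈ vImage D hD := by
    rintro _ ⟨a, ha, rfl⟩
    exact ⟨_, hinv a ha, yy_conj_v a⟩
  rcases E.irr _ hW with h | h
  · left
    refine le_antisymm ?_ hCD
    intro a ha
    have h1 : a.v ∈ vImage D hD := ⟨a, ha, rfl⟩
    rw [h, AddSubgroup.mem_bot] at h1
    exact ⟨h1, hD ha⟩
  · right
    refine le_antisymm hD ?_
    intro a ha
    rw [mem_PP] at ha
    have h1 : a.v ∈ vImage D hD := by rw [h]; exact AddSubgroup.mem_top _
    obtain ⟨b, hb, hbv⟩ := h1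
    have hbk : b.k = 0 := hD hb
    have h2 : a * b⁻¹ ∈ CC E := by
      refine ⟨?_, ?_⟩
      · simp [ha, hbk, hbv]
      · simp [ha, hbk]
    have := D.mul_mem (hCD h2) hb
    rwa [inv_mul_cancel_right] at this

theorem nongen' (D : Subgroup (GEv E)) (hD : D ≤ PP E) (hDC : D ⊔ CC E = PP E) : D = PP E := by
  have hP : PP E ≤ vPre E (vImage D hD) := by
    rw [← hDC]
    refine sup_le ?_ ?_
    · intro a ha
      exact ⟨hD ha, a, ha, rfl⟩
    · rintro c ⟨hcv, hck⟩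
      refine ⟨hck, ?_⟩
      rw [hcv]
      exact (vImage D hD).zero_mem
  have hCD : CC E ≤ D := by
    intro c hc
    obtain ⟨u, hu, w, hw, h⟩ := exists_comm hc
    obtain ⟨-, u', hu', hu'v⟩ := hP hu
    obtain ⟨-, w', hw', hw'v⟩ := hP hw
    have hu'k : u'.k = 0 := hD hu'
    have hw'k : w'.k = 0 := hD hw'
    have hc' : c = u' * w' * u'⁻¹ * w'⁻¹ := by
      rw [h]
      ext
      · rw [comm_v hu hw, comm_v hu'k hw'k]
      · rw [comm_z hu hw, comm_z hu'k hw'k, hu'v, hw'v]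
      · rw [comm_k hu hw, comm_k hu'k hw'k]
    rw [hc']
    exact D.mul_mem (D.mul_mem (D.mul_mem hu' hw') (D.inv_mem hu')) (D.inv_mem hw')
  rw [← hDC]
  exact (sup_eq_left.2 hCD).symm

theorem moved' : ∃ u ∈ PP E, yy E * u * (yy E)⁻¹ ≠ u := by
  obtain ⟨z₁, hz₁⟩ := E.solve 1
  refine ⟨⟨1, z₁, 0, hz₁⟩, rfl, ?_⟩
  intro h
  have := congrArg GEv.v h
  rw [yy_conj_v] at this
  simp only [mul_one] at this
  exact E.ζ_ne this

theorem card_PP [Finite K] :
    Nat.card (PP E) = Nat.card K * Nat.card {c : K // c + E.σ c = 0} := by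
  classical
  choose z₀ hz₀ using E.solve
  rw [← Nat.card_prod]
  refine Nat.card_congr ?_
  exact
    { toFun := fun a => (a.1.v, ⟨a.1.z - z₀ a.1.v, by
        have h1 := a.1.hz
        have h2 := hz₀ a.1.v
        simp only [map_sub]
        linear_combination h1 - h2⟩)
      invFun := fun x => ⟨⟨x.1, z₀ x.1 + x.2.1, 0, by
        have h2 := hz₀ x.1
        have h3 := x.2.2
        simp only [map_add]
        linear_combination h2 + h3⟩, rfl⟩
      left_inv := by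
        intro a
        apply Subtype.ext
        ext
        · rfl
        · simp
        · exact a.2.symm
      right_inv := by
        rintro ⟨v, c, hc⟩
        simp }

/-- the Schmidt datum on `GEv E`. -/
def sdEven (E : EData p q K) (r : ℕ) (hn : E.n = q ^ r) : SD p q (GEv E) where
  P := PP E
  C := CC E
  y := yy E
  P_normal := PP_normal
  P_pgroup := PP_pgroup
  y_order := ⟨r, by rw [yy_order, hn]⟩
  gen := gen_top
  yq_central := yy_pow_q_central
  C_le := CC_le_PP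
  C_central := CC_central
  C_exp := CC_exp
  quot_comm := quot_comm'
  quot_exp := pow_p_mem_CC
  C_gen := C_gen'
  irr := irr'
  nongen := nongen'
  moved := moved'

end GEv

theorem geven_of_field {K : Type u} [Field K] [Finite K] (p q : ℕ) [Fact p.Prime] [Fact q.Prime]
    (hpq : p ≠ q) (s : ℕ) (ha : orderOf (p : ZMod q) = 2 * s) (hK : Nat.card K = p ^ (2 * s))
    (r : ℕ) (hr : 1 ≤ r) :
    ∃ (G₀ : Type u) (_ : Group G₀) (_ : Finite G₀) (sd : SD p q G₀),
      orderOf sd.y = q ^ r ∧ Nat.card sd.P = p ^ (3 * s) := by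
  classical
  have hp := (Fact.out : p.Prime)
  have hq := (Fact.out : q.Prime)
  have hK' : Nat.card K = p ^ orderOf (p : ZMod q) := by rw [ha]; exact hK
  obtain ⟨ζ, hζ⟩ := field_exists_zeta p q hpq hK'
  obtain ⟨σ, hσσ, hσζ, hcard, hsolve, hker⟩ := field_even p q hpq s ha hK ζ hζ
  have hζq : ζ ^ q = 1 := by rw [← hζ]; exact pow_orderOf_eq_one ζ
  have hζ0 : ζ ≠ 0 := by
    intro h
    rw [h, zero_pow hq.ne_zero] at hζq
    exact zero_ne_one hζq
  have : Fintype K := Fintype.ofFinite K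
  have : CharP K p :=
    charP_of_card_eq_prime_pow (f := 2 * s) (by rw [← Nat.card_eq_fintype_card]; exact hK)
  let E : EData p q K :=
    { σ := σ
      ζ := ζ
      n := q ^ r
      n_pos := pow_pos hq.pos r
      σσ := hσσ
      σζ := by rw [hσζ, inv_mul_cancel₀ hζ0]
      ζn := by
        rw [← orderOf_dvd_iff_pow_eq_one, hζ]
        exact dvd_pow_self q (by omega)
      ζq := hζq
      ζ_ne := by
        intro h
        rw [h, orderOf_one] at hζ
        exact hq.ne_one hζ.symm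
      pK := CharP.cast_eq_zero K p
      solve := hsolve
      ker := hker
      irr := fun W hW => field_irr p q hpq hK' ζ hζ W hW }
  refine ⟨GEv E, inferInstance, inferInstance, GEv.sdEven E r rfl, ?_, ?_⟩
  · show orderOf (GEv.yy E) = q ^ r
    rw [GEv.yy_order]
  · show Nat.card (GEv.PP E) = p ^ (3 * s)
    rw [GEv.card_PP, hK, hcard, ← pow_add]
    congr 1
    ring

theorem geven (p q : ℕ) [Fact p.Prime] [Fact q.Prime] (hpq : p ≠ q) (s : ℕ)
    (ha : orderOf (p : ZMod q) = 2 * s) (r : ℕ) (hr : 1 ≤ r) :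
    ∃ (G₀ : Type u) (_ : Group G₀) (_ : Finite G₀) (sd : SD p q G₀),
      orderOf sd.y = q ^ r ∧ Nat.card sd.P = p ^ (3 * s) := by
  have hs : 2 * s ≠ 0 := by
    have := field_a_pos p q hpq
    omega
  have hK : Nat.card (ULift.{u} (GaloisField p (2 * s))) = p ^ (2 * s) := by
    rw [Nat.card_congr Equiv.ulift]
    exact GaloisField.card p (2 * s) hs
  exact geven_of_field p q hpq s ha hK r hr

end Cfsg.Agent.Lib.Lead.Sch
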