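import Mathlib
import Cfsg.Agent.Lib.Helper1.FamOrbits
import Cfsg.Agent.Lib.Helper1.M24W9
import Cfsg.Agent.Lib.Helper9.SextetAct

/-!
# The orbits of a sextet stabilizer on the sextets
-/

set_option autoImplicit false

namespace Cfsg.Agent.Lib.Helper1.M24

open Cfsg Cfsg.Agent.Lib.Helper1
open scoped Pointwise

/-- check that a list of masks gives a sextet -/
def sextOK (l : List ℕ) : Bool :=
  goodL l && (l.length == 6) && l.all (fun m => popcN 24 m == 4) &&
    l.all (fun a => l.all (fun b => a == b || octList.contains (a ||| b)))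

theorem famL_mem_sextets {l : List ℕ} (h : sextOK l = true) : famL l ∈ sextets := by
  unfold sextOK at h
  simp only [Bool.and_eq_true, beq_iff_eq, List.all_eq_true, Bool.or_eq_true,
    List.contains_iff_mem] at h
  obtain ⟨⟨⟨hg, hlen⟩, h4⟩, hoct⟩ := h
  refine ⟨by rw [card_famL hg, hlen], ?_, ?_⟩
  · intro t ht
    obtain ⟨m, hm, rfl⟩ := (mem_famL l t).mp ht
    rw [card_sp, h4 m hm]
  · intro t ht u hu hne
    obtain ⟨a, ha, rfl⟩ := (mem_famL l t).mp ht
    obtain ⟨b, hb, rfl⟩ := (mem_famL l u).mp hu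
    rcases hoct a ha b hb with h | h
    · exact absurd (by rw [h]) hne
    · rw [sp_union]
      exact sp_mem_octads h

/-- the standard sextet -/
abbrev sx0fam : Finset (Finset GolayPt) := famL sx0

set_option maxRecDepth 1000000 in
theorem sx0_ok : sextOK sx0 = true := by decide +kernel

theorem sx0fam_mem : sx0fam ∈ sextets := famL_mem_sextets sx0_ok

/-- the stabilizer of the standard sextet, in the group of all permutations -/
abbrev HSx : Subgroup P24 := M24 ⊓ MulAction.stabilizer P24 sx0fam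

theorem gensSx_mem : ∀ e ∈ gensSx, e.σ ∈ HSx := by
  have h : ∀ e ∈ gensSx, fixL e.t sx0 = true := by decide +kernel
  intro e he
  exact ⟨K_le e.mem, smul_famL_of_fixL e sx0 (h e he)⟩

/-- the group of the code is transitive on the sextets -/
theorem sextet_trans (S : Finset (Finset GolayPt)) (hS : S ∈ sextets) :
    ∃ g ∈ M24, g • sx0fam = S := by
  obtain ⟨T, hT, rfl⟩ := (Helper9.M24.mem_sextets_iff S).mp hS
  have hT₀ : sp 8388615 ∈ sx0fam := (mem_famL _ _).mpr ⟨8388615, by decide, rfl⟩
  have hc₀ : (sp 8388615).card = 4 := by rw [card_sp]; decide +kernel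
  obtain ⟨g, hg, -, h⟩ := set_pair_trans ∅ (sp 8388615) T (by rw [hc₀, hT]) (by simp)
    (by rw [Finset.empty_union, hc₀]; norm_num)
  refine ⟨g, hg, ?_⟩
  rw [Helper9.M24.eq_sextOf sx0fam_mem hT₀, Helper9.M24.smul_sextOf hg hc₀, h]

theorem sextets_orbit : MulAction.orbit M24 sx0fam = sextets := by
  ext x
  rw [MulAction.mem_orbit_iff]
  constructor
  · rintro ⟨g, rfl⟩
    exact Helper9.M24.sextets_smul g.2 sx0fam_mem
  · intro hx
    obtain ⟨g, hg, h⟩ := sextet_trans x hx
    exact ⟨⟨g, hg⟩, h⟩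

/-- representatives of the classes -/
def repSx (k : ℕ) : List ℕ :=
  if k = 96 then repSx_96 else if k = 48 then repSx_48 else if k = 36 then repSx_36 else repSx_32

/-- sizes of the classes -/
def nSx (k : ℕ) : ℕ :=
  if k = 96 then 1 else if k = 48 then 90 else if k = 36 then 240 else 1440

/-- the class values -/
def vSx : Finset ℕ := {96, 48, 36, 32}

set_option maxRecDepth 1000000 in
theorem repSx_ok : ∀ k ∈ vSx, sextOK (repSx k) = true ∧ clsL sx0 (repSx k) = k := by
  decide +kernel

theorem repSx_96_eq : famL repSx_96 = sx0fam := rfl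

theorem clsF_repSx (k : ℕ) (hk : k ∈ vSx) : clsF sx0fam (famL (repSx k)) = k := by
  obtain ⟨h1, h2⟩ := repSx_ok k hk
  have hg : goodL (repSx k) = true := by
    unfold sextOK at h1
    simp only [Bool.and_eq_true] at h1
    exact h1.1.1.1
  have hg0 : goodL sx0 = true := by decide +kernel
  rw [clsF_famL (goodL_nodup hg0) (goodL_small hg0) (goodL_nodup hg) (goodL_small hg), h2]

theorem travSx (k : ℕ) (hk : k ∈ vSx) :
    ∃ L : List (Finset (Finset GolayPt)), L.Nodup ∧ L.length = nSx k ∧
      ∀ x ∈ L, ∃ σ ∈ HSx, σ • famL (repSx k) = x := by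
  unfold vSx at hk
  simp only [Finset.mem_insert, Finset.mem_singleton] at hk
  rcases hk with rfl | rfl | rfl | rfl
  · exact trav_lower_bound gensSx gensSx_mem _ _ _ _ travOKSx_96
  · exact trav_lower_bound gensSx gensSx_mem _ _ _ _ travOKSx_48
  · exact trav_lower_bound gensSx gensSx_mem _ _ _ _ travOKSx_36
  · exact trav_lower_bound gensSx gensSx_mem _ _ _ _ travOKSx_32

theorem coe_smul_fam (h : ↥M24) (x : Finset (Finset GolayPt)) : h • x = (h : P24) • x := rfl

/-- the suborbits of the stabilizer of the standard sextet -/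
theorem suborbitsSx :
    (∀ x ∈ sextets, clsF sx0fam x ∈ vSx) ∧
    (∀ k ∈ vSx, MulAction.orbit (MulAction.stabilizer M24 sx0fam) (famL (repSx k)) =
      {x | x ∈ sextets ∧ clsF sx0fam x = k}) ∧
    (∀ k ∈ vSx, {x | x ∈ sextets ∧ clsF sx0fam x = k}.ncard = nSx k) := by
  apply SubOrbits.suborbits (G := M24) (MulAction.stabilizer M24 sx0fam) sextets (Set.toFinite _)
    _ (clsF sx0fam) _ vSx (fun k => famL (repSx k)) nSx
  · intro k hk
    exact famL_mem_sextets (repSx_ok k hk).1
  · exact clsF_repSx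
  · intro k hk
    obtain ⟨L, hnd, hlen, hL⟩ := travSx k hk
    rw [← hlen]
    apply SubOrbits.length_le_ncard _ (Set.toFinite _) L hnd
    intro x hx
    obtain ⟨σ, hσ, rfl⟩ := hL x hx
    exact ⟨⟨⟨σ, hσ.1⟩, hσ.2⟩, rfl⟩
  · rw [Helper9.M24.ncard_sextets]
    decide
  · intro h _ x hx
    exact Helper9.M24.sextets_smul h.2 hx
  · intro h hh x
    rw [coe_smul_fam]
    exact clsF_smul_of_fix hh x

end Cfsg.Agent.Lib.Helper1.M24
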