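import Mathlib
import Cfsg.Agent.Lib.Helper1.SextetOrb

/-!
# The elementary abelian normal subgroup of a sextet stabilizer: abstract part
-/

set_option autoImplicit false

namespace Cfsg.Agent.Lib.Helper1.M24

open Cfsg Cfsg.Agent.Lib.Helper1
open scoped Pointwise

theorem sextet_disjoint {S : Finset (Finset GolayPt)} (hS : S ∈ sextets) {t u : Finset GolayPt}
    (ht : t ∈ S) (hu : u ∈ S) (hne : t ≠ u) : Disjoint t u := by
  have h8 : (t ∪ u).card = 8 := (hS.2.2 t ht u hu hne).2
  have h1 := Finset.card_union_add_card_inter t u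
  rw [h8, hS.2.1 t ht, hS.2.1 u hu] at h1
  rw [Finset.disjoint_iff_inter_eq_empty, ← Finset.card_eq_zero]
  omega

theorem sextet_cover {S : Finset (Finset GolayPt)} (hS : S ∈ sextets) (p : GolayPt) :
    ∃ t ∈ S, p ∈ t := by
  have h : S.biUnion id = Finset.univ := by
    apply Finset.eq_univ_of_card
    rw [Finset.card_biUnion]
    · have : ∑ u ∈ S, (id u).card = ∑ _u ∈ S, 4 :=
        Finset.sum_congr rfl (fun t ht => hS.2.1 t ht)
      rw [this, Finset.sum_const, hS.1]
      decide
    · intro t ht u hu hne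
      exact sextet_disjoint hS ht hu hne
  have hp : p ∈ S.biUnion id := by rw [h]; exact Finset.mem_univ p
  rw [Finset.mem_biUnion] at hp
  exact hp

/-- the permutation fixes all pairings of all members of the family -/
def PairFix (S : Finset (Finset GolayPt)) (σ : P24) : Prop :=
  ∀ t ∈ S, ∀ a : Finset GolayPt, a ⊆ t → a.card = 2 → σ • a = a ∨ σ • a = t \ a

theorem pairFix_one (S : Finset (Finset GolayPt)) : PairFix S 1 :=
  fun _ _ a _ _ => Or.inl (one_smul _ a)

theorem card_sdiff_pair {t a : Finset GolayPt} (ht : t.card = 4) (ha : a ⊆ t) (ha2 : a.card = 2) :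
    (t \ a).card = 2 := by
  rw [Finset.card_sdiff_of_subset ha, ht, ha2]

theorem sdiff_sdiff_pair {t a : Finset GolayPt} (ha : a ⊆ t) : t \ (t \ a) = a := by
  rw [Finset.sdiff_sdiff_eq_self ha]

theorem pairFix_mul {S : Finset (Finset GolayPt)} (h4 : ∀ t ∈ S, t.card = 4) {σ τ : P24}
    (hσ : PairFix S σ) (hτ : PairFix S τ) : PairFix S (σ * τ) := by
  intro t ht a ha ha2
  rw [mul_smul]
  rcases hτ t ht a ha ha2 with h | h
  · rw [h]
    exact hσ t ht a ha ha2
  · rw [h]
    rcases hσ t ht (t \ a) Finset.sdiff_subset (card_sdiff_pair (h4 t ht) ha ha2) with h' | h'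
    · exact Or.inr h'
    · left
      rw [h', sdiff_sdiff_pair ha]

theorem pairFix_inv {S : Finset (Finset GolayPt)} (h4 : ∀ t ∈ S, t.card = 4) {σ : P24}
    (hσ : PairFix S σ) : PairFix S σ⁻¹ := by
  intro t ht a ha ha2
  rcases hσ t ht a ha ha2 with h | h
  · left
    conv_lhs => rw [← h]
    exact inv_smul_smul σ a
  · right
    rcases hσ t ht (t \ a) Finset.sdiff_subset (card_sdiff_pair (h4 t ht) ha ha2) with h' | h'
    · exfalso
      have heq : a = t \ a := MulAction.injective σ (h.trans h'.symm)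
      have hd : Disjoint a (t \ a) := Finset.disjoint_sdiff
      rw [← heq, disjoint_self, Finset.bot_eq_empty] at hd
      rw [hd] at ha2
      simp at ha2
    · rw [sdiff_sdiff_pair ha] at h'
      conv_lhs => rw [← h']
      exact inv_smul_smul σ _

theorem pairFix_conj {S : Finset (Finset GolayPt)} {σ : P24} (hσ : PairFix S σ) (g : P24) :
    PairFix (g • S) (g * σ * g⁻¹) := by
  intro t' ht' a' ha' ha2'
  have himg : g • S = S.image (fun U => g • U) := rfl
  rw [himg, Finset.mem_image] at ht'
  obtain ⟨t, ht, rfl⟩ := ht'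
  have ha : g⁻¹ • a' ⊆ t := by
    have := Finset.smul_finset_subset_smul_finset (a := g⁻¹) ha'
    rwa [inv_smul_smul] at this
  have ha2 : (g⁻¹ • a').card = 2 := by rw [Finset.card_smul_finset]; exact ha2'
  rw [mul_smul, mul_smul]
  rcases hσ t ht _ ha ha2 with h | h
  · left
    rw [h, smul_inv_smul]
  · right
    rw [h, Finset.smul_finset_sdiff, smul_inv_smul]

theorem pairFix_smul_subset {S : Finset (Finset GolayPt)} (h4 : ∀ t ∈ S, t.card = 4) {σ : P24}
    (hσ : PairFix S σ) {t : Finset GolayPt} (ht : t ∈ S) {p : GolayPt} (hp : p ∈ t) :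
    σ p ∈ t := by
  obtain ⟨x, hx, hxp⟩ : ∃ x ∈ t, x ≠ p := by
    by_contra hcon
    have : t ⊆ {p} := by
      intro x hx
      rw [Finset.mem_singleton]
      by_contra hne
      exact hcon ⟨x, hx, hne⟩
    have := Finset.card_le_card this
    rw [h4 t ht, Finset.card_singleton] at this
    omega
  have ha : ({p, x} : Finset GolayPt) ⊆ t := by
    intro y hy
    rw [Finset.mem_insert, Finset.mem_singleton] at hy
    rcases hy with rfl | rfl
    · exact hp
    · exact hx
  have ha2 : ({p, x} : Finset GolayPt).card = 2 := Finset.card_pair (Ne.symm hxp)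
  have hmem : σ p ∈ σ • ({p, x} : Finset GolayPt) :=
    Finset.smul_mem_smul_finset (Finset.mem_insert_self p _)
  rcases hσ t ht _ ha ha2 with h | h
  · rw [h] at hmem
    exact ha hmem
  · rw [h] at hmem
    exact (Finset.mem_sdiff.mp hmem).1

theorem pairFix_smul_eq {S : Finset (Finset GolayPt)} (h4 : ∀ t ∈ S, t.card = 4) {σ : P24}
    (hσ : PairFix S σ) {t : Finset GolayPt} (ht : t ∈ S) : σ • t = t := by
  apply Finset.eq_of_subset_of_card_le
  · intro q hq
    obtain ⟨p, hp, rfl⟩ := Finset.mem_smul_finset.mp hq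
    exact pairFix_smul_subset h4 hσ ht hp
  · rw [Finset.card_smul_finset]

/-- such a permutation squares to the identity when the family covers all points -/
theorem pairFix_sq {S : Finset (Finset GolayPt)} (h4 : ∀ t ∈ S, t.card = 4)
    (hcov : ∀ p : GolayPt, ∃ t ∈ S, p ∈ t) {σ : P24} (hσ : PairFix S σ) : σ * σ = 1 := by
  apply Equiv.ext
  intro p
  rw [Equiv.Perm.mul_apply, Equiv.Perm.one_apply]
  obtain ⟨t, ht, hp⟩ := hcov p
  by_cases hq : σ p = p
  · rw [hq, hq]
  · have hqt : σ p ∈ t := pairFix_smul_subset h4 hσ ht hp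
    have ha : ({p, σ p} : Finset GolayPt) ⊆ t := by
      intro y hy
      rw [Finset.mem_insert, Finset.mem_singleton] at hy
      rcases hy with rfl | rfl
      · exact hp
      · exact hqt
    have ha2 : ({p, σ p} : Finset GolayPt).card = 2 := Finset.card_pair (Ne.symm hq)
    have hmem : σ p ∈ σ • ({p, σ p} : Finset GolayPt) :=
      Finset.smul_mem_smul_finset (Finset.mem_insert_self p _)
    have hmem2 : σ (σ p) ∈ σ • ({p, σ p} : Finset GolayPt) :=
      Finset.smul_mem_smul_finset (Finset.mem_insert_of_mem (Finset.mem_singleton_self _))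
    rcases hσ t ht _ ha ha2 with h | h
    · rw [h, Finset.mem_insert, Finset.mem_singleton] at hmem2
      rcases hmem2 with h2 | h2
      · exact h2
      · exact absurd (σ.injective h2) hq
    · rw [h, Finset.mem_sdiff] at hmem
      exact absurd (Finset.mem_insert_of_mem (Finset.mem_singleton_self _)) hmem.2

end Cfsg.Agent.Lib.Helper1.M24
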