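import Mathlib
import Cfsg.Agent.Lib.Helper1.SextetStruct1
import Cfsg.Agent.Lib.Helper1.StabCard

/-!
# The action of a sextet stabilizer on the tetrads, and its kernel
-/

set_option autoImplicit false

namespace Cfsg.Agent.Lib.Helper1.M24

open Cfsg Cfsg.Agent.Lib.Helper1
open scoped Pointwise

variable (S : Finset (Finset GolayPt))

theorem stab_smul_mem (h : ↥(MulAction.stabilizer M24 S)) {t : Finset GolayPt} (ht : t ∈ S) :
    ((h : M24) : P24) • t ∈ S := by
  have h1 : ((h : M24) : P24) • S = S := h.2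
  generalize ((h : M24) : P24) = σ at h1 ⊢
  have h2 : σ • t ∈ σ • S := Finset.smul_mem_smul_finset ht
  rwa [h1] at h2

/-- the permutation of the members induced by an element of the stabilizer -/
def tetPerm (h : ↥(MulAction.stabilizer M24 S)) : Equiv.Perm ↥S where
  toFun t := ⟨((h : M24) : P24) • (t : Finset GolayPt), stab_smul_mem S h t.2⟩
  invFun t := ⟨((h⁻¹ : ↥(MulAction.stabilizer M24 S)) : M24).1 • (t : Finset GolayPt),
    stab_smul_mem S h⁻¹ t.2⟩
  left_inv t := by
    apply Subtype.ext
    show ((h⁻¹ : ↥(MulAction.stabilizer M24 S)) : M24).1 • (((h : M24) : P24) • (t : Finset GolayPt)) = t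
    rw [← mul_smul]
    have : ((h⁻¹ : ↥(MulAction.stabilizer M24 S)) : M24).1 * ((h : M24) : P24) = 1 := by
      show ((h : M24) : P24)⁻¹ * ((h : M24) : P24) = 1
      exact inv_mul_cancel _
    rw [this, one_smul]
  right_inv t := by
    apply Subtype.ext
    show ((h : M24) : P24) • (((h⁻¹ : ↥(MulAction.stabilizer M24 S)) : M24).1 • (t : Finset GolayPt)) = t
    rw [← mul_smul]
    have : ((h : M24) : P24) * ((h⁻¹ : ↥(MulAction.stabilizer M24 S)) : M24).1 = 1 := by
      show ((h : M24) : P24) * ((h : M24) : P24)⁻¹ = 1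
      exact mul_inv_cancel _
    rw [this, one_smul]

/-- the action of the stabilizer on the members, as a homomorphism -/
def tetHom : ↥(MulAction.stabilizer M24 S) →* Equiv.Perm ↥S where
  toFun := tetPerm S
  map_one' := by
    apply Equiv.ext
    intro t
    apply Subtype.ext
    show (1 : P24) • (t : Finset GolayPt) = t
    exact one_smul _ _
  map_mul' h k := by
    apply Equiv.ext
    intro t
    apply Subtype.ext
    show (((h : M24) : P24) * ((k : M24) : P24)) • (t : Finset GolayPt) =
      ((h : M24) : P24) • (((k : M24) : P24) • (t : Finset GolayPt))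
    exact mul_smul _ _ _

theorem tetHom_apply (h : ↥(MulAction.stabilizer M24 S)) (t : ↥S) :
    ((tetHom S h t : ↥S) : Finset GolayPt) = ((h : M24) : P24) • (t : Finset GolayPt) := rfl

theorem mem_ker_tetHom (h : ↥(MulAction.stabilizer M24 S)) :
    h ∈ (tetHom S).ker ↔ ∀ t ∈ S, ((h : M24) : P24) • t = t := by
  rw [MonoidHom.mem_ker]
  constructor
  · intro hh t ht
    have := congrArg (fun e : Equiv.Perm ↥S => ((e ⟨t, ht⟩ : ↥S) : Finset GolayPt)) hh
    exact this
  · intro hh
    apply Equiv.ext
    intro t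
    apply Subtype.ext
    exact hh t t.2

variable {S}

theorem card_stab_sextet (hS : S ∈ sextets) : Nat.card (MulAction.stabilizer M24 S) = 138240 := by
  have h1 := StabCard.card_eq_ncard_orbit_mul (G := M24) S
  have h2 : MulAction.orbit M24 S = sextets := by
    rw [← sextets_orbit] at hS
    rw [← sextets_orbit]
    exact MulAction.orbit_eq_iff.mpr hS
  rw [h2, Helper9.M24.ncard_sextets, card_M24] at h1
  omega

theorem card_ker_tetHom (hS : S ∈ sextets) (hsurj : Function.Surjective (tetHom S)) :
    Nat.card (tetHom S).ker = 192 := by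
  have h1 := Subgroup.card_eq_card_quotient_mul_card_subgroup (tetHom S).ker
  have e := QuotientGroup.quotientKerEquivOfSurjective (tetHom S) hsurj
  rw [Nat.card_congr e.toEquiv, card_stab_sextet hS] at h1
  have h2 : Nat.card (Equiv.Perm ↥S) = 720 := by
    rw [Nat.card_eq_fintype_card, Fintype.card_perm, Fintype.card_coe, hS.1]
    rfl
  rw [h2] at h1
  omega

/-- the subgroup of the stabilizer fixing all pairings of all tetrads -/
def sextN (hS : S ∈ sextets) : Subgroup ↥(MulAction.stabilizer M24 S) where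
  carrier := {h | PairFix S ((h : M24) : P24)}
  one_mem' := pairFix_one S
  mul_mem' := fun ha hb => pairFix_mul hS.2.1 ha hb
  inv_mem' := fun ha => pairFix_inv hS.2.1 ha

theorem mem_sextN (hS : S ∈ sextets) (h : ↥(MulAction.stabilizer M24 S)) :
    h ∈ sextN hS ↔ PairFix S ((h : M24) : P24) := Iff.rfl

theorem sextN_normal (hS : S ∈ sextets) : (sextN hS).Normal := by
  constructor
  intro n hn s
  rw [mem_sextN] at hn ⊢
  have := pairFix_conj hn ((s : M24) : P24)
  have hs : ((s : M24) : P24) • S = S := s.2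
  rw [hs] at this
  exact this

theorem sextN_sq (hS : S ∈ sextets) : ∀ x ∈ sextN hS, x * x = 1 := by
  intro x hx
  apply Subtype.ext
  apply Subtype.ext
  exact pairFix_sq hS.2.1 (sextet_cover hS) hx

theorem sextN_le_ker (hS : S ∈ sextets) : sextN hS ≤ (tetHom S).ker := by
  intro h hh
  rw [mem_ker_tetHom]
  intro t ht
  exact pairFix_smul_eq hS.2.1 hh ht

theorem card_sextN_le (hS : S ∈ sextets) (hsurj : Function.Surjective (tetHom S)) :
    Nat.card (sextN hS) ≤ 64 := by
  have hp : IsPGroup 2 (sextN hS) := by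
    intro x
    refine ⟨1, ?_⟩
    rw [pow_one, sq]
    apply Subtype.ext
    exact sextN_sq hS x.1 x.2
  obtain ⟨n, hn⟩ := IsPGroup.iff_card.mp hp
  have hdvd : Nat.card (sextN hS) ∣ 192 := by
    rw [← card_ker_tetHom hS hsurj]
    exact Subgroup.card_dvd_of_le (sextN_le_ker hS)
  rw [hn] at hdvd ⊢
  have hn6 : n ≤ 6 := by
    by_contra hcon
    have h7 : (2 : ℕ) ^ 7 ∣ 2 ^ n := Nat.pow_dvd_pow 2 (by omega)
    have := Nat.dvd_trans h7 hdvd
    omega
  calc 2 ^ n ≤ 2 ^ 6 := Nat.pow_le_pow_right (by norm_num) hn6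
    _ = 64 := by norm_num

end Cfsg.Agent.Lib.Helper1.M24
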