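import Mathlib
import Cfsg.Agent.Lib.Helper1.SextetStruct2
import Cfsg.Agent.Lib.Helper1.M24W11
import Cfsg.Agent.Lib.Helper1.SubMask

/-!
# The structure of a sextet stabilizer
-/

set_option autoImplicit false

namespace Cfsg.Agent.Lib.Helper1.M24

open Cfsg Cfsg.Agent.Lib.Helper1
open scoped Pointwise

/-! ### transpositions of the tetrads -/

set_option maxRecDepth 1000000 in
theorem swap_table : ∀ a ∈ sx0, ∀ b ∈ sx0, a ≠ b → ∃ e ∈ swapEls, ∀ m ∈ sx0,
    pm e.t m = if m = a then b else if m = b then a else m := by decide +kernel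

theorem sx0_small : ∀ m ∈ sx0, m < 2 ^ 24 := by decide

theorem exists_swap_std (x y : Finset GolayPt) (hx : x ∈ sx0fam) (hy : y ∈ sx0fam) (hxy : x ≠ y) :
    ∃ σ ∈ M24, σ • sx0fam = sx0fam ∧ ∀ z ∈ sx0fam,
      σ • z = if z = x then y else if z = y then x else z := by
  obtain ⟨a, ha, rfl⟩ := (mem_famL _ _).mp hx
  obtain ⟨b, hb, rfl⟩ := (mem_famL _ _).mp hy
  have hab : a ≠ b := fun h => hxy (by rw [h])
  obtain ⟨e, he, hperm⟩ := swap_table a ha b hb hab
  have hz : ∀ z ∈ sx0fam, e.σ • z = if z = sp a then sp b else if z = sp b then sp a else z := by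
    intro z hz
    obtain ⟨m, hm, rfl⟩ := (mem_famL _ _).mp hz
    have hinj : ∀ c ∈ sx0, (sp m = sp c ↔ m = c) := fun c hc =>
      ⟨fun h => sp_injOn (sx0_small m hm) (sx0_small c hc) h, fun h => by rw [h]⟩
    rw [smul_support_eq_pm, hperm m hm]
    simp only [hinj a ha, hinj b hb]
    split_ifs <;> rfl
  refine ⟨e.σ, K_le e.mem, ?_, hz⟩
  apply Finset.eq_of_subset_of_card_le
  · intro z hz'
    obtain ⟨w, hw, rfl⟩ := Finset.mem_smul_finset.mp hz'
    have := hz w hw
    show e.σ • w ∈ sx0fam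
    rw [this]
    split_ifs
    · exact hy
    · exact hx
    · exact hw
  · rw [Finset.card_smul_finset]

theorem exists_swap {S : Finset (Finset GolayPt)} (hS : S ∈ sextets) (x y : ↥S) (hxy : x ≠ y) :
    ∃ h : ↥(MulAction.stabilizer M24 S), tetHom S h = Equiv.swap x y := by
  obtain ⟨g, hg, rfl⟩ := sextet_trans S hS
  have hback : ∀ z : ↥(g • sx0fam), g⁻¹ • (z : Finset GolayPt) ∈ sx0fam := by
    intro z
    have := Finset.smul_mem_smul_finset (a := g⁻¹) z.2
    rwa [inv_smul_smul] at this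
  have hne : g⁻¹ • (x : Finset GolayPt) ≠ g⁻¹ • (y : Finset GolayPt) := by
    intro h
    exact hxy (Subtype.ext (MulAction.injective g⁻¹ h))
  obtain ⟨σ, hσ, hfix, hz⟩ := exists_swap_std _ _ (hback x) (hback y) hne
  have hmem : g * σ * g⁻¹ ∈ M24 := M24.mul_mem (M24.mul_mem hg hσ) (M24.inv_mem hg)
  have hstab : (⟨g * σ * g⁻¹, hmem⟩ : M24) ∈ MulAction.stabilizer M24 (g • sx0fam) := by
    rw [MulAction.mem_stabilizer_iff]
    show (g * σ * g⁻¹) • g • sx0fam = g • sx0fam
    rw [mul_smul, mul_smul, inv_smul_smul, hfix]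
  refine ⟨⟨⟨g * σ * g⁻¹, hmem⟩, hstab⟩, ?_⟩
  apply Equiv.ext
  intro z
  apply Subtype.ext
  rw [tetHom_apply]
  show (g * σ * g⁻¹) • (z : Finset GolayPt) = _
  rw [mul_smul, mul_smul, hz _ (hback z), Equiv.swap_apply_def]
  have e1 : (g⁻¹ • (z : Finset GolayPt) = g⁻¹ • (x : Finset GolayPt)) ↔ z = x :=
    ⟨fun h => Subtype.ext (MulAction.injective g⁻¹ h), fun h => by rw [h]⟩
  have e2 : (g⁻¹ • (z : Finset GolayPt) = g⁻¹ • (y : Finset GolayPt)) ↔ z = y :=
    ⟨fun h => Subtype.ext (MulAction.injective g⁻¹ h), fun h => by rw [h]⟩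
  simp only [e1, e2]
  split_ifs
  · rw [smul_inv_smul]
  · rw [smul_inv_smul]
  · rw [smul_inv_smul]

theorem tetHom_surjective {S : Finset (Finset GolayPt)} (hS : S ∈ sextets) :
    Function.Surjective (tetHom S) := by
  intro e
  induction e using Equiv.Perm.swap_induction_on with
  | one => exact ⟨1, map_one _⟩
  | swap_mul f x y hxy ih =>
    obtain ⟨h₁, hh₁⟩ := ih
    obtain ⟨h₂, hh₂⟩ := exists_swap hS x y hxy
    exact ⟨h₂ * h₁, by rw [map_mul, hh₁, hh₂]⟩

/-! ### the elementary abelian normal subgroup -/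

/-- the permutations fixing all pairings, as a subgroup -/
def pairSub (S : Finset (Finset GolayPt)) (h4 : ∀ t ∈ S, t.card = 4) : Subgroup P24 where
  carrier := {σ | PairFix S σ}
  one_mem' := pairFix_one S
  mul_mem' := fun ha hb => pairFix_mul h4 ha hb
  inv_mem' := fun ha => pairFix_inv h4 ha

/-- boolean version of `PairFix` for a table and a list of masks -/
def pairFixB (t : List ℕ) (l : List ℕ) : Bool :=
  l.all (fun m => ((subMasks 24 2).filter (fun a => a &&& m == a)).all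
    (fun a => pm t a == a || pm t a == m ^^^ a))

theorem sp_sdiff {m a : ℕ} (h : a &&& m = a) : sp m \ sp a = sp (m ^^^ a) := by
  ext p
  rw [Finset.mem_sdiff, mem_sp, mem_sp, mem_sp, Nat.testBit_xor]
  have h1 := congrArg (fun n => n.testBit (gIdx p)) h
  simp only [Nat.testBit_and] at h1
  cases ha : a.testBit (gIdx p) <;> cases hm : m.testBit (gIdx p) <;> simp_all

theorem pairFix_of_pairFixB {H : Subgroup P24} (e : El H) (l : List ℕ)
    (h : pairFixB e.t l = true) : PairFix (famL l) e.σ := by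
  intro t ht a ha ha2
  obtain ⟨m, hm, rfl⟩ := (mem_famL _ _).mp ht
  obtain ⟨ma, hma, rfl⟩ := exists_mask_of_card ha2
  have hma' := (mem_subMasks _ _ _).mp hma
  have hsub : ma &&& m = ma := (sp_subset_iff hma'.1).mp ha
  unfold pairFixB at h
  rw [List.all_eq_true] at h
  have h1 := h m hm
  rw [List.all_eq_true] at h1
  have h2 := h1 ma (List.mem_filter.mpr ⟨hma, by rw [beq_iff_eq]; exact hsub⟩)
  rw [Bool.or_eq_true, beq_iff_eq, beq_iff_eq] at h2
  rw [smul_support_eq_pm, sp_sdiff hsub]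
  rcases h2 with h2 | h2
  · left; rw [h2]
  · right; rw [h2]

theorem sx0fam_card4 : ∀ t ∈ sx0fam, t.card = 4 := sx0fam_mem.2.1

/-- the group containing the generators of the normal subgroup -/
abbrev HN : Subgroup P24 := HSx ⊓ pairSub sx0fam sx0fam_card4

set_option maxRecDepth 1000000 in
theorem gensN_ok : ∀ e ∈ gensN, fixL e.t sx0 = true ∧ pairFixB e.t sx0 = true := by
  decide +kernel

theorem gensN_mem : ∀ e ∈ gensN, e.σ ∈ HN := by
  intro e he
  obtain ⟨h1, h2⟩ := gensN_ok e he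
  exact ⟨⟨K_le e.mem, smul_famL_of_fixL e sx0 h1⟩, pairFix_of_pairFixB e sx0 h2⟩

theorem card_sextN_ge {S : Finset (Finset GolayPt)} (hS : S ∈ sextets) :
    64 ≤ Nat.card (sextN hS) := by
  obtain ⟨g, hg, hgS⟩ := sextet_trans S hS
  obtain ⟨L, hnd, hlen, hL⟩ := trav_lower_bound gensN gensN_mem f0N certN _ _ travOKN
  have key : ∀ x ∈ L, g • x ∈ MulAction.orbit (sextN hS) (g • famL f0N) := by
    intro x hx
    obtain ⟨σ, hσ, rfl⟩ := hL x hx
    have hmem : g * σ * g⁻¹ ∈ M24 := M24.mul_mem (M24.mul_mem hg hσ.1.1) (M24.inv_mem hg)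
    have hstab : (⟨g * σ * g⁻¹, hmem⟩ : M24) ∈ MulAction.stabilizer M24 S := by
      rw [MulAction.mem_stabilizer_iff, ← hgS]
      show (g * σ * g⁻¹) • g • sx0fam = g • sx0fam
      rw [mul_smul, mul_smul, inv_smul_smul, MulAction.mem_stabilizer_iff.mp hσ.1.2]
    have hN : (⟨⟨g * σ * g⁻¹, hmem⟩, hstab⟩ : ↥(MulAction.stabilizer M24 S)) ∈ sextN hS := by
      rw [mem_sextN]
      have := pairFix_conj hσ.2 g
      rw [hgS] at this
      exact this
    refine ⟨⟨_, hN⟩, ?_⟩
    show (g * σ * g⁻¹) • g • famL f0N = g • σ • famL f0N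
    rw [mul_smul, mul_smul, inv_smul_smul]
  have h1 : L.length ≤ (MulAction.orbit (sextN hS) (g • famL f0N)).ncard := by
    have hnd' : (L.map (fun x => g • x)).Nodup := hnd.map (MulAction.injective g)
    have := SubOrbits.length_le_ncard _ (Set.toFinite _) _ hnd' (by
      intro y hy
      obtain ⟨x, hx, rfl⟩ := List.mem_map.mp hy
      exact key x hx)
    rwa [List.length_map] at this
  have h2 : (MulAction.orbit (sextN hS) (g • famL f0N)).ncard ≤ Nat.card (sextN hS) := by
    rw [← Nat.card_coe_set_eq]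
    exact Finite.card_range_le _
  omega

theorem card_sextN {S : Finset (Finset GolayPt)} (hS : S ∈ sextets) :
    Nat.card (sextN hS) = 64 :=
  le_antisymm (card_sextN_le hS (tetHom_surjective hS)) (card_sextN_ge hS)

end Cfsg.Agent.Lib.Helper1.M24
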