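import Mathlib
import Cfsg.Agent.Lib.Helper6.Siegel.Defs

set_option autoImplicit false

/-!
PK-PAR-odd of the Siegel route (S2347-lower): for `q` odd the additive characters of the symmetric
matrices are `S ↦ ψ (tr (M S))` with `M` symmetric, equivariantly for congruence; hence the orbit of
a nontrivial character under `S ↦ P S Pᵀ` is as large as a congruence orbit of a nonzero symmetric
matrix.
-/

namespace Cfsg.Agent.Lib.Helper6.Siegel

open Matrix

universe u

section parOdd

variable {F : Type*} [Field F] {n : ℕ}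

/-- the trace pairing `S ↦ tr (M S)` on symmetric matrices -/
def trPair (M : Matrix (Fin n) (Fin n) F) : symAdd n F →+ F where
  toFun S := Matrix.trace (M * S.1)
  map_zero' := by
    show Matrix.trace (M * (0 : Matrix (Fin n) (Fin n) F)) = 0
    rw [Matrix.mul_zero, Matrix.trace_zero]
  map_add' S S' := by
    show Matrix.trace (M * (S.1 + S'.1)) = Matrix.trace (M * S.1) + Matrix.trace (M * S'.1)
    rw [Matrix.mul_add, Matrix.trace_add]

theorem trPair_apply (M : Matrix (Fin n) (Fin n) F) (S : symAdd n F) :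
    trPair M S = Matrix.trace (M * S.1) := rfl

theorem trPair_sub (M M' : Matrix (Fin n) (Fin n) F) (S : symAdd n F) :
    trPair (M - M') S = trPair M S - trPair M' S := by
  rw [trPair_apply, trPair_apply, trPair_apply, Matrix.sub_mul, Matrix.trace_sub]

/-- the symmetric matrix `E i j + E j i` -/
def symE (i j : Fin n) : symAdd n F :=
  ⟨Matrix.single i j 1 + Matrix.single j i 1, by
    rw [mem_symAdd, Matrix.IsSymm, Matrix.transpose_add, Matrix.transpose_single,
      Matrix.transpose_single, add_comm]⟩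

theorem trPair_symE (M : Matrix (Fin n) (Fin n) F) (i j : Fin n) :
    trPair M (symE i j) = M j i + M i j := by
  rw [trPair_apply]
  show Matrix.trace (M * (Matrix.single i j 1 + Matrix.single j i 1)) = _
  rw [Matrix.mul_add, Matrix.trace_add, Matrix.trace_mul_single, Matrix.trace_mul_single]
  simp

/-- scalar multiple of a symmetric matrix -/
def symSmul (t : F) (S : symAdd n F) : symAdd n F :=
  ⟨t • S.1, by
    rw [mem_symAdd]
    exact Matrix.IsSymm.smul (mem_symAdd.1 S.2) t⟩

theorem trPair_symSmul (M : Matrix (Fin n) (Fin n) F) (t : F) (S : symAdd n F) :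
    trPair M (symSmul t S) = t * trPair M S := by
  rw [trPair_apply, trPair_apply]
  show Matrix.trace (M * (t • S.1)) = _
  rw [Matrix.mul_smul, Matrix.trace_smul, smul_eq_mul]

/-- a symmetric matrix orthogonal to all symmetric matrices under the trace form is zero
(`2 ≠ 0`) -/
theorem eq_zero_of_trPair (h2 : (2 : F) ≠ 0) (M : Matrix (Fin n) (Fin n) F) (hM : M.IsSymm)
    (h : ∀ S : symAdd n F, trPair M S = 0) : M = 0 := by
  ext i j
  have h1 := h (symE i j)
  rw [trPair_symE] at h1
  have h3 : M j i = M i j := by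
    have := congrFun (congrFun hM i) j
    simpa [Matrix.transpose_apply] using this
  rw [h3] at h1
  have h4 : (2 : F) * M i j = 0 := by rw [two_mul]; exact h1
  rcases mul_eq_zero.1 h4 with h5 | h5
  · exact absurd h5 h2
  · simpa using h5

/-- the character `S ↦ ψ (tr (M S))` -/
noncomputable def trChar (ψ : AddChar F ℂ) (M : Matrix (Fin n) (Fin n) F) :
    AddChar (symAdd n F) ℂ := ψ.compAddMonoidHom (trPair M)

theorem trChar_apply (ψ : AddChar F ℂ) (M : Matrix (Fin n) (Fin n) F) (S : symAdd n F) :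
    trChar ψ M S = ψ (trPair M S) := rfl

theorem trChar_injOn (h2 : (2 : F) ≠ 0) (ψ : AddChar F ℂ) (hψ : ψ ≠ 1)
    {M M' : Matrix (Fin n) (Fin n) F} (hM : M.IsSymm) (hM' : M'.IsSymm)
    (h : trChar (n := n) ψ M = trChar ψ M') : M = M' := by
  have hz : M - M' = 0 := by
    apply eq_zero_of_trPair h2 _ (Matrix.IsSymm.sub hM hM')
    intro S
    by_contra hc
    apply hψ
    ext x
    have h1 : trChar ψ M (symSmul (x / trPair (M - M') S) S) =
        trChar ψ M' (symSmul (x / trPair (M - M') S) S) := by rw [h]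
    rw [trChar_apply, trChar_apply] at h1
    have h3 : x = trPair M (symSmul (x / trPair (M - M') S) S) -
        trPair M' (symSmul (x / trPair (M - M') S) S) := by
      rw [← trPair_sub, trPair_symSmul, div_mul_cancel₀ _ hc]
    rw [h3, AddChar.map_sub_eq_div, h1, div_self (AddChar.val_isUnit _ _).ne_zero]
    simp
  exact sub_eq_zero.1 hz

theorem trChar_zero (ψ : AddChar F ℂ) : trChar (n := n) ψ 0 = 1 := by
  ext S
  rw [trChar_apply, trPair_apply, Matrix.zero_mul, Matrix.trace_zero, AddChar.map_zero_eq_one]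
  simp

/-- equivariance: `trChar ψ M ∘ congT P = trChar ψ (Pᵀ M P)` -/
theorem trChar_congT (ψ : AddChar F ℂ) (M : Matrix (Fin n) (Fin n) F) (P : GL (Fin n) F) :
    (trChar ψ M).compAddMonoidHom (congT P : symAdd n F ≃+ symAdd n F).toAddMonoidHom =
      trChar ψ ((P : Matrix (Fin n) (Fin n) F)ᵀ * M * (P : Matrix (Fin n) (Fin n) F)) := by
  ext S
  show trChar ψ M (congT P S) = _
  rw [trChar_apply, trChar_apply, trPair_apply, trPair_apply, congT_val]
  congr 1
  rw [← Matrix.mul_assoc, ← Matrix.mul_assoc, Matrix.trace_mul_comm, ← Matrix.mul_assoc,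
    ← Matrix.mul_assoc]

variable [Fintype F]

/-- every additive character of the symmetric matrices is a `trChar` (`2 ≠ 0`) -/
theorem exists_trChar_eq (h2 : (2 : F) ≠ 0) (ψ : AddChar F ℂ) (hψ : ψ ≠ 1)
    (lam : AddChar (symAdd n F) ℂ) :
    ∃ M : Matrix (Fin n) (Fin n) F, M.IsSymm ∧ lam = trChar ψ M := by
  classical
  have : Fintype (symAdd n F) := Fintype.ofFinite _
  let Φ : symAdd n F → AddChar (symAdd n F) ℂ := fun M => trChar ψ M.1
  have hinj : Function.Injective Φ := by
    intro M M' h
    exact Subtype.ext (trChar_injOn h2 ψ hψ (mem_symAdd.1 M.2) (mem_symAdd.1 M'.2) h)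
  have hcard : Fintype.card (symAdd n F) = Fintype.card (AddChar (symAdd n F) ℂ) :=
    (AddChar.card_eq (α := symAdd n F)).symm
  have hbij : Function.Bijective Φ :=
    (Fintype.bijective_iff_injective_and_card Φ).2 ⟨hinj, hcard⟩
  obtain ⟨M, hM⟩ := hbij.2 lam
  exact ⟨M.1, mem_symAdd.1 M.2, hM.symm⟩

end parOdd

/-- PK-PAR-odd: the orbit of a nontrivial additive character of the symmetric matrices under
congruence is at least as large as the congruence orbit of some nonzero symmetric matrix. -/
theorem orbit_card_le_odd {F : Type u} [Field F] [Fintype F] (h2 : (2 : F) ≠ 0) (n : ℕ)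
    (lam : AddChar (symAdd n F) ℂ) (hlam : lam ≠ 1) :
    ∃ M : Matrix (Fin n) (Fin n) F, M.IsSymm ∧ M ≠ 0 ∧
      Set.ncard (Set.range fun P : GL (Fin n) F =>
        (P : Matrix (Fin n) (Fin n) F)ᵀ * M * (P : Matrix (Fin n) (Fin n) F)) ≤
        Nat.card (Set.range fun P : GL (Fin n) F =>
          lam.compAddMonoidHom (congT P : symAdd n F ≃+ symAdd n F).toAddMonoidHom) := by
  classical
  obtain ⟨ψ, hψ1⟩ := (AddChar.exists_apply_ne_zero (α := F) (a := 1)).2 one_ne_zero
  have hψ : ψ ≠ 1 := by
    intro h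
    apply hψ1
    rw [h]
    simp
  obtain ⟨M, hM, hlamM⟩ := exists_trChar_eq h2 ψ hψ lam
  refine ⟨M, hM, ?_, ?_⟩
  · intro h0
    apply hlam
    rw [hlamM, h0, trChar_zero]
  · have hfun : (fun P : GL (Fin n) F =>
        lam.compAddMonoidHom (congT P : symAdd n F ≃+ symAdd n F).toAddMonoidHom) =
        (fun X : Matrix (Fin n) (Fin n) F => trChar ψ X) ∘ (fun P : GL (Fin n) F =>
          (P : Matrix (Fin n) (Fin n) F)ᵀ * M * (P : Matrix (Fin n) (Fin n) F)) := by
      funext P
      rw [hlamM, trChar_congT]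
      rfl
    rw [hfun, Set.range_comp, Nat.card_coe_set_eq, Set.InjOn.ncard_image]
    rintro X ⟨P, rfl⟩ Y ⟨Q, rfl⟩ hXY
    refine trChar_injOn h2 ψ hψ ?_ ?_ hXY
    · show ((P : Matrix (Fin n) (Fin n) F)ᵀ * M * (P : Matrix (Fin n) (Fin n) F)).IsSymm
      rw [Matrix.IsSymm, Matrix.transpose_mul, Matrix.transpose_mul, Matrix.transpose_transpose,
        hM.eq, Matrix.mul_assoc]
    · show ((Q : Matrix (Fin n) (Fin n) F)ᵀ * M * (Q : Matrix (Fin n) (Fin n) F)).IsSymm
      rw [Matrix.IsSymm, Matrix.transpose_mul, Matrix.transpose_mul, Matrix.transpose_transpose,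
        hM.eq, Matrix.mul_assoc]

end Cfsg.Agent.Lib.Helper6.Siegel
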