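import Mathlib
import Cfsg.Prelude.Def_Characters
import Cfsg.Agent.Lib.Helper1.SiegelW

set_option autoImplicit false

/-!
PK-W of S2333 / S2347-lower (Siegel route): the abstract orbit wrapper under the package name.
-/

namespace Cfsg.Agent.Lib.Helper6.Siegel

open Cfsg

universe u

/-- a character of `G` not constant on a parametrised abelian subgroup has degree at least the
size of an orbit of characters of that subgroup -/
theorem degree_ge_orbit {G : Type u} [Group G] [Fintype G] {A : Type u} [AddCommGroup A] [Fintype A]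
    {χ : G → ℂ} (hχ : IsCharacter G χ) (ζ : A → G) (hζ : ∀ a b, ζ (a + b) = ζ a * ζ b)
    (a0 : A) (h0 : χ (ζ a0) ≠ χ 1) :
    ∃ lam : AddChar A ℂ, lam a0 ≠ 1 ∧ ∀ O : Finset (AddChar A ℂ),
      (∀ μ ∈ O, ∃ (g : G) (τ : A ≃+ A), (∀ a, g * ζ a * g⁻¹ = ζ (τ a)) ∧ ∀ a, μ a = lam (τ a)) →
      ∃ k : ℕ, χ 1 = k ∧ O.card ≤ k :=
  Cfsg.Agent.Lib.Helper1.SUMin.siegel_wrapper hχ ζ hζ a0 h0

end Cfsg.Agent.Lib.Helper6.Siegel
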