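import Mathlib
import Cfsg.Prelude.Def_Characters
import Cfsg.Agent.Lib.Helper1.SiegelWPk
import Cfsg.Agent.Lib.Helper1.SiegelParOdd

set_option autoImplicit false

/-!
S2347-lower, Siegel route: the assembly.  From PK-K (no nontrivial Siegel element in the kernel of an
irreducible representation of degree `≥ 2`) and PK-ORB (congruence orbits of nonzero symmetric
matrices have at least `(q^n - 1)/2` elements), both taken here as hypotheses, the lower bound
`(q^n - 1)/2 ≤ k` for every irreducible representation of degree `k ≥ 2` of `Sp_2n(q)`, `q` odd.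
-/

namespace Cfsg.Agent.Lib.Helper6.Siegel

open Cfsg Matrix Cfsg.Agent.H9SpF

universe u

theorem two_ne_zero_of_odd_card {F : Type*} [Field F] [Fintype F]
    (hodd : Odd (Fintype.card F)) : (2 : F) ≠ 0 := by
  intro h
  have h2 : ringChar F = 2 := by
    have := CharP.ringChar_of_prime_eq_zero (R := F) Nat.prime_two (by exact_mod_cast h)
    exact this
  have h3 := FiniteField.even_card_of_char_two h2
  rcases hodd with ⟨t, ht⟩
  omega

theorem sp_odd_lower_of {F : Type u} [Field F] [Fintype F] [DecidableEq F] (n : ℕ) (hn : 2 ≤ n)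
    (hodd : Odd (Fintype.card F))
    (hK : ∀ (k : ℕ) (ρ : Representation ℂ (Matrix.symplecticGroup (Fin n) F) (Fin k → ℂ)),
      ρ.IsIrreducible → 2 ≤ k → ∀ S0 : symAdd n F, S0 ≠ 0 →
        ρ.character (siegHom S0) ≠ ρ.character 1)
    (hO : ∀ M : Matrix (Fin n) (Fin n) F, M.IsSymm → M ≠ 0 →
      (Fintype.card F ^ n - 1) / 2 ≤
        Set.ncard (Set.range fun P : GL (Fin n) F =>
          (P : Matrix (Fin n) (Fin n) F)ᵀ * M * (P : Matrix (Fin n) (Fin n) F))) :
    ∀ (k : ℕ) (ρ : Representation ℂ (Matrix.symplecticGroup (Fin n) F) (Fin k → ℂ)),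
      ρ.IsIrreducible → 2 ≤ k → (Fintype.card F ^ n - 1) / 2 ≤ k := by
  classical
  intro k ρ hρ hk
  have h2 : (2 : F) ≠ 0 := two_ne_zero_of_odd_card hodd
  -- a nonzero symmetric matrix
  let S0 : symAdd n F := ⟨1, mem_symAdd.2 Matrix.isSymm_one⟩
  have hS0 : S0 ≠ 0 := by
    intro h
    have h1 : (1 : Matrix (Fin n) (Fin n) F) = 0 := congrArg Subtype.val h
    have h3 := congrFun (congrFun h1 ⟨0, by omega⟩) ⟨0, by omega⟩
    simp at h3
  have h0 := hK k ρ hρ hk S0 hS0
  have hχ : IsCharacter (Matrix.symplecticGroup (Fin n) F) ρ.character := ⟨k, ρ, rfl⟩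
  have : Fintype (Matrix.symplecticGroup (Fin n) F) := Fintype.ofFinite _
  have : Fintype (symAdd n F) := Fintype.ofFinite _
  obtain ⟨lam, hlam0, hOrb⟩ := degree_ge_orbit hχ (fun S : symAdd n F => siegHom S)
    (fun a b => siegHom_add a b) S0 h0
  have hlam : lam ≠ 1 := by
    intro h
    apply hlam0
    rw [h]
    simp
  obtain ⟨M, hM, hM0, hle⟩ := orbit_card_le_odd h2 n lam hlam
  have hfin : (Set.range fun P : GL (Fin n) F =>
      lam.compAddMonoidHom (congT P : symAdd n F ≃+ symAdd n F).toAddMonoidHom).Finite :=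
    Set.toFinite _
  obtain ⟨k', hk', hcard⟩ := hOrb hfin.toFinset (by
    intro μ hμ
    rw [Set.Finite.mem_toFinset] at hμ
    obtain ⟨P, rfl⟩ := hμ
    refine ⟨lev P, congT P, fun a => lev_conj_siegHom P a, fun a => rfl⟩)
  have h1 : ρ.character 1 = (k : ℂ) := by
    rw [Representation.char_one]
    simp
  rw [h1] at hk'
  have hkk : k = k' := by exact_mod_cast hk'
  have hc : hfin.toFinset.card = Nat.card (Set.range fun P : GL (Fin n) F =>
      lam.compAddMonoidHom (congT P : symAdd n F ≃+ symAdd n F).toAddMonoidHom) := by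
    rw [Nat.card_coe_set_eq, Set.ncard_eq_toFinset_card _ hfin]
  calc (Fintype.card F ^ n - 1) / 2 ≤ _ := hO M hM hM0
    _ ≤ _ := hle
    _ = hfin.toFinset.card := hc.symm
    _ ≤ k' := hcard
    _ = k := hkk.symm

end Cfsg.Agent.Lib.Helper6.Siegel
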