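import Mathlib

set_option autoImplicit false

namespace Cfsg.Agent.Lib.Helper1

section SimpleIndex

theorem toPermHom_injective_of_simple {G : Type*} [Group G] [IsSimpleGroup G]
    (H : Subgroup G) (hH : H ≠ ⊤) :
    Function.Injective (MulAction.toPermHom G (G ⧸ H)) := by
  have hcore : H.normalCore = ⊥ := by
    rcases (H.normalCore_normal).eq_bot_or_eq_top with h | h
    · exact h
    · exfalso; apply hH; exact top_le_iff.mp (h ▸ H.normalCore_le)
  have hker : (MulAction.toPermHom G (G ⧸ H)).ker = ⊥ := by
    rw [← Subgroup.normalCore_eq_ker, hcore]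
  exact (MonoidHom.ker_eq_bot_iff _).mp hker

theorem card_dvd_factorial_index_of_simple {G : Type*} [Group G] [Finite G] [IsSimpleGroup G]
    (H : Subgroup G) (hH : H ≠ ⊤) : Nat.card G ∣ (H.index).factorial := by
  have hinj := toPermHom_injective_of_simple H hH
  have : Nat.card G ∣ Nat.card (Equiv.Perm (G ⧸ H)) := Subgroup.card_dvd_of_injective _ hinj
  rw [Nat.card_perm] at this
  exact this

/-- In a simple group with more than two elements, the image of the coset action lies in the
alternating group, so the order divides half the factorial (stated multiplied out). -/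
theorem two_mul_card_dvd_factorial_index_of_simple {G : Type*} [Group G] [Finite G]
    [IsSimpleGroup G] (hG : 2 < Nat.card G)
    (H : Subgroup G) (hH : H ≠ ⊤) : 2 * Nat.card G ∣ (H.index).factorial := by
  classical
  have : Fintype (G ⧸ H) := Fintype.ofFinite _
  have hinj := toPermHom_injective_of_simple H hH
  set φ := MulAction.toPermHom G (G ⧸ H) with hφ
  -- sign ∘ φ is trivial
  have hker : (Equiv.Perm.sign.comp φ).ker = ⊤ := by
    rcases (MonoidHom.normal_ker (Equiv.Perm.sign.comp φ)).eq_bot_or_eq_top with h | h
    · exfalso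
      have hinj2 : Function.Injective (Equiv.Perm.sign.comp φ) := (MonoidHom.ker_eq_bot_iff _).mp h
      have := Nat.card_le_card_of_injective _ hinj2
      have h2 : Nat.card ℤˣ = 2 := by
        rw [Nat.card_eq_fintype_card]; rfl
      omega
    · exact h
  have hle : φ.range ≤ alternatingGroup (G ⧸ H) := by
    rintro _ ⟨g, rfl⟩
    rw [Equiv.Perm.mem_alternatingGroup]
    have : g ∈ (Equiv.Perm.sign.comp φ).ker := by rw [hker]; trivial
    exact this
  have h1 : Nat.card φ.range = Nat.card G :=
    (Nat.card_congr (MonoidHom.ofInjective hinj).toEquiv).symm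
  have h2 : Nat.card φ.range ∣ Nat.card (alternatingGroup (G ⧸ H)) :=
    Subgroup.card_dvd_of_le hle
  have hnt : Nontrivial (G ⧸ H) := by
    rw [← Finite.one_lt_card_iff_nontrivial]
    have : H.index ≠ 1 := fun h => hH (Subgroup.index_eq_one.mp h)
    have : H.index ≠ 0 := Subgroup.index_ne_zero_of_finite
    show 1 < H.index
    omega
  have h3 : 2 * Nat.card (alternatingGroup (G ⧸ H)) = (H.index).factorial := by
    have := two_mul_card_alternatingGroup (α := G ⧸ H)
    rw [Nat.card_eq_fintype_card (α := alternatingGroup (G ⧸ H))]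
    rw [this, Fintype.card_perm]
    congr 1
    rw [← Nat.card_eq_fintype_card]; rfl
  rw [← h3, ← h1]
  exact Nat.mul_dvd_mul_left 2 h2

end SimpleIndex

end Cfsg.Agent.Lib.Helper1
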