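import Mathlib
import Cfsg.Agent.Lib.Helper8.SmTwoDefs
import Cfsg.Agent.Lib.Helper8.SmTwoB

set_option autoImplicit false

/-! S4409, package PN: helper lemmas (prefix `pn_`) for the "not small" lemmas. The lemmas with the
stub names themselves are canonical in `Helper4/SmTwoPN4`, `Helper7/SmTwoPN3`, `Helper8/SmTwoPN2`
(landed first); the duplicates that were here have been removed to avoid name clashes. -/

namespace Cfsg.Agent.Lib.Helper8.SmTwo

universe u

variable {G : Type u} [Group G]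

/-- `a ^ 4 = 1` when `(a ^ 2) ^ 2 = 1` -/
theorem pn_pow_four (a : G) (h : (a ^ 2) ^ 2 = 1) : a ^ 4 = 1 := by
  rw [show (4 : ℕ) = 2 * 2 from rfl, pow_mul]; exact h

/-- membership in the centralizer of a singleton -/
theorem pn_mem_cent (a b : G) (h : a * b = b * a) : b ∈ Subgroup.centralizer ({a} : Set G) := by
  rw [Subgroup.mem_centralizer_iff]
  intro w hw
  rw [Set.mem_singleton_iff.mp hw]
  exact h

/-- membership in the centralizer of a singleton -/
theorem pn_comm_of_mem_cent {a b : G} (h : b ∈ Subgroup.centralizer ({a} : Set G)) :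
    a * b = b * a :=
  (Subgroup.mem_centralizer_iff.mp h) a (Set.mem_singleton a)

/-- the elements of `⟨z⟩` for an involution `z` -/
theorem pn_mem_zpowers_of_sq (z x : G) (hz2 : z ^ 2 = 1) (hx : x ∈ Subgroup.zpowers z) :
    x = 1 ∨ x = z := by
  obtain ⟨k, rfl⟩ := Subgroup.mem_zpowers_iff.mp hx
  have h2 : z ^ (2 : ℤ) = 1 := by rw [zpow_two, ← pow_two]; exact hz2
  have h3 : z ^ k = z ^ (k % 2) := by
    calc z ^ k = z ^ (2 * (k / 2) + k % 2) := by
          have hk : 2 * (k / 2) + k % 2 = k := by omega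
          rw [hk]
      _ = (z ^ (2 : ℤ)) ^ (k / 2) * z ^ (k % 2) := by rw [zpow_add, zpow_mul]
      _ = z ^ (k % 2) := by rw [h2, one_zpow, one_mul]
  rcases Int.emod_two_eq_zero_or_one k with h | h
  · left; rw [h3, h, zpow_zero]
  · right; rw [h3, h, zpow_one]

/-- `⟨z, x⟩` has order `4` -/
theorem pn_card_four [Finite G] (z x : G) (hz1 : z ≠ 1) (hz2 : z ^ 2 = 1) (hzx : z * x = x * z)
    (hx1 : x ≠ 1) (hxz : x ≠ z) (hx2 : x ^ 2 = 1 ∨ x ^ 2 = z) :
    Nat.card (Subgroup.zpowers z ⊔ Subgroup.zpowers x : Subgroup G) = 4 := by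
  have hle : Subgroup.zpowers z ≤ Subgroup.centralizer ({x} : Set G) :=
    Subgroup.zpowers_le.mpr (pn_mem_cent x z hzx.symm)
  have hxn : x ∈ Subgroup.normalizer ((Subgroup.zpowers z : Subgroup G) : Set G) := by
    apply Subgroup.centralizer_le_normalizer
    rw [Subgroup.mem_centralizer_iff]
    intro h hh
    exact (pn_comm_of_mem_cent (hle hh)).symm
  have hxnot : x ∉ Subgroup.zpowers z := fun hmem => by
    rcases pn_mem_zpowers_of_sq z x hz2 hmem with h | h
    · exact hx1 h
    · exact hxz h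
  have hx2' : x ^ 2 ∈ Subgroup.zpowers z := by
    rcases hx2 with h | h
    · rw [h]; exact one_mem _
    · rw [h]; exact Subgroup.mem_zpowers z
  rw [card_sup_zpowers_of_sq_mem _ x hxn hxnot hx2', Nat.card_zpowers, orderOf_eq_prime hz2 hz1]

/-- common set-up: `z` a central involution of `Y`, all squares in `{1, z}`, `x ∈ Y ∖ {1, z}`,
`y ∈ Y` commuting with `x` and outside `⟨z, x⟩`: then `Y` is not small -/
theorem pn_not_small_of_three [Finite G] (Y : Subgroup G) (z : G) (hz : z ∈ Y) (hz1 : z ≠ 1)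
    (hz2 : z ^ 2 = 1) (hzc : ∀ y ∈ Y, z * y = y * z) (hsq : ∀ x ∈ Y, x ^ 2 = 1 ∨ x ^ 2 = z)
    (x : G) (hxY : x ∈ Y) (hx1 : x ≠ 1) (hxz : x ≠ z) (y : G) (hyY : y ∈ Y)
    (hyx : y * x = x * y) (hyB : y ∉ Subgroup.zpowers z ⊔ Subgroup.zpowers x) : ¬ Small Y := by
  have hzx : z * x = x * z := hzc x hxY
  have hB4 := pn_card_four z x hz1 hz2 hzx hx1 hxz (hsq x hxY)
  have h4 : ∀ a ∈ Y, a ^ 4 = 1 := by
    intro a ha
    apply pn_pow_four
    rcases hsq a ha with h | h
    · rw [h, one_pow]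
    · rw [h]; exact hz2
  -- every element of `B` commutes with `z`, `x`, `y` and lies in `Y`
  have hBK : Subgroup.zpowers z ⊔ Subgroup.zpowers x ≤
      Subgroup.centralizer ({z} : Set G) ⊓ Subgroup.centralizer ({x} : Set G) ⊓
        Subgroup.centralizer ({y} : Set G) ⊓ Y := by
    exact sup_le
      (Subgroup.zpowers_le.mpr ⟨⟨⟨pn_mem_cent z z rfl, pn_mem_cent x z hzx.symm⟩,
        pn_mem_cent y z (hzc y hyY).symm⟩, hz⟩)
      (Subgroup.zpowers_le.mpr ⟨⟨⟨pn_mem_cent z x hzx, pn_mem_cent x x rfl⟩,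
        pn_mem_cent y x hyx⟩, hxY⟩)
  have hBz : ∀ a ∈ Subgroup.zpowers z ⊔ Subgroup.zpowers x, z * a = a * z := fun a ha =>
    pn_comm_of_mem_cent (hBK ha).1.1.1
  have hBx : ∀ a ∈ Subgroup.zpowers z ⊔ Subgroup.zpowers x, x * a = a * x := fun a ha =>
    pn_comm_of_mem_cent (hBK ha).1.1.2
  have hBy : ∀ a ∈ Subgroup.zpowers z ⊔ Subgroup.zpowers x, y * a = a * y := fun a ha =>
    pn_comm_of_mem_cent (hBK ha).1.2
  have hBY : Subgroup.zpowers z ⊔ Subgroup.zpowers x ≤ Y := fun a ha => (hBK ha).2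
  have hBc : ∀ a ∈ Subgroup.zpowers z ⊔ Subgroup.zpowers x,
      ∀ b ∈ Subgroup.zpowers z ⊔ Subgroup.zpowers x, a * b = b * a := by
    intro a ha b hb
    have hle : Subgroup.zpowers z ⊔ Subgroup.zpowers x ≤ Subgroup.centralizer ({a} : Set G) :=
      sup_le (Subgroup.zpowers_le.mpr (pn_mem_cent a z (hBz a ha).symm))
        (Subgroup.zpowers_le.mpr (pn_mem_cent a x (hBx a ha).symm))
    exact pn_comm_of_mem_cent (hle hb)
  have hy2 : y ^ 2 ∈ Subgroup.zpowers z ⊔ Subgroup.zpowers x := by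
    rcases hsq y hyY with h | h
    · rw [h]; exact one_mem _
    · rw [h]; exact (le_sup_left : Subgroup.zpowers z ≤ _) (Subgroup.mem_zpowers z)
  have hbad : Bad ((Subgroup.zpowers z ⊔ Subgroup.zpowers x) ⊔ Subgroup.zpowers y) :=
    bad_sup_zpowers _ y hB4 hBc (fun a ha => h4 a (hBY ha)) hBy hyB hy2 (h4 y hyY)
  intro hs
  exact hs _ (sup_le hBY (Subgroup.zpowers_le.mpr hyY)) hbad

/-- a subgroup with at least three elements has an element outside `{1, a}` -/
theorem pn_exists_ne [Finite G] (Y : Subgroup G) (a : G) (ha2 : a ^ 2 = 1)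
    (hcard : 3 ≤ Nat.card Y) : ∃ b ∈ Y, b ≠ 1 ∧ b ≠ a := by
  by_contra hcon
  push Not at hcon
  have hle : Y ≤ Subgroup.zpowers a := by
    intro b hb
    by_cases h1 : b = 1
    · rw [h1]; exact one_mem _
    · rw [hcon b hb h1]; exact Subgroup.mem_zpowers a
  have h1 := Subgroup.card_le_of_le hle
  rw [Nat.card_zpowers] at h1
  have h2 : orderOf a ≤ 2 := Nat.le_of_dvd (by norm_num) (orderOf_dvd_of_pow_eq_one ha2)
  omega

/-- the centralizer of `x` in `Y` has index at most `2` -/
theorem pn_card_le_two_mul [Finite G] (Y : Subgroup G) (z : G) (hz2 : z ^ 2 = 1)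
    (hzc : ∀ y ∈ Y, z * y = y * z)
    (hcomm : ∀ x ∈ Y, ∀ y ∈ Y, x * y = y * x ∨ x * y = y * x * z) (x : G) (hxY : x ∈ Y) :
    Nat.card Y ≤ 2 * Nat.card (Y ⊓ Subgroup.centralizer ({x} : Set G) : Subgroup G) := by
  by_cases hall : Y ≤ Subgroup.centralizer ({x} : Set G)
  · rw [inf_eq_left.mpr hall]; omega
  · obtain ⟨y0, hy0Y, hy0⟩ : ∃ y0 ∈ Y, y0 ∉ Subgroup.centralizer ({x} : Set G) := by
      by_contra hcon
      push Not at hcon
      exact hall hcon
    have hmem : ∀ g : G, g ∈ Subgroup.centralizer ({x} : Set G) ↔ x * g = g * x := by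
      intro g
      rw [Subgroup.mem_centralizer_iff]
      constructor
      · intro h; exact h x (Set.mem_singleton x)
      · intro h w hw; rw [Set.mem_singleton_iff.mp hw]; exact h
    have hnc : ∀ g ∈ Y, ¬ (x * g = g * x) → x * g = g * x * z := by
      intro g hg hne
      rcases hcomm x hxY g hg with h | h
      · exact absurd h hne
      · exact h
    have hy0' : ¬ (x * y0 = y0 * x) := fun h => hy0 ((hmem y0).mpr h)
    have hzz : z * z = 1 := by rw [← pow_two]; exact hz2
    have hidx : ((Y ⊓ Subgroup.centralizer ({x} : Set G)).subgroupOf Y).index = 2 := by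
      rw [Subgroup.index_eq_two_iff]
      refine ⟨⟨y0, hy0Y⟩, fun b => ?_⟩
      have e1 : (b * ⟨y0, hy0Y⟩ ∈ (Y ⊓ Subgroup.centralizer ({x} : Set G)).subgroupOf Y) ↔
          x * ((b : G) * y0) = (b : G) * y0 * x := by
        rw [Subgroup.mem_subgroupOf, Subgroup.mem_inf, hmem]
        constructor
        · intro h; exact h.2
        · intro h; exact ⟨(b * ⟨y0, hy0Y⟩).2, h⟩
      have e2 : (b ∈ (Y ⊓ Subgroup.centralizer ({x} : Set G)).subgroupOf Y) ↔
          x * (b : G) = (b : G) * x := by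
        rw [Subgroup.mem_subgroupOf, Subgroup.mem_inf, hmem]
        constructor
        · intro h; exact h.2
        · intro h; exact ⟨b.2, h⟩
      rw [e1, e2]
      by_cases hb : x * (b : G) = (b : G) * x
      · right
        refine ⟨hb, fun h => hy0' ?_⟩
        have h1 : (b : G) * (x * y0) = (b : G) * (y0 * x) := by
          calc (b : G) * (x * y0) = (x * (b : G)) * y0 := by rw [hb, mul_assoc]
            _ = x * ((b : G) * y0) := by rw [mul_assoc]
            _ = (b : G) * y0 * x := h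
            _ = (b : G) * (y0 * x) := by rw [mul_assoc]
        exact mul_left_cancel h1
      · left
        refine ⟨?_, hb⟩
        have h1 := hnc b b.2 hb
        have h2 := hnc y0 hy0Y hy0'
        have h3 := hzc y0 hy0Y
        calc x * ((b : G) * y0) = (x * (b : G)) * y0 := by rw [mul_assoc]
          _ = ((b : G) * x * z) * y0 := by rw [h1]
          _ = (b : G) * x * (z * y0) := by rw [mul_assoc]
          _ = (b : G) * x * (y0 * z) := by rw [h3]
          _ = (b : G) * (x * y0) * z := by simp only [mul_assoc]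
          _ = (b : G) * (y0 * x * z) * z := by rw [h2]
          _ = (b : G) * y0 * x * (z * z) := by simp only [mul_assoc]
          _ = (b : G) * y0 * x := by rw [hzz, mul_one]
    have h1 := Subgroup.card_mul_index ((Y ⊓ Subgroup.centralizer ({x} : Set G)).subgroupOf Y)
    rw [hidx] at h1
    have h2 : Nat.card ((Y ⊓ Subgroup.centralizer ({x} : Set G)).subgroupOf Y) =
        Nat.card (Y ⊓ Subgroup.centralizer ({x} : Set G) : Subgroup G) :=
      Nat.card_congr (Subgroup.subgroupOfEquivOfLe inf_le_left).toEquiv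
    rw [h2] at h1
    omega

end Cfsg.Agent.Lib.Helper8.SmTwo
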