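import Mathlib
import Cfsg.Agent.Lib.Helper8.SmallSolvable

set_option autoImplicit false

namespace Cfsg.Agent.Lib.Helper1.Solv72

open Cfsg.Agent.Lib.Helper8

variable {G : Type*} [Group G]

theorem isSolvable_of_isPGroup' {p : ℕ} [Fact p.Prime] [Finite G] (h : IsPGroup p G) :
    Group.IsSolvable G := by
  have := h.isNilpotent
  infer_instance

/-- groups of order dividing `18` are solvable -/
theorem isSolvable_of_card_dvd_18 [Finite G] (h : Nat.card G ∣ 18) : Group.IsSolvable G := by
  have : Fact (Nat.Prime 3) := ⟨Nat.prime_three⟩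
  obtain ⟨P⟩ : Nonempty (Sylow 3 G) := inferInstance
  have hnd := P.not_dvd_index
  have hidvd : (P : Subgroup G).index ∣ 2 := by
    have h1 : (P : Subgroup G).index ∣ 9 * 2 := dvd_trans (Subgroup.index_dvd_card _) h
    have hc : Nat.Coprime (P : Subgroup G).index 9 := by
      have : Nat.Coprime (P : Subgroup G).index 3 :=
        (Nat.coprime_comm.mp ((Nat.Prime.coprime_iff_not_dvd Nat.prime_three).mpr hnd))
      have h9 : (9 : ℕ) = 3 ^ 2 := by norm_num
      rw [h9]
      exact Nat.Coprime.pow_right 2 this
    exact hc.dvd_of_dvd_mul_left h1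
  rcases (Nat.dvd_prime Nat.prime_two).mp hidvd with h1 | h2
  · have htop : (P : Subgroup G) = ⊤ := Subgroup.index_eq_one.mp h1
    have hG : IsPGroup 3 G := by
      have := P.isPGroup'
      rw [htop] at this
      exact this.of_equiv (Subgroup.topEquiv)
    exact isSolvable_of_isPGroup' hG
  · have hPn : (P : Subgroup G).Normal := Subgroup.normal_of_index_eq_two h2
    apply isSolvable_of_normal_h8 (P : Subgroup G)
    · exact isSolvable_of_isPGroup' P.isPGroup'
    · have : Fact (Nat.Prime 2) := ⟨Nat.prime_two⟩
      apply isSolvable_of_prime_card (p := 2)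
      rw [← Subgroup.index_eq_card, h2]

/-- groups of order dividing `72` are solvable -/
theorem isSolvable_of_card_dvd_72 [Finite G] (h : Nat.card G ∣ 72) : Group.IsSolvable G := by
  have : Fact (Nat.Prime 3) := ⟨Nat.prime_three⟩
  have : Fact (Nat.Prime 2) := ⟨Nat.prime_two⟩
  obtain ⟨P⟩ : Nonempty (Sylow 3 G) := inferInstance
  have hnd := P.not_dvd_index
  have hidvd : (P : Subgroup G).index ∣ 8 := by
    have h1 : (P : Subgroup G).index ∣ 9 * 8 := dvd_trans (Subgroup.index_dvd_card _) h
    have hc : Nat.Coprime (P : Subgroup G).index 9 := by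
      have : Nat.Coprime (P : Subgroup G).index 3 :=
        (Nat.coprime_comm.mp ((Nat.Prime.coprime_iff_not_dvd Nat.prime_three).mpr hnd))
      have h9 : (9 : ℕ) = 3 ^ 2 := by norm_num
      rw [h9]
      exact Nat.Coprime.pow_right 2 this
    exact hc.dvd_of_dvd_mul_left h1
  have hn3 : Nat.card (Sylow 3 G) ∣ 8 := by
    rw [Sylow.card_eq_index_normalizer P]
    exact dvd_trans (Subgroup.index_dvd_of_le Subgroup.le_normalizer) hidvd
  have hmod : Nat.card (Sylow 3 G) ≡ 1 [MOD 3] := card_sylow_modEq_one 3 G
  have hle : Nat.card (Sylow 3 G) ≤ 8 := Nat.le_of_dvd (by norm_num) hn3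
  have hpos : 0 < Nat.card (Sylow 3 G) := Nat.card_pos
  have hcases : Nat.card (Sylow 3 G) = 1 ∨ Nat.card (Sylow 3 G) = 4 := by
    unfold Nat.ModEq at hmod
    interval_cases hc : Nat.card (Sylow 3 G) <;> simp_all
  rcases hcases with h1 | h4
  · -- the Sylow 3-subgroup is normal
    have hPn : (P : Subgroup G).Normal := by
      have hsub : Subsingleton (Sylow 3 G) := (Nat.card_eq_one_iff_unique.mp h1).1
      exact P.normal_of_subsingleton
    apply isSolvable_of_normal_h8 (P : Subgroup G)
    · exact isSolvable_of_isPGroup' P.isPGroup'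
    · have hq : IsPGroup 2 (G ⧸ (P : Subgroup G)) := by
        obtain ⟨k, hk, hk2⟩ := (Nat.dvd_prime_pow Nat.prime_two (m := 3)).mp
          (by rw [← Subgroup.index_eq_card] at *; simpa using hidvd :
            Nat.card (G ⧸ (P : Subgroup G)) ∣ 2 ^ 3)
        exact IsPGroup.of_card hk2
      exact isSolvable_of_isPGroup' hq
  · -- action on the four Sylow 3-subgroups
    obtain ⟨f, hf⟩ : ∃ f : G →* Equiv.Perm (Sylow 3 G),
        f = MulAction.toPermHom G (Sylow 3 G) := ⟨_, rfl⟩
    have hker : f.ker ≤ Subgroup.normalizer (P : Set G) := by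
      intro g hg
      rw [MonoidHom.mem_ker, hf] at hg
      have h2 : g • P = P := by
        have := congrArg (fun σ : Equiv.Perm (Sylow 3 G) => σ P) hg
        simpa using this
      exact Sylow.smul_eq_iff_mem_normalizer.mp h2
    have hNcard : Nat.card (Subgroup.normalizer (P : Set G)) ∣ 18 := by
      have h5 := Subgroup.index_mul_card (Subgroup.normalizer (P : Set G))
      rw [← Sylow.card_eq_index_normalizer P, h4] at h5
      have h6 : 4 * Nat.card (Subgroup.normalizer (P : Set G)) ∣ 4 * 18 := by
        rw [h5]; exact h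
      exact Nat.dvd_of_mul_dvd_mul_left (by norm_num) h6
    have hkers : Group.IsSolvable f.ker := by
      apply isSolvable_of_card_dvd_18
      exact dvd_trans (Subgroup.card_dvd_of_le hker) hNcard
    have hcard : Nat.card (Equiv.Perm (Sylow 3 G)) = 24 := by
      rw [Nat.card_perm, h4]
      rfl
    have hrange : Group.IsSolvable f.range := by
      apply isSolvable_of_card_dvd_24
      rw [← hcard]
      exact Subgroup.card_subgroup_dvd_card _
    exact Group.isSolvable_of_ker_le_range f.ker.subtype f.rangeRestrict (by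
      rw [MonoidHom.ker_rangeRestrict, Subgroup.range_subtype])

end Cfsg.Agent.Lib.Helper1.Solv72
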