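import Mathlib

/-!
# `Sp₄(2) ≃ S₆`: an injective homomorphism `S₆ → Sp₄(ZMod 2)`

The symmetric group `S₆` acts on `𝟙^⊥ / ⟨𝟙⟩` inside `(ZMod 2)^6`, a four-dimensional symplectic
space.  We write the action in an explicit symplectic basis.
-/

set_option autoImplicit false

namespace Cfsg.Agent.Lib.Helper1.Sp42

open Matrix

/-- The ground field. -/
abbrev K := ZMod 2

/-- The basis matrix: its columns are vectors `b_k` spanning a complement of `𝟙` in `𝟙^⊥`. -/
def bas : Matrix (Fin 6) (Fin 2 ⊕ Fin 2) K := fun i k =>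
  match k with
  | .inl 0 => if i = 0 ∨ i = 1 then 1 else 0
  | .inr 0 => if i = 1 ∨ i = 2 then 1 else 0
  | .inl 1 => if i = 3 ∨ i = 4 then 1 else 0
  | .inr 1 => if i = 4 ∨ i = 5 then 1 else 0

/-- The coordinate matrix. -/
def coo : Matrix (Fin 2 ⊕ Fin 2) (Fin 6) K := J (Fin 2) K * basᵀ

/-- all-ones vector -/
def ones : Fin 6 → K := fun _ => 1

/-- first half -/
def uvec : Fin 6 → K := fun i => if i.val < 3 then 1 else 0

/-- second half -/
def wvec : Fin 6 → K := fun i => if i.val < 3 then 0 else 1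

theorem coo_mul_bas : coo * bas = 1 := by decide +kernel

theorem bas_mul_coo : bas * coo = 1 + vecMulVec ones uvec + vecMulVec wvec ones := by
  decide +kernel

theorem gram : basᵀ * bas = J (Fin 2) K := by decide +kernel

theorem coo_gram : cooᵀ * J (Fin 2) K * coo = 1 + vecMulVec ones uvec + vecMulVec wvec ones := by
  decide +kernel

theorem coo_ones : coo *ᵥ ones = 0 := by decide +kernel

theorem ones_bas : ones ᵥ* bas = 0 := by decide +kernel

theorem basT_ones : basᵀ *ᵥ ones = 0 := by decide +kernel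

/-- permutation matrix, as a homomorphism -/
abbrev pm (σ : Equiv.Perm (Fin 6)) : Matrix (Fin 6) (Fin 6) K := (σ⁻¹).permMatrix K

theorem pm_mul (σ τ : Equiv.Perm (Fin 6)) : pm (σ * τ) = pm σ * pm τ := by
  unfold pm; rw [_root_.mul_inv_rev, permMatrix_mul]

theorem pm_ones (σ : Equiv.Perm (Fin 6)) : pm σ *ᵥ ones = ones := by
  unfold pm; rw [permMatrix_mulVec]; rfl

theorem ones_pm (σ : Equiv.Perm (Fin 6)) : ones ᵥ* pm σ = ones := by
  unfold pm; rw [vecMul_permMatrix]; rfl

theorem pmT (σ : Equiv.Perm (Fin 6)) : (pm σ)ᵀ = pm σ⁻¹ := by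
  unfold pm; rw [transpose_permMatrix]

/-- the matrix of a permutation -/
def mat (σ : Equiv.Perm (Fin 6)) : Matrix (Fin 2 ⊕ Fin 2) (Fin 2 ⊕ Fin 2) K :=
  coo * pm σ * bas

theorem mat_one : mat 1 = 1 := by
  unfold mat pm; rw [inv_one, permMatrix_one, Matrix.mul_one, coo_mul_bas]

theorem key {m n : Type*} [Fintype m] [Fintype n] (A : Matrix m (Fin 6) K) (B : Matrix (Fin 6) n K)
    (hA : A *ᵥ ones = 0) (hB : ones ᵥ* B = 0) :
    A * (1 + vecMulVec ones uvec + vecMulVec wvec ones) * B = A * B := by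
  have e1 : ∀ v : n → K, vecMulVec (0 : m → K) v = 0 := by
    intro v; ext i j; simp [vecMulVec_apply]
  have e2 : vecMulVec wvec (0 : n → K) = 0 := by ext i j; simp [vecMulVec_apply]
  have h2 : A * vecMulVec ones uvec * B = 0 := by
    rw [mul_vecMulVec, hA, vecMulVec_mul, e1]
  have h3 : A * vecMulVec wvec ones * B = 0 := by
    rw [Matrix.mul_assoc, vecMulVec_mul, hB, e2, Matrix.mul_zero]
  rw [Matrix.mul_add, Matrix.mul_add, Matrix.add_mul, Matrix.add_mul, Matrix.mul_one, h2, h3]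
  simp

theorem mat_mul (σ τ : Equiv.Perm (Fin 6)) : mat (σ * τ) = mat σ * mat τ := by
  unfold mat
  have h1 : coo * pm σ * bas * (coo * pm τ * bas) =
      (coo * pm σ) * (bas * coo) * (pm τ * bas) := by simp only [Matrix.mul_assoc]
  rw [h1, bas_mul_coo, key, pm_mul]
  · simp only [Matrix.mul_assoc]
  · rw [← Matrix.mulVec_mulVec, pm_ones, coo_ones]
  · rw [← Matrix.vecMul_vecMul, ones_pm, ones_bas]

theorem mat_mem (σ : Equiv.Perm (Fin 6)) : mat σ ∈ symplecticGroup (Fin 2) K := by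
  rw [SymplecticGroup.mem_iff']
  unfold mat
  have h1 : (coo * pm σ * bas)ᵀ * J (Fin 2) K * (coo * pm σ * bas) =
      (basᵀ * (pm σ)ᵀ) * (cooᵀ * J (Fin 2) K * coo) * (pm σ * bas) := by
    simp only [Matrix.transpose_mul, Matrix.mul_assoc]
  rw [h1, coo_gram, key]
  · rw [Matrix.mul_assoc, ← Matrix.mul_assoc _ (pm σ), pmT, ← pm_mul, inv_mul_cancel]
    unfold pm; rw [inv_one, permMatrix_one, Matrix.one_mul, gram]
  · rw [← Matrix.mulVec_mulVec, pmT, pm_ones, basT_ones]
  · rw [← Matrix.vecMul_vecMul, ones_pm, ones_bas]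

/-- The homomorphism `S₆ → Sp₄(2)`. -/
def hom : Equiv.Perm (Fin 6) →* symplecticGroup (Fin 2) K where
  toFun σ := ⟨mat σ, mat_mem σ⟩
  map_one' := Subtype.ext mat_one
  map_mul' σ τ := Subtype.ext (mat_mul σ τ)

theorem mat_cycle_ne : mat (Equiv.swap 0 1 * Equiv.swap 1 2) ≠ 1 := by
  decide +kernel

theorem hom_injective : Function.Injective hom := by
  rw [← MonoidHom.ker_eq_bot_iff]
  by_contra hne
  have hnt : Nontrivial hom.ker := (Subgroup.nontrivial_iff_ne_bot _).mpr hne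
  have hle := Equiv.Perm.alternatingGroup_le_of_normal (α := Fin 6) (by simp) hnt
  have hc : (Equiv.swap (0 : Fin 6) 1 * Equiv.swap 1 2) ∈ alternatingGroup (Fin 6) := by
    rw [Equiv.Perm.mem_alternatingGroup]; decide
  have := hle hc
  rw [MonoidHom.mem_ker] at this
  exact mat_cycle_ne (congrArg Subtype.val this)

end Cfsg.Agent.Lib.Helper1.Sp42
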