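import Mathlib
import Cfsg.Agent.Lib.Helper1.Sp6A
import Cfsg.Agent.S0246
import Cfsg.Agent.S0270

/-!
# The group `Sp₆(2)`: it is simple, and isomorphic to the projective symplectic group over any
field with two elements
-/

set_option autoImplicit false

namespace Cfsg.Agent.Lib.Helper1.Sp6

open Matrix

section congr

variable {F F' : Type*} [Field F] [Field F'] {m : ℕ}

theorem J_map (φ : F →+* F') : (J (Fin m) F).map φ = J (Fin m) F' := by
  unfold J
  rw [Matrix.fromBlocks_map]
  congr 1
  · exact Matrix.map_zero _ (map_zero φ)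
  · ext i j
    simp [Matrix.one_apply, apply_ite]
  · ext i j
    simp [Matrix.one_apply, apply_ite]
  · exact Matrix.map_zero _ (map_zero φ)

theorem map_mem_symplectic (φ : F →+* F') (A : Matrix (Fin m ⊕ Fin m) (Fin m ⊕ Fin m) F)
    (hA : A ∈ symplecticGroup (Fin m) F) : A.map φ ∈ symplecticGroup (Fin m) F' := by
  rw [SymplecticGroup.mem_iff] at hA ⊢
  rw [← J_map φ, ← Matrix.transpose_map, ← Matrix.map_mul, ← Matrix.map_mul, hA]

/-- the symplectic groups over isomorphic fields are isomorphic -/
def spCongr (φ : F ≃+* F') : symplecticGroup (Fin m) F ≃* symplecticGroup (Fin m) F' where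
  toFun A := ⟨A.1.map φ, map_mem_symplectic (φ : F →+* F') A.1 A.2⟩
  invFun A := ⟨A.1.map φ.symm, map_mem_symplectic (φ.symm : F' →+* F) A.1 A.2⟩
  left_inv A := by
    apply Subtype.ext
    ext i j
    show φ.symm (φ (A.1 i j)) = A.1 i j
    rw [RingEquiv.symm_apply_apply]
  right_inv A := by
    apply Subtype.ext
    ext i j
    show φ (φ.symm (A.1 i j)) = A.1 i j
    rw [RingEquiv.apply_symm_apply]
  map_mul' A A' := by
    apply Subtype.ext
    show (A.1 * A'.1).map φ = A.1.map φ * A'.1.map φ
    exact Matrix.map_mul (f := (φ : F →+* F'))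

end congr

/-- the center of a symplectic group over a field of characteristic 2 is trivial -/
theorem center_eq_bot {F : Type*} [Field F] (h2 : (2 : F) = 0) :
    Subgroup.center (symplecticGroup (Fin 3) F) = ⊥ := by
  rw [eq_bot_iff]
  intro z hz
  rw [Subgroup.mem_bot]
  rcases (Cfsg.Agent.S0246.mem_center_iff (by norm_num) z).1 hz with rfl | rfl
  · rfl
  · apply Subtype.ext
    show (-1 : Matrix (Fin 3 ⊕ Fin 3) (Fin 3 ⊕ Fin 3) F) = 1
    have h1 : (-1 : F) = 1 := by linear_combination -h2
    ext i j
    simp [Matrix.one_apply]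
    split_ifs <;> simp [h1]

/-- the group is isomorphic to the projective symplectic group over a field with two elements -/
noncomputable def pspEquiv {F : Type*} [Field F] [Fintype F] (hF : Fintype.card F = 2) :
    G6 ≃* Cfsg.PSp 3 F :=
  haveI : Fact (Nat.Prime 2) := ⟨Nat.prime_two⟩
  have h2 : (2 : F) = 0 := by
    have h := Nat.cast_card_eq_zero F
    rw [hF] at h
    exact_mod_cast h
  (spCongr (ZMod.ringEquivOfPrime F Nat.prime_two hF)).trans
    ((QuotientGroup.quotientBot).symm.trans
      (QuotientGroup.quotientMulEquivOfEq (center_eq_bot h2).symm))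

instance isSimpleGroup_G6 : IsSimpleGroup G6 := by
  haveI : IsSimpleGroup (Cfsg.PSp 3 (ZMod 2)) :=
    Cfsg.Agent.S0270.result 3 (by norm_num) (by norm_num)
  exact (pspEquiv (F := ZMod 2) (ZMod.card 2)).isSimpleGroup

end Cfsg.Agent.Lib.Helper1.Sp6
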