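import Cfsg.Agent.Lib.Helper1.Sp6C
import Cfsg.Agent.Lib.Helper1.Sp6Z
import Cfsg.Agent.Lib.Helper1.Sp6ED
import Cfsg.Agent.Lib.Helper1.MaskAct3
import Cfsg.Agent.Lib.Helper1.StemLL7
import Cfsg.Agent.Lib.Helper1.StemLL8

/-!
# A stem extension of the group `Sp₆(2)` with a kernel of order 2
-/

set_option autoImplicit false
set_option maxRecDepth 100000

namespace Cfsg.Agent.Lib.Helper1.Sp6E

open Cfsg Cfsg.Agent.Lib.Helper1 Cfsg.Agent.Lib.Helper1.MatCode MulAction
open Cfsg.Agent.Lib.Helper1.Sp6 Cfsg.Agent.Lib.Helper1.MaskAct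
open Cfsg.Agent.Lib.Helper1.StemLL

open scoped Pointwise

theorem L_range : L.chkRange = true := by decide +kernel

theorem L_sorted : L.chkSorted = true := by decide +kernel

theorem L_liftH : L.chkLiftH hintF = true := by decide +kernel

theorem L_tree : L.chkTree = true := by decide +kernel

theorem L_wit : L.chkWit = true := by decide +kernel

theorem L_chk : L.chk = true := by
  unfold LLData.chk
  rw [LLData.chkLift_of_hint hintF L_range L_sorted L_liftH, L_range, L_tree, L_wit]
  decide

/-- the action of the generators on the codes of the vectors -/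
def fG (i : ℕ) (x : ℕ) : ℕ := ([tA, tB].getD i []).getD x 0

/-- the codes of the three vectors of a line -/
def la (j t : ℕ) : ℕ := hc j t &&& 63
def lb (j t : ℕ) : ℕ := (hc j t >>> 6) &&& 63
def lc (j t : ℕ) : ℕ := hc j t >>> 12

theorem tab_ok : (List.range 2).all (fun i => (List.range 64).all (fun x =>
    fG i x == fT i x)) = true := by
  decide +kernel

theorem code_ok : (List.range 120).all (fun j => (List.range 63).all (fun t =>
    decide (la j t < 64) && decide (lb j t < 64) && decide (lc j t < 64) &&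
      (hl j t == mk3 (la j t) (lb j t) (lc j t)))) = true := by
  decide +kernel

theorem act_ok : (List.range 2).all (fun i => (List.range 120).all (fun j =>
    (List.range 63).all (fun t =>
      decide (pH i j t < 63) && decide (qH i j t < 63) &&
      (mk3 (fT i (la j t)) (fT i (lb j t)) (fT i (lc j t)) == hl (L.pi i j) (pH i j t)) &&
      (mk3 (fT i (la j (qH i j t))) (fT i (lb j (qH i j t))) (fT i (lc j (qH i j t))) ==
        hl (L.pi i j) t)))) = true := by
  decide +kernel

theorem φ_T (i : ℕ) (hi : i < 2) (x : Fin 64) : (φ (GG.getD i 1) x).val = fT i x.val := by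
  have h := tab_ok
  rw [List.all_eq_true] at h
  have h1 := h i (List.mem_range.mpr hi)
  rw [List.all_eq_true] at h1
  have h2 := h1 x.val (List.mem_range.mpr x.isLt)
  rw [beq_iff_eq] at h2
  rw [← h2]
  exact φ_GG i hi x

theorem img_hl (i j t : ℕ) (hj : j < 120) (ht : t < 63) :
    imgMask 64 (fT i) (hl j t) = mk3 (fT i (la j t)) (fT i (lb j t)) (fT i (lc j t)) := by
  have h := code_ok
  rw [List.all_eq_true] at h
  have h1 := h j (List.mem_range.mpr hj)
  rw [List.all_eq_true] at h1
  have h2 := h1 t (List.mem_range.mpr ht)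
  rw [Bool.and_eq_true, Bool.and_eq_true, Bool.and_eq_true, decide_eq_true_eq,
    decide_eq_true_eq, decide_eq_true_eq, beq_iff_eq] at h2
  rw [h2.2]
  exact imgMask_mk3 64 (fT i) _ _ _ h2.1.1.1 h2.1.1.2 h2.1.2

theorem inj_ok : (List.range 120).all (fun j' => (List.range j').all (fun j =>
    (HL j).any (fun M => !(HL j').contains M))) = true := by
  decide +kernel

/-- the points: the sets of the lines of the hexagons -/
def raw (j : ℕ) : Finset (Finset (Fin 64)) := msets 64 (HL j)

theorem HL_lt (j : ℕ) : ∀ M ∈ HL j, M < 2 ^ 64 := by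
  intro M hM
  unfold HL at hM
  rw [List.mem_map] at hM
  obtain ⟨t, _, rfl⟩ := hM
  exact Nat.mod_lt _ (by norm_num)

theorem hl_mem (j t : ℕ) (ht : t < 63) : hl j t ∈ HL j :=
  List.mem_map.mpr ⟨t, List.mem_range.mpr ht, rfl⟩

theorem smul_msets6 (g : G6) (f : ℕ → ℕ) (hf : ∀ x : Fin 64, (φ g x).val = f x.val)
    (Ls : List ℕ) : g • msets 64 Ls = msets 64 (Ls.map (imgMask 64 f)) := by
  have h : g • msets 64 Ls = φ g • msets 64 Ls := rfl
  rw [h]
  exact smul_msets 64 (φ g) f hf Ls

theorem raw_ne (j j' : ℕ) (hjj : j < j') (hj' : j' < 120) : raw j ≠ raw j' := by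
  have h := inj_ok
  rw [List.all_eq_true] at h
  have h1 := h j' (List.mem_range.mpr hj')
  rw [List.all_eq_true] at h1
  have h2 := h1 j (List.mem_range.mpr hjj)
  rw [List.any_eq_true] at h2
  obtain ⟨M, hM, hM'⟩ := h2
  have hM'' : M ∉ HL j' := by
    intro hmem
    rw [List.contains_iff_mem.mpr hmem] at hM'
    exact absurd hM' (by decide)
  exact msets_ne_of_not_mem 64 (HL j) (HL j') (HL_lt j) (HL_lt j') M hM hM''

theorem rawHyp : RawHyp L raw GG where
  range := L_range
  pos := by decide
  act := by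
    intro i hi j hj
    have hi' : i < 2 := hi
    have hj' : j < 120 := hj
    have h := act_ok
    rw [List.all_eq_true] at h
    have h1 := h i (List.mem_range.mpr hi')
    rw [List.all_eq_true] at h1
    have h2 := h1 j (List.mem_range.mpr hj')
    rw [List.all_eq_true] at h2
    have h3 : ∀ t < 63, pH i j t < 63 ∧ qH i j t < 63 ∧
        imgMask 64 (fT i) (hl j t) = hl (L.pi i j) (pH i j t) ∧
        imgMask 64 (fT i) (hl j (qH i j t)) = hl (L.pi i j) t := by
      intro t ht
      have h4 := h2 t (List.mem_range.mpr ht)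
      rw [Bool.and_eq_true, Bool.and_eq_true, Bool.and_eq_true, decide_eq_true_eq,
        decide_eq_true_eq, beq_iff_eq, beq_iff_eq] at h4
      refine ⟨h4.1.1.1, h4.1.1.2, ?_, ?_⟩
      · rw [img_hl i j t hj' ht]; exact h4.1.2
      · rw [img_hl i j _ hj' h4.1.1.2]; exact h4.2
    unfold raw
    rw [smul_msets6 (GG.getD i 1) (fT i) (φ_T i hi') (HL j)]
    apply msets_eq_of_subset
    · intro M hM
      rw [List.mem_map] at hM
      obtain ⟨M₀, hM₀, rfl⟩ := hM
      unfold HL at hM₀
      rw [List.mem_map] at hM₀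
      obtain ⟨t, ht, rfl⟩ := hM₀
      rw [List.mem_range] at ht
      obtain ⟨hp, _, he, _⟩ := h3 t ht
      rw [he]
      exact hl_mem _ _ hp
    · intro M hM
      unfold HL at hM
      rw [List.mem_map] at hM
      obtain ⟨t, ht, rfl⟩ := hM
      rw [List.mem_range] at ht
      obtain ⟨_, hq, _, he⟩ := h3 t ht
      rw [← he]
      exact List.mem_map.mpr ⟨_, hl_mem _ _ hq, rfl⟩
  gen := hgen L.k rfl
  inj := by
    intro j hj j' hj' h
    by_contra hne
    rcases Nat.lt_or_gt_of_ne hne with hlt | hlt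
    · exact raw_ne j j' hlt hj' h
    · exact raw_ne j' j hlt hj h.symm
  move := ⟨mvI, by decide, mvJ, by decide, by decide +kernel⟩

instance : NeZero L.c := ⟨by decide⟩

/-- the hypotheses of the labelled lifts -/
theorem hyp : LLHyp L (ptSub rawHyp) GG := sub_hyp rawHyp

/-- the cover -/
theorem cover : Cfsg.IsStemExtension (sig G6 L.c (EY L (ptSub rawHyp)) (rhoY L (ptSub rawHyp))) ∧
    IsCyclic (sig G6 L.c (EY L (ptSub rawHyp)) (rhoY L (ptSub rawHyp))).ker ∧
    Nat.card (sig G6 L.c (EY L (ptSub rawHyp)) (rhoY L (ptSub rawHyp))).ker = 2 :=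
  stem_of_data L (ptSub rawHyp) GG hyp L_chk

end Cfsg.Agent.Lib.Helper1.Sp6E
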