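import Cfsg.Agent.Lib.Helper1.Sp6E
import Cfsg.Agent.Lib.Helper1.Sp6L
import Cfsg.Agent.Lib.Helper1.Sp6T
import Cfsg.Agent.Lib.Helper1.Stem14
import Cfsg.Agent.Lib.Helper1.Stem17
import Cfsg.Agent.Lib.Helper1.Stem21

/-!
# The multiplier of the group `Sp₆(2)`
-/

set_option autoImplicit false
set_option maxRecDepth 100000

namespace Cfsg.Agent.Lib.Helper1.Sp6

open Cfsg Cfsg.Agent.Lib.Helper1
open Cfsg.Agent.Lib.Helper1.Stem Cfsg.Agent.Lib.Helper1.StemLL

universe u

open scoped Pointwise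

theorem sq_chk : (List.range 1206).all
    (fun ℓ => !(1451520 % (ℓ * ℓ) == 0) || (144 % ℓ == 0)) = true := by decide +kernel

theorem sq_dvd (ℓ : ℕ) (h : ℓ * ℓ ∣ 1451520) : ℓ ∣ 144 := by
  have hlt : ℓ < 1206 := by
    by_contra hge
    have h1 : 1206 * 1206 ≤ ℓ * ℓ := Nat.mul_le_mul (by omega) (by omega)
    have h2 := Nat.le_of_dvd (by norm_num) h
    omega
  have h1 := sq_chk
  rw [List.all_eq_true] at h1
  have h2 := h1 ℓ (List.mem_range.mpr hlt)
  rw [Bool.or_eq_true, Bool.not_eq_true', beq_eq_false_iff_ne, beq_iff_eq] at h2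
  rcases h2 with h2 | h2
  · exact absurd (Nat.mod_eq_zero_of_dvd h) h2
  · exact Nat.dvd_of_mod_eq_zero h2

theorem not_sq_dvd (p : ℕ) (hp : p.Prime) (h2 : p ≠ 2) (h3 : p ≠ 3) : ¬ p * p ∣ 1451520 := by
  intro h
  have h144 := sq_dvd p h
  have e : (144 : ℕ) = 2 ^ 4 * 3 ^ 2 := by norm_num
  rw [e] at h144
  rcases (Nat.Prime.dvd_mul hp).mp h144 with h' | h'
  · exact h2 ((Nat.prime_dvd_prime_iff_eq hp Nat.prime_two).mp (hp.dvd_of_dvd_pow h'))
  · exact h3 ((Nat.prime_dvd_prime_iff_eq hp Nat.prime_three).mp (hp.dvd_of_dvd_pow h'))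

/-- the kernel of a stem extension has order dividing 2 -/
theorem hub (Γ : Type u) [Group Γ] [Finite Γ] (σ : Γ →* G6)
    (hσ : Cfsg.IsStemExtension σ) : Nat.card σ.ker ∣ 2 := by
  apply card_dvd_of_primary σ 2 (by norm_num) ?_ hσ
  intro p hp Γ' _ _ σ' hσ' hk
  by_cases h2 : p = 2
  · subst h2
    have hle := Sp6S.card_ker_le_two Γ' σ' hσ' hk
    obtain ⟨a, ha⟩ := IsPGroup.iff_card.mp hk
    rw [ha] at hle ⊢
    have ha2 : a ≤ 1 := by
      by_contra hlt
      have : 2 ^ 2 ≤ 2 ^ a := Nat.pow_le_pow_right (by norm_num) (by omega)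
      omega
    exact (pow_dvd_pow 2 ha2).trans (by norm_num)
  · by_cases h3 : p = 3
    · subst h3
      rw [Sp6L.card_ker_eq_one Γ' σ' hσ' hk]
      exact one_dvd _
    · have h1 : Nat.card σ'.ker = 1 := by
        apply card_ker_eq_one_of_not_sq_dvd σ' hσ' p hk
        rw [card_G6]
        exact not_sq_dvd p hp.out h2 h3
      rw [h1]; exact one_dvd _

/-- the multiplier of a group isomorphic to `Sp₆(2)` -/
theorem main {G : Type u} [Group G] (f : G6 ≃* G) : Cfsg.HasCyclicSchurMultiplier G 2 := by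
  apply hasCyclicSchurMultiplier_of_equiv f 2
  · exact ⟨_, inferInstance, inferInstance, _, Sp6E.cover⟩
  · intro Γ _ _ σ hσ
    have hd := hub Γ σ hσ
    refine ⟨?_, hd⟩
    have hle : Nat.card σ.ker ≤ 2 := Nat.le_of_dvd (by norm_num) hd
    have hpos : 0 < Nat.card σ.ker := Nat.card_pos
    by_cases h1 : Nat.card σ.ker = 1
    · haveI : Subsingleton σ.ker := (Nat.card_eq_one_iff_unique.mp h1).1
      exact isCyclic_of_subsingleton
    · have h2 : Nat.card σ.ker = 2 := by omega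
      haveI : Fact (Nat.Prime 2) := ⟨Nat.prime_two⟩
      exact isCyclic_of_prime_card h2

/-- the projective symplectic group of degree six over a field with two elements -/
theorem main_field {F : Type u} [Field F] [Fintype F] (hF : Fintype.card F = 2) :
    Cfsg.HasCyclicSchurMultiplier (Cfsg.PSp 3 F) 2 :=
  main (pspEquiv hF)

end Cfsg.Agent.Lib.Helper1.Sp6
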