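import Mathlib
import Cfsg.Prelude
import Cfsg.Agent.Lib.Helper9.SUFus26

set_option autoImplicit false

/-!
# Squares in the unitriangular subgroup of the special unitary group in characteristic 2

The unitriangular subgroup `UJ n σ` of `SUJ n σ` is generated by the elements `Psi (e_l) w b`, and in
characteristic 2 the square of each of them is a commutator of two such elements.  Hence the square of every
element of `UJ n σ` lies in the derived subgroup of `UJ n σ`.
-/

namespace Cfsg.Agent.Lib.Helper1.SqCommSU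

open Matrix
open Cfsg.Agent.H9SUF
open scoped commutatorElement

/-- If the squares of the generators of `closure S` lie in its derived subgroup, so do all squares. -/
theorem sq_mem_commutator_of_closure {G : Type*} [Group G] (S : Set G)
    (hS : ∀ s ∈ S, s ^ 2 ∈ ⁅Subgroup.closure S, Subgroup.closure S⁆) :
    ∀ x ∈ Subgroup.closure S, x ^ 2 ∈ ⁅Subgroup.closure S, Subgroup.closure S⁆ := by
  intro x hx
  induction hx using Subgroup.closure_induction with
  | mem s hs => exact hS s hs
  | one => rw [one_pow]; exact Subgroup.one_mem _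
  | mul a b ha hb iha ihb =>
    have e : (a * b) ^ 2 = a ^ 2 * ⁅a⁻¹, b⁆ * b ^ 2 := by
      rw [commutatorElement_def, pow_two, pow_two, pow_two]; group
    rw [e]
    exact Subgroup.mul_mem _ (Subgroup.mul_mem _ iha
      (Subgroup.commutator_mem_commutator (Subgroup.inv_mem _ ha) hb)) ihb
  | inv a ha iha =>
    rw [inv_pow]
    exact Subgroup.inv_mem _ iha

variable {F : Type*} [Field F] {n : ℕ} (σ : F ≃+* F) [hσ : Fact (∀ a : F, σ (σ a) = a)]

/-- the generating set of the unitriangular subgroup -/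
def psiGen (n : ℕ) (σ : F ≃+* F) [Fact (∀ a : F, σ (σ a) = a)] : Set ↥(SUJ n σ) :=
  {s | ∃ (l : Fin n) (w : Fin n → F) (b : F), l < Fin.rev l ∧ (∀ x : Fin n, x ≤ l → w x = 0) ∧
      (∀ x : Fin n, Fin.rev l ≤ x → w x = 0) ∧ PsiOK σ (Pi.single l 1) w b ∧
      s = Psi σ (Pi.single l 1) w b}

theorem psiGen_subset_UJ : psiGen n σ ⊆ (UJ n σ : Set ↥(SUJ n σ)) := by
  rintro s ⟨l, w, b, hl, -, hw2, hok, rfl⟩
  exact Psi_mem_UJ σ hl hw2 hok

theorem closure_psiGen_le : Subgroup.closure (psiGen n σ) ≤ UJ n σ :=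
  (Subgroup.closure_le _).mpr (psiGen_subset_UJ σ)

theorem peel_gen (k : ℕ) :
    ∀ l : ℕ, l + k = n / 2 → ∀ u ∈ UJ n σ,
      (∀ i : Fin n, i.val < l →
        mt u *ᵥ (Pi.single (Fin.rev i) 1 : Fin n → F) = Pi.single (Fin.rev i) 1) →
      u ∈ Subgroup.closure (psiGen n σ) := by
  induction k with
  | zero =>
    intro l hl u hu hfix
    have : u = 1 := by
      apply eq_one_of_fix_basis
      intro x
      have hrx : (Fin.rev x).val = n - (x.val + 1) := Fin.val_rev x
      by_cases hx : (Fin.rev x).val < l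
      · have := hfix (Fin.rev x) hx
        rwa [Fin.rev_rev] at this
      · exact fix_low σ hu l hfix x (by have := x.2; omega)
    rw [this]
    exact Subgroup.one_mem _
  | succ k ih =>
    intro l hl u hu hfix
    obtain ⟨il, hil⟩ : ∃ il : Fin n, il.val = l := ⟨⟨l, by omega⟩, rfl⟩
    have hril : (Fin.rev il).val = n - (il.val + 1) := Fin.val_rev il
    have hlt : il < Fin.rev il := by rw [Fin.lt_def]; omega
    have hne : il ≠ Fin.rev il := ne_of_lt hlt
    obtain ⟨v, hv⟩ : ∃ v : Fin n → F, v = mt u *ᵥ (Pi.single (Fin.rev il) 1) := ⟨_, rfl⟩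
    obtain ⟨b, hb⟩ : ∃ b : F, b = v il := ⟨_, rfl⟩
    obtain ⟨w, hw⟩ : ∃ w : Fin n → F,
        w = Pi.single (Fin.rev il) 1 + b • (Pi.single il 1 : Fin n → F) - v := ⟨_, rfl⟩
    have hvx : ∀ x : Fin n, x.val < l → v x = 0 := by
      intro x hx
      rw [hv, mulVec_apply_eq_jf σ]
      conv_lhs => rw [← hfix x hx]
      rw [form_mulVec, jf_single_single, Fin.rev_rev, if_neg]
      intro e
      have := congrArg Fin.val e
      have hrx : (Fin.rev x).val = n - (x.val + 1) := Fin.val_rev x
      omega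
    have hw1 : ∀ x : Fin n, x ≤ il → w x = 0 := by
      intro x hx
      rw [hw, Pi.sub_apply, Pi.add_apply, Pi.smul_apply, smul_eq_mul]
      rcases eq_or_lt_of_le hx with h | h
      · rw [h, Pi.single_eq_of_ne hne, Pi.single_eq_same, ← hb]; ring
      · rw [Pi.single_eq_of_ne (ne_of_lt (lt_trans h hlt)), Pi.single_eq_of_ne (ne_of_lt h),
          hvx x (by rw [Fin.lt_def] at h; omega)]
        ring
    have hw2 : ∀ x : Fin n, Fin.rev il ≤ x → w x = 0 := by
      intro x hx
      rw [hw, Pi.sub_apply, Pi.add_apply, Pi.smul_apply, smul_eq_mul, hv, ← mt_apply σ u x (Fin.rev il)]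
      rcases eq_or_lt_of_le hx with h | h
      · rw [← h, Pi.single_eq_same, Pi.single_eq_of_ne (Ne.symm hne), ((mem_UJ σ).mp hu).2]; ring
      · rw [Pi.single_eq_of_ne (ne_of_gt h), Pi.single_eq_of_ne (ne_of_gt (lt_trans hlt h)),
          ((mem_UJ σ).mp hu).1 x (Fin.rev il) h]
        ring
    have hvdec : v = Pi.single (Fin.rev il) 1 + b • (Pi.single il 1 : Fin n → F) - w := by
      rw [hw]; abel
    have hok : PsiOK σ (Pi.single il 1) w b := by
      apply PsiOK_single σ hne (hw2 _ le_rfl)
      have h0 : jf σ v v = 0 := by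
        rw [hv, form_mulVec, jf_single_single, Fin.rev_rev, if_neg (Ne.symm hne)]
      rw [hvdec] at h0
      simp only [jf_add_left, jf_add_right, jf_sub_left, jf_sub_right, jf_smul_left, jf_smul_right] at h0
      simp only [jf_single_left, jf_single_right, Fin.rev_rev, hw1 il le_rfl, hw2 _ le_rfl, map_zero,
        mul_zero, mul_one, sub_zero, add_zero, zero_add, Pi.single_eq_same, Pi.single_eq_of_ne hne,
        Pi.single_eq_of_ne (Ne.symm hne)] at h0
      linear_combination h0
    have hψT : Psi σ (Pi.single il 1) w b ∈ Subgroup.closure (psiGen n σ) :=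
      Subgroup.subset_closure ⟨il, w, b, hlt, hw1, hw2, hok, rfl⟩
    have hψU : Psi σ (Pi.single il 1) w b ∈ UJ n σ := Psi_mem_UJ σ hlt hw2 hok
    have hψv : mt (Psi σ (Pi.single il 1) w b) *ᵥ (Pi.single (Fin.rev il) 1 : Fin n → F) = v := by
      rw [Psi_mulVec σ hok, jf_single_left, Fin.rev_rev, hw1 il le_rfl, map_zero, jf_single_single,
        if_pos rfl, hvdec]
      module
    have hψfix : ∀ i : Fin n, i.val < l →
        mt (Psi σ (Pi.single il 1) w b) *ᵥ (Pi.single (Fin.rev i) 1 : Fin n → F) =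
          Pi.single (Fin.rev i) 1 := by
      intro i hi
      rw [Psi_mulVec σ hok, jf_single_left, Fin.rev_rev,
        hw1 i (by rw [Fin.le_def]; omega), map_zero, jf_single_single, if_neg]
      · module
      · intro e
        have := congrArg Fin.val (Fin.rev_injective e)
        omega
    have hu' : (Psi σ (Pi.single il 1) w b)⁻¹ * u ∈ Subgroup.closure (psiGen n σ) := by
      apply ih (l + 1) (by omega) _ ((UJ n σ).mul_mem ((UJ n σ).inv_mem hψU) hu)
      intro i hi
      rw [coe_mul_mulVec]
      by_cases hil' : i.val < l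
      · rw [hfix i hil', eq_comm, ← mulVec_eq_iff, hψfix i hil']
      · have : i = il := Fin.ext (by omega)
        rw [this, ← hv, eq_comm, ← mulVec_eq_iff, hψv]
    have := Subgroup.mul_mem _ hψT hu'
    rwa [mul_inv_cancel_left] at this

/-- the unitriangular subgroup is generated by the elements `Psi (e_l) w b` it contains -/
theorem UJ_eq_closure : UJ n σ = Subgroup.closure (psiGen n σ) := by
  apply le_antisymm
  · intro u hu
    exact peel_gen σ (n / 2) 0 (by omega) u hu (fun i hi => absurd hi (Nat.not_lt_zero _))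
  · exact closure_psiGen_le σ

/-- in characteristic 2 the square of a generator is a commutator of two generators -/
theorem psi_sq_mem_commutator [CharP F 2] (hd : SigData σ) {l : Fin n} {w : Fin n → F} {b : F}
    (hl : l < Fin.rev l) (hw2 : ∀ x : Fin n, Fin.rev l ≤ x → w x = 0)
    (hok : PsiOK σ (Pi.single l 1) w b) :
    (Psi σ (Pi.single l 1) w b) ^ 2 ∈ ⁅UJ n σ, UJ n σ⁆ := by
  have h2 : (2 : F) = 0 := by
    have := CharP.cast_eq_zero F 2
    exact_mod_cast this
  have hneg : ∀ a : F, -a = a := by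
    intro a
    have : a + a = 0 := by rw [← two_mul, h2, zero_mul]
    exact neg_eq_of_add_eq_zero_left this
  obtain ⟨lam, hlam⟩ := hd.tr 1 (map_one σ)
  set u : Fin n → F := Pi.single l 1 with hu
  set t : F := jf σ w w with ht
  have hst : σ t = t := jf_symm σ w w
  have hok' : PsiOK σ u (σ lam • w) (b * lam * σ lam) := hok.smul' σ lam
  have hU1 : Psi σ u w b ∈ UJ n σ := Psi_mem_UJ σ hl hw2 hok
  have hU2 : Psi σ u (σ lam • w) (b * lam * σ lam) ∈ UJ n σ := by
    apply Psi_mem_UJ σ hl _ hok'
    intro x hx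
    rw [Pi.smul_apply, hw2 x hx, smul_zero]
  -- the two products
  have hm1 := Psi_mul σ hok hok'
  have hm2 := Psi_mul σ hok' hok
  have hok1 := hok.mul σ hok'
  have hok2 := hok'.mul σ hok
  have hww : σ lam • w + w = w + σ lam • w := add_comm _ _
  rw [hww] at hm2 hok2
  have hcomm : ⁅Psi σ u w b, Psi σ u (σ lam • w) (b * lam * σ lam)⁆ =
      Psi σ u 0 ((b + b * lam * σ lam - jf σ (σ lam • w) w) -
        (b * lam * σ lam + b - jf σ w (σ lam • w))) := by
    rw [← Psi_mul_inv_same σ hok1 hok2, ← hm1, ← hm2, commutatorElement_def]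
    group
  have hsq : (Psi σ u w b) ^ 2 = Psi σ u 0 t := by
    rw [pow_two, Psi_mul σ hok hok]
    have e1 : w + w = 0 := by
      funext x
      rw [Pi.add_apply, Pi.zero_apply, ← two_mul, h2, zero_mul]
    have e2 : b + b - jf σ w w = t := by
      rw [← two_mul, h2, zero_mul, zero_sub, hneg]
    rw [e1, e2]
  have hval : (b + b * lam * σ lam - jf σ (σ lam • w) w) -
        (b * lam * σ lam + b - jf σ w (σ lam • w)) = t := by
    rw [jf_smul_left, jf_smul_right, sg_sg]
    have : lam * t - σ lam * t = t := by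
      have h3 : lam - σ lam = 1 := by rw [← hlam, sub_eq_add_neg, hneg]
      rw [← sub_mul, h3, one_mul]
    linear_combination this
  rw [hsq, ← hval, ← hcomm]
  exact Subgroup.commutator_mem_commutator hU1 hU2

/-- in characteristic 2 every square in the unitriangular subgroup lies in its derived subgroup -/
theorem UJ_sq_mem_commutator [CharP F 2] (hd : SigData σ) (x : ↥(SUJ n σ)) (hx : x ∈ UJ n σ) :
    x ^ 2 ∈ ⁅UJ n σ, UJ n σ⁆ := by
  have hE := UJ_eq_closure (n := n) σ
  have key := sq_mem_commutator_of_closure (psiGen n σ) (by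
    rintro s ⟨l, w, b, hl, -, hw2, hok, rfl⟩
    rw [← hE]
    exact psi_sq_mem_commutator σ hd hl hw2 hok)
  rw [← hE] at key
  exact key x hx

end Cfsg.Agent.Lib.Helper1.SqCommSU
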