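import Mathlib
import Cfsg.Prelude
import Cfsg.Agent.Lib.Helper1.SqComm_SU1

set_option autoImplicit false

/-!
# Sylow 2-subgroups of `PSU_n(q)`, `q` even: the abelianization is elementary abelian
-/

namespace Cfsg.Agent.Lib.Helper1.SqCommSU

open Matrix
open Cfsg.Agent.H9SUF
open scoped commutatorElement Pointwise

/-- Transport along a surjective homomorphism: if some 2-subgroup `P0` of odd index of `G₀` has all its
squares in its derived subgroup, then every Sylow 2-subgroup of a homomorphic image has the same property. -/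
theorem sqComm_of_surjective {G₀ G : Type*} [Group G₀] [Group G] [Finite G₀] (f : G₀ →* G)
    (hf : Function.Surjective f) (P0 : Subgroup G₀) (hP0 : IsPGroup 2 P0) (hidx : ¬ 2 ∣ P0.index)
    (hsq : ∀ x ∈ P0, x ^ 2 ∈ ⁅P0, P0⁆) (P : Sylow 2 G) :
    ∀ x : (P : Subgroup G), x ^ 2 ∈ commutator (P : Subgroup G) := by
  have : Finite G := Finite.of_surjective f hf
  have hQ0 : IsPGroup 2 (P0.map f) := hP0.map f
  have hQidx : ¬ 2 ∣ (P0.map f).index := fun h => hidx (dvd_trans h (Subgroup.index_map_dvd P0 hf))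
  obtain ⟨g, hg⟩ := MulAction.exists_smul_eq G (hQ0.toSylow hQidx) P
  have hmem : ∀ y : G, y ∈ (P : Subgroup G) ↔ g⁻¹ * y * g ∈ P0.map f := by
    intro y
    rw [← hg, Sylow.coe_subgroup_smul, IsPGroup.toSylow_coe,
      Subgroup.mem_pointwise_smul_iff_inv_smul_mem, MulAut.smul_def, ← map_inv, MulAut.conj_apply,
      inv_inv]
  intro x
  -- move to the ambient group
  have hle : ⁅P0.map f, P0.map f⁆ ≤
      (⁅(P : Subgroup G), (P : Subgroup G)⁆).comap (MulAut.conj g).toMonoidHom := by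
    rw [Subgroup.commutator_le]
    intro g₁ h₁ g₂ h₂
    rw [Subgroup.mem_comap, map_commutatorElement]
    apply Subgroup.commutator_mem_commutator
    · rw [hmem]
      show g⁻¹ * (g * g₁ * g⁻¹) * g ∈ _
      have e : g⁻¹ * (g * g₁ * g⁻¹) * g = g₁ := by group
      rwa [e]
    · rw [hmem]
      show g⁻¹ * (g * g₂ * g⁻¹) * g ∈ _
      have e : g⁻¹ * (g * g₂ * g⁻¹) * g = g₂ := by group
      rwa [e]
  have key : ((x : G)) ^ 2 ∈ ⁅(P : Subgroup G), (P : Subgroup G)⁆ := by
    have hx : g⁻¹ * (x : G) * g ∈ P0.map f := (hmem _).mp x.2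
    obtain ⟨z, hz, hzx⟩ := hx
    have h1 : f (z ^ 2) ∈ ⁅P0.map f, P0.map f⁆ := by
      rw [← Subgroup.map_commutator]
      exact Subgroup.mem_map_of_mem f (hsq z hz)
    have h2 := hle h1
    rw [Subgroup.mem_comap] at h2
    have h4 : (MulAut.conj g).toMonoidHom (f (z ^ 2)) = (x : G) ^ 2 := by
      show g * f (z ^ 2) * g⁻¹ = _
      rw [map_pow, hzx, pow_two, pow_two]
      group
    rwa [h4] at h2
  rw [← Subgroup.map_subtype_commutator] at key
  obtain ⟨y, hy, hyx⟩ := key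
  have : y = x ^ 2 := Subtype.ext (by rw [Subgroup.coe_pow]; exact hyx)
  rwa [this] at hy

/-- `PSU_n(q)`, `q` even: the square of every element of a Sylow 2-subgroup lies in its derived subgroup. -/
theorem sqComm_PSU {K : Type*} [Field K] [Fintype K] [CharP K 2] {q : ℕ} (hK : Fintype.card K = q ^ 2)
    (n : ℕ) {G : Type*} [Group G] (e : G ≃* Cfsg.PSU n K q) (P : Sylow 2 G) :
    ∀ x : (P : Subgroup G), x ^ 2 ∈ commutator (P : Subgroup G) := by
  obtain ⟨σ, hord, hq⟩ := Cfsg.Agent.Lib.Helper2.HermDecomp.exists_sigma hK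
  have : Fact (∀ a : K, σ (σ a) = a) := ⟨Cfsg.Agent.Lib.Helper2.WittHerm.sigma_sigma hord⟩
  have : Fact (Nat.Prime 2) := ⟨Nat.prime_two⟩
  have hd : SigData σ := sigData_of_finite σ hord hq hK
  obtain ⟨Φ⟩ := exists_iso (n := n) σ hord hq
  let f : ↥(SUJ n σ) →* G :=
    e.symm.toMonoidHom.comp ((QuotientGroup.mk' (Subgroup.center ↥(Cfsg.SU n K q))).comp Φ.toMonoidHom)
  have hf : Function.Surjective f := by
    intro y
    obtain ⟨z, hz⟩ := QuotientGroup.mk'_surjective (Subgroup.center ↥(Cfsg.SU n K q)) (e y)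
    obtain ⟨x, rfl⟩ := Φ.surjective z
    refine ⟨x, ?_⟩
    show e.symm ((QuotientGroup.mk' _) (Φ x)) = y
    rw [hz, MulEquiv.symm_apply_apply]
  exact sqComm_of_surjective f hf (UJ n σ) (isPGroup_UJ σ 2) (not_dvd_index_UJ σ 2 hd)
    (fun x hx => UJ_sq_mem_commutator σ hd x hx) P

/-- The family form: groups of type `PSU` in characteristic 2. -/
theorem sqComm_of_isPSUChar {G : Type*} [Group G] (hG : Cfsg.IsPSUChar 2 G) (P : Sylow 2 G) :
    ∀ x : (P : Subgroup G), x ^ 2 ∈ commutator (P : Subgroup G) := by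
  obtain ⟨F, _, _, _, n, q, hF, -, -, ⟨e⟩⟩ := hG
  exact sqComm_PSU hF n e P

end Cfsg.Agent.Lib.Helper1.SqCommSU
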