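import Cfsg.Agent.Lib.Helper1.Stein9

set_option autoImplicit false
set_option linter.unusedSectionVars false

namespace Cfsg.Agent.Lib.Helper1.Stein

open Cfsg

universe u

theorem phi_of_check {n t k : ℕ} {K0 K1 cls1 : List ℕ} {cert : Cert}
    (hK0 : targetOk n t k K0 = true) (hnode : cert.isNode = true)
    (hcheck : check n t k K0 cert K1 cls1 0 [] = true) (hcls : ClsInv K1 cls1) :
    ∀ B, Hyp n t k B K1 → SetSystemIso B (sysOf n K0) :=
  (concl_node hnode).1 (check_sound hK0 cert K1 cls1 0 [] hcheck hcls)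

/-- uniqueness from a certificate that starts with no blocks -/
theorem unique_direct {n t k : ℕ} {K0 cls1 : List ℕ} {cert : Cert}
    (hK0 : targetOk n t k K0 = true) (hnode : cert.isNode = true)
    (hcheck : check n t k K0 cert [] cls1 0 [] = true)
    {α : Type u} [Fintype α] [DecidableEq α] (hα : Fintype.card α = n) {B : Set (Finset α)}
    (hB : IsSteinerSystem t k B) : SetSystemIso B (sysOf n K0) := by
  set e : α ≃ Fin n := Fintype.equivFinOfCardEq hα with he
  have h1 : Hyp n t k (mapSys e B) [] :=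
    ⟨steiner_map t k e hB, fun m hm => absurd hm (List.not_mem_nil)⟩
  exact iso_trans (iso_of_map e B)
    (phi_of_check hK0 hnode hcheck (clsInv_nil cls1) (mapSys e B) h1)

/-! ### the derived system -/

/-- the derived system at a point -/
def derivedSys {α : Type u} [DecidableEq α] (B : Set (Finset α)) (p : α) :
    Set (Finset {a : α // a ≠ p}) :=
  {b' | ∃ b ∈ B, p ∈ b ∧ b' = Finset.subtype (fun a => a ≠ p) b}

theorem derived_steiner {α : Type u} [Fintype α] [DecidableEq α] {t k : ℕ} {B : Set (Finset α)}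
    (hB : IsSteinerSystem (t + 1) (k + 1) B) (p : α) : IsSteinerSystem t k (derivedSys B p) := by
  classical
  have hsub : ∀ (s : Finset {a : α // a ≠ p}) (c : Finset α),
      s ⊆ Finset.subtype (fun a => a ≠ p) c ↔ s.map (Function.Embedding.subtype _) ⊆ c := by
    intro s c
    constructor
    · intro h x hx
      rw [Finset.mem_map] at hx
      obtain ⟨y, hy, rfl⟩ := hx
      have := h hy
      rw [Finset.mem_subtype] at this
      exact this
    · intro h y hy
      rw [Finset.mem_subtype]
      exact h (Finset.mem_map_of_mem _ hy)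
  constructor
  · rintro b' ⟨b, hb, hpb, rfl⟩
    rw [Finset.card_subtype]
    have : b.filter (fun a => a ≠ p) = b.erase p := by
      ext x
      simp [Finset.mem_erase, and_comm]
    rw [this, Finset.card_erase_of_mem hpb, hB.1 b hb]
    rfl
  · intro s hs
    set s₀ : Finset α := insert p (s.map (Function.Embedding.subtype _)) with hs₀
    have hp_notin : p ∉ s.map (Function.Embedding.subtype (fun a => a ≠ p)) := by
      intro h
      rw [Finset.mem_map] at h
      obtain ⟨y, _, hy⟩ := h
      exact y.2 hy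
    have hcard : s₀.card = t + 1 := by
      rw [hs₀, Finset.card_insert_of_notMem hp_notin, Finset.card_map, hs]
    obtain ⟨b, ⟨hbB, hsb⟩, huniq⟩ := hB.2 s₀ hcard
    have hpb : p ∈ b := hsb (Finset.mem_insert_self p _)
    refine ⟨Finset.subtype (fun a => a ≠ p) b, ⟨⟨b, hbB, hpb, rfl⟩, ?_⟩, ?_⟩
    · rw [hsub]
      exact (Finset.subset_insert p _).trans hsb
    · rintro b'' ⟨⟨c, hcB, hpc, rfl⟩, hsc⟩
      rw [hsub] at hsc
      have : c = b := huniq c ⟨hcB, by
        rw [hs₀]
        exact Finset.insert_subset hpc hsc⟩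
      rw [this]

/-- the extension of an equivalence from the complement of a point -/
def extEquiv {α : Type u} [DecidableEq α] {n : ℕ} (p : α) (e0 : {a : α // a ≠ p} ≃ Fin n) :
    α ≃ Fin (n + 1) :=
  ((Equiv.optionSubtypeNe p).symm.trans (Equiv.optionCongr e0)).trans finSuccEquivLast.symm

theorem extEquiv_self {α : Type u} [DecidableEq α] {n : ℕ} (p : α)
    (e0 : {a : α // a ≠ p} ≃ Fin n) : extEquiv p e0 p = Fin.last n := by
  simp [extEquiv]

theorem extEquiv_of_ne {α : Type u} [DecidableEq α] {n : ℕ} (p : α)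
    (e0 : {a : α // a ≠ p} ≃ Fin n) (x : α) (hx : x ≠ p) :
    extEquiv p e0 x = Fin.castSucc (e0 ⟨x, hx⟩) := by
  simp [extEquiv, Equiv.optionSubtypeNe_symm_of_ne hx]

theorem extend_iso {α : Type u} [Fintype α] [DecidableEq α] {n : ℕ} {B : Set (Finset α)} (p : α)
    (K0 : List ℕ) (hiso : SetSystemIso (derivedSys B p) (sysOf n K0)) :
    ∃ e : α ≃ Fin (n + 1), ∀ m ∈ K0, toFin (n + 1) (m ||| 1 <<< n) ∈ mapSys e B := by
  obtain ⟨e0, he0⟩ := hiso
  refine ⟨extEquiv p e0, ?_⟩
  intro m hm
  have h1 : toFin n m ∈ sysOf n K0 := ⟨m, hm, rfl⟩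
  rw [← he0] at h1
  obtain ⟨b', ⟨b, hbB, hpb, rfl⟩, hb'⟩ := h1
  simp only at hb'
  have key : b.image (extEquiv p e0) = toFin (n + 1) (m ||| 1 <<< n) := by
    ext j
    rw [Finset.mem_image, mem_toFin, Nat.testBit_or, Nat.one_shiftLeft, Nat.testBit_two_pow]
    constructor
    · rintro ⟨x, hx, rfl⟩
      by_cases hxp : x = p
      · subst hxp
        rw [extEquiv_self]
        simp
      · rw [extEquiv_of_ne p e0 x hxp]
        have h2 : e0 ⟨x, hxp⟩ ∈ (Finset.subtype (fun a => a ≠ p) b).image e0 := by
          apply Finset.mem_image_of_mem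
          rw [Finset.mem_subtype]
          exact hx
        rw [hb', mem_toFin] at h2
        simp only [Fin.val_castSucc]
        rw [h2]; rfl
    · intro hj
      by_cases hjn : (j : ℕ) = n
      · refine ⟨p, hpb, ?_⟩
        rw [extEquiv_self]
        exact Fin.ext hjn.symm
      · have hjlt : (j : ℕ) < n := by have := j.2; omega
        have hmj : m.testBit j = true := by
          have : ¬ (n = (j : ℕ)) := fun h => hjn h.symm
          simpa [this] using hj
        have h2 : (⟨j, hjlt⟩ : Fin n) ∈ toFin n m := (mem_toFin n).2 hmj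
        rw [← hb', Finset.mem_image] at h2
        obtain ⟨x', hx', hx'j⟩ := h2
        rw [Finset.mem_subtype] at hx'
        refine ⟨x'.1, hx', ?_⟩
        rw [extEquiv_of_ne p e0 x'.1 x'.2]
        apply Fin.ext
        simp only [Fin.val_castSucc]
        have : (⟨x'.1, x'.2⟩ : {a : α // a ≠ p}) = x' := rfl
        rw [this, hx'j]
  rw [← key]
  exact image_mem_mapSys _ B b hbB

theorem card_subtype_ne' {α : Type u} [Fintype α] [DecidableEq α] {n : ℕ}
    (hα : Fintype.card α = n + 1) (p : α) : Fintype.card {a : α // a ≠ p} = n := by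
  have h1 := Fintype.card_congr (Equiv.optionSubtypeNe p)
  rw [Fintype.card_option, hα] at h1
  omega

/-- uniqueness from a certificate that starts with the blocks through one point, these being
known by the uniqueness of the derived system -/
theorem unique_ext {n t k : ℕ} {K0prev K0 K1 : List ℕ} {cert : Cert}
    (hK0 : targetOk (n + 1) (t + 1) (k + 1) K0 = true) (hnode : cert.isNode = true)
    (hK1 : K1 = K0prev.map (fun m => m ||| 1 <<< n))
    (hcheck : check (n + 1) (t + 1) (k + 1) K0 cert K1 [] 0 [] = true)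
    {α : Type u} [Fintype α] [DecidableEq α] (hα : Fintype.card α = n + 1) {B : Set (Finset α)}
    (hB : IsSteinerSystem (t + 1) (k + 1) B)
    (hprev : ∀ {γ : Type u} [Fintype γ] [DecidableEq γ], Fintype.card γ = n →
      ∀ {D : Set (Finset γ)}, IsSteinerSystem t k D → SetSystemIso D (sysOf n K0prev)) :
    SetSystemIso B (sysOf (n + 1) K0) := by
  have hne : Nonempty α := by
    rw [← Fintype.card_pos_iff, hα]; omega
  obtain ⟨p⟩ := hne
  have h1 := hprev (card_subtype_ne' hα p) (derived_steiner hB p)
  obtain ⟨e, he⟩ := extend_iso p K0prev h1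
  have h2 : Hyp (n + 1) (t + 1) (k + 1) (mapSys e B) K1 := by
    refine ⟨steiner_map _ _ e hB, ?_⟩
    intro m hm
    rw [hK1, List.mem_map] at hm
    obtain ⟨m0, hm0, rfl⟩ := hm
    exact he m0 hm0
  have hcls : ClsInv K1 [] := by
    intro c hc
    exact absurd hc (List.not_mem_nil)
  exact iso_trans (iso_of_map e B) (phi_of_check hK0 hnode hcheck hcls (mapSys e B) h2)

end Cfsg.Agent.Lib.Helper1.Stein
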