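import Cfsg.Agent.Lib.Helper1.Stein1
import Cfsg.Prelude.Def_Sporadic_a

set_option autoImplicit false
set_option linter.unusedSectionVars false

namespace Cfsg.Agent.Lib.Helper1.Stein

open Cfsg

section general

variable {α β γ : Type*} [DecidableEq α] [DecidableEq β] [DecidableEq γ]

/-- transport of a set system along an equivalence -/
def mapSys (e : α ≃ β) (B : Set (Finset α)) : Set (Finset β) := (fun b => b.image e) '' B

theorem mem_mapSys (e : α ≃ β) (B : Set (Finset α)) (c : Finset β) :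
    c ∈ mapSys e B ↔ c.image e.symm ∈ B := by
  constructor
  · rintro ⟨b, hb, rfl⟩
    rw [Finset.image_image]
    simpa using hb
  · intro h
    refine ⟨c.image e.symm, h, ?_⟩
    change (c.image e.symm).image e = c
    rw [Finset.image_image]
    simp

theorem image_mem_mapSys (e : α ≃ β) (B : Set (Finset α)) (b : Finset α) (hb : b ∈ B) :
    b.image e ∈ mapSys e B := ⟨b, hb, rfl⟩

theorem mapSys_mapSys (e : α ≃ β) (f : β ≃ γ) (B : Set (Finset α)) :
    mapSys f (mapSys e B) = mapSys (e.trans f) B := by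
  ext c
  simp only [mapSys, Set.mem_image]
  constructor
  · rintro ⟨_, ⟨b, hb, rfl⟩, rfl⟩
    exact ⟨b, hb, by rw [Finset.image_image]; rfl⟩
  · rintro ⟨b, hb, rfl⟩
    exact ⟨b.image e, ⟨b, hb, rfl⟩, by rw [Finset.image_image]; rfl⟩

theorem iso_of_map (e : α ≃ β) (B : Set (Finset α)) : SetSystemIso B (mapSys e B) := ⟨e, rfl⟩

theorem iso_trans {B : Set (Finset α)} {B' : Set (Finset β)} {B'' : Set (Finset γ)}
    (h1 : SetSystemIso B B') (h2 : SetSystemIso B' B'') : SetSystemIso B B'' := by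
  obtain ⟨e, rfl⟩ := h1
  obtain ⟨f, rfl⟩ := h2
  exact ⟨e.trans f, (mapSys_mapSys e f B).symm⟩

theorem iso_symm {B : Set (Finset α)} {B' : Set (Finset β)}
    (h1 : SetSystemIso B B') : SetSystemIso B' B := by
  obtain ⟨e, rfl⟩ := h1
  refine ⟨e.symm, ?_⟩
  have := mapSys_mapSys e e.symm B
  simp only [mapSys] at this ⊢
  rw [this]
  ext c
  simp

theorem steiner_map (t k : ℕ) (e : α ≃ β) {B : Set (Finset α)} (hB : IsSteinerSystem t k B) :
    IsSteinerSystem t k (mapSys e B) := by
  obtain ⟨h1, h2⟩ := hB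
  constructor
  · rintro _ ⟨b, hb, rfl⟩
    rw [Finset.card_image_of_injective _ e.injective]
    exact h1 b hb
  · intro s hs
    have hs' : (s.image e.symm).card = t := by
      rw [Finset.card_image_of_injective _ e.symm.injective]; exact hs
    obtain ⟨b, ⟨hb, hsb⟩, huniq⟩ := h2 _ hs'
    refine ⟨b.image e, ⟨image_mem_mapSys e B b hb, ?_⟩, ?_⟩
    · intro x hx
      rw [Finset.mem_image]
      refine ⟨e.symm x, hsb (Finset.mem_image_of_mem _ hx), by simp⟩
    · rintro c ⟨hc, hsc⟩
      rw [mem_mapSys] at hc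
      have : c.image e.symm = b := by
        apply huniq
        refine ⟨hc, ?_⟩
        exact Finset.image_subset_image hsc
      rw [← this, Finset.image_image]
      simp

theorem block_unique {t k : ℕ} {B : Set (Finset α)} (hB : IsSteinerSystem t k B)
    {b c : Finset α} (hb : b ∈ B) (hc : c ∈ B) (h : t ≤ (b ∩ c).card) : b = c := by
  obtain ⟨s, hs, hcard⟩ := Finset.exists_subset_card_eq h
  obtain ⟨d, _, huniq⟩ := hB.2 s hcard
  have h1 := huniq b ⟨hb, hs.trans Finset.inter_subset_left⟩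
  have h2 := huniq c ⟨hc, hs.trans Finset.inter_subset_right⟩
  rw [h1, h2]

theorem exists_block {t k : ℕ} {B : Set (Finset α)} (hB : IsSteinerSystem t k B)
    (s : Finset α) (hs : s.card = t) : ∃ b ∈ B, s ⊆ b ∧ b.card = k := by
  obtain ⟨b, ⟨hb, hsb⟩, _⟩ := hB.2 s hs
  exact ⟨b, hb, hsb, hB.1 b hb⟩

end general

end Cfsg.Agent.Lib.Helper1.Stein
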