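import Cfsg.Agent.Lib.Helper1.Stein2

set_option autoImplicit false
set_option linter.unusedSectionVars false

namespace Cfsg.Agent.Lib.Helper1.Stein

open Cfsg

variable (n : ℕ)

/-! ### enumeration of subsets -/

/-- the indices below `n` of the set bits of `m`, in increasing order -/
def bitsOf (m : ℕ) : List ℕ := (List.range n).filter (fun i => m.testBit i)

/-- masks with exactly `r` bits chosen among the positions in the list -/
def subs : List ℕ → ℕ → List ℕ
  | [], 0 => [0]
  | [], (_ + 1) => []
  | (_ :: is), 0 => subs is 0
  | (i :: is), (r + 1) => (subs is r).map (· ||| 1 <<< i) ++ subs is (r + 1)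

theorem subs_complete : ∀ (l : List ℕ) (r N : ℕ), l.Nodup →
    (∀ j, N.testBit j = true → j ∈ l) → (l.filter (fun j => N.testBit j)).length = r →
    N ∈ subs l r := by
  intro l
  induction l with
  | nil =>
    intro r N _ hN hr
    have hN0 : N = 0 := by
      apply Nat.eq_of_testBit_eq
      intro i
      rw [Nat.zero_testBit]
      by_contra h
      rw [Bool.not_eq_false] at h
      exact absurd (hN i h) (List.not_mem_nil)
    simp only [List.filter_nil, List.length_nil] at hr
    subst hr
    rw [hN0]
    simp [subs]
  | cons i is ih =>
    intro r N hnd hN hr
    rw [List.nodup_cons] at hnd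
    obtain ⟨hi, hnd'⟩ := hnd
    by_cases hbit : N.testBit i = true
    · -- the bit `i` is chosen
      rw [List.filter_cons_of_pos (by simpa using hbit), List.length_cons] at hr
      obtain ⟨r', rfl⟩ : ∃ r', r = r' + 1 := ⟨_, hr.symm⟩
      have hr' : (is.filter (fun j => N.testBit j)).length = r' := by omega
      set N' := N ^^^ (1 <<< i) with hN'
      have hbitN' : ∀ j, N'.testBit j = (N.testBit j && decide (j ≠ i)) := by
        intro j
        rw [hN', Nat.testBit_xor, Nat.one_shiftLeft, Nat.testBit_two_pow]
        by_cases hji : j = i
        · subst hji; simp [hbit]
        · have : ¬ i = j := fun h => hji h.symm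
          simp [hji, this]
      have h1 : ∀ j, N'.testBit j = true → j ∈ is := by
        intro j hj
        rw [hbitN'] at hj
        simp only [Bool.and_eq_true, decide_eq_true_eq] at hj
        have := hN j hj.1
        rw [List.mem_cons] at this
        rcases this with h | h
        · exact absurd h hj.2
        · exact h
      have h2 : (is.filter (fun j => N'.testBit j)).length = r' := by
        rw [← hr']
        congr 1
        apply List.filter_congr
        intro j hj
        rw [hbitN']
        have : j ≠ i := fun h => hi (h ▸ hj)
        simp [this]
      have h3 := ih r' N' hnd' h1 h2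
      have h4 : N = N' ||| 1 <<< i := by
        apply Nat.eq_of_testBit_eq
        intro j
        rw [Nat.testBit_or, hbitN', Nat.one_shiftLeft, Nat.testBit_two_pow]
        by_cases hji : j = i
        · subst hji; simp [hbit]
        · have : ¬ i = j := fun h => hji h.symm
          simp [hji, this]
      simp only [subs, List.mem_append, List.mem_map]
      left
      exact ⟨N', h3, h4.symm⟩
    · -- the bit `i` is not chosen
      rw [List.filter_cons_of_neg (by simpa using hbit)] at hr
      have h1 : ∀ j, N.testBit j = true → j ∈ is := by
        intro j hj
        have := hN j hj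
        rw [List.mem_cons] at this
        rcases this with h | h
        · subst h; exact absurd hj hbit
        · exact h
      have h3 := ih r N hnd' h1 hr
      cases r with
      | zero => simpa [subs] using h3
      | succ r' =>
        simp only [subs, List.mem_append]
        right; exact h3

end Cfsg.Agent.Lib.Helper1.Stein

namespace Cfsg.Agent.Lib.Helper1.Stein

variable (n : ℕ)

theorem filter_range_length (m : ℕ) :
    ((List.range n).filter (fun i => m.testBit i)).length = popc n m := by
  induction n with
  | zero => simp [popc]
  | succ k ih =>
    rw [List.range_succ, List.filter_append, List.length_append, ih, popc]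
    by_cases h : m.testBit k = true
    · simp [h]
    · simp [h]

theorem bitsOf_nodup (m : ℕ) : (bitsOf n m).Nodup :=
  List.Nodup.filter _ List.nodup_range

theorem mem_bitsOf (m j : ℕ) : j ∈ bitsOf n m ↔ j < n ∧ m.testBit j = true := by
  simp [bitsOf]

theorem mem_subs_of_subset (rest N r : ℕ)
    (hN : ∀ j, N.testBit j = true → j < n ∧ rest.testBit j = true) (hr : popc n N = r) :
    N ∈ subs (bitsOf n rest) r := by
  apply subs_complete _ _ _ (bitsOf_nodup n rest)
  · intro j hj
    rw [mem_bitsOf]
    exact hN j hj
  · rw [← hr, ← filter_range_length, bitsOf, List.filter_filter]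
    congr 1
    apply List.filter_congr
    intro j _
    by_cases h : N.testBit j = true
    · simp [h, (hN j h).2]
    · simp [h]

end Cfsg.Agent.Lib.Helper1.Stein
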