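import Cfsg.Agent.Lib.Helper1.Stein3

set_option autoImplicit false
set_option linter.unusedSectionVars false

namespace Cfsg.Agent.Lib.Helper1.Stein

open Cfsg

variable (n : ℕ)

/-! ### the normal form test -/

/-- within the class `c'`, the chosen bits form an initial segment -/
def normC (c' N : ℕ) : Bool :=
  (N &&& c') == 0 || c' % 2 ^ ((N &&& c').log2 + 1) == (N &&& c')

theorem not_normC (c' N : ℕ) (h : normC c' N = false) :
    ∃ a a', a' < a ∧ c'.testBit a = true ∧ c'.testBit a' = true ∧ N.testBit a = true ∧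
      N.testBit a' = false := by
  unfold normC at h
  rw [Bool.or_eq_false_iff] at h
  obtain ⟨h1, h2⟩ := h
  set x := N &&& c' with hx
  have hx0 : x ≠ 0 := by simpa using h1
  have hne : c' % 2 ^ (x.log2 + 1) ≠ x := by simpa using h2
  have hbit : x.testBit x.log2 = true := Nat.testBit_log2 hx0
  have hlt : x < 2 ^ (x.log2 + 1) := Nat.lt_log2_self
  obtain ⟨i, hi⟩ := Nat.exists_testBit_ne_of_ne hne
  rw [Nat.testBit_mod_two_pow] at hi
  have hi_lt : i < x.log2 + 1 := by
    by_contra hge
    push Not at hge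
    have h3 : x.testBit i = false :=
      Nat.testBit_lt_two_pow (lt_of_lt_of_le hlt (Nat.pow_le_pow_right (by norm_num) hge))
    have h4 : ¬ i < x.log2 + 1 := not_lt.2 hge
    simp [h3, h4] at hi
  have hxi : x.testBit i = (N.testBit i && c'.testBit i) := by rw [hx, Nat.testBit_and]
  have hc'i : c'.testBit i = true := by
    by_contra hc
    rw [Bool.not_eq_true] at hc
    simp [hxi, hc] at hi
  have hNi : N.testBit i = false := by
    by_contra hN
    rw [Bool.not_eq_false] at hN
    simp [hxi, hN, hc'i, hi_lt] at hi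
  have hxl : (N.testBit x.log2 && c'.testBit x.log2) = true := by
    rw [← Nat.testBit_and, ← hx]; exact hbit
  rw [Bool.and_eq_true] at hxl
  have hine : i ≠ x.log2 := by
    intro h
    rw [h, hxl.1] at hNi
    exact Bool.noConfusion hNi
  exact ⟨x.log2, i, by omega, hxl.2, hc'i, hxl.1, hNi⟩

/-- the normal form test for all classes, away from the points of `S` -/
def isNormal (cls : List ℕ) (S N : ℕ) : Bool :=
  cls.all (fun c => normC (c ^^^ (c &&& S)) N)

theorem not_isNormal (cls : List ℕ) (S N : ℕ) (h : isNormal cls S N = false) :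
    ∃ c ∈ cls, ∃ a a', a' < a ∧ c.testBit a = true ∧ c.testBit a' = true ∧
      S.testBit a = false ∧ S.testBit a' = false ∧ N.testBit a = true ∧ N.testBit a' = false := by
  unfold isNormal at h
  rw [List.all_eq_false] at h
  obtain ⟨c, hc, hcn⟩ := h
  rw [Bool.not_eq_true] at hcn
  obtain ⟨a, a', haa, h1, h2, h3, h4⟩ := not_normC _ _ hcn
  rw [Nat.testBit_xor, Nat.testBit_and] at h1 h2
  refine ⟨c, hc, a, a', haa, ?_, ?_, ?_, ?_, h3, h4⟩
  · revert h1; cases c.testBit a <;> simp
  · revert h2; cases c.testBit a' <;> simp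
  · revert h1; cases c.testBit a <;> cases S.testBit a <;> simp
  · revert h2; cases c.testBit a' <;> cases S.testBit a' <;> simp

/-! ### swaps -/

theorem mem_image_equiv {α : Type*} [DecidableEq α] (e : Equiv.Perm α) (s : Finset α) (x : α) :
    x ∈ s.image e ↔ e.symm x ∈ s := by
  rw [Finset.mem_image]
  constructor
  · rintro ⟨y, hy, rfl⟩; simpa using hy
  · intro h; exact ⟨e.symm x, h, by simp⟩

theorem image_swap_toFin (m : ℕ) (a a' : Fin n) (h : m.testBit a = m.testBit a') :
    (toFin n m).image (Equiv.swap a a') = toFin n m := by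
  ext i
  rw [mem_image_equiv, Equiv.symm_swap, mem_toFin, mem_toFin]
  by_cases h1 : i = a
  · subst h1; rw [Equiv.swap_apply_left, h]
  · by_cases h2 : i = a'
    · subst h2; rw [Equiv.swap_apply_right, h]
    · rw [Equiv.swap_apply_of_ne_of_ne h1 h2]

theorem ofFin_swap_lt (b : Finset (Fin n)) (a a' : Fin n) (haa : a' < a) (ha : a ∈ b)
    (ha' : a' ∉ b) : ofFin n (b.image (Equiv.swap a a')) < ofFin n b := by
  apply Nat.lt_of_testBit (a : ℕ)
  · rw [testBit_ofFin, decide_eq_false_iff_not, mem_image_equiv, Equiv.symm_swap,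
      Equiv.swap_apply_left]
    exact ha'
  · rw [testBit_ofFin, decide_eq_true_iff]
    exact ha
  · intro j hj
    by_cases hjn : j < n
    · have h1 : (⟨j, hjn⟩ : Fin n) ≠ a := by
        intro h; rw [← h] at hj; exact lt_irrefl _ hj
      have h2 : (⟨j, hjn⟩ : Fin n) ≠ a' := by
        intro h
        have : (a' : ℕ) = j := by rw [← h]
        have := Fin.lt_def.1 haa
        omega
      have e1 := testBit_ofFin n (b.image (Equiv.swap a a')) ⟨j, hjn⟩
      have e2 := testBit_ofFin n b ⟨j, hjn⟩
      simp only at e1 e2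
      have hmem : (⟨j, hjn⟩ : Fin n) ∈ b.image (Equiv.swap a a') ↔ (⟨j, hjn⟩ : Fin n) ∈ b := by
        rw [mem_image_equiv, Equiv.symm_swap, Equiv.swap_apply_of_ne_of_ne h1 h2]
      rw [e1, e2]
      exact decide_eq_decide.2 hmem
    · push Not at hjn
      rw [testBit_ofFin_ge _ _ _ hjn, testBit_ofFin_ge _ _ _ hjn]

end Cfsg.Agent.Lib.Helper1.Stein
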