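import Cfsg.Agent.Lib.Helper1.Stein4

set_option autoImplicit false
set_option linter.unusedSectionVars false

namespace Cfsg.Agent.Lib.Helper1.Stein

open Cfsg

variable (n t k : ℕ)

/-- the mask of all points -/
def full : ℕ := 2 ^ n - 1

theorem testBit_full (i : ℕ) : (full n).testBit i = decide (i < n) :=
  Nat.testBit_two_pow_sub_one n i

/-- the complement, inside the point set, of a mask -/
def uncOf (c : ℕ) : ℕ := full n ^^^ (full n &&& c)

theorem testBit_uncOf (c i : ℕ) : (uncOf n c).testBit i = (decide (i < n) && !c.testBit i) := by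
  rw [uncOf, Nat.testBit_xor, Nat.testBit_and, testBit_full]
  cases decide (i < n) <;> cases c.testBit i <;> rfl

/-- a Steiner system that has the blocks coded by the list `K` -/
def Hyp (B : Set (Finset (Fin n))) (K : List ℕ) : Prop :=
  IsSteinerSystem t k B ∧ ∀ m ∈ K, toFin n m ∈ B

/-- the union of `T` and the blocks at the given positions of `K`, all of which must contain `T` -/
def covOf (K : List ℕ) (T : ℕ) : List ℕ → Option ℕ
  | [] => some T
  | i :: is =>
    match K[i]?, covOf K T is with
    | some h, some c => if h &&& T = T then some (c ||| h) else none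
    | _, _ => none

theorem covOf_spec (K : List ℕ) (T : ℕ) : ∀ (hints : List ℕ) (c : ℕ), covOf K T hints = some c →
    (∀ x, T.testBit x = true → c.testBit x = true) ∧
    ∀ x, c.testBit x = true → T.testBit x = true ∨
      ∃ h ∈ K, h &&& T = T ∧ h.testBit x = true ∧ ∀ z, h.testBit z = true → c.testBit z = true := by
  intro hints
  induction hints with
  | nil =>
    intro c hc
    simp only [covOf, Option.some.injEq] at hc
    subst hc
    exact ⟨fun x hx => hx, fun x hx => Or.inl hx⟩
  | cons i is ih =>
    intro c hc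
    rw [covOf] at hc
    split at hc
    · rename_i h c' hK hc'
      split at hc
      · rename_i hT
        simp only [Option.some.injEq] at hc
        subst hc
        obtain ⟨ih1, ih2⟩ := ih c' hc'
        have hmem : h ∈ K := List.mem_of_getElem? hK
        constructor
        · intro x hx
          rw [Nat.testBit_or, ih1 x hx]; rfl
        · intro x hx
          rw [Nat.testBit_or, Bool.or_eq_true] at hx
          rcases hx with hx | hx
          · rcases ih2 x hx with h1 | ⟨h', hh', hT', hx', hz⟩
            · exact Or.inl h1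
            · refine Or.inr ⟨h', hh', hT', hx', ?_⟩
              intro z hz'
              rw [Nat.testBit_or, hz z hz']; rfl
          · refine Or.inr ⟨h, hmem, hT, hx, ?_⟩
            intro z hz'
            rw [Nat.testBit_or, hz', Bool.or_true]
      · exact absurd hc (by simp)
    · exact absurd hc (by simp)

variable {n t k}

theorem subset_of_land_eq {h T : ℕ} (hT : h &&& T = T) : toFin n T ⊆ toFin n h := by
  intro x hx
  rw [mem_toFin] at hx ⊢
  rw [← hT, Nat.testBit_and, Bool.and_eq_true] at hx
  exact hx.1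

theorem pencil {B : Set (Finset (Fin n))} {K : List ℕ} (hB : Hyp n t k B K) (ht : 1 ≤ t)
    {T : ℕ} (hT : popc n T = t - 1) {hints : List ℕ} {c : ℕ} (hc : covOf K T hints = some c)
    {y : ℕ} (hy : (uncOf n c).testBit y = true) :
    ∃ (hyn : y < n) (β : Finset (Fin n)), β ∈ B ∧ toFin n T ⊆ β ∧ (⟨y, hyn⟩ : Fin n) ∈ β ∧
      β.card = k ∧ (∀ x ∈ β, x ∉ toFin n T → x ∈ toFin n (uncOf n c)) ∧
      (∀ β' ∈ B, toFin n T ⊆ β' → (⟨y, hyn⟩ : Fin n) ∈ β' → β' = β) := by
  obtain ⟨hc1, hc2⟩ := covOf_spec K T hints c hc
  rw [testBit_uncOf, Bool.and_eq_true, decide_eq_true_eq, Bool.not_eq_true'] at hy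
  obtain ⟨hyn, hyc⟩ := hy
  refine ⟨hyn, ?_⟩
  set y' : Fin n := ⟨y, hyn⟩ with hy'
  have hyT : y' ∉ toFin n T := by
    intro h
    rw [mem_toFin] at h
    have := hc1 y h
    rw [hyc] at this
    exact Bool.noConfusion this
  have hs : (insert y' (toFin n T)).card = t := by
    rw [Finset.card_insert_of_notMem hyT, card_toFin, hT]
    omega
  obtain ⟨β, hβ, hsβ, hβk⟩ := exists_block hB.1 _ hs
  have hTβ : toFin n T ⊆ β := (Finset.subset_insert _ _).trans hsβ
  have hyβ : y' ∈ β := hsβ (Finset.mem_insert_self _ _)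
  refine ⟨β, hβ, hTβ, hyβ, hβk, ?_, ?_⟩
  · intro x hxβ hxT
    rw [mem_toFin, testBit_uncOf, Bool.and_eq_true, decide_eq_true_eq, Bool.not_eq_true']
    refine ⟨x.2, ?_⟩
    by_contra hcx
    rw [Bool.not_eq_false] at hcx
    rcases hc2 x hcx with h1 | ⟨h, hhK, hhT, hhx, hhz⟩
    · exact hxT ((mem_toFin n).2 h1)
    · have hhB : toFin n h ∈ B := hB.2 h hhK
      have hsub : insert x (toFin n T) ⊆ β ∩ toFin n h := by
        intro z hz
        rw [Finset.mem_insert] at hz
        rw [Finset.mem_inter]
        rcases hz with rfl | hz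
        · exact ⟨hxβ, (mem_toFin n).2 hhx⟩
        · exact ⟨hTβ hz, subset_of_land_eq hhT hz⟩
      have hcard : t ≤ (β ∩ toFin n h).card := by
        have h1 := Finset.card_le_card hsub
        rw [Finset.card_insert_of_notMem hxT, card_toFin, hT] at h1
        omega
      have heq := block_unique hB.1 hβ hhB hcard
      rw [heq, mem_toFin] at hyβ
      have := hhz y hyβ
      rw [hyc] at this
      exact Bool.noConfusion this
  · intro β' hβ' hTβ' hyβ'
    have hsub : insert y' (toFin n T) ⊆ β' ∩ β := by
      intro z hz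
      rw [Finset.mem_insert] at hz
      rw [Finset.mem_inter]
      rcases hz with rfl | hz
      · exact ⟨hyβ', hyβ⟩
      · exact ⟨hTβ' hz, hTβ hz⟩
    have hcard : t ≤ (β' ∩ β).card := by
      have h1 := Finset.card_le_card hsub
      rw [hs] at h1
      exact h1
    exact block_unique hB.1 hβ' hβ hcard

/-- the forced case: the uncovered points of the pencil are exactly enough for one block -/
theorem forced_sound {B : Set (Finset (Fin n))} {K : List ℕ} (hB : Hyp n t k B K) (ht : 1 ≤ t)
    (htk : t ≤ k)
    {T : ℕ} (hT : popc n T = t - 1) {hints : List ℕ} {c : ℕ} (hc : covOf K T hints = some c)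
    {y : ℕ} (hy : (uncOf n c).testBit y = true) (hcnt : popc n (uncOf n c) = k - t + 1) :
    toFin n (T ||| uncOf n c) ∈ B := by
  obtain ⟨hyn, β, hβ, hTβ, hyβ, hβk, hunc, -⟩ := pencil hB ht hT hc hy
  have h1 : β \ toFin n T ⊆ toFin n (uncOf n c) := by
    intro x hx
    rw [Finset.mem_sdiff] at hx
    exact hunc x hx.1 hx.2
  have h2 : (β \ toFin n T).card = k - t + 1 := by
    rw [Finset.card_sdiff_of_subset hTβ, hβk, card_toFin, hT]
    omega
  have h3 : β \ toFin n T = toFin n (uncOf n c) := by
    apply Finset.eq_of_subset_of_card_le h1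
    rw [h2, card_toFin, hcnt]
  have h4 : β = toFin n (T ||| uncOf n c) := by
    rw [toFin_lor, ← h3, Finset.union_sdiff_of_subset hTβ]
  rw [← h4]
  exact hβ

end Cfsg.Agent.Lib.Helper1.Stein
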