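import Cfsg.Agent.Lib.Helper1.Stein5

set_option autoImplicit false
set_option linter.unusedSectionVars false

namespace Cfsg.Agent.Lib.Helper1.Stein

open Cfsg

variable (n t k : ℕ)

/-- every class consists of points lying in the same blocks of `K` -/
def ClsInv (K cls : List ℕ) : Prop :=
  ∀ c ∈ cls, ∀ a a' : ℕ, c.testBit a = true → c.testBit a' = true →
    ∀ m ∈ K, m.testBit a = m.testBit a'

/-- split every class by the new block, and drop the classes with at most one point -/
def refineCls (cls : List ℕ) (b : ℕ) : List ℕ :=
  (cls.flatMap (fun c => [c &&& b, c ^^^ (c &&& b)])).filter (fun c => c &&& (c - 1) != 0)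

theorem clsInv_nil (cls : List ℕ) : ClsInv [] cls := by
  intro c _ a a' _ _ m hm
  exact absurd hm (List.not_mem_nil)

theorem clsInv_refine {K cls : List ℕ} (h : ClsInv K cls) (b : ℕ) :
    ClsInv (b :: K) (refineCls cls b) := by
  intro c hc a a' ha ha' m hm
  rw [refineCls, List.mem_filter, List.mem_flatMap] at hc
  obtain ⟨⟨c0, hc0, hc⟩, -⟩ := hc
  simp only [List.mem_cons, List.not_mem_nil, or_false] at hc
  have key : c0.testBit a = true ∧ c0.testBit a' = true ∧ b.testBit a = b.testBit a' := by
    rcases hc with rfl | rfl
    · rw [Nat.testBit_and, Bool.and_eq_true] at ha ha'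
      exact ⟨ha.1, ha'.1, by rw [ha.2, ha'.2]⟩
    · rw [Nat.testBit_xor, Nat.testBit_and] at ha ha'
      refine ⟨?_, ?_, ?_⟩
      · revert ha; cases c0.testBit a <;> simp
      · revert ha'; cases c0.testBit a' <;> simp
      · revert ha ha'
        cases c0.testBit a <;> cases c0.testBit a' <;> cases b.testBit a <;>
          cases b.testBit a' <;> simp
  rw [List.mem_cons] at hm
  rcases hm with rfl | hm
  · exact key.2.2
  · exact h c0 hc0 a a' key.1 key.2.1 m hm

variable {n t k}

theorem testBit_lt_of_ofFin {s : Finset (Fin n)} {i : ℕ} (h : (ofFin n s).testBit i = true) :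
    i < n := by
  by_contra hge
  push Not at hge
  rw [testBit_ofFin_ge n s i hge] at h
  exact Bool.noConfusion h

theorem testBit_ofFin_iff {s : Finset (Fin n)} {i : ℕ} (hi : i < n) :
    (ofFin n s).testBit i = true ↔ (⟨i, hi⟩ : Fin n) ∈ s := by
  have := testBit_ofFin n s ⟨i, hi⟩
  simp only at this
  rw [this, decide_eq_true_iff]

theorem toFin_S (T y : ℕ) (hyn : y < n) :
    toFin n (T ||| 1 <<< y) = insert (⟨y, hyn⟩ : Fin n) (toFin n T) := by
  rw [toFin_lor, toFin_two_pow n ⟨y, hyn⟩, Finset.union_comm, Finset.insert_eq]

/-- the branching case: after renaming points inside the classes, the block through `S` is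
`S` together with one of the patterns in normal form -/
theorem branch_sound {B0 : Set (Finset (Fin n))} {K cls : List ℕ} {T y : ℕ} {hints : List ℕ}
    {c : ℕ} (ht : 1 ≤ t) (htk : t ≤ k) (hT : popc n T = t - 1)
    (hc : covOf K T hints = some c) (hy : (uncOf n c).testBit y = true)
    (hcls : ClsInv K cls)
    (hitems : ∀ N ∈ (subs (bitsOf n (uncOf n c ^^^ 1 <<< y)) (k - t)).filter
        (fun N => isNormal cls (T ||| 1 <<< y) N),
      ∀ B, Hyp n t k B K → toFin n ((T ||| 1 <<< y) ||| N) ∈ B → SetSystemIso B B0) :
    ∀ B, Hyp n t k B K → SetSystemIso B B0 := by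
  -- the main claim, by induction on the value of the mask of the extra points
  have claim : ∀ v : ℕ, ∀ B, Hyp n t k B K → ∀ N' : Finset (Fin n), ofFin n N' = v →
      Disjoint N' (toFin n (T ||| 1 <<< y)) → toFin n (T ||| 1 <<< y) ∪ N' ∈ B →
      SetSystemIso B B0 := by
    intro v
    induction v using Nat.strong_induction_on with
    | _ v ih =>
      intro B hB N' hv hdisj hmem
      obtain ⟨hyn, β, hβ, hTβ, hyβ, hβk, hunc, huniq⟩ := pencil hB ht hT hc hy
      have hS := toFin_S (n := n) T y hyn
      have hyT : (⟨y, hyn⟩ : Fin n) ∉ toFin n T := by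
        intro h
        have h1 := (covOf_spec K T hints c hc).1 y ((mem_toFin n).1 h)
        rw [testBit_uncOf, h1] at hy
        simp at hy
      have hSc : (toFin n (T ||| 1 <<< y)).card = t := by
        rw [hS, Finset.card_insert_of_notMem hyT, card_toFin, hT]; omega
      -- the block is `β`
      have hβeq : toFin n (T ||| 1 <<< y) ∪ N' = β := by
        apply huniq _ hmem
        · intro x hx
          apply Finset.mem_union_left
          rw [hS]; exact Finset.mem_insert_of_mem hx
        · apply Finset.mem_union_left
          rw [hS]; exact Finset.mem_insert_self _ _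
      have hN'card : N'.card = k - t := by
        have h1 : (toFin n (T ||| 1 <<< y) ∪ N').card = k := by rw [hβeq, hβk]
        rw [Finset.card_union_of_disjoint hdisj.symm, hSc] at h1
        omega
      have hN'rest : ∀ x ∈ N', (uncOf n c ^^^ 1 <<< y).testBit x = true := by
        intro x hx
        have hxβ : x ∈ β := by rw [← hβeq]; exact Finset.mem_union_right _ hx
        have hxS : x ∉ toFin n (T ||| 1 <<< y) := Finset.disjoint_left.1 hdisj hx
        rw [hS, Finset.mem_insert, not_or] at hxS
        have h1 := hunc x hxβ hxS.2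
        rw [mem_toFin] at h1
        rw [Nat.testBit_xor, h1, Nat.one_shiftLeft, Nat.testBit_two_pow]
        have : ¬ (y = (x : ℕ)) := by
          intro h
          apply hxS.1
          exact Fin.ext h.symm
        simp [this]
      set N := ofFin n N' with hN
      have hNmem : N ∈ subs (bitsOf n (uncOf n c ^^^ 1 <<< y)) (k - t) := by
        apply mem_subs_of_subset
        · intro j hj
          have hjn := testBit_lt_of_ofFin hj
          exact ⟨hjn, hN'rest _ ((testBit_ofFin_iff hjn).1 hj)⟩
        · rw [← card_toFin, hN, toFin_ofFin, hN'card]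
      have htoFin : toFin n ((T ||| 1 <<< y) ||| N) = toFin n (T ||| 1 <<< y) ∪ N' := by
        rw [toFin_lor n (T ||| 1 <<< y) N, hN, toFin_ofFin]
      by_cases hnorm : isNormal cls (T ||| 1 <<< y) N = true
      · apply hitems N _ B hB
        · rw [htoFin]; exact hmem
        · rw [List.mem_filter]
          exact ⟨hNmem, by simpa using hnorm⟩
      · rw [Bool.not_eq_true] at hnorm
        obtain ⟨c0, hc0, a, a', haa, hca, hca', hSa, hSa', hNa, hNa'⟩ :=
          not_isNormal cls _ N hnorm
        have han : a < n := testBit_lt_of_ofFin hNa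
        have ha'n : a' < n := lt_trans haa han
        set fa : Fin n := ⟨a, han⟩ with hfa
        set fa' : Fin n := ⟨a', ha'n⟩ with hfa'
        have haN' : fa ∈ N' := (testBit_ofFin_iff han).1 hNa
        have ha'N' : fa' ∉ N' := by
          intro h
          have := (testBit_ofFin_iff ha'n).2 h
          rw [← hN, hNa'] at this
          exact Bool.noConfusion this
        set τ : Equiv.Perm (Fin n) := Equiv.swap fa fa' with hτ
        have hB' : Hyp n t k (mapSys τ B) K := by
          refine ⟨steiner_map t k τ hB.1, ?_⟩
          intro m hm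
          have h1 : (toFin n m).image τ = toFin n m := by
            apply image_swap_toFin
            exact hcls c0 hc0 a a' hca hca' m hm
          rw [← h1]
          exact image_mem_mapSys τ B _ (hB.2 m hm)
        have hSinv : (toFin n (T ||| 1 <<< y)).image τ = toFin n (T ||| 1 <<< y) := by
          apply image_swap_toFin
          change (T ||| 1 <<< y).testBit a = (T ||| 1 <<< y).testBit a'
          rw [hSa, hSa']
        have hdisj' : Disjoint (N'.image τ) (toFin n (T ||| 1 <<< y)) := by
          rw [← hSinv]
          exact (Finset.disjoint_image τ.injective).2 hdisj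
        have hmem' : toFin n (T ||| 1 <<< y) ∪ N'.image τ ∈ mapSys τ B := by
          have : toFin n (T ||| 1 <<< y) ∪ N'.image τ =
              (toFin n (T ||| 1 <<< y) ∪ N').image τ := by
            rw [Finset.image_union, hSinv]
          rw [this]
          exact image_mem_mapSys τ B _ hmem
        have hlt : ofFin n (N'.image τ) < v := by
          rw [← hv]
          exact ofFin_swap_lt n N' fa fa' (Fin.lt_def.2 haa) haN' ha'N'
        have h1 := ih _ hlt (mapSys τ B) hB' (N'.image τ) rfl hdisj' hmem'
        exact iso_trans (iso_of_map τ B) h1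
  intro B hB
  obtain ⟨hyn, β, hβ, hTβ, hyβ, hβk, hunc, huniq⟩ := pencil hB ht hT hc hy
  have hS := toFin_S (n := n) T y hyn
  have hSβ : toFin n (T ||| 1 <<< y) ⊆ β := by
    rw [hS]
    intro x hx
    rw [Finset.mem_insert] at hx
    rcases hx with rfl | hx
    · exact hyβ
    · exact hTβ hx
  apply claim _ B hB (β \ toFin n (T ||| 1 <<< y)) rfl
  · exact Finset.sdiff_disjoint
  · rw [Finset.union_sdiff_of_subset hSβ]
    exact hβ

end Cfsg.Agent.Lib.Helper1.Stein
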