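import Cfsg.Agent.Lib.Helper1.Stein6

set_option autoImplicit false
set_option linter.unusedSectionVars false

namespace Cfsg.Agent.Lib.Helper1.Stein

open Cfsg

/-! ### the number of blocks -/

theorem card_blocks {α : Type*} [Fintype α] [DecidableEq α] {t k : ℕ} {B : Set (Finset α)}
    (hB : IsSteinerSystem t k B) (Bf : Finset (Finset α)) (hBf : ∀ b, b ∈ Bf ↔ b ∈ B) :
    Bf.card * k.choose t = (Fintype.card α).choose t := by
  classical
  have key := Finset.sum_card_bipartiteAbove_eq_sum_card_bipartiteBelow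
    (s := (Finset.univ : Finset α).powersetCard t) (t := Bf) (fun a b => a ⊆ b)
  have h1 : ∀ a ∈ (Finset.univ : Finset α).powersetCard t,
      (Bf.bipartiteAbove (fun a b => a ⊆ b) a).card = 1 := by
    intro a ha
    rw [Finset.mem_powersetCard] at ha
    obtain ⟨b, ⟨hb, hab⟩, huniq⟩ := hB.2 a ha.2
    rw [Finset.card_eq_one]
    refine ⟨b, ?_⟩
    ext c
    rw [Finset.mem_singleton, Finset.bipartiteAbove, Finset.mem_filter, hBf]
    constructor
    · intro hc; exact huniq c hc
    · rintro rfl; exact ⟨hb, hab⟩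
  have h2 : ∀ b ∈ Bf, (((Finset.univ : Finset α).powersetCard t).bipartiteBelow
      (fun a b => a ⊆ b) b).card = k.choose t := by
    intro b hb
    have hbk : b.card = k := hB.1 b ((hBf b).1 hb)
    have : ((Finset.univ : Finset α).powersetCard t).bipartiteBelow (fun a b => a ⊆ b) b =
        b.powersetCard t := by
      ext a
      rw [Finset.bipartiteBelow, Finset.mem_filter, Finset.mem_powersetCard,
        Finset.mem_powersetCard]
      constructor
      · rintro ⟨⟨-, h1⟩, h2⟩; exact ⟨h2, h1⟩
      · rintro ⟨h1, h2⟩; exact ⟨⟨Finset.subset_univ _, h2⟩, h1⟩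
    rw [this, Finset.card_powersetCard, hbk]
  rw [Finset.sum_congr rfl h1, Finset.sum_congr rfl h2] at key
  simp only [Finset.sum_const, smul_eq_mul, mul_one, Finset.card_powersetCard,
    Finset.card_univ] at key
  exact key.symm

variable (n : ℕ)

/-- the set system coded by a list of masks -/
def sysOf (K : List ℕ) : Set (Finset (Fin n)) := {b | ∃ m ∈ K, toFin n m = b}

theorem toFin_injOn {a b : ℕ} (ha : a < 2 ^ n) (hb : b < 2 ^ n) (h : toFin n a = toFin n b) :
    a = b := by
  apply Nat.eq_of_testBit_eq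
  intro i
  by_cases hi : i < n
  · have h1 : (⟨i, hi⟩ : Fin n) ∈ toFin n a ↔ (⟨i, hi⟩ : Fin n) ∈ toFin n b := by rw [h]
    rw [mem_toFin, mem_toFin] at h1
    simp only at h1
    cases hA : a.testBit i <;> cases hB : b.testBit i <;> simp_all
  · push Not at hi
    have h2 : (2 : ℕ) ^ n ≤ 2 ^ i := Nat.pow_le_pow_right (by norm_num) hi
    rw [Nat.testBit_lt_two_pow (lt_of_lt_of_le ha h2),
      Nat.testBit_lt_two_pow (lt_of_lt_of_le hb h2)]

/-- a Steiner system having `nb` known distinct blocks, where `nb` is the number of blocks,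
consists of these -/
theorem eq_sysOf {t k : ℕ} {B : Set (Finset (Fin n))} (hB : IsSteinerSystem t k B)
    (K : List ℕ) (hK : ∀ m ∈ K, toFin n m ∈ B) (hlt : ∀ m ∈ K, m < 2 ^ n) (hnd : K.Nodup)
    (hlen : K.length * k.choose t = n.choose t) (hpos : 0 < k.choose t) :
    B = sysOf n K := by
  classical
  set Bf : Finset (Finset (Fin n)) := Finset.univ.filter (fun b => b ∈ B) with hBf
  have hmem : ∀ b, b ∈ Bf ↔ b ∈ B := by
    intro b; rw [hBf, Finset.mem_filter]; simp
  have hcard := card_blocks hB Bf hmem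
  rw [Fintype.card_fin, ← hlen] at hcard
  have hBfcard : Bf.card = K.length := Nat.eq_of_mul_eq_mul_right hpos hcard
  set Kf : Finset (Finset (Fin n)) := (K.map (toFin n)).toFinset with hKf
  have hnd' : (K.map (toFin n)).Nodup := by
    rw [List.nodup_map_iff_inj_on hnd]
    intro a ha b hb hab
    exact toFin_injOn n (hlt a ha) (hlt b hb) hab
  have hKfcard : Kf.card = K.length := by
    rw [hKf, List.toFinset_card_of_nodup hnd', List.length_map]
  have hsub : Kf ⊆ Bf := by
    intro b hb
    rw [hKf, List.mem_toFinset, List.mem_map] at hb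
    obtain ⟨m, hm, rfl⟩ := hb
    exact (hmem _).2 (hK m hm)
  have heq : Kf = Bf := Finset.eq_of_subset_of_card_le hsub (by rw [hBfcard, hKfcard])
  ext b
  rw [← hmem, ← heq, hKf, List.mem_toFinset, List.mem_map]
  rfl

end Cfsg.Agent.Lib.Helper1.Stein
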