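import Cfsg.Agent.Lib.Helper1.Stein7

set_option autoImplicit false
set_option linter.unusedSectionVars false

namespace Cfsg.Agent.Lib.Helper1.Stein

open Cfsg

variable (n : ℕ)

/-! ### permutations given by lists -/

/-- the list is a permutation of the numbers below `n` -/
def permOk (σ : List ℕ) : Bool :=
  σ.length == n && σ.all (fun x => decide (x < n)) && decide σ.Nodup

/-- the image of a mask under the map `i ↦ σ[i]` -/
def permMaskAux : List ℕ → ℕ → ℕ → ℕ
  | [], _, _ => 0
  | s :: σ, i, m => (bif m.testBit i then 1 <<< s else 0) ||| permMaskAux σ (i + 1) m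

def permMask (σ : List ℕ) (m : ℕ) : ℕ := permMaskAux σ 0 m

theorem testBit_permMaskAux : ∀ (σ : List ℕ) (i m j : ℕ),
    (permMaskAux σ i m).testBit j = true ↔
      ∃ p, ∃ hp : p < σ.length, σ[p] = j ∧ m.testBit (i + p) = true := by
  intro σ
  induction σ with
  | nil =>
    intro i m j
    simp [permMaskAux]
  | cons s σ ih =>
    intro i m j
    rw [permMaskAux, Nat.testBit_or, Bool.or_eq_true, ih]
    constructor
    · rintro (h | ⟨p, hp, h1, h2⟩)
      · refine ⟨0, by simp, ?_⟩
        cases hm : m.testBit i
        · rw [hm] at h; simp at h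
        · rw [hm] at h
          simp only [cond_true, Nat.one_shiftLeft, Nat.testBit_two_pow, decide_eq_true_eq] at h
          simp [h]
      · refine ⟨p + 1, by simpa using hp, ?_⟩
        simp only [List.getElem_cons_succ]
        refine ⟨h1, ?_⟩
        rw [← h2]; congr 1; omega
    · rintro ⟨p, hp, h1, h2⟩
      cases p with
      | zero =>
        left
        simp only [List.getElem_cons_zero, Nat.add_zero] at h1 h2
        rw [h2]
        simp [Nat.one_shiftLeft, h1]
      | succ p =>
        right
        simp only [List.getElem_cons_succ] at h1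
        refine ⟨p, by simpa using hp, h1, ?_⟩
        rw [← h2]; congr 1; omega

variable {n}

theorem permOk_spec {σ : List ℕ} (h : permOk n σ = true) :
    σ.length = n ∧ (∀ x ∈ σ, x < n) ∧ σ.Nodup := by
  unfold permOk at h
  rw [Bool.and_eq_true, Bool.and_eq_true, beq_iff_eq, List.all_eq_true, decide_eq_true_eq] at h
  refine ⟨h.1.1, ?_, h.2⟩
  intro x hx
  simpa using h.1.2 x hx

/-- the function on `Fin n` given by a valid list -/
def permFun (σ : List ℕ) (h : permOk n σ = true) (i : Fin n) : Fin n :=
  ⟨σ[(i : ℕ)]'(by rw [(permOk_spec h).1]; exact i.2),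
    (permOk_spec h).2.1 _ (List.getElem_mem _)⟩

theorem permFun_injective (σ : List ℕ) (h : permOk n σ = true) :
    Function.Injective (permFun σ h) := by
  intro i j hij
  unfold permFun at hij
  simp only [Fin.mk.injEq] at hij
  exact Fin.ext ((List.Nodup.getElem_inj_iff (permOk_spec h).2.2).1 hij)

/-- the permutation of `Fin n` given by a valid list -/
noncomputable def permOf (σ : List ℕ) (h : permOk n σ = true) : Equiv.Perm (Fin n) :=
  Equiv.ofBijective (permFun σ h) (Finite.injective_iff_bijective.1 (permFun_injective σ h))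

theorem permOf_apply (σ : List ℕ) (h : permOk n σ = true) (i : Fin n) (hi : (i : ℕ) < σ.length) :
    ((permOf σ h i : Fin n) : ℕ) = σ[(i : ℕ)] := by
  rw [permOf, Equiv.ofBijective_apply, permFun]

theorem length_of_permOk (σ : List ℕ) (h : permOk n σ = true) : σ.length = n :=
  (permOk_spec h).1

theorem image_permOf (σ : List ℕ) (h : permOk n σ = true) (m : ℕ) :
    (toFin n m).image (permOf σ h) = toFin n (permMask σ m) := by
  have hlen := length_of_permOk σ h
  ext j
  rw [Finset.mem_image, mem_toFin, permMask, testBit_permMaskAux]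
  constructor
  · rintro ⟨i, hi, rfl⟩
    rw [mem_toFin] at hi
    refine ⟨i, by rw [hlen]; exact i.2, ?_, by simpa using hi⟩
    rw [permOf_apply]
  · rintro ⟨p, hp, h1, h2⟩
    have hpn : p < n := by rw [← hlen]; exact hp
    refine ⟨⟨p, hpn⟩, ?_, ?_⟩
    · rw [mem_toFin]; simpa using h2
    · apply Fin.ext
      rw [permOf_apply σ h ⟨p, hpn⟩ hp]
      exact h1

/-! ### the check at a leaf -/

variable (n)

/-- every block of `K0` is the image under `σ` of the block of `K` at the hinted position -/
def matchAll (σ K : List ℕ) : List ℕ → List ℕ → Bool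
  | [], [] => true
  | m0 :: K0, i :: idx =>
    (match K[i]? with
      | some m => permMask σ m == m0
      | none => false) && matchAll σ K K0 idx
  | _, _ => false

theorem matchAll_spec (σ K : List ℕ) : ∀ (K0 idx : List ℕ), matchAll σ K K0 idx = true →
    ∀ m0 ∈ K0, ∃ m ∈ K, permMask σ m = m0 := by
  intro K0
  induction K0 with
  | nil => intro idx _ m0 hm0; exact absurd hm0 (List.not_mem_nil)
  | cons a K0 ih =>
    intro idx h m0 hm0
    cases idx with
    | nil => simp [matchAll] at h
    | cons i idx =>
      rw [matchAll, Bool.and_eq_true] at h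
      rw [List.mem_cons] at hm0
      rcases hm0 with rfl | hm0
      · have h1 := h.1
        split at h1
        · rename_i m hm
          exact ⟨m, List.mem_of_getElem? hm, by simpa using h1⟩
        · exact absurd h1 (by simp)
      · exact ih idx h.2 m0 hm0

/-- strictly increasing list -/
def sortedLt : List ℕ → Bool
  | [] => true
  | [_] => true
  | a :: b :: l => decide (a < b) && sortedLt (b :: l)

theorem sortedLt_pairwise : ∀ l : List ℕ, sortedLt l = true → l.Pairwise (· < ·) := by
  intro l
  induction l with
  | nil => intro _; exact List.Pairwise.nil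
  | cons a l ih =>
    intro h
    cases l with
    | nil => exact List.pairwise_singleton _ _
    | cons b l =>
      rw [sortedLt, Bool.and_eq_true, decide_eq_true_eq] at h
      have h2 := ih h.2
      rw [List.pairwise_cons]
      refine ⟨?_, h2⟩
      intro c hc
      rw [List.mem_cons] at hc
      rcases hc with rfl | hc
      · exact h.1
      · exact lt_trans h.1 ((List.pairwise_cons.1 h2).1 c hc)

/-- the conditions on the target list of blocks -/
def targetOk (t k : ℕ) (K0 : List ℕ) : Bool :=
  K0.all (fun m => decide (m < 2 ^ n)) && sortedLt K0 &&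
    (K0.length * k.choose t == n.choose t) && decide (0 < k.choose t) && decide (1 ≤ t) &&
    decide (t ≤ k)

variable {n}

theorem leaf_sound {t k : ℕ} {K0 : List ℕ} (hK0 : targetOk n t k K0 = true) {σ K idx : List ℕ}
    (hσ : permOk n σ = true) (hm : matchAll σ K K0 idx = true) :
    ∀ B, Hyp n t k B K → SetSystemIso B (sysOf n K0) := by
  intro B hB
  unfold targetOk at hK0
  simp only [Bool.and_eq_true, List.all_eq_true, decide_eq_true_eq, beq_iff_eq] at hK0
  obtain ⟨⟨⟨⟨⟨h1, h2⟩, h3⟩, h4⟩, -⟩, -⟩ := hK0
  refine ⟨permOf σ hσ, ?_⟩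
  have hst := steiner_map t k (permOf σ hσ) hB.1
  have hmem : ∀ m0 ∈ K0, toFin n m0 ∈ mapSys (permOf σ hσ) B := by
    intro m0 hm0
    obtain ⟨m, hmK, rfl⟩ := matchAll_spec σ K K0 idx hm m0 hm0
    rw [← image_permOf σ hσ m]
    exact image_mem_mapSys _ B _ (hB.2 m hmK)
  have hnd : K0.Nodup := (sortedLt_pairwise K0 h2).imp (fun h => ne_of_lt h)
  exact eq_sysOf n hst K0 hmem h1 hnd h3 h4

end Cfsg.Agent.Lib.Helper1.Stein
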