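import Cfsg.Agent.Lib.Helper1.Stein8

set_option autoImplicit false
set_option linter.unusedSectionVars false

namespace Cfsg.Agent.Lib.Helper1.Stein

open Cfsg

/-- certificates for the search: the first three constructors are the nodes of the search tree,
the last three list what happens to the patterns at a branching node -/
inductive Cert where
  | leaf (σ idx : List ℕ) : Cert
  | forced (T y : ℕ) (hints : List ℕ) (b : ℕ) (sub : Cert) : Cert
  | branch (T y : ℕ) (hints : List ℕ) (items : Cert) : Cert
  | excl (i : ℕ) (rest : Cert) : Cert
  | kid (b : ℕ) (sub rest : Cert) : Cert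
  | done : Cert

/-- is the certificate one for a node of the search tree -/
def Cert.isNode : Cert → Bool
  | .leaf _ _ => true
  | .forced _ _ _ _ _ => true
  | .branch _ _ _ _ => true
  | _ => false

variable (n t k : ℕ) (K0 : List ℕ)

/-- the checker -/
def check : Cert → List ℕ → List ℕ → ℕ → List ℕ → Bool
  | .leaf σ idx, K, _, _, _ => permOk n σ && matchAll σ K K0 idx
  | .forced T y hints b sub, K, cls, _, _ =>
    match covOf K T hints with
    | none => false
    | some c =>
      (popc n T == t - 1) && (uncOf n c).testBit y && (popc n (uncOf n c) == k - t + 1) &&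
        (b == T ||| uncOf n c) && sub.isNode && check sub (b :: K) (refineCls cls b) 0 []
  | .branch T y hints items, K, cls, _, _ =>
    match covOf K T hints with
    | none => false
    | some c =>
      (popc n T == t - 1) && (uncOf n c).testBit y && decide (T < 2 ^ n) && !items.isNode &&
        check items K cls (T ||| 1 <<< y)
          ((subs (bitsOf n (uncOf n c ^^^ 1 <<< y)) (k - t)).filter
            (fun N => isNormal cls (T ||| 1 <<< y) N))
  | .excl i rest, K, cls, S, pending =>
    match pending, K[i]? with
    | N :: ps, some h =>
      decide (t ≤ popc n (h &&& (S ||| N))) && (h &&& S != S) && !rest.isNode &&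
        check rest K cls S ps
    | _, _ => false
  | .kid b sub rest, K, cls, S, pending =>
    match pending with
    | N :: ps =>
      (b == S ||| N) && sub.isNode && !rest.isNode &&
        check sub (b :: K) (refineCls cls b) 0 [] && check rest K cls S ps
    | [] => false
  | .done, _, _, _, pending => pending.isEmpty

/-- what a successful check proves -/
def Concl (c : Cert) (K : List ℕ) (S : ℕ) (pending : List ℕ) : Prop :=
  if c.isNode = true then ∀ B, Hyp n t k B K → SetSystemIso B (sysOf n K0)
  else S < 2 ^ n → ∀ N ∈ pending, ∀ B, Hyp n t k B K → toFin n (S ||| N) ∈ B →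
    SetSystemIso B (sysOf n K0)

variable {n t k K0}

theorem concl_node {c : Cert} {K : List ℕ} {S : ℕ} {pending : List ℕ} (h : c.isNode = true) :
    Concl n t k K0 c K S pending ↔ ∀ B, Hyp n t k B K → SetSystemIso B (sysOf n K0) := by
  unfold Concl
  rw [if_pos h]

theorem concl_item {c : Cert} {K : List ℕ} {S : ℕ} {pending : List ℕ} (h : c.isNode = false) :
    Concl n t k K0 c K S pending ↔ (S < 2 ^ n → ∀ N ∈ pending, ∀ B, Hyp n t k B K →
      toFin n (S ||| N) ∈ B → SetSystemIso B (sysOf n K0)) := by
  unfold Concl
  rw [if_neg (by rw [h]; simp)]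

theorem subset_of_lt {S h : ℕ} (hS : S < 2 ^ n) (hsub : toFin n S ⊆ toFin n h) : h &&& S = S := by
  apply Nat.eq_of_testBit_eq
  intro i
  rw [Nat.testBit_and]
  by_cases hi : i < n
  · cases hSi : S.testBit i
    · simp
    · have : (⟨i, hi⟩ : Fin n) ∈ toFin n h := hsub ((mem_toFin n).2 hSi)
      rw [mem_toFin] at this
      simp only at this
      rw [this]; rfl
  · push Not at hi
    rw [Nat.testBit_lt_two_pow (lt_of_lt_of_le hS (Nat.pow_le_pow_right (by norm_num) hi))]
    simp

theorem check_sound (hK0 : targetOk n t k K0 = true) : ∀ (c : Cert) (K cls : List ℕ) (S : ℕ)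
    (pending : List ℕ), check n t k K0 c K cls S pending = true → ClsInv K cls →
    Concl n t k K0 c K S pending := by
  have hK0' := hK0
  unfold targetOk at hK0'
  simp only [Bool.and_eq_true, decide_eq_true_eq] at hK0'
  obtain ⟨⟨-, ht⟩, htk⟩ := hK0'
  intro c
  induction c with
  | leaf σ idx =>
    intro K cls S pending h _
    rw [check, Bool.and_eq_true] at h
    rw [concl_node rfl]
    exact leaf_sound hK0 h.1 h.2
  | forced T y hints b sub ih =>
    intro K cls S pending h hcls
    rw [check] at h
    rw [concl_node rfl]
    split at h
    · exact absurd h (by simp)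
    · rename_i c hc
      simp only [Bool.and_eq_true, beq_iff_eq] at h
      obtain ⟨⟨⟨⟨⟨hT, hy⟩, hcnt⟩, hb⟩, hnode⟩, hsub⟩ := h
      have ih' := ih (b :: K) (refineCls cls b) 0 [] hsub (clsInv_refine hcls b)
      rw [concl_node hnode] at ih'
      intro B hB
      apply ih' B
      refine ⟨hB.1, ?_⟩
      intro m hm
      rw [List.mem_cons] at hm
      rcases hm with rfl | hm
      · rw [hb]
        exact forced_sound hB ht htk hT hc hy hcnt
      · exact hB.2 m hm
  | branch T y hints items ih =>
    intro K cls S pending h hcls
    rw [check] at h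
    rw [concl_node rfl]
    split at h
    · exact absurd h (by simp)
    · rename_i c hc
      simp only [Bool.and_eq_true, beq_iff_eq, decide_eq_true_eq, Bool.not_eq_true'] at h
      obtain ⟨⟨⟨⟨hT, hy⟩, hTlt⟩, hnode⟩, hitems⟩ := h
      have ih' := ih K cls _ _ hitems hcls
      rw [concl_item hnode] at ih'
      have hSlt : T ||| 1 <<< y < 2 ^ n := by
        apply Nat.or_lt_two_pow hTlt
        rw [Nat.one_shiftLeft]
        apply Nat.pow_lt_pow_right (by norm_num)
        rw [testBit_uncOf, Bool.and_eq_true, decide_eq_true_eq] at hy
        exact hy.1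
      exact branch_sound ht htk hT hc hy hcls (ih' hSlt)
  | excl i rest ih =>
    intro K cls S pending h hcls
    rw [concl_item rfl]
    cases pending with
    | nil => simp [check] at h
    | cons N ps =>
      cases hKi : K[i]? with
      | none => simp [check, hKi] at h
      | some hh =>
        simp only [check, hKi, Bool.and_eq_true, decide_eq_true_eq, bne_iff_ne, ne_eq,
          Bool.not_eq_true'] at h
        obtain ⟨⟨⟨hpop, hne⟩, hnode⟩, hrest⟩ := h
        have ih' := ih K cls S ps hrest hcls
        rw [concl_item hnode] at ih'
        intro hS N' hN' B hB hmem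
        rw [List.mem_cons] at hN'
        rcases hN' with rfl | hN'
        · exfalso
          have hhK : hh ∈ K := List.mem_of_getElem? hKi
          have hhB := hB.2 hh hhK
          have hcard : t ≤ (toFin n hh ∩ toFin n (S ||| N')).card := by
            rw [← toFin_land, card_toFin]; exact hpop
          have heq := block_unique hB.1 hhB hmem hcard
          apply hne
          apply subset_of_lt hS
          rw [heq, toFin_lor]
          exact Finset.subset_union_left
        · exact ih' hS N' hN' B hB hmem
  | kid b sub rest ih1 ih2 =>
    intro K cls S pending h hcls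
    rw [concl_item rfl]
    cases pending with
    | nil => simp [check] at h
    | cons N ps =>
      simp only [check, Bool.and_eq_true, beq_iff_eq, Bool.not_eq_true'] at h
      obtain ⟨⟨⟨⟨hb, hnode1⟩, hnode2⟩, hsub⟩, hrest⟩ := h
      have ih1' := ih1 (b :: K) (refineCls cls b) 0 [] hsub (clsInv_refine hcls b)
      rw [concl_node hnode1] at ih1'
      have ih2' := ih2 K cls S ps hrest hcls
      rw [concl_item hnode2] at ih2'
      intro hS N' hN' B hB hmem
      rw [List.mem_cons] at hN'
      rcases hN' with rfl | hN'
      · apply ih1' B
        refine ⟨hB.1, ?_⟩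
        intro m hm
        rw [List.mem_cons] at hm
        rcases hm with rfl | hm
        · rw [hb]; exact hmem
        · exact hB.2 m hm
      · exact ih2' hS N' hN' B hB hmem
  | done =>
    intro K cls S pending h _
    rw [check, List.isEmpty_iff] at h
    rw [concl_item rfl]
    intro _ N hN
    rw [h] at hN
    exact absurd hN (List.not_mem_nil)

end Cfsg.Agent.Lib.Helper1.Stein
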