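import Mathlib
import Cfsg.Prelude.Def_Sporadic_a

set_option autoImplicit false

namespace Cfsg.Agent.Lib.Helper1

open Finset

section
variable {α : Type*} [Fintype α] [DecidableEq α]

/-- The finset of blocks of a set system. -/
noncomputable def blocks (B : Set (Finset α)) : Finset (Finset α) := by
  classical exact Finset.univ.filter (· ∈ B)

omit [DecidableEq α] in
theorem mem_blocks {B : Set (Finset α)} {b : Finset α} : b ∈ blocks B ↔ b ∈ B := by
  classical
  unfold blocks
  simp

omit [DecidableEq α] in
theorem ncard_eq_card_blocks (B : Set (Finset α)) : B.ncard = (blocks B).card := by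
  classical
  rw [← Set.ncard_coe_finset]
  congr 1
  ext b
  simp [mem_blocks]

omit [Fintype α] in
/-- The number of `t`-subsets `s` of `b` containing `I`. -/
theorem card_between (I b : Finset α) (hI : I ⊆ b) (t : ℕ) (hi : I.card ≤ t) :
    ((powersetCard t b).filter (fun s => I ⊆ s)).card = (b.card - I.card).choose (t - I.card) := by
  have heq : (powersetCard t b).filter (fun s => I ⊆ s)
      = (powersetCard (t - I.card) (b \ I)).image (fun u => u ∪ I) := by
    ext s
    simp only [mem_filter, mem_powersetCard, mem_image]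
    constructor
    · rintro ⟨⟨hsb, hst⟩, hIs⟩
      refine ⟨s \ I, ⟨sdiff_subset_sdiff hsb (subset_refl I), ?_⟩, sdiff_union_of_subset hIs⟩
      rw [card_sdiff_of_subset hIs, hst]
    · rintro ⟨u, ⟨hub, hut⟩, rfl⟩
      have hdisj : Disjoint u I := by
        rw [disjoint_left]
        intro x hx hxI
        exact (mem_sdiff.1 (hub hx)).2 hxI
      refine ⟨⟨union_subset (hub.trans sdiff_subset) hI, ?_⟩, subset_union_right⟩
      rw [card_union_of_disjoint hdisj, hut, Nat.sub_add_cancel hi]
  rw [heq, card_image_of_injOn, card_powersetCard, card_sdiff_of_subset hI]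
  intro u hu u' hu' h
  rw [mem_coe, mem_powersetCard] at hu hu'
  have hd : ∀ w : Finset α, w ⊆ b \ I → (w ∪ I) \ I = w := by
    intro w hw
    ext x
    simp only [mem_sdiff, mem_union]
    constructor
    · rintro ⟨h1 | h1, h2⟩
      · exact h1
      · exact absurd h1 h2
    · intro hx
      exact ⟨Or.inl hx, (mem_sdiff.1 (hw hx)).2⟩
  have h' : (u ∪ I) \ I = (u' ∪ I) \ I := by
    simp only at h
    rw [h]
  rwa [hd u hu.1, hd u' hu'.1] at h'

omit [Fintype α] in
/-- Two blocks of a Steiner system sharing at least `t` points are equal. -/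
theorem steiner_eq_of_inter {t k : ℕ} {B : Set (Finset α)} (hB : Cfsg.IsSteinerSystem t k B)
    {b c : Finset α} (hb : b ∈ B) (hc : c ∈ B) (h : t ≤ (b ∩ c).card) : b = c := by
  obtain ⟨s, hs, hst⟩ := exists_subset_card_eq h
  obtain ⟨d, _, hd⟩ := hB.2 s hst
  have h1 := hd b ⟨hb, hs.trans inter_subset_left⟩
  have h2 := hd c ⟨hc, hs.trans inter_subset_right⟩
  rw [h1, h2]

/-- The number of blocks containing a given `i`-set, `i ≤ t`. -/
theorem steiner_count_containing {t k : ℕ} {B : Set (Finset α)}
    (hB : Cfsg.IsSteinerSystem t k B) (I : Finset α) (hi : I.card ≤ t) :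
    ((blocks B).filter (fun c => I ⊆ c)).card * (k - I.card).choose (t - I.card)
      = (Fintype.card α - I.card).choose (t - I.card) := by
  classical
  have key := sum_card_bipartiteAbove_eq_sum_card_bipartiteBelow
    (s := (blocks B).filter (fun c => I ⊆ c))
    (t := (powersetCard t (univ : Finset α)).filter (fun s => I ⊆ s))
    (r := fun c s => s ⊆ c)
  have hL : ∀ c ∈ (blocks B).filter (fun c => I ⊆ c),
      (((powersetCard t (univ : Finset α)).filter (fun s => I ⊆ s)).bipartiteAbove
        (fun c s => s ⊆ c) c).card = (k - I.card).choose (t - I.card) := by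
    intro c hc
    rw [mem_filter, mem_blocks] at hc
    rw [← hB.1 c hc.1, ← card_between I c hc.2 t hi]
    congr 1
    ext s
    simp only [bipartiteAbove, mem_filter, mem_powersetCard, subset_univ, true_and]
    tauto
  have hR : ∀ s ∈ (powersetCard t (univ : Finset α)).filter (fun s => I ⊆ s),
      (((blocks B).filter (fun c => I ⊆ c)).bipartiteBelow (fun c s => s ⊆ c) s).card = 1 := by
    intro s hs
    simp only [mem_filter, mem_powersetCard, subset_univ, true_and] at hs
    obtain ⟨d, hd, hduniq⟩ := hB.2 s hs.1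
    rw [card_eq_one]
    refine ⟨d, ?_⟩
    ext c
    simp only [bipartiteBelow, mem_filter, mem_blocks, mem_singleton]
    constructor
    · rintro ⟨⟨hcB, _⟩, hsc⟩
      exact hduniq c ⟨hcB, hsc⟩
    · rintro rfl
      exact ⟨⟨hd.1, hs.2.trans hd.2⟩, hd.2⟩
  rw [sum_congr rfl hL, sum_congr rfl hR, sum_const, sum_const, smul_eq_mul, smul_eq_mul,
    mul_one] at key
  rw [key, card_between I univ (subset_univ I) t hi, card_univ]

/-- The intersection equations of a Steiner system. -/
theorem steiner_inter_sum {t k : ℕ} {B : Set (Finset α)}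
    (hB : Cfsg.IsSteinerSystem t k B) {b : Finset α} (hb : b ∈ B) (i : ℕ) (hi : i ≤ t) :
    (∑ c ∈ blocks B, ((b ∩ c).card).choose i) * (k - i).choose (t - i)
      = k.choose i * (Fintype.card α - i).choose (t - i) := by
  classical
  have key := sum_card_bipartiteAbove_eq_sum_card_bipartiteBelow
    (s := blocks B) (t := powersetCard i b) (r := fun c I => I ⊆ c)
  have hL : ∀ c ∈ blocks B, ((powersetCard i b).bipartiteAbove (fun c I => I ⊆ c) c).card
      = ((b ∩ c).card).choose i := by
    intro c _
    rw [← card_powersetCard]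
    congr 1
    ext I
    simp only [bipartiteAbove, mem_filter, mem_powersetCard, subset_inter_iff]
    tauto
  rw [sum_congr rfl hL] at key
  rw [key, sum_mul]
  have hR : ∀ I ∈ powersetCard i b,
      ((blocks B).bipartiteBelow (fun c I => I ⊆ c) I).card * (k - i).choose (t - i)
        = (Fintype.card α - i).choose (t - i) := by
    intro I hI
    rw [mem_powersetCard] at hI
    have := steiner_count_containing hB I (by rw [hI.2]; exact hi)
    rw [hI.2] at this
    exact this
  rw [sum_congr rfl hR, sum_const, card_powersetCard, hB.1 b hb, smul_eq_mul]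

/-- The number of blocks meeting `b` in exactly `j` points. -/
noncomputable def interNum (B : Set (Finset α)) (b : Finset α) (j : ℕ) : ℕ :=
  ((blocks B).filter (fun c => (b ∩ c).card = j)).card

/-- The intersection equations in terms of intersection numbers. -/
theorem steiner_interNum_eqn {t k : ℕ} {B : Set (Finset α)}
    (hB : Cfsg.IsSteinerSystem t k B) {b : Finset α} (hb : b ∈ B) (i : ℕ) (hi : i ≤ t) :
    (∑ j ∈ range (k + 1), interNum B b j * j.choose i) * (k - i).choose (t - i)
      = k.choose i * (Fintype.card α - i).choose (t - i) := by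
  classical
  rw [← steiner_inter_sum hB hb i hi]
  congr 1
  have hmaps : ∀ c ∈ blocks B, (b ∩ c).card ∈ range (k + 1) := by
    intro c _
    rw [mem_range, Nat.lt_succ_iff, ← hB.1 b hb]
    exact card_le_card inter_subset_left
  rw [← sum_fiberwise_of_maps_to hmaps]
  refine sum_congr rfl fun j _ => ?_
  unfold interNum
  rw [card_eq_sum_ones, sum_mul]
  refine sum_congr rfl fun c hc => ?_
  rw [(mem_filter.1 hc).2, one_mul]

theorem interNum_eq_zero {t k : ℕ} {B : Set (Finset α)}
    (hB : Cfsg.IsSteinerSystem t k B) {b : Finset α} (hb : b ∈ B) (j : ℕ) (h1 : t ≤ j) (h2 : j < k) :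
    interNum B b j = 0 := by
  unfold interNum
  rw [card_eq_zero, filter_eq_empty_iff]
  intro c hc hj
  rw [mem_blocks] at hc
  have := steiner_eq_of_inter hB hb hc (hj ▸ h1)
  subst this
  rw [inter_self, hB.1 b hb] at hj
  omega

theorem interNum_self {t k : ℕ} {B : Set (Finset α)}
    (hB : Cfsg.IsSteinerSystem t k B) {b : Finset α} (hb : b ∈ B) (htk : t ≤ k) :
    interNum B b k = 1 := by
  unfold interNum
  rw [card_eq_one]
  refine ⟨b, ?_⟩
  ext c
  simp only [mem_filter, mem_blocks, mem_singleton]
  constructor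
  · rintro ⟨hc, hj⟩
    exact (steiner_eq_of_inter hB hb hc (hj ▸ htk)).symm
  · rintro rfl
    exact ⟨hb, by rw [inter_self, hB.1 c hb]⟩

theorem interNum_pos_of_mem {B : Set (Finset α)} {b c : Finset α} (hc : c ∈ B) :
    0 < interNum B b (b ∩ c).card := by
  unfold interNum
  rw [card_pos]
  exact ⟨c, mem_filter.2 ⟨mem_blocks.2 hc, rfl⟩⟩

end

end Cfsg.Agent.Lib.Helper1
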