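import Cfsg.Agent.Lib.Helper1.SteinAut1
import Cfsg.Agent.S0352
import Cfsg.Agent.S0353

set_option autoImplicit false
set_option linter.unusedSectionVars false

namespace Cfsg.Agent.Lib.Helper1.Stein

open Cfsg
open scoped Pointwise

section

variable {Ω : Type*} [Fintype Ω] [DecidableEq Ω]

theorem ne_iff_of_fix {p : Ω} {g : Equiv.Perm Ω} (hg : g p = p) (x : Ω) : g x ≠ p ↔ x ≠ p := by
  constructor
  · intro h hx; apply h; rw [hx, hg]
  · intro h hx; apply h; apply g.injective; rw [hx, hg]

/-- the restriction to the complement of a fixed point -/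
def restrictPerm (p : Ω) (g : Equiv.Perm Ω) (hg : g p = p) : Equiv.Perm {a : Ω // a ≠ p} :=
  g.subtypePerm (ne_iff_of_fix hg)

theorem restrictPerm_apply (p : Ω) (g : Equiv.Perm Ω) (hg : g p = p) (x : {a : Ω // a ≠ p}) :
    ((restrictPerm p g hg x : {a : Ω // a ≠ p}) : Ω) = g x := rfl

theorem image_restrict_subtype (p : Ω) (g : Equiv.Perm Ω) (hg : g p = p) (b : Finset Ω) :
    (Finset.subtype (fun a => a ≠ p) b).image (restrictPerm p g hg) =
      Finset.subtype (fun a => a ≠ p) (b.image g) := by
  ext x
  rw [Finset.mem_image, Finset.mem_subtype, Finset.mem_image]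
  constructor
  · rintro ⟨y, hy, rfl⟩
    rw [Finset.mem_subtype] at hy
    exact ⟨y.1, hy, rfl⟩
  · rintro ⟨z, hz, hzx⟩
    have hzp : z ≠ p := by
      rw [← ne_iff_of_fix hg, hzx]; exact x.2
    refine ⟨⟨z, hzp⟩, ?_, ?_⟩
    · rw [Finset.mem_subtype]; exact hz
    · apply Subtype.ext
      rw [restrictPerm_apply]; exact hzx

theorem restrict_mem_aut (B : Set (Finset Ω)) (p : Ω) (g : Equiv.Perm Ω) (hg : g p = p)
    (hgB : g ∈ setSystemAut B) : restrictPerm p g hg ∈ setSystemAut (derivedSys B p) := by
  rw [mem_setSystemAut_iff] at hgB ⊢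
  rintro _ ⟨b, hb, hpb, rfl⟩
  rw [image_restrict_subtype]
  refine ⟨b.image g, hgB b hb, ?_, rfl⟩
  rw [Finset.mem_image]
  exact ⟨p, hpb, hg⟩

theorem stab_fix (B : Set (Finset Ω)) (p : Ω) (g : MulAction.stabilizer (setSystemAut B) p) :
    ((g : setSystemAut B) : Equiv.Perm Ω) p = p := by
  have := g.2
  rw [MulAction.mem_stabilizer_iff] at this
  exact this

/-- restriction, from the stabilizer of a point to the automorphisms of the derived system -/
def restrictHom (B : Set (Finset Ω)) (p : Ω) :
    MulAction.stabilizer (setSystemAut B) p →* setSystemAut (derivedSys B p) where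
  toFun g := ⟨restrictPerm p g.1.1 (stab_fix B p g), restrict_mem_aut B p _ _ g.1.2⟩
  map_one' := by
    apply Subtype.ext
    ext x
    rfl
  map_mul' g h := by
    apply Subtype.ext
    ext x
    rfl

theorem restrictHom_apply (B : Set (Finset Ω)) (p : Ω) (g : MulAction.stabilizer (setSystemAut B) p)
    (x : {a : Ω // a ≠ p}) :
    ((((restrictHom B p g : setSystemAut (derivedSys B p)) : Equiv.Perm {a : Ω // a ≠ p}) x :
      {a : Ω // a ≠ p}) : Ω) = ((g : setSystemAut B) : Equiv.Perm Ω) x := rfl

theorem restrictHom_injective (B : Set (Finset Ω)) (p : Ω) :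
    Function.Injective (restrictHom B p) := by
  intro g h hgh
  apply Subtype.ext
  apply Subtype.ext
  ext x
  by_cases hx : x = p
  · rw [hx, stab_fix B p g, stab_fix B p h]
  · have h1 := restrictHom_apply B p g ⟨x, hx⟩
    have h2 := restrictHom_apply B p h ⟨x, hx⟩
    rw [hgh] at h1
    rw [← h1, ← h2]

/-- in an `S(5,8,24)`, an automorphism of the derived system extends -/
theorem extend_mem_aut (hΩ : Fintype.card Ω = 24) {B : Set (Finset Ω)}
    (hB : IsSteinerSystem 5 8 B) (p : Ω) (h : Equiv.Perm {a : Ω // a ≠ p})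
    (hh : h ∈ setSystemAut (derivedSys B p)) : Equiv.Perm.ofSubtype h ∈ setSystemAut B := by
  set g : Equiv.Perm Ω := Equiv.Perm.ofSubtype h with hgdef
  have hgp : g p = p := Equiv.Perm.ofSubtype_apply_of_not_mem h (by simp)
  have hgx : ∀ (x : Ω) (hx : x ≠ p), g x = h ⟨x, hx⟩ := fun x hx =>
    Equiv.Perm.ofSubtype_apply_of_mem h hx
  rw [mem_setSystemAut_iff] at hh
  -- blocks through `p`
  have case1 : ∀ o ∈ B, p ∈ o → o.image g ∈ B := by
    intro o ho hpo
    have h1 : Finset.subtype (fun a => a ≠ p) o ∈ derivedSys B p := ⟨o, ho, hpo, rfl⟩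
    obtain ⟨b, hb, hpb, hbeq⟩ := hh _ h1
    have : o.image g = b := by
      ext x
      by_cases hx : x = p
      · subst hx
        simp only [hpb, iff_true, Finset.mem_image]
        exact ⟨x, hpo, hgp⟩
      · have h2 : (⟨x, hx⟩ : {a : Ω // a ≠ p}) ∈
            (Finset.subtype (fun a => a ≠ p) o).image h ↔ x ∈ b := by
          rw [hbeq, Finset.mem_subtype]
        rw [← h2, Finset.mem_image, Finset.mem_image]
        constructor
        · rintro ⟨z, hz, hzx⟩
          have hzp : z ≠ p := by
            intro hzp; rw [hzp, hgp] at hzx; exact hx hzx.symm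
          refine ⟨⟨z, hzp⟩, by rw [Finset.mem_subtype]; exact hz, ?_⟩
          apply Subtype.ext
          rw [← hgx z hzp]; exact hzx
        · rintro ⟨y, hy, hyx⟩
          rw [Finset.mem_subtype] at hy
          refine ⟨y.1, hy, ?_⟩
          rw [hgx y.1 y.2]
          have : (⟨y.1, y.2⟩ : {a : Ω // a ≠ p}) = y := rfl
          rw [this, hyx]
    rw [this]; exact hb
  rw [mem_setSystemAut_iff]
  intro o ho
  by_cases hpo : p ∈ o
  · exact case1 o ho hpo
  · have hok : o.card = 8 := hB.1 o ho
    obtain ⟨Q, hQo, hQc⟩ := Finset.exists_subset_card_eq (show 4 ≤ o.card by omega)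
    have hpQ : p ∉ Q := fun hh' => hpo (hQo hh')
    have hs : (insert p Q).card = 5 := by rw [Finset.card_insert_of_notMem hpQ, hQc]
    obtain ⟨b, hb, hsb, hbk⟩ := exists_block hB _ hs
    have hpb : p ∈ b := hsb (Finset.mem_insert_self _ _)
    have hQb : Q ⊆ b := (Finset.subset_insert _ _).trans hsb
    have hbo : b ≠ o := fun hbo => hpo (hbo ▸ hpb)
    have h4 : (b ∩ o).card = 4 := by
      have hge : 4 ≤ (b ∩ o).card := by
        rw [← hQc]
        exact Finset.card_le_card (Finset.subset_inter hQb hQo)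
      rcases Cfsg.Agent.S0352.result hΩ hB hb ho hbo with h0 | h2 | h4
      · omega
      · omega
      · exact h4
    have hc : symmDiff b o ∈ B := Cfsg.Agent.S0353.result hΩ hB hb ho h4
    have hpc : p ∈ symmDiff b o := by
      rw [Finset.mem_symmDiff]; exact Or.inl ⟨hpb, hpo⟩
    have hoeq : o = symmDiff b (symmDiff b o) := (symmDiff_symmDiff_cancel_left b o).symm
    have hbc4 : (b ∩ symmDiff b o).card = 4 := by
      have : b ∩ symmDiff b o = b \ o := by
        ext x
        simp only [Finset.mem_inter, Finset.mem_symmDiff, Finset.mem_sdiff]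
        tauto
      rw [this, Finset.card_sdiff, hbk, Finset.inter_comm, h4]
    have hb' := case1 b hb hpb
    have hc' := case1 _ hc hpc
    have h4' : ((b.image g) ∩ ((symmDiff b o).image g)).card = 4 := by
      rw [← Finset.image_inter _ _ g.injective, Finset.card_image_of_injective _ g.injective,
        hbc4]
    have := Cfsg.Agent.S0353.result hΩ hB hb' hc' h4'
    rw [← Finset.image_symmDiff _ _ g.injective, ← hoeq] at this
    exact this

theorem restrictHom_surjective (hΩ : Fintype.card Ω = 24) {B : Set (Finset Ω)}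
    (hB : IsSteinerSystem 5 8 B) (p : Ω) : Function.Surjective (restrictHom B p) := by
  intro h
  have hmem := extend_mem_aut hΩ hB p h.1 h.2
  have hgp : (Equiv.Perm.ofSubtype h.1 : Equiv.Perm Ω) p = p :=
    Equiv.Perm.ofSubtype_apply_of_not_mem h.1 (by simp)
  refine ⟨⟨⟨Equiv.Perm.ofSubtype h.1, hmem⟩, ?_⟩, ?_⟩
  · rw [MulAction.mem_stabilizer_iff]
    exact hgp
  · apply Subtype.ext
    ext x
    rw [restrictHom_apply]
    exact Equiv.Perm.ofSubtype_apply_coe h.1 x

/-- the stabilizer of a point in the automorphism group of an `S(5,8,24)` is the automorphism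
group of the derived system -/
noncomputable def restrictEquiv (hΩ : Fintype.card Ω = 24) {B : Set (Finset Ω)}
    (hB : IsSteinerSystem 5 8 B) (p : Ω) :
    MulAction.stabilizer (setSystemAut B) p ≃* setSystemAut (derivedSys B p) :=
  MulEquiv.ofBijective (restrictHom B p)
    ⟨restrictHom_injective B p, restrictHom_surjective hΩ hB p⟩

/-- transitivity of the automorphism group of the derived system -/
theorem derived_pretransitive (B : Set (Finset Ω)) (p : Ω) (n : ℕ)
    (h : MulAction.IsMultiplyPretransitive (setSystemAut B) Ω (n + 1)) :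
    MulAction.IsMultiplyPretransitive (setSystemAut (derivedSys B p)) {a : Ω // a ≠ p} n := by
  rw [MulAction.isMultiplyPretransitive_iff] at h ⊢
  intro x y
  have hx : p ∉ Set.range (x.trans (Function.Embedding.subtype _)) := by
    rintro ⟨i, hi⟩
    exact (x i).2 hi
  have hy : p ∉ Set.range (y.trans (Function.Embedding.subtype _)) := by
    rintro ⟨i, hi⟩
    exact (y i).2 hi
  obtain ⟨g, hg⟩ := h (Fin.Embedding.snoc _ hx) (Fin.Embedding.snoc _ hy)
  have hgp : ((g : setSystemAut B) : Equiv.Perm Ω) p = p := by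
    have := DFunLike.congr_fun hg (Fin.last n)
    rw [Function.Embedding.smul_apply, Fin.Embedding.snoc_last, Fin.Embedding.snoc_last] at this
    exact this
  have hgi : ∀ i, ((g : setSystemAut B) : Equiv.Perm Ω) (x i) = y i := by
    intro i
    have := DFunLike.congr_fun hg (Fin.castSucc i)
    rw [Function.Embedding.smul_apply, Fin.Embedding.snoc_castSucc,
      Fin.Embedding.snoc_castSucc] at this
    exact this
  refine ⟨restrictHom B p ⟨g, by rw [MulAction.mem_stabilizer_iff]; exact hgp⟩, ?_⟩
  ext i
  rw [Function.Embedding.smul_apply]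
  exact hgi i

end

end Cfsg.Agent.Lib.Helper1.Stein
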