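import Cfsg.Agent.Lib.Helper1.SteinAut2

set_option autoImplicit false
set_option linter.unusedSectionVars false

namespace Cfsg.Agent.Lib.Helper1.Stein

open Cfsg
open scoped Pointwise

section

variable {Ω : Type*} [Fintype Ω] [DecidableEq Ω]

/-- the blocks meeting `d` in exactly `m` points, cut down to `d` -/
def traceSys (B : Set (Finset Ω)) (d : Finset Ω) (m : ℕ) : Set (Finset {p : Ω // p ∈ d}) :=
  {h | ∃ o ∈ B, (o ∩ d).card = m ∧ h = Finset.subtype (fun p => p ∈ d) o}

theorem mem_iff_of_image {d : Finset Ω} {g : Equiv.Perm Ω} (hg : d.image g = d) (x : Ω) :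
    g x ∈ d ↔ x ∈ d := by
  constructor
  · intro h
    rw [← hg, Finset.mem_image] at h
    obtain ⟨y, hy, hyx⟩ := h
    rw [← g.injective hyx]; exact hy
  · intro h
    rw [← hg]; exact Finset.mem_image_of_mem _ h

/-- the restriction of a permutation to an invariant set -/
def restrictTo (d : Finset Ω) (g : Equiv.Perm Ω) (hg : d.image g = d) :
    Equiv.Perm {p : Ω // p ∈ d} :=
  g.subtypePerm (mem_iff_of_image hg)

theorem restrictTo_apply (d : Finset Ω) (g : Equiv.Perm Ω) (hg : d.image g = d)
    (x : {p : Ω // p ∈ d}) : ((restrictTo d g hg x : {p : Ω // p ∈ d}) : Ω) = g x := rfl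

theorem image_restrictTo_subtype (d : Finset Ω) (g : Equiv.Perm Ω) (hg : d.image g = d)
    (b : Finset Ω) :
    (Finset.subtype (fun a => a ∈ d) b).image (restrictTo d g hg) =
      Finset.subtype (fun a => a ∈ d) (b.image g) := by
  ext x
  rw [Finset.mem_image, Finset.mem_subtype, Finset.mem_image]
  constructor
  · rintro ⟨y, hy, rfl⟩
    rw [Finset.mem_subtype] at hy
    exact ⟨y.1, hy, rfl⟩
  · rintro ⟨z, hz, hzx⟩
    have hzd : z ∈ d := by
      rw [← mem_iff_of_image hg, hzx]; exact x.2
    refine ⟨⟨z, hzd⟩, ?_, ?_⟩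
    · rw [Finset.mem_subtype]; exact hz
    · apply Subtype.ext
      rw [restrictTo_apply]; exact hzx

theorem restrictTo_mem_aut (B : Set (Finset Ω)) (d : Finset Ω) (m : ℕ) (g : Equiv.Perm Ω)
    (hg : d.image g = d) (hgB : g ∈ setSystemAut B) :
    restrictTo d g hg ∈ setSystemAut (traceSys B d m) := by
  rw [mem_setSystemAut_iff] at hgB ⊢
  rintro _ ⟨o, ho, hcard, rfl⟩
  rw [image_restrictTo_subtype]
  refine ⟨o.image g, hgB o ho, ?_, rfl⟩
  have : o.image g ∩ d = (o ∩ d).image g := by
    rw [Finset.image_inter _ _ g.injective, hg]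
  rw [this, Finset.card_image_of_injective _ g.injective, hcard]

theorem stab_image (G : Subgroup (Equiv.Perm Ω)) (d : Finset Ω)
    (g : MulAction.stabilizer G d) : d.image ((g : G) : Equiv.Perm Ω) = d := by
  have := g.2
  rw [MulAction.mem_stabilizer_iff] at this
  rw [← smul_finset_eq_image]
  exact this

/-- restriction, from the stabilizer of a set to the automorphisms of the trace system -/
def traceHom (G : Subgroup (Equiv.Perm Ω)) {B : Set (Finset Ω)} (hG : G ≤ setSystemAut B)
    (d : Finset Ω) (m : ℕ) : MulAction.stabilizer G d →* setSystemAut (traceSys B d m) where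
  toFun g := ⟨restrictTo d g.1.1 (stab_image G d g),
    restrictTo_mem_aut B d m _ _ (hG g.1.2)⟩
  map_one' := by
    apply Subtype.ext
    ext x
    rfl
  map_mul' g h := by
    apply Subtype.ext
    ext x
    rfl

theorem traceHom_apply (G : Subgroup (Equiv.Perm Ω)) {B : Set (Finset Ω)}
    (hG : G ≤ setSystemAut B) (d : Finset Ω) (m : ℕ) (g : MulAction.stabilizer G d)
    (x : {p : Ω // p ∈ d}) :
    ((((traceHom G hG d m g : setSystemAut (traceSys B d m)) :
      Equiv.Perm {p : Ω // p ∈ d}) x : {p : Ω // p ∈ d}) : Ω) =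
      ((g : G) : Equiv.Perm Ω) x := rfl

end

/-! ### sharply transitive actions -/

section

variable {A X : Type*} [Group A] [MulAction A X]

theorem stabilizer_eq_bot_of_transitive [MulAction.IsPretransitive A X] (x0 : X)
    (h0 : MulAction.stabilizer A x0 = ⊥) (x : X) : MulAction.stabilizer A x = ⊥ := by
  obtain ⟨c, rfl⟩ := MulAction.exists_smul_eq A x0 x
  rw [MulAction.stabilizer_smul_eq_stabilizer_map_conj, h0, Subgroup.map_bot]

theorem card_eq_of_sharp [MulAction.IsPretransitive A X] (x0 : X)
    (h0 : MulAction.stabilizer A x0 = ⊥) : Nat.card A = Nat.card X := by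
  have h1 := MulAction.index_stabilizer_of_transitive (G := A) (x := x0)
  rw [h0, Subgroup.index_bot] at h1
  exact h1

end

end Cfsg.Agent.Lib.Helper1.Stein
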