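import Cfsg.Agent.Lib.Helper1.SteinAut3

set_option autoImplicit false
set_option linter.unusedSectionVars false

namespace Cfsg.Agent.Lib.Helper1.Stein

open Cfsg
open scoped Pointwise

section

variable {α β : Type*} [Fintype α] [DecidableEq α] [Fintype β] [DecidableEq β]

/-- triviality of the stabilizers of tuples goes over along an isomorphism -/
theorem stab_transfer (e : α ≃ β) (B : Set (Finset α)) (t : ℕ)
    (h : ∀ x : Fin t ↪ β, MulAction.stabilizer (setSystemAut (mapSys e B)) x = ⊥)
    (x : Fin t ↪ α) : MulAction.stabilizer (setSystemAut B) x = ⊥ := by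
  rw [Subgroup.eq_bot_iff_forall]
  intro a ha
  rw [MulAction.mem_stabilizer_iff] at ha
  have h1 : autCongr e B a ∈ MulAction.stabilizer (setSystemAut (mapSys e B))
      (x.trans e.toEmbedding) := by
    rw [MulAction.mem_stabilizer_iff]
    ext i
    have h2 := autCongr_apply e B a (x i)
    have h3 : ((a : setSystemAut B) : Equiv.Perm α) (x i) = x i := DFunLike.congr_fun ha i
    change ((autCongr e B a : setSystemAut (mapSys e B)) : Equiv.Perm β) (e (x i)) = e (x i)
    rw [h2, h3]
  rw [h] at h1
  rw [Subgroup.mem_bot] at h1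
  exact (autCongr e B).injective (by rw [h1, map_one])

end

section

variable {n t k : ℕ} {K0 : List ℕ}

/-- the standard system: from rigidity at the first `t` points and transitivity, all stabilizers
of `t`-tuples are trivial and the order is known -/
theorem sharp_std (htn : t ≤ n)
    (hrig : ∀ g : Equiv.Perm (Fin n), (∀ b ∈ sysOf n K0, b.image g ∈ sysOf n K0) →
      (∀ i : Fin n, (i : ℕ) < t → g i = i) → g = 1)
    (htrans : MulAction.IsMultiplyPretransitive (setSystemAut (sysOf n K0)) (Fin n) t) :
    (∀ x : Fin t ↪ Fin n, MulAction.stabilizer (setSystemAut (sysOf n K0)) x = ⊥) ∧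
      Nat.card (setSystemAut (sysOf n K0)) = n.descFactorial t := by
  set x0 : Fin t ↪ Fin n := Fin.castLEEmb htn with hx0
  have h0 : MulAction.stabilizer (setSystemAut (sysOf n K0)) x0 = ⊥ := by
    rw [Subgroup.eq_bot_iff_forall]
    intro a ha
    rw [MulAction.mem_stabilizer_iff] at ha
    have h1 : (a : Equiv.Perm (Fin n)) = 1 := by
      apply hrig _ ((mem_setSystemAut_iff _ _).1 a.2)
      intro i hi
      have h2 : ((a : setSystemAut (sysOf n K0)) : Equiv.Perm (Fin n)) (x0 ⟨i, hi⟩) = x0 ⟨i, hi⟩ :=
        DFunLike.congr_fun ha ⟨i, hi⟩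
      have h3 : x0 ⟨i, hi⟩ = i := by
        apply Fin.ext
        simp [hx0]
      rw [h3] at h2
      exact h2
    exact Subtype.ext h1
  refine ⟨fun x => @stabilizer_eq_bot_of_transitive _ _ _ _ htrans x0 h0 x, ?_⟩
  rw [@card_eq_of_sharp _ _ _ _ htrans x0 h0, Nat.card_eq_fintype_card,
    Fintype.card_embedding_eq, Fintype.card_fin, Fintype.card_fin]

end

section

variable {α γ : Type*} [Fintype α] [DecidableEq α] [Fintype γ] [DecidableEq γ]
variable {n t k : ℕ} {K0 : List ℕ}

/-- the assembly: a model `D` on `γ` with a group `M` of the right order acting faithfully and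
`t`-transitively by automorphisms, rigidity of the standard system, and isomorphisms of `B` and
`D` with the standard system -/
theorem sharp_assembly (htn : t ≤ n)
    (hrig : ∀ g : Equiv.Perm (Fin n), (∀ b ∈ sysOf n K0, b.image g ∈ sysOf n K0) →
      (∀ i : Fin n, (i : ℕ) < t → g i = i) → g = 1)
    {D : Set (Finset γ)} (e2 : γ ≃ Fin n) (he2 : mapSys e2 D = sysOf n K0)
    (htrans : MulAction.IsMultiplyPretransitive (setSystemAut D) γ t)
    {M : Type*} [Group M] (hM : Nat.card M = n.descFactorial t)
    (ρ : M →* setSystemAut D) (hρ : Function.Injective ρ)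
    {B : Set (Finset α)} (e1 : α ≃ Fin n) (he1 : mapSys e1 B = sysOf n K0) :
    Nonempty (setSystemAut B ≃* M) ∧ MulAction.IsMultiplyPretransitive (setSystemAut B) α t ∧
      ∀ x : Fin t ↪ α, MulAction.stabilizer (setSystemAut B) x = ⊥ := by
  have htrans0 : MulAction.IsMultiplyPretransitive (setSystemAut (sysOf n K0)) (Fin n) t := by
    rw [← he2]; exact pretransitive_congr e2 D t htrans
  obtain ⟨hstab, hcard⟩ := sharp_std htn hrig htrans0
  -- the group of the model
  have hcardD : Nat.card (setSystemAut D) = n.descFactorial t := by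
    rw [Nat.card_congr (autCongr e2 D).toEquiv, he2]; exact hcard
  have hbij : Function.Bijective ρ :=
    hρ.bijective_of_nat_card_le (by rw [hcardD, hM])
  have φ1 : setSystemAut B ≃* setSystemAut (sysOf n K0) := by
    rw [← he1]; exact autCongr e1 B
  have φ2 : setSystemAut D ≃* setSystemAut (sysOf n K0) := by
    rw [← he2]; exact autCongr e2 D
  refine ⟨⟨(φ1.trans φ2.symm).trans (MulEquiv.ofBijective ρ hbij).symm⟩, ?_, ?_⟩
  · have h1 := pretransitive_congr e1.symm (sysOf n K0) t htrans0
    rw [← he1, mapSys_symm_self] at h1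
    exact h1
  · apply stab_transfer e1 B t
    rw [he1]; exact hstab

end

end Cfsg.Agent.Lib.Helper1.Stein
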