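import Cfsg.Agent.Lib.Helper1.Stein10

set_option autoImplicit false
set_option maxRecDepth 1000000

namespace Cfsg.Agent.Lib.Helper1.Stein.W11

open Cfsg Cfsg.Agent.Lib.Helper1.Stein

/-- the blocks of the standard system -/
def K0 : List ℕ := [31, 103, 121, 171, 182, 213, 218, 236, 301, 314, 334, 339, 372, 391, 412, 433, 457, 482, 558, 565, 587, 604, 626, 653, 659, 696, 710, 737, 790, 793, 803, 837, 872, 906, 932, 976, 1075, 1084, 1101, 1110, 1130, 1166, 1177, 1189, 1219, 1264, 1291, 1301, 1318, 1368, 1377, 1426, 1448, 1476, 1543, 1562, 1577, 1617, 1636, 1684, 1698, 1736, 1804, 1840, 1858, 1921]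

def c0 : Cert := (.forced 50 6 [32, 6, 1] 626 (.forced 74 4 [35, 9, 1] 346 (.forced 26 9 [41, 3, 0] 1562 (.forced 98 7 [41, 3, 2] 482 (.forced 138 8 [38, 11, 5] 906 (.forced 146 8 [35, 9, 6] 1426 (.forced 194 9 [40, 10, 2] 1730 (.forced 290 9 [39, 16, 3] 1826 (.branch 44 4 [35, 17] (.excl 27 (.excl 9 (.kid 572 (.forced 44 6 [36, 18, 0] 236 (.forced 52 6 [34, 16, 1] 372 (.forced 56 8 [30, 12, 2] 1336 (.forced 76 4 [38, 20, 2] 1116 (.forced 28 7 [52, 4, 0] 412 (.forced 88 7 [33, 12, 1] 728 (.forced 100 9 [53, 5, 4] 1636 (.forced 104 8 [35, 16, 6] 872 (.forced 112 7 [36, 16, 6] 1264 (.forced 148 9 [42, 22, 4] 1684 (.forced 164 8 [43, 24, 9] 1444 (.forced 168 9 [38, 21, 10] 1704 (.forced 176 8 [45, 22, 3] 944 (.forced 196 8 [44, 26, 12] 964 (.forced 200 8 [57, 13, 8] 1480 (.forced 268 9 [50, 33, 10] 1804 (.forced 336 9 [40, 23, 14] 1872 (.leaf [0, 1, 2,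 3, 4, 6, 5, 7, 8, 9, 10] [65, 64, 45, 60, 30, 50, 27, 16, 52, 24, 35, 58, 15, 63, 12, 41, 44, 22, 34, 47, 61, 17, 25, 51, 56, 11, 31, 38, 29, 39, 54, 49, 9, 21, 3, 4, 55, 13, 53, 32, 26, 33, 40, 48, 57, 8, 59, 46, 28, 14, 37, 20, 2, 6, 62, 23, 42, 43, 10, 7, 19, 5, 1, 0, 18, 36])))))))))))))))))) Cert.done))))))))))))

def c1 : Cert := (.forced 42 6 [34, 8, 0] 362 (.forced 50 6 [32, 6, 1] 242 (.forced 74 4 [35, 9, 1] 602 (.forced 26 7 [41, 3, 0] 410 (.forced 98 9 [41, 3, 2] 1634 (.forced 138 9 [38, 13, 1] 1674 (.forced 162 8 [36, 14, 4] 930 (.forced 194 8 [40, 8, 5] 1474 (.forced 274 9 [39, 11, 4] 1810 (.branch 44 4 [35, 17] (.excl 27 (.kid 316 (.forced 44 6 [36, 18, 0] 620 (.forced 52 6 [34, 16, 1] 1140 (.forced 56 7 [30, 12, 2] 696 (.forced 76 4 [38, 20, 2] 220 (.forced 28 9 [52, 4, 0] 1564 (.forced 88 8 [33, 12, 1] 1368 (.forced 100 7 [53, 5, 4] 484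 (.forced 104 7 [35, 16, 6] 1256 (.forced 112 8 [36, 16, 6] 880 (.forced 140 8 [43, 27, 5] 1420 (.forced 148 8 [43, 22, 6] 916 (.forced 164 9 [44, 29, 4] 1700 (.forced 176 8 [45, 20, 9] 1456 (.forced 200 8 [56, 9, 5] 968 (.forced 208 9 [38, 22, 10] 1744 (.forced 296 9 [42, 24, 15] 1832 (.forced 324 9 [51, 29, 9] 1860 (.leaf [0, 1, 2, 3, 4, 5, 6, 9, 10, 7, 8] [65, 64, 45, 61, 32, 47, 24, 16, 53, 27, 34, 55, 15, 62, 12, 43, 42, 22, 35, 50, 60, 13, 25, 51, 56, 14, 28, 38, 29, 40, 57, 48, 9, 21, 5, 2, 58, 17, 52, 30, 26, 33, 39, 49, 54, 8, 59, 46, 31, 11, 37, 18, 1, 0, 63, 23, 44, 41, 10, 6, 20, 3, 7, 4, 19, 36])))))))))))))))))) (.excl 14 Cert.done)))))))))))))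

def c2 : Cert := (.kid 121 (.forced 41 7 [16, 8, 0] 425 (.forced 49 9 [14, 6, 1] 1585 (.forced 73 9 [17, 9, 2] 1609 (.forced 81 7 [13, 5, 3] 465 (.forced 137 4 [19, 10, 3] 1177 (.forced 25 8 [25, 5, 0] 793 (.forced 161 6 [18, 11, 5] 737 (.forced 97 8 [26, 7, 0] 1377 (.forced 385 9 [26, 7, 4] 1921 (.branch 14 5 [29] (.excl 28 (.kid 174 (.branch 14 6 [30, 0] (.excl 17 (.kid 590 (.branch 14 8 [31, 1, 0] (.excl 25 Cert.done)) (.kid 1102 (.forced 14 8 [31, 1, 0] 782 (.branch 38 4 [31, 2] (.excl 25 (.kid 566 (.forced 38 8 [32, 3, 0] 1318 (.forced 262 4 [32, 2, 0] 342 (.forced 22 7 [35, 2, 0] 1174 (.forced 70 7 [35, 5, 1] 710 (.branch 42 4 [33, 7] (.excl 17 (.excl 30 (.kid 1082 c1 Cert.done)))))))) (.kid 1078 (.branch 38 8 [32, 3, 0] (.excl 1 Cert.done)) Cert.done))))) Cert.done)))) (.kid 302 (.branch 14 6 [30, 0] (.excl 25 (.kid 590 (.forced 14 7 [31, 1,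 0] 1166 (.branch 38 4 [31, 2] (.excl 17 (.kid 566 (.branch 38 7 [32, 3, 0] (.excl 1 Cert.done)) (.kid 1078 (.forced 38 7 [32, 3, 0] 678 (.forced 134 4 [32, 2, 0] 214 (.forced 22 8 [35, 2, 0] 790 (.forced 70 8 [35, 5, 1] 1350 (.branch 42 4 [33, 7] (.excl 17 (.kid 186 (.forced 42 6 [34, 8, 0] 1130 c0) (.excl 4 Cert.done)))))))) Cert.done))))) (.kid 1102 (.branch 14 7 [31, 1, 0] (.excl 17 Cert.done)) Cert.done)))) (.excl 25 (.excl 17 Cert.done))))))))))))))) (.excl 4 (.excl 12 Cert.done)))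

def c3 : Cert := (.forced 50 9 [32, 6, 1] 1586 (.forced 74 9 [35, 9, 2] 1610 (.forced 82 7 [31, 5, 3] 466 (.forced 138 4 [37, 10, 3] 1178 (.forced 26 8 [43, 5, 0] 794 (.forced 162 6 [36, 11, 5] 738 (.forced 98 8 [44, 7, 0] 1378 (.forced 386 9 [44, 7, 4] 1922 (.branch 44 4 [35, 17] (.excl 9 (.excl 14 (.kid 572 (.forced 44 6 [36, 18, 0] 236 (.forced 52 6 [34, 16, 1] 372 (.forced 56 8 [30, 12, 2] 1336 (.forced 76 4 [38, 20, 2] 1116 (.forced 28 7 [52, 4, 0] 412 (.forced 88 7 [30, 15, 1] 728 (.forced 100 9 [53, 5, 4] 1636 (.forced 104 8 [34, 17, 6] 872 (.forced 112 7 [34, 18, 6] 1264 (.forced 148 9 [40, 24, 4] 1684 (.forced 164 8 [42, 25, 9] 1444 (.forced 168 9 [39, 20, 10] 1704 (.forced 176 8 [40, 27, 3] 944 (.forced 196 8 [44, 26, 12] 964 (.forced 200 8 [57, 13, 8] 1480 (.forced 268 9 [51, 32, 10] 1804 (.forced 336 9 [41, 22, 14] 1872 (.leaf [0, 1, 2,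 3, 4, 9, 10, 8, 7, 6, 5] [65, 62, 41, 59, 28, 47, 21, 1, 51, 22, 33, 56, 7, 63, 12, 38, 39, 18, 35, 50, 61, 17, 25, 53, 58, 14, 31, 36, 32, 45, 57, 49, 5, 26, 6, 4, 55, 13, 52, 29, 24, 34, 42, 46, 54, 0, 60, 48, 30, 11, 37, 23, 2, 3, 64, 27, 44, 43, 10, 15, 19, 9, 16, 8, 20, 40])))))))))))))))))) Cert.done))))))))))))

def c4 : Cert := (.kid 1082 (.forced 42 6 [34, 8, 0] 362 (.forced 50 6 [32, 6, 1] 242 (.forced 74 4 [35, 9, 1] 602 (.forced 26 7 [41, 3, 0] 410 (.forced 98 9 [41, 3, 2] 1634 (.forced 138 9 [38, 13, 1] 1674 (.forced 162 8 [36, 14, 4] 930 (.forced 194 8 [40, 8, 5] 1474 (.forced 274 9 [39, 11, 4] 1810 (.branch 44 4 [35, 17] (.kid 124 (.forced 44 9 [36, 18, 0] 1580 (.forced 52 7 [34, 16, 1] 436 (.forced 56 8 [30, 12, 2] 824 (.forced 76 7 [38, 20, 3] 460 (.forced 84 9 [35, 17, 4] 1620 (.forced 88 7 [30, 12, 5] 1240 (.forced 104 7 [33, 15, 6]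 744 (.forced 112 8 [33, 15, 7] 1392 (.forced 140 4 [42, 26, 4] 668 (.forced 28 8 [57, 9, 0] 1308 (.forced 164 6 [42, 28, 8] 1252 (.forced 100 8 [58, 11, 0] 868 (.forced 168 8 [40, 30, 5] 1448 (.forced 176 9 [41, 21, 11] 1712 (.forced 208 8 [45, 22, 8] 976 (.forced 328 9 [40, 24, 11] 1864 (.forced 388 9 [62, 14, 12] 1924 (.leaf [0, 1, 2, 3, 4, 7, 8, 10, 9, 5, 6] [65, 62, 41, 61, 32, 50, 27, 16, 52, 24, 34, 55, 12, 64, 17, 43, 44, 22, 33, 47, 59, 7, 18, 53, 58, 14, 31, 36, 30, 42, 54, 46, 1, 26, 5, 9, 56, 8, 51, 29, 21, 35, 45, 49, 57, 3, 60, 48, 28, 11, 37, 25, 10, 6, 63, 23, 39, 38, 0, 15, 20, 4, 13, 2, 19, 40])))))))))))))))))) (.excl 14 (.excl 9 Cert.done))))))))))))) Cert.done)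

def c5 : Cert := (.kid 185 (.forced 41 6 [16, 8, 0] 1129 (.forced 49 6 [14, 6, 1] 625 (.forced 73 4 [17, 9, 1] 345 (.forced 25 9 [23, 3, 0] 1561 (.forced 97 7 [23, 3, 2] 481 (.forced 137 8 [20, 11, 5] 905 (.forced 145 8 [17, 9, 6] 1425 (.forced 193 9 [22, 10, 2] 1729 (.forced 289 9 [21, 16, 3] 1825 (.branch 14 5 [29] (.excl 28 (.kid 174 (.branch 14 6 [30, 0] (.kid 334 (.branch 14 9 [31, 1, 0] (.excl 28 Cert.done)) (.excl 17 (.kid 1102 (.forced 14 8 [31, 1, 0] 782 (.branch 38 4 [31, 2] (.excl 25 (.kid 566 (.forced 38 8 [32, 3, 0] 1318 (.forced 262 4 [32, 2, 0] 342 (.forced 22 7 [35, 2, 0] 1174 (.forced 70 7 [35, 5, 1] 710 (.branch 42 4 [33, 7] (.kid 122 (.branch 42 8 [34, 8, 0] (.excl 4 Cert.done)) (.excl 30 c4))))))) (.excl 17 Cert.done))))) Cert.done)))) (.excl 17 (.excl 25 (.kid 1070 (.branch 14 6 [30, 0] (.excl 25 (.kid 334 (.forced 14 7 [31, 1,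 0] 654 (.branch 38 4 [31, 2] (.kid 182 (.forced 38 8 [32, 3, 0] 806 (.forced 134 6 [32, 2, 1] 1222 (.forced 70 4 [34, 4, 0] 598 (.forced 22 8 [36, 3, 0] 1302 (.branch 42 4 [33, 7] (.kid 122 (.forced 42 7 [34, 8, 0] 426 c3) (.excl 4 (.excl 30 Cert.done)))))))) (.excl 25 (.kid 566 (.branch 38 7 [32, 3, 0] (.excl 31 Cert.done)) Cert.done))))) (.excl 17 Cert.done)))) Cert.done))))))))))))))) (.excl 4 Cert.done))

def c6 : Cert := (.forced 42 7 [34, 8, 0] 426 (.forced 50 9 [32, 6, 1] 1586 (.forced 74 9 [35, 9, 2] 1610 (.forced 82 7 [31, 5, 3] 466 (.forced 138 4 [37, 10, 3] 1178 (.forced 26 8 [43, 5, 0] 794 (.forced 162 6 [36, 11, 5] 738 (.forced 98 8 [44, 7, 0] 1378 (.forced 386 9 [44, 7, 4] 1922 (.branch 44 4 [35, 17] (.excl 9 (.kid 316 (.forced 44 6 [36, 18, 0] 620 (.forced 52 6 [34, 16, 1] 1140 (.forced 56 7 [30, 12, 2] 696 (.forced 76 4 [38, 20, 2] 220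 (.forced 28 9 [52, 4, 0] 1564 (.forced 88 8 [30, 15, 1] 1368 (.forced 100 7 [53, 5, 4] 484 (.forced 104 7 [34, 17, 6] 1256 (.forced 112 8 [34, 18, 6] 880 (.forced 140 8 [45, 25, 5] 1420 (.forced 148 8 [40, 25, 6] 916 (.forced 164 9 [47, 26, 4] 1700 (.forced 176 8 [38, 27, 9] 1456 (.forced 200 8 [56, 9, 5] 968 (.forced 208 9 [40, 20, 10] 1744 (.forced 296 9 [42, 24, 15] 1832 (.forced 324 9 [47, 33, 9] 1860 (.leaf [0, 1, 2, 3, 4, 10, 9, 6, 5, 8, 7] [65, 63, 41, 59, 28, 47, 22, 7, 51, 21, 33, 56, 6, 62, 12, 36, 39, 18, 34, 48, 60, 13, 23, 52, 55, 11, 30, 37, 29, 42, 54, 46, 3, 24, 0, 2, 58, 17, 53, 32, 26, 35, 45, 49, 57, 4, 61, 50, 31, 14, 38, 25, 1, 5, 64, 27, 44, 43, 10, 15, 19, 9, 16, 8, 20, 40])))))))))))))))))) (.excl 32 Cert.done)))))))))))))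

def c7 : Cert := (.kid 186 (.forced 42 6 [34, 8, 0] 1130 (.forced 50 6 [32, 6, 1] 626 (.forced 74 4 [35, 9, 1] 346 (.forced 26 9 [41, 3, 0] 1562 (.forced 98 7 [41, 3, 2] 482 (.forced 138 8 [38, 11, 5] 906 (.forced 146 8 [35, 9, 6] 1426 (.forced 194 9 [40, 10, 2] 1730 (.forced 290 9 [39, 16, 3] 1826 (.branch 44 4 [35, 17] (.kid 124 (.forced 44 9 [36, 18, 0] 1580 (.forced 52 7 [34, 16, 1] 436 (.forced 56 8 [30, 12, 2] 824 (.forced 76 7 [38, 20, 3] 460 (.forced 84 9 [35, 17, 4] 1620 (.forced 88 7 [30, 12, 5] 1240 (.forced 104 7 [33, 15, 6] 744 (.forced 112 8 [33, 15, 7] 1392 (.forced 140 4 [44, 24, 4] 668 (.forced 28 8 [57, 9, 0] 1308 (.forced 164 6 [46, 24, 8] 1252 (.forced 100 8 [58, 11, 0] 868 (.forced 168 8 [48, 22, 5] 1448 (.forced 176 9 [39, 23, 11] 1712 (.forced 208 8 [40, 27, 8] 976 (.forced 328 9 [42, 22, 11] 1864 (.forced 388 9 [62, 14, 12] 1924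 (.leaf [0, 1, 2, 3, 4, 8, 7, 5, 6, 10, 9] [65, 63, 41, 60, 30, 48, 24, 13, 53, 27, 35, 58, 15, 64, 17, 43, 44, 22, 33, 47, 59, 7, 20, 52, 55, 11, 28, 37, 32, 45, 57, 49, 4, 26, 6, 9, 56, 8, 51, 29, 21, 34, 42, 46, 54, 2, 61, 50, 31, 14, 38, 25, 10, 5, 62, 23, 39, 36, 0, 12, 19, 1, 16, 3, 18, 40])))))))))))))))))) (.excl 32 (.excl 14 Cert.done))))))))))))) (.excl 4 Cert.done))

def c8 : Cert := (.kid 1081 (.forced 41 6 [16, 8, 0] 361 (.forced 49 6 [14, 6, 1] 241 (.forced 73 4 [17, 9, 1] 601 (.forced 25 7 [23, 3, 0] 409 (.forced 97 9 [23, 3, 2] 1633 (.forced 137 9 [20, 13, 1] 1673 (.forced 161 8 [18, 14, 4] 929 (.forced 193 8 [22, 8, 5] 1473 (.forced 273 9 [21, 11, 4] 1809 (.branch 14 5 [29] (.excl 28 (.excl 17 (.kid 302 (.branch 14 6 [30, 0] (.excl 25 (.kid 590 (.forced 14 7 [31, 1, 0] 1166 (.branch 38 4 [31, 2] (.kid 182 (.branch 38 9 [32, 3, 0] (.excl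 30 Cert.done)) (.excl 17 (.kid 1078 (.forced 38 7 [32, 3, 0] 678 (.forced 134 4 [32, 2, 0] 214 (.forced 22 8 [35, 2, 0] 790 (.forced 70 8 [35, 5, 1] 1350 (.branch 42 4 [33, 7] (.kid 122 (.branch 42 7 [34, 8, 0] (.excl 6 Cert.done)) c7)))))) Cert.done))))) (.excl 17 Cert.done)))) (.excl 25 (.kid 1070 (.branch 14 6 [30, 0] (.excl 25 (.kid 334 (.forced 14 7 [31, 1, 0] 654 (.branch 38 4 [31, 2] (.kid 182 (.forced 38 8 [32, 3, 0] 806 (.forced 134 6 [32, 2, 1] 1222 (.forced 70 4 [34, 4, 0] 598 (.forced 22 8 [36, 3, 0] 1302 (.branch 42 4 [33, 7] (.kid 122 c6 (.excl 4 (.excl 30 Cert.done)))))))) (.excl 25 (.excl 17 Cert.done))))) (.kid 590 (.branch 14 7 [31, 1, 0] (.excl 29 Cert.done)) Cert.done)))) Cert.done))))))))))))))) Cert.done)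

def c9 : Cert := (.branch 11 6 [4, 0] (.kid 203 (.forced 11 8 [5, 1, 0] 1291 (.branch 35 4 [5, 2] (.kid 179 (.branch 35 8 [6, 3, 0] (.excl 1 Cert.done)) (.kid 307 (.forced 35 7 [6, 3, 0] 1187 (.forced 131 4 [6, 3, 0] 659 (.forced 19 6 [9, 2, 0] 1107 (.forced 67 8 [9, 5, 0] 835 (.branch 13 5 [11] (.excl 10 (.kid 173 (.branch 13 6 [12, 0] (.kid 333 (.branch 13 9 [13, 1, 0] (.excl 10 Cert.done)) (.kid 589 (.branch 13 8 [13, 1, 0] (.excl 7 Cert.done)) (.kid 1101 (.forced 13 8 [13, 1, 0] 781 (.branch 37 4 [13, 2] (.excl 7 (.kid 565 (.forced 37 8 [14, 3, 0] 1317 (.forced 261 4 [14, 2, 0] 341 (.forced 21 7 [17, 2, 0] 1173 (.forced 69 7 [17, 5, 1] 709 (.branch 41 4 [15, 7] (.kid 121 (.branch 41 8 [16, 8, 0] (.excl 4 Cert.done)) (.excl 12 c8))))))) (.kid 1077 (.branch 37 8 [14, 3, 0] (.excl 1 Cert.done)) Cert.done))))) Cert.done)))) (.kid 301 (.branch 13 6 [12,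 0] (.excl 7 (.kid 589 (.forced 13 7 [13, 1, 0] 1165 (.branch 37 4 [13, 2] (.kid 181 (.branch 37 9 [14, 3, 0] (.excl 12 Cert.done)) (.kid 565 (.branch 37 7 [14, 3, 0] (.excl 1 Cert.done)) (.kid 1077 (.forced 37 7 [14, 3, 0] 677 (.forced 133 4 [14, 2, 0] 213 (.forced 21 8 [17, 2, 0] 789 (.forced 69 8 [17, 5, 1] 1349 (.branch 41 4 [15, 7] (.kid 121 (.branch 41 7 [16, 8, 0] (.excl 6 Cert.done)) c5)))))) Cert.done))))) (.kid 1101 (.forced 13 7 [13, 1, 0] 653 (.branch 37 4 [13, 2] (.kid 181 (.branch 37 9 [14, 3, 0] (.excl 12 Cert.done)) (.kid 565 (.branch 37 7 [14, 3, 0] (.excl 7 Cert.done)) (.kid 1077 (.branch 37 7 [14, 3, 0] (.excl 1 Cert.done)) Cert.done))))) Cert.done)))) (.excl 7 (.kid 1069 (.branch 13 6 [12, 0] (.excl 7 (.kid 333 (.forced 13 7 [13, 1, 0] 653 (.branch 37 4 [13, 2] (.kid 181 (.forced 37 8 [14, 3, 0] 805 (.forced 133 6 [14, 2, 1] 1221 (.forced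 69 4 [16, 4, 0] 597 (.forced 21 8 [18, 3, 0] 1301 (.branch 41 4 [15, 7] c2))))) (.excl 7 (.kid 565 (.branch 37 7 [14, 3, 0] (.excl 13 Cert.done)) Cert.done))))) (.kid 589 (.branch 13 7 [13, 1, 0] (.excl 11 Cert.done)) Cert.done)))) Cert.done)))))))))) (.kid 1075 (.branch 35 7 [6, 3, 0] (.excl 5 Cert.done)) Cert.done))))) (.kid 1099 (.branch 11 7 [5, 1, 0] (.excl 3 Cert.done)) Cert.done)))

def c10 : Cert := (.kid 314 (.forced 42 6 [34, 8, 0] 1130 (.forced 50 6 [32, 6, 1] 626 (.forced 74 4 [35, 9, 1] 218 (.forced 26 9 [41, 3, 0] 1562 (.forced 98 7 [41, 3, 2] 482 (.forced 138 8 [39, 11, 2] 906 (.forced 146 8 [34, 11, 3] 1426 (.forced 162 9 [41, 12, 2] 1698 (.forced 322 9 [37, 15, 3] 1858 (.branch 44 4 [35, 17] (.kid 124 (.forced 44 7 [36, 18, 0] 428 (.forced 52 9 [34, 16, 1] 1588 (.forced 56 7 [30, 12, 2] 1208 (.forced 76 9 [38, 20, 3] 1612 (.forced 84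 7 [34, 16, 4] 468 (.forced 88 8 [30, 12, 5] 856 (.forced 104 7 [33, 15, 6] 744 (.forced 112 8 [33, 15, 7] 1392 (.forced 140 4 [43, 24, 7] 668 (.forced 28 8 [57, 9, 0] 1308 (.forced 164 6 [42, 25, 9] 1252 (.forced 100 8 [58, 11, 0] 868 (.forced 176 8 [38, 27, 9] 944 (.forced 200 8 [48, 20, 6] 1480 (.forced 208 9 [40, 21, 9] 1744 (.forced 296 9 [42, 25, 14] 1832 (.forced 388 9 [62, 15, 11] 1924 (.leaf [0, 1, 2, 3, 4, 7, 8, 5, 6, 10, 9] [65, 63, 41, 61, 32, 50, 27, 16, 52, 24, 34, 56, 12, 64, 17, 43, 44, 22, 33, 48, 59, 7, 20, 53, 58, 14, 31, 38, 29, 42, 54, 46, 3, 26, 6, 9, 55, 8, 51, 28, 21, 35, 45, 49, 57, 4, 60, 47, 30, 11, 37, 25, 10, 5, 62, 23, 39, 36, 0, 15, 19, 1, 13, 2, 18, 40])))))))))))))))))) (.excl 14 (.excl 9 Cert.done))))))))))))) (.excl 30 Cert.done))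

def c11 : Cert := (.forced 42 9 [34, 8, 0] 1578 (.forced 50 7 [32, 6, 1] 434 (.forced 74 7 [35, 9, 2] 458 (.forced 82 9 [32, 6, 3] 1618 (.forced 138 4 [38, 10, 1] 1178 (.forced 26 8 [43, 5, 0] 794 (.forced 162 6 [40, 10, 4] 738 (.forced 98 8 [44, 7, 0] 1378 (.forced 386 9 [44, 6, 5] 1922 (.branch 44 4 [35, 17] (.excl 9 (.kid 188 (.forced 44 6 [36, 18, 0] 620 (.forced 52 6 [34, 16, 1] 1140 (.forced 56 8 [30, 12, 2] 1336 (.forced 76 4 [38, 20, 2] 348 (.forced 28 9 [52, 4, 0] 1564 (.forced 88 7 [30, 15, 1] 728 (.forced 100 7 [53, 5, 4] 484 (.forced 104 7 [34, 17, 6] 1256 (.forced 112 8 [34, 18, 6] 880 (.forced 140 8 [44, 25, 9] 1420 (.forced 148 8 [41, 23, 10] 916 (.forced 168 8 [55, 11, 3] 936 (.forced 176 9 [38, 20, 12] 1712 (.forced 196 9 [48, 26, 6] 1732 (.forced 208 8 [40, 27, 8] 1488 (.forced 292 9 [48, 33, 8] 1828 (.forced 328 9 [43, 23, 12] 1864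 (.leaf [0, 1, 2, 3, 4, 9, 10, 6, 5, 8, 7] [65, 63, 41, 59, 29, 48, 22, 7, 51, 21, 33, 55, 6, 62, 12, 36, 39, 18, 35, 50, 61, 17, 25, 53, 58, 14, 31, 38, 32, 45, 57, 49, 5, 26, 1, 4, 56, 13, 52, 30, 24, 34, 42, 46, 54, 2, 60, 47, 28, 11, 37, 23, 0, 3, 64, 27, 44, 43, 10, 15, 19, 9, 16, 8, 20, 40])))))))))))))))))) (.excl 14 Cert.done)))))))))))))

def c12 : Cert := (.kid 569 (.forced 41 6 [16, 8, 0] 361 (.forced 49 6 [14, 6, 1] 241 (.forced 73 4 [17, 9, 1] 1113 (.forced 25 7 [23, 3, 0] 409 (.forced 97 9 [23, 3, 2] 1633 (.forced 137 9 [21, 12, 1] 1673 (.forced 161 8 [22, 10, 4] 1441 (.forced 193 8 [16, 14, 5] 961 (.forced 273 9 [19, 13, 4] 1809 (.branch 14 5 [29] (.excl 28 (.excl 25 (.kid 302 (.branch 14 6 [30, 0] (.excl 17 (.excl 25 (.kid 1102 (.forced 14 7 [31, 1, 0] 654 (.branch 38 4 [31, 2] (.kid 182 (.branch 38 9 [32, 3, 0] (.excl 30 Cert.done)) (.kid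 566 (.forced 38 7 [32, 3, 0] 1190 (.forced 134 4 [32, 2, 0] 214 (.forced 22 8 [35, 2, 0] 1302 (.forced 70 8 [35, 5, 1] 838 (.branch 42 4 [33, 7] (.kid 122 c11 (.excl 4 (.excl 30 Cert.done)))))))) (.excl 25 Cert.done))))) Cert.done)))) (.kid 558 (.branch 14 6 [30, 0] (.excl 17 (.kid 334 (.forced 14 7 [31, 1, 0] 1166 (.branch 38 4 [31, 2] (.kid 182 (.forced 38 8 [32, 3, 0] 1318 (.forced 134 6 [32, 2, 1] 710 (.forced 70 4 [34, 4, 0] 1110 (.forced 22 8 [36, 3, 0] 790 (.branch 42 4 [33, 7] (.kid 122 (.branch 42 8 [34, 8, 0] (.excl 4 Cert.done)) c10)))))) (.excl 17 (.excl 25 Cert.done))))) (.kid 1102 (.branch 14 7 [31, 1, 0] (.excl 29 Cert.done)) Cert.done)))) (.excl 17 Cert.done))))))))))))))) Cert.done)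

def c13 : Cert := (.kid 570 (.forced 42 6 [34, 8, 0] 362 (.forced 50 6 [32, 6, 1] 242 (.forced 74 4 [35, 9, 1] 1114 (.forced 26 7 [41, 3, 0] 410 (.forced 98 9 [41, 3, 2] 1634 (.forced 138 9 [39, 12, 1] 1674 (.forced 162 8 [40, 10, 4] 1442 (.forced 194 8 [34, 14, 5] 962 (.forced 274 9 [37, 13, 4] 1810 (.branch 44 4 [35, 17] (.kid 124 (.forced 44 7 [36, 18, 0] 428 (.forced 52 9 [34, 16, 1] 1588 (.forced 56 7 [30, 12, 2] 1208 (.forced 76 9 [38, 20, 3] 1612 (.forced 84 7 [34, 16, 4] 468 (.forced 88 8 [30, 12, 5] 856 (.forced 104 7 [33, 15, 6] 744 (.forced 112 8 [33, 15, 7] 1392 (.forced 140 4 [42, 25, 7] 668 (.forced 28 8 [57, 9, 0] 1308 (.forced 164 6 [43, 24, 9] 1252 (.forced 100 8 [58, 11, 0] 868 (.forced 176 8 [45, 20, 9] 944 (.forced 200 8 [38, 30, 6] 1480 (.forced 208 9 [39, 22, 9] 1744 (.forced 296 9 [43, 24, 14] 1832 (.forced 388 9 [62, 15, 11]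 1924 (.leaf [0, 1, 2, 3, 4, 8, 7, 10, 9, 5, 6] [65, 62, 41, 60, 29, 47, 24, 13, 53, 27, 35, 58, 15, 64, 17, 43, 44, 22, 33, 46, 59, 7, 18, 52, 56, 11, 28, 36, 32, 45, 57, 49, 1, 26, 5, 9, 55, 8, 51, 30, 21, 34, 42, 48, 54, 2, 61, 50, 31, 14, 37, 25, 10, 6, 63, 23, 39, 38, 0, 12, 19, 3, 16, 4, 20, 40])))))))))))))))))) (.excl 32 (.excl 14 Cert.done))))))))))))) Cert.done)

def c14 : Cert := (.forced 50 7 [32, 6, 1] 434 (.forced 74 7 [35, 9, 2] 458 (.forced 82 9 [32, 6, 3] 1618 (.forced 138 4 [38, 10, 1] 1178 (.forced 26 8 [43, 5, 0] 794 (.forced 162 6 [40, 10, 4] 738 (.forced 98 8 [44, 7, 0] 1378 (.forced 386 9 [44, 6, 5] 1922 (.branch 44 4 [35, 17] (.excl 9 (.excl 32 (.kid 1084 (.forced 44 6 [36, 18, 0] 236 (.forced 52 6 [34, 16, 1] 372 (.forced 56 7 [30, 12, 2] 696 (.forced 76 4 [38, 20, 2] 604 (.forced 28 7 [52, 4, 0] 412 (.forced 88 8 [30, 15, 1]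 1368 (.forced 100 9 [53, 5, 4] 1636 (.forced 104 8 [34, 17, 6] 872 (.forced 112 7 [34, 18, 6] 1264 (.forced 148 9 [42, 22, 4] 1684 (.forced 164 8 [43, 24, 9] 932 (.forced 168 8 [55, 10, 8] 1448 (.forced 196 8 [43, 25, 11] 1476 (.forced 200 9 [38, 20, 12] 1736 (.forced 208 8 [39, 27, 5] 976 (.forced 268 9 [50, 33, 10] 1804 (.forced 304 9 [44, 24, 14] 1840 (.leaf [0, 1, 2, 3, 4, 10, 9, 8, 7, 6, 5] [65, 62, 41, 59, 29, 46, 21, 1, 51, 22, 33, 55, 7, 63, 12, 38, 39, 18, 34, 47, 60, 13, 23, 52, 56, 11, 28, 36, 30, 42, 54, 48, 3, 24, 4, 2, 58, 17, 53, 32, 26, 35, 45, 49, 57, 0, 61, 50, 31, 14, 37, 25, 5, 6, 64, 27, 44, 43, 10, 15, 19, 9, 16, 8, 20, 40])))))))))))))))))) Cert.done))))))))))))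

def c15 : Cert := (.kid 313 (.forced 41 6 [16, 8, 0] 1129 (.forced 49 6 [14, 6, 1] 625 (.forced 73 4 [17, 9, 1] 217 (.forced 25 9 [23, 3, 0] 1561 (.forced 97 7 [23, 3, 2] 481 (.forced 137 8 [21, 11, 2] 905 (.forced 145 8 [16, 11, 3] 1425 (.forced 161 9 [23, 12, 2] 1697 (.forced 321 9 [19, 15, 3] 1857 (.branch 14 5 [29] (.excl 28 (.excl 25 (.kid 302 (.branch 14 6 [30, 0] (.kid 206 (.branch 14 9 [31, 1, 0] (.excl 28 Cert.done)) (.excl 25 (.kid 1102 (.forced 14 7 [31, 1, 0] 654 (.branch 38 4 [31, 2] (.excl 17 (.kid 566 (.forced 38 7 [32, 3, 0] 1190 (.forced 134 4 [32, 2, 0] 214 (.forced 22 8 [35, 2, 0] 1302 (.forced 70 8 [35, 5, 1] 838 (.branch 42 4 [33, 7] (.kid 122 (.forced 42 9 [34, 8, 0] 1578 c14) (.excl 4 (.excl 30 Cert.done)))))))) (.excl 25 Cert.done))))) Cert.done)))) (.excl 17 (.kid 1070 (.branch 14 6 [30, 0] (.kid 206 (.forced 14 8 [31, 1, 0]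 782 (.branch 38 4 [31, 2] (.excl 17 (.kid 310 (.forced 38 7 [32, 3, 0] 678 (.forced 134 4 [32, 3, 0] 1174 (.forced 22 6 [35, 2, 0] 598 (.forced 70 8 [35, 5, 0] 1350 (.branch 42 4 [33, 7] (.kid 122 (.branch 42 8 [34, 8, 0] (.excl 6 Cert.done)) (.excl 4 c13))))))) (.kid 566 (.branch 38 7 [32, 3, 0] (.excl 31 Cert.done)) Cert.done))))) (.excl 17 (.excl 25 Cert.done)))) Cert.done))))))))))))))) (.excl 12 Cert.done))

def c16 : Cert := (.forced 42 6 [34, 8, 0] 362 (.forced 50 6 [32, 6, 1] 242 (.forced 74 4 [35, 9, 1] 1114 (.forced 26 7 [41, 3, 0] 410 (.forced 98 9 [41, 3, 2] 1634 (.forced 138 9 [39, 12, 1] 1674 (.forced 162 8 [40, 10, 4] 1442 (.forced 194 8 [34, 14, 5] 962 (.forced 274 9 [37, 13, 4] 1810 (.branch 44 4 [35, 17] (.excl 27 (.kid 188 (.forced 44 6 [36, 18, 0] 620 (.forced 52 6 [34, 16, 1] 1140 (.forced 56 8 [30, 12, 2] 1336 (.forced 76 4 [38,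 20, 2] 348 (.forced 28 9 [52, 4, 0] 1564 (.forced 88 7 [33, 12, 1] 728 (.forced 100 7 [53, 5, 4] 484 (.forced 104 7 [35, 16, 6] 1256 (.forced 112 8 [36, 16, 6] 880 (.forced 140 8 [43, 26, 9] 1420 (.forced 148 8 [41, 23, 10] 916 (.forced 168 8 [55, 11, 3] 936 (.forced 176 9 [38, 20, 12] 1712 (.forced 196 9 [44, 30, 6] 1732 (.forced 208 8 [45, 22, 8] 1488 (.forced 292 9 [51, 30, 8] 1828 (.forced 328 9 [41, 25, 12] 1864 (.leaf [0, 1, 2, 3, 4, 6, 5, 9, 10, 7, 8] [65, 64, 45, 60, 29, 50, 27, 16, 52, 24, 35, 58, 15, 62, 12, 41, 44, 22, 34, 48, 61, 17, 25, 51, 55, 11, 31, 38, 30, 40, 54, 49, 9, 21, 3, 4, 56, 13, 53, 32, 26, 33, 39, 46, 57, 8, 59, 47, 28, 14, 37, 18, 0, 1, 63, 23, 42, 43, 10, 6, 19, 5, 7, 2, 20, 36])))))))))))))))))) (.excl 9 Cert.done)))))))))))))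

def c17 : Cert := (.forced 50 6 [32, 6, 1] 626 (.forced 74 4 [35, 9, 1] 218 (.forced 26 9 [41, 3, 0] 1562 (.forced 98 7 [41, 3, 2] 482 (.forced 138 8 [39, 11, 2] 906 (.forced 146 8 [34, 11, 3] 1426 (.forced 162 9 [41, 12, 2] 1698 (.forced 322 9 [37, 15, 3] 1858 (.branch 44 4 [35, 17] (.excl 27 (.excl 14 (.kid 1084 (.forced 44 6 [36, 18, 0] 236 (.forced 52 6 [34, 16, 1] 372 (.forced 56 7 [30, 12, 2] 696 (.forced 76 4 [38, 20, 2] 604 (.forced 28 7 [52, 4, 0] 412 (.forced 88 8 [33, 12, 1] 1368 (.forced 100 9 [53, 5, 4] 1636 (.forced 104 8 [35, 16, 6] 872 (.forced 112 7 [36, 16, 6] 1264 (.forced 148 9 [40, 24, 4] 1684 (.forced 164 8 [42, 25, 9] 932 (.forced 168 8 [55, 10, 8] 1448 (.forced 196 8 [43, 25, 11] 1476 (.forced 200 9 [38, 20, 12] 1736 (.forced 208 8 [45, 21, 5] 976 (.forced 268 9 [51, 32, 10] 1804 (.forced 304 9 [42, 26, 14] 1840 (.leaf [0, 1,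 2, 3, 4, 5, 6, 7, 8, 9, 10] [65, 64, 45, 61, 32, 48, 24, 16, 53, 27, 34, 56, 15, 63, 12, 43, 42, 22, 35, 50, 60, 13, 25, 51, 55, 14, 30, 38, 28, 39, 57, 46, 9, 21, 6, 2, 58, 17, 52, 29, 26, 33, 40, 49, 54, 8, 59, 47, 31, 11, 37, 20, 5, 4, 62, 23, 44, 41, 10, 7, 19, 3, 1, 0, 18, 36])))))))))))))))))) Cert.done))))))))))))

def c18 : Cert := (.kid 121 (.forced 41 9 [16, 8, 0] 1577 (.forced 49 7 [14, 6, 1] 433 (.forced 73 7 [17, 9, 2] 457 (.forced 81 9 [14, 6, 3] 1617 (.forced 137 4 [20, 10, 1] 1177 (.forced 25 8 [25, 5, 0] 793 (.forced 161 6 [22, 10, 4] 737 (.forced 97 8 [26, 7, 0] 1377 (.forced 385 9 [26, 6, 5] 1921 (.branch 14 5 [29] (.excl 28 (.excl 25 (.excl 17 (.kid 558 (.branch 14 6 [30, 0] (.kid 206 (.branch 14 8 [31, 1, 0] (.excl 25 Cert.done)) (.kid 334 (.forced 14 7 [31, 1, 0] 1166 (.branch 38 4 [31, 2] (.kid 182 (.forced 38 8 [32, 3, 0] 1318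 (.forced 134 6 [32, 2, 1] 710 (.forced 70 4 [34, 4, 0] 1110 (.forced 22 8 [36, 3, 0] 790 (.branch 42 4 [33, 7] (.excl 17 (.kid 314 (.forced 42 6 [34, 8, 0] 1130 c17) (.excl 30 Cert.done)))))))) (.kid 310 (.branch 38 7 [32, 3, 0] (.excl 1 Cert.done)) (.excl 25 Cert.done))))) (.excl 17 Cert.done)))) (.kid 1070 (.branch 14 6 [30, 0] (.kid 206 (.forced 14 8 [31, 1, 0] 782 (.branch 38 4 [31, 2] (.kid 182 (.branch 38 8 [32, 3, 0] (.excl 1 Cert.done)) (.kid 310 (.forced 38 7 [32, 3, 0] 678 (.forced 134 4 [32, 3, 0] 1174 (.forced 22 6 [35, 2, 0] 598 (.forced 70 8 [35, 5, 0] 1350 (.branch 42 4 [33, 7] (.excl 17 (.excl 4 (.kid 570 c16 Cert.done)))))))) (.excl 17 Cert.done))))) (.kid 334 (.branch 14 7 [31, 1, 0] (.excl 17 Cert.done)) (.excl 25 Cert.done)))) Cert.done))))))))))))))) (.excl 4 (.excl 12 Cert.done)))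

def c19 : Cert := (.kid 587 (.forced 11 8 [5, 1, 0] 1291 (.branch 35 4 [5, 2] (.kid 307 (.branch 35 9 [6, 3, 0] (.excl 4 Cert.done)) (.kid 563 (.branch 35 8 [6, 3, 0] (.excl 1 Cert.done)) (.kid 1075 (.forced 35 8 [6, 3, 0] 803 (.forced 259 4 [6, 2, 0] 339 (.forced 19 7 [9, 2, 0] 659 (.forced 67 7 [9, 5, 1] 1219 (.branch 13 5 [11] (.excl 10 (.excl 7 (.kid 301 (.branch 13 6 [12, 0] (.kid 205 (.branch 13 9 [13, 1, 0] (.excl 10 Cert.done)) (.excl 7 (.kid 1101 (.forced 13 7 [13, 1, 0] 653 (.branch 37 4 [13, 2] (.kid 181 (.branch 37 9 [14, 3, 0] (.excl 12 Cert.done)) (.kid 565 (.forced 37 7 [14, 3, 0] 1189 (.forced 133 4 [14, 2, 0] 213 (.forced 21 8 [17, 2, 0] 1301 (.forced 69 8 [17, 5, 1] 837 (.branch 41 4 [15, 7] c18))))) (.excl 7 Cert.done))))) Cert.done)))) (.kid 557 (.branch 13 6 [12, 0] (.kid 205 (.branch 13 8 [13, 1, 0] (.excl 7 Cert.done)) (.kid 333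 (.forced 13 7 [13, 1, 0] 1165 (.branch 37 4 [13, 2] (.kid 181 (.forced 37 8 [14, 3, 0] 1317 (.forced 133 6 [14, 2, 1] 709 (.forced 69 4 [16, 4, 0] 1109 (.forced 21 8 [18, 3, 0] 789 (.branch 41 4 [15, 7] (.kid 121 (.branch 41 8 [16, 8, 0] (.excl 4 Cert.done)) c15)))))) (.kid 309 (.branch 37 7 [14, 3, 0] (.excl 1 Cert.done)) (.excl 7 Cert.done))))) (.kid 1101 (.branch 13 7 [13, 1, 0] (.excl 11 Cert.done)) Cert.done)))) (.kid 1069 (.branch 13 6 [12, 0] (.kid 205 (.forced 13 8 [13, 1, 0] 781 (.branch 37 4 [13, 2] (.kid 181 (.branch 37 8 [14, 3, 0] (.excl 1 Cert.done)) (.kid 309 (.forced 37 7 [14, 3, 0] 677 (.forced 133 4 [14, 3, 0] 1173 (.forced 21 6 [17, 2, 0] 597 (.forced 69 8 [17, 5, 0] 1349 (.branch 41 4 [15, 7] (.kid 121 (.branch 41 8 [16, 8, 0] (.excl 6 Cert.done)) (.excl 4 c12))))))) (.kid 565 (.branch 37 7 [14, 3, 0] (.excl 13 Cert.done)) Cert.done)))))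 (.kid 333 (.forced 13 7 [13, 1, 0] 653 (.branch 37 4 [13, 2] (.kid 181 (.branch 37 8 [14, 3, 0] (.excl 7 Cert.done)) (.kid 309 (.branch 37 7 [14, 3, 0] (.excl 1 Cert.done)) (.kid 565 (.branch 37 7 [14, 3, 0] (.excl 13 Cert.done)) Cert.done))))) (.excl 7 Cert.done)))) Cert.done)))))))))) Cert.done))))) Cert.done)

def cert : Cert := (.branch 7 3 [] (.kid 31 (.branch 7 5 [0] (.kid 103 (.branch 7 7 [1, 0] (.kid 391 (.forced 7 9 [2, 1, 0] 1543 (.branch 11 5 [3] (.excl 2 (.kid 171 (.branch 11 6 [4, 0] (.kid 331 (.branch 11 9 [5, 1, 0] (.excl 2 Cert.done)) c19)) (.kid 555 c9 Cert.done))))) Cert.done)) Cert.done)) Cert.done))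

theorem K0_ok : targetOk 11 4 5 K0 = true := by decide +kernel

theorem cert_node : cert.isNode = true := by decide +kernel

theorem cert_ok : check 11 4 5 K0 cert [] [2047] 0 [] = true := by decide +kernel

universe u

theorem unique {α : Type u} [Fintype α] [DecidableEq α] (hα : Fintype.card α = 11)
    {B : Set (Finset α)} (hB : IsSteinerSystem 4 5 B) : SetSystemIso B (sysOf 11 K0) :=
  unique_direct K0_ok cert_node cert_ok hα hB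

end Cfsg.Agent.Lib.Helper1.Stein.W11
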