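import Cfsg.Agent.Lib.Helper1.SteinRig2
import Cfsg.Agent.Lib.Helper1.SteinW11

set_option autoImplicit false
set_option maxRecDepth 1000000

namespace Cfsg.Agent.Lib.Helper1.Stein.W11

open Cfsg Cfsg.Agent.Lib.Helper1.Stein

def rcert : RCert := (.force 31 31 4 4 (.branch 5 0 0 (.item (.contraInj 5 0) (.item (.contraInj 5 1) (.item (.contraInj 5 2) (.item (.contraInj 5 3) (.item (.contraInj 5 4) (.item (.force 103 103 6 6 (.force 171 171 7 7 (.force 301 301 8 8 (.force 558 558 9 9 (.force 1075 1075 10 10 RCert.leaf))))) (.item (.force 103 103 6 5 (.force 171 587 7 9 (.contra 182 1110 7))) (.item (.force 103 391 6 8 (.contra 121 1177 6)) (.item (.force 103 391 6 7 (.contra 121 793 6)) (.item (.force 103 1543 6 10 (.contra 121 793 6)) (.item (.force 103 1543 6 9 (.contra 121 1177 6)) RCert.done)))))))))))))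

def asg0 : List (ℕ × ℕ) := [(0, 0), (1, 1), (2, 2), (3, 3)]

theorem rcert_node : rcert.isNode = true := by decide +kernel

theorem rcert_ok : checkR 11 4 K0 rcert asg0 0 [] = true := by decide +kernel

theorem rcert_id : allId 11 (leavesR 11 rcert asg0 0 []) = true := by decide +kernel

/-- an automorphism of the standard system fixing the first points is trivial -/
theorem rigid (hS : IsSteinerSystem 4 5 (sysOf 11 K0)) (g : Equiv.Perm (Fin 11))
    (hg : ∀ b ∈ sysOf 11 K0, b.image g ∈ sysOf 11 K0)
    (h : ∀ i : Fin 11, (i : ℕ) < 4 → g i = i) : g = 1 := by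
  apply rigid_of_cert hS rcert asg0 rcert_node rcert_ok rcert_id g hg
  intro p hp
  simp only [asg0, List.mem_cons, List.not_mem_nil, or_false] at hp
  rcases hp with rfl | rfl | rfl | rfl
  all_goals
    refine ⟨by norm_num, ?_⟩
    rw [gfun, dif_pos (by norm_num)]
    rw [h _ (by norm_num)]

end Cfsg.Agent.Lib.Helper1.Stein.W11
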