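import Cfsg.Agent.Lib.Helper1.SteinAut5
import Cfsg.Agent.Lib.Helper1.SteinR11

set_option autoImplicit false
set_option linter.unusedSectionVars false

namespace Cfsg.Agent.Lib.Helper1.Stein

open Cfsg
open scoped Pointwise

variable (d : Finset GolayPt) (q : GolayPt) (hq : q ∈ d)

theorem m11_fix (g : (MulAction.stabilizer Cfsg.M24 d ⊓ MulAction.stabilizer Cfsg.M24 q :
    Subgroup Cfsg.M24)) : ((g : Cfsg.M24) : Equiv.Perm GolayPt) q = q := by
  have h1 : (g : Cfsg.M24) ∈ MulAction.stabilizer Cfsg.M24 q := (Subgroup.mem_inf.1 g.2).2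
  rw [MulAction.mem_stabilizer_iff] at h1
  exact h1

theorem m11_mem_stab (g : (MulAction.stabilizer Cfsg.M24 d ⊓ MulAction.stabilizer Cfsg.M24 q :
    Subgroup Cfsg.M24)) :
    rho12 d ⟨g.1, (Subgroup.mem_inf.1 g.2).1⟩ ∈ MulAction.stabilizer (setSystemAut (traceSys Cfsg.octads d 6))
      (⟨q, hq⟩ : {p : GolayPt // p ∈ d}) := by
  rw [MulAction.mem_stabilizer_iff]
  apply Subtype.ext
  exact m11_fix d q g

/-- the stabilizer of a point in the stabilizer of a dodecad acts on the derived system -/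
def rho11 : (MulAction.stabilizer Cfsg.M24 d ⊓ MulAction.stabilizer Cfsg.M24 q :
    Subgroup Cfsg.M24) →*
    setSystemAut (derivedSys (traceSys Cfsg.octads d 6) (⟨q, hq⟩ : {p : GolayPt // p ∈ d})) where
  toFun g := restrictHom _ _ ⟨rho12 d ⟨g.1, (Subgroup.mem_inf.1 g.2).1⟩, m11_mem_stab d q hq g⟩
  map_one' := by
    apply Subtype.ext
    ext x
    rfl
  map_mul' g h := by
    apply Subtype.ext
    ext x
    rfl

theorem rho11_apply (g : (MulAction.stabilizer Cfsg.M24 d ⊓ MulAction.stabilizer Cfsg.M24 q :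
    Subgroup Cfsg.M24))
    (x : {a : {p : GolayPt // p ∈ d} // a ≠ ⟨q, hq⟩}) :
    ((((rho11 d q hq g : setSystemAut _) : Equiv.Perm _) x :
      {a : {p : GolayPt // p ∈ d} // a ≠ ⟨q, hq⟩}) : GolayPt) =
      ((g : Cfsg.M24) : Equiv.Perm GolayPt) x := rfl

theorem rho11_injective (hd : d ∈ dodecads) : Function.Injective (rho11 d q hq) := by
  intro g g' hgg'
  have h1 : (⟨g.1, (Subgroup.mem_inf.1 g.2).1⟩ : MulAction.stabilizer Cfsg.M24 d) = ⟨g'.1, (Subgroup.mem_inf.1 g'.2).1⟩ := by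
    apply rho12_injective d hd
    apply Subtype.ext
    apply Equiv.ext
    intro x
    apply Subtype.ext
    change ((g : Cfsg.M24) : Equiv.Perm GolayPt) x = ((g' : Cfsg.M24) : Equiv.Perm GolayPt) x
    by_cases hx : x = ⟨q, hq⟩
    · rw [hx]
      change ((g : Cfsg.M24) : Equiv.Perm GolayPt) q = ((g' : Cfsg.M24) : Equiv.Perm GolayPt) q
      rw [m11_fix d q g, m11_fix d q g']
    · have e1 := rho11_apply d q hq g ⟨x, hx⟩
      have e2 := rho11_apply d q hq g' ⟨x, hx⟩
      rw [hgg'] at e1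
      rw [← e1, ← e2]
  apply Subtype.ext
  have h2 := congrArg Subtype.val h1
  exact h2

end Cfsg.Agent.Lib.Helper1.Stein
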