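import Cfsg.Agent.Lib.Helper1.Stein10

set_option autoImplicit false
set_option linter.unusedSectionVars false

namespace Cfsg.Agent.Lib.Helper1.Stein

open Cfsg

/-! ### clearing the lowest set bit -/

/-- clear the lowest set bit -/
def clearLow (x : ℕ) : ℕ := Nat.land x (Nat.sub x 1)

theorem clearLow_zero : clearLow 0 = 0 := by decide

theorem clearLow_spec : ∀ x : ℕ, x ≠ 0 → ∃ i, x.testBit i = true ∧
    ∀ j, (clearLow x).testBit j = (x.testBit j && decide (j ≠ i)) := by
  intro x
  induction x using Nat.strong_induction_on with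
  | _ x ih =>
    intro hx
    have hland : ∀ j, (clearLow x).testBit j = (x.testBit j && (x - 1).testBit j) := by
      intro j
      change (x &&& (x - 1)).testBit j = _
      rw [Nat.testBit_and]
    by_cases hodd : x % 2 = 1
    · -- odd: the lowest bit is bit 0
      refine ⟨0, by rw [Nat.testBit_zero]; simpa using hodd, ?_⟩
      intro j
      rw [hland]
      cases j with
      | zero =>
        rw [Nat.testBit_zero, Nat.testBit_zero]
        have : (x - 1) % 2 = 0 := by omega
        simp [this]
      | succ j =>
        rw [Nat.testBit_succ, Nat.testBit_succ]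
        have : (x - 1) / 2 = x / 2 := by omega
        rw [this]
        simp
    · -- even
      have heven : x % 2 = 0 := by omega
      have hy : x / 2 ≠ 0 := by omega
      have hlt : x / 2 < x := by omega
      obtain ⟨i, hi, hspec⟩ := ih (x / 2) hlt hy
      refine ⟨i + 1, by rw [Nat.testBit_succ]; exact hi, ?_⟩
      intro j
      rw [hland]
      cases j with
      | zero =>
        rw [Nat.testBit_zero, Nat.testBit_zero]
        simp [heven]
      | succ j =>
        rw [Nat.testBit_succ, Nat.testBit_succ]
        have h1 : (x - 1) / 2 = x / 2 - 1 := by omega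
        rw [h1]
        have h2 := hspec j
        have hland' : (clearLow (x / 2)).testBit j =
            ((x / 2).testBit j && (x / 2 - 1).testBit j) := by
          change ((x / 2) &&& (x / 2 - 1)).testBit j = _
          rw [Nat.testBit_and]
        rw [hland'] at h2
        rw [h2]
        simp

variable (n : ℕ)

theorem toFin_clearLow {x : ℕ} (hx : x ≠ 0) (hlt : x < 2 ^ n) :
    ∃ i : Fin n, i ∈ toFin n x ∧ toFin n (clearLow x) = (toFin n x).erase i := by
  obtain ⟨i, hi, hspec⟩ := clearLow_spec x hx
  have hin : i < n := by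
    by_contra hge
    push Not at hge
    rw [Nat.testBit_lt_two_pow (lt_of_lt_of_le hlt (Nat.pow_le_pow_right (by norm_num) hge))] at hi
    exact Bool.noConfusion hi
  refine ⟨⟨i, hin⟩, (mem_toFin n).2 hi, ?_⟩
  ext j
  rw [mem_toFin, Finset.mem_erase, mem_toFin, hspec]
  simp only [Bool.and_eq_true, decide_eq_true_eq, ne_eq]
  constructor
  · rintro ⟨h1, h2⟩
    exact ⟨fun h => h2 (by rw [h]), h1⟩
  · rintro ⟨h1, h2⟩
    exact ⟨h2, fun h => h1 (Fin.ext h)⟩

theorem clearLow_lt {x : ℕ} (hlt : x < 2 ^ n) : clearLow x < 2 ^ n :=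
  lt_of_le_of_lt Nat.and_le_left hlt

theorem card_clearLow {x : ℕ} (hlt : x < 2 ^ n) :
    (toFin n (clearLow x)).card = (toFin n x).card - 1 := by
  by_cases hx : x = 0
  · rw [hx, clearLow_zero]; simp [toFin_zero]
  · obtain ⟨i, hi, heq⟩ := toFin_clearLow n hx hlt
    rw [heq, Finset.card_erase_of_mem hi]

/-- at most two bits are set -/
def atMost2 (x : ℕ) : Bool := Nat.beq (clearLow (clearLow x)) 0

theorem atMost2_iff {x : ℕ} (hlt : x < 2 ^ n) : atMost2 x = true ↔ (toFin n x).card ≤ 2 := by
  have h1 := card_clearLow n hlt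
  have h2 := card_clearLow n (clearLow_lt n hlt)
  have h3 : atMost2 x = true ↔ clearLow (clearLow x) = 0 := by
    unfold atMost2
    exact ⟨Nat.eq_of_beq_eq_true, fun h => by rw [h]; rfl⟩
  rw [h3]
  constructor
  · intro h
    rw [h, toFin_zero, Finset.card_empty] at h2
    omega
  · intro h
    have h4 : (toFin n (clearLow (clearLow x))).card = 0 := by omega
    rw [Finset.card_eq_zero] at h4
    have h5 := clearLow_lt n (clearLow_lt n hlt)
    apply toFin_injOn n h5 (Nat.two_pow_pos n)
    rw [h4, toFin_zero]

end Cfsg.Agent.Lib.Helper1.Stein
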