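import Cfsg.Agent.Lib.Helper1.SteinHyp1

set_option autoImplicit false
set_option linter.unusedSectionVars false

namespace Cfsg.Agent.Lib.Helper1.Stein

open Cfsg

theorem testBit_or_shift (N i j : ℕ) :
    (N ||| 1 <<< i).testBit j = (N.testBit j || decide (i = j)) := by
  rw [Nat.testBit_or, Nat.one_shiftLeft, Nat.testBit_two_pow]

theorem subs_sound : ∀ (l : List ℕ) (r N : ℕ), l.Nodup → N ∈ subs l r →
    (∀ j, N.testBit j = true → j ∈ l) ∧ (l.filter (fun j => N.testBit j)).length = r := by
  intro l
  induction l with
  | nil =>
    intro r N _ hN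
    cases r with
    | zero =>
      simp only [subs, List.mem_singleton] at hN
      subst hN
      simp
    | succ r => simp [subs] at hN
  | cons i is ih =>
    intro r N hnd hN
    rw [List.nodup_cons] at hnd
    obtain ⟨hi, hnd'⟩ := hnd
    have key : ∀ N' : ℕ, (∀ j, N'.testBit j = true → j ∈ is) → N'.testBit i = false := by
      intro N' h
      by_contra hc
      rw [Bool.not_eq_false] at hc
      exact hi (h i hc)
    cases r with
    | zero =>
      rw [subs] at hN
      obtain ⟨h1, h2⟩ := ih 0 N hnd' hN
      refine ⟨fun j hj => List.mem_cons_of_mem _ (h1 j hj), ?_⟩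
      rw [List.filter_cons_of_neg (by simp [key N h1])]
      exact h2
    | succ r =>
      rw [subs, List.mem_append, List.mem_map] at hN
      rcases hN with ⟨N', hN', rfl⟩ | hN
      · obtain ⟨h1, h2⟩ := ih r N' hnd' hN'
        constructor
        · intro j hj
          rw [testBit_or_shift, Bool.or_eq_true, decide_eq_true_eq] at hj
          rcases hj with hj | hj
          · exact List.mem_cons_of_mem _ (h1 j hj)
          · rw [← hj]; exact List.mem_cons_self
        · rw [List.filter_cons_of_pos (by simp), List.length_cons]
          congr 1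
          rw [← h2]
          congr 1
          apply List.filter_congr
          intro j hj
          rw [testBit_or_shift]
          have : ¬ (i = j) := fun h => hi (h ▸ hj)
          simp [this]
      · obtain ⟨h1, h2⟩ := ih (r + 1) N hnd' hN
        refine ⟨fun j hj => List.mem_cons_of_mem _ (h1 j hj), ?_⟩
        rw [List.filter_cons_of_neg (by simp [key N h1])]
        exact h2

theorem subs_nodup : ∀ (l : List ℕ) (r : ℕ), l.Nodup → (subs l r).Nodup := by
  intro l
  induction l with
  | nil =>
    intro r _
    cases r with
    | zero => simp [subs]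
    | succ r => simp [subs]
  | cons i is ih =>
    intro r hnd
    have hnd0 := hnd
    rw [List.nodup_cons] at hnd
    obtain ⟨hi, hnd'⟩ := hnd
    cases r with
    | zero => rw [subs]; exact ih 0 hnd'
    | succ r =>
      rw [subs]
      have hbit : ∀ N ∈ subs is r, N.testBit i = false := by
        intro N hN
        by_contra hc
        rw [Bool.not_eq_false] at hc
        exact hi ((subs_sound is r N hnd' hN).1 i hc)
      have hbit' : ∀ N ∈ subs is (r + 1), N.testBit i = false := by
        intro N hN
        by_contra hc
        rw [Bool.not_eq_false] at hc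
        exact hi ((subs_sound is (r + 1) N hnd' hN).1 i hc)
      apply List.Nodup.append
      · apply List.Nodup.map_on _ (ih r hnd')
        intro a ha b hb hab
        apply Nat.eq_of_testBit_eq
        intro j
        have h1 := congrArg (fun x => Nat.testBit x j) hab
        simp only [testBit_or_shift] at h1
        by_cases hij : i = j
        · rw [← hij, hbit a ha, hbit b hb]
        · simpa [hij] using h1
      · exact ih (r + 1) hnd'
      · intro a ha hb
        rw [List.mem_map] at ha
        obtain ⟨N', _, rfl⟩ := ha
        have := hbit' _ hb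
        rw [testBit_or_shift] at this
        simp at this

variable (n : ℕ)

theorem bitsOf_full : bitsOf n (full n) = List.range n := by
  rw [bitsOf]
  apply List.filter_eq_self.2
  intro i hi
  rw [testBit_full]
  simpa using List.mem_range.1 hi

theorem lt_two_pow_of_bits {N : ℕ} (h : ∀ j, N.testBit j = true → j < n) : N < 2 ^ n := by
  apply Nat.lt_pow_two_of_testBit
  intro j hj
  by_contra hc
  rw [Bool.not_eq_false] at hc
  exact absurd (h j hc) (not_lt.2 hj)

/-- counting subsets through masks -/
theorem ncard_eq_length (P : Finset (Fin n) → Prop) (pb : ℕ → Bool) (r : ℕ)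
    (h : ∀ s < 2 ^ n, (toFin n s).card = r → (pb s = true ↔ P (toFin n s))) :
    {S : Finset (Fin n) | S.card = r ∧ P S}.ncard =
      ((subs (bitsOf n (full n)) r).filter pb).length := by
  classical
  set l := (subs (bitsOf n (full n)) r).filter pb with hl
  have hnd : l.Nodup := (subs_nodup _ r (bitsOf_nodup n _)).filter _
  have hprop : ∀ s ∈ l, s < 2 ^ n ∧ (toFin n s).card = r ∧ pb s = true := by
    intro s hs
    rw [hl, List.mem_filter] at hs
    obtain ⟨h1, h2⟩ := subs_sound _ r s (bitsOf_nodup n _) hs.1
    have hlt : s < 2 ^ n := by
      apply lt_two_pow_of_bits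
      intro j hj
      exact ((mem_bitsOf n _ j).1 (h1 j hj)).1
    refine ⟨hlt, ?_, hs.2⟩
    rw [card_toFin, ← filter_range_length, ← h2, bitsOf_full]
  have hnd' : (l.map (toFin n)).Nodup := by
    rw [List.nodup_map_iff_inj_on hnd]
    intro a ha b hb hab
    exact toFin_injOn n (hprop a ha).1 (hprop b hb).1 hab
  have hset : {S : Finset (Fin n) | S.card = r ∧ P S} = ↑(l.map (toFin n)).toFinset := by
    ext S
    rw [Set.mem_ofPred_eq, Finset.mem_coe, List.mem_toFinset, List.mem_map]
    constructor
    · rintro ⟨hc, hP⟩
      refine ⟨ofFin n S, ?_, toFin_ofFin n S⟩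
      have hlt : ofFin n S < 2 ^ n := by
        apply lt_two_pow_of_bits
        intro j hj
        exact testBit_lt_of_ofFin hj
      rw [hl, List.mem_filter]
      constructor
      · apply mem_subs_of_subset
        · intro j hj
          have hjn := testBit_lt_of_ofFin hj
          refine ⟨hjn, ?_⟩
          rw [testBit_full]; simpa using hjn
        · rw [← card_toFin, toFin_ofFin, hc]
      · rw [h _ hlt (by rw [toFin_ofFin, hc]), toFin_ofFin]
        exact hP
    · rintro ⟨s, hs, rfl⟩
      obtain ⟨h1, h2, h3⟩ := hprop s hs
      exact ⟨h2, (h s h1 h2).1 h3⟩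
  rw [hset, Set.ncard_coe_finset, List.toFinset_card_of_nodup hnd', List.length_map]

end Cfsg.Agent.Lib.Helper1.Stein
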