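import Cfsg.Agent.Lib.Helper1.SteinHyp2

set_option autoImplicit false
set_option linter.unusedSectionVars false

namespace Cfsg.Agent.Lib.Helper1.Stein

open Cfsg

/-- no block meets the set in more than two points -/
def Indep {α : Type*} [DecidableEq α] (L : Set (Finset α)) (S : Finset α) : Prop :=
  ∀ l ∈ L, (l ∩ S).card ≤ 2

section transfer

variable {α β : Type*} [DecidableEq α] [DecidableEq β]

theorem indep_image (e : α ≃ β) (L : Set (Finset α)) (S : Finset α) :
    Indep (mapSys e L) (S.image e) ↔ Indep L S := by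
  constructor
  · intro h l hl
    have := h _ (image_mem_mapSys e L l hl)
    rwa [← Finset.image_inter _ _ e.injective, Finset.card_image_of_injective _ e.injective]
      at this
  · rintro h _ ⟨l, hl, rfl⟩
    simp only
    rw [← Finset.image_inter _ _ e.injective, Finset.card_image_of_injective _ e.injective]
    exact h l hl

theorem image_symm_image (e : α ≃ β) (S : Finset β) : (S.image e.symm).image e = S := by
  rw [Finset.image_image]
  simp

theorem ncard_indep_transfer (e : α ≃ β) (L : Set (Finset α)) (m : ℕ) :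
    {S : Finset α | S.card = m ∧ Indep L S}.ncard =
      {S : Finset β | S.card = m ∧ Indep (mapSys e L) S}.ncard := by
  have hinj : Function.Injective (fun S : Finset α => S.image e) :=
    Finset.image_injective e.injective
  rw [← Set.ncard_image_of_injective _ hinj]
  congr 1
  ext S'
  constructor
  · rintro ⟨S, ⟨hc, hI⟩, rfl⟩
    exact ⟨by rw [Finset.card_image_of_injective _ e.injective]; exact hc,
      (indep_image e L S).2 hI⟩
  · rintro ⟨hc, hI⟩
    refine ⟨S'.image e.symm, ⟨?_, ?_⟩, image_symm_image e S'⟩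
    · rw [Finset.card_image_of_injective _ e.symm.injective]; exact hc
    · rw [← indep_image e L, image_symm_image]; exact hI

end transfer

/-- the test for masks -/
def indepM (lines : List ℕ) (s : ℕ) : Bool :=
  lines.all (fun l => atMost2 (Nat.land l s))

variable (n : ℕ)

theorem indepM_iff (K0 : List ℕ) {s : ℕ} (hs : s < 2 ^ n) :
    indepM K0 s = true ↔ Indep (sysOf n K0) (toFin n s) := by
  unfold indepM Indep
  rw [List.all_eq_true]
  have key : ∀ l : ℕ, atMost2 (Nat.land l s) = true ↔ (toFin n l ∩ toFin n s).card ≤ 2 := by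
    intro l
    have hlt : Nat.land l s < 2 ^ n := lt_of_le_of_lt Nat.and_le_right hs
    rw [atMost2_iff n hlt]
    change (toFin n (l &&& s)).card ≤ 2 ↔ _
    rw [toFin_land]
  constructor
  · rintro h _ ⟨l, hl, rfl⟩
    exact (key l).1 (h l hl)
  · intro h l hl
    exact (key l).2 (h _ ⟨l, hl, rfl⟩)

theorem land_eq_iff_subset {a b : ℕ} (ha : a < 2 ^ n) :
    Nat.land a b = a ↔ toFin n a ⊆ toFin n b := by
  constructor
  · intro h
    apply subset_of_land_eq (n := n)
    rw [Nat.land_comm]; exact h
  · intro h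
    have := subset_of_lt ha h
    change a &&& b = a
    rw [Nat.land_comm]; exact this

theorem ofFin_lt (S : Finset (Fin n)) : ofFin n S < 2 ^ n := by
  apply lt_two_pow_of_bits
  intro j hj
  exact testBit_lt_of_ofFin hj

/-- the main statement in the standard model -/
theorem arcs_std (K0 A4 H6 : List ℕ)
    (hA4 : (subs (bitsOf n (full n)) 4).filter (indepM K0) = A4)
    (hH6 : (subs (bitsOf n (full n)) 6).filter (indepM K0) = H6)
    (huniq : A4.all (fun s => (H6.filter (fun h => Nat.beq (Nat.land s h) s)).length == 1) = true) :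
    {S : Finset (Fin n) | S.card = 4 ∧ Indep (sysOf n K0) S}.ncard = A4.length ∧
    {S : Finset (Fin n) | S.card = 6 ∧ Indep (sysOf n K0) S}.ncard = H6.length ∧
    ∀ S : Finset (Fin n), (S.card = 4 ∧ Indep (sysOf n K0) S) →
      ∃! H : Finset (Fin n), (H.card = 6 ∧ Indep (sysOf n K0) H) ∧ S ⊆ H := by
  have hcount : ∀ r, {S : Finset (Fin n) | S.card = r ∧ Indep (sysOf n K0) S}.ncard =
      ((subs (bitsOf n (full n)) r).filter (indepM K0)).length := by
    intro r
    apply ncard_eq_length
    intro s hs _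
    exact indepM_iff n K0 hs
  have hmem : ∀ r (S : Finset (Fin n)), S.card = r → Indep (sysOf n K0) S →
      ofFin n S ∈ (subs (bitsOf n (full n)) r).filter (indepM K0) := by
    intro r S hc hI
    rw [List.mem_filter]
    constructor
    · apply mem_subs_of_subset
      · intro j hj
        have hjn := testBit_lt_of_ofFin hj
        refine ⟨hjn, ?_⟩
        rw [testBit_full]; simpa using hjn
      · rw [← card_toFin, toFin_ofFin, hc]
    · rw [indepM_iff n K0 (ofFin_lt n S), toFin_ofFin]; exact hI
  have hprop : ∀ r, ∀ s ∈ (subs (bitsOf n (full n)) r).filter (indepM K0),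
      s < 2 ^ n ∧ (toFin n s).card = r ∧ Indep (sysOf n K0) (toFin n s) := by
    intro r s hs
    rw [List.mem_filter] at hs
    obtain ⟨h1, h2⟩ := subs_sound _ r s (bitsOf_nodup n _) hs.1
    have hlt : s < 2 ^ n := by
      apply lt_two_pow_of_bits
      intro j hj
      exact ((mem_bitsOf n _ j).1 (h1 j hj)).1
    refine ⟨hlt, ?_, (indepM_iff n K0 hlt).1 hs.2⟩
    rw [card_toFin, ← filter_range_length, ← h2, bitsOf_full]
  refine ⟨by rw [hcount, hA4], by rw [hcount, hH6], ?_⟩
  rintro S ⟨hc, hI⟩
  have hs := hmem 4 S hc hI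
  rw [hA4] at hs
  rw [List.all_eq_true] at huniq
  have h1 := huniq _ hs
  rw [beq_iff_eq, List.length_eq_one_iff] at h1
  obtain ⟨h, hh⟩ := h1
  have hhmem : h ∈ H6.filter (fun h => Nat.beq (Nat.land (ofFin n S) h) (ofFin n S)) := by
    rw [hh]; exact List.mem_singleton.2 rfl
  rw [List.mem_filter, ← hH6] at hhmem
  obtain ⟨hh6, hsub⟩ := hhmem
  obtain ⟨hlt, hcard, hind⟩ := hprop 6 h hh6
  have hsub' : S ⊆ toFin n h := by
    have := (land_eq_iff_subset n (ofFin_lt n S)).1 (Nat.eq_of_beq_eq_true hsub)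
    rwa [toFin_ofFin] at this
  refine ⟨toFin n h, ⟨⟨hcard, hind⟩, hsub'⟩, ?_⟩
  rintro H' ⟨⟨hc', hI'⟩, hsub''⟩
  have h2 := hmem 6 H' hc' hI'
  rw [hH6] at h2
  have h3 : ofFin n H' ∈ H6.filter (fun h => Nat.beq (Nat.land (ofFin n S) h) (ofFin n S)) := by
    rw [List.mem_filter]
    refine ⟨h2, ?_⟩
    have : Nat.land (ofFin n S) (ofFin n H') = ofFin n S := by
      rw [land_eq_iff_subset n (ofFin_lt n S), toFin_ofFin, toFin_ofFin]; exact hsub''
    rw [this]; exact Nat.beq_refl _
  rw [hh, List.mem_singleton] at h3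
  rw [← h3, toFin_ofFin]

/-- the main statement for any system isomorphic to the standard model -/
theorem arcs_main (K0 A4 H6 : List ℕ)
    (hA4 : (subs (bitsOf n (full n)) 4).filter (indepM K0) = A4)
    (hH6 : (subs (bitsOf n (full n)) 6).filter (indepM K0) = H6)
    (huniq : A4.all (fun s => (H6.filter (fun h => Nat.beq (Nat.land s h) s)).length == 1) = true)
    {α : Type*} [DecidableEq α] (L : Set (Finset α)) (e : α ≃ Fin n)
    (he : mapSys e L = sysOf n K0) :
    {S : Finset α | S.card = 4 ∧ Indep L S}.ncard = A4.length ∧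
    {S : Finset α | S.card = 6 ∧ Indep L S}.ncard = H6.length ∧
    ∀ S : Finset α, (S.card = 4 ∧ Indep L S) →
      ∃! H : Finset α, (H.card = 6 ∧ Indep L H) ∧ S ⊆ H := by
  obtain ⟨h1, h2, h3⟩ := arcs_std n K0 A4 H6 hA4 hH6 huniq
  refine ⟨by rw [ncard_indep_transfer e L 4, he]; exact h1,
    by rw [ncard_indep_transfer e L 6, he]; exact h2, ?_⟩
  rintro S ⟨hc, hI⟩
  have hI' : Indep (sysOf n K0) (S.image e) := by
    rw [← he]; exact (indep_image e L S).2 hI
  obtain ⟨H, ⟨⟨hHc, hHI⟩, hSH⟩, huq⟩ := h3 (S.image e)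
    ⟨by rw [Finset.card_image_of_injective _ e.injective]; exact hc, hI'⟩
  refine ⟨H.image e.symm, ⟨⟨?_, ?_⟩, ?_⟩, ?_⟩
  · rw [Finset.card_image_of_injective _ e.symm.injective]; exact hHc
  · rw [← indep_image e L, image_symm_image, he]; exact hHI
  · intro x hx
    rw [Finset.mem_image]
    exact ⟨e x, hSH (Finset.mem_image_of_mem _ hx), by simp⟩
  · rintro H' ⟨⟨hc', hI''⟩, hsub⟩
    have h4 := huq (H'.image e) ⟨⟨by
      rw [Finset.card_image_of_injective _ e.injective]; exact hc', by
      rw [← he]; exact (indep_image e L H').2 hI''⟩, Finset.image_subset_image hsub⟩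
    rw [← h4, Finset.image_image]
    simp

end Cfsg.Agent.Lib.Helper1.Stein
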