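import Cfsg.Agent.Lib.Helper1.SteinAut1

set_option autoImplicit false
set_option linter.unusedSectionVars false

namespace Cfsg.Agent.Lib.Helper1.Stein

open Cfsg

variable (n t : ℕ) (K0 : List ℕ)

/-- lookup in an association list -/
def look : List (ℕ × ℕ) → ℕ → Option ℕ
  | [], _ => none
  | p :: l, x => if x = p.1 then some p.2 else look l x

/-- a permutation of `Fin n` as a function on numbers -/
def gfun (g : Equiv.Perm (Fin n)) (z : ℕ) : ℕ :=
  if h : z < n then ((g ⟨z, h⟩ : Fin n) : ℕ) else z

theorem gfun_lt (g : Equiv.Perm (Fin n)) {z : ℕ} (h : z < n) : gfun n g z < n := by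
  rw [gfun, dif_pos h]; exact (g ⟨z, h⟩).2

theorem gfun_eq (g : Equiv.Perm (Fin n)) (x : Fin n) : gfun n g x = (g x : ℕ) := by
  rw [gfun, dif_pos x.2]

theorem gfun_inj (g : Equiv.Perm (Fin n)) {x y : ℕ} (hx : x < n) (hy : y < n)
    (h : gfun n g x = gfun n g y) : x = y := by
  rw [gfun, gfun, dif_pos hx, dif_pos hy] at h
  have := g.injective (Fin.ext h)
  exact Fin.mk.inj_iff.1 this

/-- the permutation agrees with the assignment -/
def Holds (g : Equiv.Perm (Fin n)) (asg : List (ℕ × ℕ)) : Prop :=
  ∀ p ∈ asg, p.1 < n ∧ gfun n g p.1 = p.2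

theorem look_spec {g : Equiv.Perm (Fin n)} : ∀ {asg : List (ℕ × ℕ)}, Holds n g asg →
    ∀ {x w : ℕ}, look asg x = some w → x < n ∧ gfun n g x = w := by
  intro asg
  induction asg with
  | nil => intro _ x w h; simp [look] at h
  | cons p l ih =>
    intro hH x w h
    rw [look] at h
    split at h
    · rename_i hx
      simp only [Option.some.injEq] at h
      have := hH p (List.mem_cons_self)
      rw [hx, ← h]; exact this
    · exact ih (fun q hq => hH q (List.mem_cons_of_mem _ hq)) h

theorem holds_cons {g : Equiv.Perm (Fin n)} {asg : List (ℕ × ℕ)} (h : Holds n g asg) {z w : ℕ}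
    (hz : z < n) (hw : gfun n g z = w) : Holds n g ((z, w) :: asg) := by
  intro p hp
  rw [List.mem_cons] at hp
  rcases hp with rfl | hp
  · exact ⟨hz, hw⟩
  · exact h p hp

/-- is the point assigned, with image in the block `b'` -/
def inImg (asg : List (ℕ × ℕ)) (b' : ℕ) (z : ℕ) : Bool :=
  match look asg z with
  | some w => b'.testBit w
  | none => false

/-- enough assigned points of the block `b` have their images in the block `b'` -/
def blockMap (asg : List (ℕ × ℕ)) (b b' : ℕ) : Bool :=
  K0.contains b && K0.contains b' &&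
    decide (t ≤ ((bitsOf n b).filter (inImg asg b')).length)

variable {n t K0}

theorem blockMap_sound {k : ℕ} (hS : IsSteinerSystem t k (sysOf n K0)) {g : Equiv.Perm (Fin n)}
    (hg : ∀ c ∈ sysOf n K0, c.image g ∈ sysOf n K0) {asg : List (ℕ × ℕ)} (h : Holds n g asg)
    {b b' : ℕ} (hb : blockMap n t K0 asg b b' = true) :
    (toFin n b).image g = toFin n b' := by
  unfold blockMap at hb
  simp only [Bool.and_eq_true, List.contains_iff_mem, decide_eq_true_eq] at hb
  obtain ⟨⟨hbK, hb'K⟩, hcnt⟩ := hb
  have h1 : (toFin n b).image g ∈ sysOf n K0 := hg _ ⟨b, hbK, rfl⟩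
  have h2 : toFin n b' ∈ sysOf n K0 := ⟨b', hb'K, rfl⟩
  apply block_unique hS h1 h2
  set l := (bitsOf n b).filter (inImg asg b') with hl
  have hnd : l.Nodup := (bitsOf_nodup n b).filter _
  have hmem : ∀ z ∈ l, z < n ∧ b.testBit z = true ∧ b'.testBit (gfun n g z) = true := by
    intro z hz
    rw [hl, List.mem_filter, mem_bitsOf] at hz
    obtain ⟨⟨hzn, hzb⟩, hzi⟩ := hz
    unfold inImg at hzi
    split at hzi
    · rename_i w hw
      obtain ⟨-, hgw⟩ := look_spec n h hw
      rw [hgw]; exact ⟨hzn, hzb, hzi⟩
    · exact absurd hzi (by simp)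
  have hle : l.toFinset.card ≤ (((toFin n b).image g ∩ toFin n b').image
      (fun x : Fin n => (x : ℕ))).card := by
    apply Finset.card_le_card_of_injOn (gfun n g)
    · intro z hz
      rw [Finset.mem_coe, List.mem_toFinset] at hz
      obtain ⟨hzn, hzb, hzb'⟩ := hmem z hz
      rw [Finset.mem_coe, Finset.mem_image]
      refine ⟨g ⟨z, hzn⟩, ?_, ?_⟩
      · rw [Finset.mem_inter, mem_toFin]
        refine ⟨Finset.mem_image_of_mem _ ((mem_toFin n).2 hzb), ?_⟩
        rw [gfun, dif_pos hzn] at hzb'
        exact hzb'
      · rw [gfun, dif_pos hzn]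
    · intro x hx y hy hxy
      rw [Finset.mem_coe, List.mem_toFinset] at hx hy
      exact gfun_inj n g (hmem x hx).1 (hmem y hy).1 hxy
  rw [List.toFinset_card_of_nodup hnd,
    Finset.card_image_of_injective _ Fin.val_injective] at hle
  omega

theorem testBit_of_image {g : Equiv.Perm (Fin n)} {b b' : ℕ}
    (himg : (toFin n b).image g = toFin n b') (x : Fin n) :
    b'.testBit (g x) = b.testBit x := by
  have h1 : g x ∈ toFin n b' ↔ x ∈ toFin n b := by
    rw [← himg, Finset.mem_image]
    constructor
    · rintro ⟨y, hy, hyx⟩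
      rw [← g.injective hyx]; exact hy
    · intro hx; exact ⟨x, hx, rfl⟩
  rw [mem_toFin, mem_toFin] at h1
  cases h2 : b'.testBit (g x) <;> cases h3 : b.testBit x <;> simp_all

variable (n t K0)

/-- the union of the images of the points of a list, all of which must be assigned -/
def imgsOf (asg : List (ℕ × ℕ)) : List ℕ → Option ℕ
  | [] => some 0
  | x :: l =>
    match look asg x, imgsOf asg l with
    | some w, some m => some (m ||| 1 <<< w)
    | _, _ => none

theorem imgsOf_spec (asg : List (ℕ × ℕ)) : ∀ (l : List ℕ) (m : ℕ), imgsOf asg l = some m →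
    ∀ v, m.testBit v = true → ∃ x ∈ l, look asg x = some v := by
  intro l
  induction l with
  | nil =>
    intro m h v hv
    simp only [imgsOf, Option.some.injEq] at h
    rw [← h] at hv
    simp at hv
  | cons x l ih =>
    intro m h v hv
    rw [imgsOf] at h
    split at h
    · rename_i w m' hw hm'
      simp only [Option.some.injEq] at h
      rw [← h, Nat.testBit_or, Bool.or_eq_true] at hv
      rcases hv with hv | hv
      · obtain ⟨y, hy, hyv⟩ := ih m' hm' v hv
        exact ⟨y, List.mem_cons_of_mem _ hy, hyv⟩
      · rw [Nat.one_shiftLeft, Nat.testBit_two_pow, decide_eq_true_eq] at hv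
        exact ⟨x, List.mem_cons_self, by rw [hw, hv]⟩
    · exact absurd h (by simp)

/-- certificates for the search for the automorphisms extending an assignment -/
inductive RCert where
  | leaf : RCert
  | contra (b b' z : ℕ) : RCert
  | contraInj (z1 z2 : ℕ) : RCert
  | force (b b' z w : ℕ) (sub : RCert) : RCert
  | branch (z b b' : ℕ) (items : RCert) : RCert
  | item (sub rest : RCert) : RCert
  | done : RCert

def RCert.isNode : RCert → Bool
  | .item _ _ => false
  | .done => false
  | _ => true

/-- the candidates for the image of a point: all points, or the points of a block -/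
def candsOf (b' : ℕ) (b : ℕ) : List ℕ := bitsOf n (if b = 0 then full n else b')

/-- the checker -/
def checkR : RCert → List (ℕ × ℕ) → ℕ → List ℕ → Bool
  | .leaf, asg, _, _ => (List.range n).all (fun x => (look asg x).isSome)
  | .contra b b' z, asg, _, _ =>
    blockMap n t K0 asg b b' &&
      (match look asg z with
        | some w => b.testBit z != b'.testBit w
        | none => false)
  | .contraInj z1 z2, asg, _, _ =>
    (z1 != z2) &&
      (match look asg z1, look asg z2 with
        | some w1, some w2 => w1 == w2
        | _, _ => false)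
  | .force b b' z w sub, asg, _, _ =>
    blockMap n t K0 asg b b' && b.testBit z && decide (z < n) &&
      (match imgsOf asg ((bitsOf n b).filter (fun x => x != z)) with
        | some m => m ||| 1 <<< w == b'
        | none => false) && sub.isNode && checkR sub ((z, w) :: asg) 0 []
  | .branch z b b' items, asg, _, _ =>
    decide (z < n) && (b == 0 || (blockMap n t K0 asg b b' && b.testBit z)) && !items.isNode &&
      checkR items asg z (candsOf n b' b)
  | .item sub rest, asg, z, cands =>
    match cands with
    | w :: ws =>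
      sub.isNode && !rest.isNode && checkR sub ((z, w) :: asg) 0 [] && checkR rest asg z ws
    | [] => false
  | .done, _, _, cands => cands.isEmpty

/-- the complete assignments found -/
def leavesR : RCert → List (ℕ × ℕ) → ℕ → List ℕ → List (List (ℕ × ℕ))
  | .leaf, asg, _, _ => [asg]
  | .contra _ _ _, _, _, _ => []
  | .contraInj _ _, _, _, _ => []
  | .force _ _ z w sub, asg, _, _ => leavesR sub ((z, w) :: asg) 0 []
  | .branch z b b' items, asg, _, _ => leavesR items asg z (candsOf n b' b)
  | .item sub rest, asg, z, cands =>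
    match cands with
    | w :: ws => leavesR sub ((z, w) :: asg) 0 [] ++ leavesR rest asg z ws
    | [] => []
  | .done, _, _, _ => []

/-- what a successful check proves -/
def ConclR (c : RCert) (asg : List (ℕ × ℕ)) (z : ℕ) (cands : List ℕ) : Prop :=
  ∀ g : Equiv.Perm (Fin n), (∀ b ∈ sysOf n K0, b.image g ∈ sysOf n K0) → Holds n g asg →
    (c.isNode = false → z < n ∧ gfun n g z ∈ cands) →
    ∃ L ∈ leavesR n c asg z cands, Holds n g L

end Cfsg.Agent.Lib.Helper1.Stein
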