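import Cfsg.Agent.Lib.Helper1.SteinRig1

set_option autoImplicit false
set_option linter.unusedSectionVars false

namespace Cfsg.Agent.Lib.Helper1.Stein

open Cfsg

variable {n t : ℕ} {K0 : List ℕ}

theorem checkR_sound {k : ℕ} (hS : IsSteinerSystem t k (sysOf n K0)) : ∀ (c : RCert)
    (asg : List (ℕ × ℕ)) (z : ℕ) (cands : List ℕ), checkR n t K0 c asg z cands = true →
    ConclR n K0 c asg z cands := by
  intro c
  induction c with
  | leaf =>
    intro asg z cands _ g _ hH _
    exact ⟨asg, by simp [leavesR], hH⟩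
  | contra b b' z0 =>
    intro asg z cands h g hg hH _
    exfalso
    rw [checkR, Bool.and_eq_true] at h
    obtain ⟨hbm, h2⟩ := h
    have himg := blockMap_sound hS hg hH hbm
    split at h2
    · rename_i w hw
      obtain ⟨hz0, hgw⟩ := look_spec n hH hw
      have h3 := testBit_of_image himg ⟨z0, hz0⟩
      rw [← gfun_eq, hgw] at h3
      simp only at h3
      rw [h3] at h2
      simp at h2
    · exact absurd h2 (by simp)
  | contraInj z1 z2 =>
    intro asg z cands h g _ hH _
    exfalso
    rw [checkR, Bool.and_eq_true] at h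
    obtain ⟨hne, h2⟩ := h
    split at h2
    · rename_i w1 w2 hw1 hw2
      obtain ⟨hz1, hg1⟩ := look_spec n hH hw1
      obtain ⟨hz2, hg2⟩ := look_spec n hH hw2
      have hw : w1 = w2 := by simpa using h2
      have := gfun_inj n g hz1 hz2 (by rw [hg1, hg2, hw])
      simp [this] at hne
    · exact absurd h2 (by simp)
  | force b b' z0 w sub ih =>
    intro asg z cands h g hg hH _
    rw [checkR] at h
    simp only [Bool.and_eq_true, decide_eq_true_eq] at h
    obtain ⟨⟨⟨⟨⟨hbm, hbz⟩, hz0⟩, h4⟩, hnode⟩, hsub⟩ := h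
    have himg := blockMap_sound hS hg hH hbm
    have h3 := testBit_of_image himg ⟨z0, hz0⟩
    rw [← gfun_eq] at h3
    simp only at h3
    rw [hbz] at h3
    have hgw : gfun n g z0 = w := by
      split at h4
      · rename_i m hm
        have hb' : m ||| 1 <<< w = b' := by simpa using h4
        rw [← hb', Nat.testBit_or, Bool.or_eq_true] at h3
        rcases h3 with h3 | h3
        · exfalso
          obtain ⟨x, hx, hxl⟩ := imgsOf_spec asg _ m hm _ h3
          rw [List.mem_filter, mem_bitsOf] at hx
          obtain ⟨hxn, hxg⟩ := look_spec n hH hxl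
          have := gfun_inj n g hxn hz0 hxg
          simp [this] at hx
        · rw [Nat.one_shiftLeft, Nat.testBit_two_pow, decide_eq_true_eq] at h3
          exact h3.symm
      · exact absurd h4 (by simp)
    have hH' := holds_cons n hH hz0 hgw
    obtain ⟨L, hL, hHL⟩ := ih ((z0, w) :: asg) 0 [] hsub g hg hH'
      (fun hh => absurd hh (by rw [hnode]; simp))
    exact ⟨L, by rw [leavesR]; exact hL, hHL⟩
  | branch z0 b b' items ih =>
    intro asg z cands h g hg hH _
    rw [checkR] at h
    simp only [Bool.and_eq_true, decide_eq_true_eq, Bool.or_eq_true, beq_iff_eq,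
      Bool.not_eq_true'] at h
    obtain ⟨⟨⟨hz0, hb⟩, hnode⟩, hitems⟩ := h
    have hcand : gfun n g z0 ∈ candsOf n b' b := by
      rw [candsOf, mem_bitsOf]
      refine ⟨gfun_lt n g hz0, ?_⟩
      by_cases hb0 : b = 0
      · rw [if_pos hb0, testBit_full]
        simpa using gfun_lt n g hz0
      · rw [if_neg hb0]
        rcases hb with hb | ⟨hbm, hbz⟩
        · exact absurd hb hb0
        · have himg := blockMap_sound hS hg hH hbm
          have h3 := testBit_of_image himg ⟨z0, hz0⟩
          rw [← gfun_eq] at h3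
          simp only at h3
          rw [h3, hbz]
    obtain ⟨L, hL, hHL⟩ := ih asg z0 _ hitems g hg hH (fun _ => ⟨hz0, hcand⟩)
    exact ⟨L, by rw [leavesR]; exact hL, hHL⟩
  | item sub rest ih1 ih2 =>
    intro asg z cands h g hg hH hz
    obtain ⟨hzn, hzc⟩ := hz rfl
    cases cands with
    | nil => simp [checkR] at h
    | cons w ws =>
      simp only [checkR, Bool.and_eq_true, Bool.not_eq_true'] at h
      obtain ⟨⟨⟨hnode1, hnode2⟩, hsub⟩, hrest⟩ := h
      rw [List.mem_cons] at hzc
      rcases hzc with hzw | hzw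
      · have hH' := holds_cons n hH hzn hzw
        obtain ⟨L, hL, hHL⟩ := ih1 ((z, w) :: asg) 0 [] hsub g hg hH'
          (fun hh => absurd hh (by rw [hnode1]; simp))
        refine ⟨L, ?_, hHL⟩
        simp only [leavesR, List.mem_append]
        exact Or.inl hL
      · obtain ⟨L, hL, hHL⟩ := ih2 asg z ws hrest g hg hH (fun _ => ⟨hzn, hzw⟩)
        refine ⟨L, ?_, hHL⟩
        simp only [leavesR, List.mem_append]
        exact Or.inr hL
  | done =>
    intro asg z cands h g _ _ hz
    exfalso
    obtain ⟨-, hzc⟩ := hz rfl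
    rw [checkR, List.isEmpty_iff] at h
    rw [h] at hzc
    exact absurd hzc (List.not_mem_nil)

variable (n)

/-- every complete assignment found is the identity -/
def allId (Ls : List (List (ℕ × ℕ))) : Bool :=
  Ls.all (fun L => (List.range n).all (fun x => look L x == some x))

variable {n}

theorem rigid_of_cert {k : ℕ} (hS : IsSteinerSystem t k (sysOf n K0)) (c : RCert)
    (asg0 : List (ℕ × ℕ)) (hnode : c.isNode = true)
    (hc : checkR n t K0 c asg0 0 [] = true) (hid : allId n (leavesR n c asg0 0 []) = true)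
    (g : Equiv.Perm (Fin n)) (hg : ∀ b ∈ sysOf n K0, b.image g ∈ sysOf n K0)
    (h0 : Holds n g asg0) : g = 1 := by
  obtain ⟨L, hL, hHL⟩ := checkR_sound hS c asg0 0 [] hc g hg h0
    (fun hh => absurd hh (by rw [hnode]; simp))
  unfold allId at hid
  rw [List.all_eq_true] at hid
  have h1 := hid L hL
  rw [List.all_eq_true] at h1
  ext x
  have h2 := h1 x (List.mem_range.2 x.2)
  have h3 : look L x = some (x : ℕ) := by simpa using h2
  obtain ⟨-, h4⟩ := look_spec n hHL h3
  rw [gfun_eq] at h4
  simp [h4]

end Cfsg.Agent.Lib.Helper1.Stein
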