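import Cfsg.Agent.Lib.Helper1.Stein10

set_option autoImplicit false
set_option maxRecDepth 1000000

namespace Cfsg.Agent.Lib.Helper1.Stein.W21

open Cfsg Cfsg.Agent.Lib.Helper1.Stein

/-- the blocks of the standard system -/
def K0 : List ℕ := [31, 481, 7681, 122881, 139810, 149764, 168008, 197776, 274564, 279618, 295696, 329768, 533768, 544816, 559234, 590404, 1058896, 1065608, 1082404, 1118466, 1966081]

def c0 : Cert := (.excl 4 (.excl 6 (.excl 1 (.excl 7 (.excl 6 (.excl 1 (.excl 8 (.excl 1 (.excl 3 (.excl 1 (.excl 0 (.excl 0 (.excl 0 (.excl 0 (.excl 0 (.excl 0 (.excl 0 (.excl 0 (.excl 0 (.excl 0 (.excl 4 (.excl 4 (.excl 4 (.kid 198724 (.forced 4 8 [15, 6, 3, 0] 541444 (.forced 64 3 [15, 10, 2, 1] 536648 (.forced 8 7 [17, 7, 4, 0] 328328 (.forced 128 4 [17, 11, 6, 0] 151696 (.forced 16 8 [19, 8, 5, 0] 272656 (.leaf [0,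 1, 2, 3, 4, 5, 6, 8, 7, 13, 14, 16, 15, 17, 18, 20, 19, 9, 10, 12, 11] [20, 19, 16, 18, 15, 8, 3, 0, 4, 14, 1, 10, 2, 9, 12, 5, 6, 7, 11, 13, 17])))))) (.excl 3 (.excl 7 (.excl 8 (.excl 3 (.excl 8 (.excl 3 Cert.done))))))))))))))))))))))))))))))

def c1 : Cert := (.excl 11 (.excl 2 (.excl 11 (.excl 1 (.excl 2 (.excl 6 (.excl 1 (.excl 2 (.excl 1 (.excl 1 (.excl 10 (.excl 2 (.excl 10 (.excl 3 (.excl 2 (.excl 6 (.kid 1057924 (.forced 1024 3 [10, 6, 1, 0] 165128 (.forced 32768 4 [10, 6, 4, 0] 1081936 (.branch 4 6 [14, 5, 2] (.excl 0 (.excl 0 (.excl 0 (.excl 0 (.excl 0 c0)))))))) (.excl 2 (.excl 2 (.excl 7 (.excl 2 (.excl 6 (.excl 3 (.excl 2 (.excl 2 (.excl 3 (.excl 2 (.excl 2 (.excl 6 (.excl 2 Cert.done))))))))))))))))))))))))))))))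

def c2 : Cert := (.excl 3 (.excl 6 (.excl 1 (.excl 7 (.excl 6 (.excl 1 (.excl 8 (.excl 1 (.excl 4 (.excl 1 (.excl 0 (.excl 0 (.excl 0 (.excl 0 (.excl 0 (.excl 0 (.excl 0 (.excl 0 (.excl 0 (.excl 0 (.excl 3 (.excl 3 (.excl 3 (.kid 198724 (.forced 4 8 [15, 6, 3, 0] 541444 (.forced 64 4 [15, 10, 2, 1] 536656 (.forced 16 7 [17, 6, 4, 0] 328336 (.forced 128 3 [17, 11, 6, 0] 151688 (.forced 8 8 [19, 9, 5, 0] 272648 (.leaf [0, 1, 2, 3, 4, 5, 6, 7, 8, 17, 18, 19, 20, 13, 14, 15, 16, 9, 10, 11, 12] [20, 19, 16, 17, 15, 4, 6, 2, 8, 14, 7, 10, 0, 9, 13, 5, 3, 1, 11, 12, 18])))))) (.excl 4 (.excl 7 (.excl 8 (.excl 4 (.excl 8 (.excl 4 Cert.done))))))))))))))))))))))))))))))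

def c3 : Cert := (.excl 11 (.excl 2 (.excl 11 (.excl 0 (.excl 2 (.excl 6 (.excl 0 (.excl 2 (.excl 0 (.excl 0 (.excl 10 (.excl 2 (.excl 10 (.excl 3 (.excl 2 (.excl 6 (.kid 1057924 (.forced 1024 4 [10, 6, 2, 0] 165136 (.forced 32768 3 [10, 6, 4, 0] 1081928 (.branch 4 6 [14, 5, 2] (.excl 0 (.excl 0 (.excl 0 (.excl 0 (.excl 0 c2)))))))) (.excl 2 (.excl 2 (.excl 7 (.excl 2 (.excl 6 (.excl 3 (.excl 2 (.excl 2 (.excl 3 (.excl 2 (.excl 2 (.excl 6 (.excl 2 Cert.done))))))))))))))))))))))))))))))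

def c4 : Cert := (.excl 9 (.excl 9 (.excl 2 (.excl 9 (.excl 6 (.excl 9 (.excl 9 (.excl 9 (.excl 1 (.excl 5 (.excl 3 (.excl 7 (.excl 2 (.excl 7 (.excl 3 (.excl 3 (.excl 3 (.kid 590888 (.forced 32 4 [9, 5, 1, 0] 1067056 (.branch 1024 2 [9, 5, 1] (.excl 10 (.excl 11 (.excl 2 (.excl 11 (.excl 0 c3))))))) (.excl 1 (.excl 5 (.excl 6 (.excl 2 (.kid 1067048 (.forced 32 4 [9, 5, 1, 0] 590896 (.branch 1024 2 [9, 5, 0] (.excl 10 (.excl 11 (.excl 2 (.excl 11 (.excl 1 c1))))))) (.excl 2 (.excl 1 (.excl 2 (.excl 6 (.excl 1 (.excl 5 (.excl 1 Cert.done))))))))))))))))))))))))))))))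

def c5 : Cert := (.excl 0 (.kid 299044 (.branch 32 3 [8, 4, 0] (.excl 7 (.excl 3 (.excl 9 (.excl 9 (.excl 9 c4)))))) (.excl 1 (.excl 0 (.excl 0 (.excl 0 (.excl 0 (.excl 4 (.excl 0 (.excl 0 (.excl 5 (.excl 2 (.excl 1 (.excl 5 (.excl 2 (.excl 5 (.excl 0 (.excl 2 (.excl 2 (.excl 4 (.excl 5 (.excl 1 (.excl 0 (.excl 1 (.excl 4 (.excl 1 (.excl 4 (.excl 0 (.excl 0 (.excl 4 Cert.done))))))))))))))))))))))))))))))

def c6 : Cert := (.excl 1 (.excl 7 (.excl 4 (.excl 6 (.excl 1 (.excl 1 (.excl 1 (.excl 8 (.excl 3 (.excl 6 (.excl 0 (.excl 0 (.excl 0 (.excl 0 (.excl 0 (.excl 0 (.excl 0 (.excl 0 (.excl 0 (.excl 0 (.excl 7 (.excl 4 (.kid 1058884 (.forced 4 8 [15, 6, 3, 0] 295684 (.forced 64 3 [15, 10, 2, 1] 168008 (.forced 8 7 [17, 7, 4, 0] 1065608 (.forced 128 4 [17, 11, 6, 0] 274576 (.forced 16 8 [19, 8, 5, 0] 149776 (.leaf [0, 1, 2,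 3, 4, 5, 6, 8, 7, 13, 14, 16, 15, 9, 10, 12, 11, 17, 18, 20, 19] [20, 19, 17, 18, 15, 8, 3, 0, 4, 14, 1, 10, 2, 9, 12, 5, 6, 7, 11, 13, 16])))))) (.excl 4 (.excl 3 (.excl 4 (.excl 8 (.excl 3 (.excl 8 (.excl 3 Cert.done))))))))))))))))))))))))))))))

def c7 : Cert := (.excl 11 (.excl 1 (.excl 11 (.excl 2 (.excl 1 (.excl 6 (.excl 2 (.excl 1 (.excl 1 (.excl 2 (.excl 10 (.excl 3 (.excl 10 (.excl 2 (.excl 8 (.excl 6 (.excl 2 (.kid 197764 (.forced 1024 3 [10, 6, 1, 0] 533768 (.forced 65536 4 [10, 5, 3, 1] 590416 (.branch 4 6 [14, 5, 2] (.excl 0 (.excl 0 (.excl 0 (.excl 0 (.excl 0 c6)))))))) (.excl 2 (.excl 2 (.excl 3 (.excl 6 (.excl 2 (.excl 3 (.excl 2 (.excl 2 (.excl 6 (.excl 2 (.excl 2 (.excl 2 Cert.done))))))))))))))))))))))))))))))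

def c8 : Cert := (.excl 1 (.excl 7 (.excl 3 (.excl 6 (.excl 1 (.excl 1 (.excl 1 (.excl 8 (.excl 4 (.excl 6 (.excl 0 (.excl 0 (.excl 0 (.excl 0 (.excl 0 (.excl 0 (.excl 0 (.excl 0 (.excl 0 (.excl 0 (.excl 7 (.excl 3 (.kid 1058884 (.forced 4 8 [15, 6, 3, 0] 295684 (.forced 64 4 [15, 10, 2, 1] 168016 (.forced 16 7 [17, 6, 4, 0] 1065616 (.forced 128 3 [17, 11, 6, 0] 274568 (.forced 8 8 [19, 9, 5, 0] 149768 (.leaf [0, 1, 2, 3, 4, 5, 6, 7, 8, 17, 18, 19, 20, 9, 10, 11, 12, 13, 14, 15, 16] [20, 19, 17, 16, 15, 4, 6, 2, 8, 14, 7, 10, 0, 9, 13, 5, 3, 1, 11, 12, 18])))))) (.excl 3 (.excl 4 (.excl 3 (.excl 8 (.excl 4 (.excl 8 (.excl 4 Cert.done))))))))))))))))))))))))))))))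

def c9 : Cert := (.excl 11 (.excl 0 (.excl 11 (.excl 2 (.excl 0 (.excl 6 (.excl 2 (.excl 0 (.excl 0 (.excl 2 (.excl 10 (.excl 3 (.excl 10 (.excl 2 (.excl 8 (.excl 6 (.excl 2 (.kid 197764 (.forced 1024 4 [10, 6, 2, 0] 533776 (.forced 65536 3 [10, 5, 2, 1] 590408 (.branch 4 6 [14, 5, 2] (.excl 0 (.excl 0 (.excl 0 (.excl 0 (.excl 0 c8)))))))) (.excl 2 (.excl 2 (.excl 3 (.excl 6 (.excl 2 (.excl 3 (.excl 2 (.excl 2 (.excl 6 (.excl 2 (.excl 2 (.excl 2 Cert.done))))))))))))))))))))))))))))))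

def c10 : Cert := (.excl 9 (.excl 9 (.excl 9 (.excl 6 (.excl 9 (.excl 9 (.excl 9 (.excl 1 (.excl 5 (.excl 2 (.excl 7 (.excl 3 (.excl 7 (.excl 6 (.excl 3 (.kid 1082408 (.forced 32 4 [9, 5, 1, 0] 329776 (.branch 1024 2 [9, 5, 1] (.excl 10 (.excl 11 (.excl 0 (.excl 11 (.excl 2 c9))))))) (.excl 3 (.excl 1 (.excl 3 (.excl 2 (.excl 2 (.excl 2 (.kid 329768 (.forced 32 4 [9, 5, 1, 0] 1082416 (.branch 1024 2 [9, 5, 0] (.excl 10 (.excl 11 (.excl 1 (.excl 11 (.excl 2 c7))))))) (.excl 1 (.excl 5 (.excl 6 (.excl 1 (.excl 5 (.excl 1 Cert.done)))))))))))))))))))))))))))))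

def c11 : Cert := (.excl 4 (.excl 7 (.excl 1 (.excl 6 (.excl 7 (.excl 1 (.excl 8 (.excl 1 (.excl 3 (.excl 1 (.excl 0 (.excl 0 (.excl 0 (.excl 0 (.excl 0 (.excl 0 (.excl 0 (.excl 0 (.excl 0 (.excl 0 (.excl 4 (.excl 4 (.excl 4 (.kid 168004 (.forced 4 7 [15, 6, 3, 0] 1065604 (.forced 64 3 [15, 10, 2, 1] 1058888 (.forced 8 8 [17, 7, 4, 0] 295688 (.forced 128 4 [17, 11, 5, 2] 274576 (.forced 16 8 [19, 8, 5, 0] 149776 (.leaf [0, 1, 2, 3, 4, 5, 6, 7, 8, 13, 14, 15, 16, 17, 18, 19, 20, 9, 10, 11, 12] [20, 19, 16, 18, 15, 8, 3, 1, 4, 14, 0, 10, 2, 9, 13, 5, 6, 7, 11, 12, 17])))))) (.excl 3 (.excl 6 (.excl 8 (.excl 3 (.excl 8 (.excl 3 Cert.done))))))))))))))))))))))))))))))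

def c12 : Cert := (.excl 2 (.excl 11 (.excl 1 (.excl 2 (.excl 6 (.excl 1 (.excl 2 (.excl 1 (.excl 1 (.excl 10 (.excl 2 (.excl 10 (.excl 4 (.excl 2 (.excl 6 (.excl 4 (.excl 2 (.excl 2 (.excl 4 (.excl 2 (.excl 6 (.kid 533764 (.forced 1024 3 [10, 6, 1, 0] 197768 (.forced 65536 4 [10, 5, 4, 0] 590416 (.branch 4 6 [14, 5, 2] (.excl 0 (.excl 0 (.excl 0 (.excl 0 (.excl 0 c11)))))))) (.excl 2 (.excl 2 (.excl 7 (.excl 2 (.excl 2 (.excl 6 (.excl 2 Cert.done)))))))))))))))))))))))))))))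

def c13 : Cert := (.excl 3 (.excl 7 (.excl 1 (.excl 6 (.excl 7 (.excl 1 (.excl 8 (.excl 1 (.excl 4 (.excl 1 (.excl 0 (.excl 0 (.excl 0 (.excl 0 (.excl 0 (.excl 0 (.excl 0 (.excl 0 (.excl 0 (.excl 0 (.excl 3 (.excl 3 (.excl 3 (.kid 168004 (.forced 4 7 [15, 6, 3, 0] 1065604 (.forced 64 4 [15, 10, 2, 1] 1058896 (.forced 16 8 [17, 6, 4, 0] 295696 (.forced 128 3 [17, 11, 5, 2] 274568 (.forced 8 8 [19, 9, 5, 0] 149768 (.leaf [0, 1, 2, 3, 4, 5, 6, 8, 7, 17, 18, 20, 19, 13, 14, 16, 15, 9, 10, 12, 11] [20, 19, 16, 17, 15, 4, 6, 2, 8, 14, 7, 10, 1, 9, 12, 5, 3, 0, 11, 13, 18])))))) (.excl 4 (.excl 6 (.excl 8 (.excl 4 (.excl 8 (.excl 4 Cert.done))))))))))))))))))))))))))))))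

def c14 : Cert := (.excl 2 (.excl 11 (.excl 0 (.excl 2 (.excl 6 (.excl 0 (.excl 2 (.excl 0 (.excl 0 (.excl 10 (.excl 2 (.excl 10 (.excl 4 (.excl 2 (.excl 6 (.excl 4 (.excl 2 (.excl 2 (.excl 4 (.excl 2 (.excl 6 (.kid 533764 (.forced 1024 4 [10, 6, 2, 0] 197776 (.forced 65536 3 [10, 5, 4, 0] 590408 (.branch 4 6 [14, 5, 2] (.excl 0 (.excl 0 (.excl 0 (.excl 0 (.excl 0 c13)))))))) (.excl 2 (.excl 2 (.excl 7 (.excl 2 (.excl 2 (.excl 6 (.excl 2 Cert.done)))))))))))))))))))))))))))))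

def c15 : Cert := (.excl 9 (.excl 9 (.excl 9 (.excl 1 (.excl 6 (.excl 9 (.excl 9 (.excl 2 (.excl 9 (.excl 5 (.excl 3 (.excl 7 (.excl 7 (.excl 1 (.excl 3 (.excl 3 (.excl 3 (.excl 2 (.kid 1082408 (.forced 32 4 [9, 5, 1, 0] 544816 (.branch 1024 2 [9, 5, 1] (.excl 10 (.excl 11 (.excl 2 (.excl 11 (.excl 0 (.excl 11 c14)))))))) (.excl 5 (.excl 6 (.kid 544808 (.forced 32 4 [9, 5, 1, 0] 1082416 (.branch 1024 2 [9, 5, 0] (.excl 10 (.excl 11 (.excl 2 (.excl 11 (.excl 1 (.excl 11 c12)))))))) (.excl 1 (.excl 2 (.excl 1 (.excl 1 (.excl 2 (.excl 6 (.excl 5 (.excl 2 Cert.done))))))))))))))))))))))))))))))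

def c16 : Cert := (.excl 1 (.excl 6 (.excl 4 (.excl 7 (.excl 1 (.excl 1 (.excl 1 (.excl 8 (.excl 3 (.excl 7 (.excl 0 (.excl 0 (.excl 0 (.excl 0 (.excl 0 (.excl 0 (.excl 0 (.excl 0 (.excl 0 (.excl 0 (.excl 6 (.excl 4 (.kid 536644 (.forced 4 7 [15, 6, 3, 0] 328324 (.forced 64 3 [15, 10, 2, 1] 198728 (.forced 8 8 [17, 7, 4, 0] 541448 (.forced 128 4 [17, 11, 5, 2] 151696 (.forced 16 8 [19, 8, 5, 0] 272656 (.leaf [0, 1, 2, 3, 4, 5, 6, 7, 8, 13, 14, 15, 16, 9, 10, 11, 12, 17, 18, 19, 20] [20, 19, 17, 18, 15, 8, 3, 1, 4, 14, 0, 10, 2, 9, 13, 5, 6, 7, 11, 12, 16])))))) (.excl 4 (.excl 3 (.excl 4 (.excl 8 (.excl 3 (.excl 8 (.excl 3 Cert.done))))))))))))))))))))))))))))))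

def c17 : Cert := (.excl 11 (.excl 2 (.excl 1 (.excl 6 (.excl 2 (.excl 1 (.excl 1 (.excl 2 (.excl 10 (.excl 4 (.excl 10 (.excl 2 (.excl 4 (.excl 6 (.excl 2 (.excl 4 (.excl 2 (.excl 2 (.excl 8 (.excl 6 (.excl 2 (.kid 165124 (.forced 1024 3 [10, 6, 1, 0] 1057928 (.forced 32768 4 [10, 6, 3, 1] 1081936 (.branch 4 6 [14, 5, 2] (.excl 0 (.excl 0 (.excl 0 (.excl 0 (.excl 0 c16)))))))) (.excl 2 (.excl 2 (.excl 6 (.excl 2 (.excl 2 (.excl 2 Cert.done))))))))))))))))))))))))))))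

def c18 : Cert := (.excl 1 (.excl 6 (.excl 3 (.excl 7 (.excl 1 (.excl 1 (.excl 1 (.excl 8 (.excl 4 (.excl 7 (.excl 0 (.excl 0 (.excl 0 (.excl 0 (.excl 0 (.excl 0 (.excl 0 (.excl 0 (.excl 0 (.excl 0 (.excl 6 (.excl 3 (.kid 536644 (.forced 4 7 [15, 6, 3, 0] 328324 (.forced 64 4 [15, 10, 2, 1] 198736 (.forced 16 8 [17, 6, 4, 0] 541456 (.forced 128 3 [17, 11, 5, 2] 151688 (.forced 8 8 [19, 9, 5, 0] 272648 (.leaf [0, 1, 2, 3, 4, 5, 6, 8, 7, 17, 18, 20, 19, 9, 10, 12, 11, 13, 14, 16, 15] [20, 19, 17, 16, 15, 4, 6, 2, 8, 14, 7, 10, 1, 9, 12, 5, 3, 0, 11, 13, 18])))))) (.excl 3 (.excl 4 (.excl 3 (.excl 8 (.excl 4 (.excl 8 (.excl 4 Cert.done))))))))))))))))))))))))))))))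

def c19 : Cert := (.excl 11 (.excl 2 (.excl 0 (.excl 6 (.excl 2 (.excl 0 (.excl 0 (.excl 2 (.excl 10 (.excl 4 (.excl 10 (.excl 2 (.excl 4 (.excl 6 (.excl 2 (.excl 4 (.excl 2 (.excl 2 (.excl 8 (.excl 6 (.excl 2 (.kid 165124 (.forced 1024 4 [10, 6, 2, 0] 1057936 (.forced 32768 3 [10, 6, 2, 1] 1081928 (.branch 4 6 [14, 5, 2] (.excl 0 (.excl 0 (.excl 0 (.excl 0 (.excl 0 c18)))))))) (.excl 2 (.excl 2 (.excl 6 (.excl 2 (.excl 2 (.excl 2 Cert.done))))))))))))))))))))))))))))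

def c20 : Cert := (.excl 1 (.excl 9 (.excl 9 (.excl 6 (.excl 9 (.excl 2 (.excl 9 (.excl 9 (.excl 5 (.excl 7 (.excl 1 (.excl 3 (.excl 7 (.excl 6 (.excl 3 (.excl 2 (.excl 3 (.kid 590888 (.forced 32 4 [9, 5, 1, 0] 299056 (.branch 1024 2 [9, 5, 1] (.excl 10 (.excl 11 (.excl 0 (.excl 11 (.excl 2 (.excl 11 (.excl 0 c19))))))))) (.excl 3 (.excl 1 (.kid 299048 (.forced 32 4 [9, 5, 1, 0] 590896 (.branch 1024 2 [9, 5, 0] (.excl 10 (.excl 11 (.excl 1 (.excl 11 (.excl 2 (.excl 11 (.excl 1 c17))))))))) (.excl 2 (.excl 1 (.excl 1 (.excl 5 (.excl 6 (.excl 2 (.excl 2 (.excl 5 Cert.done)))))))))))))))))))))))))))))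

def c21 : Cert := (.excl 0 (.excl 6 (.excl 1 (.excl 0 (.excl 1 (.excl 5 (.excl 2 (.excl 1 (.kid 1067044 (.branch 32 3 [8, 4, 0] (.excl 7 (.excl 9 (.excl 9 (.excl 3 (.excl 9 (.excl 9 c20))))))) (.excl 1 (.excl 1 (.excl 1 (.excl 1 (.kid 329764 (.branch 32 3 [8, 4, 0] (.excl 7 (.excl 3 (.excl 9 (.excl 9 (.excl 9 c15)))))) (.excl 1 (.excl 0 (.excl 1 (.excl 4 (.excl 1 (.excl 5 (.excl 0 (.excl 2 (.kid 544804 (.branch 32 3 [8, 4, 0] (.excl 7 (.excl 9 (.excl 9 (.excl 3 (.excl 9 (.excl 2 c10))))))) (.excl 0 c5))))))))))))))))))))))))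

def c22 : Cert := (.excl 2 (.excl 6 (.excl 1 (.excl 4 (.excl 2 (.excl 1 (.excl 2 (.excl 1 (.excl 8 (.excl 1 (.excl 2 (.excl 3 (.excl 7 (.excl 4 (.excl 2 (.excl 2 (.excl 2 (.excl 3 (.excl 3 (.excl 7 (.excl 2 (.excl 2 (.excl 2 (.kid 151684 (.forced 4 8 [15, 6, 1, 0] 272644 (.forced 128 4 [15, 9, 4, 1] 328336 (.forced 16 6 [17, 6, 4, 0] 536656 (.forced 64 3 [17, 12, 4, 0] 198728 (.forced 8 8 [19, 9, 7, 0] 541448 (.leaf [0, 1, 2, 3, 4, 5, 6, 8, 7, 9, 10, 12, 11, 13, 14, 16, 15, 17, 18, 20, 19] [20, 19, 18, 17, 15, 5, 1, 7, 4, 14, 3, 10, 8, 9, 12, 6, 2, 0, 11, 13, 16])))))) (.excl 4 (.excl 4 (.excl 2 (.excl 2 (.excl 2 (.excl 8 Cert.done))))))))))))))))))))))))))))))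

def c23 : Cert := (.excl 11 (.excl 1 (.excl 11 (.excl 0 (.excl 1 (.excl 6 (.excl 0 (.excl 1 (.excl 0 (.excl 0 (.excl 10 (.excl 1 (.excl 10 (.excl 3 (.excl 1 (.excl 6 (.kid 1057928 (.forced 1024 4 [10, 6, 3, 0] 165136 (.forced 32768 2 [10, 6, 3, 0] 1081924 (.branch 4 7 [14, 5, 0] (.excl 6 (.excl 2 (.excl 3 (.excl 1 (.excl 7 c22)))))))) (.excl 1 (.excl 1 (.excl 7 (.excl 1 (.excl 6 (.excl 3 (.excl 1 (.excl 1 (.excl 3 (.excl 1 (.excl 1 (.excl 6 (.excl 1 Cert.done))))))))))))))))))))))))))))))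

def c24 : Cert := (.excl 1 (.excl 6 (.excl 2 (.excl 3 (.excl 1 (.excl 1 (.excl 1 (.excl 2 (.excl 8 (.excl 2 (.excl 1 (.excl 4 (.excl 7 (.excl 3 (.excl 1 (.excl 1 (.excl 1 (.excl 4 (.excl 4 (.excl 7 (.excl 1 (.excl 1 (.excl 1 (.kid 151684 (.forced 4 8 [15, 6, 1, 0] 272644 (.forced 128 3 [15, 9, 3, 1] 328328 (.forced 8 6 [17, 7, 5, 0] 536648 (.forced 64 4 [17, 12, 4, 0] 198736 (.forced 16 8 [19, 8, 6, 0] 541456 (.leaf [0, 1, 2, 3, 4, 5, 6, 7, 8, 9, 10, 11, 12, 17, 18, 19, 20, 13, 14, 15, 16] [20, 19, 18, 16, 15, 4, 2, 7, 5, 14, 0, 10, 8, 9, 13, 6, 1, 3, 11, 12, 17])))))) (.excl 3 (.excl 3 (.excl 1 (.excl 1 (.excl 1 (.excl 8 Cert.done))))))))))))))))))))))))))))))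

def c25 : Cert := (.excl 11 (.excl 1 (.excl 0 (.excl 6 (.excl 1 (.excl 0 (.excl 0 (.excl 1 (.excl 10 (.excl 4 (.excl 10 (.excl 1 (.excl 4 (.excl 6 (.excl 1 (.excl 4 (.excl 1 (.excl 1 (.excl 8 (.excl 6 (.excl 1 (.kid 165128 (.forced 1024 4 [10, 6, 3, 0] 1057936 (.forced 32768 2 [10, 6, 2, 1] 1081924 (.branch 4 7 [14, 5, 0] (.excl 6 (.excl 1 (.excl 4 (.excl 2 (.excl 7 c24)))))))) (.excl 1 (.excl 1 (.excl 6 (.excl 1 (.excl 1 (.excl 1 Cert.done))))))))))))))))))))))))))))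

def c26 : Cert := (.excl 9 (.excl 9 (.excl 1 (.excl 6 (.excl 3 (.excl 9 (.excl 9 (.excl 9 (.excl 5 (.excl 7 (.excl 2 (.excl 7 (.excl 1 (.excl 2 (.excl 3 (.kid 1067048 (.forced 32 4 [9, 5, 1, 0] 299056 (.branch 1024 3 [9, 5, 2] (.excl 10 (.excl 11 (.excl 0 (.excl 11 (.excl 1 (.excl 11 (.excl 0 c25))))))))) (.excl 2 (.excl 2 (.excl 5 (.excl 6 (.excl 3 (.excl 1 (.kid 299048 (.forced 32 4 [9, 5, 1, 0] 1067056 (.branch 1024 3 [9, 5, 2] (.excl 10 (.excl 11 (.excl 1 (.excl 11 (.excl 0 c23))))))) (.excl 1 (.excl 1 (.excl 3 (.excl 6 (.excl 3 (.excl 5 Cert.done)))))))))))))))))))))))))))))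

def c27 : Cert := (.excl 1 (.excl 4 (.excl 2 (.excl 6 (.excl 1 (.excl 1 (.excl 1 (.excl 2 (.excl 8 (.excl 2 (.excl 7 (.excl 4 (.excl 2 (.excl 3 (.excl 7 (.excl 2 (.excl 3 (.excl 2 (.excl 3 (.excl 2 (.excl 4 (.excl 2 (.kid 274564 (.forced 4 8 [15, 6, 1, 0] 149764 (.forced 128 4 [15, 9, 4, 1] 1065616 (.forced 16 6 [17, 6, 4, 0] 168016 (.forced 64 3 [17, 12, 4, 0] 1058888 (.forced 8 8 [19, 9, 7, 0] 295688 (.leaf [0, 1, 2, 3, 4, 5, 6, 8, 7, 9, 10, 12, 11, 17, 18, 20, 19, 13, 14, 16, 15] [20, 19, 18, 16, 15, 5, 1, 7, 4, 14, 3, 10, 8, 9, 12, 6, 2, 0, 11, 13, 17])))))) (.excl 2 (.excl 4 (.excl 2 (.excl 2 (.excl 8 (.excl 2 (.excl 2 Cert.done))))))))))))))))))))))))))))))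

def c28 : Cert := (.excl 11 (.excl 0 (.excl 11 (.excl 1 (.excl 0 (.excl 6 (.excl 1 (.excl 0 (.excl 0 (.excl 1 (.excl 10 (.excl 3 (.excl 10 (.excl 1 (.excl 8 (.excl 6 (.excl 1 (.kid 197768 (.forced 1024 4 [10, 6, 3, 0] 533776 (.forced 65536 2 [10, 5, 2, 1] 590404 (.branch 4 7 [14, 5, 0] (.excl 6 (.excl 1 (.excl 7 (.excl 2 (.excl 3 c27)))))))) (.excl 1 (.excl 1 (.excl 3 (.excl 6 (.excl 1 (.excl 3 (.excl 1 (.excl 1 (.excl 6 (.excl 1 (.excl 1 (.excl 1 Cert.done))))))))))))))))))))))))))))))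

def c29 : Cert := (.excl 2 (.excl 3 (.excl 1 (.excl 6 (.excl 2 (.excl 1 (.excl 2 (.excl 1 (.excl 8 (.excl 1 (.excl 7 (.excl 3 (.excl 1 (.excl 4 (.excl 7 (.excl 1 (.excl 4 (.excl 1 (.excl 4 (.excl 1 (.excl 3 (.excl 1 (.kid 274564 (.forced 4 8 [15, 6, 1, 0] 149764 (.forced 128 3 [15, 9, 3, 1] 1065608 (.forced 8 6 [17, 7, 5, 0] 168008 (.forced 64 4 [17, 12, 4, 0] 1058896 (.forced 16 8 [19, 8, 6, 0] 295696 (.leaf [0, 1, 2, 3, 4, 5, 6, 7, 8, 9, 10, 11, 12, 13, 14, 15, 16, 17, 18, 19, 20] [20, 19, 18, 17, 15, 4, 2, 7, 5, 14, 0, 10, 8, 9, 13, 6, 1, 3, 11, 12, 16])))))) (.excl 1 (.excl 3 (.excl 1 (.excl 1 (.excl 8 (.excl 1 (.excl 1 Cert.done))))))))))))))))))))))))))))))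

def c30 : Cert := (.excl 1 (.excl 11 (.excl 0 (.excl 1 (.excl 6 (.excl 0 (.excl 1 (.excl 0 (.excl 0 (.excl 10 (.excl 1 (.excl 10 (.excl 4 (.excl 1 (.excl 6 (.excl 4 (.excl 1 (.excl 1 (.excl 4 (.excl 1 (.excl 6 (.kid 533768 (.forced 1024 4 [10, 6, 3, 0] 197776 (.forced 65536 2 [10, 5, 3, 0] 590404 (.branch 4 7 [14, 5, 0] (.excl 6 (.excl 2 (.excl 7 (.excl 1 (.excl 4 c29)))))))) (.excl 1 (.excl 1 (.excl 7 (.excl 1 (.excl 1 (.excl 6 (.excl 1 Cert.done)))))))))))))))))))))))))))))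

def c31 : Cert := (.excl 9 (.excl 1 (.excl 9 (.excl 9 (.excl 6 (.excl 3 (.excl 9 (.excl 9 (.excl 9 (.excl 5 (.excl 7 (.excl 1 (.excl 7 (.excl 2 (.excl 6 (.excl 3 (.excl 2 (.kid 329768 (.forced 32 4 [9, 5, 1, 0] 544816 (.branch 1024 3 [9, 5, 2] (.excl 10 (.excl 11 (.excl 1 (.excl 11 (.excl 0 (.excl 11 c30)))))))) (.excl 2 (.excl 2 (.excl 1 (.excl 3 (.kid 544808 (.forced 32 4 [9, 5, 1, 0] 329776 (.branch 1024 3 [9, 5, 2] (.excl 10 (.excl 11 (.excl 0 (.excl 11 (.excl 1 c28))))))) (.excl 1 (.excl 1 (.excl 5 (.excl 3 (.excl 6 (.excl 3 (.excl 5 Cert.done))))))))))))))))))))))))))))))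

def c32 : Cert := (.excl 2 (.excl 1 (.excl 6 (.excl 2 (.excl 1 (.excl 6 (.excl 2 (.excl 6 (.excl 0 (.excl 2 (.excl 6 (.excl 0 (.excl 2 (.excl 2 (.excl 2 (.excl 2 (.excl 2 (.excl 5 (.excl 2 (.excl 1 (.kid 1082404 (.branch 32 3 [8, 4, 0] (.excl 7 (.excl 9 (.excl 9 (.excl 9 (.excl 2 c31)))))) (.excl 2 (.kid 590884 (.branch 32 3 [8, 4, 0] (.excl 7 (.excl 9 (.excl 2 (.excl 9 (.excl 9 (.excl 9 c26))))))) (.excl 0 (.excl 2 (.excl 2 (.excl 4 (.excl 6 (.excl 1 c21)))))))))))))))))))))))))))))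

def c33 : Cert := (.excl 8 (.excl 6 (.excl 8 (.excl 1 (.excl 8 (.excl 8 (.excl 1 (.excl 8 (.excl 8 (.excl 8 (.excl 0 (.excl 8 (.excl 8 (.excl 0 (.excl 5 (.excl 5 (.excl 2 (.excl 8 (.excl 8 (.excl 5 (.excl 8 (.excl 1 (.excl 8 (.excl 8 (.excl 8 (.excl 0 (.excl 4 (.excl 4 (.excl 4 (.excl 6 c32))))))))))))))))))))))))))))))

def c34 : Cert := (.kid 279618 (.branch 2 7 [6, 1, 0] (.excl 4 (.excl 5 (.excl 5 (.excl 3 (.excl 5 (.excl 2 (.excl 4 (.excl 4 (.excl 3 (.kid 559234 (.forced 2 8 [7, 2, 1, 0] 1118466 (.branch 32 2 [7, 3] (.excl 8 (.excl 8 (.excl 8 (.excl 8 (.excl 8 (.excl 8 (.excl 8 (.excl 8 (.excl 8 (.excl 6 (.excl 6 (.excl 2 (.excl 8 (.excl 8 (.excl 2 (.excl 8 c33)))))))))))))))))) (.excl 2 (.excl 3 (.excl 2 Cert.done)))))))))))))) (.excl 1 (.excl 2 (.excl 2 (.excl 1 (.excl 1 Cert.done))))))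

def c35 : Cert := (.branch 2 5 [4] (.excl 3 (.excl 3 (.excl 3 (.excl 3 (.excl 2 (.excl 3 (.excl 3 (.excl 1 (.excl 3 (.excl 0 (.excl 2 (.excl 2 (.excl 2 (.excl 1 (.kid 139810 (.branch 2 6 [5, 0] (.excl 4 (.excl 4 (.excl 4 (.excl 3 (.excl 4 (.excl 4 (.excl 2 (.excl 4 (.excl 1 (.excl 3 (.excl 3 (.excl 3 (.excl 2 c34)))))))))))))) (.excl 0 (.excl 1 (.excl 1 (.excl 0 (.excl 0 Cert.done)))))))))))))))))))))

def cert : Cert := (.branch 1 1 [] (.kid 31 (.branch 1 5 [0] (.kid 481 (.branch 1 9 [1, 0] (.kid 7681 (.branch 1 13 [2, 1, 0] (.kid 122881 (.forced 1 17 [3, 2, 1, 0] 1966081 c35) Cert.done)) Cert.done)) Cert.done)) Cert.done))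

theorem K0_ok : targetOk 21 2 5 K0 = true := by decide +kernel

theorem cert_node : cert.isNode = true := by decide +kernel

theorem cert_ok : check 21 2 5 K0 cert [] [2097151] 0 [] = true := by decide +kernel

universe u

theorem unique {α : Type u} [Fintype α] [DecidableEq α] (hα : Fintype.card α = 21)
    {B : Set (Finset α)} (hB : IsSteinerSystem 2 5 B) : SetSystemIso B (sysOf 21 K0) :=
  unique_direct K0_ok cert_node cert_ok hα hB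

end Cfsg.Agent.Lib.Helper1.Stein.W21
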