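import Cfsg.Agent.Lib.Helper1.SteinW22

set_option autoImplicit false
set_option maxRecDepth 1000000

namespace Cfsg.Agent.Lib.Helper1.Stein.W23

open Cfsg Cfsg.Agent.Lib.Helper1.Stein

/-- the blocks of the standard system -/
def K0 : List ℕ := [3283, 3373, 4813, 4915, 26123, 30741, 41127, 41305, 52097, 54369, 76385, 79233, 82105, 82247, 99861, 104459, 143120, 143600, 143630, 148534, 148936, 154152, 164506, 164708, 171140, 190530, 198748, 199074, 202306, 221828, 238632, 250128, 270934, 271272, 277576, 280718, 280944, 284304, 298530, 299068, 299458, 320772, 328932, 328986, 334596, 356386, 370832, 377416, 393323, 393621, 438785, 478209, 534586, 534980, 538148, 541410, 541468, 548098, 558158, 558512, 563792, 585864, 593544, 594070, 594280, 615504, 631554, 641060, 657927, 660505, 680225, 753857, 788289, 792737, 835603, 860173, 926850, 938052, 952584, 983600, 1057948, 1058146, 1063554,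 1068612, 1069146, 1069476, 1083624, 1083670, 1087240, 1106480, 1114670, 1115088, 1121328, 1141000, 1159236, 1164418, 1181345, 1186113, 1228813, 1253395, 1313305, 1315847, 1335489, 1409313, 1452068, 1458946, 1475664, 1511560, 1572981, 1573259, 1616897, 1659393, 1712712, 1722512, 1740834, 1770756, 1847568, 1852456, 1868420, 1902658, 2099892, 2100042, 2102442, 2102612, 2121836, 2122130, 2139840, 2144544, 2149400, 2150918, 2173958, 2175512, 2180896, 2185408, 2195570, 2195852, 2238601, 2245201, 2262275, 2297893, 2368561, 2380041, 2394181, 2425475, 2491916, 2496530, 2539680, 2564416, 2633795, 2638981, 2654761, 2689297, 2755680, 2757504, 2793492, 2834442, 2883800, 2883878, 2910720, 2987008, 3154693, 3164195, 3182737, 3212361, 3276998, 3277112, 3306496, 3377664, 3411328, 3412576, 3448842, 3489812, 3671570, 3676172, 3719488, 3743904, 4195960, 4196230, 4200550, 4200856, 4222112, 4223808,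 4237836, 4240402, 4243668, 4243754, 4268234, 4268340, 4278802, 4281356, 4296000, 4297376, 4334661, 4345987, 4360241, 4391689, 4466947, 4473381, 4490377, 4526161, 4590272, 4592928, 4612120, 4685830, 4727441, 4737097, 4755717, 4785187, 4849836, 4850002, 4900352, 4929536, 4983828, 4985354, 5021792, 5063040, 5255209, 5260561, 5276227, 5310597, 5377034, 5378580, 5415296, 5455968, 5505202, 5505356, 5560320, 5580288, 5770016, 5772480, 5791750, 5865496, 6291487, 6291937, 6299137, 6414337, 6431266, 6441220, 6459464, 6489232, 6566020, 6571074, 6587152, 6621224, 6825224, 6836272, 6850690, 6881860, 7350352, 7357064, 7373860, 7409922, 8257537]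

/-- the blocks through the last point -/
def K1 : List ℕ := [4195960, 4196230, 4200550, 4200856, 4222112, 4223808, 4237836, 4240402, 4243668, 4243754, 4268234, 4268340, 4278802, 4281356, 4296000, 4297376, 4334661, 4345987, 4360241, 4391689, 4466947, 4473381, 4490377, 4526161, 4590272, 4592928, 4612120, 4685830, 4727441, 4737097, 4755717, 4785187, 4849836, 4850002, 4900352, 4929536, 4983828, 4985354, 5021792, 5063040, 5255209, 5260561, 5276227, 5310597, 5377034, 5378580, 5415296, 5455968, 5505202, 5505356, 5560320, 5580288, 5770016, 5772480, 5791750, 5865496, 6291487, 6291937, 6299137, 6414337, 6431266, 6441220, 6459464, 6489232, 6566020, 6571074, 6587152, 6621224, 6825224, 6836272, 6850690, 6881860, 7350352, 7357064, 7373860, 7409922, 8257537]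

theorem K1_eq : K1 = W22.K0.map (fun m => m ||| 1 <<< 22) := by decide +kernel

def c0 : Cert := (.excl 17 (.excl 21 (.excl 21 (.excl 21 (.excl 17 (.excl 17 (.excl 17 (.excl 21 (.excl 21 (.excl 21 (.excl 18 (.excl 21 (.excl 27 (.excl 27 (.excl 18 (.excl 18 (.excl 18 (.excl 21 (.excl 21 (.excl 30 (.excl 21 (.excl 27 (.excl 27 (.excl 21 (.excl 21 (.excl 31 (.excl 21 (.excl 21 (.excl 31 (.excl 21 Cert.done))))))))))))))))))))))))))))))

def c1 : Cert := (.excl 2 (.excl 2 (.excl 2 (.excl 2 (.excl 9 (.excl 11 (.excl 16 (.excl 20 (.excl 21 (.excl 21 (.excl 11 (.excl 16 (.excl 20 (.excl 30 (.excl 40 (.excl 11 (.excl 11 (.excl 11 (.excl 11 (.excl 16 (.excl 16 (.excl 16 (.excl 20 (.excl 20 (.excl 31 (.excl 9 (.excl 9 (.excl 9 (.excl 9 (.excl 9 c0))))))))))))))))))))))))))))))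

def c2 : Cert := (.excl 2 (.excl 2 (.excl 2 (.excl 2 (.excl 2 (.excl 2 (.excl 2 (.excl 2 (.excl 2 (.excl 2 (.excl 2 (.excl 2 (.excl 2 (.excl 2 (.excl 2 (.excl 2 (.excl 2 (.excl 2 (.excl 2 (.excl 2 (.excl 2 (.excl 2 (.excl 2 (.excl 2 (.excl 2 (.excl 2 (.excl 2 (.excl 2 (.excl 2 (.excl 2 c1))))))))))))))))))))))))))))))

def c3 : Cert := (.excl 2 (.excl 2 (.excl 2 (.excl 2 (.excl 2 (.excl 2 (.excl 2 (.excl 2 (.excl 2 (.excl 2 (.excl 2 (.excl 2 (.excl 2 (.excl 2 (.excl 2 (.excl 2 (.excl 2 (.excl 2 (.excl 2 (.excl 2 (.excl 2 (.excl 2 (.excl 2 (.excl 2 (.excl 2 (.excl 2 (.excl 2 (.excl 2 (.excl 2 (.excl 2 c2))))))))))))))))))))))))))))))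

def c4 : Cert := (.excl 2 (.excl 2 (.excl 4 (.excl 7 (.excl 11 (.excl 16 (.excl 16 (.excl 16 (.excl 16 (.excl 9 (.excl 13 (.excl 16 (.excl 21 (.excl 21 (.excl 21 (.excl 27 (.excl 16 (.excl 21 (.excl 30 (.excl 31 (.excl 16 (.excl 21 (.excl 31 (.excl 31 (.excl 16 (.excl 16 (.excl 16 (.excl 21 (.excl 21 (.excl 31 c3))))))))))))))))))))))))))))))

def c5 : Cert := (.excl 15 (.excl 18 (.excl 21 (.excl 21 (.excl 21 (.excl 19 (.excl 21 (.excl 21 (.excl 21 (.excl 21 (.excl 21 (.excl 21 (.excl 21 (.excl 21 (.excl 21 (.excl 2 (.excl 2 (.excl 2 (.excl 2 (.excl 2 (.excl 2 (.excl 2 (.excl 2 (.excl 2 (.excl 2 (.excl 2 (.excl 2 (.excl 2 (.excl 2 (.excl 2 c4))))))))))))))))))))))))))))))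

def c6 : Cert := (.excl 2 (.excl 2 (.excl 2 (.excl 2 (.excl 2 (.excl 2 (.excl 2 (.excl 2 (.excl 2 (.excl 2 (.excl 2 (.excl 2 (.excl 2 (.excl 2 (.excl 2 (.excl 2 (.excl 2 (.excl 21 (.excl 6 (.excl 11 (.excl 16 (.excl 20 (.excl 21 (.excl 21 (.excl 9 (.excl 12 (.excl 17 (.excl 21 (.excl 21 (.excl 21 c5))))))))))))))))))))))))))))))

def c7 : Cert := (.excl 3 (.excl 3 (.excl 3 (.excl 3 (.excl 3 (.excl 3 (.excl 3 (.excl 3 (.excl 3 (.excl 3 (.excl 9 (.excl 11 (.excl 17 (.excl 17 (.excl 11 (.excl 17 (.excl 17 (.excl 11 (.excl 11 (.excl 17 (.excl 9 (.excl 9 (.excl 9 (.excl 22 (.excl 30 (.excl 22 (.excl 24 (.excl 28 (.excl 28 (.excl 24 Cert.done))))))))))))))))))))))))))))))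

def c8 : Cert := (.excl 17 (.excl 17 (.excl 17 (.excl 17 (.excl 3 (.excl 3 (.excl 3 (.excl 3 (.excl 3 (.excl 3 (.excl 3 (.excl 3 (.excl 3 (.excl 3 (.excl 3 (.excl 3 (.excl 3 (.excl 3 (.excl 3 (.excl 3 (.excl 3 (.excl 3 (.excl 3 (.excl 3 (.excl 3 (.excl 3 (.excl 3 (.excl 3 (.excl 3 (.excl 3 c7))))))))))))))))))))))))))))))

def c9 : Cert := (.excl 28 (.excl 22 (.excl 31 (.excl 22 (.excl 32 (.excl 22 (.excl 3 (.excl 3 (.excl 3 (.excl 3 (.excl 3 (.excl 3 (.excl 3 (.excl 3 (.excl 3 (.excl 3 (.excl 3 (.excl 3 (.excl 3 (.excl 17 (.excl 8 (.excl 11 (.excl 17 (.excl 17 (.excl 9 (.excl 14 (.excl 17 (.excl 17 (.excl 15 (.excl 17 c8))))))))))))))))))))))))))))))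

def c10 : Cert := (.excl 2 (.excl 2 (.excl 2 (.excl 2 (.excl 2 (.excl 2 (.excl 2 (.excl 2 (.excl 3 (.excl 3 (.excl 3 (.excl 3 (.excl 3 (.excl 3 (.excl 3 (.excl 3 (.excl 3 (.excl 3 (.excl 3 (.excl 3 (.excl 3 (.excl 6 (.excl 7 (.excl 11 (.excl 17 (.excl 17 (.excl 9 (.excl 13 (.excl 22 (.excl 22 c9))))))))))))))))))))))))))))))

def c11 : Cert := (.excl 0 (.excl 0 (.excl 24 (.excl 24 (.excl 0 (.excl 0 (.excl 0 (.excl 0 (.excl 0 (.excl 24 (.excl 1 (.excl 1 (.excl 1 (.excl 1 (.excl 0 (.excl 13 (.excl 13 (.excl 13 (.excl 13 (.excl 41 (.excl 0 (.excl 13 (.excl 13 (.excl 13 (.excl 13 (.excl 24 (.excl 0 (.excl 0 (.excl 13 (.excl 13 Cert.done))))))))))))))))))))))))))))))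

def c12 : Cert := (.excl 13 (.excl 2 (.excl 13 (.excl 2 (.excl 1 (.excl 1 (.excl 0 (.excl 0 (.excl 24 (.excl 60 (.excl 1 (.excl 1 (.excl 1 (.excl 1 (.excl 1 (.excl 1 (.excl 1 (.excl 1 (.excl 1 (.excl 0 (.excl 13 (.excl 13 (.excl 13 (.excl 13 (.excl 25 (.excl 1 (.excl 0 (.excl 0 (.excl 6 (.excl 6 c11))))))))))))))))))))))))))))))

def c13 : Cert := (.excl 2 (.excl 2 (.excl 2 (.excl 2 (.excl 4 (.excl 6 (.excl 0 (.excl 6 (.excl 17 (.excl 6 (.excl 2 (.excl 2 (.excl 2 (.excl 2 (.excl 4 (.excl 23 (.excl 0 (.excl 17 (.excl 17 (.excl 23 (.excl 2 (.excl 2 (.excl 0 (.excl 2 (.excl 2 (.excl 2 (.excl 4 (.excl 0 (.excl 0 (.excl 17 Cert.done))))))))))))))))))))))))))))))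

def c14 : Cert := (.excl 5 (.excl 11 (.excl 5 (.excl 11 (.excl 11 (.excl 5 (.excl 9 (.excl 11 (.excl 7 (.excl 11 (.excl 5 (.excl 13 (.excl 5 (.excl 9 (.excl 9 (.excl 5 (.excl 9 (.excl 13 (.excl 9 (.excl 9 (.excl 5 (.excl 5 (.excl 5 (.excl 5 (.excl 13 (.excl 5 (.excl 5 (.excl 9 (.excl 5 (.excl 47 Cert.done))))))))))))))))))))))))))))))

def c15 : Cert := (.excl 9 (.excl 11 (.excl 11 (.excl 11 (.excl 8 (.excl 11 (.excl 11 (.excl 11 (.excl 11 (.excl 11 (.excl 8 (.excl 8 (.excl 8 (.excl 8 (.excl 8 (.excl 5 (.excl 13 (.excl 5 (.excl 3 (.excl 12 (.excl 5 (.excl 9 (.excl 29 (.excl 29 (.excl 47 (.excl 11 (.excl 9 (.excl 11 (.excl 6 (.excl 9 c14))))))))))))))))))))))))))))))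

def c16 : Cert := (.excl 7 (.excl 11 (.excl 7 (.excl 12 (.excl 11 (.excl 7 (.excl 10 (.excl 11 (.excl 4 (.excl 15 (.excl 7 (.excl 11 (.excl 7 (.excl 13 (.excl 11 (.excl 7 (.excl 10 (.excl 11 (.excl 4 (.excl 48 (.excl 7 (.excl 7 (.excl 7 (.excl 7 (.excl 11 (.excl 7 (.excl 7 (.excl 10 (.excl 7 (.excl 11 Cert.done))))))))))))))))))))))))))))))

def c17 : Cert := (.excl 4 (.excl 16 (.excl 12 (.excl 3 (.excl 4 (.excl 4 (.excl 4 (.excl 16 (.excl 6 (.excl 0 (.excl 4 (.excl 16 (.excl 0 (.excl 0 (.excl 4 (.excl 0 (.excl 0 (.excl 0 (.excl 0 (.excl 0 (.excl 4 (.excl 4 (.excl 3 (.excl 12 (.excl 3 (.excl 0 (.excl 4 (.excl 4 (.excl 0 (.excl 0 Cert.done))))))))))))))))))))))))))))))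

def c18 : Cert := (.excl 39 (.excl 17 (.excl 37 (.excl 37 (.excl 7 (.excl 37 (.excl 37 (.excl 36 (.excl 22 (.excl 37 (.excl 39 (.excl 39 (.excl 6 (.excl 35 (.excl 39 (.excl 16 (.excl 35 (.excl 36 (.excl 35 (.excl 35 (.excl 39 (.excl 39 (.excl 39 (.excl 36 (.excl 39 (.excl 37 (.excl 36 (.excl 19 (.excl 28 (.excl 36 Cert.done))))))))))))))))))))))))))))))

def c19 : Cert := (.forced 2368 12 [161, 124, 47, 17] 2890048 (.forced 8228 12 [159, 129, 91, 23] 192548 (.forced 4132 16 [151, 131, 85, 0] 1904676 (.forced 8232 9 [190, 93, 84, 20] 614952 (.forced 552 15 [151, 146, 87, 0] 1475112 (.forced 8260 11 [168, 74, 73, 27] 354372 (.forced 2116 15 [155, 130, 72, 0] 1738820 (.forced 8264 10 [164, 120, 75, 24] 1107016 (.forced 1096 16 [155, 147, 74, 0] 984136 (.forced 8324 10 [220, 127, 79, 31] 631940 (.forced 1156 14 [158, 139, 76, 0] 1459332 (.forced 8328 11 [168, 129, 92, 20] 1845384 (.forced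 2184 14 [162, 154, 78, 0] 247944 (.forced 8384 14 [170, 114, 53, 35] 2777280 (.forced 8450 10 [181, 89, 83, 62] 222466 (.forced 1282 15 [163, 154, 100, 0] 1869058 (.forced 8452 9 [174, 134, 85, 18] 926468 (.forced 772 14 [165, 141, 100, 0] 1164036 (.forced 8456 12 [233, 136, 93, 35] 373000 (.forced 4360 14 [169, 158, 102, 0] 1724680 (.forced 8464 11 [178, 142, 95, 60] 583952 (.forced 2320 16 [171, 145, 106, 0] 1509648 (.forced 8480 14 [180, 126, 70, 39] 3432736 (.forced 11264 15 [174, 137, 68, 25] 2534400 (.forced 12800 15 [176, 168, 63, 33] 3715584 (.forced 19456 16 [176, 168, 61, 32] 3755008 (.forced 20992 16 [178, 147, 72, 36] 2576896 (.forced 32960 16 [182, 128, 77, 42] 3506368 (.forced 33056 16 [184, 132, 69, 48] 2851104 (.leaf [0, 1, 2, 3, 4, 5, 8, 6, 7, 17, 20, 18, 19, 9, 12, 10, 11, 13, 16, 14, 15, 22, 21] [162, 159, 147, 170, 165, 136, 175, 144, 125, 126, 127, 124, 156,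 174, 137, 164, 57, 72, 109, 118, 44, 25, 104, 51, 11, 54, 106, 78, 55, 12, 24, 56, 99, 46, 16, 92, 71, 8, 63, 113, 76, 22, 49, 108, 23, 62, 7, 17, 171, 153, 123, 122, 116, 48, 27, 77, 97, 58, 93, 70, 53, 9, 10, 103, 47, 52, 59, 26, 173, 150, 135, 129, 130, 132, 166, 149, 73, 39, 41, 68, 96, 79, 14, 19, 105, 50, 45, 100, 21, 61, 119, 69, 60, 20, 18, 13, 133, 131, 146, 161, 143, 172, 128, 134, 43, 74, 67, 36, 158, 168, 120, 121, 38, 66, 75, 42, 65, 33, 31, 64, 187, 186, 185, 184, 208, 209, 222, 223, 231, 230, 203, 202, 214, 215, 224, 225, 195, 204, 218, 197, 194, 205, 219, 196, 182, 188, 228, 200, 193, 206, 216, 199, 191, 181, 221, 213, 179, 178, 211, 226, 192, 207, 217, 198, 177, 176, 210, 227, 190, 180, 220, 212, 183, 189, 229, 201, 110, 98, 117, 94, 0, 15, 83, 80, 90, 115, 91, 111, 82, 81, 1, 6, 145, 160, 154, 142, 167, 157, 138, 140, 34, 40, 88, 107, 151, 148, 152, 169, 112, 101,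 4, 2, 84, 85, 29, 28, 155, 141, 163, 139, 102, 89, 35, 37, 114, 95, 3, 5, 32, 30, 87, 86, 232, 233, 235, 252, 236, 247, 249, 242, 237, 246, 248, 243, 238, 245, 251, 240, 239, 244, 250, 241, 234]))))))))))))))))))))))))))))))

def c20 : Cert := (.forced 4162 14 [119, 109, 42, 0] 643138 (.forced 8272 9 [190, 112, 39, 11] 238160 (.forced 592 14 [119, 96, 44, 0] 1851984 (.forced 8322 9 [130, 107, 43, 21] 320130 (.forced 642 16 [122, 116, 46, 0] 1770114 (.forced 8336 12 [150, 56, 45, 15] 1142928 (.forced 4240 15 [126, 105, 48, 0] 954512 (.forced 8352 2 [128, 75, 58, 25] 1057508 (.forced 100 8 [127, 108, 60, 0] 542052 (.forced 164 8 [158, 108, 67, 1] 297380 (.forced 196 8 [135, 125, 46, 2] 201156 (.forced 224 3 [185, 31, 23, 3] 282856 (.forced 104 8 [129, 112, 68, 0] 141672 (.forced 168 8 [162, 125, 64, 1] 1115560 (.forced 200 8 [141, 99, 50, 2] 558024 (.forced 548 10 [153, 74, 68, 7]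 200228 (.forced 580 10 [204, 110, 66, 8] 300612 (.forced 584 11 [134, 100, 67, 2] 1120840 (.forced 608 11 [135, 94, 37, 10] 2148960 (.forced 644 11 [137, 105, 66, 11] 547460 (.forced 648 10 [210, 132, 67, 5] 145032 (.forced 672 10 [153, 133, 34, 13] 2885280 (.forced 776 10 [158, 75, 67, 7] 282376 (.forced 832 10 [145, 117, 42, 8] 3278656 (.forced 896 11 [142, 94, 37, 9] 2173824 (.forced 1064 11 [142, 121, 85, 11] 564264 (.forced 1120 12 [143, 101, 46, 17] 2176096 (.forced 1284 11 [145, 107, 64, 18] 1064196 (.forced 1408 12 [146, 97, 38, 14] 2151808 (.forced 2208 12 [150, 141, 41, 19] 3283104 c19))))))))))))))))))))))))))))))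

def c21 : Cert := (.excl 21 (.excl 21 (.excl 21 (.excl 21 (.excl 21 (.excl 21 (.excl 21 (.excl 11 (.excl 20 (.kid 165090 (.forced 98 8 [99, 91, 36, 0] 328546 (.forced 162 8 [146, 93, 39, 1] 536994 (.forced 194 8 [109, 97, 24, 2] 1067458 (.forced 546 10 [160, 95, 42, 2] 1070626 (.forced 578 10 [143, 34, 26, 3] 536130 (.forced 770 11 [103, 86, 30, 4] 170754 (.forced 800 4 [155, 60, 39, 5] 148400 (.forced 176 6 [152, 86, 38, 0] 592112 (.forced 112 8 [105, 99, 40, 0] 1085808 (.forced 208 8 [114, 74, 31, 1] 271824 (.forced 560 11 [107, 85, 49, 3] 277040 (.forced 656 10 [136, 38, 33, 4] 1085072 (.forced 784 10 [175, 86, 37, 5] 595728 (.forced 1104 11 [110, 75, 34, 3] 154704 (.forced 1154 11 [112, 98, 40, 14] 334978 (.forced 8226 11 [172, 106, 55, 13] 1157154 (.forced 2082 14 [115, 108, 51, 0] 935970 (.forced 8240 10 [125, 108, 48, 6] 1713200 (.forced 1072 14 [115, 97, 53, 0] 377904 (.forced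 8258 12 [126, 110, 38, 14] 1454146 c20)))))))))))))))))))) (.excl 28 (.excl 20 (.excl 20 (.excl 11 (.excl 36 (.excl 28 (.excl 11 (.excl 11 Cert.done))))))))))))))))))

def c22 : Cert := (.forced 138 8 [94, 79, 13, 1] 2490762 (.forced 148 8 [93, 67, 15, 8] 3670420 (.forced 532 10 [131, 63, 28, 16] 2123284 (.forced 536 11 [87, 61, 17, 15] 2755096 (.forced 1030 12 [89, 84, 31, 12] 2757638 (.forced 1048 12 [89, 56, 18, 9] 3413016 (.forced 2058 12 [134, 85, 22, 6] 2127882 (.forced 2068 12 [127, 68, 28, 14] 2201620 (.forced 8204 16 [98, 63, 35, 13] 3350540 (.forced 8210 16 [100, 87, 21, 16] 2957330 (.forced 16396 15 [107, 65, 31, 27] 2932748 (.forced 16402 15 [107, 89, 24, 22] 3325970 (.branch 98 7 [98, 90, 35] (.excl 21 (.excl 18 (.excl 21 (.excl 11 (.excl 11 (.excl 18 (.excl 20 (.excl 11 (.excl 11 (.excl 18 (.excl 11 (.excl 11 (.excl 11 (.excl 11 (.excl 11 (.excl 21 (.excl 20 c21))))))))))))))))))))))))))))))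

def c23 : Cert := (.excl 1 (.excl 3 (.excl 1 (.excl 1 (.excl 1 (.excl 1 (.excl 1 (.excl 3 (.excl 8 (.excl 39 (.excl 9 (.excl 8 (.kid 148046 (.forced 74 4 [77, 59, 6, 0] 297050 (.forced 518 11 [69, 65, 10, 1] 3410438 (.forced 524 4 [75, 39, 5, 2] 328348 (.forced 152 1 [73, 38, 4, 0] 541850 (.forced 26 8 [127, 11, 3, 0] 1057562 (.forced 274 2 [105, 58, 10, 0] 282902 (.forced 522 10 [110, 68, 6, 1] 2197002 (.forced 530 6 [86, 59, 16, 2] 2101970 (.forced 82 2 [108, 69, 7, 0] 1115222 (.forced 22 7 [132, 18, 3, 0] 141462 (.forced 70 8 [79, 75, 10, 1] 2138438 (.forced 84 3 [86, 55, 13, 2] 536668 (.forced 28 8 [135, 16, 9, 0] 165148 (.forced 76 7 [129, 63, 13, 1] 2100428 (.forced 88 8 [81, 49, 13, 2] 2179416 (.forced 134 3 [83, 80, 23, 5] 1085582 (.forced 14 8 [139, 26, 16, 0] 592142 c22))))))))))))))))) (.excl 9 (.excl 8 (.excl 8 (.excl 1 (.excl 3 (.excl 3 (.excl 3 (.excl 39 (.excl 9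 (.excl 1 (.excl 14 (.excl 9 (.excl 1 (.excl 1 Cert.done)))))))))))))))))))))))))))

def c24 : Cert := (.excl 0 (.excl 33 (.excl 0 (.excl 0 (.excl 2 (.excl 4 (.excl 4 (.excl 0 (.excl 2 (.excl 2 (.excl 2 (.excl 4 (.excl 3 (.excl 1 (.excl 2 (.excl 2 (.excl 0 (.kid 1067068 (.forced 44 8 [95, 46, 6, 0] 2102060 (.forced 52 6 [75, 46, 6, 1] 2490484 (.forced 56 7 [65, 45, 5, 2] 2138296 (.branch 74 2 [76, 58, 5] (.excl 3 (.excl 3 (.excl 8 (.excl 1 (.excl 1 (.excl 3 (.excl 3 (.excl 1 c23)))))))))))) (.excl 0 (.excl 0 (.excl 2 (.excl 2 (.excl 1 (.excl 1 Cert.done))))))))))))))))))))))))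

def c25 : Cert := (.excl 27 (.excl 1 (.excl 27 (.excl 0 (.excl 1 (.excl 27 (.excl 27 (.excl 1 (.excl 1 (.excl 27 (.kid 200762 (.forced 42 6 [69, 55, 3, 0] 3670122 (.forced 50 8 [109, 55, 3, 1] 2100530 (.branch 44 4 [94, 45, 5] (.excl 0 (.excl 2 (.excl 4 (.excl 4 (.excl 0 (.excl 0 (.excl 0 (.excl 0 (.excl 0 (.excl 2 (.excl 2 c24)))))))))))))) (.excl 1 (.excl 37 (.excl 0 (.excl 1 (.excl 27 (.excl 34 (.excl 1 (.excl 1 (.excl 37 (.excl 1 (.excl 27 (.excl 0 (.excl 1 (.excl 0 (.excl 0 (.excl 1 (.excl 1 (.excl 27 (.excl 1 Cert.done))))))))))))))))))))))))))))))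

def c26 : Cert := (.excl 7 (.excl 17 (.excl 7 (.excl 21 (.excl 39 (.excl 7 (.excl 26 (.excl 17 (.excl 35 (.excl 38 (.excl 31 (.excl 17 (.excl 17 (.excl 35 (.excl 35 (.kid 557622 (.forced 38 7 [60, 57, 1, 0] 2179238 (.branch 42 4 [68, 54, 2] (.excl 42 (.excl 18 (.excl 1 (.excl 27 (.excl 51 c25))))))) (.excl 26 (.excl 17 (.excl 35 (.excl 35 (.excl 17 (.excl 7 (.excl 50 (.excl 17 (.excl 17 (.excl 17 (.excl 17 (.excl 35 (.excl 22 (.excl 17 Cert.done))))))))))))))))))))))))))))))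

def c27 : Cert := (.excl 34 (.excl 26 (.excl 22 (.excl 26 (.excl 27 (.excl 13 (.excl 23 (.kid 271406 (.branch 38 4 [59, 56, 0] (.excl 39 (.excl 26 (.excl 35 (.excl 39 (.excl 26 c26)))))) (.excl 26 (.excl 35 (.excl 35 (.excl 35 (.excl 35 (.excl 26 (.excl 35 (.excl 39 (.excl 39 (.excl 26 (.excl 35 (.excl 19 (.excl 26 (.excl 19 (.excl 26 (.excl 19 (.excl 26 (.excl 27 (.excl 27 (.excl 27 (.excl 27 (.excl 27 c18))))))))))))))))))))))))))))))

def c28 : Cert := (.excl 7 (.excl 28 (.excl 28 (.excl 36 (.excl 49 (.excl 28 (.excl 13 (.excl 26 (.excl 13 (.excl 26 (.excl 26 (.excl 26 (.excl 26 (.excl 27 (.excl 13 (.excl 39 (.excl 22 (.excl 26 (.excl 22 (.excl 30 (.excl 39 (.excl 44 (.excl 26 (.excl 35 (.excl 39 (.excl 39 (.excl 26 (.excl 25 (.excl 39 (.excl 26 c27))))))))))))))))))))))))))))))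

def c29 : Cert := (.excl 26 (.excl 27 (.excl 27 (.excl 25 (.excl 39 (.excl 51 (.excl 26 (.excl 25 (.excl 27 (.excl 27 (.excl 38 (.excl 38 (.excl 38 (.excl 26 (.excl 35 (.excl 27 (.excl 27 (.excl 7 (.excl 7 (.excl 27 (.excl 27 (.excl 6 (.excl 27 (.excl 27 (.excl 6 (.excl 27 (.excl 39 (.excl 39 (.excl 6 (.excl 25 c28))))))))))))))))))))))))))))))

def c30 : Cert := (.excl 26 (.excl 34 (.excl 23 (.excl 35 (.excl 38 (.excl 23 (.excl 36 (.excl 26 (.excl 35 (.excl 27 (.excl 17 (.excl 23 (.excl 17 (.excl 36 (.excl 37 (.excl 30 (.excl 16 (.excl 36 (.excl 16 (.excl 35 (.excl 39 (.excl 17 (.excl 36 (.excl 39 (.excl 36 (.excl 16 (.excl 34 (.excl 36 (.excl 36 (.excl 36 c29))))))))))))))))))))))))))))))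

def c31 : Cert := (.forced 545 8 [63, 37, 20, 1] 42785 (.forced 289 11 [100, 42, 23, 0] 88353 (.forced 577 7 [86, 21, 10, 3] 83649 (.forced 193 11 [102, 43, 13, 0] 47297 (.forced 641 8 [74, 41, 15, 1] 1315713 (.forced 385 10 [104, 33, 18, 0] 658817 (.forced 8225 7 [88, 42, 29, 5] 467105 (.forced 161 14 [106, 44, 31, 0] 1622177 (.forced 8257 8 [66, 44, 16, 4] 1646913 (.forced 321 14 [108, 43, 28, 0] 442689 (.forced 8705 11 [80, 49, 18, 9] 1206785 (.forced 2561 15 [111, 48, 30, 0] 887297 (.forced 9217 12 [70, 41, 21, 11] 816129 (.forced 5121 15 [113, 47, 37, 0] 1283073 (.branch 38 3 [58, 55] (.excl 38 (.excl 38 (.excl 27 (.excl 27 (.excl 38 (.excl 38 (.excl 36 (.excl 36 (.excl 38 (.excl 26 (.excl 50 (.excl 30 (.excl 30 (.excl 34 (.excl 36 c30))))))))))))))))))))))))))))))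

def c32 : Cert := (.excl 19 (.excl 6 (.excl 5 (.excl 10 (.excl 6 (.excl 5 (.excl 8 (.excl 5 (.excl 6 (.excl 5 (.excl 13 (.excl 6 (.excl 17 (.excl 16 (.excl 6 (.excl 17 (.excl 8 (.excl 6 (.excl 6 (.excl 10 (.excl 6 (.kid 660065 (.forced 97 10 [98, 35, 24, 0] 1313889 c31) (.excl 8 (.excl 6 (.excl 6 (.excl 10 (.excl 6 (.excl 6 (.excl 8 (.excl 6 Cert.done))))))))))))))))))))))))))))))

def c33 : Cert := (.excl 8 (.excl 18 (.kid 786745 (.forced 41 10 [60, 15, 3, 0] 2245673 (.forced 49 9 [39, 15, 3, 1] 3211825 (.branch 69 4 [38, 20, 5] (.kid 2901 (.forced 69 12 [39, 21, 6, 0] 3166277 (.forced 273 12 [65, 10, 4, 1] 2240785 (.forced 529 3 [53, 10, 3, 2] 53785 (.forced 2053 3 [69, 22, 7, 3] 399373 (.forced 4105 7 [67, 19, 1, 0] 2691209 (.forced 16393 2 [57, 16, 7, 2] 24973 (.forced 13 9 [85, 12, 2, 0] 1574413 (.forced 133 9 [73, 28, 12, 1] 2261637 (.forced 137 4 [53, 26, 3, 2] 1179865 (.forced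 25 10 [88, 12, 6, 0] 76825 (.forced 73 9 [62, 25, 16, 1] 2368073 (.forced 81 10 [57, 28, 11, 2] 2655313 (.forced 145 11 [63, 21, 17, 3] 2377873 (.forced 261 10 [66, 35, 13, 7] 2426117 (.forced 265 11 [56, 29, 17, 8] 3180809 (.forced 8197 4 [54, 35, 19, 9] 1351701 (.forced 21 14 [95, 21, 16, 0] 737301 (.branch 97 9 [97, 34, 23] (.excl 17 (.excl 17 (.excl 6 (.excl 5 (.excl 10 c32))))))))))))))))))))))) (.excl 4 (.excl 6 (.excl 0 (.excl 0 c17)))))))) (.excl 12 (.excl 0 (.excl 1 (.excl 1 (.excl 1 (.excl 1 (.excl 1 (.excl 1 (.excl 1 (.excl 1 (.excl 1 (.excl 0 (.excl 4 (.excl 8 (.excl 13 (.excl 7 (.excl 7 (.excl 0 (.excl 4 (.excl 4 (.excl 0 (.excl 0 Cert.done)))))))))))))))))))))))))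

def c34 : Cert := (.kid 98413 (.branch 37 4 [38, 16, 0] (.excl 12 (.kid 5301 (.forced 37 11 [39, 17, 1, 0] 2631717 (.branch 41 4 [59, 14, 2] (.excl 1 (.excl 1 (.excl 1 (.excl 1 (.excl 1 (.excl 13 (.excl 7 (.excl 3 (.excl 3 (.excl 4 c33)))))))))))) (.excl 4 (.excl 15 (.excl 4 c16)))))) (.excl 5 (.excl 9 (.excl 14 (.excl 7 (.excl 14 (.excl 11 (.excl 8 (.excl 3 (.excl 11 (.excl 11 (.excl 11 (.excl 3 (.excl 11 (.excl 11 (.excl 11 (.excl 11 (.excl 11 (.excl 11 (.excl 11 (.excl 9 (.excl 11 (.excl 11 (.excl 9 (.excl 5 (.excl 11 (.excl 5 (.excl 3 (.excl 2 (.excl 5 c15))))))))))))))))))))))))))))))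

def c35 : Cert := (.excl 8 (.excl 11 (.excl 8 (.excl 10 (.excl 11 (.excl 11 (.excl 11 (.excl 11 (.excl 8 (.excl 8 (.excl 8 (.excl 8 (.excl 8 (.excl 8 (.excl 8 (.excl 8 (.excl 10 (.excl 11 (.excl 7 (.excl 11 (.excl 7 (.excl 8 (.excl 8 (.excl 8 (.excl 8 (.excl 8 (.excl 5 (.excl 10 (.excl 5 (.excl 10 c34))))))))))))))))))))))))))))))

def c36 : Cert := (.excl 11 (.excl 11 (.excl 11 (.excl 8 (.excl 10 (.excl 12 (.excl 16 (.excl 16 (.excl 16 (.excl 6 (.excl 10 (.excl 11 (.excl 11 (.excl 6 (.excl 11 (.excl 10 (.excl 9 (.excl 13 (.excl 6 (.excl 9 (.excl 5 (.excl 10 (.excl 5 (.excl 10 (.excl 2 (.excl 5 (.excl 9 (.excl 27 (.excl 27 (.excl 48 c35))))))))))))))))))))))))))))))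

def c37 : Cert := (.excl 4 (.excl 4 (.excl 0 (.excl 1 (.excl 3 (.excl 7 (.excl 7 (.excl 3 (.kid 696331 (.forced 11 14 [67, 6, 3, 0] 1392651 (.forced 8195 7 [32, 9, 6, 1] 3155075 (.forced 131 4 [30, 11, 8, 0] 98707 (.forced 19 9 [70, 8, 4, 0] 394771 (.forced 259 9 [35, 14, 7, 1] 2638595 (.branch 37 3 [37, 15] (.excl 10 (.excl 8 (.excl 10 (.excl 8 (.excl 10 (.excl 10 (.excl 10 (.excl 10 (.excl 10 (.excl 11 (.excl 11 (.excl 11 (.excl 10 (.excl 2 (.excl 2 c36))))))))))))))))))))) (.excl 9 (.excl 3 (.excl 3 (.excl 0 (.excl 1 (.excl 1 (.excl 1 (.excl 7 (.excl 7 (.excl 0 (.excl 8 (.excl 9 (.excl 0 (.excl 0 Cert.done)))))))))))))))))))))))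

def c38 : Cert := (.kid 24691 (.forced 35 12 [37, 5, 1, 0] 2396195 (.branch 67 3 [49, 5, 1] (.excl 2 (.kid 5451 (.forced 67 11 [50, 6, 2, 0] 2295875 (.forced 2051 4 [29, 5, 4, 0] 1579027 (.branch 11 13 [66, 5, 2] (.excl 4 (.excl 4 (.excl 3 (.excl 4 (.excl 4 (.excl 1 (.excl 4 (.excl 4 (.excl 4 (.excl 4 (.excl 4 (.excl 4 c37))))))))))))))) (.excl 17 (.excl 6 (.excl 63 c13))))))) (.excl 12 (.excl 3 (.excl 61 (.excl 1 (.excl 3 (.excl 61 (.excl 3 (.excl 23 (.excl 3 (.excl 2 (.excl 2 (.excl 2 (.excl 2 (.excl 1 (.excl 22 (.excl 22 (.excl 12 (.excl 12 (.excl 28 (.excl 1 (.excl 25 (.excl 61 (.excl 12 (.excl 12 (.excl 25 (.excl 1 (.excl 1 (.excl 26 (.excl 23 Cert.done))))))))))))))))))))))))))))))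

def c39 : Cert := (.excl 0 (.excl 2 (.excl 13 (.excl 2 (.excl 13 (.excl 2 (.kid 2731 (.branch 35 4 [36, 4, 0] (.excl 2 (.excl 7 (.excl 7 (.excl 3 (.excl 7 c38)))))) (.excl 1 (.excl 1 (.excl 13 (.excl 13 (.excl 2 (.excl 60 (.excl 6 (.excl 8 (.excl 0 (.excl 0 (.excl 2 (.excl 60 (.excl 1 (.excl 13 (.excl 13 (.excl 2 (.excl 21 (.excl 8 (.excl 13 (.excl 2 (.excl 14 (.excl 0 (.excl 2 c12))))))))))))))))))))))))))))))

def c40 : Cert := (.excl 2 (.excl 2 (.excl 2 (.excl 2 (.excl 2 (.excl 2 (.excl 2 (.excl 2 (.excl 4 (.excl 1 (.excl 1 (.excl 4 (.excl 4 (.excl 2 (.excl 4 (.excl 6 (.excl 6 (.excl 0 (.excl 0 (.excl 2 (.excl 6 (.excl 1 (.excl 6 (.excl 6 (.excl 2 (.excl 6 (.excl 13 (.excl 13 (.excl 2 (.excl 14 c39))))))))))))))))))))))))))))))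

def c41 : Cert := (.excl 2 (.excl 52 (.excl 4 (.excl 1 (.excl 1 (.excl 4 (.excl 4 (.excl 4 (.excl 4 (.excl 6 (.excl 22 (.excl 0 (.excl 0 (.excl 22 (.excl 22 (.excl 1 (.excl 13 (.excl 11 (.excl 27 (.excl 44 (.excl 13 (.excl 11 (.excl 24 (.excl 44 (.excl 0 (.excl 13 (.excl 13 (.excl 13 (.excl 13 (.excl 52 c40))))))))))))))))))))))))))))))

def c42 : Cert := (.excl 4 (.excl 4 (.excl 4 (.excl 4 (.excl 8 (.excl 8 (.excl 8 (.excl 8 (.excl 14 (.excl 8 (.excl 7 (.excl 8 (.kid 78343 (.forced 7 10 [59, 2, 1, 0] 52231 (.branch 35 3 [35, 3] (.excl 2 (.excl 4 (.excl 4 (.excl 4 (.excl 4 (.excl 4 (.excl 4 (.excl 2 (.excl 4 (.excl 4 (.excl 7 (.excl 7 (.excl 14 (.excl 13 (.excl 13 c41))))))))))))))))) (.excl 19 (.excl 14 (.excl 17 (.excl 8 (.excl 14 (.excl 8 (.excl 14 Cert.done))))))))))))))))))))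

def c43 : Cert := (.excl 9 (.excl 11 (.excl 11 (.excl 11 (.excl 9 (.excl 9 (.excl 9 (.excl 9 (.excl 9 (.excl 9 (.excl 9 (.excl 11 (.excl 11 (.kid 786631 (.branch 7 9 [58, 1, 0] (.excl 3 (.excl 3 (.excl 3 (.excl 3 (.excl 3 (.excl 3 (.excl 3 (.excl 3 (.excl 3 (.excl 3 (.excl 3 (.excl 3 (.excl 3 (.excl 3 (.excl 3 c42)))))))))))))))) c10))))))))))))))

def c44 : Cert := (.excl 2 (.excl 2 (.excl 2 (.excl 2 (.excl 2 (.excl 2 (.excl 2 (.excl 2 (.excl 2 (.excl 2 (.excl 2 (.excl 2 (.excl 2 (.excl 2 (.excl 2 (.excl 2 (.excl 3 (.excl 3 (.excl 3 (.excl 3 (.excl 3 (.excl 3 (.excl 3 (.excl 3 (.excl 3 (.excl 3 (.excl 3 (.excl 3 (.excl 3 (.excl 9 c43))))))))))))))))))))))))))))))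

def c45 : Cert := (.excl 9 (.excl 9 (.excl 9 (.excl 9 (.excl 9 (.excl 9 (.excl 9 (.excl 9 (.excl 9 (.excl 9 (.excl 11 (.excl 11 (.excl 11 (.excl 11 (.excl 20 (.excl 30 (.kid 1179943 (.branch 7 6 [57, 0] (.excl 2 c44)) (.excl 20 (.excl 20 (.excl 30 (.excl 1 (.excl 1 (.excl 1 (.excl 1 (.excl 1 (.excl 1 (.excl 1 (.excl 1 (.excl 1 (.excl 1 c6))))))))))))))))))))))))))))))

def c46 : Cert := (.excl 1 (.excl 1 (.excl 1 (.excl 1 (.excl 1 (.excl 2 (.excl 2 (.excl 2 (.excl 2 (.excl 2 (.excl 2 (.excl 2 (.excl 2 (.excl 2 (.excl 2 (.excl 2 (.excl 2 (.excl 2 (.excl 2 (.excl 2 (.excl 2 (.excl 2 (.excl 9 (.excl 9 (.excl 11 (.excl 11 (.excl 11 (.excl 11 (.excl 11 (.excl 9 c45))))))))))))))))))))))))))))))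

def c47 : Cert := (.excl 17 (.excl 21 (.excl 30 (.excl 42 (.excl 17 (.excl 21 (.excl 31 (.excl 31 (.excl 17 (.excl 17 (.excl 17 (.excl 21 (.excl 21 (.excl 31 (.excl 1 (.excl 1 (.excl 1 (.excl 1 (.excl 1 (.excl 1 (.excl 1 (.excl 1 (.excl 1 (.excl 1 (.excl 1 (.excl 1 (.excl 1 (.excl 1 (.excl 1 (.excl 1 c46))))))))))))))))))))))))))))))

def c48 : Cert := (.excl 3 (.excl 3 (.excl 3 (.excl 3 (.excl 3 (.excl 3 (.excl 3 (.excl 3 (.excl 3 (.excl 3 (.excl 17 (.excl 22 (.excl 30 (.excl 43 (.excl 17 (.excl 17 (.excl 17 (.excl 22 (.excl 22 (.excl 30 (.excl 17 (.excl 17 (.excl 17 (.excl 24 (.excl 24 (.excl 32 (.excl 17 (.excl 17 (.excl 17 (.excl 43 Cert.done))))))))))))))))))))))))))))))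

def c49 : Cert := (.excl 17 (.excl 17 (.excl 17 (.excl 17 (.excl 3 (.excl 3 (.excl 3 (.excl 3 (.excl 3 (.excl 3 (.excl 3 (.excl 3 (.excl 3 (.excl 3 (.excl 3 (.excl 3 (.excl 3 (.excl 3 (.excl 3 (.excl 3 (.excl 3 (.excl 3 (.excl 3 (.excl 3 (.excl 3 (.excl 3 (.excl 3 (.excl 3 (.excl 3 (.excl 3 c48))))))))))))))))))))))))))))))

def c50 : Cert := (.excl 17 (.excl 17 (.excl 17 (.excl 22 (.excl 22 (.excl 43 (.excl 3 (.excl 3 (.excl 3 (.excl 3 (.excl 3 (.excl 3 (.excl 3 (.excl 3 (.excl 3 (.excl 3 (.excl 3 (.excl 3 (.excl 3 (.excl 14 (.excl 17 (.excl 17 (.excl 17 (.excl 17 (.excl 17 (.excl 17 (.excl 17 (.excl 17 (.excl 17 (.excl 17 c49))))))))))))))))))))))))))))))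

def c51 : Cert := (.excl 2 (.excl 2 (.excl 2 (.excl 2 (.excl 2 (.excl 2 (.excl 2 (.excl 2 (.excl 3 (.excl 3 (.excl 3 (.excl 3 (.excl 3 (.excl 3 (.excl 3 (.excl 3 (.excl 3 (.excl 3 (.excl 3 (.excl 3 (.excl 3 (.excl 13 (.excl 17 (.excl 22 (.excl 22 (.excl 22 (.excl 17 (.excl 22 (.excl 32 (.excl 43 c50))))))))))))))))))))))))))))))

def c52 : Cert := (.excl 1 (.excl 13 (.excl 13 (.excl 13 (.excl 1 (.excl 1 (.excl 1 (.excl 0 (.excl 24 (.excl 44 (.excl 13 (.excl 0 (.excl 0 (.excl 13 (.excl 0 (.excl 0 (.excl 21 (.excl 0 (.excl 0 (.excl 0 (.excl 13 (.excl 13 (.excl 13 (.excl 0 (.excl 13 (.excl 13 (.excl 0 (.excl 60 (.excl 44 (.excl 0 Cert.done))))))))))))))))))))))))))))))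

def c53 : Cert := (.excl 13 (.excl 0 (.excl 13 (.excl 13 (.excl 1 (.excl 1 (.excl 1 (.excl 1 (.excl 1 (.excl 1 (.excl 13 (.excl 1 (.excl 0 (.excl 0 (.excl 41 (.excl 1 (.excl 13 (.excl 13 (.excl 13 (.excl 1 (.excl 1 (.excl 1 (.excl 0 (.excl 25 (.excl 44 (.excl 6 (.excl 1 (.excl 0 (.excl 0 (.excl 6 c52))))))))))))))))))))))))))))))

def c54 : Cert := (.excl 7 (.excl 3 (.excl 23 (.excl 23 (.excl 3 (.excl 1 (.excl 61 (.excl 3 (.excl 3 (.excl 46 (.excl 2 (.excl 2 (.excl 2 (.excl 2 (.excl 17 (.excl 1 (.excl 61 (.excl 17 (.excl 17 (.excl 47 (.excl 7 (.excl 1 (.excl 7 (.excl 17 (.excl 17 (.excl 23 (.excl 1 (.excl 22 (.excl 1 (.excl 46 Cert.done))))))))))))))))))))))))))))))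

def c55 : Cert := (.excl 1 (.excl 6 (.excl 4 (.excl 0 (.excl 1 (.excl 1 (.excl 1 (.excl 6 (.excl 6 (.excl 35 (.excl 1 (.excl 14 (.excl 4 (.excl 0 (.excl 1 (.excl 1 (.excl 1 (.excl 14 (.excl 14 (.excl 38 (.excl 1 (.excl 1 (.excl 0 (.excl 4 (.excl 0 (.excl 0 (.excl 1 (.excl 1 (.excl 1 (.excl 35 Cert.done))))))))))))))))))))))))))))))

def c56 : Cert := (.excl 6 (.excl 6 (.excl 6 (.excl 6 (.excl 11 (.excl 9 (.excl 9 (.excl 5 (.excl 9 (.excl 9 (.excl 6 (.excl 6 (.excl 6 (.excl 6 (.excl 11 (.excl 11 (.excl 11 (.excl 5 (.excl 7 (.excl 9 (.excl 11 (.excl 1 (.excl 11 (.excl 5 (.excl 47 (.excl 9 (.excl 5 (.excl 11 (.excl 9 (.excl 5 Cert.done))))))))))))))))))))))))))))))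

def c57 : Cert := (.excl 2 (.excl 5 (.excl 5 (.excl 5 (.excl 6 (.excl 6 (.excl 11 (.excl 13 (.excl 9 (.excl 9 (.excl 6 (.excl 11 (.excl 12 (.excl 12 (.excl 12 (.excl 11 (.excl 29 (.excl 12 (.excl 29 (.excl 11 (.excl 11 (.excl 2 (.excl 5 (.excl 47 (.excl 9 (.excl 6 (.excl 6 (.excl 6 (.excl 6 (.excl 6 c56))))))))))))))))))))))))))))))

def c58 : Cert := (.excl 5 (.excl 5 (.excl 5 (.excl 5 (.excl 12 (.excl 17 (.excl 3 (.excl 17 (.excl 1 (.excl 9 (.excl 5 (.excl 1 (.excl 5 (.excl 1 (.excl 1 (.excl 17 (.excl 1 (.excl 1 (.excl 1 (.excl 1 (.excl 5 (.excl 5 (.excl 3 (.excl 5 (.excl 1 (.excl 5 (.excl 12 (.excl 1 (.excl 3 (.excl 1 Cert.done))))))))))))))))))))))))))))))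

def c59 : Cert := (.excl 16 (.excl 7 (.excl 16 (.excl 16 (.excl 17 (.excl 16 (.excl 23 (.excl 16 (.excl 20 (.excl 16 (.excl 17 (.excl 17 (.excl 16 (.excl 37 (.excl 17 (.excl 6 (.excl 17 (.excl 17 (.excl 17 (.excl 25 (.excl 17 (.excl 16 (.excl 37 (.excl 16 (.excl 35 (.excl 16 (.excl 17 (.excl 17 (.excl 49 (.excl 35 Cert.done))))))))))))))))))))))))))))))

def c60 : Cert := (.excl 35 (.excl 35 (.excl 35 (.excl 18 (.excl 36 (.excl 16 (.excl 39 (.excl 20 (.excl 16 (.excl 20 (.excl 37 (.excl 17 (.excl 17 (.excl 25 (.excl 25 (.excl 39 (.excl 26 (.excl 13 (.excl 37 (.excl 17 (.excl 39 (.excl 34 (.excl 38 (.excl 20 (.excl 25 (.excl 16 (.excl 17 (.excl 17 (.excl 16 (.excl 36 c59))))))))))))))))))))))))))))))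

def c61 : Cert := (.forced 560 16 [147, 141, 82, 0] 983600 (.forced 8260 12 [164, 84, 73, 20] 1159236 (.forced 4164 14 [151, 126, 68, 0] 938052 (.forced 8272 10 [222, 121, 75, 29] 615504 (.forced 1104 15 [151, 143, 70, 0] 1475664 (.forced 8322 10 [162, 151, 66, 49] 926850 (.forced 1154 14 [154, 145, 92, 0] 1164418 (.forced 8324 9 [218, 153, 82, 26] 221828 (.forced 644 15 [156, 132, 90, 0] 1868420 (.forced 8328 12 [166, 131, 84, 52] 585864 (.forced 4232 16 [160, 134, 96, 0] 1511560 (.forced 8336 11 [186, 86, 72, 37] 370832 (.forced 2192 14 [162, 151, 94, 0] 1722512 (.forced 8352 16 [164, 159, 56, 39] 3743904 (.forced 8450 9 [181, 77, 75, 63] 631554 (.forced 770 14 [163, 156, 82, 0] 1458946 (.forced 8452 10 [174, 125, 79, 35] 320772 (.forced 1284 16 [165, 147, 83, 0] 1770756 (.forced 8456 11 [233, 136, 81, 61] 1141000 (.forced 2312 15 [169, 149, 86, 0] 952584 (.forced 8464 12 [178,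 138, 81, 31] 1847568 (.forced 4368 14 [171, 162, 87, 0] 250128 (.forced 8512 16 [174, 140, 71, 41] 2564416 (.forced 10752 14 [176, 129, 67, 34] 2910720 (.forced 13312 14 [178, 123, 60, 42] 3306496 (.forced 16544 15 [176, 152, 75, 45] 2539680 (.forced 16704 15 [178, 171, 66, 51] 3719488 (.forced 35328 16 [180, 127, 73, 43] 3377664 (.forced 37888 16 [182, 133, 65, 34] 2987008 (.leaf [0, 1, 2, 3, 4, 5, 6, 7, 8, 9, 10, 11, 12, 13, 14, 15, 16, 17, 18, 19, 20, 21, 22] [168, 159, 153, 170, 164, 149, 175, 147, 129, 134, 135, 128, 156, 174, 141, 166, 40, 55, 92, 118, 69, 68, 97, 50, 35, 59, 108, 77, 74, 21, 61, 7, 101, 72, 65, 93, 54, 43, 75, 113, 76, 12, 51, 106, 41, 63, 17, 56, 171, 142, 123, 120, 116, 48, 47, 79, 105, 64, 109, 53, 45, 19, 67, 103, 70, 25, 14, 30, 173, 146, 127, 124, 131, 132, 160, 137, 23, 26, 9, 28, 104, 78, 73, 46, 98, 49, 71, 100, 66, 29, 119, 52, 37, 10, 27, 22, 133,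 130, 136, 161, 150, 172, 125, 126, 31, 13, 24, 18, 158, 165, 121, 122, 57, 16, 62, 11, 8, 60, 20, 58, 111, 96, 115, 95, 112, 90, 42, 32, 86, 89, 107, 87, 39, 33, 114, 91, 151, 144, 162, 157, 154, 143, 152, 163, 102, 84, 3, 6, 167, 140, 155, 148, 36, 38, 82, 81, 94, 117, 5, 0, 138, 169, 139, 145, 99, 110, 4, 1, 34, 44, 83, 80, 88, 85, 2, 15, 176, 177, 178, 179, 180, 181, 182, 183, 184, 185, 186, 187, 188, 189, 190, 191, 192, 193, 194, 195, 196, 197, 198, 199, 200, 201, 202, 203, 204, 205, 206, 207, 208, 209, 210, 211, 212, 213, 214, 215, 216, 217, 218, 219, 220, 221, 222, 223, 224, 225, 226, 227, 228, 229, 230, 231, 232, 233, 234, 235, 236, 237, 238, 239, 240, 241, 242, 243, 244, 245, 246, 247, 248, 249, 250, 251, 252]))))))))))))))))))))))))))))))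

def c62 : Cert := (.forced 2114 16 [119, 109, 37, 0] 1902658 (.forced 8264 9 [128, 89, 54, 7] 1712712 (.forced 584 14 [119, 96, 39, 0] 377416 (.forced 8288 4 [158, 79, 56, 22] 143600 (.forced 112 8 [121, 103, 59, 0] 280944 (.forced 176 8 [170, 102, 57, 1] 558512 (.forced 208 8 [131, 115, 41, 2] 1115088 (.forced 224 2 [181, 27, 19, 3] 328932 (.forced 100 8 [127, 107, 61, 0] 164708 (.forced 164 8 [158, 125, 61, 1] 1069476 (.forced 196 8 [135, 104, 50, 2] 534980 (.forced 548 10 [149, 71, 63, 2] 538148 (.forced 580 10 [200, 106, 54, 3] 1068612 (.forced 592 11 [130, 98, 55, 6] 563792 (.forced 608 12 [131, 90, 34, 5] 3412576 (.forced 656 10 [160, 67, 53, 8] 284304 (.forced 704 10 [157, 110, 36, 9] 2139840 (.forced 772 11 [135, 96, 63, 8] 334596 (.forced 784 10 [201, 129, 64, 11] 143120 (.forced 800 10 [188, 130, 32, 10] 2180896 (.forced 896 12 [138, 90, 33, 13] 2757504 (.forced 1072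 11 [138, 116, 80, 15] 1121328 (.forced 1120 11 [139, 97, 41, 14] 2755680 (.forced 1156 11 [141, 104, 68, 15] 171140 (.forced 1408 11 [142, 93, 34, 18] 3411328 (.forced 2240 12 [166, 134, 37, 14] 2185408 (.forced 2336 12 [195, 126, 44, 21] 2144544 (.forced 8228 11 [155, 143, 80, 15] 1452068 (.forced 2084 14 [147, 128, 80, 0] 641060 (.forced 8240 9 [157, 124, 86, 25] 1106480 c61))))))))))))))))))))))))))))))

def c63 : Cert := (.excl 10 (.excl 19 (.excl 21 (.excl 35 (.excl 8 (.excl 8 (.excl 10 (.excl 21 (.excl 19 (.kid 541410 (.forced 98 8 [99, 92, 35, 0] 1058146 (.forced 162 8 [146, 97, 37, 1] 199074 (.forced 194 8 [109, 91, 22, 2] 299458 (.forced 546 10 [160, 94, 43, 3] 298530 (.forced 578 10 [143, 26, 21, 4] 202306 (.forced 642 11 [103, 89, 23, 5] 1063554 (.forced 672 3 [118, 60, 38, 6] 271272 (.forced 168 6 [136, 84, 43, 0] 1083624 (.forced 104 8 [105, 100, 41, 0] 594280 (.forced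 200 8 [116, 83, 24, 1] 148936 (.forced 552 11 [107, 86, 50, 3] 154152 (.forced 648 10 [181, 85, 29, 4] 593544 (.forced 776 10 [128, 38, 29, 5] 1087240 (.forced 1096 11 [110, 79, 43, 3] 277576 (.forced 1282 11 [112, 97, 41, 13] 548098 (.forced 8226 12 [172, 111, 52, 14] 356386 (.forced 4130 15 [115, 107, 52, 0] 1740834 (.forced 8232 10 [154, 54, 50, 10] 238632 (.forced 1064 14 [115, 98, 54, 0] 1852456 (.forced 8258 11 [126, 107, 41, 18] 190530 c62)))))))))))))))))))) (.excl 18 (.excl 8 (.excl 10 (.excl 29 (.excl 19 (.excl 29 (.excl 18 (.excl 8 (.excl 10 (.excl 10 (.excl 19 (.excl 18 Cert.done))))))))))))))))))))))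

def c64 : Cert := (.forced 84 8 [88, 62, 12, 5] 2102612 (.forced 88 7 [81, 52, 13, 3] 2883800 (.forced 134 3 [83, 81, 9, 5] 280718 (.forced 14 8 [139, 26, 16, 0] 143630 (.forced 140 8 [116, 61, 12, 1] 2195852 (.forced 146 8 [133, 77, 12, 6] 2122130 (.forced 518 12 [87, 83, 29, 11] 2150918 (.forced 530 10 [99, 81, 12, 8] 3671570 (.forced 536 12 [88, 62, 17, 9] 2175512 (.forced 1048 11 [89, 59, 19, 17] 2149400 (.forced 2060 12 [96, 73, 22, 7] 3676172 (.forced 2066 12 [103, 83, 31, 15] 2496530 (.forced 8202 15 [102, 80, 32, 8] 3448842 (.forced 8212 15 [104, 66, 21, 18] 2793492 (.forced 16394 16 [103, 82, 16, 11] 2834442 (.forced 16404 16 [103, 68, 37, 24] 3489812 (.branch 98 7 [98, 91, 34] (.excl 16 (.excl 10 (.excl 10 (.excl 16 (.excl 16 (.excl 10 (.excl 10 (.excl 29 (.excl 19 (.excl 10 (.excl 10 (.excl 10 (.excl 10 c63))))))))))))))))))))))))))))))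

def c65 : Cert := (.excl 3 (.excl 4 (.excl 6 (.excl 6 (.excl 3 (.excl 3 (.excl 3 (.excl 4 (.excl 4 (.excl 6 (.excl 42 (.excl 9 (.excl 8 (.excl 6 (.excl 4 (.excl 8 (.kid 558158 (.forced 76 4 [116, 44, 3, 0] 198748 (.forced 1030 11 [69, 64, 10, 1] 2173958 (.forced 1034 4 [113, 57, 8, 2] 328986 (.forced 280 2 [73, 41, 4, 0] 541468 (.forced 28 7 [127, 8, 3, 0] 1057948 (.forced 148 1 [80, 38, 7, 0] 594070 (.forced 524 10 [79, 50, 16, 2] 2491916 (.forced 532 1 [119, 39, 9, 3] 270934 (.forced 22 8 [131, 17, 2, 0] 1083670 (.forced 70 7 [78, 74, 9, 1] 3276998 (.forced 82 3 [110, 69, 15, 2] 1069146 (.forced 26 7 [134, 18, 8, 0] 164506 (.forced 74 8 [89, 74, 12, 1] 2100042 c64))))))))))))) (.excl 8 (.excl 9 (.excl 8 (.excl 4 (.excl 26 (.excl 6 (.excl 9 (.excl 6 (.excl 6 (.excl 4 (.excl 4 (.excl 14 (.excl 9 Cert.done))))))))))))))))))))))))))))))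

def c66 : Cert := (.excl 2 (.excl 0 (.excl 2 (.excl 0 (.excl 0 (.excl 4 (.excl 0 (.excl 0 (.excl 0 (.excl 0 (.excl 2 (.excl 2 (.excl 2 (.excl 1 (.excl 4 (.excl 4 (.excl 1 (.kid 299068 (.forced 44 6 [95, 46, 6, 0] 2121836 (.forced 52 7 [75, 46, 6, 1] 2099892 (.forced 56 8 [65, 45, 5, 2] 3277112 (.branch 76 1 [115, 43, 2] (.excl 6 (.excl 3 (.excl 4 (.excl 8 (.excl 6 c65))))))))) (.excl 0 (.excl 1 (.excl 2 (.excl 2 (.excl 2 (.excl 2 (.excl 0 (.excl 2 (.excl 4 (.excl 0 (.excl 3 (.excl 0 Cert.done))))))))))))))))))))))))))))))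

def c67 : Cert := (.excl 15 (.excl 34 (.excl 39 (.excl 15 (.excl 22 (.excl 39 (.excl 34 (.excl 0 (.excl 1 (.excl 1 (.excl 1 (.excl 1 (.excl 1 (.excl 1 (.excl 1 (.excl 1 (.excl 1 (.excl 0 (.excl 32 (.excl 15 (.excl 49 (.kid 534586 (.forced 42 7 [69, 55, 3, 0] 2102442 (.forced 50 6 [109, 55, 3, 1] 2195570 (.branch 44 4 [94, 45, 5] (.excl 2 (.excl 4 (.excl 0 (.excl 39 (.excl 0 c66)))))))) (.excl 34 (.excl 0 (.excl 29 (.excl 37 (.excl 0 (.excl 0 Cert.done))))))))))))))))))))))))))))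

def c68 : Cert := (.excl 8 (.excl 23 (.excl 8 (.excl 50 (.excl 23 (.excl 8 (.excl 23 (.excl 23 (.excl 23 (.excl 29 (.kid 148534 (.forced 38 8 [60, 57, 1, 0] 2883878 (.branch 42 4 [68, 54, 2] (.excl 1 (.excl 1 (.excl 1 (.excl 1 (.excl 1 (.excl 15 (.excl 34 c67))))))))) (.excl 35 (.excl 21 (.excl 21 (.excl 23 (.excl 27 (.excl 35 (.excl 35 (.excl 35 (.excl 21 (.excl 23 (.excl 8 (.excl 25 (.excl 39 (.excl 35 (.excl 21 (.excl 23 (.excl 23 (.excl 38 (.excl 35 Cert.done))))))))))))))))))))))))))))))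

def c69 : Cert := (.excl 17 (.excl 6 (.excl 23 (.excl 38 (.excl 35 (.excl 18 (.excl 39 (.excl 21 (.excl 13 (.excl 39 (.excl 35 (.excl 13 (.excl 35 (.excl 36 (.excl 16 (.excl 44 (.excl 35 (.excl 16 (.excl 35 (.excl 37 (.excl 17 (.excl 17 (.kid 1114670 (.branch 38 4 [59, 56, 0] (.excl 40 (.excl 23 (.excl 23 (.excl 39 (.excl 35 c68)))))) (.excl 35 (.excl 51 (.excl 35 (.excl 13 (.excl 35 (.excl 17 (.excl 30 c60))))))))))))))))))))))))))))))

def c70 : Cert := (.excl 39 (.excl 39 (.excl 39 (.excl 39 (.excl 39 (.excl 35 (.excl 18 (.excl 18 (.excl 39 (.excl 39 (.excl 39 (.excl 39 (.excl 39 (.excl 39 (.excl 39 (.excl 36 (.excl 7 (.excl 23 (.excl 7 (.excl 16 (.excl 23 (.excl 37 (.excl 6 (.excl 17 (.excl 6 (.excl 37 (.excl 22 (.excl 7 (.excl 16 (.excl 37 c69))))))))))))))))))))))))))))))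

def c71 : Cert := (.excl 30 (.excl 35 (.excl 36 (.excl 21 (.excl 26 (.excl 34 (.excl 26 (.excl 38 (.excl 34 (.excl 36 (.excl 16 (.excl 36 (.excl 36 (.excl 16 (.excl 36 (.excl 36 (.excl 17 (.excl 17 (.excl 36 (.excl 36 (.excl 22 (.excl 26 (.excl 16 (.excl 37 (.excl 17 (.excl 30 (.excl 34 (.excl 38 (.excl 35 (.excl 38 c70))))))))))))))))))))))))))))))

def c72 : Cert := (.forced 545 7 [63, 36, 21, 1] 1181345 (.forced 161 11 [100, 42, 23, 0] 792737 (.forced 577 8 [86, 21, 12, 3] 788289 (.forced 321 11 [102, 43, 16, 0] 1186113 (.forced 641 8 [74, 33, 23, 3] 52097 (.forced 385 10 [104, 36, 13, 0] 79233 (.forced 8225 8 [88, 47, 26, 7] 680225 (.forced 289 15 [106, 43, 32, 0] 1409313 (.forced 8257 7 [66, 41, 21, 9] 1335489 (.forced 193 15 [108, 43, 28, 0] 753857 (.forced 8705 12 [80, 40, 14, 11] 438785 (.forced 4609 14 [111, 47, 30, 0] 1659393 (.forced 9217 11 [70, 42, 32, 6] 1616897 (.forced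 3073 14 [113, 47, 38, 0] 478209 (.branch 38 3 [58, 55] (.excl 39 (.excl 39 (.excl 36 (.excl 36 (.excl 22 (.excl 22 (.excl 38 (.excl 38 (.excl 39 (.excl 21 (.excl 36 (.excl 21 (.excl 50 (.excl 30 (.excl 35 c71))))))))))))))))))))))))))))))

def c73 : Cert := (.excl 17 (.excl 8 (.excl 5 (.excl 5 (.excl 8 (.excl 5 (.excl 5 (.excl 5 (.excl 5 (.excl 5 (.excl 13 (.excl 8 (.excl 16 (.excl 17 (.excl 8 (.excl 11 (.kid 76385 (.forced 97 10 [98, 36, 23, 0] 54369 c72) (.excl 8 (.excl 8 (.excl 5 (.excl 8 (.excl 11 (.excl 17 (.excl 8 (.excl 8 (.excl 5 (.excl 8 (.excl 8 (.excl 5 (.excl 5 Cert.done))))))))))))))))))))))))))))))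

def c74 : Cert := (.excl 3 (.kid 82105 (.forced 41 9 [60, 15, 3, 0] 2654761 (.forced 49 10 [39, 15, 3, 1] 2368561 (.branch 69 3 [38, 20, 4] (.excl 5 (.kid 4813 (.forced 69 11 [39, 21, 5, 0] 2394181 (.forced 137 11 [46, 13, 4, 1] 2238601 (.forced 521 4 [44, 13, 4, 2] 1313305 (.forced 2053 4 [69, 23, 9, 2] 30741 (.forced 2065 8 [45, 19, 1, 0] 2689297 (.forced 8209 3 [56, 13, 6, 1] 41305 (.forced 25 10 [85, 9, 3, 0] 660505 (.forced 73 10 [59, 25, 7, 1] 3212361 (.forced 81 9 [54, 23, 13, 2] 2245201 (.forced 265 12 [51, 21, 15, 3] 2380041 (.forced 273 2 [74, 27, 5, 4] 393621 (.forced 21 9 [90, 16, 7, 0] 99861 (.forced 133 10 [78, 34, 12, 1] 2638981 (.forced 145 12 [64, 28, 16, 2] 3182737 (.forced 261 9 [67, 35, 20, 3] 3154693 (.forced 8197 3 [54, 37, 11, 0] 860173 (.forced 13 14 [95, 22, 16, 0] 1228813 (.branch 97 9 [97, 35, 22] (.excl 17 (.excl 18 (.excl 8 (.excl 5 (.excl 5 c73)))))))))))))))))))))))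 (.excl 1 (.excl 9 (.excl 1 c58)))))))) (.excl 1 (.excl 12 (.excl 9 (.excl 1 (.excl 18 (.excl 1 (.excl 0 (.excl 1 (.excl 3 (.excl 7 (.excl 1 (.excl 7 (.excl 9 (.excl 1 (.excl 13 (.excl 1 (.excl 0 (.excl 1 (.excl 3 (.excl 1 (.excl 3 (.excl 1 (.excl 0 (.excl 1 (.excl 1 (.excl 0 (.excl 1 (.excl 0 Cert.done))))))))))))))))))))))))))))))

def c75 : Cert := (.excl 2 (.excl 15 (.excl 2 (.excl 15 (.excl 12 (.excl 2 (.excl 12 (.kid 1572981 (.forced 37 12 [39, 17, 1, 0] 2297893 (.branch 41 4 [59, 14, 2] (.excl 7 (.excl 13 (.excl 6 (.excl 1 (.excl 6 c74))))))) (.excl 8 (.excl 10 (.excl 2 (.excl 11 (.excl 2 (.excl 11 (.excl 11 (.excl 2 (.excl 11 (.excl 11 (.excl 8 (.excl 10 (.excl 2 (.excl 2 (.excl 2 (.excl 2 (.excl 28 (.excl 2 (.excl 2 (.excl 14 (.excl 2 (.excl 10 Cert.done))))))))))))))))))))))))))))))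

def c76 : Cert := (.excl 11 (.excl 11 (.excl 11 (.excl 5 (.excl 7 (.excl 9 (.kid 3373 (.branch 37 4 [38, 16, 0] (.excl 11 (.excl 11 (.excl 8 (.excl 11 (.excl 8 c75)))))) (.excl 10 (.excl 14 (.excl 2 (.excl 5 (.excl 5 (.excl 2 (.excl 6 (.excl 6 (.excl 11 (.excl 5 (.excl 5 (.excl 9 (.excl 6 (.excl 10 (.excl 5 (.excl 5 (.excl 10 (.excl 11 (.excl 5 (.excl 5 (.excl 14 (.excl 5 (.excl 5 c57))))))))))))))))))))))))))))))

def c77 : Cert := (.excl 11 (.excl 11 (.excl 10 (.excl 11 (.excl 11 (.excl 5 (.excl 5 (.excl 11 (.excl 8 (.excl 11 (.excl 11 (.excl 11 (.excl 11 (.excl 11 (.excl 11 (.excl 6 (.excl 6 (.excl 11 (.excl 11 (.excl 9 (.excl 9 (.excl 6 (.excl 11 (.excl 7 (.excl 11 (.excl 7 (.excl 11 (.excl 11 (.excl 11 (.excl 11 c76))))))))))))))))))))))))))))))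

def c78 : Cert := (.excl 5 (.excl 10 (.excl 8 (.excl 10 (.excl 16 (.excl 11 (.excl 16 (.excl 12 (.excl 16 (.excl 6 (.excl 6 (.excl 11 (.excl 13 (.excl 9 (.excl 9 (.excl 6 (.excl 10 (.excl 10 (.excl 10 (.excl 10 (.excl 1 (.excl 27 (.excl 1 (.excl 27 (.excl 11 (.excl 1 (.excl 11 (.excl 5 (.excl 48 (.excl 9 c77))))))))))))))))))))))))))))))

def c79 : Cert := (.excl 2 (.excl 2 (.excl 2 (.excl 8 (.excl 1 (.excl 9 (.excl 8 (.excl 3 (.kid 1573259 (.forced 11 9 [67, 6, 1, 0] 26123 (.forced 131 9 [29, 11, 4, 1] 2425475 (.forced 259 10 [33, 11, 7, 2] 2262275 (.forced 8195 4 [34, 13, 5, 2] 1253395 (.forced 19 14 [71, 9, 7, 0] 835603 (.branch 37 3 [37, 15] (.excl 10 (.excl 8 (.excl 8 (.excl 10 (.excl 11 (.excl 11 (.excl 11 (.excl 11 (.excl 11 (.excl 10 (.excl 10 (.excl 10 (.excl 10 (.excl 10 (.excl 5 c78))))))))))))))))))))) (.excl 2 (.excl 2 (.excl 2 (.excl 2 (.excl 9 (.excl 1 (.excl 9 (.excl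 7 (.excl 3 (.excl 7 (.excl 2 (.excl 1 (.excl 2 (.excl 2 (.excl 2 (.excl 2 (.excl 1 (.excl 3 (.excl 1 (.excl 3 Cert.done)))))))))))))))))))))))))))))

def c80 : Cert := (.kid 393323 (.branch 35 4 [36, 4, 0] (.excl 2 (.kid 4915 (.forced 35 11 [37, 5, 1, 0] 3164195 (.branch 67 4 [49, 5, 2] (.kid 3283 (.forced 67 12 [50, 6, 3, 0] 2633795 (.forced 2051 3 [29, 6, 2, 1] 104459 (.branch 11 7 [66, 5, 0] (.excl 2 (.excl 4 (.excl 4 (.excl 4 (.excl 4 (.excl 2 c79))))))))) (.excl 1 (.excl 6 (.excl 35 (.excl 63 c55))))))) (.excl 3 (.excl 46 (.excl 61 c54)))))) (.excl 44 (.excl 60 (.excl 0 (.excl 60 (.excl 44 (.excl 1 (.excl 13 (.excl 2 (.excl 1 (.excl 13 (.excl 13 (.excl 13 (.excl 6 (.excl 2 (.excl 1 (.excl 13 (.excl 13 (.excl 13 (.excl 2 (.excl 13 (.excl 0 (.excl 0 (.excl 13 (.excl 2 (.excl 2 (.excl 2 (.excl 2 (.excl 13 (.excl 13 c53))))))))))))))))))))))))))))))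

def c81 : Cert := (.excl 2 (.excl 2 (.excl 2 (.excl 2 (.excl 2 (.excl 2 (.excl 2 (.excl 2 (.excl 1 (.excl 4 (.excl 2 (.excl 1 (.excl 4 (.excl 4 (.excl 4 (.excl 6 (.excl 2 (.excl 1 (.excl 6 (.excl 6 (.excl 6 (.excl 2 (.excl 6 (.excl 0 (.excl 0 (.excl 6 (.excl 2 (.excl 2 (.excl 2 (.excl 2 c80))))))))))))))))))))))))))))))

def c82 : Cert := (.excl 13 (.excl 13 (.excl 1 (.excl 4 (.excl 4 (.excl 1 (.excl 4 (.excl 4 (.excl 4 (.excl 6 (.excl 13 (.excl 1 (.excl 22 (.excl 22 (.excl 22 (.excl 13 (.excl 21 (.excl 0 (.excl 0 (.excl 44 (.excl 13 (.excl 13 (.excl 13 (.excl 13 (.excl 22 (.excl 22 (.excl 22 (.excl 0 (.excl 52 (.excl 44 c81))))))))))))))))))))))))))))))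

def c83 : Cert := (.excl 3 (.excl 3 (.excl 3 (.excl 3 (.excl 3 (.excl 3 (.excl 3 (.excl 4 (.excl 4 (.excl 4 (.excl 4 (.excl 22 (.kid 657927 (.forced 7 10 [59, 2, 1, 0] 1315847 (.branch 35 3 [35, 3] (.excl 2 (.excl 4 (.excl 4 (.excl 4 (.excl 2 (.excl 4 (.excl 4 (.excl 4 (.excl 4 (.excl 4 (.excl 7 (.excl 7 (.excl 2 (.excl 13 (.excl 13 c82))))))))))))))))) (.excl 44 (.excl 22 (.excl 22 (.excl 44 (.excl 19 (.excl 19 (.excl 19 (.excl 23 (.excl 23 (.excl 32 (.excl 23 (.excl 23 (.excl 44 (.excl 23 Cert.done)))))))))))))))))))))))))))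

def c84 : Cert := (.excl 2 (.excl 2 (.excl 3 (.excl 3 (.excl 3 (.excl 3 (.excl 3 (.excl 3 (.excl 3 (.excl 3 (.excl 3 (.excl 3 (.excl 3 (.excl 3 (.excl 3 (.kid 82247 (.branch 7 9 [58, 1, 0] (.excl 3 (.excl 3 (.excl 3 (.excl 3 (.excl 3 (.excl 3 (.excl 3 (.excl 3 c83))))))))) (.excl 17 (.excl 21 (.excl 30 (.excl 42 (.excl 17 (.excl 21 (.excl 31 (.excl 43 (.excl 17 (.excl 17 (.excl 17 (.excl 21 (.excl 21 (.excl 31 c51))))))))))))))))))))))))))))))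

def c85 : Cert := (.excl 2 (.excl 2 (.excl 2 (.excl 2 (.excl 2 (.excl 2 (.excl 2 (.excl 2 (.excl 2 (.excl 2 (.excl 2 (.excl 2 (.excl 4 (.kid 41127 (.branch 7 6 [57, 0] (.excl 2 (.excl 2 (.excl 2 (.excl 2 (.excl 2 (.excl 2 (.excl 2 (.excl 2 (.excl 2 (.excl 2 (.excl 2 (.excl 2 (.excl 2 (.excl 2 (.excl 2 c84)))))))))))))))) (.excl 10 (.excl 16 (.excl 20 (.excl 28 (.excl 40 (.excl 8 (.excl 17 (.excl 17 (.excl 17 (.excl 17 (.excl 17 (.excl 15 c47))))))))))))))))))))))))))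

def c86 : Cert := (.excl 1 (.excl 1 (.excl 1 (.excl 1 (.excl 1 (.excl 1 (.excl 1 (.excl 1 (.excl 1 (.excl 1 (.excl 1 (.excl 1 (.excl 1 (.excl 1 (.excl 1 (.excl 1 (.excl 1 (.excl 1 (.excl 1 (.excl 1 (.excl 1 (.excl 1 (.excl 1 (.excl 1 (.excl 1 (.excl 2 (.excl 2 (.excl 2 (.excl 2 (.excl 2 c85))))))))))))))))))))))))))))))

def c87 : Cert := (.excl 2 (.excl 2 (.excl 2 (.excl 2 (.excl 2 (.excl 2 (.excl 2 (.excl 2 (.excl 2 (.excl 2 (.excl 2 (.excl 2 (.excl 2 (.excl 2 (.excl 2 (.excl 2 (.excl 2 (.excl 2 (.excl 2 (.excl 2 (.excl 2 (.excl 2 (.excl 1 (.excl 1 (.excl 1 (.excl 1 (.excl 1 (.excl 1 (.excl 1 (.excl 1 c86))))))))))))))))))))))))))))))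

def c88 : Cert := (.excl 2 (.excl 2 (.excl 2 (.excl 2 (.excl 2 (.excl 2 (.excl 2 (.excl 2 (.excl 2 (.excl 2 (.excl 2 (.excl 2 (.excl 2 (.excl 2 (.excl 2 (.excl 2 (.excl 2 (.excl 2 (.excl 2 (.excl 2 (.excl 2 (.excl 2 (.excl 2 (.excl 2 (.excl 2 (.excl 2 (.excl 2 (.excl 2 (.excl 2 (.excl 2 c87))))))))))))))))))))))))))))))

def c89 : Cert := (.excl 2 (.excl 2 (.excl 2 (.excl 2 (.excl 1 (.excl 1 (.excl 2 (.excl 2 (.excl 2 (.excl 2 (.excl 2 (.excl 2 (.excl 2 (.excl 2 (.excl 2 (.excl 2 (.excl 0 (.excl 2 (.excl 2 (.excl 2 (.excl 2 (.excl 2 (.excl 2 (.excl 2 (.excl 2 (.excl 2 (.excl 2 (.excl 2 (.excl 2 (.excl 2 c88))))))))))))))))))))))))))))))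

def cert : Cert := (.branch 7 5 [56] (.excl 1 (.excl 1 (.excl 1 (.excl 2 (.excl 2 (.excl 2 (.excl 2 (.excl 2 (.excl 2 c89))))))))))

theorem K0_ok : targetOk 23 4 7 K0 = true := by decide +kernel

theorem cert_node : cert.isNode = true := by decide +kernel

theorem cert_ok : check 23 4 7 K0 cert K1 [] 0 [] = true := by decide +kernel

universe u

theorem unique {α : Type u} [Fintype α] [DecidableEq α] (hα : Fintype.card α = 23)
    {B : Set (Finset α)} (hB : IsSteinerSystem 4 7 B) : SetSystemIso B (sysOf 23 K0) :=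
  unique_ext (n := 22) (t := 3) (k := 6) K0_ok cert_node K1_eq cert_ok hα hB
    (@fun γ _ _ hγ D hD => @W22.unique γ _ _ hγ D hD)

end Cfsg.Agent.Lib.Helper1.Stein.W23
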