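import Mathlib
import Cfsg.Prelude.Def_KGroupFacts
import Cfsg.Agent.Lib.Helper1.Stem21

set_option autoImplicit false

/-! Stem extensions of a central quotient of a perfect group: the kernels of the stem extensions
of the quotient are bounded through those of the group, and the composite of a stem extension of
the group with the quotient map has a kernel that is the product of the two kernels when their
orders are coprime. -/

namespace Cfsg.Agent.Lib.Helper1.Stem

open scoped commutatorElement

universe u v

/-- the order of the source of a surjective homomorphism -/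
theorem card_eq_ker_mul_of_surjective {A B : Type*} [Group A] [Group B] (f : A →* B)
    (hf : Function.Surjective f) : Nat.card A = Nat.card f.ker * Nat.card B := by
  have h1 := Subgroup.card_mul_index f.ker
  rw [Subgroup.index_ker, MonoidHom.range_eq_top.mpr hf, Subgroup.card_top] at h1
  exact h1.symm

/-- a central quotient of a perfect group is perfect -/
theorem commutator_eq_top_of_surjective {G : Type*} {Q : Type*} [Group G] [Group Q] (τ : G →* Q)
    (hτ : Function.Surjective τ) (hG : commutator G = ⊤) : commutator Q = ⊤ := by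
  rw [← map_commutator_of_surjective τ hτ, hG, ← MonoidHom.range_eq_map,
    MonoidHom.range_eq_top.mpr hτ]

section descent

variable {G : Type u} {Q : Type v} [Group G] [Group Q] [Finite G]
  (τ : G →* Q) (hτ : Function.Surjective τ) (hτc : τ.ker ≤ Subgroup.center G)
  (hG : commutator G = ⊤)
include hτ hτc hG

/-- the kernels of the stem extensions of a central quotient of a perfect group -/
theorem card_ker_dvd_of_central_quotient (b : ℕ)
    (hub : ∀ (Γ' : Type u) [Group Γ'] [Finite Γ'] (σ' : Γ' →* G), Cfsg.IsStemExtension σ' →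
      Nat.card σ'.ker ∣ b)
    {Δ : Type u} [Group Δ] [Finite Δ] (ρ : Δ →* Q) (hρ : Cfsg.IsStemExtension ρ) :
    Nat.card ρ.ker ∣ Nat.card τ.ker * b := by
  have hQ : commutator Q = ⊤ := commutator_eq_top_of_surjective τ hτ hG
  have hΔ : commutator Δ = ⊤ := perfect_of_stem ρ hρ hQ
  set P := fibreProd ρ τ with hP
  set D := commutator ↥P with hD
  have hDperf : commutator ↥D = ⊤ := commutator_der_eq_top ρ τ hρ.1 hτ hρ.2.1 hτc hQ
  -- the two projections
  let f₂ : ↥D →* G := (fibreSnd ρ τ).comp D.subtype
  let f₁ : ↥D →* Δ := (fibreFst ρ τ).comp D.subtype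
  have hf₂ : Function.Surjective f₂ := by
    intro g
    have h := map_commutator_of_surjective (fibreSnd ρ τ) (fibreSnd_surjective ρ τ hρ.1)
    have hg : g ∈ (commutator ↥P).map (fibreSnd ρ τ) := by
      rw [h, hG]; exact Subgroup.mem_top g
    obtain ⟨d, hd, hdg⟩ := hg
    exact ⟨⟨d, hd⟩, hdg⟩
  have hf₁ : Function.Surjective f₁ := by
    intro g
    have h := map_commutator_of_surjective (fibreFst ρ τ) (fibreFst_surjective ρ τ hτ)
    have hg : g ∈ (commutator ↥P).map (fibreFst ρ τ) := by
      rw [h, hΔ]; exact Subgroup.mem_top g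
    obtain ⟨d, hd, hdg⟩ := hg
    exact ⟨⟨d, hd⟩, hdg⟩
  -- the second projection is a stem extension
  have hstem : Cfsg.IsStemExtension f₂ := by
    refine ⟨hf₂, ?_, ?_⟩
    · intro x hx
      have hx2 : x.1.1.2 = 1 := hx
      have hx' : x.1 ∈ (fibreHom ρ τ).ker := by
        rw [MonoidHom.mem_ker, fibreHom_apply', hx2, map_one]
      have hc := Subgroup.mem_center_iff.mp (ker_fibreHom_le_center ρ τ hρ.2.1 hτc hx')
      rw [Subgroup.mem_center_iff]
      intro y
      exact Subtype.ext (hc y.1)
    · rw [hDperf]; exact le_top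
  have hb := hub ↥D f₂ hstem
  -- the orders
  have c1 := card_eq_ker_mul_of_surjective f₂ hf₂
  have c2 := card_eq_ker_mul_of_surjective f₁ hf₁
  have c3 := card_eq_ker_mul_of_surjective ρ hρ.1
  have c4 := card_eq_ker_mul_of_surjective τ hτ
  have hQpos : 0 < Nat.card Q := by
    haveI : Finite Q := Finite.of_surjective τ hτ
    exact Nat.card_pos
  have key : Nat.card f₁.ker * Nat.card ρ.ker = Nat.card f₂.ker * Nat.card τ.ker := by
    apply Nat.eq_of_mul_eq_mul_right hQpos
    calc Nat.card f₁.ker * Nat.card ρ.ker * Nat.card Q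
        = Nat.card f₁.ker * (Nat.card ρ.ker * Nat.card Q) := by ring
      _ = Nat.card ↥D := by rw [← c3, ← c2]
      _ = Nat.card f₂.ker * (Nat.card τ.ker * Nat.card Q) := by rw [← c4, ← c1]
      _ = Nat.card f₂.ker * Nat.card τ.ker * Nat.card Q := by ring
  have h1 : Nat.card ρ.ker ∣ Nat.card f₂.ker * Nat.card τ.ker :=
    Dvd.intro_left _ key
  calc Nat.card ρ.ker ∣ Nat.card f₂.ker * Nat.card τ.ker := h1
    _ ∣ b * Nat.card τ.ker := Nat.mul_dvd_mul_right hb _
    _ = Nat.card τ.ker * b := mul_comm _ _

end descent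

section kernel

variable {Γ : Type*} {G : Type*} {Q : Type*} [Group Γ] [Group G] [Group Q] [Finite Γ]
  (σ : Γ →* G) (τ : G →* Q)

/-- the kernel of the composite of a surjective homomorphism with a homomorphism is the product
of the two kernels, when it is central and the orders of the kernels are coprime -/
theorem nonempty_kerCompEquiv (hσ : Function.Surjective σ)
    (hcen : (τ.comp σ).ker ≤ Subgroup.center Γ)
    (hcop : Nat.Coprime (Nat.card τ.ker) (Nat.card σ.ker)) :
    Nonempty ((τ.comp σ).ker ≃* τ.ker × σ.ker) := by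
  haveI : Finite G := Finite.of_surjective σ hσ
  set m := Nat.card τ.ker with hm
  have hσx : ∀ x : (τ.comp σ).ker, σ x.1 ∈ τ.ker := fun x => x.2
  have hpow : ∀ x : (τ.comp σ).ker, x.1 ^ m ∈ σ.ker := by
    intro x
    rw [MonoidHom.mem_ker, map_pow]
    have h1 : (⟨σ x.1, hσx x⟩ : τ.ker) ^ Nat.card τ.ker = 1 := pow_card_eq_one'
    exact congrArg Subtype.val h1
  have hcomm : ∀ x y : (τ.comp σ).ker, Commute x.1 y.1 := by
    intro x y
    exact (Subgroup.mem_center_iff.mp (hcen x.2) y.1).symm
  let ψ : (τ.comp σ).ker →* τ.ker × σ.ker :=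
    { toFun := fun x => (⟨σ x.1, hσx x⟩, ⟨x.1 ^ m, hpow x⟩)
      map_one' := by
        apply Prod.ext
        · apply Subtype.ext
          show σ 1 = 1
          rw [map_one]
        · apply Subtype.ext
          show (1 : Γ) ^ m = 1
          rw [one_pow]
      map_mul' := by
        intro x y
        apply Prod.ext
        · apply Subtype.ext
          show σ (x.1 * y.1) = σ x.1 * σ y.1
          rw [map_mul]
        · apply Subtype.ext
          show (x.1 * y.1) ^ m = x.1 ^ m * y.1 ^ m
          exact (hcomm x y).mul_pow m }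
  have hinj : Function.Injective ψ := by
    rw [injective_iff_map_eq_one]
    intro x hx
    have h1 : σ x.1 = 1 := congrArg (fun t : τ.ker × σ.ker => (t.1 : G)) hx
    have h2 : x.1 ^ m = 1 := congrArg (fun t : τ.ker × σ.ker => (t.2 : Γ)) hx
    have h3 : x.1 ^ Nat.card σ.ker = 1 := by
      have : (⟨x.1, MonoidHom.mem_ker.mpr h1⟩ : σ.ker) ^ Nat.card σ.ker = 1 := pow_card_eq_one'
      exact congrArg Subtype.val this
    have h4 : orderOf x.1 ∣ Nat.gcd m (Nat.card σ.ker) :=
      Nat.dvd_gcd (orderOf_dvd_of_pow_eq_one h2) (orderOf_dvd_of_pow_eq_one h3)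
    rw [hcop, Nat.dvd_one] at h4
    exact Subtype.ext (orderOf_eq_one_iff.mp h4)
  have hcard : Nat.card (τ.comp σ).ker = Nat.card (τ.ker × σ.ker) := by
    rw [Nat.card_prod, ← MonoidHom.comap_ker, card_comap_of_surjective σ hσ τ.ker, mul_comm]
  have hbij : Function.Bijective ψ := by
    rw [Nat.bijective_iff_injective_and_card]
    exact ⟨hinj, hcard⟩
  exact ⟨MulEquiv.ofBijective ψ hbij⟩

end kernel

end Cfsg.Agent.Lib.Helper1.Stem
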