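import Mathlib
import Cfsg.Agent.Lib.Helper1.StemLL7

set_option autoImplicit false

/-! The group of the labelled lifts from tables: the hypotheses on the raw points when the group
acts faithfully on them, without assuming that it is simple. -/

namespace Cfsg.Agent.Lib.Helper1.StemLL

variable {G X : Type*} [Group G] [Finite G] [MulAction G X] {L : LLData} {raw : ℕ → X}
  {gs : List G} (H : RawHyp L raw gs)

/-- the hypotheses of the labelled lifts, for a group acting faithfully on the raw points -/
theorem sub_hyp_of_faithful (hf : ∀ g : G, (∀ j < L.m, g • raw j = raw j) → g = 1) :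
    LLHyp L (ptSub H) gs where
  pt_inj := by
    intro j hj j' hj' h
    have h1 := congrArg Subtype.val h
    rw [ptSub_val H j hj, ptSub_val H j' hj'] at h1
    exact H.inj j hj j' hj' h1
  pt_surj := by
    rintro ⟨x, j, hj, rfl⟩
    exact ⟨j, hj, Subtype.ext (ptSub_val H j hj)⟩
  pi_act := by
    intro i hi j hj
    apply Subtype.ext
    rw [SubMulAction.val_smul, ptSub_val H j hj, ptSub_val H _ (raw_pi_lt H i j hi hj)]
    exact H.act i hi j hj
  gen := H.gen
  faithful := by
    intro g hg
    apply hf
    intro j hj
    have := congrArg Subtype.val (hg j hj)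
    rw [SubMulAction.val_smul, ptSub_val H j hj] at this
    exact this

end Cfsg.Agent.Lib.Helper1.StemLL
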