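import Mathlib
import Cfsg.Prelude.Def_KGroupFacts
import Cfsg.Agent.Lib.Helper1.StemLL5

set_option autoImplicit false

/-! The group of the labelled lifts from tables, for an alternating group acting on the tuples of
distinct points: the hypotheses of the bridge from boolean checks. -/

namespace Cfsg.Agent.Lib.Helper1.StemLL

open Cfsg.Agent.Lib.Helper1.MatCode Equiv

/-- generation from transitivity and a nontrivial stabilizer -/
theorem closure_eq_top_of_transitive {G Y : Type*} [Group G] [Finite G] [MulAction G Y] [Finite Y]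
    (S : Set G) (y0 : Y) (p : ℕ) (hp : p.Prime) (hcard : Nat.card G = p * Nat.card Y)
    (htrans : ∀ y : Y, ∃ h ∈ Subgroup.closure S, h • y0 = y)
    (hstab : ∃ h ∈ Subgroup.closure S, h ≠ 1 ∧ h • y0 = y0) : Subgroup.closure S = ⊤ := by
  obtain ⟨H, hH⟩ : ∃ H, H = Subgroup.closure S := ⟨_, rfl⟩
  rw [← hH] at htrans hstab ⊢
  have horb : MulAction.orbit H y0 = Set.univ := by
    ext y
    simp only [Set.mem_univ, iff_true]
    obtain ⟨h, hh, rfl⟩ := htrans y
    exact ⟨⟨h, hh⟩, rfl⟩
  have h1 : (MulAction.stabilizer H y0).index = Nat.card Y := by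
    rw [MulAction.index_stabilizer, horb, Set.ncard_univ]
  have h2 := Subgroup.card_mul_index (MulAction.stabilizer H y0)
  rw [h1] at h2
  have hs : Nat.card (MulAction.stabilizer H y0) ≠ 1 := by
    intro h
    rw [Subgroup.card_eq_one] at h
    obtain ⟨g, hg, hg1, hg2⟩ := hstab
    have : (⟨g, hg⟩ : H) ∈ MulAction.stabilizer H y0 := hg2
    rw [h, Subgroup.mem_bot] at this
    exact hg1 (congrArg Subtype.val this)
  have hdvd : Nat.card H ∣ Nat.card G := Subgroup.card_subgroup_dvd_card H
  rw [← h2, hcard] at hdvd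
  have hY : 0 < Nat.card Y := by
    haveI : Nonempty Y := ⟨y0⟩
    exact Nat.card_pos
  have hsp : Nat.card (MulAction.stabilizer H y0) ∣ p := (Nat.mul_dvd_mul_iff_right hY).mp hdvd
  rcases (Nat.dvd_prime hp).mp hsp with h | h
  · exact absurd h hs
  · apply Subgroup.eq_top_of_card_eq
    rw [← h2, h, hcard]

/-- the tuples of distinct points -/
def Tup (n r : ℕ) : Type := Fin r ↪ Fin n

namespace Tup

variable {n r : ℕ}

/-- the underlying embedding -/
def emb (f : Tup n r) : Fin r ↪ Fin n := f

/-- the tuple of an embedding -/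
def ofEmb (f : Fin r ↪ Fin n) : Tup n r := f

theorem emb_ofEmb (f : Fin r ↪ Fin n) : (ofEmb f).emb = f := rfl

noncomputable instance : Fintype (Tup n r) := inferInstanceAs (Fintype (Fin r ↪ Fin n))

instance : MulAction (alternatingGroup (Fin n)) (Tup n r) :=
  inferInstanceAs (MulAction (alternatingGroup (Fin n)) (Fin r ↪ Fin n))

theorem smul_emb (g : alternatingGroup (Fin n)) (f : Tup n r) (a : Fin r) :
    (g • f).emb a = (g : Perm (Fin n)) (f.emb a) := rfl

theorem ext {f f' : Tup n r} (h : ∀ a, f.emb a = f'.emb a) : f = f' :=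
  DFunLike.ext (F := Fin r ↪ Fin n) f f' h

theorem card_eq : Fintype.card (Tup n r) = n.descFactorial r := by
  show Fintype.card (Fin r ↪ Fin n) = _
  rw [Fintype.card_embedding_eq, Fintype.card_fin, Fintype.card_fin]

end Tup

/-- the tables of an alternating group acting on tuples of distinct points -/
structure AltTab where
  n : ℕ
  r : ℕ
  ptN : ℕ → ℕ → ℕ
  gN : ℕ → ℕ → ℕ
  tg : ℕ → ℕ
  tp : ℕ → ℕ
  sw : List ℕ
  sj : ℕ

namespace AltTab

variable (T : AltTab) (L : LLData)

/-- the tuples have distinct entries within range -/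
def chkPt : Bool :=
  (List.range L.m).all fun j => (List.range T.r).all fun a =>
    decide (T.ptN j a < T.n) && (List.range T.r).all fun b => a == b || T.ptN j a != T.ptN j b

/-- the tuples are distinct -/
def chkDist : Bool :=
  (List.range L.m).all fun j => (List.range L.m).all fun j' =>
    j == j' || (List.range T.r).any fun a => T.ptN j a != T.ptN j' a

/-- the action on the tuples -/
def chkAct : Bool :=
  (List.range L.k).all fun i => (List.range L.m).all fun j => (List.range T.r).all fun a =>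
    T.gN i (T.ptN j a) == T.ptN (L.pi i j) a

/-- the tree of the generators -/
def chkTreeG : Bool :=
  (List.range L.m).all fun j => j == 0 ||
    (decide (T.tg j < L.k) && decide (T.tp j < j) && L.pi (T.tg j) (T.tp j) == j)

/-- the action of a word on the indices -/
def actN : List ℕ → ℕ → ℕ
  | [], j => j
  | i :: w, j => L.pi i (actN w j)

/-- a nontrivial element of the stabilizer -/
def chkStab : Bool :=
  (T.sw.all fun i => decide (i < L.k)) && (actN L T.sw 0 == 0) && decide (T.sj < L.m) &&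
    (actN L T.sw T.sj != T.sj)

/-- all the checks -/
def chkAll : Bool :=
  decide (0 < T.r) && decide (T.r ≤ T.n) && (T.n.descFactorial T.r == L.m) && T.chkPt L &&
    T.chkDist L && T.chkAct L && T.chkTreeG L && T.chkStab L

/-- a tuple with distinct entries within range -/
def TupOK (n r : ℕ) (f : ℕ → ℕ) : Prop :=
  (∀ a < r, f a < n) ∧ ∀ a < r, ∀ b < r, f a = f b → a = b

open Classical in
/-- the points -/
noncomputable def ptOf (hrn : T.r ≤ T.n) (j : ℕ) : Tup T.n T.r :=
  if hh : TupOK T.n T.r (T.ptN j) then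
    Tup.ofEmb ⟨fun a => ⟨T.ptN j a.val, hh.1 a.val a.isLt⟩,
      fun a b hab => Fin.ext (hh.2 _ a.isLt _ b.isLt (congrArg Fin.val hab))⟩
  else Tup.ofEmb (Fin.castLEEmb hrn)

theorem tupOK_of_chk (h : T.chkPt L = true) (j : ℕ) (hj : j < L.m) : TupOK T.n T.r (T.ptN j) := by
  unfold chkPt at h
  simp only [List.all_eq_true, List.mem_range, Bool.and_eq_true, decide_eq_true_eq,
    Bool.or_eq_true, beq_iff_eq, bne_iff_ne] at h
  constructor
  · intro a ha
    exact (h j hj a ha).1
  · intro a ha b hb hab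
    rcases (h j hj a ha).2 b hb with h' | h'
    · exact h'
    · exact absurd hab h'

theorem ptOf_apply (hrn : T.r ≤ T.n) (h : T.chkPt L = true) (j : ℕ) (hj : j < L.m) (a : Fin T.r) :
    ((T.ptOf hrn j).emb a).val = T.ptN j a.val := by
  unfold ptOf
  rw [dif_pos (T.tupOK_of_chk L h j hj)]
  rfl

end AltTab

section hyp

variable (T : AltTab) (L : LLData) (gs : List (alternatingGroup (Fin T.n)))
  (hg : ∀ i < L.k, ∀ x : Fin T.n, ((gs.getD i 1 : Perm (Fin T.n)) x).val = T.gN i x.val)
  (hrn : T.r ≤ T.n) (hr : 0 < T.r)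
  (hG : Nat.card (alternatingGroup (Fin T.n)) = 3 * L.m)
  (hR : L.chkRange = true) (hm : 0 < L.m)
  (hcard : T.n.descFactorial T.r = L.m) (hPt : T.chkPt L = true) (hDist : T.chkDist L = true)
  (hAct : T.chkAct L = true) (hTree : T.chkTreeG L = true) (hStab : T.chkStab L = true)

include hPt hDist in
theorem alt_pt_inj : ∀ j < L.m, ∀ j' < L.m, T.ptOf hrn j = T.ptOf hrn j' → j = j' := by
  intro j hj j' hj' h
  unfold AltTab.chkDist at hDist
  simp only [List.all_eq_true, List.mem_range, Bool.or_eq_true, beq_iff_eq, List.any_eq_true,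
    bne_iff_ne] at hDist
  rcases hDist j hj j' hj' with h' | ⟨a, ha, hne⟩
  · exact h'
  · exfalso
    apply hne
    have := congrArg (fun f : Tup T.n T.r => (f.emb ⟨a, ha⟩).val) h
    simp only [T.ptOf_apply L hrn hPt j hj, T.ptOf_apply L hrn hPt j' hj'] at this
    exact this

include hPt hDist hcard in
theorem alt_pt_surj : ∀ y : Tup T.n T.r, ∃ j, j < L.m ∧ T.ptOf hrn j = y := by
  let f : Fin L.m → Tup T.n T.r := fun j => T.ptOf hrn j.val
  have hf : Function.Injective f := by
    intro j j' h
    exact Fin.ext (alt_pt_inj T L hrn hPt hDist j.val j.isLt j'.val j'.isLt h)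
  have hc : Fintype.card (Fin L.m) = Fintype.card (Tup T.n T.r) := by
    rw [Tup.card_eq, Fintype.card_fin, hcard]
  have hb := (Fintype.bijective_iff_injective_and_card f).mpr ⟨hf, hc⟩
  intro y
  obtain ⟨j, hj⟩ := hb.2 y
  exact ⟨j.val, j.isLt, hj⟩

include hg hPt hAct hR in
theorem alt_pi_act : ∀ i < L.k, ∀ j < L.m, gs.getD i 1 • T.ptOf hrn j = T.ptOf hrn (L.pi i j) := by
  intro i hi j hj
  have hlt : L.pi i j < L.m := by
    unfold LLData.chkRange at hR
    simp only [List.all_eq_true, List.mem_range, decide_eq_true_eq] at hR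
    exact hR i hi j hj
  apply Tup.ext
  intro a
  apply Fin.ext
  rw [Tup.smul_emb, hg i hi, T.ptOf_apply L hrn hPt j hj, T.ptOf_apply L hrn hPt _ hlt]
  unfold AltTab.chkAct at hAct
  simp only [List.all_eq_true, List.mem_range, beq_iff_eq] at hAct
  exact hAct i hi j hj a.val a.isLt

include hg hPt hAct hR in
theorem alt_smul_word (w : List ℕ) (hw : ∀ i ∈ w, i < L.k) (j : ℕ) (hj : j < L.m) :
    AltTab.actN L w j < L.m ∧ wordProd gs w • T.ptOf hrn j = T.ptOf hrn (AltTab.actN L w j) := by
  induction w with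
  | nil => exact ⟨hj, by rw [wordProd_nil, one_smul]; rfl⟩
  | cons i w ih =>
    have hi : i < L.k := hw i (by simp)
    obtain ⟨h1, h2⟩ := ih (fun i' hi' => hw i' (by simp [hi']))
    have hlt : L.pi i (AltTab.actN L w j) < L.m := by
      unfold LLData.chkRange at hR
      simp only [List.all_eq_true, List.mem_range, decide_eq_true_eq] at hR
      exact hR i hi _ h1
    refine ⟨hlt, ?_⟩
    rw [wordProd_cons, mul_smul, h2, alt_pi_act T L gs hg hrn hR hPt hAct i hi _ h1]
    rfl

include hg hPt hAct hR hTree in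
theorem alt_reach (j : ℕ) (hj : j < L.m) :
    ∃ h ∈ Subgroup.closure {g | ∃ i < L.k, g = gs.getD i 1}, h • T.ptOf hrn 0 = T.ptOf hrn j := by
  induction j using Nat.strong_induction_on with
  | _ j ih =>
    by_cases h0 : j = 0
    · subst h0
      exact ⟨1, Subgroup.one_mem _, one_smul _ _⟩
    · have hT := hTree
      unfold AltTab.chkTreeG at hT
      simp only [List.all_eq_true, List.mem_range, Bool.or_eq_true, Bool.and_eq_true,
        decide_eq_true_eq, beq_iff_eq] at hT
      rcases hT j hj with h | ⟨⟨h1, h2⟩, h3⟩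
      · exact absurd h h0
      · obtain ⟨h, hh, hact⟩ := ih _ h2 (by omega)
        refine ⟨gs.getD (T.tg j) 1 * h,
          Subgroup.mul_mem _ (Subgroup.subset_closure ⟨_, h1, rfl⟩) hh, ?_⟩
        rw [mul_smul, hact, alt_pi_act T L gs hg hrn hR hPt hAct _ h1 _ (by omega), h3]

include hg hrn hPt hDist hAct hR hTree hStab hcard hG hm in
theorem alt_gen : Subgroup.closure {g | ∃ i < L.k, g = gs.getD i 1} = ⊤ := by
  have hY : Nat.card (Tup T.n T.r) = L.m := by
    rw [Nat.card_eq_fintype_card, Tup.card_eq, hcard]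
  apply closure_eq_top_of_transitive _ (T.ptOf hrn 0) 3 Nat.prime_three (by rw [hG, hY])
  · intro y
    obtain ⟨j, hj, rfl⟩ := alt_pt_surj T L hrn hcard hPt hDist y
    exact alt_reach T L gs hg hrn hR hPt hAct hTree j hj
  · unfold AltTab.chkStab at hStab
    simp only [Bool.and_eq_true, List.all_eq_true, decide_eq_true_eq, beq_iff_eq, bne_iff_ne]
      at hStab
    obtain ⟨⟨⟨h1, h2⟩, h3⟩, h4⟩ := hStab
    have hmem : ∀ w : List ℕ, (∀ i ∈ w, i < L.k) →
        wordProd gs w ∈ Subgroup.closure {g | ∃ i < L.k, g = gs.getD i 1} := by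
      intro w
      induction w with
      | nil => intro _; rw [wordProd_nil]; exact Subgroup.one_mem _
      | cons i w ih =>
        intro hw
        rw [wordProd_cons]
        exact Subgroup.mul_mem _ (Subgroup.subset_closure ⟨i, hw i (by simp), rfl⟩)
          (ih fun i' hi' => hw i' (by simp [hi']))
    refine ⟨wordProd gs T.sw, hmem _ h1, ?_, ?_⟩
    · intro h
      obtain ⟨h6, h5⟩ := alt_smul_word T L gs hg hrn hR hPt hAct T.sw h1 T.sj h3
      rw [h, one_smul] at h5
      exact h4 (alt_pt_inj T L hrn hPt hDist _ h3 _ h6 h5).symm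
    · obtain ⟨_, h5⟩ := alt_smul_word T L gs hg hrn hR hPt hAct T.sw h1 0 hm
      rw [h5, h2]

include hrn hr hPt hDist hcard in
theorem alt_faithful (g : alternatingGroup (Fin T.n))
    (h : ∀ j < L.m, g • T.ptOf hrn j = T.ptOf hrn j) : g = 1 := by
  apply Subtype.ext
  apply Equiv.ext
  intro x
  let z : Fin T.n := Fin.castLE hrn ⟨0, hr⟩
  let f : Tup T.n T.r := Tup.ofEmb ((Fin.castLEEmb hrn).trans (Equiv.swap z x).toEmbedding)
  have hf : f.emb ⟨0, hr⟩ = x := by
    show Equiv.swap z x (Fin.castLE hrn ⟨0, hr⟩) = x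
    exact Equiv.swap_apply_left z x
  obtain ⟨j, hj, hjf⟩ := alt_pt_surj T L hrn hcard hPt hDist f
  have h1 := h j hj
  rw [hjf] at h1
  have h2 := Tup.smul_emb g f ⟨0, hr⟩
  rw [h1, hf] at h2
  exact h2.symm

include hg hrn hr hPt hDist hAct hR hTree hStab hcard hG hm in
/-- the hypotheses of the bridge -/
theorem alt_hyp : LLHyp L (T.ptOf hrn) gs where
  pt_inj := alt_pt_inj T L hrn hPt hDist
  pt_surj := alt_pt_surj T L hrn hcard hPt hDist
  pi_act := alt_pi_act T L gs hg hrn hR hPt hAct
  gen := alt_gen T L gs hg hrn hG hR hm hcard hPt hDist hAct hTree hStab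
  faithful := alt_faithful T L hrn hr hcard hPt hDist

end hyp

end Cfsg.Agent.Lib.Helper1.StemLL
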