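import Mathlib
import Cfsg.Agent.Lib.Helper1.StemZP7

set_option autoImplicit false

/-! Labelled actions with labels in a finite commutative `p`-group: the check of the certificate
with packed rows, split into parts that can be verified separately. -/

namespace Cfsg.Agent.Lib.Helper1.StemZP

open Finset Cfsg.Agent.Lib.Helper1.MatCode Cfsg.Agent.Lib.Helper1.Stem
  Cfsg.Agent.Lib.Helper1.StemSA Cfsg.Agent.Lib.Helper1.StemZLin Cfsg.Agent.Lib.Helper1.StemLin
  Cfsg.Agent.Lib.Helper1.StemZA Cfsg.Agent.Lib.Helper1.StemZC Cfsg.Agent.Lib.Helper1.StemZD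
  Cfsg.Agent.Lib.Helper1.StemZE

variable (D : SAData) (C : ZRCert)

/-- the part of the check of the certificate without the rows of the product and without the
relations of the distinguished unknowns -/
def chkCertA : Bool :=
  decide (1 < C.p) && decide (C.bs.length ≤ C.N) &&
  ((List.range (C.N - C.bs.length)).all fun i => D.chkSpec (C.specs i)) &&
  ((List.range (C.N - C.bs.length)).all fun i => chkRangeS D (C.specs i)) &&
  (C.bs.all fun b => decide (b < D.n) && decide (0 < C.colOf b)) &&
  ((List.range C.N).all fun c => decide (C.unk c < D.n)) && chkColR D C &&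
  chkMask C && chkRows C (C.Xb ^ C.N) (rep C.Xb C.N C.hmR) &&
  (C.es.length == C.bs.length) && (C.es.all fun e => decide (e < C.s))

/-- the check of the rows of the product in a range -/
def chkRowsIn (a len : ℕ) : Bool :=
  (List.range' a len).all fun i =>
    decide (C.N ≤ i) || chkRowR D C (C.Xb ^ C.N) (rep C.Xb C.N C.hmQ) i

/-- the check of the relation of a distinguished unknown -/
def chkRelAt (j : ℕ) : Bool :=
  chkRel D C.toP (C.rel.getD j []) (C.bs.getD j 0) (C.es.getD j 0)

theorem chkCertR_of_parts (hA : chkCertA D C = true)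
    (hrow : ∀ i < C.N, chkRowR D C (C.Xb ^ C.N) (rep C.Xb C.N C.hmQ) i = true)
    (hrel : ∀ j < C.bs.length, chkRelAt D C j = true) : chkCertR D C = true := by
  unfold chkCertA at hA
  simp only [Bool.and_eq_true] at hA
  obtain ⟨⟨⟨⟨⟨⟨⟨⟨⟨⟨h1, h2⟩, h3⟩, h4⟩, h5⟩, h6⟩, h7⟩, h8⟩, h9⟩, h10⟩, h11⟩ := hA
  unfold chkCertR
  simp only [Bool.and_eq_true]
  refine ⟨⟨⟨⟨⟨⟨⟨⟨⟨⟨⟨⟨h1, h2⟩, h3⟩, h4⟩, h5⟩, h6⟩, h7⟩, h8⟩, h9⟩, ?_⟩, h10⟩, h11⟩, ?_⟩
  · rw [List.all_eq_true]
    intro i hi
    exact hrow i (List.mem_range.mp hi)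
  · rw [List.all_eq_true]
    intro j hj
    exact hrel j (List.mem_range.mp hj)

/-- the rows of the product from the checks on ranges covering all of them -/
theorem row_of_chunks (len : ℕ) (hlen : 0 < len) (nch : ℕ) (hN : C.N ≤ len * nch)
    (h : ∀ q < nch, chkRowsIn D C (len * q) len = true) (i : ℕ) (hi : i < C.N) :
    chkRowR D C (C.Xb ^ C.N) (rep C.Xb C.N C.hmQ) i = true := by
  have hq : i / len < nch := by
    apply Nat.div_lt_of_lt_mul
    omega
  have h1 := h (i / len) hq
  unfold chkRowsIn at h1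
  rw [List.all_eq_true] at h1
  have h2 := h1 i (by
    rw [List.mem_range'_1]
    constructor
    · exact Nat.mul_div_le i len
    · have := Nat.lt_div_mul_add hlen (a := i)
      rw [mul_comm] at this
      exact this)
  rw [Bool.or_eq_true, decide_eq_true_eq] at h2
  rcases h2 with h2 | h2
  · omega
  · exact h2

end Cfsg.Agent.Lib.Helper1.StemZP
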