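import Mathlib
import Cfsg.Agent.Lib.Helper5.PrimaryDecomp
import Cfsg.Agent.Lib.Helper5.SLClass.Central

set_option autoImplicit false

/-!
# S5965 swarm, PK-CENT: the centraliser of an element with `x ^ r` scalar (`p ∤ r`) has elements of
every nonzero determinant
-/

namespace Cfsg.Agent.Lib.Helper6.SubF

open Module Polynomial

universe u v

/-- PK-CENT -/
theorem exists_commute_det_of_pow_eq_smul {F : Type u} [Field F] [Fintype F] {p : ℕ}
    [Fact p.Prime] [CharP F p] {V : Type v} [AddCommGroup V] [Module F V] [FiniteDimensional F V]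
    [Nontrivial V] (r : ℕ) (hr : r ≠ 0) (hrp : ¬ p ∣ r) (z : F) (hz : z ≠ 0) (x : V →ₗ[F] V)
    (hx : x ^ r = z • 1) (δ : F) (hδ : δ ≠ 0) :
    ∃ c : V →ₗ[F] V, LinearMap.det c = δ ∧ ∀ v, c (x v) = x (c v) := by
  classical
  have _ := hr
  obtain ⟨ι, _, P, hP, e, Ψ, hΨ⟩ := Cfsg.Agent.Lib.Helper5.exists_primary_decomp x
  -- the annihilating polynomial is squarefree
  have hrF : ((r : ℕ) : F) ≠ 0 := by
    intro h
    exact hrp ((CharP.cast_eq_zero_iff F p r).1 h)
  have hsep : (X ^ r - C z : F[X]).Separable := separable_X_pow_sub_C z hrF hz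
  have hsq : Squarefree (X ^ r - C z : F[X]) := hsep.squarefree
  have hann : aeval x (X ^ r - C z : F[X]) = 0 := by
    rw [map_sub, map_pow, aeval_X, aeval_C, hx]
    ext v
    simp [Algebra.algebraMap_eq_smul_one]
  -- each `p i ^ e i` divides it
  have hdvd : ∀ i, P i ^ e i ∣ (X ^ r - C z : F[X]) := by
    intro i
    have h1 := hΨ (X ^ r - C z) (Ψ.symm (Pi.single i 1)) i
    rw [hann, LinearMap.zero_apply, map_zero, LinearEquiv.apply_symm_apply, Pi.single_eq_same,
      mul_one] at h1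
    have h2 : Ideal.Quotient.mk (F[X] ∙ P i ^ e i) (X ^ r - C z) = 0 := h1.symm
    rw [Ideal.Quotient.eq_zero_iff_mem, Ideal.mem_span_singleton] at h2
    exact h2
  have hle : ∀ i, e i ≤ 1 := by
    intro i
    by_contra hlt
    push Not at hlt
    have h1 : P i * P i ∣ (X ^ r - C z : F[X]) := by
      refine Dvd.dvd.trans ?_ (hdvd i)
      rw [← pow_two]
      exact pow_dvd_pow _ hlt
    exact (hP i).not_isUnit (hsq _ h1)
  -- some exponent is one
  have hex : ∃ i, e i = 1 := by
    by_contra hno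
    push Not at hno
    have h0 : ∀ i, e i = 0 := by
      intro i
      have := hle i
      have := hno i
      omega
    have hzero : ∀ u : V, u = 0 := by
      intro u
      apply Ψ.injective
      rw [map_zero]
      funext i
      have h1 := hΨ 1 u i
      rw [map_one, Module.End.one_apply] at h1
      have h2 : Ideal.Quotient.mk (F[X] ∙ P i ^ e i) (1 : F[X]) = 0 := by
        rw [Ideal.Quotient.eq_zero_iff_mem, Ideal.mem_span_singleton, h0 i, pow_zero]
      rw [h2, zero_mul] at h1
      rw [h1]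
      rfl
    obtain ⟨a, b, hab⟩ := exists_pair_ne V
    exact hab (by rw [hzero a, hzero b])
  obtain ⟨i₀, hi₀⟩ := hex
  have hgcd : Finset.univ.gcd e = 1 := by
    have h1 : Finset.univ.gcd e ∣ e i₀ := Finset.gcd_dvd (Finset.mem_univ i₀)
    rw [hi₀] at h1
    exact Nat.dvd_one.1 h1
  obtain ⟨Y, hYc, hYd⟩ := Cfsg.Agent.Lib.Helper5.SLClass.exists_commute_det x P hP e Ψ hΨ
    (Units.mk0 δ hδ)
  refine ⟨Y, ?_, hYc⟩
  rw [hYd, hgcd, pow_one, Units.val_mk0]

end Cfsg.Agent.Lib.Helper6.SubF
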