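import Mathlib
import Cfsg.Agent.Lib.Helper4.EqDec5

set_option autoImplicit false

/-!
# S5965 swarm, PK-EIG: an element of prime order `r ∣ q - 1` has an eigenbasis
-/

namespace Cfsg.Agent.Lib.Helper6.SubF

open Module Polynomial Cfsg.Agent.H9SemiInv Cfsg.Agent.Lib.Helper9.H9Elus
  Cfsg.Agent.Lib.Helper4.EqDec

/-- PK-EIG -/
theorem exists_eigenbasis {F : Type*} [Field F] [Fintype F] {p : ℕ} [Fact p.Prime] [CharP F p]
    {V : Type*} [AddCommGroup V] [Module F V] [FiniteDimensional F V] (r : ℕ) [Fact r.Prime]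
    (hrp : r ≠ p) (hr1 : r ∣ Fintype.card F - 1) (y : V →ₗ[F] V) (hy : y ^ r = 1) :
    ∃ (b : Basis (Fin (finrank F V)) F V) (lam : Fin (finrank F V) → F),
      ∀ j, y (b j) = lam j • b j := by
  classical
  have hr : r.Prime := Fact.out
  -- the order of `q` modulo `r` is one
  have hord : orderOf ((Fintype.card F : ℕ) : ZMod r) = 1 := by
    have hpos : 1 ≤ Fintype.card F := Fintype.card_pos
    have h1 : ((Fintype.card F : ℕ) : ZMod r) = 1 := by
      have h2 : Fintype.card F = (Fintype.card F - 1) + 1 := by omega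
      rw [h2, Nat.cast_add, (ZMod.natCast_eq_zero_iff _ _).2 hr1, zero_add, Nat.cast_one]
    rw [h1, orderOf_one]
  have hss : Module.End.IsSemisimple y := isSemisimple_of_pow_eq_one r hrp y hy
  -- every nonzero invariant subspace contains an invariant line
  have hmin : ∀ W : Submodule F V, W ≤ ⊤ → Inv y W → W ≠ ⊥ →
      ∃ Z : Submodule F V, Z ≤ W ∧ Inv y Z ∧ finrank F Z = 1 := by
    intro W _ hW hne
    obtain ⟨w, hwW, hw0⟩ := Submodule.exists_mem_ne_zero_of_ne_bot hne
    by_cases hw1 : aeval y (cyclotomic r F) w = 0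
    · have hne' : W ⊓ LinearMap.ker (aeval y (cyclotomic r F)) ≠ ⊥ := by
        intro h
        have : w ∈ W ⊓ LinearMap.ker (aeval y (cyclotomic r F)) :=
          Submodule.mem_inf.2 ⟨hwW, LinearMap.mem_ker.2 hw1⟩
        rw [h, Submodule.mem_bot] at this
        exact hw0 this
      obtain ⟨Z, hZ, hZinv, hZfr⟩ := hmin_cyclotomic r hrp y
        (W ⊓ LinearMap.ker (aeval y (cyclotomic r F))) inf_le_right
        (hW.inf (inv_ker_aeval y _)) hne'
      exact ⟨Z, hZ.trans inf_le_left, hZinv, by rw [hZfr, hord]⟩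
    · -- `Φ_r(y) w` is a nonzero fixed vector in `W`
      have hw1W : aeval y (cyclotomic r F) w ∈ W := Inv.aeval hW _ w hwW
      have hfix : y (aeval y (cyclotomic r F) w) = aeval y (cyclotomic r F) w := by
        have h1 : aeval y ((X - 1 : F[X]) * cyclotomic r F) w = 0 := by
          rw [mul_comm, cyclotomic_prime_mul_X_sub_one, map_sub, map_pow, aeval_X, hy, map_one,
            sub_self, LinearMap.zero_apply]
        rw [map_mul, Module.End.mul_apply, map_sub, aeval_X, map_one, LinearMap.sub_apply,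
          Module.End.one_apply, sub_eq_zero] at h1
        exact h1
      refine ⟨Submodule.span F {aeval y (cyclotomic r F) w}, ?_, ?_, finrank_span_singleton hw1⟩
      · rw [Submodule.span_singleton_le_iff_mem]
        exact hw1W
      · intro x hx
        obtain ⟨c, rfl⟩ := Submodule.mem_span_singleton.1 hx
        rw [map_smul, hfix]
        exact Submodule.smul_mem _ c (Submodule.mem_span_singleton_self _)
  have hinvtop : Inv y (⊤ : Submodule F V) := fun x _ => Submodule.mem_top
  obtain ⟨Z, hZ, hind, hsup⟩ := peel_min y hss 1 le_rfl ⊤ hinvtop hmin (finrank F V)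
    (by rw [finrank_top, one_mul])
  -- a generator of each line
  have hgen : ∀ j, ∃ v : V, v ∈ Z j ∧ v ≠ 0 ∧ ∃ c : F, y v = c • v := by
    intro j
    obtain ⟨⟨v, hvZ⟩, hv0, hv⟩ := finrank_eq_one_iff'.1 (hZ j).2
    have hv0' : v ≠ 0 := fun h => hv0 (Subtype.ext h)
    obtain ⟨c, hc⟩ := hv ⟨y v, (hZ j).1 v hvZ⟩
    exact ⟨v, hvZ, hv0', c, (congrArg Subtype.val hc).symm⟩
  choose v hvZ hv0 lam hlam using hgen
  have hli : LinearIndependent F v := hind.linearIndependent Z hvZ hv0
  rcases Nat.eq_zero_or_pos (finrank F V) with h0 | hpos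
  · refine ⟨Module.finBasis F V, fun _ => 0, fun j => ?_⟩
    have := j.2
    omega
  have _ne : Nonempty (Fin (finrank F V)) := ⟨⟨0, hpos⟩⟩
  refine ⟨basisOfLinearIndependentOfCardEqFinrank hli (by rw [Fintype.card_fin]), lam, fun j => ?_⟩
  rw [coe_basisOfLinearIndependentOfCardEqFinrank]
  exact hlam j

end Cfsg.Agent.Lib.Helper6.SubF
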