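import Mathlib
import Cfsg.Agent.Lib.Helper9.GReal2
import Cfsg.Agent.Lib.Helper9.Elus14
import Cfsg.Agent.Lib.Helper4.EqDec3
import Cfsg.Agent.Lib.Helper1.SubF_EIG

set_option autoImplicit false

/-!
# S5965 swarm, PK-SYM: an element of order `r` with inversion-symmetric spectrum is real over `F₀`
when `r ∣ q₀ + 1`
-/

namespace Cfsg.Agent.Lib.Helper6.SubF

open Module Polynomial Cfsg.Agent.Lib.Helper9.H9GReal Cfsg.Agent.H9SemiInv
  Cfsg.Agent.Lib.Helper9.H9Elus

universe u

section aux
variable {F : Type*} [Field F] {V : Type*} [AddCommGroup V] [Module F V]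

/-- the eigenspace of a restriction -/
theorem sym_finrank_eigenspace_restrict (y : V →ₗ[F] V) (C : Submodule F V)
    (hC : ∀ v ∈ C, y v ∈ C) (μ : F) :
    finrank F (Module.End.eigenspace (y.restrict hC) μ) =
      finrank F ↥(C ⊓ Module.End.eigenspace y μ) := by
  have hmap : (Module.End.eigenspace (y.restrict hC) μ).map C.subtype =
      C ⊓ Module.End.eigenspace y μ := by
    ext v
    constructor
    · rintro ⟨c, hc, rfl⟩
      refine Submodule.mem_inf.2 ⟨c.2, ?_⟩
      rw [SetLike.mem_coe, Module.End.mem_eigenspace_iff] at hc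
      rw [Module.End.mem_eigenspace_iff]
      have := congrArg Subtype.val hc
      simpa using this
    · intro hv
      obtain ⟨hvC, hvE⟩ := Submodule.mem_inf.1 hv
      refine ⟨⟨v, hvC⟩, ?_, rfl⟩
      rw [SetLike.mem_coe, Module.End.mem_eigenspace_iff]
      apply Subtype.ext
      rw [Module.End.mem_eigenspace_iff] at hvE
      simpa using hvE
  rw [← hmap]
  exact (Submodule.equivMapOfInjective C.subtype C.injective_subtype _).finrank_eq

/-- the real form of a pair of eigenvectors with inverse eigenvalues -/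
theorem sym_realOver_pair (F₀ : Subfield F) (y : V →ₗ[F] V) (e f : V) (μ : F) (hμ0 : μ ≠ 0)
    (hμ : μ⁻¹ ≠ μ) (hs : μ + μ⁻¹ ∈ F₀) (hye : y e = μ • e) (hyf : y f = μ⁻¹ • f)
    (hli : LinearIndependent F ![e, f]) (W : Submodule F V)
    (hW : W = Submodule.span F (Set.range ![e, f])) :
    ∃ hinv : ∀ w ∈ W, y w ∈ W, RealOver F₀ (y.restrict hinv) := by
  classical
  have h1 : μ * μ⁻¹ = 1 := mul_inv_cancel₀ hμ0
  have heW : e ∈ W := by
    rw [hW]
    exact Submodule.subset_span ⟨0, rfl⟩
  have hfW : f ∈ W := by
    rw [hW]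
    exact Submodule.subset_span ⟨1, rfl⟩
  have hinv : ∀ w ∈ W, y w ∈ W := by
    intro w hw
    rw [hW] at hw
    obtain ⟨c, rfl⟩ := (Submodule.mem_span_range_iff_exists_fun F).1 hw
    rw [Fin.sum_univ_two, map_add, map_smul, map_smul]
    simp only [Matrix.cons_val_zero, Matrix.cons_val_one]
    rw [hye, hyf]
    exact W.add_mem (W.smul_mem _ (W.smul_mem _ heW)) (W.smul_mem _ (W.smul_mem _ hfW))
  refine ⟨hinv, ?_⟩
  have hfr : finrank F W = 2 := by
    rw [hW, finrank_span_eq_card hli, Fintype.card_fin]
  -- the vectors `v = e + f` and `y v`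
  have hvW : e + f ∈ W := W.add_mem heW hfW
  have hyvW : μ • e + μ⁻¹ • f ∈ W := W.add_mem (W.smul_mem _ heW) (W.smul_mem _ hfW)
  have hUli : LinearIndependent F ![e + f, μ • e + μ⁻¹ • f] := by
    rw [LinearIndependent.pair_iff]
    intro a b hab
    have h2 : (a + b * μ) • e + (a + b * μ⁻¹) • f = 0 := by
      rw [← hab]
      module
    obtain ⟨h3, h4⟩ := (LinearIndependent.pair_iff.1 hli) _ _ h2
    have h5 : b * (μ - μ⁻¹) = 0 := by linear_combination h3 - h4
    have hb : b = 0 := by
      rcases mul_eq_zero.1 h5 with h | h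
      · exact h
      · exact absurd (sub_eq_zero.1 h).symm hμ
    rw [hb, zero_mul, add_zero] at h3
    exact ⟨h3, hb⟩
  have hLIW : LinearIndependent F (![⟨e + f, hvW⟩, ⟨μ • e + μ⁻¹ • f, hyvW⟩] : Fin 2 → W) := by
    apply LinearIndependent.of_comp W.subtype
    have : (W.subtype ∘ (![⟨e + f, hvW⟩, ⟨μ • e + μ⁻¹ • f, hyvW⟩] : Fin 2 → W)) =
        ![e + f, μ • e + μ⁻¹ • f] := by
      funext i
      fin_cases i <;> rfl
    rw [this]
    exact hUli
  have hb0 : basisOfLinearIndependentOfCardEqFinrank hLIW (by rw [Fintype.card_fin, hfr]) 0 =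
      ⟨e + f, hvW⟩ := by
    rw [coe_basisOfLinearIndependentOfCardEqFinrank]
    rfl
  have hb1 : basisOfLinearIndependentOfCardEqFinrank hLIW (by rw [Fintype.card_fin, hfr]) 1 =
      ⟨μ • e + μ⁻¹ • f, hyvW⟩ := by
    rw [coe_basisOfLinearIndependentOfCardEqFinrank]
    rfl
  refine ⟨Fin 2, inferInstance,
    basisOfLinearIndependentOfCardEqFinrank hLIW (by rw [Fintype.card_fin, hfr]), ?_⟩
  have hy0 : (y.restrict hinv) ⟨e + f, hvW⟩ =
      basisOfLinearIndependentOfCardEqFinrank hLIW (by rw [Fintype.card_fin, hfr]) 1 := by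
    rw [hb1]
    apply Subtype.ext
    rw [LinearMap.coe_restrict_apply]
    show y (e + f) = μ • e + μ⁻¹ • f
    rw [map_add, hye, hyf]
  have hy1 : (y.restrict hinv) ⟨μ • e + μ⁻¹ • f, hyvW⟩ =
      (μ + μ⁻¹) • basisOfLinearIndependentOfCardEqFinrank hLIW (by rw [Fintype.card_fin, hfr]) 1 -
        basisOfLinearIndependentOfCardEqFinrank hLIW (by rw [Fintype.card_fin, hfr]) 0 := by
    rw [hb1, hb0]
    apply Subtype.ext
    rw [LinearMap.coe_restrict_apply]
    show y (μ • e + μ⁻¹ • f) = (μ + μ⁻¹) • (μ • e + μ⁻¹ • f) - (e + f)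
    rw [map_add, map_smul, map_smul, hye, hyf]
    have hs1 : (μ + μ⁻¹) * μ = μ * μ + 1 := by rw [add_mul, mul_comm μ⁻¹ μ, h1]
    have hs2 : (μ + μ⁻¹) * μ⁻¹ = μ⁻¹ * μ⁻¹ + 1 := by rw [add_mul, h1, add_comm]
    rw [smul_add, smul_smul, smul_smul, smul_smul, smul_smul, hs1, hs2]
    module
  intro i j
  fin_cases j
  · show (basisOfLinearIndependentOfCardEqFinrank hLIW _).repr
      ((y.restrict hinv) (basisOfLinearIndependentOfCardEqFinrank hLIW _ 0)) i ∈ F₀
    rw [hb0, hy0, Basis.repr_self, Finsupp.single_apply]
    split_ifs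
    · exact F₀.one_mem
    · exact F₀.zero_mem
  · show (basisOfLinearIndependentOfCardEqFinrank hLIW _).repr
      ((y.restrict hinv) (basisOfLinearIndependentOfCardEqFinrank hLIW _ 1)) i ∈ F₀
    rw [hb1, hy1, map_sub, map_smul, Basis.repr_self, Basis.repr_self, Finsupp.sub_apply,
      Finsupp.smul_apply, Finsupp.single_apply, Finsupp.single_apply]
    apply F₀.sub_mem
    · apply F₀.mul_mem hs
      split_ifs
      · exact F₀.one_mem
      · exact F₀.zero_mem
    · split_ifs
      · exact F₀.one_mem
      · exact F₀.zero_mem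

/-- the eigenspaces of `y` inside the span of two eigenvectors with inverse eigenvalues are
symmetric under inversion -/
theorem sym_finrank_inf_eigenspace (y : V →ₗ[F] V) (e f : V) (μ : F)
    (hμ : μ⁻¹ ≠ μ) (he0 : e ≠ 0) (hf0 : f ≠ 0) (hye : y e = μ • e) (hyf : y f = μ⁻¹ • f)
    (hli : LinearIndependent F ![e, f]) (ν : F) :
    finrank F ↥(Submodule.span F (Set.range ![e, f]) ⊓ Module.End.eigenspace y ν) =
      finrank F ↥(Submodule.span F (Set.range ![e, f]) ⊓ Module.End.eigenspace y ν⁻¹) := by
  classical
  -- description of the intersection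
  have key : ∀ ν : F, Submodule.span F (Set.range ![e, f]) ⊓ Module.End.eigenspace y ν =
      if ν = μ then Submodule.span F {e} else if ν = μ⁻¹ then Submodule.span F {f} else ⊥ := by
    intro ν
    ext w
    rw [Submodule.mem_inf, Module.End.mem_eigenspace_iff]
    constructor
    · rintro ⟨hw, hyw⟩
      obtain ⟨c, rfl⟩ := (Submodule.mem_span_range_iff_exists_fun F).1 hw
      rw [Fin.sum_univ_two] at hyw ⊢
      simp only [Matrix.cons_val_zero, Matrix.cons_val_one] at hyw ⊢
      rw [map_add, map_smul, map_smul, hye, hyf] at hyw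
      have h2 : (c 0 * (μ - ν)) • e + (c 1 * (μ⁻¹ - ν)) • f = 0 := by
        have h3 : c 0 • μ • e + c 1 • μ⁻¹ • f - ν • (c 0 • e + c 1 • f) = 0 := by
          rw [hyw, sub_self]
        rw [← h3]
        module
      obtain ⟨h3, h4⟩ := (LinearIndependent.pair_iff.1 hli) _ _ h2
      by_cases hν1 : ν = μ
      · rw [if_pos hν1]
        have hc1 : c 1 = 0 := by
          rcases mul_eq_zero.1 h4 with h | h
          · exact h
          · exact absurd ((sub_eq_zero.1 h).trans hν1) hμ
        rw [hc1, zero_smul, add_zero]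
        exact Submodule.smul_mem _ _ (Submodule.mem_span_singleton_self e)
      · rw [if_neg hν1]
        have hc0 : c 0 = 0 := by
          rcases mul_eq_zero.1 h3 with h | h
          · exact h
          · exact absurd (sub_eq_zero.1 h).symm hν1
        rw [hc0, zero_smul, zero_add]
        by_cases hν2 : ν = μ⁻¹
        · rw [if_pos hν2]
          exact Submodule.smul_mem _ _ (Submodule.mem_span_singleton_self f)
        · rw [if_neg hν2]
          have hc1 : c 1 = 0 := by
            rcases mul_eq_zero.1 h4 with h | h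
            · exact h
            · exact absurd (sub_eq_zero.1 h).symm hν2
          rw [hc1, zero_smul]
          exact Submodule.mem_bot F |>.2 rfl
    · intro hw
      by_cases hν1 : ν = μ
      · rw [if_pos hν1] at hw
        obtain ⟨a, rfl⟩ := Submodule.mem_span_singleton.1 hw
        refine ⟨Submodule.smul_mem _ _ (Submodule.subset_span ⟨0, rfl⟩), ?_⟩
        rw [map_smul, hye, hν1, smul_comm]
      · rw [if_neg hν1] at hw
        by_cases hν2 : ν = μ⁻¹
        · rw [if_pos hν2] at hw
          obtain ⟨a, rfl⟩ := Submodule.mem_span_singleton.1 hw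
          refine ⟨Submodule.smul_mem _ _ (Submodule.subset_span ⟨1, rfl⟩), ?_⟩
          rw [map_smul, hyf, hν2, smul_comm]
        · rw [if_neg hν2] at hw
          rw [(Submodule.mem_bot F).1 hw]
          exact ⟨Submodule.zero_mem _, by rw [map_zero, smul_zero]⟩
  rw [key ν, key ν⁻¹]
  by_cases hν1 : ν = μ
  · rw [if_pos hν1, hν1, if_neg hμ, if_pos rfl, finrank_span_singleton he0,
      finrank_span_singleton hf0]
  · rw [if_neg hν1]
    by_cases hν2 : ν = μ⁻¹
    · rw [if_pos hν2, hν2, inv_inv, if_pos rfl, finrank_span_singleton he0,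
        finrank_span_singleton hf0]
    · rw [if_neg hν2]
      have h3 : ν⁻¹ ≠ μ := fun h => hν2 (by rw [← h, inv_inv])
      have h4 : ν⁻¹ ≠ μ⁻¹ := fun h => hν1 (inv_injective h)
      rw [if_neg h3, if_neg h4]

end aux

/-- PK-SYM -/
theorem realOver_of_symm_spectrum {F : Type*} [Field F] [Fintype F] {p : ℕ} [Fact p.Prime]
    [CharP F p] (F₀ : Subfield F) (q₀ r : ℕ) [Fact r.Prime] (hrp : r ≠ p) (hr2 : r ≠ 2)
    (hF₀ : Nat.card ↥F₀ = q₀) (hr1 : r ∣ Fintype.card F - 1) (hinv : r ∣ q₀ + 1)
    {V : Type u} [AddCommGroup V] [Module F V] [FiniteDimensional F V] (y : V →ₗ[F] V)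
    (hy : y ^ r = 1)
    (hsym : ∀ μ : F, finrank F (Module.End.eigenspace y μ) =
      finrank F (Module.End.eigenspace y μ⁻¹)) : RealOver F₀ y := by
  classical
  have hrprime : r.Prime := Fact.out
  induction hn : finrank F V using Nat.strong_induction_on generalizing V with
  | _ n ih =>
    obtain ⟨b, lam, hb⟩ := exists_eigenbasis r hrp hr1 y hy
    by_cases hall : ∀ j, lam j = 1
    · -- `y = 1`
      have hy1 : y = (1 : F) • (1 : V →ₗ[F] V) := by
        apply b.ext
        intro j
        rw [hb j, hall j, one_smul, one_smul, Module.End.one_apply]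
      rw [hy1]
      exact realOver_smul_one F₀ 1 F₀.one_mem
    · push Not at hall
      obtain ⟨j, hj⟩ := hall
      have he0 : b j ≠ 0 := b.ne_zero j
      have hye : y (b j) = lam j • b j := hb j
      -- `μ ^ r = 1`
      have hpow : ∀ k : ℕ, (y ^ k) (b j) = lam j ^ k • b j := by
        intro k
        induction k with
        | zero => rw [pow_zero, pow_zero, Module.End.one_apply, one_smul]
        | succ k ihk =>
          rw [pow_succ, Module.End.mul_apply, hye, map_smul, ihk, smul_smul, pow_succ, mul_comm]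
      have hμr : lam j ^ r = 1 := by
        have h1 := hpow r
        rw [hy, Module.End.one_apply] at h1
        have h2 : (lam j ^ r - 1) • b j = 0 := by rw [sub_smul, one_smul, ← h1, sub_self]
        rcases smul_eq_zero.1 h2 with h | h
        · exact sub_eq_zero.1 h
        · exact absurd h he0
      have hμ0 : lam j ≠ 0 := by
        intro h
        rw [h, zero_pow hrprime.ne_zero] at hμr
        exact zero_ne_one hμr
      have hμinv : (lam j)⁻¹ ≠ lam j := by
        intro h
        have h2 : lam j * lam j = 1 := by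
          nth_rewrite 1 [← h]
          exact inv_mul_cancel₀ hμ0
        obtain ⟨k, hk⟩ := hrprime.odd_of_ne_two hr2
        have h3 : lam j ^ r = lam j := by
          rw [hk, pow_succ, pow_mul, pow_two, h2, one_pow, one_mul]
        rw [hμr] at h3
        exact hj h3.symm
      -- an eigenvector for `μ⁻¹`
      have hEμ : 0 < finrank F (Module.End.eigenspace y (lam j)) := by
        apply finrank_pos_iff_exists_ne_zero.2
        exact ⟨⟨b j, Module.End.mem_eigenspace_iff.2 hye⟩, fun h => he0 (congrArg Subtype.val h)⟩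
      rw [hsym (lam j)] at hEμ
      obtain ⟨⟨f, hfE⟩, hf0'⟩ := finrank_pos_iff_exists_ne_zero.1 hEμ
      have hf0 : f ≠ 0 := fun h => hf0' (Subtype.ext h)
      have hyf : y f = (lam j)⁻¹ • f := Module.End.mem_eigenspace_iff.1 hfE
      have hli : LinearIndependent F ![b j, f] := by
        rw [LinearIndependent.pair_iff]
        intro s t hst
        have h1 : y (s • b j + t • f) = 0 := by rw [hst, map_zero]
        rw [map_add, map_smul, map_smul, hye, hyf] at h1
        have h2 : (s * (lam j - (lam j)⁻¹)) • b j = 0 := by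
          have h3 : s • lam j • b j + t • (lam j)⁻¹ • f - (lam j)⁻¹ • (s • b j + t • f) = 0 := by
            rw [h1, hst, smul_zero, sub_zero]
          rw [← h3]
          module
        have hs : s = 0 := by
          rcases smul_eq_zero.1 h2 with h | h
          · rcases mul_eq_zero.1 h with h' | h'
            · exact h'
            · exact absurd (sub_eq_zero.1 h').symm hμinv
          · exact absurd h he0
        rw [hs, zero_smul, zero_add] at hst
        rcases smul_eq_zero.1 hst with h | h
        · exact ⟨hs, h⟩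
        · exact absurd h hf0
      -- `μ + μ⁻¹ ∈ F₀`
      have hq1 : 1 < q₀ := by
        rw [← hF₀]
        exact Finite.one_lt_card
      have hsF : lam j + (lam j)⁻¹ ∈ F₀ := by
        apply Cfsg.Agent.H9USub.mem_of_pow_eq F₀ hF₀ hq1
        have _ft : Fintype ↥F₀ := Fintype.ofFinite _
        have hcard : Fintype.card ↥F₀ = q₀ := by rw [← hF₀, Nat.card_eq_fintype_card]
        have hadd := map_add (FiniteField.frobeniusAlgHom ↥F₀ F) (lam j) (lam j)⁻¹
        rw [FiniteField.coe_frobeniusAlgHom] at hadd
        simp only [hcard] at hadd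
        rw [hadd]
        obtain ⟨c, hc⟩ := hinv
        have h1 : lam j ^ (q₀ + 1) = 1 := by rw [hc, pow_mul, hμr, one_pow]
        have h2 : lam j ^ q₀ = (lam j)⁻¹ := by
          rw [pow_succ] at h1
          exact eq_inv_of_mul_eq_one_left h1
        rw [h2, inv_pow, h2, inv_inv, add_comm]
      -- the plane and its complement
      obtain ⟨hWinv, hWreal⟩ := sym_realOver_pair F₀ y (b j) f (lam j) hμ0 hμinv hsF hye hyf hli
        (Submodule.span F (Set.range ![b j, f])) rfl
      have hss : Module.End.IsSemisimple y := isSemisimple_of_pow_eq_one r hrp y hy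
      obtain ⟨C, hcompl, hCinv0⟩ := exists_inv_compl y hss _ hWinv
      have hCinv : ∀ x ∈ C, y x ∈ C := hCinv0
      have hfrW : finrank F ↥(Submodule.span F (Set.range ![b j, f])) = 2 := by
        rw [finrank_span_eq_card hli, Fintype.card_fin]
      have hfrsum : finrank F ↥(Submodule.span F (Set.range ![b j, f])) + finrank F C =
          finrank F V := Submodule.finrank_add_eq_of_isCompl hcompl
      have hCreal : RealOver F₀ (y.restrict hCinv) := by
        apply ih (finrank F C) (by omega) (y.restrict hCinv) _ _ rfl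
        · rw [Module.End.pow_restrict]
          ext c
          simp [hy]
        · intro ν
          rw [sym_finrank_eigenspace_restrict, sym_finrank_eigenspace_restrict]
          have h1 : ∀ ν : F, finrank F (Module.End.eigenspace y ν) =
              finrank F ↥(Submodule.span F (Set.range ![b j, f]) ⊓ Module.End.eigenspace y ν) +
              finrank F ↥(C ⊓ Module.End.eigenspace y ν) := by
            intro ν
            have h2 := Cfsg.Agent.Lib.Helper4.EqDec.finrank_ker_inf_sup_of_disjoint
              (y - ν • (1 : Module.End F V)) _ C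
              (fun w hw => Submodule.sub_mem _ (hWinv w hw) (by
                rw [LinearMap.smul_apply, Module.End.one_apply]; exact Submodule.smul_mem _ _ hw))
              (fun w hw => Submodule.sub_mem _ (hCinv w hw) (by
                rw [LinearMap.smul_apply, Module.End.one_apply]; exact Submodule.smul_mem _ _ hw))
              hcompl.disjoint
            rw [hcompl.sup_eq_top, top_inf_eq] at h2
            rw [Module.End.eigenspace_def]
            exact h2
          have h3 := h1 ν
          have h4 := h1 ν⁻¹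
          have h5 := hsym ν
          have h6 := sym_finrank_inf_eigenspace y (b j) f (lam j) hμinv he0 hf0 hye hyf hli ν
          omega
      exact realOver_of_isCompl F₀ y _ C hcompl hWinv hCinv hWreal hCreal

end Cfsg.Agent.Lib.Helper6.SubF
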