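import Mathlib
import Cfsg.Agent.Lib.Helper7.SubfDefs
import Cfsg.Agent.Lib.Helper1.Subf_X

set_option autoImplicit false

/-!
# S5639 PK-A1: the coefficient set `AA F₀ M` is a subfield containing `F₀`
-/

namespace Cfsg.Agent.Lib.Helper7.Subf

open Matrix

variable {F : Type*} [Field F] {n : ℕ}

namespace PkA1

theorem zero_mem (F₀ : Subfield F) (M : Subgroup (GL (Fin n) F)) : (0 : F) ∈ AA F₀ M := by
  intro v φ _ _ _
  rw [tvm_zero]
  exact Mm.one M

theorem of_mem (F₀ : Subfield F) (M : Subgroup (GL (Fin n) F)) (hT : HasRatTv F₀ M) {a : F}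
    (ha : a ∈ F₀) : a ∈ AA F₀ M := by
  intro v φ hv hφ h
  have h1 : tvm 1 (a • v) φ = tvm a v φ := by rw [tvm_smul_left, one_mul]
  rw [← h1]
  apply hT (a • v) φ (Rat.smul ha hv) hφ
  rw [dotProduct_smul, h, smul_zero]

theorem add_mem (F₀ : Subfield F) (M : Subgroup (GL (Fin n) F)) {a b : F} (ha : a ∈ AA F₀ M)
    (hb : b ∈ AA F₀ M) : a + b ∈ AA F₀ M := by
  intro v φ hv hφ h
  rw [← tvm_mul_tvm a b v φ h]
  exact (ha v φ hv hφ h).mul (hb v φ hv hφ h)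

theorem neg_mem (F₀ : Subfield F) (M : Subgroup (GL (Fin n) F)) {a : F} (ha : a ∈ AA F₀ M) :
    -a ∈ AA F₀ M := by
  intro v φ hv hφ h
  apply (ha v φ hv hφ h).inv_of_mul_eq_one
  rw [tvm_mul_tvm a (-a) v φ h, add_neg_cancel, tvm_zero]

theorem tvm_zero_left (a : F) (φ : Fin n → F) : tvm a (0 : Fin n → F) φ = 1 := by
  have : (0 : Fin n → F) = (0 : F) • (0 : Fin n → F) := by rw [zero_smul]
  rw [this, tvm_smul_left, mul_zero, tvm_zero]

theorem mul_mem (hn : 3 ≤ n) (F₀ : Subfield F) (M : Subgroup (GL (Fin n) F)) {a b : F}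
    (ha : a ∈ AA F₀ M) (hb : b ∈ AA F₀ M) : a * b ∈ AA F₀ M := by
  intro v φ' hv hφ' h
  by_cases hv0 : v = 0
  · rw [hv0, tvm_zero_left]
    exact Mm.one M
  · obtain ⟨v', hv', hk, hI⟩ := exists_rat_indep_in_ker hn F₀ φ' v hφ' hv hv0
    obtain ⟨φ, hφ, e1, e2⟩ := exists_dual_of_indep F₀ v' v hv' hv hI
    have e1' : φ ⬝ᵥ v' = 1 := by rw [dotProduct_comm]; exact e1
    have e2' : φ ⬝ᵥ v = 0 := by rw [dotProduct_comm]; exact e2
    have hc := Mm.comm_tvm (M := M) (a := a) (b := b) e2' hk h (ha v φ hv hφ e2') (hb v' φ' hv' hφ' hk)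
    rw [e1', mul_one] at hc
    exact hc

theorem pow_mem (hn : 3 ≤ n) (F₀ : Subfield F) (M : Subgroup (GL (Fin n) F)) (hT : HasRatTv F₀ M) {a : F}
    (ha : a ∈ AA F₀ M) (k : ℕ) : a ^ k ∈ AA F₀ M := by
  induction k with
  | zero =>
    rw [pow_zero]
    exact of_mem F₀ M hT F₀.one_mem
  | succ k ih =>
    rw [pow_succ]
    exact mul_mem hn F₀ M ih ha

theorem inv_mem [Finite F] (hn : 3 ≤ n) (F₀ : Subfield F) (M : Subgroup (GL (Fin n) F))
    (hT : HasRatTv F₀ M) {a : F} (ha : a ∈ AA F₀ M) : a⁻¹ ∈ AA F₀ M := by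
  by_cases ha0 : a = 0
  · rw [ha0, _root_.inv_zero]
    exact zero_mem F₀ M
  · have : Fintype F := Fintype.ofFinite F
    have h1 : a ^ (Fintype.card F - 1) = 1 := FiniteField.pow_card_sub_one_eq_one a ha0
    have hq : 2 ≤ Fintype.card F := Fintype.one_lt_card
    have h2 : a * a ^ (Fintype.card F - 2) = 1 := by
      rw [← pow_succ', ← h1]
      congr 1
      omega
    have h3 : a⁻¹ = a ^ (Fintype.card F - 2) := (eq_inv_of_mul_eq_one_right h2).symm ▸ rfl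
    rw [h3]
    exact pow_mem hn F₀ M hT ha _

end PkA1

theorem aa_subfield [Finite F] (hn : 3 ≤ n) (F₀ : Subfield F) (M : Subgroup (GL (Fin n) F))
    (hT : HasRatTv F₀ M) : ∃ 𝔸 : Subfield F, (𝔸 : Set F) = AA F₀ M ∧ F₀ ≤ 𝔸 := by
  refine ⟨{ carrier := AA F₀ M
            mul_mem' := fun ha hb => PkA1.mul_mem hn F₀ M ha hb
            one_mem' := PkA1.of_mem F₀ M hT F₀.one_mem
            add_mem' := fun ha hb => PkA1.add_mem F₀ M ha hb
            zero_mem' := PkA1.zero_mem F₀ M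
            neg_mem' := fun ha => PkA1.neg_mem F₀ M ha
            inv_mem' := fun _ ha => PkA1.inv_mem hn F₀ M hT ha }, rfl, ?_⟩
  intro a ha
  exact PkA1.of_mem F₀ M hT ha

end Cfsg.Agent.Lib.Helper7.Subf
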