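import Mathlib
import Cfsg.Agent.Lib.Helper7.SubfDefs

set_option autoImplicit false

/-!
# S5639 PK-A4: between `F₀` and `F` (of prime degree) there is no proper intermediate subfield
-/

namespace Cfsg.Agent.Lib.Helper7.Subf

open Module

variable {F : Type*} [Field F]

namespace PkA4

/-- tower law for cardinalities of subfields of a finite field -/
theorem card_tower [Finite F] (F₀ 𝔸 : Subfield F) (h : F₀ ≤ 𝔸) :
    ∃ d e : ℕ, Nat.card 𝔸 = Nat.card F₀ ^ d ∧ Nat.card F = Nat.card 𝔸 ^ e := by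
  let _ : Algebra ↥F₀ ↥𝔸 := (Subfield.inclusion h).toAlgebra
  have : Module.Finite ↥F₀ ↥𝔸 := Module.Finite.of_finite
  have : Module.Finite ↥𝔸 F := Module.Finite.of_finite
  exact ⟨finrank ↥F₀ ↥𝔸, finrank ↥𝔸 F, Module.natCard_eq_pow_finrank, Module.natCard_eq_pow_finrank⟩

theorem eq_of_le_of_card_eq [Finite F] (A B : Subfield F) (h : A ≤ B) (hc : Nat.card B = Nat.card A) :
    B = A := by
  have hs : (A : Set F) = (B : Set F) := by
    apply Set.eq_of_subset_of_ncard_le h _ (Set.toFinite _)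
    have e1 : Nat.card ↥A = (A : Set F).ncard := Nat.card_coe_set_eq (A : Set F)
    have e2 : Nat.card ↥B = (B : Set F).ncard := Nat.card_coe_set_eq (B : Set F)
    rw [← e1, ← e2]
    exact hc.le
  exact (SetLike.coe_injective hs).symm

end PkA4

theorem subfield_eq_or_eq_top [Fintype F] (F₀ 𝔸 : Subfield F) (h : F₀ ≤ 𝔸) (r : ℕ) (hr : r.Prime)
    (hcard : Fintype.card F = Nat.card F₀ ^ r) : 𝔸 = F₀ ∨ 𝔸 = ⊤ := by
  obtain ⟨d, e, hd, he⟩ := PkA4.card_tower F₀ 𝔸 h
  have h2 : 2 ≤ Nat.card F₀ := by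
    have : 1 < Nat.card ↥F₀ := Finite.one_lt_card
    omega
  have hFc : Nat.card F = Nat.card F₀ ^ r := by rw [Nat.card_eq_fintype_card]; exact hcard
  have hde : d * e = r := by
    have : Nat.card F₀ ^ (d * e) = Nat.card F₀ ^ r := by
      rw [pow_mul, ← hd, ← he, hFc]
    exact Nat.pow_right_injective h2 this
  rcases hr.eq_one_or_self_of_dvd d ⟨e, hde.symm⟩ with h1 | h1
  · left
    apply PkA4.eq_of_le_of_card_eq F₀ 𝔸 h
    rw [hd, h1, pow_one]
  · right
    have he1 : e = 1 := by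
      have hr0 := hr.pos
      rw [h1] at hde
      exact (mul_eq_left₀ hr0.ne').1 hde
    have := PkA4.eq_of_le_of_card_eq 𝔸 ⊤ le_top (by
      rw [Nat.card_congr (Subfield.topEquiv (K := F)).toEquiv, he, he1, pow_one])
    exact this.symm

end Cfsg.Agent.Lib.Helper7.Subf
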