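import Mathlib
import Cfsg.Prelude.Def_LieTypeChar
import Cfsg.Agent.Lib.Helper3.SylAbGen
import Cfsg.Agent.Lib.Helper1.SqComm_SU2
set_option autoImplicit false
open Cfsg Cfsg.Agent.Lib.Helper3.SylAb

namespace Cfsg.Agent.Lib.Helper3.SylAb

/-- PK-SU: the Sylow 2-subgroups of `PSU_n(q)`, `q` even, have elementary abelian abelianisation. -/
theorem sqComm_PSU {F : Type*} [Field F] [Fintype F] [CharP F 2] (n q : ℕ) (hq : Fintype.card F = q ^ 2)
    (hn : 3 ≤ n) (hex : ¬ (n = 3 ∧ q = 2)) :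
    SqComm (Cfsg.PSU n F q) := fun P =>
  Cfsg.Agent.Lib.Helper1.SqCommSU.sqComm_PSU hq n (MulEquiv.refl _) P

end Cfsg.Agent.Lib.Helper3.SylAb
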