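import Mathlib
import Cfsg.Agent.Lib.Helper1.Isolated

set_option autoImplicit false
set_option linter.style.haveILetI false

namespace Cfsg.Agent.Lib.Helper1

section SylowCentral

variable {G : Type*} [Group G]

/-- An involution centralizing a Sylow 2-subgroup lies in it. -/
theorem mem_sylow_of_centralizes (P : Sylow 2 G) {t : G} (ht : orderOf t = 2)
    (h : (P : Subgroup G) ≤ Subgroup.centralizer ({t} : Set G)) : t ∈ P := by
  have hZ : IsPGroup 2 (Subgroup.zpowers t) := isPGroup_zpowers_of_orderOf_two ht
  have hle : Subgroup.zpowers t ≤ Subgroup.normalizer ((P : Subgroup G) : Set G) := by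
    rw [Subgroup.zpowers_le, Subgroup.mem_normalizer_iff]
    intro x
    constructor
    · intro hx
      have hc := Subgroup.mem_centralizer_singleton_iff.mp (h hx)
      have : t * x * t⁻¹ = x := by rw [← hc, mul_inv_cancel_right]
      rw [this]; exact hx
    · intro hx
      have hc := Subgroup.mem_centralizer_singleton_iff.mp (h hx)
      -- (t x t⁻¹) t = t (t x t⁻¹) → x = t x t⁻¹
      have : x = t * x * t⁻¹ := by
        have h1 : t * x * t⁻¹ * t = t * (t * x * t⁻¹) := hc
        have h2 : t * x = t * (t * x * t⁻¹) := by
          rw [← h1, inv_mul_cancel_right]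
        exact mul_left_cancel h2
      rw [this]; exact hx
  have hsup := IsPGroup.to_sup_of_normal_right' hZ P.isPGroup' hle
  have := P.is_maximal' hsup le_sup_right
  have hmem : t ∈ Subgroup.zpowers t ⊔ (P : Subgroup G) :=
    Subgroup.mem_sup_left (Subgroup.mem_zpowers t)
  rw [this] at hmem
  exact hmem

end SylowCentral

end Cfsg.Agent.Lib.Helper1
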