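import Mathlib
import Cfsg.Agent.Lib.Helper3.Sz21

/-!
# The field with eight elements, concretely, and its Tits endomorphism
-/

set_option autoImplicit false

namespace Cfsg.Agent.Lib.Helper1.Sz8

open Cfsg.Agent.Lib.Helper3.Sz

/-- the field with eight elements: the polynomials of degree less than 3 over the field with two
elements modulo `z ^ 3 + z + 1`, coded by their coefficients -/
def F8 : Type := Fin 8

instance : DecidableEq F8 := inferInstanceAs (DecidableEq (Fin 8))

instance : Fintype F8 := inferInstanceAs (Fintype (Fin 8))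

namespace F8

/-- the element with a given code -/
def ofNat (n : ℕ) : F8 := (Fin.ofNat 8 n : Fin 8)

/-- the code of an element -/
def val (x : F8) : ℕ := Fin.val (show Fin 8 from x)

/-- the multiplication table -/
def mulTab : List ℕ :=
  [0, 0, 0, 0, 0, 0, 0, 0, 0, 1, 2, 3, 4, 5, 6, 7, 0, 2, 4, 6, 3, 1, 7, 5, 0, 3, 6, 5, 7, 4, 1, 2,
   0, 4, 3, 7, 6, 2, 5, 1, 0, 5, 1, 4, 2, 7, 3, 6, 0, 6, 7, 1, 5, 3, 2, 4, 0, 7, 5, 2, 1, 6, 4, 3]

/-- the table of inverses -/
def invTab : List ℕ := [0, 1, 5, 6, 7, 2, 3, 4]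

instance : Zero F8 := ⟨ofNat 0⟩
instance : One F8 := ⟨ofNat 1⟩
instance : Add F8 := ⟨fun x y => ofNat (x.val ^^^ y.val)⟩
instance : Mul F8 := ⟨fun x y => ofNat (mulTab.getD (8 * x.val + y.val) 0)⟩
instance : Neg F8 := ⟨id⟩
instance : Inv F8 := ⟨fun x => ofNat (invTab.getD x.val 0)⟩

instance : Field F8 where
  add_assoc := by decide
  zero_add := by decide
  add_zero := by decide
  add_comm := by decide
  neg_add_cancel := by decide
  mul_assoc := by decide
  one_mul := by decide
  mul_one := by decide
  left_distrib := by decide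
  right_distrib := by decide
  zero_mul := by decide
  mul_zero := by decide
  mul_comm := by decide
  exists_pair_ne := ⟨0, 1, by decide⟩
  mul_inv_cancel := by decide
  inv_zero := rfl
  nsmul := nsmulRec
  zsmul := zsmulRec
  qsmul := _
  nnqsmul := _

theorem card : Fintype.card F8 = 2 ^ (2 * 1 + 1) := rfl

instance : CharP F8 2 := charP_two_of_card (n := 3) rfl

/-- the generator -/
def ζ : F8 := ofNat 2

theorem ζ_root : ζ ^ 3 + ζ + 1 = 0 := by decide

end F8

/-- the Tits endomorphism `x ↦ x ^ 4` -/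
noncomputable def T8 : Tits F8 := titsOfCard F8.card

theorem T8_apply (x : F8) : T8.θ x = x ^ 4 := titsOfCard_apply F8.card x

theorem T8_isPow : T8.IsPow := titsOfCard_isPow le_rfl F8.card

end Cfsg.Agent.Lib.Helper1.Sz8
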