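import Mathlib
import Cfsg.Prelude.Def_Sz

/-!
# The Suzuki groups over isomorphic fields are isomorphic
-/

set_option autoImplicit false

namespace Cfsg.Agent.Lib.Helper1.Sz8

open Matrix Cfsg.Lie

variable {F F' : Type*} [Field F] [Field F']

/-- the isomorphism of general linear groups induced by an isomorphism of fields -/
def glCongr (φ : F ≃+* F') : GL (Fin 4) F ≃* GL (Fin 4) F' :=
  Units.mapEquiv (RingEquiv.mapMatrix φ).toMulEquiv

theorem coe_glCongr (φ : F ≃+* F') (g : GL (Fin 4) F) :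
    ((glCongr φ g : GL (Fin 4) F') : Matrix (Fin 4) (Fin 4) F') =
      (g : Matrix (Fin 4) (Fin 4) F).map φ := rfl

theorem glCongr_symm_apply (φ : F ≃+* F') (g : GL (Fin 4) F') :
    glCongr φ (glCongr φ.symm g) = g := by
  apply Units.ext
  rw [coe_glCongr, coe_glCongr]
  ext i j
  simp

theorem altForm4_comp (φ : F ≃+* F') (a b : Fin 4 → F) :
    altForm4 (φ ∘ a) (φ ∘ b) = φ (altForm4 a b) := by
  simp [altForm4]

theorem glCongr_mem_Sp4 (φ : F ≃+* F') (g : GL (Fin 4) F) (hg : g ∈ Sp4 F) :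
    glCongr φ g ∈ Sp4 F' := by
  intro u' v'
  have hu : u' = φ ∘ (φ.symm ∘ u') := by ext i; simp
  have hv : v' = φ ∘ (φ.symm ∘ v') := by ext i; simp
  have key : ∀ w : Fin 4 → F, (Units.coeHom (Matrix (Fin 4) (Fin 4) F') (glCongr φ g)) *ᵥ (φ ∘ w) =
      φ ∘ ((Units.coeHom (Matrix (Fin 4) (Fin 4) F) g) *ᵥ w) := by
    intro w
    ext i
    exact (RingHom.map_mulVec (φ : F →+* F') (g : Matrix (Fin 4) (Fin 4) F) w i).symm
  rw [hu, hv, key, key, altForm4_comp, altForm4_comp]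
  exact congrArg φ (hg _ _)

theorem star4_map (φ : F ≃+* F') (A : Matrix (Fin 4) (Fin 4) F) :
    star4 (A.map φ) = (star4 A).map φ := by
  ext p r
  simp [star4]

theorem glCongr_mem_set (φ : F ≃+* F') (e : ℕ) (g : GL (Fin 4) F)
    (hg : g ∈ Sp4 F ∧ star4 (g : Matrix (Fin 4) (Fin 4) F) =
      (g : Matrix (Fin 4) (Fin 4) F).map (fun x => x ^ e)) :
    glCongr φ g ∈ Sp4 F' ∧ star4 ((glCongr φ g : GL (Fin 4) F') : Matrix (Fin 4) (Fin 4) F') =
      ((glCongr φ g : GL (Fin 4) F') : Matrix (Fin 4) (Fin 4) F').map (fun x => x ^ e) := by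
  refine ⟨glCongr_mem_Sp4 φ g hg.1, ?_⟩
  rw [coe_glCongr, star4_map, hg.2]
  ext i j
  simp

theorem map_Sz (φ : F ≃+* F') (e : ℕ) :
    (Sz F e).map (glCongr φ).toMonoidHom = Sz F' e := by
  unfold Sz
  rw [MonoidHom.map_closure]
  congr 1
  ext g'
  constructor
  · rintro ⟨g, hg, rfl⟩
    exact glCongr_mem_set φ e g hg
  · intro hg'
    exact ⟨glCongr φ.symm g', glCongr_mem_set φ.symm e g' hg', glCongr_symm_apply φ g'⟩

/-- the Suzuki groups over isomorphic fields are isomorphic -/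
noncomputable def szCongr (φ : F ≃+* F') (e : ℕ) : ↥(Sz F e) ≃* ↥(Sz F' e) :=
  (MulEquiv.subgroupMap (glCongr φ) (Sz F e)).trans (MulEquiv.subgroupCongr (map_Sz φ e))

end Cfsg.Agent.Lib.Helper1.Sz8
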