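import Mathlib
import Cfsg.Agent.Lib.Helper1.Sz8A

/-!
# The group `Sz(8)` acting on the 65 points of the ovoid, with coded points
-/

set_option autoImplicit false

namespace Cfsg.Agent.Lib.Helper1.Sz8

open Cfsg.Agent.Lib.Helper3.Sz Equiv

/-- the code of a point of the ovoid -/
def enc : Option (F8 × F8) → Fin 65
  | none => Fin.ofNat 65 64
  | some (x, y) => Fin.ofNat 65 (8 * x.val + y.val)

/-- the point with a given code -/
def dec (i : Fin 65) : Option (F8 × F8) :=
  if i.val = 64 then none else some (F8.ofNat (i.val / 8), F8.ofNat (i.val % 8))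

theorem dec_enc : ∀ p, dec (enc p) = p := by decide

theorem enc_dec : ∀ i, enc (dec i) = i := by decide

/-- the coding of the parameters of the points -/
def encEquiv : Option (F8 × F8) ≃ Fin 65 := ⟨enc, dec, dec_enc, enc_dec⟩

/-- the coding of the points -/
noncomputable def ptE : Fin 65 ≃ ovoid T8 :=
  encEquiv.symm.trans (Equiv.ofBijective _ (ovoidParam_bijective T8))

theorem ptE_apply (i : Fin 65) : ptE i = ovoidParam T8 (dec i) := rfl

theorem ptE_symm_param (p : Option (F8 × F8)) : ptE.symm (ovoidParam T8 p) = enc p := by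
  rw [Equiv.symm_apply_eq, ptE_apply, dec_enc]

/-- the action on the coded points -/
noncomputable def φ : ↥(Gam T8) →* Perm (Fin 65) :=
  (ptE.symm.permCongrHom : Perm (ovoid T8) ≃* Perm (Fin 65)).toMonoidHom.comp
    (MulAction.toPermHom ↥(Gam T8) (ovoid T8))

theorem φ_apply (g : ↥(Gam T8)) (i : Fin 65) : φ g i = ptE.symm (g • ptE i) := rfl

theorem φ_injective : Function.Injective φ := by
  haveI := faithful T8 T8_isPow
  intro g g' h
  apply FaithfulSMul.eq_of_smul_eq_smul (α := ovoid T8)
  intro p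
  have := congrArg (fun f : Perm (Fin 65) => f (ptE.symm p)) h
  simp only [φ_apply, Equiv.apply_symm_apply] at this
  exact ptE.symm.injective this

/-- a function on the parameters, on the codes -/
def fN (f : Option (F8 × F8) → Option (F8 × F8)) (i : Fin 65) : Fin 65 := enc (f (dec i))

theorem φ_of_param (g : ↥(Gam T8)) (f : Option (F8 × F8) → Option (F8 × F8))
    (h : ∀ p, g • ovoidParam T8 p = ovoidParam T8 (f p)) (i : Fin 65) : φ g i = fN f i := by
  rw [φ_apply, ptE_apply, h, ptE_symm_param]
  rfl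

/-- the unipotent elements on the parameters -/
def uO (a b : F8) : Option (F8 × F8) → Option (F8 × F8)
  | none => none
  | some (x, y) => some (x + a, y + a ^ 4 * x + b)

/-- the diagonal elements on the parameters -/
def hO (k : F8) : Option (F8 × F8) → Option (F8 × F8)
  | none => none
  | some (x, y) => some (k ^ 2 * x, (k ^ 4) ^ 2 * k ^ 2 * y)

/-- the function `f` of the ovoid -/
def fO (x y : F8) : F8 := x * y + x ^ 4 * x ^ 2 + y ^ 4

/-- the involution on the parameters -/
def tO : Option (F8 × F8) → Option (F8 × F8)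
  | none => some (0, 0)
  | some (x, y) => if fO x y = 0 then none else some (y / fO x y, x / fO x y)

theorem fO_eq (x y : F8) : T8.f x y = fO x y := by
  unfold Tits.f fO
  rw [T8_apply, T8_apply]

theorem uG_param (a b : F8) (p : Option (F8 × F8)) :
    uG T8 a b • ovoidParam T8 p = ovoidParam T8 (uO a b p) := by
  rcases p with _ | ⟨x, y⟩
  · exact uG_smul_oInf T8 a b
  · show uG T8 a b • oPt T8 x y = oPt T8 (x + a) (y + a ^ 4 * x + b)
    rw [uG_smul_oPt, T8_apply]

theorem hG_param (k : F8ˣ) (p : Option (F8 × F8)) :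
    hG T8 k • ovoidParam T8 p = ovoidParam T8 (hO (k : F8) p) := by
  rcases p with _ | ⟨x, y⟩
  · exact hG_smul_oInf T8 k
  · show hG T8 k • oPt T8 x y = oPt T8 ((k : F8) ^ 2 * x) (((k : F8) ^ 4) ^ 2 * (k : F8) ^ 2 * y)
    rw [hG_smul_oPt, T8_apply]

theorem tG_param (p : Option (F8 × F8)) :
    tG T8 • ovoidParam T8 p = ovoidParam T8 (tO p) := by
  rcases p with _ | ⟨x, y⟩
  · exact tG_smul_oInf T8
  · by_cases h : fO x y = 0
    · have h' : T8.f x y = 0 := by rw [fO_eq, h]
      obtain ⟨rfl, rfl⟩ := (T8.f_eq_zero_iff).mp h'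
      show tG T8 • oPt T8 0 0 = ovoidParam T8 (tO (some (0, 0)))
      rw [tG_smul_oPt_zero]
      have : tO (some ((0 : F8), (0 : F8))) = none := by decide
      rw [this]
      rfl
    · have h' : T8.f x y ≠ 0 := by rw [fO_eq]; exact h
      show tG T8 • oPt T8 x y = ovoidParam T8 (tO (some (x, y)))
      have e : tO (some (x, y)) = some (y / fO x y, x / fO x y) := by
        show (if fO x y = 0 then none else some (y / fO x y, x / fO x y)) = _
        rw [if_neg h]
      rw [e]
      show tG T8 • oPt T8 x y = oPt T8 (y / fO x y) (x / fO x y)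
      rw [← fO_eq]
      exact Subtype.ext (tS_smul_pt T8 h')

theorem φ_uG (a b : F8) (i : Fin 65) : φ (uG T8 a b) i = fN (uO a b) i :=
  φ_of_param _ _ (uG_param a b) i

theorem φ_hG (k : F8ˣ) (i : Fin 65) : φ (hG T8 k) i = fN (hO (k : F8)) i :=
  φ_of_param _ _ (hG_param k) i

theorem φ_tG (i : Fin 65) : φ (tG T8) i = fN tO i :=
  φ_of_param _ _ tG_param i

/-- the order of the group -/
theorem card_Gam8 : Nat.card ↥(Gam T8) = 29120 := by
  rw [card_Gam T8 T8_isPow]
  have : Nat.card F8 = 8 := by rw [Nat.card_eq_fintype_card]; rfl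
  rw [this]
  norm_num

instance finite_Gam8 : Finite ↥(Gam T8) :=
  Nat.finite_of_card_ne_zero (by rw [card_Gam8]; norm_num)

instance simple_Gam8 : IsSimpleGroup ↥(Gam T8) := isSimpleGroup_Gam T8 T8_isPow

theorem commutator_Gam8 : commutator ↥(Gam T8) = ⊤ := perfect T8 T8_isPow

end Cfsg.Agent.Lib.Helper1.Sz8
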