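import Cfsg.Agent.Lib.Helper1.Sz8E
import Cfsg.Agent.Lib.Helper1.Sz8CAD
import Cfsg.Agent.Lib.Helper1.StemLL7
import Cfsg.Agent.Lib.Helper1.StemLL8

/-!
# A stem extension of the group `Sz(8)` with a kernel of order 2
-/

set_option autoImplicit false
set_option maxRecDepth 100000

namespace Cfsg.Agent.Lib.Helper1.Sz8CA

open Cfsg Cfsg.Agent.Lib.Helper1 Cfsg.Agent.Lib.Helper1.MatCode MulAction
open Cfsg.Agent.Lib.Helper3.Sz (Gam)
open Cfsg.Agent.Lib.Helper1.Sz8 (T8 tA tB gA gB GG hgen mset smul_mset mset_inj imgMask φ_GG)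
open Cfsg.Agent.Lib.Helper1.StemLL

open scoped Pointwise

theorem L_range : L.chkRange = true := by decide +kernel

theorem L_sorted : L.chkSorted = true := by decide +kernel

theorem L_liftH : L.chkLiftH hintF = true := by decide +kernel

theorem L_tree : L.chkTree = true := by decide +kernel

theorem L_wit : L.chkWit = true := by decide +kernel

theorem L_chk : L.chk = true := by
  unfold LLData.chk
  rw [LLData.chkLift_of_hint hintF L_range L_sorted L_liftH, L_range, L_tree, L_wit]
  decide

theorem pl_inc : (List.range 519).all (fun j => decide (PL j < PL (j + 1))) = true := by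
  decide +kernel

theorem act_ok : (List.range 2).all (fun i => (List.range 520).all (fun j =>
    imgMask (fun x => ([tA, tB].getD i []).getD x 0) (PL j) == PL (L.pi i j))) = true := by
  decide +kernel

/-- the points -/
def raw (j : ℕ) : Finset (Fin 65) := mset (PL j)

theorem PL_lt (j : ℕ) : PL j < 2 ^ 65 := Nat.mod_lt _ (by norm_num)

theorem PL_mono (j j' : ℕ) (h : j < j') (hj' : j' < 520) : PL j < PL j' := by
  induction j' with
  | zero => omega
  | succ n ih =>
    have h1 := pl_inc
    rw [List.all_eq_true] at h1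
    have h2 := h1 n (List.mem_range.mpr (by omega))
    rw [decide_eq_true_eq] at h2
    by_cases hjn : j = n
    · subst hjn; exact h2
    · exact lt_trans (ih (by omega) (by omega)) h2

theorem rawHyp : RawHyp L raw GG where
  range := L_range
  pos := by decide
  act := by
    intro i hi j hj
    have hi' : i < 2 := hi
    have hj' : j < 520 := hj
    have h := act_ok
    rw [List.all_eq_true] at h
    have h1 := h i (List.mem_range.mpr hi')
    rw [List.all_eq_true] at h1
    have h2 := h1 j (List.mem_range.mpr hj')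
    rw [beq_iff_eq] at h2
    unfold raw
    rw [smul_mset (GG.getD i 1) (fun x => ([tA, tB].getD i []).getD x 0) (φ_GG i hi') (PL j), h2]
  gen := hgen
  inj := by
    intro j hj j' hj' h
    have h0 := mset_inj (PL_lt j) (PL_lt j') h
    by_contra hne
    rcases Nat.lt_or_gt_of_ne hne with hlt | hlt
    · exact absurd h0 (Nat.ne_of_lt (PL_mono j j' hlt hj'))
    · exact absurd h0.symm (Nat.ne_of_lt (PL_mono j' j hlt hj))
  move := ⟨mvI, by decide, mvJ, by decide, by decide +kernel⟩

instance : NeZero L.c := ⟨by decide⟩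

/-- the hypotheses of the labelled lifts -/
theorem hyp : LLHyp L (ptSub rawHyp) GG := sub_hyp rawHyp

/-- the cover -/
theorem cover : Cfsg.IsStemExtension (sig ↥(Gam T8) L.c (EY L (ptSub rawHyp)) (rhoY L (ptSub rawHyp))) ∧
    IsCyclic (sig ↥(Gam T8) L.c (EY L (ptSub rawHyp)) (rhoY L (ptSub rawHyp))).ker ∧
    Nat.card (sig ↥(Gam T8) L.c (EY L (ptSub rawHyp)) (rhoY L (ptSub rawHyp))).ker = 2 :=
  stem_of_data L (ptSub rawHyp) GG hyp L_chk

end Cfsg.Agent.Lib.Helper1.Sz8CA
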