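import Mathlib
import Cfsg.Agent.Lib.Helper1.Sz8C
import Cfsg.Agent.Lib.Helper1.Sz8Dat
import Cfsg.Agent.Lib.Helper1.MatCode3

/-!
# The group `Sz(8)`: two generators, their tables on the 65 points, and words
-/

set_option autoImplicit false
set_option maxRecDepth 100000

namespace Cfsg.Agent.Lib.Helper1.Sz8

open Cfsg.Agent.Lib.Helper3.Sz Equiv Cfsg.Agent.Lib.Helper1.MatCode

/-- the generator of the multiplicative group of the field -/
def ζu : F8ˣ := Units.mk0 F8.ζ (by decide)

/-- the generator of order 13 -/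
noncomputable def gA : ↥(Gam T8) := uG T8 0 (F8.ofNat 3) * tG T8

/-- the generator of order 7 -/
noncomputable def gB : ↥(Gam T8) := hG T8 ζu

/-- the generators -/
noncomputable abbrev GG : List ↥(Gam T8) := [gA, gB]

theorem tabA_chk : ∀ x : Fin 65, (fN (uO 0 (F8.ofNat 3)) (fN tO x)).val = tA.getD x.val 0 := by
  decide

theorem tabB_chk : ∀ x : Fin 65, (fN (hO F8.ζ) x).val = tB.getD x.val 0 := by decide

theorem φ_gA (x : Fin 65) : (φ gA x).val = tA.getD x.val 0 := by
  rw [gA, map_mul, Perm.mul_apply, φ_uG, φ_tG]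
  exact tabA_chk x

theorem φ_gB (x : Fin 65) : (φ gB x).val = tB.getD x.val 0 := by
  rw [gB, φ_hG]
  exact tabB_chk x

/-- the action of a word on a point, on the tables -/
def wordTab (w : List ℕ) (x : ℕ) : ℕ :=
  w.foldr (fun i x => ([tA, tB].getD i []).getD x 0) x

theorem φ_GG (i : ℕ) (hi : i < 2) (x : Fin 65) :
    (φ (GG.getD i 1) x).val = ([tA, tB].getD i []).getD x.val 0 := by
  interval_cases i
  · exact φ_gA x
  · exact φ_gB x

theorem φ_wordProd (w : List ℕ) (hw : ∀ i ∈ w, i < 2) (x : Fin 65) :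
    (φ (wordProd GG w) x).val = wordTab w x.val := by
  induction w with
  | nil => simp [wordProd_nil, wordTab]
  | cons i w ih =>
    rw [wordProd_cons, map_mul, Perm.mul_apply, φ_GG i (hw i (by simp))]
    rw [ih (fun i' hi' => hw i' (by simp [hi']))]
    rfl

/-- the boolean comparison of two words -/
def wordBeq (w w' : List ℕ) : Bool :=
  (w.all fun i => decide (i < 2)) && (w'.all fun i => decide (i < 2)) &&
    (List.range 65).all fun x => wordTab w x == wordTab w' x

theorem eq_of_wordBeq (w w' : List ℕ) (h : wordBeq w w' = true) :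
    wordProd GG w = wordProd GG w' := by
  unfold wordBeq at h
  simp only [Bool.and_eq_true, List.all_eq_true, decide_eq_true_eq, beq_iff_eq, List.mem_range]
    at h
  obtain ⟨⟨h1, h2⟩, h3⟩ := h
  apply φ_injective
  apply Equiv.ext
  intro x
  apply Fin.ext
  rw [φ_wordProd w h1, φ_wordProd w' h2]
  exact h3 x.val x.isLt

theorem wordProd_replicate {Γ : Type*} [Group Γ] (G : List Γ) (i n : ℕ) :
    wordProd G (List.replicate n i) = (G.getD i 1) ^ n := by
  induction n with
  | zero => simp [wordProd_nil]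
  | succ n ih => rw [List.replicate_succ, wordProd_cons, ih, pow_succ']

theorem gA_pow : gA ^ 13 = 1 := by
  have h := eq_of_wordBeq (List.replicate 13 0) [] (by decide +kernel)
  rwa [wordProd_replicate, wordProd_nil] at h

theorem gB_pow : gB ^ 7 = 1 := by
  have h := eq_of_wordBeq (List.replicate 7 1) [] (by decide +kernel)
  rwa [wordProd_replicate, wordProd_nil] at h

theorem hrel : ∀ w ∈ D.rels, wordProd GG w.1 = wordProd GG w.2 := by
  have h : D.rels.all (fun w => wordBeq w.1 w.2) = true := by decide +kernel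
  rw [List.all_eq_true] at h
  intro w hw
  exact eq_of_wordBeq _ _ (h w hw)

/-- the unipotent element as a word -/
theorem uG_eq_word : uG T8 1 0 = wordProd GG wU := by
  apply φ_injective
  apply Equiv.ext
  intro x
  apply Fin.ext
  rw [φ_uG, φ_wordProd wU (by decide)]
  revert x
  decide

theorem units_eq_pow (l : F8ˣ) : ∃ j : ℕ, l = ζu ^ j := by
  have h : ∀ x : F8, x ≠ 0 → ∃ j < 7, x = F8.ζ ^ j := by decide
  obtain ⟨j, _, hj⟩ := h (l : F8) l.ne_zero
  exact ⟨j, Units.ext (by rw [Units.val_pow_eq_pow_val]; exact hj)⟩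

/-- the two elements generate the group -/
theorem closure_GG : Subgroup.closure ({gA, gB} : Set ↥(Gam T8)) = ⊤ := by
  set L := Subgroup.closure ({gA, gB} : Set ↥(Gam T8)) with hL
  have ha : gA ∈ L := Subgroup.subset_closure (by simp)
  have hb : gB ∈ L := Subgroup.subset_closure (by simp)
  have hword : ∀ w : List ℕ, wordProd GG w ∈ L := by
    intro w
    induction w with
    | nil => rw [wordProd_nil]; exact L.one_mem
    | cons i w ih =>
      rw [wordProd_cons]
      apply L.mul_mem _ ih
      match i with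
      | 0 => exact ha
      | 1 => exact hb
      | (i + 2) => simp [L.one_mem]
  have hH : ∀ l : F8ˣ, hG T8 l ∈ L := by
    intro l
    obtain ⟨j, rfl⟩ := units_eq_pow l
    have : hG T8 (ζu ^ j) = gB ^ j := map_pow (torusHom T8) ζu j
    rw [this]
    exact L.pow_mem hb j
  have hu : uG T8 1 0 ∈ L := by rw [uG_eq_word]; exact hword _
  have hU := Usub_le_of_torus T8 L hH one_ne_zero hu
  apply eq_top_of_Usub_le T8 T8_isPow L hU
  intro hle
  have h1 : gA • oInf T8 = oInf T8 := hle ha
  rw [gA, mul_smul, tG_smul_oInf, uG_smul_oPt_zero] at h1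
  exact oPt_ne_oInf T8 _ _ h1

end Cfsg.Agent.Lib.Helper1.Sz8
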