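import Mathlib
import Cfsg.Agent.Lib.Helper1.Sz8D
import Cfsg.Agent.Lib.Helper1.StemZB4

/-!
# The group `Sz(8)` acting on sets of points of the ovoid
-/

set_option autoImplicit false
set_option maxRecDepth 100000

namespace Cfsg.Agent.Lib.Helper1.Sz8

open Cfsg.Agent.Lib.Helper3.Sz Equiv Cfsg.Agent.Lib.Helper1.MatCode Cfsg.Agent.Lib.Helper1.StemSA

open scoped Pointwise

/-- the action on the sets of points -/
noncomputable instance actFin : MulAction ↥(Gam T8) (Finset (Fin 65)) :=
  MulAction.compHom (Finset (Fin 65)) φ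

theorem smul_eq_φ (g : ↥(Gam T8)) (S : Finset (Fin 65)) : g • S = φ g • S := rfl

/-- the set of points with a given bit mask -/
def mset (M : ℕ) : Finset (Fin 65) := Finset.univ.filter fun i => M.testBit i.val = true

theorem mem_mset (M : ℕ) (i : Fin 65) : i ∈ mset M ↔ M.testBit i.val = true := by
  unfold mset
  rw [Finset.mem_filter]
  exact ⟨fun h => h.2, fun h => ⟨Finset.mem_univ _, h⟩⟩

theorem mset_inj {M M' : ℕ} (hM : M < 2 ^ 65) (hM' : M' < 2 ^ 65) (h : mset M = mset M') :
    M = M' := by
  apply Nat.eq_of_testBit_eq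
  intro i
  by_cases hi : i < 65
  · have h1 := mem_mset M ⟨i, hi⟩
    have h2 := mem_mset M' ⟨i, hi⟩
    rw [h] at h1
    have h3 : M.testBit i = true ↔ M'.testBit i = true := h1.symm.trans h2
    cases hb : M.testBit i <;> cases hb' : M'.testBit i <;> simp_all
  · have e1 : M.testBit i = false :=
      Nat.testBit_lt_two_pow (lt_of_lt_of_le hM (Nat.pow_le_pow_right (by norm_num) (by omega)))
    have e2 : M'.testBit i = false :=
      Nat.testBit_lt_two_pow (lt_of_lt_of_le hM' (Nat.pow_le_pow_right (by norm_num) (by omega)))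
    rw [e1, e2]

/-- the image of a bit mask under a function on the points -/
def imgMask (f : ℕ → ℕ) (M : ℕ) : ℕ :=
  (List.range 65).foldl (fun r i => if M.testBit i = true then r ||| 2 ^ f i else r) 0

theorem testBit_foldl (f : ℕ → ℕ) (M : ℕ) (l : List ℕ) (r j : ℕ) :
    (l.foldl (fun r i => if M.testBit i = true then r ||| 2 ^ f i else r) r).testBit j = true ↔
      (r.testBit j = true ∨ ∃ i ∈ l, M.testBit i = true ∧ f i = j) := by
  induction l generalizing r with
  | nil => simp
  | cons b l ih =>
    rw [List.foldl_cons, ih]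
    by_cases ha : M.testBit b = true
    · rw [if_pos ha, Nat.testBit_or, Nat.testBit_two_pow]
      simp only [Bool.or_eq_true, decide_eq_true_eq, List.mem_cons, exists_eq_or_imp]
      constructor
      · rintro ((h | h) | h)
        · exact Or.inl h
        · exact Or.inr (Or.inl ⟨ha, h⟩)
        · exact Or.inr (Or.inr h)
      · rintro (h | ⟨_, h⟩ | h)
        · exact Or.inl (Or.inl h)
        · exact Or.inl (Or.inr h)
        · exact Or.inr h
    · rw [if_neg ha]
      simp only [List.mem_cons, exists_eq_or_imp]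
      constructor
      · rintro (h | h)
        · exact Or.inl h
        · exact Or.inr (Or.inr h)
      · rintro (h | ⟨h, _⟩ | h)
        · exact Or.inl h
        · exact absurd h ha
        · exact Or.inr h

theorem testBit_imgMask (f : ℕ → ℕ) (M j : ℕ) :
    (imgMask f M).testBit j = true ↔ ∃ i < 65, M.testBit i = true ∧ f i = j := by
  unfold imgMask
  rw [testBit_foldl]
  simp only [Nat.zero_testBit, Bool.false_eq_true, false_or, List.mem_range]

/-- the action of an element, given by a function on the codes of the points, on the sets -/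
theorem smul_mset (g : ↥(Gam T8)) (f : ℕ → ℕ) (hf : ∀ x : Fin 65, (φ g x).val = f x.val)
    (M : ℕ) : g • mset M = mset (imgMask f M) := by
  ext j
  rw [smul_eq_φ, Finset.mem_smul_finset, mem_mset, testBit_imgMask]
  constructor
  · rintro ⟨y, hy, rfl⟩
    rw [mem_mset] at hy
    exact ⟨y.val, y.isLt, hy, by rw [Perm.smul_def, hf]⟩
  · rintro ⟨i, hi, hM, hfi⟩
    refine ⟨⟨i, hi⟩, (mem_mset _ _).mpr hM, ?_⟩
    apply Fin.ext
    rw [Perm.smul_def, hf]
    exact hfi

/-- the points of the action on the 560 sets -/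
def pt (j : ℕ) : Finset (Fin 65) := mset (PL j)

theorem PL_lt (j : ℕ) : PL j < 2 ^ 65 := Nat.mod_lt _ (by norm_num)

theorem chk_struct : D.chkStruct = true := by decide +kernel

theorem chk_cert : StemZD.chkCertD D C = true := by decide +kernel

theorem act_ok : (List.range 2).all (fun i => (List.range 560).all (fun j =>
    imgMask (fun x => ([tA, tB].getD i []).getD x 0) (PL j) == PL (D.pi i j))) = true := by
  decide +kernel

theorem pi_act (i : ℕ) (hi : i < D.k) (j : ℕ) (hj : j < D.m) :
    GG.getD i 1 • pt j = pt (D.pi i j) := by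
  have hi' : i < 2 := hi
  have hj' : j < 560 := hj
  have h := act_ok
  rw [List.all_eq_true] at h
  have h1 := h i (List.mem_range.mpr hi')
  rw [List.all_eq_true] at h1
  have h2 := h1 j (List.mem_range.mpr hj')
  rw [beq_iff_eq] at h2
  unfold pt
  rw [smul_mset (GG.getD i 1) (fun x => ([tA, tB].getD i []).getD x 0) (φ_GG i hi') (PL j), h2]

theorem distinct_ok : (List.range 560).all (fun j => (List.range j).all (fun j' =>
    PL j' != PL j)) = true := by
  decide +kernel

theorem pt_inj (j : ℕ) (hj : j < 560) (j' : ℕ) (hj' : j' < 560) (h : pt j = pt j') : j = j' := by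
  have h0 := mset_inj (PL_lt j) (PL_lt j') h
  have hd := distinct_ok
  rw [List.all_eq_true] at hd
  by_contra hne
  rcases Nat.lt_or_gt_of_ne hne with hlt | hlt
  · have h1 := hd j' (List.mem_range.mpr hj')
    rw [List.all_eq_true] at h1
    have h2 := h1 j (List.mem_range.mpr hlt)
    rw [bne_iff_ne] at h2
    exact h2 h0
  · have h1 := hd j (List.mem_range.mpr hj)
    rw [List.all_eq_true] at h1
    have h2 := h1 j' (List.mem_range.mpr hlt)
    rw [bne_iff_ne] at h2
    exact h2 h0.symm

theorem pt_zero (j : ℕ) (hj : j < D.m) (h : pt j = pt 0) : j = 0 :=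
  pt_inj j hj 0 (by decide) h

theorem hgen : Subgroup.closure {g | ∃ i < D.k, g = GG.getD i 1} = ⊤ := by
  rw [eq_top_iff, ← closure_GG]
  apply Subgroup.closure_mono
  intro g hg
  simp only [Set.mem_insert_iff, Set.mem_singleton_iff] at hg
  rcases hg with rfl | rfl
  · exact ⟨0, by decide, rfl⟩
  · exact ⟨1, by decide, rfl⟩

theorem hodd (i : ℕ) (hi : i < D.k) :
    Odd (D.ords.getD i 0) ∧ (GG.getD i 1) ^ (D.ords.getD i 0) = 1 := by
  have hi' : i < 2 := hi
  interval_cases i
  · exact ⟨by decide, gA_pow⟩
  · exact ⟨by decide, gB_pow⟩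

end Cfsg.Agent.Lib.Helper1.Sz8
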