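import Mathlib
import Cfsg.Agent.Lib.Helper1.Sz8E
import Cfsg.Agent.Lib.Helper1.StemZD6
import Cfsg.Agent.Lib.Helper1.SylowChain

/-!
# The stem extensions of the group `Sz(8)` with kernel a 2-group
-/

set_option autoImplicit false
set_option maxRecDepth 100000

namespace Cfsg.Agent.Lib.Helper1.Sz8

open Cfsg.Agent.Lib.Helper3.Sz Equiv Cfsg.Agent.Lib.Helper1.MatCode Cfsg.Agent.Lib.Helper1.StemSA
  Cfsg.Agent.Lib.Helper1.SylowChain

open scoped Pointwise

universe u

/-- the stabilizer of the first set -/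
noncomputable abbrev K : Subgroup ↥(Gam T8) := MulAction.stabilizer ↥(Gam T8) (pt 0)

/-- every element of the group permutes the 560 sets -/
theorem smul_pt (g : ↥(Gam T8)) (j : ℕ) (hj : j < 560) : ∃ j' < 560, g • pt j = pt j' := by
  let S : Subgroup ↥(Gam T8) :=
    { carrier := {g | ∀ j < 560, ∃ j' < 560, g • pt j = pt j'}
      one_mem' := fun j hj => ⟨j, hj, one_smul _ _⟩
      mul_mem' := by
        intro g h hg hh j hj
        obtain ⟨j', hj', h1⟩ := hh j hj
        obtain ⟨j'', hj'', h2⟩ := hg j' hj'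
        exact ⟨j'', hj'', by rw [mul_smul, h1, h2]⟩
      inv_mem' := by
        intro g hg
        have hpow : ∀ n : ℕ, ∀ j < 560, ∃ j' < 560, g ^ n • pt j = pt j' := by
          intro n
          induction n with
          | zero => exact fun j hj => ⟨j, hj, by rw [pow_zero, one_smul]⟩
          | succ n ih =>
            intro j hj
            obtain ⟨j', hj', h1⟩ := ih j hj
            obtain ⟨j'', hj'', h2⟩ := hg j' hj'
            exact ⟨j'', hj'', by rw [pow_succ', mul_smul, h1, h2]⟩
        have hinv : g⁻¹ = g ^ (orderOf g - 1) := by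
          apply inv_eq_of_mul_eq_one_right
          rw [← pow_succ', Nat.sub_add_cancel (orderOf_pos g), pow_orderOf_eq_one]
        show ∀ j < 560, _
        rw [hinv]
        exact hpow _ }
  have h1 : Subgroup.closure {g | ∃ i < D.k, g = GG.getD i 1} ≤ S := by
    rw [Subgroup.closure_le]
    rintro g ⟨i, hi, rfl⟩ j hj
    exact ⟨D.pi i j, pi_lt D chk_struct i j hi hj, pi_act i hi j hj⟩
  rw [hgen] at h1
  exact h1 (Subgroup.mem_top g) j hj

theorem orbit_eq : MulAction.orbit ↥(Gam T8) (pt 0) = ↑((Finset.range 560).image pt) := by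
  ext y
  rw [Finset.mem_coe, Finset.mem_image]
  constructor
  · rintro ⟨g, rfl⟩
    obtain ⟨j', hj', h⟩ := smul_pt g 0 (by norm_num)
    exact ⟨j', Finset.mem_range.mpr hj', h.symm⟩
  · rintro ⟨j, hj, rfl⟩
    obtain ⟨h, _, hact⟩ := StemZB.exists_mem_closure_smul D chk_struct pt GG pi_act j
      (Finset.mem_range.mp hj)
    exact ⟨h, hact⟩

theorem card_K : Nat.card ↥K = 52 := by
  have h3 : ((Finset.range 560).image pt).card = 560 := by
    rw [Finset.card_image_of_injOn, Finset.card_range]
    intro j hj j' hj' h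
    exact pt_inj j (Finset.mem_range.mp hj) j' (Finset.mem_range.mp hj') h
  have h1 := Subgroup.card_mul_index K
  rw [MulAction.index_stabilizer, orbit_eq, Set.ncard_coe_finset, h3, card_Gam8] at h1
  omega

theorem actW_C : D.actW wC 0 = 0 := by decide +kernel

theorem wC_mem : wordProd GG wC ∈ K := by
  rw [MulAction.mem_stabilizer_iff]
  have h := (StemZB.smul_wordProd D chk_struct pt GG pi_act wC (by decide) 0 (by decide)).2
  rw [h, actW_C]

/-- an element of order 4 of the stabilizer -/
noncomputable def cK : ↥K := ⟨wordProd GG wC, wC_mem⟩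

theorem wC_pow4 : wordProd GG wC ^ 4 = 1 := by
  have h := eq_of_wordBeq (wC ++ (wC ++ (wC ++ wC))) [] (by decide +kernel)
  rw [wordProd_append, wordProd_append, wordProd_append, wordProd_nil] at h
  have e : ∀ w : ↥(Gam T8), w ^ 4 = w * (w * (w * w)) := by
    intro w
    rw [pow_succ', pow_succ', pow_succ', pow_one]
  rw [e]
  exact h

theorem wC_sq_ne : ∃ x < 65, wordTab (wC ++ wC) x ≠ x := by decide +kernel

theorem wC_pow2 : ¬ wordProd GG wC ^ 2 = 1 := by
  intro h
  obtain ⟨x, hx, hne⟩ := wC_sq_ne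
  have h1 : wordProd GG (wC ++ wC) = 1 := by rw [wordProd_append, ← sq]; exact h
  have h2 := φ_wordProd (wC ++ wC) (by decide) ⟨x, hx⟩
  rw [h1, map_one] at h2
  exact hne h2.symm

theorem orderOf_cK : orderOf cK = 2 ^ 2 := by
  unfold cK
  rw [Subgroup.orderOf_mk]
  exact orderOf_eq_prime_pow (p := 2) (n := 1) (by simpa using wC_pow2) (by simpa using wC_pow4)

/-- a group of order 52 has a normal subgroup of order 13 with a commutative quotient -/
theorem exists_normal_13 {H : Type*} [Group H] (h : Nat.card H = 52) :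
    ∃ (N : Subgroup H) (_ : N.Normal), Nat.card N = 13 ∧ ∀ x y : H ⧸ N, x * y = y * x := by
  haveI : Finite H := Nat.finite_of_card_ne_zero (by rw [h]; norm_num)
  haveI : Fact (Nat.Prime 13) := ⟨by norm_num⟩
  haveI : Fact (Nat.Prime 2) := ⟨Nat.prime_two⟩
  let P : Sylow 13 H := default
  have hP : Nat.card P = 13 := by
    rw [Sylow.card_eq_multiplicity, h, show (52 : ℕ) = 13 ^ 1 * 4 by norm_num,
      factorization_pow_mul (by norm_num) 1 4 (by norm_num)]
    norm_num
  have hidx : (P : Subgroup H).index = 4 := by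
    have h1 := Subgroup.card_mul_index (P : Subgroup H)
    rw [hP, h] at h1
    omega
  have hn : Nat.card (Sylow 13 H) ∣ 4 := by
    rw [Sylow.card_eq_index_normalizer P, ← hidx]
    exact Subgroup.index_dvd_of_le Subgroup.le_normalizer
  have hmod : Nat.card (Sylow 13 H) ≡ 1 [MOD 13] := card_sylow_modEq_one 13 H
  have hle : Nat.card (Sylow 13 H) ≤ 4 := Nat.le_of_dvd (by norm_num) hn
  have hpos : 0 < Nat.card (Sylow 13 H) := Nat.card_pos
  have h1 : Nat.card (Sylow 13 H) = 1 := by
    unfold Nat.ModEq at hmod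
    interval_cases hc : Nat.card (Sylow 13 H) <;> simp_all
  have hsub : Subsingleton (Sylow 13 H) := (Nat.card_eq_one_iff_unique.mp h1).1
  have hPn : (P : Subgroup H).Normal := P.normal_of_subsingleton
  refine ⟨P, hPn, hP, ?_⟩
  have hq : Nat.card (H ⧸ (P : Subgroup H)) = 2 ^ 2 := by
    rw [← Subgroup.index_eq_card, hidx]; norm_num
  exact (IsPGroup.isMulCommutative_of_card_eq_prime_sq hq).is_comm.comm

/-- a stem extension of the group whose kernel is a 2-group has a kernel of order at most 4 -/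
theorem card_ker_le_four (Γ : Type u) [Group Γ] [Finite Γ] (σ : Γ →* ↥(Gam T8))
    (hσ : Cfsg.IsStemExtension σ) (hp : IsPGroup 2 σ.ker) : Nat.card σ.ker ≤ 4 := by
  obtain ⟨a, ha⟩ := IsPGroup.iff_card.mp hp
  obtain ⟨N, hNn, hN, hQ⟩ := exists_normal_13 card_K
  have h := StemZD.card_ker_mul_le_pow D C chk_struct chk_cert (by decide) pt GG hgen pt_zero
    pi_act hodd hrel 2 13 (by decide) K rfl (by rw [card_K]; norm_num) cK orderOf_cK N hN hQ Γ σ hσ a ha
  have e : (2 : ℕ) ^ C.es.sum = 16 := by decide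
  rw [e] at h
  omega

end Cfsg.Agent.Lib.Helper1.Sz8
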