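import Cfsg.Agent.Lib.Helper1.Sz8F
import Cfsg.Agent.Lib.Helper1.Sz8B
import Cfsg.Agent.Lib.Helper1.Sz8CA
import Cfsg.Agent.Lib.Helper1.Sz8CB
import Cfsg.Agent.Lib.Helper1.StemLL9
import Cfsg.Agent.Lib.Helper1.Stem17
import Cfsg.Agent.Lib.Helper1.Stem21

/-!
# The multiplier of the group `Sz(8)`
-/

set_option autoImplicit false
set_option maxRecDepth 100000

namespace Cfsg.Agent.Lib.Helper1.Sz8

open Cfsg Cfsg.Agent.Lib.Helper1
open Cfsg.Agent.Lib.Helper3.Sz (Gam gamEquiv lieSz_eq)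
open Cfsg.Agent.Lib.Helper1.Stem Cfsg.Agent.Lib.Helper1.StemLL

universe u

open scoped Pointwise

/-- the two covers with kernels of order 2 -/
noncomputable abbrev σa := sig ↥(Gam T8) Sz8CA.L.c (EY Sz8CA.L (ptSub Sz8CA.rawHyp))
  (rhoY Sz8CA.L (ptSub Sz8CA.rawHyp))
noncomputable abbrev σb := sig ↥(Gam T8) Sz8CB.L.c (EY Sz8CB.L (ptSub Sz8CB.rawHyp))
  (rhoY Sz8CB.L (ptSub Sz8CB.rawHyp))

theorem pair_1a : Sz8CA.L.chkPair [1, 1, 0, 0, 1, 0, 0] [0, 0, 0, 1, 0, 1, 1, 1] 1 = true := by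
  decide +kernel
theorem pair_1b : Sz8CB.L.chkPair [1, 1, 0, 0, 1, 0, 0] [0, 0, 0, 1, 0, 1, 1, 1] 0 = true := by
  decide +kernel
theorem pair_2a : Sz8CA.L.chkPair [1, 1, 0, 0, 1, 0, 0] [1, 0, 1, 1, 0, 0, 1, 1, 0, 0] 0 = true := by
  decide +kernel
theorem pair_2b : Sz8CB.L.chkPair [1, 1, 0, 0, 1, 0, 0] [1, 0, 1, 1, 0, 0, 1, 1, 0, 0] 1 = true := by
  decide +kernel

/-- the cover with kernel of order 4 -/
theorem stem_ab : Cfsg.IsStemExtension (fibreHom σa σb) :=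
  fibre_isStem Sz8CA.L Sz8CB.L (ptSub Sz8CA.rawHyp) (ptSub Sz8CB.rawHyp) GG Sz8CA.hyp
    Sz8CB.hyp Sz8CA.L_chk Sz8CB.L_chk _ _ _ _ pair_1a pair_1b pair_2a pair_2b

/-- the kernel of the cover -/
theorem nonempty_kerEquiv : Nonempty ((fibreHom σa σb).ker ≃* Multiplicative (ZMod 2 × ZMod 2)) := by
  have e2 := kerFibreEquiv σa σb
  have ca : Multiplicative (ZMod 2) ≃* σa.ker := by
    have := zmodCyclicMulEquiv Sz8CA.cover.2.1
    rwa [Sz8CA.cover.2.2] at this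
  have cb : Multiplicative (ZMod 2) ≃* σb.ker := by
    have := zmodCyclicMulEquiv Sz8CB.cover.2.1
    rwa [Sz8CB.cover.2.2] at this
  have e3 : (fibreHom σa σb).ker ≃* Multiplicative (ZMod 2) × Multiplicative (ZMod 2) :=
    e2.trans (MulEquiv.prodCongr ca.symm cb.symm)
  exact ⟨e3.trans (MulEquiv.prodMultiplicative _ _).symm⟩

theorem card_target : Nat.card (Multiplicative (ZMod 2 × ZMod 2)) = 4 := by
  show Nat.card (ZMod 2 × ZMod 2) = 4
  rw [Nat.card_prod, Nat.card_eq_fintype_card, ZMod.card]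

theorem sq_chk : (List.range 171).all
    (fun ℓ => !(29120 % (ℓ * ℓ) == 0) || (8 % ℓ == 0)) = true := by decide +kernel

theorem sq_dvd (ℓ : ℕ) (h : ℓ * ℓ ∣ 29120) : ℓ ∣ 8 := by
  have hlt : ℓ < 171 := by
    by_contra hge
    have h1 : 171 * 171 ≤ ℓ * ℓ := Nat.mul_le_mul (by omega) (by omega)
    have h2 := Nat.le_of_dvd (by norm_num) h
    omega
  have h1 := sq_chk
  rw [List.all_eq_true] at h1
  have h2 := h1 ℓ (List.mem_range.mpr hlt)
  rw [Bool.or_eq_true, Bool.not_eq_true', beq_eq_false_iff_ne, beq_iff_eq] at h2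
  rcases h2 with h2 | h2
  · exact absurd (Nat.mod_eq_zero_of_dvd h) h2
  · exact Nat.dvd_of_mod_eq_zero h2

theorem not_sq_dvd (p : ℕ) (hp : p.Prime) (h2 : p ≠ 2) : ¬ p * p ∣ 29120 := by
  intro h
  have h8 := sq_dvd p h
  have e : (8 : ℕ) = 2 ^ 3 := by norm_num
  rw [e] at h8
  exact h2 ((Nat.prime_dvd_prime_iff_eq hp Nat.prime_two).mp (hp.dvd_of_dvd_pow h8))

/-- the kernel of a stem extension has order dividing 4 -/
theorem hub (Γ : Type u) [Group Γ] [Finite Γ] (σ : Γ →* ↥(Gam T8))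
    (hσ : Cfsg.IsStemExtension σ) : Nat.card σ.ker ∣ 4 := by
  apply card_dvd_of_primary σ 4 (by norm_num) ?_ hσ
  intro p hp Γ' _ _ σ' hσ' hk
  by_cases h2 : p = 2
  · subst h2
    have hle := card_ker_le_four Γ' σ' hσ' hk
    obtain ⟨a, ha⟩ := IsPGroup.iff_card.mp hk
    rw [ha] at hle ⊢
    have ha2 : a ≤ 2 := by
      by_contra hlt
      have : 2 ^ 3 ≤ 2 ^ a := Nat.pow_le_pow_right (by norm_num) (by omega)
      omega
    exact (pow_dvd_pow 2 ha2).trans (by norm_num)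
  · have h1 : Nat.card σ'.ker = 1 := by
      apply card_ker_eq_one_of_not_sq_dvd σ' hσ' p hk
      rw [card_Gam8]
      exact not_sq_dvd p hp.out h2
    rw [h1]; exact one_dvd _

/-- the multiplier of a group isomorphic to `Sz(8)` -/
theorem main {G : Type u} [Group G] (f : ↥(Gam T8) ≃* G) :
    Cfsg.HasSchurMultiplier G (Multiplicative (ZMod 2 × ZMod 2)) := by
  obtain ⟨e⟩ := nonempty_kerEquiv
  apply hasSchurMultiplier_of_cover_of_bound f commutator_Gam8 _ _ stem_ab e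
  intro Γ' _ _ σ' hσ'
  rw [card_target]
  exact Nat.le_of_dvd (by norm_num) (hub Γ' σ' hσ')

/-- the Suzuki group over a field with eight elements -/
theorem main_field {F : Type u} [Field F] [Fintype F] (hF : Fintype.card F = 8) :
    Cfsg.HasSchurMultiplier ↥(Cfsg.Lie.Sz F 4) (Multiplicative (ZMod 2 × ZMod 2)) := by
  have hc : Fintype.card F8 = Fintype.card F := by rw [hF]; rfl
  let φ' : F8 ≃+* F := FiniteField.ringEquivOfCardEq hc
  have e1 : ↥(Gam T8) ≃* ↥(Cfsg.Lie.Sz F8 4) :=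
    (gamEquiv T8).trans (MulEquiv.subgroupCongr (lieSz_eq T8 T8_isPow T8_apply).symm)
  exact main (e1.trans (szCongr φ' 4))

end Cfsg.Agent.Lib.Helper1.Sz8
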