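import Mathlib

set_option autoImplicit false

/-! Shared definitions for S3797 (Thompson: soluble groups with one class of involutions):
anisotropic quadratic maps between elementary abelian 2-groups (written additively), their Gauss
sums, radicals and the non-degeneracy predicate. -/

namespace Cfsg.Agent.Lib.Helper1.TI

/-- a quadratic map `sq : W → V` between elementary abelian `2`-groups (written additively), with
polar map `β`, which is anisotropic (`sq w = 0` only for `w = 0`). Model: `W = X / V`, `sq` the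
squaring map and `β` the commutator map of a class-2 group `X` with `X' ≤ V ≤ Z(X)`, all of whose
involutions lie in `V`. -/
structure QMap (W V : Type*) [AddCommGroup W] [AddCommGroup V] where
  sq : W → V
  β : W → W → V
  hW2 : ∀ w : W, w + w = 0
  hV2 : ∀ v : V, v + v = 0
  sq_add : ∀ a b : W, sq (a + b) = sq a + sq b + β a b
  β_add_left : ∀ a b c : W, β (a + b) c = β a c + β b c
  β_add_right : ∀ a b c : W, β a (b + c) = β a b + β a c
  aniso : ∀ w : W, sq w = 0 → w = 0

namespace QMap

variable {W V : Type*} [AddCommGroup W] [AddCommGroup V] (q : QMap W V)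

theorem β_zero_left (c : W) : q.β 0 c = 0 := by
  have h := q.β_add_left 0 0 c
  rw [add_zero] at h
  have h2 : q.β 0 c + q.β 0 c = q.β 0 c + 0 := by rw [add_zero]; exact h.symm
  exact add_left_cancel h2

theorem β_zero_right (c : W) : q.β c 0 = 0 := by
  have h := q.β_add_right c 0 0
  rw [add_zero] at h
  have h2 : q.β c 0 + q.β c 0 = q.β c 0 + 0 := by rw [add_zero]; exact h.symm
  exact add_left_cancel h2

theorem sq_zero : q.sq 0 = 0 := by
  have h := q.sq_add 0 0
  rw [add_zero, q.β_zero_left, add_zero] at h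
  have h2 : q.sq 0 + q.sq 0 = q.sq 0 + 0 := by rw [add_zero]; exact h.symm
  exact add_left_cancel h2

include q in
theorem neg_eq_V (v : V) : -v = v := by
  have h := q.hV2 v
  exact neg_eq_of_add_eq_zero_left h

include q in
theorem neg_eq_W (w : W) : -w = w := by
  have h := q.hW2 w
  exact neg_eq_of_add_eq_zero_left h

theorem β_self (a : W) : q.β a a = 0 := by
  have h := q.sq_add a a
  rw [q.hW2, q.sq_zero, q.hV2, zero_add] at h
  exact h.symm

theorem β_comm (a b : W) : q.β a b = q.β b a := by
  have h1 := q.sq_add a b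
  have h2 := q.sq_add b a
  rw [add_comm b a, h1, add_comm (q.sq b) (q.sq a)] at h2
  exact add_left_cancel h2

end QMap

/-- the sign character of `ZMod 2` -/
def sgn (a : ZMod 2) : ℤ := if a = 0 then 1 else -1

theorem sgn_zero : sgn 0 = 1 := rfl

theorem sgn_add (a b : ZMod 2) : sgn (a + b) = sgn a * sgn b := by
  revert a b; decide

theorem sgn_mul_self (a : ZMod 2) : sgn a * sgn a = 1 := by
  revert a; decide

variable {W V : Type*} [AddCommGroup W] [AddCommGroup V]

/-- the Gauss sum of the quadratic form `l ∘ sq` on the subgroup `Y` -/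
noncomputable def gsum (q : QMap W V) (Y : AddSubgroup W) (l : V →+ ZMod 2) : ℤ :=
  ∑ᶠ w : Y, sgn (l (q.sq (w : W)))

/-- the radical of the alternating form `l ∘ β` on `Y` -/
def rad (q : QMap W V) (Y : AddSubgroup W) (l : V →+ ZMod 2) : AddSubgroup W where
  carrier := {t | t ∈ Y ∧ ∀ w ∈ Y, l (q.β w t) = 0}
  zero_mem' := ⟨Y.zero_mem, fun w _ => by rw [q.β_zero_right, map_zero]⟩
  add_mem' := by
    rintro a b ⟨ha, ha'⟩ ⟨hb, hb'⟩
    refine ⟨Y.add_mem ha hb, fun w hw => ?_⟩
    rw [q.β_add_right, map_add, ha' w hw, hb' w hw, add_zero]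
  neg_mem' := by
    rintro a ⟨ha, ha'⟩
    refine ⟨Y.neg_mem ha, fun w hw => ?_⟩
    rw [q.neg_eq_W]; exact ha' w hw

theorem mem_rad (q : QMap W V) (Y : AddSubgroup W) (l : V →+ ZMod 2) (t : W) :
    t ∈ rad q Y l ↔ t ∈ Y ∧ ∀ w ∈ Y, l (q.β w t) = 0 := Iff.rfl

/-- all the forms `l ∘ β`, `l ≠ 0`, are non-degenerate on `Y` -/
def Nondeg (q : QMap W V) (Y : AddSubgroup W) : Prop :=
  ∀ l : V →+ ZMod 2, l ≠ 0 → ∀ t ∈ Y, (∀ w ∈ Y, l (q.β w t) = 0) → t = 0

end Cfsg.Agent.Lib.Helper1.TI
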