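import Mathlib
import Cfsg.Agent.Lib.Helper1.TIDefs

set_option autoImplicit false
set_option linter.unusedVariables false
set_option linter.unusedSectionVars false

/-! Package LA of S3797: an involution (on `W`) acting trivially on `V` and commuting with a
fixed-point-free element acting trivially on `V` is trivial on `W`. -/

namespace Cfsg.Agent.Lib.Helper1.TILA

open Cfsg.Agent.Lib.Helper1.TI

section

variable {𝒩 W V : Type*} [Group 𝒩] [AddCommGroup W] [AddCommGroup V]
  [DistribMulAction 𝒩 W] [DistribMulAction 𝒩 V] (q : QMap W V)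

/-- equivariance of the polar map -/
theorem β_smul (hequiv : ∀ (n : 𝒩) (w : W), q.sq (n • w) = n • q.sq w) (n : 𝒩) (a b : W) :
    q.β (n • a) (n • b) = n • q.β a b := by
  have h1 := q.sq_add (n • a) (n • b)
  rw [← smul_add, hequiv, hequiv, hequiv, q.sq_add, smul_add, smul_add] at h1
  exact (add_left_cancel h1).symm

theorem trivial_of_commute_fpf
    (hequiv : ∀ (n : 𝒩) (w : W), q.sq (n • w) = n • q.sq w)
    (t k : 𝒩) (htV : ∀ v : V, t • v = v) (hkV : ∀ v : V, k • v = v)
    (ht2 : ∀ w : W, t • t • w = w) (hcomm : ∀ w : W, k • t • w = t • k • w)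
    (hkfpf : ∀ w : W, k • w = w → w = 0) : ∀ w : W, t • w = w := by
  -- `β` is `t`-invariant and `k`-invariant
  have hβt : ∀ a b : W, q.β (t • a) (t • b) = q.β a b := fun a b => by
    rw [β_smul q hequiv, htV]
  -- `[W,t]` is totally isotropic
  have hiso : ∀ u u' : W, q.β (t • u + u) (t • u' + u') = 0 := by
    intro u u'
    rw [q.β_add_left, q.β_add_right, q.β_add_right, hβt]
    have h1 : q.β u (t • u') = q.β (t • u) u' := by
      have := hβt u (t • u')
      rw [ht2] at this
      exact this.symm
    rw [h1]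
    -- β u u' + β (t•u) u' + (β (t•u) u' + β u u') = 0
    have hV2 := q.hV2
    have e : q.β u u' + q.β (t • u) u' + (q.β (t • u) u' + q.β u u') =
        (q.β u u' + q.β u u') + (q.β (t • u) u' + q.β (t • u) u') := by abel
    rw [e, hV2, hV2, add_zero]
  intro u
  set b := t • u + u with hb
  -- `k • b` is again of the form `t • u' + u'`
  have hkb : k • b = t • (k • u) + k • u := by
    rw [hb, smul_add, hcomm]
  have h1 : q.sq (k • b + b) = 0 := by
    rw [q.sq_add, hequiv, hkV, hkb, hb, hiso, add_zero, q.hV2]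
  have h2 : k • b + b = 0 := q.aniso _ h1
  have h3 : k • b = b := by
    have := eq_neg_of_add_eq_zero_left h2
    rw [q.neg_eq_W] at this
    exact this
  have h4 : b = 0 := hkfpf b h3
  have h5 : t • u = -u := eq_neg_of_add_eq_zero_left h4
  rw [h5, q.neg_eq_W]

end

end Cfsg.Agent.Lib.Helper1.TILA
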