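import Mathlib
import Cfsg.Agent.Lib.Helper1.TIDefs
import Cfsg.Agent.Lib.Helper4.SecMod
import Cfsg.Agent.Lib.Helper4.TIX
import Cfsg.Agent.Lib.Helper4.TIQM
import Cfsg.Agent.Lib.Lead.TIND
import Cfsg.Agent.Lib.Helper3.TINK2

set_option autoImplicit false
set_option linter.unusedVariables false
set_option linter.unusedSectionVars false
set_option linter.style.haveILetI false

/-! Package CORE of S3797: the group-theoretic core configuration is impossible. -/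

namespace Cfsg.Agent.Lib.Helper1.TICore

open Cfsg.Agent.Lib.Helper1.TI Cfsg.Agent.Lib.Helper4.SecMod
open Cfsg.Agent.Lib.Helper4.TIX Cfsg.Agent.Lib.Helper4.TIQM Cfsg.Agent.Lib.Lead.TIND
open Cfsg.Agent.Lib.Helper3.TINK

universe u

section aux

variable {Γ : Type u} [Group Γ]

/-- the set of `N`-conjugates of elements of `T` -/
def conjSet (N T : Subgroup Γ) : Set Γ := {g : Γ | ∃ n ∈ N, ∃ t ∈ T, g = n * t * n⁻¹}

theorem conjSet_conj (N T : Subgroup Γ) {n g : Γ} (hn : n ∈ N) (hg : g ∈ conjSet N T) :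
    n * g * n⁻¹ ∈ conjSet N T := by
  obtain ⟨m, hm, t, ht, rfl⟩ := hg
  exact ⟨n * m, N.mul_mem hn hm, t, ht, by group⟩

/-- the closure of a conjugation-invariant set is conjugation-invariant -/
theorem closure_conj (N : Subgroup Γ) (S : Set Γ) (hS : ∀ n ∈ N, ∀ g ∈ S, n * g * n⁻¹ ∈ S)
    {n g : Γ} (hn : n ∈ N) (hg : g ∈ Subgroup.closure S) : n * g * n⁻¹ ∈ Subgroup.closure S := by
  have h1 : Subgroup.closure S ≤ (Subgroup.closure S).comap (MulAut.conj n).toMonoidHom := by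
    rw [Subgroup.closure_le]
    intro x hx
    rw [SetLike.mem_coe, Subgroup.mem_comap]
    have : (MulAut.conj n).toMonoidHom x = n * x * n⁻¹ := by simp [MulAut.conj_apply]
    rw [this]
    exact Subgroup.subset_closure (hS n hn x hx)
  have h2 := h1 hg
  rw [Subgroup.mem_comap] at h2
  have : (MulAut.conj n).toMonoidHom g = n * g * n⁻¹ := by simp [MulAut.conj_apply]
  rwa [this] at h2

end aux

section ending

/-- a nontrivial finite `2`-subgroup of a group has an element of order two in its centre -/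
theorem exists_central_invol {P : Type*} [Group P] [Finite P] [Nontrivial P] (hP : IsPGroup 2 P) :
    ∃ x : P, x ≠ 1 ∧ x * x = 1 ∧ ∀ y : P, x * y = y * x := by
  haveI : Fact (Nat.Prime 2) := ⟨Nat.prime_two⟩
  haveI := hP.center_nontrivial
  have h2 : IsPGroup 2 (Subgroup.center P) := hP.to_subgroup _
  have hdvd : 2 ∣ Nat.card (Subgroup.center P) := by
    rcases h2.card_eq_or_dvd with h | h
    · exact absurd h (Finite.one_lt_card (α := Subgroup.center P)).ne'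
    · exact h
  obtain ⟨x, hx⟩ := exists_prime_orderOf_dvd_card' 2 hdvd
  refine ⟨x, ?_, ?_, ?_⟩
  · intro h
    have : x = 1 := by exact_mod_cast h
    rw [this, orderOf_one] at hx
    omega
  · have := pow_orderOf_eq_one x
    rw [hx, pow_two] at this
    exact_mod_cast this
  · intro y
    exact ((Subgroup.mem_center_iff.1 x.2) y).symm

theorem ending {𝒩 W V : Type*} [Group 𝒩] [Finite 𝒩] [AddCommGroup W] [Finite W] [AddCommGroup V]
    [Finite V] [DistribMulAction 𝒩 W] [DistribMulAction 𝒩 V] (q : QMap W V)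
    (hequiv : ∀ (n : 𝒩) (w : W), q.sq (n • w) = n • q.sq w)
    (hcard : Nat.card W = Nat.card V ^ 2) (hnd : Nondeg q ⊤)
    (K₀ : Subgroup 𝒩) [K₀.Normal] (hK₀odd : Odd (Nat.card K₀))
    (hK₀V : ∀ k ∈ K₀, ∀ v : V, k • v = v) (hK₀W : ∃ k ∈ K₀, ∃ w : W, k • w ≠ w)
    (T : Subgroup 𝒩) (hT2 : IsPGroup 2 T) (hTV : ∀ t ∈ T, ∀ v : V, t • v = v)
    (hTW : ∃ t ∈ T, ∃ w : W, t • w ≠ w)
    (hV4 : ∃ v v' : V, v ≠ 0 ∧ v' ≠ 0 ∧ v ≠ v')
    (hfrat : ∀ v v' : V, v ≠ 0 → v' ≠ 0 → ∃ n : 𝒩, (∀ t ∈ T, n * t * n⁻¹ ∈ T) ∧ n • v = v')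
    (z : 𝒩 → V) (hz1 : ∀ t ∈ T, t ≠ 1 → z t ≠ 0)
    (hz2 : ∀ n t : 𝒩, z (n * t * n⁻¹) = n • z t) : False := by
  classical
  haveI := Fintype.ofFinite 𝒩
  haveI := Fintype.ofFinite V
  set φ : 𝒩 →* Equiv.Perm W := MulAction.toPermHom 𝒩 W with hφ
  have hφa : ∀ (g : 𝒩) (w : W), φ g w = g • w := fun g w => rfl
  -- the image of `T` in `Perm W`
  set P : Subgroup (Equiv.Perm W) := T.map φ with hPdef
  have hP2 : IsPGroup 2 P := hT2.map φ
  haveI : Nontrivial P := by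
    obtain ⟨t, ht, w, hw⟩ := hTW
    refine ⟨⟨⟨φ t, Subgroup.mem_map_of_mem φ ht⟩, 1, ?_⟩⟩
    intro h
    have h1 : φ t = 1 := by
      have := congrArg Subtype.val h
      simpa using this
    apply hw
    rw [← hφa, h1]; rfl
  obtain ⟨x, hx1, hx2, hxc⟩ := exists_central_invol hP2
  obtain ⟨c, hcT, hcσ⟩ := Subgroup.mem_map.1 x.2
  set σ : Equiv.Perm W := (x : Equiv.Perm W) with hσdef
  have hσ1 : σ ≠ 1 := by
    intro h
    apply hx1
    exact Subtype.ext h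
  have hσ2 : σ * σ = 1 := by
    have := congrArg Subtype.val hx2
    simpa using this
  have hσc : ∀ t ∈ T, σ * φ t = φ t * σ := by
    intro t ht
    have := congrArg Subtype.val (hxc ⟨φ t, Subgroup.mem_map_of_mem φ ht⟩)
    simpa using this
  -- every "involution" of `T` on `W` equals `σ`
  have hclaim : ∀ t ∈ T, φ t ≠ 1 → φ t * φ t = 1 → φ t = σ := by
    intro t ht h1 h2
    by_contra hne
    have hne1 : ∀ τ : Equiv.Perm W, τ ≠ 1 → ∃ w : W, τ w ≠ w := by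
      intro τ hτ
      by_contra h
      apply hτ
      ext w
      by_contra h'
      exact h ⟨w, h'⟩
    refine no_klein q hequiv hcard hnd K₀ hK₀odd hK₀V hK₀W c t (hTV c hcT) (hTV t ht)
      ?_ ?_ ?_ ?_ ?_ ?_
    · intro w
      rw [← hφa, ← hφa, hcσ, ← Equiv.Perm.mul_apply, hσ2]; rfl
    · intro w
      rw [← hφa, ← hφa, ← Equiv.Perm.mul_apply, h2]; rfl
    · intro w
      rw [← hφa, ← hφa, ← hφa t, ← hφa c, hcσ, ← Equiv.Perm.mul_apply, ← Equiv.Perm.mul_apply,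
        hσc t ht]
    · obtain ⟨w, hw⟩ := hne1 σ hσ1
      exact ⟨w, by rw [← hφa, hcσ]; exact hw⟩
    · obtain ⟨w, hw⟩ := hne1 (φ t) h1
      exact ⟨w, by rw [← hφa]; exact hw⟩
    · by_contra h
      apply hne
      ext w
      by_contra h'
      apply h
      refine ⟨w, ?_⟩
      rw [← hφa, ← hφa, hcσ]
      exact fun h'' => h' h''.symm
  -- the set `D`
  set D : Finset 𝒩 := Finset.univ.filter (fun t => t ∈ T ∧ φ t = σ) with hDdef
  have hmemD : ∀ t, t ∈ D ↔ t ∈ T ∧ φ t = σ := by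
    intro t; rw [hDdef, Finset.mem_filter]; simp
  -- `|D|` is a power of two
  have hD2 : ∃ j : ℕ, D.card = 2 ^ j := by
    set T₀ : Subgroup 𝒩 := T ⊓ φ.ker with hT₀
    have hT₀2 : IsPGroup 2 T₀ := hT2.to_le inf_le_left
    obtain ⟨j, hj⟩ := hT₀2.exists_card_eq
    refine ⟨j, ?_⟩
    rw [← hj, Nat.card_eq_fintype_card, ← Fintype.card_coe]
    apply Fintype.card_congr
    refine ⟨fun t => ⟨c⁻¹ * t.1, ?_⟩, fun t => ⟨c * t.1, ?_⟩, ?_, ?_⟩
    · have := (hmemD _).1 t.2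
      refine ⟨T.mul_mem (T.inv_mem hcT) this.1, ?_⟩
      show c⁻¹ * t.1 ∈ φ.ker
      rw [MonoidHom.mem_ker, map_mul, map_inv, hcσ, this.2, inv_mul_cancel]
    · rw [hmemD]
      have := t.2
      have h2 : t.1 ∈ φ.ker := this.2
      refine ⟨T.mul_mem hcT this.1, ?_⟩
      rw [map_mul, hcσ, MonoidHom.mem_ker.1 h2, mul_one]
    · intro t; ext; simp
    · intro t; ext; simp
  -- `D` is stable under the normaliser of `T`
  have hDconj : ∀ n : 𝒩, (∀ t ∈ T, n * t * n⁻¹ ∈ T) → ∀ t ∈ D, n * t * n⁻¹ ∈ D := by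
    intro n hn t ht
    rw [hmemD] at ht ⊢
    refine ⟨hn t ht.1, ?_⟩
    apply hclaim _ (hn t ht.1)
    · intro h
      apply hσ1
      rw [map_mul, map_mul, map_inv, ht.2] at h
      have : σ = (φ n)⁻¹ * (φ n * σ * (φ n)⁻¹) * φ n := by group
      rw [this, h]; group
    · rw [map_mul, map_mul, map_inv, ht.2]
      have : φ n * σ * (φ n)⁻¹ * (φ n * σ * (φ n)⁻¹) = φ n * (σ * σ) * (φ n)⁻¹ := by group
      rw [this, hσ2]; group
  -- the nonzero vectors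
  set S : Finset V := Finset.univ.filter (fun v => v ≠ 0) with hSdef
  have hmemS : ∀ v, v ∈ S ↔ v ≠ 0 := by
    intro v; rw [hSdef, Finset.mem_filter]; simp
  have hzS : ∀ t ∈ D, z t ∈ S := by
    intro t ht
    rw [hmemS]
    rw [hmemD] at ht
    apply hz1 t ht.1
    rintro rfl
    apply hσ1
    rw [← ht.2, map_one]
  have hsum := Finset.card_eq_sum_card_fiberwise hzS
  -- all fibres have the same size
  have hfib : ∀ v ∈ S, ∀ v' ∈ S, (D.filter (fun t => z t = v)).card ≤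
      (D.filter (fun t => z t = v')).card := by
    intro v hv v' hv'
    rw [hmemS] at hv hv'
    obtain ⟨n, hn, hnv⟩ := hfrat v v' hv hv'
    apply Finset.card_le_card_of_injOn (fun t => n * t * n⁻¹)
    · intro t ht
      rw [Finset.mem_coe, Finset.mem_filter] at ht ⊢
      refine ⟨hDconj n hn t ht.1, ?_⟩
      rw [hz2, ht.2, hnv]
    · intro a _ b _ hab
      simpa using hab
  obtain ⟨v₀, v₁, hv₀, hv₁, hv01⟩ := hV4
  have hsum2 : D.card = S.card * (D.filter (fun t => z t = v₀)).card := by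
    rw [hsum]
    apply Finset.sum_const_nat
    intro v hv
    exact le_antisymm (hfib v hv v₀ ((hmemS _).2 hv₀)) (hfib v₀ ((hmemS _).2 hv₀) v hv)
  -- arithmetic
  have hS1 : S.card + 1 = Fintype.card V := by
    rw [hSdef, Finset.filter_ne' Finset.univ (0 : V), Finset.card_erase_add_one (Finset.mem_univ _),
      Finset.card_univ]
  have hVeven : 2 ∣ Fintype.card V := by
    have h1 : addOrderOf v₀ = 2 := by
      haveI : Fact (Nat.Prime 2) := ⟨Nat.prime_two⟩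
      apply addOrderOf_eq_prime
      · rw [two_nsmul]; exact q.hV2 v₀
      · exact hv₀
    rw [← h1]
    exact addOrderOf_dvd_card
  have hS2 : 1 < S.card :=
    Finset.one_lt_card.2 ⟨v₀, (hmemS _).2 hv₀, v₁, (hmemS _).2 hv₁, hv01⟩
  obtain ⟨j, hj⟩ := hD2
  have hdvd : S.card ∣ 2 ^ j := ⟨_, hj.symm.trans hsum2⟩
  obtain ⟨i, _, hi⟩ := (Nat.dvd_prime_pow Nat.prime_two).1 hdvd
  obtain ⟨m, hm⟩ := hVeven
  cases i with
  | zero => rw [hi] at hS2; simp at hS2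
  | succ k =>
    rw [pow_succ] at hi
    omega

end ending

section core

variable {Γ : Type u} [Group Γ] [Finite Γ]

theorem core (V Q N K₀ T : Subgroup Γ)
    (hinv : ∀ g : Γ, g ^ 2 = 1 → g ∈ V) (hV2 : ∀ v ∈ V, v ^ 2 = 1) (hVQ : V ≤ Q)
    (hQ2 : IsPGroup 2 Q) (hNQ : ∀ n ∈ N, ∀ g ∈ Q, n * g * n⁻¹ ∈ Q)
    (hV4 : ∃ v ∈ V, ∃ w ∈ V, v ≠ 1 ∧ w ≠ 1 ∧ v ≠ w)
    (hK₀N : K₀ ≤ N) (hK₀n : ∀ n ∈ N, ∀ k ∈ K₀, n * k * n⁻¹ ∈ K₀)
    (hK₀odd : Odd (Nat.card K₀)) (hK₀V : ∀ k ∈ K₀, ∀ v ∈ V, k * v = v * k)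
    (hTN : T ≤ N) (hT2 : IsPGroup 2 T) (hTV : ∀ t ∈ T, ∀ v ∈ V, t * v = v * t)
    (hfrat : ∀ v ∈ V, ∀ w ∈ V, v ≠ 1 → w ≠ 1 →
      ∃ n ∈ N, (∀ t ∈ T, n * t * n⁻¹ ∈ T) ∧ n * v * n⁻¹ = w)
    (hact : ∃ l ∈ K₀ ⊓ Subgroup.closure {g : Γ | ∃ n ∈ N, ∃ t ∈ T, g = n * t * n⁻¹},
      ∃ g ∈ Q, l * g ≠ g * l) : False := by
  classical
  -- `N` normalises `V`
  have hNV : ∀ n ∈ N, ∀ v ∈ V, n * v * n⁻¹ ∈ V := by
    intro n _ v hv
    apply hinv
    have : (n * v * n⁻¹) ^ 2 = n * v ^ 2 * n⁻¹ := by rw [pow_two, pow_two]; group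
    rw [this, hV2 v hv]; group
  set TN : Subgroup Γ := Subgroup.closure (conjSet N T) with hTNdef
  set L : Subgroup Γ := K₀ ⊓ TN with hLdef
  have hTNN : TN ≤ N := by
    rw [hTNdef, Subgroup.closure_le]
    rintro _ ⟨n, hn, t, ht, rfl⟩
    exact N.mul_mem (N.mul_mem hn (hTN ht)) (N.inv_mem hn)
  have hTTN : T ≤ TN := by
    intro t ht
    exact Subgroup.subset_closure ⟨1, N.one_mem, t, ht, by group⟩
  have hTNn : ∀ n ∈ N, ∀ g ∈ TN, n * g * n⁻¹ ∈ TN := fun n hn g hg =>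
    closure_conj N (conjSet N T) (fun n hn g hg => conjSet_conj N T hn hg) hn hg
  have hLN : L ≤ N := inf_le_left.trans hK₀N
  have hLK₀ : L ≤ K₀ := inf_le_left
  have hLn : ∀ n ∈ N, ∀ l ∈ L, n * l * n⁻¹ ∈ L := fun n hn l hl =>
    ⟨hK₀n n hn l hl.1, hTNn n hn l hl.2⟩
  have hLodd : Odd (Nat.card L) := Odd.of_dvd_nat hK₀odd (Subgroup.card_dvd_of_le hLK₀)
  have hLV : ∀ l ∈ L, ∀ v ∈ V, l * v = v * l := fun l hl v hv => hK₀V l hl.1 v hv
  have htrans : ∀ v ∈ V, ∀ w ∈ V, v ≠ 1 → w ≠ 1 → ∃ n ∈ N, n * v * n⁻¹ = w := by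
    intro v hv w hw hv1 hw1
    obtain ⟨n, hn, _, h⟩ := hfrat v hv w hw hv1 hw1
    exact ⟨n, hn, h⟩
  obtain ⟨X, hXQ, hVX, hVneX, hNX, hsq, hcomm, hcent, hfpf⟩ :=
    exists_special V Q N L (fun g _ hg => hinv g hg) hV2 hVQ hQ2 hNQ htrans hLN hLn hLodd hLV hact
  -- the two sections
  have hW : Sec X V N := ⟨hVX, hcomm, hNX, hNV⟩
  have hVs : Sec V ⊥ N := by
    refine ⟨bot_le, ?_, hNV, ?_⟩
    · intro x hx y hy
      rw [Subgroup.mem_bot]
      have h1 := hcent x (hVX hx) y hy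
      rw [h1]; group
    · intro g _ x hx
      rw [Subgroup.mem_bot] at hx ⊢
      rw [hx]; group
  obtain ⟨q, hqsq, hqβ, hequiv⟩ := exists_qmap V X N hV2 (fun x _ hx => hinv x hx) hsq hcent hW hVs
  -- transitivity on the section `V`
  have htransM : ∀ v v' : hVs.M, v ≠ 0 → v' ≠ 0 → ∃ n : N, n • v = v' := by
    intro v v' hv hv'
    obtain ⟨a, ha, rfl⟩ := hVs.cls_surj v
    obtain ⟨b, hb, rfl⟩ := hVs.cls_surj v'
    have ha1 : a ≠ 1 := by
      intro h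
      apply hv
      rw [hVs.cls_eq_zero ha, Subgroup.mem_bot]; exact h
    have hb1 : b ≠ 1 := by
      intro h
      apply hv'
      rw [hVs.cls_eq_zero hb, Subgroup.mem_bot]; exact h
    obtain ⟨n, hn, h⟩ := htrans a ha b hb ha1 hb1
    refine ⟨⟨n, hn⟩, ?_⟩
    rw [hVs.smul_cls' hn ha]
    exact hVs.cls_congr h _
  have hWne : ∃ w : hW.M, w ≠ 0 := by
    have : ∃ x ∈ X, x ∉ V := by
      by_contra h
      apply hVneX
      apply le_antisymm hVX
      intro x hx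
      by_contra hxV
      exact h ⟨x, hx, hxV⟩
    obtain ⟨x, hx, hxV⟩ := this
    exact ⟨hW.cls x hx, fun h => hxV ((hW.cls_eq_zero hx).1 h)⟩
  -- `L` inside `N`
  set L' : Subgroup N := L.subgroupOf N with hL'def
  have hL'odd : Odd (Nat.card L') := by
    rw [hL'def, Nat.card_congr (Subgroup.subgroupOfEquivOfLe hLN).toEquiv]
    exact hLodd
  have hL'V : ∀ l ∈ L', ∀ v : hVs.M, l • v = v := by
    intro l hl v
    obtain ⟨a, ha, rfl⟩ := hVs.cls_surj v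
    have hlL : (l : Γ) ∈ L := Subgroup.mem_subgroupOf.mp hl
    rw [hVs.smul_cls l ha]
    apply (hVs.cls_congr _ _).trans rfl
    rw [hLV _ hlL a ha]; group
  have hL'fpf : ∀ w : hW.M, (∀ l ∈ L', l • w = w) → w = 0 := by
    intro w hw
    obtain ⟨x, hx, rfl⟩ := hW.cls_surj w
    rw [hW.cls_eq_zero hx]
    apply hfpf x hx
    intro l hl
    have h1 := hw ⟨l, hLN hl⟩ (Subgroup.mem_subgroupOf.mpr hl)
    exact (hW.smul_cls_eq_iff (hLN hl) hx).1 h1
  obtain ⟨hcard, hnd⟩ := nondeg_of_transitive q hequiv htransM hWne L' hL'odd hL'V hL'fpf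
  -- `L` moves something in `W`
  have hL'W : ∃ l ∈ L', ∃ w : hW.M, l • w ≠ w := by
    obtain ⟨w, hw⟩ := hWne
    by_contra h
    apply hw
    apply hL'fpf
    intro l hl
    by_contra h'
    exact h ⟨l, hl, w, h'⟩
  -- `K₀` inside `N`
  set K₀' : Subgroup N := K₀.subgroupOf N with hK₀'def
  haveI hK₀'n : K₀'.Normal := by
    refine ⟨fun k hk n => ?_⟩
    rw [hK₀'def, Subgroup.mem_subgroupOf] at hk ⊢
    have := hK₀n n n.2 k hk
    simpa using this
  have hK₀'odd : Odd (Nat.card K₀') := by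
    rw [hK₀'def, Nat.card_congr (Subgroup.subgroupOfEquivOfLe hK₀N).toEquiv]
    exact hK₀odd
  -- anything in `N` centralising `V` acts trivially on the section `V`
  have hcentV : ∀ n : N, (∀ v ∈ V, (n : Γ) * v = v * n) → ∀ v : hVs.M, n • v = v := by
    intro n hn v
    obtain ⟨a, ha, rfl⟩ := hVs.cls_surj v
    rw [hVs.smul_cls n ha]
    apply (hVs.cls_congr _ _).trans rfl
    rw [hn a ha]; group
  have hK₀'V : ∀ k ∈ K₀', ∀ v : hVs.M, k • v = v := fun k hk =>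
    hcentV k (hK₀V _ (Subgroup.mem_subgroupOf.mp hk))
  have hK₀'W : ∃ k ∈ K₀', ∃ w : hW.M, k • w ≠ w := by
    obtain ⟨l, hl, w, hw⟩ := hL'W
    exact ⟨l, Subgroup.mem_subgroupOf.mpr (hLK₀ (Subgroup.mem_subgroupOf.mp hl)), w, hw⟩
  -- `T` inside `N`
  set T' : Subgroup N := T.subgroupOf N with hT'def
  have hT'2 : IsPGroup 2 T' := hT2.comap_subtype
  have hT'V : ∀ t ∈ T', ∀ v : hVs.M, t • v = v := fun t ht =>
    hcentV t (hTV _ (Subgroup.mem_subgroupOf.mp ht))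
  have hT'W : ∃ t ∈ T', ∃ w : hW.M, t • w ≠ w := by
    by_contra h
    set KW : Subgroup N := (MulAction.toPermHom N hW.M).ker with hKW
    have hKWmem : ∀ n : N, n ∈ KW ↔ ∀ w : hW.M, n • w = w := by
      intro n
      rw [hKW, MonoidHom.mem_ker]
      constructor
      · intro h1 w
        have := congrArg (fun σ : Equiv.Perm hW.M => σ w) h1
        simpa using this
      · intro h1
        ext w
        simpa using h1 w
    have h1 : TN ≤ KW.map N.subtype := by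
      rw [hTNdef, Subgroup.closure_le]
      rintro _ ⟨n, hn, t, ht, rfl⟩
      refine ⟨(⟨n, hn⟩ : N) * ⟨t, hTN ht⟩ * (⟨n, hn⟩ : N)⁻¹, ?_, rfl⟩
      apply (inferInstance : KW.Normal).conj_mem
      rw [hKWmem]
      intro w
      by_contra h'
      exact h ⟨⟨t, hTN ht⟩, Subgroup.mem_subgroupOf.mpr ht, w, h'⟩
    obtain ⟨l, hl, w, hw⟩ := hL'W
    have hlTN : (l : Γ) ∈ TN := (Subgroup.mem_subgroupOf.mp hl).2
    obtain ⟨x, hx, hxl⟩ := h1 hlTN
    have : x = l := Subtype.ext hxl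
    rw [this] at hx
    exact hw ((hKWmem l).1 hx w)
  have hV4' : ∃ v v' : hVs.M, v ≠ 0 ∧ v' ≠ 0 ∧ v ≠ v' := by
    obtain ⟨v, hv, w, hw, hv1, hw1, hvw⟩ := hV4
    refine ⟨hVs.cls v hv, hVs.cls w hw, ?_, ?_, ?_⟩
    · rw [Ne, hVs.cls_eq_zero hv, Subgroup.mem_bot]; exact hv1
    · rw [Ne, hVs.cls_eq_zero hw, Subgroup.mem_bot]; exact hw1
    · rw [Ne, hVs.cls_eq_cls hv hw, Subgroup.mem_bot]
      intro h
      apply hvw
      exact inv_mul_eq_one.1 h
  have hfrat' : ∀ v v' : hVs.M, v ≠ 0 → v' ≠ 0 →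
      ∃ n : N, (∀ t ∈ T', n * t * n⁻¹ ∈ T') ∧ n • v = v' := by
    intro v v' hv hv'
    obtain ⟨a, ha, rfl⟩ := hVs.cls_surj v
    obtain ⟨b, hb, rfl⟩ := hVs.cls_surj v'
    have ha1 : a ≠ 1 := by
      intro h
      apply hv
      rw [hVs.cls_eq_zero ha, Subgroup.mem_bot]; exact h
    have hb1 : b ≠ 1 := by
      intro h
      apply hv'
      rw [hVs.cls_eq_zero hb, Subgroup.mem_bot]; exact h
    obtain ⟨n, hn, hnT, h⟩ := hfrat a ha b hb ha1 hb1
    refine ⟨⟨n, hn⟩, ?_, ?_⟩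
    · intro t ht
      rw [hT'def, Subgroup.mem_subgroupOf] at ht ⊢
      have := hnT _ ht
      simpa using this
    · rw [hVs.smul_cls' hn ha]
      exact hVs.cls_congr h _
  -- the map `z`
  set z : N → hVs.M := fun g =>
    if h : (g : Γ) ^ (orderOf (g : Γ) / 2) ∈ V then hVs.cls _ h else 0 with hzdef
  have hz1 : ∀ t ∈ T', t ≠ 1 → z t ≠ 0 := by
    intro t ht ht1
    haveI : Fact (Nat.Prime 2) := ⟨Nat.prime_two⟩
    have htT : (t : Γ) ∈ T := Subgroup.mem_subgroupOf.mp ht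
    obtain ⟨k, hk⟩ := (IsPGroup.iff_orderOf.1 hT2) ⟨(t : Γ), htT⟩
    rw [Subgroup.orderOf_mk] at hk
    have hk0 : k ≠ 0 := by
      rintro rfl
      rw [pow_zero, orderOf_eq_one_iff] at hk
      exact ht1 (Subtype.ext hk)
    obtain ⟨k', rfl⟩ := Nat.exists_eq_succ_of_ne_zero hk0
    have hhalf : orderOf (t : Γ) / 2 = 2 ^ k' := by
      rw [hk, pow_succ]; simp
    have hu2 : ((t : Γ) ^ (orderOf (t : Γ) / 2)) ^ 2 = 1 := by
      rw [← pow_mul, hhalf, ← pow_succ, ← hk, pow_orderOf_eq_one]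
    have hu1 : (t : Γ) ^ (orderOf (t : Γ) / 2) ≠ 1 := by
      apply pow_ne_one_of_lt_orderOf
      · rw [hhalf]; positivity
      · rw [hhalf, hk, pow_succ]
        have : 0 < 2 ^ k' := by positivity
        omega
    have huV := hinv _ hu2
    rw [hzdef]
    simp only [dif_pos huV]
    rw [Ne, hVs.cls_eq_zero huV, Subgroup.mem_bot]
    exact hu1
  have hz2 : ∀ n t : N, z (n * t * n⁻¹) = n • z t := by
    intro n t
    have hcoe : ((n * t * n⁻¹ : N) : Γ) = (n : Γ) * (t : Γ) * (n : Γ)⁻¹ := by simp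
    have hord : orderOf ((n : Γ) * (t : Γ) * (n : Γ)⁻¹) = orderOf (t : Γ) := by
      have := MulEquiv.orderOf_eq (MulAut.conj (n : Γ)) (t : Γ)
      simpa [MulAut.conj_apply] using this
    have hpow : ((n * t * n⁻¹ : N) : Γ) ^ (orderOf ((n * t * n⁻¹ : N) : Γ) / 2) =
        (n : Γ) * (t : Γ) ^ (orderOf (t : Γ) / 2) * (n : Γ)⁻¹ := by
      rw [hcoe, hord, conj_pow]
    rw [hzdef]
    by_cases hu : (t : Γ) ^ (orderOf (t : Γ) / 2) ∈ V
    · have hu' : ((n * t * n⁻¹ : N) : Γ) ^ (orderOf ((n * t * n⁻¹ : N) : Γ) / 2) ∈ V := by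
        rw [hpow]; exact hNV n n.2 _ hu
      simp only [dif_pos hu, dif_pos hu']
      rw [hVs.smul_cls n hu]
      exact hVs.cls_congr hpow _
    · have hu' : ((n * t * n⁻¹ : N) : Γ) ^ (orderOf ((n * t * n⁻¹ : N) : Γ) / 2) ∉ V := by
        rw [hpow]
        intro h
        apply hu
        have := hNV (n : Γ)⁻¹ (N.inv_mem n.2) _ h
        have e : (n : Γ)⁻¹ * ((n : Γ) * (t : Γ) ^ (orderOf (t : Γ) / 2) * (n : Γ)⁻¹) * (n : Γ)⁻¹⁻¹ =
            (t : Γ) ^ (orderOf (t : Γ) / 2) := by group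
        rwa [e] at this
      simp only [dif_neg hu, dif_neg hu']
      rw [smul_zero]
  exact ending q hequiv hcard hnd K₀' hK₀'odd hK₀'V hK₀'W T' hT'2 hT'V hT'W hV4' hfrat' z hz1 hz2

end core

end Cfsg.Agent.Lib.Helper1.TICore
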