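import Mathlib
import Cfsg.Agent.Lib.Helper1.TIDefs
import Cfsg.Agent.Lib.Helper1.TILA

set_option autoImplicit false
set_option linter.unusedVariables false
set_option linter.unusedSectionVars false
set_option linter.style.haveILetI false

/-! Package FP of S3797: an odd-order element acting trivially on `V` is trivial or
fixed-point-free on `W`.  The statement `fpf_of_odd_of` takes the conclusion of package PC (for the
given `q`) as a hypothesis. -/

namespace Cfsg.Agent.Lib.Helper1.TIFP

open Cfsg.Agent.Lib.Helper1.TI Cfsg.Agent.Lib.Helper1.TILA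

theorem fpf_of_odd_of {𝒩 W V : Type*} [Group 𝒩] [AddCommGroup W] [Finite W] [AddCommGroup V]
    [Finite V] [DistribMulAction 𝒩 W] [DistribMulAction 𝒩 V] (q : QMap W V)
    (hpiece : ∀ Y : AddSubgroup W, Nondeg q Y → Y = ⊥ ∨ Nat.card Y = Nat.card V ^ 2)
    (hequiv : ∀ (n : 𝒩) (w : W), q.sq (n • w) = n • q.sq w)
    (hcard : Nat.card W = Nat.card V ^ 2) (hnd : Nondeg q ⊤)
    (k : 𝒩) (hkodd : Odd (orderOf k)) (hkV : ∀ v : V, k • v = v) (hk : ∃ w : W, k • w ≠ w) :
    ∀ w : W, k • w = w → w = 0 := by
  classical
  set δ : W →+ W := DistribSMul.toAddMonoidHom W k + AddMonoidHom.id W with hδ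
  have hδa : ∀ w : W, δ w = k • w + w := fun w => rfl
  set Y : AddSubgroup W := δ.range with hY
  have hmemY : ∀ w : W, k • w + w ∈ Y := fun w => ⟨w, rfl⟩
  set n := orderOf k with hn
  set tr : W → W := fun w => ∑ i ∈ Finset.range n, k ^ i • w with htr
  -- the trace is fixed
  have htr_fix : ∀ w : W, k • tr w = tr w := by
    intro w
    rw [htr]
    simp only
    rw [Finset.smul_sum]
    have h1 := Finset.sum_range_succ' (fun i => k ^ i • w) n
    have h2 := Finset.sum_range_succ (fun i => k ^ i • w) n
    rw [h1] at h2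
    simp only [pow_zero, one_smul, hn, pow_orderOf_eq_one] at h2
    have h3 := add_right_cancel h2
    rw [← hn] at h3
    rw [← h3]
    apply Finset.sum_congr rfl
    intro i _
    rw [pow_succ', mul_smul]
  -- `k ^ i • w + w ∈ [W, k]`
  have hpowY : ∀ (i : ℕ) (w : W), k ^ i • w + w ∈ Y := by
    intro i w
    induction i with
    | zero =>
      rw [pow_zero, one_smul, q.hW2]
      exact Y.zero_mem
    | succ i ih =>
      have e : k ^ (i + 1) • w + w = (k • (k ^ i • w) + k ^ i • w) + (k ^ i • w + w) := by
        rw [pow_succ', mul_smul]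
        have := q.hW2 (k ^ i • w)
        calc k • k ^ i • w + w = k • k ^ i • w + (k ^ i • w + k ^ i • w) + w := by
              rw [this, add_zero]
          _ = _ := by abel
      rw [e]
      exact Y.add_mem (hmemY _) ih
  have hodd_smul : ∀ w : W, n • w = w := by
    intro w
    obtain ⟨m, hm⟩ := hkodd
    rw [hm, add_nsmul, mul_nsmul, two_nsmul, q.hW2, nsmul_zero, zero_add, one_nsmul]
  have hsumY : ∀ w : W, tr w + w ∈ Y := by
    intro w
    have : tr w + w = ∑ i ∈ Finset.range n, (k ^ i • w + w) := by
      rw [Finset.sum_add_distrib, Finset.sum_const, Finset.card_range, hodd_smul]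
    rw [this]
    exact Y.sum_mem (fun i _ => hpowY i w)
  -- orthogonality
  have horth : ∀ c : W, k • c = c → ∀ t ∈ Y, q.β c t = 0 := by
    rintro c hc _ ⟨u, rfl⟩
    rw [hδa, q.β_add_right]
    have h1 : q.β c (k • u) = q.β c u := by
      have := β_smul q hequiv k c u
      rw [hc, hkV] at this
      exact this
    rw [h1, q.hV2]
  have hYnd : Nondeg q Y := by
    intro l hl t ht hrad
    apply hnd l hl t (AddSubgroup.mem_top t)
    intro w _
    have hw : w = tr w + (tr w + w) := by
      rw [← add_assoc, q.hW2, zero_add]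
    rw [hw, q.β_add_left, map_add, horth (tr w) (htr_fix w) t ht, map_zero, zero_add]
    exact hrad _ (hsumY w)
  rcases hpiece Y hYnd with h | h
  · exfalso
    obtain ⟨w, hw⟩ := hk
    apply hw
    have h1 : k • w + w ∈ Y := hmemY w
    rw [h, AddSubgroup.mem_bot] at h1
    have := eq_neg_of_add_eq_zero_left h1
    rw [q.neg_eq_W] at this
    exact this
  · have htop : Y = ⊤ := by
      rw [← AddSubgroup.card_eq_iff_eq_top, h, hcard]
    have hsurj : Function.Surjective δ := by
      intro w
      have : w ∈ Y := by rw [htop]; exact AddSubgroup.mem_top w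
      exact this
    have hinj : Function.Injective δ := Finite.injective_iff_surjective.2 hsurj
    intro w hw
    apply hinj
    rw [map_zero, hδa, hw, q.hW2]

end Cfsg.Agent.Lib.Helper1.TIFP
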