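import Mathlib
import Cfsg.Agent.Lib.Helper1.TIDefs
import Cfsg.Agent.Lib.Helper1.TILA

set_option autoImplicit false
set_option linter.unusedVariables false
set_option linter.unusedSectionVars false
set_option linter.style.haveILetI false

/-! Package NK of S3797: no two distinct commuting involutions (on `W`) acting trivially on `V` and
normalising an odd-order group `K₀` which is trivial on `V` and non-trivial on `W`.  The statement
`no_klein_of` takes the conclusion of package FP (for the given `q`) as a hypothesis. -/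

namespace Cfsg.Agent.Lib.Helper1.TINK

open Cfsg.Agent.Lib.Helper1.TI Cfsg.Agent.Lib.Helper1.TILA

/-- an involution normalising a finite subgroup `K` and centralising no non-trivial element of it
inverts `K` -/
theorem inverts_of_centralizer_trivial {G : Type*} [Group G] (K : Subgroup G) [Finite K] (τ : G)
    (hτ2 : τ * τ = 1) (hτK : ∀ x ∈ K, τ * x * τ⁻¹ ∈ K)
    (hC : ∀ x ∈ K, τ * x = x * τ → x = 1) : ∀ x ∈ K, τ * x * τ⁻¹ = x⁻¹ := by
  -- the map `x ↦ x⁻¹ (τ x τ⁻¹)` is injective on `K`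
  set f : K → K := fun x => ⟨(x : G)⁻¹ * (τ * x * τ⁻¹), K.mul_mem (K.inv_mem x.2) (hτK x x.2)⟩
    with hf
  have hinj : Function.Injective f := by
    intro x y hxy
    have h1 : (x : G)⁻¹ * (τ * x * τ⁻¹) = (y : G)⁻¹ * (τ * y * τ⁻¹) := congrArg Subtype.val hxy
    have h2 : τ * ((y : G) * (x : G)⁻¹) = ((y : G) * (x : G)⁻¹) * τ := by
      have e1 : τ * ((y : G) * (x : G)⁻¹) * τ⁻¹ = (y : G) * ((y : G)⁻¹ * (τ * y * τ⁻¹)) *
          (τ * x * τ⁻¹)⁻¹ := by group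
      rw [← h1] at e1
      have e2 : (y : G) * ((x : G)⁻¹ * (τ * x * τ⁻¹)) * (τ * x * τ⁻¹)⁻¹ = (y : G) * (x : G)⁻¹ := by
        group
      rw [e2] at e1
      calc τ * ((y : G) * (x : G)⁻¹) = τ * ((y : G) * (x : G)⁻¹) * τ⁻¹ * τ := by group
        _ = ((y : G) * (x : G)⁻¹) * τ := by rw [e1]
    have h3 := hC _ (K.mul_mem y.2 (K.inv_mem x.2)) h2
    have h4 : (y : G) = x := mul_inv_eq_one.1 h3
    exact Subtype.ext h4.symm
  have hsurj : Function.Surjective f := Finite.injective_iff_surjective.1 hinj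
  intro u hu
  obtain ⟨x, hx⟩ := hsurj ⟨u, hu⟩
  have hu' : u = (x : G)⁻¹ * (τ * x * τ⁻¹) := (congrArg Subtype.val hx).symm
  have e : τ * u * τ⁻¹ = (τ * x * τ⁻¹)⁻¹ * ((τ * τ) * x * (τ * τ)⁻¹) := by rw [hu']; group
  rw [e, hτ2, hu']
  group

/-- NK, with the conclusion of FP for `q` as a hypothesis. -/
theorem no_klein_of {𝒩 W V : Type*} [Group 𝒩] [Finite 𝒩] [AddCommGroup W] [Finite W]
    [AddCommGroup V] [Finite V] [DistribMulAction 𝒩 W] [DistribMulAction 𝒩 V] (q : QMap W V)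
    (hequiv : ∀ (n : 𝒩) (w : W), q.sq (n • w) = n • q.sq w)
    (hfp : ∀ k : 𝒩, Odd (orderOf k) → (∀ v : V, k • v = v) → (∃ w : W, k • w ≠ w) →
      ∀ w : W, k • w = w → w = 0)
    (K₀ : Subgroup 𝒩) [K₀.Normal] (hK₀odd : Odd (Nat.card K₀))
    (hK₀V : ∀ k ∈ K₀, ∀ v : V, k • v = v) (hK₀W : ∃ k ∈ K₀, ∃ w : W, k • w ≠ w)
    (t₁ t₂ : 𝒩) (h₁V : ∀ v : V, t₁ • v = v) (h₂V : ∀ v : V, t₂ • v = v)
    (h₁2 : ∀ w : W, t₁ • t₁ • w = w) (h₂2 : ∀ w : W, t₂ • t₂ • w = w)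
    (h12 : ∀ w : W, t₁ • t₂ • w = t₂ • t₁ • w)
    (h₁ : ∃ w : W, t₁ • w ≠ w) (h₂ : ∃ w : W, t₂ • w ≠ w) (h₃ : ∃ w : W, t₁ • w ≠ t₂ • w) :
    False := by
  classical
  set φ : 𝒩 →* Equiv.Perm W := MulAction.toPermHom 𝒩 W with hφ
  have hφa : ∀ (g : 𝒩) (w : W), φ g w = g • w := fun g w => rfl
  have hφ1 : ∀ g : 𝒩, φ g = 1 ↔ ∀ w : W, g • w = w := by
    intro g
    constructor
    · intro h w
      rw [← hφa, h]; rfl
    · intro h
      ext w
      rw [hφa, h]; rfl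
  -- the key fact: an involution centralises nothing in the image of `K₀`
  have hkey : ∀ t : 𝒩, (∀ v : V, t • v = v) → (∀ w : W, t • t • w = w) → (∃ w : W, t • w ≠ w) →
      ∀ k ∈ K₀, (∀ w : W, k • t • w = t • k • w) → ∀ w : W, k • w = w := by
    intro t htV ht2 htW k hk hcomm
    by_contra hne
    have hkW : ∃ w : W, k • w ≠ w := by
      by_contra h
      apply hne
      intro w
      by_contra h'
      exact h ⟨w, h'⟩
    have hkodd : Odd (orderOf k) := by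
      have h1 : orderOf (⟨k, hk⟩ : K₀) ∣ Nat.card K₀ := orderOf_dvd_natCard _
      rw [Subgroup.orderOf_mk] at h1
      exact Odd.of_dvd_nat hK₀odd h1
    have hfpf := hfp k hkodd (hK₀V k hk) hkW
    have h2 := trivial_of_commute_fpf q hequiv t k htV (hK₀V k hk) ht2 hcomm hfpf
    obtain ⟨w, hw⟩ := htW
    exact hw (h2 w)
  set K : Subgroup (Equiv.Perm W) := K₀.map φ with hKdef
  have hnorm : ∀ t : 𝒩, ∀ x ∈ K, φ t * x * (φ t)⁻¹ ∈ K := by
    rintro t _ ⟨k, hk, rfl⟩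
    refine ⟨t * k * t⁻¹, Subgroup.Normal.conj_mem inferInstance k hk t, ?_⟩
    rw [map_mul, map_mul, map_inv]
  have hC : ∀ t : 𝒩, (∀ v : V, t • v = v) → (∀ w : W, t • t • w = w) → (∃ w : W, t • w ≠ w) →
      ∀ x ∈ K, φ t * x = x * φ t → x = 1 := by
    rintro t htV ht2 htW _ ⟨k, hk, rfl⟩ hcomm
    rw [hφ1]
    apply hkey t htV ht2 htW k hk
    intro w
    have h1 := congrArg (fun σ : Equiv.Perm W => σ w) hcomm
    simp only [Equiv.Perm.mul_apply, hφa] at h1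
    exact h1.symm
  have hsq : ∀ t : 𝒩, (∀ w : W, t • t • w = w) → φ t * φ t = 1 := by
    intro t ht2
    ext w
    rw [Equiv.Perm.mul_apply, hφa, hφa, ht2]; rfl
  have hinv₁ := inverts_of_centralizer_trivial K (φ t₁) (hsq t₁ h₁2) (hnorm t₁) (hC t₁ h₁V h₁2 h₁)
  have hinv₂ := inverts_of_centralizer_trivial K (φ t₂) (hsq t₂ h₂2) (hnorm t₂) (hC t₂ h₂V h₂2 h₂)
  -- the product
  have h122 : ∀ w : W, (t₁ * t₂) • (t₁ * t₂) • w = w := by
    intro w
    rw [mul_smul, mul_smul, ← h12 (t₂ • w), h₂2, h₁2]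
  have h12V : ∀ v : V, (t₁ * t₂) • v = v := by
    intro v
    rw [mul_smul, h₂V, h₁V]
  have h12W : ∃ w : W, (t₁ * t₂) • w ≠ w := by
    obtain ⟨w, hw⟩ := h₃
    refine ⟨t₂ • w, ?_⟩
    rw [mul_smul, h₂2]
    exact hw
  have hC12 := hC (t₁ * t₂) h12V h122 h12W
  obtain ⟨k, hk, w, hw⟩ := hK₀W
  have hxK : φ k ∈ K := Subgroup.mem_map_of_mem φ hk
  have hx1 : φ k ≠ 1 := by
    intro h
    exact hw ((hφ1 k).1 h w)
  apply hx1
  apply hC12 _ hxK
  have e1 := hinv₂ _ hxK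
  have e2 := hinv₁ _ (K.inv_mem hxK)
  rw [inv_inv] at e2
  rw [map_mul]
  calc φ t₁ * φ t₂ * φ k = φ t₁ * (φ t₂ * φ k * (φ t₂)⁻¹) * (φ t₁)⁻¹ * (φ t₁ * φ t₂) := by group
    _ = φ k * (φ t₁ * φ t₂) := by rw [e1, e2]

end Cfsg.Agent.Lib.Helper1.TINK
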