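import Mathlib
import Cfsg.Agent.Lib.Helper1.TISp5
import Cfsg.Agent.Lib.Lead.TISp_CNT

set_option autoImplicit false
set_option linter.unusedSectionVars false

/-!
# S5955: the derangements for the third condition and the necessity of the conditions
-/

namespace Cfsg.Agent.Lib.Helper1.TISp

open Module Polynomial Cfsg.Agent.H9SemiInv Cfsg.Agent.Lib.Helper9.H9Elus
  Cfsg.Agent.Lib.Helper2.SpIsom Cfsg.Agent.Lib.Helper1.SpBlk

universe u

section finite
variable {F : Type u} [Field F] [Fintype F] {p : ℕ} [Fact p.Prime] [CharP F p]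

theorem order_dvd_pred (r : ℕ) [Fact r.Prime] (hrp : r ≠ p) :
    orderOf ((Fintype.card F : ℕ) : ZMod r) ∣ r - 1 :=
  orderOf_dvd_of_pow_eq_one (ZMod.pow_card_sub_one_eq_one (natCast_card_ne_zero r hrp))

/-- **DER2**: derangements when the third condition fails -/
theorem exists_not_fixTI_of_not_C (r : ℕ) [Fact r.Prime] (hrp : r ≠ p) (d m : ℕ)
    {h : ℕ} (hh : 1 ≤ h) (hi : orderOf ((Fintype.card F : ℕ) : ZMod r) = 2 * h)
    (g : Fin ((r - 1) / (2 * h)) → F[X]) (hg : ∀ l, g l ∣ cyclotomic r F)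
    (hcop : ∀ l l', l ≠ l' → IsCoprime (g l) (g l')) (hb : ∀ l, BlockModel F r h (g l))
    (him : 2 * h ≤ m) (hmd : m ≤ d)
    (hnC : (2 * d) / (2 * h) < (r - 1) / (2 * h) + 2 * (m / (2 * h))) :
    ∃ x : Matrix.symplecticGroup (Fin d) F, x ^ r = 1 ∧
      ¬ FixTI (sympBilin d F)
        (Matrix.toLin' (x : Matrix (Fin d ⊕ Fin d) (Fin d ⊕ Fin d) F)) m := by
  have hrprime : r.Prime := Fact.out
  have hpos : 0 < 2 * h := by omega
  have hdvd : 2 * h ∣ r - 1 := by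
    rw [← hi]
    exact order_dvd_pred r hrp
  have ht : 1 ≤ (r - 1) / (2 * h) :=
    Nat.div_pos (Nat.le_of_dvd (by have := hrprime.two_le; omega) hdvd) hpos
  have hm' : 1 ≤ m / (2 * h) := Nat.div_pos him hpos
  have hmm : 2 * h * (m / (2 * h)) ≤ m := Nat.mul_div_le m (2 * h)
  have hdm := Nat.div_add_mod (2 * d) (2 * h)
  have hklt : (2 * d) % (2 * h) < 2 * h := Nat.mod_lt _ hpos
  have hn2 : 2 ≤ (2 * d) / (2 * h) := (Nat.le_div_iff_mul_le hpos).2 (by omega)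
  have hkev : 2 * ((2 * d) % (2 * h) / 2) = (2 * d) % (2 * h) := by
    have e : 2 * h * ((2 * d) / (2 * h)) = 2 * (h * ((2 * d) / (2 * h))) := by ring
    omega
  -- the general construction
  have key : ∀ ntriv a₀ s : ℕ, 1 ≤ a₀ → 1 ≤ s → s ≤ (r - 1) / (2 * h) →
      2 * ntriv + (2 * h) * (a₀ + s - 1) = 2 * d → ntriv < 2 * h → a₀ / 2 ≤ m / (2 * h) - 1 →
      ∃ x : Matrix.symplecticGroup (Fin d) F, x ^ r = 1 ∧
        ¬ FixTI (sympBilin d F)
          (Matrix.toLin' (x : Matrix (Fin d ⊕ Fin d) (Fin d ⊕ Fin d) F)) m := by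
    intro ntriv a₀ s ha₀ hs1 hst hdim hnt hbd
    obtain ⟨P, -, hM⟩ := exists_chain r hrp hi g hg hcop hb ntriv a₀ ha₀ s hs1 hst
    rw [hdim] at hM
    obtain ⟨W, i1, i2, i3, B, T, hB, hnd, hfin, hT, hTr, -, hbound⟩ := hM
    apply exists_not_fixTI_of_model B hB hnd hfin T hT r hTr m
    intro Z hZ hti hZm
    have h1 := hbound Z hZ hti
    have h2 : 2 * h * (a₀ / 2) ≤ 2 * h * (m / (2 * h) - 1) := Nat.mul_le_mul_left _ hbd
    have h3 : 2 * h * (m / (2 * h) - 1) = 2 * h * (m / (2 * h)) - 2 * h := by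
      rw [Nat.mul_sub, mul_one]
    have h4 : 2 * h * 1 ≤ 2 * h * (m / (2 * h)) := Nat.mul_le_mul_left _ hm'
    omega
  by_cases h1 : (2 * d) / (2 * h) ≤ (r - 1) / (2 * h)
  · apply key ((2 * d) % (2 * h) / 2) 1 ((2 * d) / (2 * h)) le_rfl (by omega) h1 ?_ (by omega)
      (by omega)
    have e1 : 1 + (2 * d) / (2 * h) - 1 = (2 * d) / (2 * h) := by omega
    rw [e1]
    omega
  · push Not at h1
    by_cases hpar : Even ((2 * d) / (2 * h) - (r - 1) / (2 * h))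
    · obtain ⟨c, hc⟩ := hpar
      apply key ((2 * d) % (2 * h) / 2) ((2 * d) / (2 * h) - (r - 1) / (2 * h) + 1)
        ((r - 1) / (2 * h)) (by omega) ht le_rfl ?_ (by omega) (by omega)
      have e1 : (2 * d) / (2 * h) - (r - 1) / (2 * h) + 1 + (r - 1) / (2 * h) - 1 =
          (2 * d) / (2 * h) := by omega
      rw [e1]
      omega
    · obtain ⟨c, hc⟩ := Nat.not_even_iff_odd.1 hpar
      apply key ((2 * d) % (2 * h) / 2 + h) ((2 * d) / (2 * h) - (r - 1) / (2 * h))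
        ((r - 1) / (2 * h)) (by omega) ht le_rfl ?_ (by omega) (by omega)
      have e1 : (2 * d) / (2 * h) - (r - 1) / (2 * h) + (r - 1) / (2 * h) - 1 =
          (2 * d) / (2 * h) - 1 := by omega
      have e2 : 2 * h * ((2 * d) / (2 * h) - 1) = 2 * h * ((2 * d) / (2 * h)) - 2 * h := by
        rw [Nat.mul_sub, mul_one]
      have e3 : 2 * h * 2 ≤ 2 * h * ((2 * d) / (2 * h)) := Nat.mul_le_mul_left _ hn2
      rw [e1, e2]
      omega

/-- the necessity of the three conditions (odd `r ≠ p`) -/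
theorem cond_of_forall_fixTI (r : ℕ) [Fact r.Prime] (hrp : r ≠ p) (hr2 : r ≠ 2) (d m : ℕ)
    (hmd : m ≤ d)
    (hrΩ : r ∣ Nat.card {W : Submodule F (Fin d ⊕ Fin d → F) // finrank F ↥W = m ∧
      (∀ u ∈ W, ∀ v ∈ W, Cfsg.sympForm d F u v = 0)})
    (hcls : ∀ h : ℕ, 1 ≤ h → orderOf ((Fintype.card F : ℕ) : ZMod r) = 2 * h →
      ∃ g : Fin ((r - 1) / (2 * h)) → F[X], (∀ l, g l ∣ cyclotomic r F) ∧
        (∀ l l', l ≠ l' → IsCoprime (g l) (g l')) ∧ ∀ l, BlockModel F r h (g l))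
    (H : ∀ x : Matrix.symplecticGroup (Fin d) F, x ^ r = 1 →
      FixTI (sympBilin d F) (Matrix.toLin' (x : Matrix (Fin d ⊕ Fin d) (Fin d ⊕ Fin d) F)) m) :
    orderOf ((Fintype.card F : ℕ) : ZMod r) ≤ m ∧
    2 * (m % orderOf ((Fintype.card F : ℕ) : ZMod r)) ≤
      (2 * d) % blockDim (orderOf ((Fintype.card F : ℕ) : ZMod r)) ∧
    (Odd (orderOf ((Fintype.card F : ℕ) : ZMod r)) ∨
      (r - 1) / orderOf ((Fintype.card F : ℕ) : ZMod r) +
        2 * (m / orderOf ((Fintype.card F : ℕ) : ZMod r)) ≤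
        (2 * d) / orderOf ((Fintype.card F : ℕ) : ZMod r)) := by
  have hrprime : r.Prime := Fact.out
  have hipos := order_pos (F := F) r hrp
  obtain ⟨j, hjm, hj⟩ := exists_dvd_of_dvd_card_ti (F := F) (p := p) d m hmd r hrprime hrp hrΩ
  have hij : orderOf ((Fintype.card F : ℕ) : ZMod r) ∣ 2 * (d - j) :=
    (dvd_pow_sub_one_iff r (Fintype.card F) (2 * (d - j)) Fintype.card_pos).1 hj
  obtain ⟨e, he⟩ := blockDim_dvd_of_dvd _ _ hij
  have h2d : 2 * d = 2 * j + blockDim (orderOf ((Fintype.card F : ℕ) : ZMod r)) * e := by omega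
  have hmod : (2 * d) % blockDim (orderOf ((Fintype.card F : ℕ) : ZMod r)) ≤ 2 * j := by
    rw [h2d, Nat.add_mul_mod_self_left]
    exact Nat.mod_le _ _
  have hB : 2 * (m % orderOf ((Fintype.card F : ℕ) : ZMod r)) ≤
      (2 * d) % blockDim (orderOf ((Fintype.card F : ℕ) : ZMod r)) := by
    by_contra hcon
    push Not at hcon
    obtain ⟨x, hxr, hx⟩ := exists_not_fixTI_of_not_B (F := F) (d := d) r hrp hr2 m hcon
    exact hx (H x hxr)
  have hA : orderOf ((Fintype.card F : ℕ) : ZMod r) ≤ m := by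
    by_contra hcon
    push Not at hcon
    rw [Nat.mod_eq_of_lt hcon] at hB
    omega
  refine ⟨hA, hB, ?_⟩
  by_contra hcon
  push Not at hcon
  obtain ⟨hnodd, hnC⟩ := hcon
  obtain ⟨h, hh⟩ := Nat.not_odd_iff_even.1 hnodd
  have hi : orderOf ((Fintype.card F : ℕ) : ZMod r) = 2 * h := by omega
  obtain ⟨g, hg, hcop, hb⟩ := hcls h (by omega) hi
  rw [hi] at hnC hA
  obtain ⟨x, hxr, hx⟩ := exists_not_fixTI_of_not_C (F := F) r hrp d m (by omega) hi g hg hcop hb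
    hA hmd hnC
  exact hx (H x hxr)

end finite

end Cfsg.Agent.Lib.Helper1.TISp
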