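import Mathlib
import Cfsg.Agent.Lib.Helper1.TISp5
import Cfsg.Agent.Lib.Helper5.SylTor5

set_option autoImplicit false
set_option linter.unusedSectionVars false

/-!
# S5955, PK-CLS: the `(r - 1) / i` classes of one-block isometries (`i` even)
-/

namespace Cfsg.Agent.Lib.Helper1.TISp

open Module Polynomial Cfsg.Agent.H9SemiInv Cfsg.Agent.Lib.Helper9.H9Elus
  Cfsg.Agent.Lib.Helper2.SpIsom Cfsg.Agent.Lib.Helper1.SpBlk Cfsg.Agent.Lib.Helper5.SylTor

universe u

section lift
variable {F : Type u} [Field F] [Fintype F]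

/-- a model living in `Type` gives a `BlockModel` in the universe of `F` -/
theorem blockModel_of_model {W₀ : Type} [AddCommGroup W₀] [Module F W₀] [FiniteDimensional F W₀]
    (B₀ : LinearMap.BilinForm F W₀) (T₀ : W₀ →ₗ[F] W₀) (hB₀ : B₀.IsAlt)
    (hnd₀ : ∀ x, (∀ y, B₀ x y = 0) → x = 0) {h : ℕ} (hfin₀ : finrank F W₀ = 2 * h)
    (hT₀ : ∀ x y, B₀ (T₀ x) (T₀ y) = B₀ x y) {r : ℕ} (hTr₀ : T₀ ^ r = 1) {g : F[X]}
    (hg₀ : aeval T₀ g = 0) : BlockModel F r h g := by
  have hnd₂ : ∀ x : Fin 0 ⊕ Fin 0 → F, (∀ y, sympBilin 0 F x y = 0) → x = 0 := by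
    intro x hx
    apply sympForm_nondeg x
    intro y
    rw [← sympBilin_apply]
    exact hx y
  refine ⟨W₀ × (Fin 0 ⊕ Fin 0 → F), inferInstance, inferInstance, inferInstance,
    prodForm B₀ (sympBilin 0 F), T₀.prodMap 1, prodForm_isAlt hB₀ sympBilin_isAlt,
    prodForm_nondeg hnd₀ hnd₂, ?_, prodForm_isom hT₀ (fun _ _ => rfl),
    prodMap_pow_eq_one hTr₀ (one_pow r), ?_⟩
  · rw [Module.finrank_prod, hfin₀, finrank_std]
    omega
  · rw [aeval_prodMap, hg₀]
    apply LinearMap.ext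
    intro x
    apply Prod.ext
    · rfl
    · funext j
      rcases j with j | j <;> exact j.elim0

end lift

section cls
variable {F : Type u} [Field F] [Fintype F] {p : ℕ} [Fact p.Prime] [CharP F p]

theorem nsForm_mul {L : Type*} [Field L] [Finite L] [Algebra F L] (e : ℕ) (ε a : L)
    (ha : a * sig F L e a = 1) (x y : L) :
    nsForm (F := F) e ε (a * x) (a * y) = nsForm (F := F) e ε x y := by
  simp only [nsForm_apply, map_mul]
  have h1 : ε * (a * x) * (sig F L e a * sig F L e y) =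
      (a * sig F L e a) * (ε * x * sig F L e y) := by ring
  rw [h1, ha, one_mul]

theorem exists_classes_aux {L : Type} [Field L] [Fintype L] [Algebra F L]
    (r : ℕ) [Fact r.Prime] (h : ℕ) (hh : 1 ≤ h)
    (hi : orderOf ((Fintype.card F : ℕ) : ZMod r) = 2 * h) (hfin : finrank F L = 2 * h) :
    ∃ g : Fin ((r - 1) / (2 * h)) → F[X], (∀ l, g l ∣ cyclotomic r F) ∧
      (∀ l l', l ≠ l' → IsCoprime (g l) (g l')) ∧ ∀ l, BlockModel F r h (g l) := by
  classical
  have hrprime : r.Prime := Fact.out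
  have hrq : r ∣ Fintype.card F ^ h + 1 :=
    dvd_pow_add_one_of_orderOf r (Fintype.card F) h (by omega) hi
  have _ifd : FiniteDimensional F L := Module.Finite.of_finite
  have hq1 : 1 ≤ Fintype.card F ^ h := Nat.one_le_pow _ _ Fintype.card_pos
  have hLcard : Nat.card L = Fintype.card F ^ (2 * h) := by
    rw [Module.natCard_eq_pow_finrank (K := F) (V := L), hfin, Nat.card_eq_fintype_card]
  have hunits : Nat.card Lˣ = (Fintype.card F ^ h - 1) * (Fintype.card F ^ h + 1) := by
    rw [Nat.card_units, hLcard, two_mul, pow_add]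
    have h2 : 1 ≤ Fintype.card F ^ h * Fintype.card F ^ h := Nat.mul_pos hq1 hq1
    zify [hq1, h2]
    ring
  have hrdvd : r ∣ Nat.card Lˣ := by
    rw [hunits]
    exact hrq.mul_left _
  obtain ⟨ζ, hζ⟩ := exists_prime_orderOf_dvd_card' r hrdvd
  have hord : orderOf ((ζ : Lˣ) : L) = r := by rw [orderOf_units, hζ]
  have har : ((ζ : Lˣ) : L) ^ r = 1 := by
    rw [← hord]
    exact pow_orderOf_eq_one _
  have hnorm : ((ζ : Lˣ) : L) * sig F L h ((ζ : Lˣ) : L) = 1 := by
    obtain ⟨k, hk⟩ := hrq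
    rw [sig_apply, ← pow_succ', hk, pow_mul, har, one_pow]
  obtain ⟨ε, hε0, hε⟩ := exists_eps (F := F) (L := L) hh hfin
  have hnorme : ∀ e : ℕ, ((ζ : Lˣ) : L) ^ e * sig F L h (((ζ : Lˣ) : L) ^ e) = 1 := by
    intro e
    rw [map_pow, ← mul_pow, hnorm, one_pow]
  -- the polynomials
  have hint : ∀ x : L, IsIntegral F x := fun x => Algebra.IsIntegral.isIntegral x
  have hne1 : ∀ e : ℕ, 1 ≤ e → e ≤ r - 1 → ((ζ : Lˣ) : L) ^ e ≠ 1 := by
    intro e he1 he2 h1
    have h2 := orderOf_dvd_of_pow_eq_one h1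
    rw [hord] at h2
    have := Nat.le_of_dvd (by omega) h2
    have := hrprime.two_le
    omega
  have hdvdcyc : ∀ e : ℕ, 1 ≤ e → e ≤ r - 1 →
      minpoly F (((ζ : Lˣ) : L) ^ e) ∣ cyclotomic r F := by
    intro e he1 he2
    have h1 : minpoly F (((ζ : Lˣ) : L) ^ e) ∣ cyclotomic r F * (X - 1) := by
      rw [cyclotomic_prime_mul_X_sub_one]
      apply minpoly.dvd
      rw [map_sub, map_pow, aeval_X, map_one, ← pow_mul, mul_comm e r, pow_mul, har, one_pow,
        sub_self]
    rcases (minpoly.prime (hint _)).dvd_or_dvd h1 with h2 | h2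
    · exact h2
    · exfalso
      obtain ⟨c, hc⟩ := h2
      have h3 := congrArg (aeval (((ζ : Lˣ) : L) ^ e)) hc
      rw [map_sub, aeval_X, map_one, map_mul, minpoly.aeval, zero_mul, sub_eq_zero] at h3
      exact hne1 e he1 he2 h3
  have hcard : r - 1 ≤ 2 * h *
      ((Finset.Icc 1 (r - 1)).image (fun e => minpoly F (((ζ : Lˣ) : L) ^ e))).card := by
    have h1 := Finset.card_le_mul_card_image (f := fun e => minpoly F (((ζ : Lˣ) : L) ^ e))
      (Finset.Icc 1 (r - 1)) (2 * h) ?_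
    · rw [Nat.card_Icc] at h1
      omega
    · intro b hb
      obtain ⟨e₀, -, rfl⟩ := Finset.mem_image.1 hb
      have hb0 : minpoly F (((ζ : Lˣ) : L) ^ e₀) ≠ 0 := minpoly.ne_zero (hint _)
      have hdeg : (minpoly F (((ζ : Lˣ) : L) ^ e₀)).natDegree ≤ 2 * h := by
        exact (minpoly.natDegree_le _).trans hfin.le
      have h2 : ((minpoly F (((ζ : Lˣ) : L) ^ e₀)).aroots L).toFinset.card ≤ 2 * h := by
        refine (Multiset.toFinset_card_le _).trans ?_
        refine (Polynomial.card_roots' _).trans ?_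
        rw [natDegree_map]
        exact hdeg
      refine le_trans ?_ h2
      apply Finset.card_le_card_of_injOn (fun e => ((ζ : Lˣ) : L) ^ e)
      · intro e he
        rw [Finset.mem_coe, Finset.mem_filter] at he
        rw [Finset.mem_coe, Multiset.mem_toFinset, mem_aroots]
        refine ⟨hb0, ?_⟩
        rw [← he.2]
        exact minpoly.aeval F _
      · intro e he e' he'
        rw [Finset.mem_coe, Finset.mem_filter, Finset.mem_Icc] at he he'
        intro hee
        apply pow_injOn_Iio_orderOf (x := ((ζ : Lˣ) : L))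
        · rw [Set.mem_Iio, hord]
          have := hrprime.two_le
          omega
        · rw [Set.mem_Iio, hord]
          have := hrprime.two_le
          omega
        · exact hee
  have ht : (r - 1) / (2 * h) ≤
      ((Finset.Icc 1 (r - 1)).image (fun e => minpoly F (((ζ : Lˣ) : L) ^ e))).card :=
    Nat.div_le_of_le_mul hcard
  obtain ⟨φ⟩ : Nonempty (Fin ((r - 1) / (2 * h)) ↪
      ↥((Finset.Icc 1 (r - 1)).image (fun e => minpoly F (((ζ : Lˣ) : L) ^ e)))) :=
    Function.Embedding.nonempty_of_card_le (by rw [Fintype.card_fin, Fintype.card_coe]; exact ht)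
  have hS : ∀ l, ∃ e, 1 ≤ e ∧ e ≤ r - 1 ∧ minpoly F (((ζ : Lˣ) : L) ^ e) = (φ l : F[X]) := by
    intro l
    obtain ⟨e, he, hfe⟩ := Finset.mem_image.1 (φ l).2
    rw [Finset.mem_Icc] at he
    exact ⟨e, he.1, he.2, hfe⟩
  refine ⟨fun l => (φ l : F[X]), ?_, ?_, ?_⟩
  · intro l
    obtain ⟨e, he1, he2, hfe⟩ := hS l
    show (φ l : F[X]) ∣ cyclotomic r F
    rw [← hfe]
    exact hdvdcyc e he1 he2
  · intro l l' hll
    obtain ⟨e, he1, he2, hfe⟩ := hS l
    obtain ⟨e', he1', he2', hfe'⟩ := hS l'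
    show IsCoprime (φ l : F[X]) (φ l' : F[X])
    have hne : (φ l : F[X]) ≠ (φ l' : F[X]) := fun h0 => hll (φ.injective (Subtype.ext h0))
    rw [← hfe, ← hfe'] at hne ⊢
    rw [(minpoly.irreducible (hint _)).coprime_iff_not_dvd]
    intro hdvd
    apply hne
    apply eq_of_monic_of_associated (minpoly.monic (hint _)) (minpoly.monic (hint _))
    exact (minpoly.irreducible (hint _)).associated_of_dvd (minpoly.irreducible (hint _)) hdvd
  · intro l
    obtain ⟨e, he1, he2, hfe⟩ := hS l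
    show BlockModel F r h (φ l : F[X])
    rw [← hfe]
    apply blockModel_of_model (nsForm (F := F) h ε) (Algebra.lmul F L (((ζ : Lˣ) : L) ^ e))
      (nsForm_isAlt hfin hε) (nsForm_nondeg hε0) hfin
    · intro x y
      exact nsForm_mul h ε _ (hnorme e) x y
    · rw [← map_pow, ← pow_mul, mul_comm e r, pow_mul, har, one_pow, map_one]
    · rw [aeval_algHom_apply, minpoly.aeval, map_zero]

set_option linter.unusedVariables false in
theorem exists_classes (r : ℕ) [Fact r.Prime] (hrp : r ≠ p) (hr2 : r ≠ 2) (h : ℕ) (hh : 1 ≤ h)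
    (hi : orderOf ((Fintype.card F : ℕ) : ZMod r) = 2 * h) :
    ∃ g : Fin ((r - 1) / (2 * h)) → F[X], (∀ l, g l ∣ cyclotomic r F) ∧
      (∀ l l', l ≠ l' → IsCoprime (g l) (g l')) ∧ ∀ l, BlockModel F r h (g l) := by
  have _inz : NeZero (2 * h) := ⟨by omega⟩
  have _ifin : Fintype (FiniteField.Extension F p (2 * h)) := Fintype.ofFinite _
  exact exists_classes_aux (L := FiniteField.Extension F p (2 * h)) r h hh hi
    (FiniteField.finrank_extension F p (2 * h))

end cls

end Cfsg.Agent.Lib.Helper1.TISp
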