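import Mathlib
import Cfsg.Agent.Lib.Helper6.TSU0
import Cfsg.Agent.Lib.Helper9.Elus2
import Cfsg.Agent.Lib.Helper2.WittHerm

set_option autoImplicit false
set_option linter.unusedSectionVars false

/-! S5953 package PK-PROD: orthogonal sums of hermitian models. -/

namespace Cfsg.Agent.Lib.Helper6.TSU

open Module Polynomial Cfsg.Agent.H9SemiInv Cfsg.Agent.Lib.Helper9.H9Elus
  Cfsg.Agent.Lib.Helper1.SpBlk Cfsg.Agent.Lib.Helper9.UPol Cfsg.Agent.Lib.Helper5.PSLCoset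

universe u

section prodgen
variable {F : Type*} [Field F] {σ : F ≃+* F} {W₁ W₂ : Type*} [AddCommGroup W₁] [Module F W₁]
  [AddCommGroup W₂] [Module F W₂]

/-- the orthogonal sum of two sesquilinear forms -/
def hprodForm (H₁ : W₁ → W₁ → F) (H₂ : W₂ → W₂ → F) : W₁ × W₂ → W₁ × W₂ → F :=
  fun x y => H₁ x.1 y.1 + H₂ x.2 y.2

theorem hprodForm_apply (H₁ : W₁ → W₁ → F) (H₂ : W₂ → W₂ → F) (x y : W₁ × W₂) :
    hprodForm H₁ H₂ x y = H₁ x.1 y.1 + H₂ x.2 y.2 := rfl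

variable {H₁ : W₁ → W₁ → F} {H₂ : W₂ → W₂ → F} {T₁ : W₁ →ₗ[F] W₁} {T₂ : W₂ →ₗ[F] W₂}

theorem hprodForm_isHerm (h₁ : IsHerm σ H₁) (h₂ : IsHerm σ H₂) :
    IsHerm σ (hprodForm H₁ H₂) := by
  refine ⟨?_, ?_, ?_⟩
  · intro u v w
    simp only [hprodForm_apply, Prod.fst_add, Prod.snd_add]
    rw [h₁.add_left, h₂.add_left]
    ring
  · intro a v w
    simp only [hprodForm_apply, Prod.smul_fst, Prod.smul_snd]
    rw [h₁.smul_left, h₂.smul_left]
    ring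
  · intro v w
    simp only [hprodForm_apply]
    rw [map_add, ← h₁.symm, ← h₂.symm]

theorem hprodForm_nondeg (h₁ : IsHerm σ H₁) (h₂ : IsHerm σ H₂)
    (hn₁ : ∀ v, (∀ w, H₁ v w = 0) → v = 0) (hn₂ : ∀ v, (∀ w, H₂ v w = 0) → v = 0) :
    ∀ v, (∀ w, hprodForm H₁ H₂ v w = 0) → v = 0 := by
  intro x hx
  have e1 : x.1 = 0 := by
    apply hn₁
    intro y
    have := hx (y, 0)
    simp only [hprodForm_apply, h₂.zero_right, add_zero] at this
    exact this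
  have e2 : x.2 = 0 := by
    apply hn₂
    intro y
    have := hx (0, y)
    simp only [hprodForm_apply, h₁.zero_right, zero_add] at this
    exact this
  exact Prod.ext e1 e2

theorem hprodForm_isom (hT₁ : ∀ x y, H₁ (T₁ x) (T₁ y) = H₁ x y)
    (hT₂ : ∀ x y, H₂ (T₂ x) (T₂ y) = H₂ x y) (x y : W₁ × W₂) :
    hprodForm H₁ H₂ (T₁.prodMap T₂ x) (T₁.prodMap T₂ y) = hprodForm H₁ H₂ x y := by
  rw [hprodForm_apply, hprodForm_apply]
  show H₁ (T₁ x.1) (T₁ y.1) + H₂ (T₂ x.2) (T₂ y.2) = _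
  rw [hT₁, hT₂]

theorem hprod_pow (T₁ : W₁ →ₗ[F] W₁) (T₂ : W₂ →ₗ[F] W₂) (k : ℕ) :
    (T₁.prodMap T₂) ^ k = (T₁ ^ k).prodMap (T₂ ^ k) := by
  induction k with
  | zero => rfl
  | succ k ih => rw [pow_succ, ih, pow_succ, pow_succ, LinearMap.prodMap_mul]

theorem hprod_pow_eq_one {r : ℕ} (h₁ : T₁ ^ r = 1) (h₂ : T₂ ^ r = 1) :
    (T₁.prodMap T₂) ^ r = 1 := by
  rw [hprod_pow, h₁, h₂]
  rfl

theorem hprod_aeval (T₁ : W₁ →ₗ[F] W₁) (T₂ : W₂ →ₗ[F] W₂) (P : F[X]) :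
    aeval (T₁.prodMap T₂) P = (aeval T₁ P).prodMap (aeval T₂ P) := by
  have h1 := aeval_algHom_apply (LinearMap.prodMapAlgHom F W₁ W₂)
    ((T₁, T₂) : Module.End F W₁ × Module.End F W₂) P
  rw [aeval_prod_apply] at h1
  exact h1

theorem hprod_fixE (T₁ : W₁ →ₗ[F] W₁) (T₂ : W₂ →ₗ[F] W₂) :
    fixE (T₁.prodMap T₂) = (fixE T₁).prod (fixE T₂) := by
  unfold fixE
  rw [hprod_aeval, LinearMap.ker_prodMap]

theorem hprod_movK (r : ℕ) (T₁ : W₁ →ₗ[F] W₁) (T₂ : W₂ →ₗ[F] W₂) :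
    movK r (T₁.prodMap T₂) = (movK r T₁).prod (movK r T₂) := by
  unfold movK
  rw [hprod_aeval, LinearMap.ker_prodMap]

/-- the product of two submodules is linearly equivalent to the product type -/
def hprodSubEquiv (p : Submodule F W₁) (q : Submodule F W₂) : ↥(p.prod q) ≃ₗ[F] (p × q) where
  toFun x := (⟨x.1.1, x.2.1⟩, ⟨x.1.2, x.2.2⟩)
  invFun y := ⟨(y.1.1, y.2.1), ⟨y.1.2, y.2.2⟩⟩
  map_add' _ _ := rfl
  map_smul' _ _ := rfl
  left_inv _ := rfl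
  right_inv _ := rfl

variable [FiniteDimensional F W₁] [FiniteDimensional F W₂]

theorem hprod_finrank_sub (p : Submodule F W₁) (q : Submodule F W₂) :
    finrank F ↥(p.prod q) = finrank F p + finrank F q := by
  rw [(hprodSubEquiv p q).finrank_eq, Module.finrank_prod]

theorem hprod_fst_mem {P₁ P₂ : F[X]} (hcop : IsCoprime P₁ P₂) {r : ℕ}
    (h₁ : ∀ w ∈ movK r T₁, aeval T₁ P₁ w = 0) (h₂ : ∀ w ∈ movK r T₂, aeval T₂ P₂ w = 0)
    {U : Submodule F (W₁ × W₂)} (hU : Inv (T₁.prodMap T₂) U)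
    (hUK : U ≤ movK r (T₁.prodMap T₂)) {v : W₁ × W₂} (hv : v ∈ U) :
    ((v.1, 0) : W₁ × W₂) ∈ U := by
  obtain ⟨a, b, hab⟩ := hcop
  have hE := Inv.aeval hU (b * P₂) v hv
  rw [hprod_aeval] at hE
  have hvK := hUK hv
  rw [hprod_movK, Submodule.mem_prod] at hvK
  have e1 : aeval T₁ (b * P₂) v.1 = v.1 := by
    have h3 : b * P₂ = 1 - a * P₁ := by rw [← hab]; ring
    rw [h3, map_sub, map_one, map_mul, LinearMap.sub_apply, Module.End.one_apply,
      Module.End.mul_apply, h₁ _ hvK.1, map_zero, sub_zero]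
  have e2 : aeval T₂ (b * P₂) v.2 = 0 := by
    rw [map_mul, Module.End.mul_apply, h₂ _ hvK.2, map_zero]
  have e3 : ((aeval T₁ (b * P₂)).prodMap (aeval T₂ (b * P₂))) v = (v.1, 0) := Prod.ext e1 e2
  rwa [e3] at hE

theorem hprod_snd_mem {P₁ P₂ : F[X]} (hcop : IsCoprime P₁ P₂) {r : ℕ}
    (h₁ : ∀ w ∈ movK r T₁, aeval T₁ P₁ w = 0) (h₂ : ∀ w ∈ movK r T₂, aeval T₂ P₂ w = 0)
    {U : Submodule F (W₁ × W₂)} (hU : Inv (T₁.prodMap T₂) U)
    (hUK : U ≤ movK r (T₁.prodMap T₂)) {v : W₁ × W₂} (hv : v ∈ U) :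
    ((0, v.2) : W₁ × W₂) ∈ U := by
  have h3 := U.sub_mem hv (hprod_fst_mem hcop h₁ h₂ hU hUK hv)
  have h4 : v - (v.1, 0) = ((0, v.2) : W₁ × W₂) := by
    apply Prod.ext <;> simp
  rwa [h4] at h3

/-- an invariant totally singular subspace of the moved part of a product with coprime
annihilators is trivial as soon as this holds in both factors -/
theorem hprod_ts_eq_bot {P₁ P₂ : F[X]} (hcop : IsCoprime P₁ P₂) {r : ℕ}
    (h₁ : ∀ w ∈ movK r T₁, aeval T₁ P₁ w = 0) (h₂ : ∀ w ∈ movK r T₂, aeval T₂ P₂ w = 0)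
    (ha₁ : IsHerm σ H₁) (ha₂ : IsHerm σ H₂)
    (hb₁ : ∀ U : Submodule F W₁, U ≤ movK r T₁ → Inv T₁ U → TS H₁ U → U = ⊥)
    (hb₂ : ∀ U : Submodule F W₂, U ≤ movK r T₂ → Inv T₂ U → TS H₂ U → U = ⊥)
    (U : Submodule F (W₁ × W₂)) (hUK : U ≤ movK r (T₁.prodMap T₂))
    (hU : Inv (T₁.prodMap T₂) U) (hts : TS (hprodForm H₁ H₂) U) : U = ⊥ := by
  have hU1 : U.comap (LinearMap.inl F W₁ W₂) = ⊥ := by
    apply hb₁
    · intro v hv
      rw [Submodule.mem_comap] at hv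
      have h3 := hUK hv
      rw [hprod_movK, Submodule.mem_prod] at h3
      exact h3.1
    · intro v hv
      rw [Submodule.mem_comap] at hv ⊢
      have h3 := hU _ hv
      have h4 : (T₁.prodMap T₂) (LinearMap.inl F W₁ W₂ v) = LinearMap.inl F W₁ W₂ (T₁ v) := by
        apply Prod.ext <;> simp
      rwa [h4] at h3
    · intro u hu v hv
      rw [Submodule.mem_comap] at hu hv
      have h3 := hts _ hu _ hv
      rw [hprodForm_apply] at h3
      simpa [ha₂.zero_left] using h3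
  have hU2 : U.comap (LinearMap.inr F W₁ W₂) = ⊥ := by
    apply hb₂
    · intro v hv
      rw [Submodule.mem_comap] at hv
      have h3 := hUK hv
      rw [hprod_movK, Submodule.mem_prod] at h3
      exact h3.2
    · intro v hv
      rw [Submodule.mem_comap] at hv ⊢
      have h3 := hU _ hv
      have h4 : (T₁.prodMap T₂) (LinearMap.inr F W₁ W₂ v) = LinearMap.inr F W₁ W₂ (T₂ v) := by
        apply Prod.ext <;> simp
      rwa [h4] at h3
    · intro u hu v hv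
      rw [Submodule.mem_comap] at hu hv
      have h3 := hts _ hu _ hv
      rw [hprodForm_apply] at h3
      simpa [ha₁.zero_left] using h3
  rw [eq_bot_iff]
  intro v hv
  have h3 : v.1 ∈ U.comap (LinearMap.inl F W₁ W₂) := by
    rw [Submodule.mem_comap]
    exact hprod_fst_mem hcop h₁ h₂ hU hUK hv
  have h4 : v.2 ∈ U.comap (LinearMap.inr F W₁ W₂) := by
    rw [Submodule.mem_comap]
    exact hprod_snd_mem hcop h₁ h₂ hU hUK hv
  rw [hU1, Submodule.mem_bot] at h3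
  rw [hU2, Submodule.mem_bot] at h4
  rw [Submodule.mem_bot]
  exact Prod.ext h3 h4

end prodgen

section std
variable {F : Type*} [Field F] {σ : F ≃+* F}

/-- the standard hermitian form with respect to `σ` -/
def hstdForm (σ : F ≃+* F) (k : ℕ) : (Fin k → F) → (Fin k → F) → F :=
  fun u v => ∑ i, u i * σ (v i)

theorem hstdForm_isHerm (hσ : orderOf σ = 2) (k : ℕ) : IsHerm σ (hstdForm σ k) := by
  refine ⟨?_, ?_, ?_⟩
  · intro u v w
    unfold hstdForm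
    rw [← Finset.sum_add_distrib]
    apply Finset.sum_congr rfl
    intro i _
    rw [Pi.add_apply, add_mul]
  · intro a v w
    unfold hstdForm
    rw [Finset.mul_sum]
    apply Finset.sum_congr rfl
    intro i _
    rw [Pi.smul_apply, smul_eq_mul, mul_assoc]
  · intro v w
    unfold hstdForm
    rw [map_sum]
    apply Finset.sum_congr rfl
    intro i _
    rw [map_mul, Cfsg.Agent.Lib.Helper2.WittHerm.sigma_sigma hσ, mul_comm]

theorem hstdForm_nondeg (k : ℕ) : ∀ v, (∀ w, hstdForm σ k v w = 0) → v = 0 := by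
  classical
  intro v hv
  funext i
  have h1 := hv (Pi.single i 1)
  unfold hstdForm at h1
  rw [Finset.sum_eq_single i] at h1
  · rw [Pi.single_eq_same, map_one, mul_one] at h1
    exact h1
  · intro j _ hji
    rw [Pi.single_eq_of_ne hji, map_zero, mul_zero]
  · intro hi
    exact absurd (Finset.mem_univ i) hi

theorem hprod_fixE_one {V : Type*} [AddCommGroup V] [Module F V] [FiniteDimensional F V] :
    fixE (1 : V →ₗ[F] V) = ⊤ := by
  rw [eq_top_iff]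
  intro v _
  rw [mem_fixE, Module.End.one_apply]

theorem hprod_movK_one {V : Type*} [AddCommGroup V] [Module F V] [FiniteDimensional F V] (r : ℕ)
    [Fact r.Prime] (hrF : (r : F) ≠ 0) : movK r (1 : V →ₗ[F] V) = ⊥ := by
  rw [eq_bot_iff]
  intro v hv
  unfold movK at hv
  have h1 : (1 : Module.End F V) = algebraMap F (Module.End F V) 1 := (map_one _).symm
  rw [LinearMap.mem_ker, h1, aeval_algebraMap_apply_eq_algebraMap_eval,
    eval_one_cyclotomic_prime] at hv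
  have h2 : (algebraMap F (Module.End F V) ((r : ℕ) : F)) v = (r : F) • v := rfl
  rw [h2] at hv
  rw [Submodule.mem_bot]
  exact (smul_eq_zero.1 hv).resolve_left hrF

end std

section prod
variable {F : Type u} [Field F] [Fintype F] {σ : F ≃+* F}

theorem hModel0_triv (hσ : orderOf σ = 2) (r : ℕ) (k : ℕ) : HModel0 F σ r k k := by
  refine ⟨Fin k → F, inferInstance, inferInstance, inferInstance, hstdForm σ k, 1,
    hstdForm_isHerm hσ k, hstdForm_nondeg k, ?_, fun _ _ => rfl, one_pow r, ?_⟩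
  · rw [Module.finrank_fintype_fun_eq_card, Fintype.card_fin]
  · rw [hprod_fixE_one, finrank_top, Module.finrank_fintype_fun_eq_card, Fintype.card_fin]

theorem hModel0_prod {r n₁ k₁ n₂ k₂ : ℕ} (h₁ : HModel0 F σ r n₁ k₁) (h₂ : HModel0 F σ r n₂ k₂) :
    HModel0 F σ r (n₁ + n₂) (k₁ + k₂) := by
  obtain ⟨W₁, i1, i2, i3, H₁, T₁, ha₁, hn₁, hd₁, hi₁, hr₁, hk₁⟩ := h₁
  obtain ⟨W₂, j1, j2, j3, H₂, T₂, ha₂, hn₂, hd₂, hi₂, hr₂, hk₂⟩ := h₂
  refine ⟨W₁ × W₂, inferInstance, inferInstance, inferInstance, hprodForm H₁ H₂, T₁.prodMap T₂,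
    hprodForm_isHerm ha₁ ha₂, hprodForm_nondeg ha₁ ha₂ hn₁ hn₂, ?_, hprodForm_isom hi₁ hi₂,
    hprod_pow_eq_one hr₁ hr₂, ?_⟩
  · rw [Module.finrank_prod, hd₁, hd₂]
  · rw [hprod_fixE, hprod_finrank_sub, hk₁, hk₂]

theorem hModel_triv (hσ : orderOf σ = 2) (r : ℕ) [Fact r.Prime] (hrF : (r : F) ≠ 0) (k : ℕ) :
    HModel F σ r k k 1 := by
  refine ⟨Fin k → F, inferInstance, inferInstance, inferInstance, hstdForm σ k, 1,
    hstdForm_isHerm hσ k, hstdForm_nondeg k, ?_, fun _ _ => rfl, one_pow r, ?_, ?_, ?_⟩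
  · rw [Module.finrank_fintype_fun_eq_card, Fintype.card_fin]
  · rw [hprod_fixE_one, finrank_top, Module.finrank_fintype_fun_eq_card, Fintype.card_fin]
  · intro w hw
    rw [hprod_movK_one r hrF, Submodule.mem_bot] at hw
    rw [hw, map_zero]
  · intro U hU _ _
    rw [hprod_movK_one r hrF] at hU
    exact le_bot_iff.1 hU

theorem hModel_prod {r n₁ k₁ n₂ k₂ : ℕ} {P₁ P₂ : F[X]} (hcop : IsCoprime P₁ P₂)
    (h₁ : HModel F σ r n₁ k₁ P₁) (h₂ : HModel F σ r n₂ k₂ P₂) :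
    HModel F σ r (n₁ + n₂) (k₁ + k₂) (P₁ * P₂) := by
  obtain ⟨W₁, i1, i2, i3, H₁, T₁, ha₁, hn₁, hd₁, hi₁, hr₁, hk₁, hP₁, hb₁⟩ := h₁
  obtain ⟨W₂, j1, j2, j3, H₂, T₂, ha₂, hn₂, hd₂, hi₂, hr₂, hk₂, hP₂, hb₂⟩ := h₂
  refine ⟨W₁ × W₂, inferInstance, inferInstance, inferInstance, hprodForm H₁ H₂, T₁.prodMap T₂,
    hprodForm_isHerm ha₁ ha₂, hprodForm_nondeg ha₁ ha₂ hn₁ hn₂, ?_, hprodForm_isom hi₁ hi₂,
    hprod_pow_eq_one hr₁ hr₂, ?_, ?_, ?_⟩
  · rw [Module.finrank_prod, hd₁, hd₂]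
  · rw [hprod_fixE, hprod_finrank_sub, hk₁, hk₂]
  · intro w hw
    rw [hprod_movK, Submodule.mem_prod] at hw
    rw [hprod_aeval]
    apply Prod.ext
    · show aeval T₁ (P₁ * P₂) w.1 = 0
      rw [mul_comm, map_mul, Module.End.mul_apply, hP₁ _ hw.1, map_zero]
    · show aeval T₂ (P₁ * P₂) w.2 = 0
      rw [map_mul, Module.End.mul_apply, hP₂ _ hw.2, map_zero]
  · intro U hUK hU hts
    exact hprod_ts_eq_bot hcop hP₁ hP₂ ha₁ ha₂ hb₁ hb₂ U hUK hU hts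

end prod

end Cfsg.Agent.Lib.Helper6.TSU
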