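import Mathlib
import Cfsg.Agent.Lib.Helper6.TSU0
import Cfsg.Agent.Lib.Helper1.TSU_PROD
import Cfsg.Agent.Lib.Helper1.SpBlk3
import Cfsg.Agent.Lib.Helper9.Elus3

set_option autoImplicit false
set_option linter.unusedSectionVars false

/-! S5953 package PK-BLKCLS: the `(r - 1) / b` classes of irreducible self-dual unitary blocks. -/

namespace Cfsg.Agent.Lib.Helper6.TSU

open Module Polynomial Cfsg.Agent.H9SemiInv Cfsg.Agent.Lib.Helper9.H9Elus
  Cfsg.Agent.Lib.Helper1.SpBlk Cfsg.Agent.Lib.Helper9.UPol Cfsg.Agent.Lib.Helper5.PSLCoset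

universe u

section lift
variable {F : Type u} [Field F] [Fintype F] {p : ℕ} [Fact p.Prime] [CharP F p] {σ : F ≃+* F}

/-- a fixed-point-free model of dimension `ord_r |F|` living in `Type` gives an `HModel` in the
universe of `F` -/
theorem hModel_of_block {W₀ : Type} [AddCommGroup W₀] [Module F W₀] [FiniteDimensional F W₀]
    (hσ : orderOf σ = 2) (H₀ : W₀ → W₀ → F) (T₀ : W₀ →ₗ[F] W₀) (hH₀ : IsHerm σ H₀)
    (hnd₀ : ∀ v, (∀ w, H₀ v w = 0) → v = 0) (r : ℕ) [Fact r.Prime] (hrp : r ≠ p)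
    (hfin₀ : finrank F W₀ = orderOf ((Fintype.card F : ℕ) : ZMod r))
    (hT₀ : ∀ x y, H₀ (T₀ x) (T₀ y) = H₀ x y) (hTr₀ : T₀ ^ r = 1) {g : F[X]}
    (hg₀ : aeval T₀ g = 0) (hfix : ∀ v, T₀ v = v → v = 0) :
    HModel F σ r (orderOf ((Fintype.card F : ℕ) : ZMod r)) 0 g := by
  have hb1 : 1 ≤ orderOf ((Fintype.card F : ℕ) : ZMod r) := order_pos r hrp
  have hHerm : IsHerm σ (hprodForm H₀ (hstdForm σ 0)) :=
    hprodForm_isHerm hH₀ (hstdForm_isHerm hσ 0)
  have hnd : ∀ v, (∀ w, hprodForm H₀ (hstdForm σ 0) v w = 0) → v = 0 :=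
    hprodForm_nondeg hH₀ (hstdForm_isHerm hσ 0) hnd₀ (hstdForm_nondeg 0)
  have hTr : (T₀.prodMap (1 : (Fin 0 → F) →ₗ[F] (Fin 0 → F))) ^ r = 1 :=
    hprod_pow_eq_one hTr₀ (one_pow r)
  have hdim : finrank F (W₀ × (Fin 0 → F)) = orderOf ((Fintype.card F : ℕ) : ZMod r) := by
    rw [Module.finrank_prod, hfin₀, Module.finrank_fintype_fun_eq_card, Fintype.card_fin, add_zero]
  refine ⟨W₀ × (Fin 0 → F), inferInstance, inferInstance, inferInstance,
    hprodForm H₀ (hstdForm σ 0), T₀.prodMap 1, hHerm, hnd, hdim,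
    hprodForm_isom hT₀ (fun _ _ => rfl), hTr, ?_, ?_, ?_⟩
  · rw [hprod_fixE, hprod_finrank_sub]
    have h1 : fixE T₀ = ⊥ := by
      rw [eq_bot_iff]
      intro v hv
      rw [mem_fixE] at hv
      rw [Submodule.mem_bot]
      exact hfix v hv
    rw [h1, finrank_bot, zero_add]
    exact Module.finrank_zero_of_subsingleton
  · intro w _
    rw [hprod_aeval, hg₀]
    apply Prod.ext
    · rfl
    · exact Subsingleton.elim _ _
  · intro U hUK hU hts
    obtain ⟨s, hs⟩ := dvd_finrank_of_le_movK r hrp _ hTr hU hUK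
    have hND : ND (hprodForm H₀ (hstdForm σ 0)) ⊤ := by
      intro u _ hu
      exact hnd u (fun w => hu w Submodule.mem_top)
    have h2 := ts_finrank_le hσ hHerm hnd hND (le_top : U ≤ ⊤) hts
    rw [finrank_top, hdim, hs] at h2
    have hs0 : s = 0 := by
      by_contra hne
      have hs1 : 1 ≤ s := Nat.one_le_iff_ne_zero.2 hne
      have h3 : orderOf ((Fintype.card F : ℕ) : ZMod r) * 1 ≤
          orderOf ((Fintype.card F : ℕ) : ZMod r) * s := Nat.mul_le_mul_left _ hs1
      omega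
    rw [hs0, mul_zero] at hs
    exact Submodule.finrank_eq_zero.1 hs

end lift

section trform
variable {F : Type*} [Field F] [Fintype F] {σ : F ≃+* F} {L : Type*} [Field L] [Fintype L]
  [Algebra F L]

/-- the hermitian trace form `Tr(x τ(y))` -/
noncomputable def htrForm (τ : L →+* L) : L → L → F :=
  fun x y => Algebra.trace F L (x * τ y)

theorem htrForm_apply (τ : L →+* L) (x y : L) :
    htrForm (F := F) τ x y = Algebra.trace F L (x * τ y) := rfl

theorem htr_trace_tau {τ : L →+* L} {Q : ℕ} (hτ : ∀ z, τ z = z ^ Q)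
    (hσQ : ∀ a : F, algebraMap F L (σ a) = (algebraMap F L a) ^ Q) (z : L) :
    σ (Algebra.trace F L z) = Algebra.trace F L (τ z) := by
  apply (algebraMap F L).injective
  rw [hσQ, FiniteField.algebraMap_trace_eq_sum_pow, FiniteField.algebraMap_trace_eq_sum_pow,
    ← hτ, map_sum]
  apply Finset.sum_congr rfl
  intro j _
  rw [map_pow]

theorem htrForm_isHerm {τ : L →+* L} {Q : ℕ} (hτ : ∀ z, τ z = z ^ Q)
    (hσQ : ∀ a : F, algebraMap F L (σ a) = (algebraMap F L a) ^ Q)
    (hττ : ∀ z, τ (τ z) = z) : IsHerm σ (htrForm (F := F) τ) := by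
  refine ⟨?_, ?_, ?_⟩
  · intro u v w
    rw [htrForm_apply, htrForm_apply, htrForm_apply, add_mul, map_add]
  · intro a v w
    rw [htrForm_apply, htrForm_apply, smul_mul_assoc, map_smul, smul_eq_mul]
  · intro v w
    rw [htrForm_apply, htrForm_apply, htr_trace_tau hτ hσQ, map_mul τ, hττ, mul_comm]

theorem htrForm_nondeg {τ : L →+* L} (hττ : ∀ z, τ (τ z) = z) :
    ∀ v, (∀ w, htrForm (F := F) τ v w = 0) → v = 0 := by
  intro v hv
  have _ifd : FiniteDimensional F L := Module.Finite.of_finite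
  have hnd := (traceForm_nondegenerate F L).1
  apply hnd
  intro w
  have h1 := hv (τ w)
  rw [htrForm_apply, hττ] at h1
  rw [Algebra.traceForm_apply]
  exact h1

theorem htrForm_mul {τ : L →+* L} (a : L) (ha : a * τ a = 1) (x y : L) :
    htrForm (F := F) τ (a * x) (a * y) = htrForm (F := F) τ x y := by
  rw [htrForm_apply, htrForm_apply, map_mul τ]
  have h1 : a * x * (τ a * τ y) = (a * τ a) * (x * τ y) := by ring
  rw [h1, ha, one_mul]

end trform

section cls
variable {F : Type u} [Field F] [Fintype F] {q : ℕ} {σ : F ≃+* F}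

theorem exists_classes_herm_aux (p : ℕ) [Fact p.Prime] [CharP F p] {L : Type} [Field L] [Fintype L] [Algebra F L]
    (hF : Fintype.card F = q ^ 2) (hσ : orderOf σ = 2) (hσq : ∀ a, σ a = a ^ q)
    (r : ℕ) [Fact r.Prime] (hrp : r ≠ p) (b : ℕ)
    (hb : orderOf ((Fintype.card F : ℕ) : ZMod r) = b) (hbodd : Odd b)
    (hrQ : r ∣ q ^ b + 1) (hfin : finrank F L = b) :
    ∃ g : Fin ((r - 1) / b) → F[X],
      (∀ l l', l ≠ l' → IsCoprime (g l) (g l')) ∧ ∀ l, HModel F σ r b 0 (g l) := by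
  classical
  have hrprime : r.Prime := Fact.out
  have hpprime : p.Prime := Fact.out
  have _ifd : FiniteDimensional F L := Module.Finite.of_finite
  have _icp : CharP L p := charP_of_injective_algebraMap (algebraMap F L).injective p
  have hq1 : 1 ≤ q ^ b := by
    apply Nat.one_le_pow
    rcases Nat.eq_zero_or_pos q with h0 | h0
    · exfalso
      rw [h0] at hF
      have := Fintype.card_pos (α := F)
      omega
    · exact h0
  have hLcard : Fintype.card L = q ^ b * q ^ b := by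
    have h1 : Nat.card L = Nat.card F ^ finrank F L :=
      Module.natCard_eq_pow_finrank (K := F) (V := L)
    rw [Nat.card_eq_fintype_card, Nat.card_eq_fintype_card, hfin, hF] at h1
    rw [h1, ← mul_pow, sq]
  have hunits : Nat.card Lˣ = (q ^ b - 1) * (q ^ b + 1) := by
    rw [Nat.card_units, Nat.card_eq_fintype_card, hLcard]
    have h2 : 1 ≤ q ^ b * q ^ b := Nat.mul_pos hq1 hq1
    zify [hq1, h2]
    ring
  have hrdvd : r ∣ Nat.card Lˣ := by
    rw [hunits]
    exact hrQ.mul_left _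
  obtain ⟨ζ, hζ⟩ := exists_prime_orderOf_dvd_card' r hrdvd
  have hord : orderOf ((ζ : Lˣ) : L) = r := by rw [orderOf_units, hζ]
  have har : ((ζ : Lˣ) : L) ^ r = 1 := by
    rw [← hord]
    exact pow_orderOf_eq_one _
  -- the involution
  obtain ⟨f, hf⟩ := FiniteField.card F p
  obtain ⟨j, -, hj⟩ : ∃ j, j ≤ (f : ℕ) ∧ q = p ^ j := by
    apply (Nat.dvd_prime_pow hpprime).1
    rw [← hf.2, hF]
    exact Dvd.intro_left _ (sq q).symm
  set τ : L →+* L := iterateFrobenius L p (j * b) with hτdef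
  have hτ : ∀ z, τ z = z ^ (q ^ b) := by
    intro z
    rw [hτdef, iterateFrobenius_def, hj, pow_mul]
  have hττ : ∀ z, τ (τ z) = z := by
    intro z
    rw [hτ, hτ, ← pow_mul, ← hLcard, FiniteField.pow_card]
  have hσQ : ∀ a : F, algebraMap F L (σ a) = (algebraMap F L a) ^ (q ^ b) := by
    intro a
    obtain ⟨k, hk⟩ := hbodd
    rw [← map_pow, hσq]
    congr 1
    have e1 : q ^ b = (q ^ 2) ^ k * q := by rw [hk, pow_succ, pow_mul]
    rw [e1, pow_mul, ← hF, FiniteField.pow_card_pow]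
  have hnorm : ((ζ : Lˣ) : L) * τ ((ζ : Lˣ) : L) = 1 := by
    obtain ⟨k, hk⟩ := hrQ
    rw [hτ, ← pow_succ', hk, pow_mul, har, one_pow]
  have hnorme : ∀ e : ℕ, ((ζ : Lˣ) : L) ^ e * τ (((ζ : Lˣ) : L) ^ e) = 1 := by
    intro e
    rw [map_pow, ← mul_pow, hnorm, one_pow]
  -- the polynomials
  have hint : ∀ x : L, IsIntegral F x := fun x => Algebra.IsIntegral.isIntegral x
  have hne1 : ∀ e : ℕ, 1 ≤ e → e ≤ r - 1 → ((ζ : Lˣ) : L) ^ e ≠ 1 := by
    intro e he1 he2 h1
    have h2 := orderOf_dvd_of_pow_eq_one h1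
    rw [hord] at h2
    have := Nat.le_of_dvd (by omega) h2
    have := hrprime.two_le
    omega
  have hcard : r - 1 ≤ b *
      ((Finset.Icc 1 (r - 1)).image (fun e => minpoly F (((ζ : Lˣ) : L) ^ e))).card := by
    have h1 := Finset.card_le_mul_card_image (f := fun e => minpoly F (((ζ : Lˣ) : L) ^ e))
      (Finset.Icc 1 (r - 1)) b ?_
    · rw [Nat.card_Icc] at h1
      omega
    · intro b' hb'
      obtain ⟨e₀, -, rfl⟩ := Finset.mem_image.1 hb'
      have hb0 : minpoly F (((ζ : Lˣ) : L) ^ e₀) ≠ 0 := minpoly.ne_zero (hint _)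
      have hdeg : (minpoly F (((ζ : Lˣ) : L) ^ e₀)).natDegree ≤ b := by
        exact (minpoly.natDegree_le _).trans hfin.le
      have h2 : ((minpoly F (((ζ : Lˣ) : L) ^ e₀)).aroots L).toFinset.card ≤ b := by
        refine (Multiset.toFinset_card_le _).trans ?_
        refine (Polynomial.card_roots' _).trans ?_
        rw [natDegree_map]
        exact hdeg
      refine le_trans ?_ h2
      apply Finset.card_le_card_of_injOn (fun e => ((ζ : Lˣ) : L) ^ e)
      · intro e he
        rw [Finset.mem_coe, Finset.mem_filter] at he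
        rw [Finset.mem_coe, Multiset.mem_toFinset, mem_aroots]
        refine ⟨hb0, ?_⟩
        rw [← he.2]
        exact minpoly.aeval F _
      · intro e he e' he'
        rw [Finset.mem_coe, Finset.mem_filter, Finset.mem_Icc] at he he'
        intro hee
        apply pow_injOn_Iio_orderOf (x := ((ζ : Lˣ) : L))
        · rw [Set.mem_Iio, hord]
          have := hrprime.two_le
          omega
        · rw [Set.mem_Iio, hord]
          have := hrprime.two_le
          omega
        · exact hee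
  have ht : (r - 1) / b ≤
      ((Finset.Icc 1 (r - 1)).image (fun e => minpoly F (((ζ : Lˣ) : L) ^ e))).card :=
    Nat.div_le_of_le_mul hcard
  obtain ⟨φ⟩ : Nonempty (Fin ((r - 1) / b) ↪
      ↥((Finset.Icc 1 (r - 1)).image (fun e => minpoly F (((ζ : Lˣ) : L) ^ e)))) :=
    Function.Embedding.nonempty_of_card_le (by rw [Fintype.card_fin, Fintype.card_coe]; exact ht)
  have hS : ∀ l, ∃ e, 1 ≤ e ∧ e ≤ r - 1 ∧ minpoly F (((ζ : Lˣ) : L) ^ e) = (φ l : F[X]) := by
    intro l
    obtain ⟨e, he, hfe⟩ := Finset.mem_image.1 (φ l).2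
    rw [Finset.mem_Icc] at he
    exact ⟨e, he.1, he.2, hfe⟩
  refine ⟨fun l => (φ l : F[X]), ?_, ?_⟩
  · intro l l' hll
    obtain ⟨e, he1, he2, hfe⟩ := hS l
    obtain ⟨e', he1', he2', hfe'⟩ := hS l'
    show IsCoprime (φ l : F[X]) (φ l' : F[X])
    have hne : (φ l : F[X]) ≠ (φ l' : F[X]) := fun h0 => hll (φ.injective (Subtype.ext h0))
    rw [← hfe, ← hfe'] at hne ⊢
    rw [(minpoly.irreducible (hint _)).coprime_iff_not_dvd]
    intro hdvd
    apply hne
    apply eq_of_monic_of_associated (minpoly.monic (hint _)) (minpoly.monic (hint _))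
    exact (minpoly.irreducible (hint _)).associated_of_dvd (minpoly.irreducible (hint _)) hdvd
  · intro l
    obtain ⟨e, he1, he2, hfe⟩ := hS l
    show HModel F σ r b 0 (φ l : F[X])
    rw [← hfe, ← hb]
    apply hModel_of_block hσ (htrForm (F := F) τ) (Algebra.lmul F L (((ζ : Lˣ) : L) ^ e))
      (htrForm_isHerm hτ hσQ hττ) (htrForm_nondeg hττ) r hrp (hfin.trans hb.symm)
    · intro x y
      exact htrForm_mul _ (hnorme e) x y
    · rw [← map_pow, ← pow_mul, mul_comm e r, pow_mul, har, one_pow, map_one]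
    · rw [aeval_algHom_apply, minpoly.aeval, map_zero]
    · intro v hv
      have h1 : (((ζ : Lˣ) : L) ^ e - 1) * v = 0 := by
        rw [sub_mul, one_mul, sub_eq_zero]
        exact hv
      rcases mul_eq_zero.1 h1 with h2 | h2
      · exact absurd (sub_eq_zero.1 h2) (hne1 e he1 he2)
      · exact h2

theorem exists_classes_herm_p (p : ℕ) [Fact p.Prime] [CharP F p]
    (hF : Fintype.card F = q ^ 2) (hσ : orderOf σ = 2)
    (hσq : ∀ a, σ a = a ^ q) (r : ℕ) [Fact r.Prime] (hrq : ¬ r ∣ q)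
    (hself : orderOf (-(q : ZMod r)) = orderOf ((Fintype.card F : ℕ) : ZMod r)) :
    ∃ g : Fin ((r - 1) / orderOf ((Fintype.card F : ℕ) : ZMod r)) → F[X],
      (∀ l l', l ≠ l' → IsCoprime (g l) (g l')) ∧
      ∀ l, HModel F σ r (orderOf ((Fintype.card F : ℕ) : ZMod r)) 0 (g l) := by
  have hpprime : p.Prime := Fact.out
  have hrp : r ≠ p := by
    intro h
    apply hrq
    rw [h]
    obtain ⟨f, -, hf⟩ := FiniteField.card F p
    have h1 : p ∣ q ^ 2 := by
      rw [← hF, hf]
      exact dvd_pow_self p f.ne_zero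
    exact hpprime.dvd_of_dvd_pow h1
  have hb1 : 1 ≤ orderOf ((Fintype.card F : ℕ) : ZMod r) := order_pos r hrp
  have hcast : ((Fintype.card F : ℕ) : ZMod r) = (-(q : ZMod r)) ^ 2 := by
    rw [hF, Nat.cast_pow, neg_sq]
  have h1 : (-(q : ZMod r)) ^ orderOf ((Fintype.card F : ℕ) : ZMod r) = 1 := by
    rw [← hself]
    exact pow_orderOf_eq_one _
  have hbodd : Odd (orderOf ((Fintype.card F : ℕ) : ZMod r)) := by
    by_contra hne
    rw [Nat.not_odd_iff_even] at hne
    obtain ⟨k, hk⟩ := hne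
    have h2 : ((Fintype.card F : ℕ) : ZMod r) ^ k = 1 := by
      rw [hcast, ← pow_mul, two_mul, ← hk]
      exact h1
    have h3 := orderOf_dvd_of_pow_eq_one h2
    have hk0 : 0 < k := by omega
    have := Nat.le_of_dvd hk0 h3
    omega
  have hrQ : r ∣ q ^ orderOf ((Fintype.card F : ℕ) : ZMod r) + 1 := by
    rw [← ZMod.natCast_eq_zero_iff]
    rw [hbodd.neg_pow] at h1
    push_cast
    linear_combination (-1 : ZMod r) * h1
  have _inz : NeZero (orderOf ((Fintype.card F : ℕ) : ZMod r)) := ⟨by omega⟩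
  have _ifin : Fintype (FiniteField.Extension F p (orderOf ((Fintype.card F : ℕ) : ZMod r))) :=
    Fintype.ofFinite _
  exact exists_classes_herm_aux p
    (L := FiniteField.Extension F p (orderOf ((Fintype.card F : ℕ) : ZMod r))) hF hσ hσq r hrp _ rfl
    hbodd hrQ (FiniteField.finrank_extension F p _)

end cls

section blocks
variable {F : Type u} [Field F] [Fintype F] {q : ℕ} {σ : F ≃+* F}

set_option linter.unusedVariables false in
theorem exists_classes_herm (hF : Fintype.card F = q ^ 2) (hσ : orderOf σ = 2)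
    (hσq : ∀ a, σ a = a ^ q) (r : ℕ) [Fact r.Prime] (hrq : ¬ r ∣ q) (hr2 : r ≠ 2)
    (hself : orderOf (-(q : ZMod r)) = orderOf ((Fintype.card F : ℕ) : ZMod r)) :
    ∃ g : Fin ((r - 1) / orderOf ((Fintype.card F : ℕ) : ZMod r)) → F[X],
      (∀ l l', l ≠ l' → IsCoprime (g l) (g l')) ∧
      ∀ l, HModel F σ r (orderOf ((Fintype.card F : ℕ) : ZMod r)) 0 (g l) := by
  obtain ⟨p, _icp⟩ := CharP.exists F
  have _ifp : Fact p.Prime := ⟨CharP.char_is_prime F p⟩
  exact exists_classes_herm_p p hF hσ hσq r hrq hself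

end blocks

end Cfsg.Agent.Lib.Helper6.TSU
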