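import Mathlib
import Cfsg.Prelude.Def_Classical
import Cfsg.Agent.Lib.Helper6.TSU0
import Cfsg.Agent.Lib.Helper9.UPol7
import Cfsg.Agent.Lib.Helper2.GUIsom
import Cfsg.Agent.Lib.Helper2.WittHerm

set_option autoImplicit false
set_option linter.unusedSectionVars false

/-! S5953 package PK-BLKFPF: a fixed-point-free unitary block of dimension `ord_r(-q)`. -/

namespace Cfsg.Agent.Lib.Helper6.TSU

open Module Polynomial Matrix Cfsg.Agent.H9SemiInv
  Cfsg.Agent.Lib.Helper1.SpBlk Cfsg.Agent.Lib.Helper9.UPol Cfsg.Agent.Lib.Helper5.PSLCoset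

universe u

section blocks
variable {F : Type u} [Field F] [Fintype F] {q : ℕ} {σ : F ≃+* F}

theorem hModel0_block_h1 (hF : Fintype.card F = q ^ 2) (hσ : orderOf σ = 2) (hσq : ∀ a, σ a = a ^ q)
    (r : ℕ) [Fact r.Prime] (hrq : ¬ r ∣ q) :
    HModel0 F σ r (orderOf (-(q : ZMod r))) 0 := by
  classical
  have hrprime : r.Prime := Fact.out
  have hq0 : q ≠ 0 := by
    intro h0
    rw [h0] at hF
    have := Fintype.card_pos (α := F)
    omega
  have hx : (-(q : ZMod r)) ≠ 0 := by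
    rw [neg_ne_zero]
    exact fun h => hrq ((ZMod.natCast_eq_zero_iff _ _).1 h)
  have hc1 : 0 < orderOf (-(q : ZMod r)) := by
    have h1 : orderOf ((Units.mk0 _ hx : (ZMod r)ˣ) : ZMod r) = orderOf (Units.mk0 _ hx) :=
      orderOf_units
    rw [Units.val_mk0] at h1
    rw [h1]
    exact orderOf_pos _
  obtain ⟨k, hk⟩ : ∃ k, orderOf (-(q : ZMod r)) = k + 1 := ⟨orderOf (-(q : ZMod r)) - 1, by omega⟩
  have hdvd : r ∣ Nat.card (Cfsg.GU (k + 1) F q) :=
    (dvd_card_GU_iff hF hrq (k + 1)).2 ⟨k, lt_add_one k, by rw [hk]⟩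
  have hndvd : ¬ r ∣ Nat.card (Cfsg.GU k F q) := by
    intro h
    obtain ⟨i, hik, hci⟩ := (dvd_card_GU_iff hF hrq k).1 h
    have := Nat.le_of_dvd (Nat.succ_pos i) hci
    omega
  obtain ⟨x₀, hx₀⟩ := exists_prime_orderOf_dvd_card' r hdvd
  have hxr : x₀ ^ r = 1 := by
    rw [← hx₀]
    exact pow_orderOf_eq_one _
  have hx1 : x₀ ≠ 1 := by
    intro h1
    rw [h1, orderOf_one] at hx₀
    exact hrprime.one_lt.ne hx₀
  have hrF : (r : F) ≠ 0 := by
    intro h0
    obtain ⟨p, _icp⟩ := CharP.exists F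
    have hp : p.Prime := CharP.char_is_prime F p
    have _ifp : Fact p.Prime := ⟨hp⟩
    have h1 : p ∣ r := (CharP.cast_eq_zero_iff F p r).1 h0
    have h2 : p = r := (Nat.prime_dvd_prime_iff_eq hp hrprime).1 h1
    obtain ⟨f, -, hf⟩ := FiniteField.card F p
    have h3 : p ∣ q ^ 2 := by
      rw [← hF, hf]
      exact dvd_pow_self p f.ne_zero
    apply hrq
    rw [← h2]
    exact hp.dvd_of_dvd_pow h3
  set M : Matrix (Fin (k + 1)) (Fin (k + 1)) F :=
    ((x₀ : GL (Fin (k + 1)) F) : Matrix (Fin (k + 1)) (Fin (k + 1)) F) with hM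
  have hMr : M ^ r = 1 := by
    have h1 : ((x₀ : GL (Fin (k + 1)) F)) ^ r = 1 := by
      have := congrArg Subtype.val hxr
      simpa using this
    have h2 := congrArg (fun g : GL (Fin (k + 1)) F =>
      (g : Matrix (Fin (k + 1)) (Fin (k + 1)) F)) h1
    simpa using h2
  rw [hk]
  refine ⟨Fin (k + 1) → F, inferInstance, inferInstance, inferInstance,
    Cfsg.hermForm (k + 1) F q, Matrix.toLin' M,
    Cfsg.Agent.Lib.Helper2.GUIsom.isHerm_hermForm (k + 1) q σ
      (Cfsg.Agent.Lib.Helper2.WittHerm.sigma_sigma hσ) hσq,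
    Cfsg.Agent.Lib.Helper2.GUIsom.hermForm_nondeg (k + 1) q hq0, ?_, ?_, ?_, ?_⟩
  · rw [Module.finrank_fintype_fun_eq_card, Fintype.card_fin]
  · intro u v
    rw [Matrix.toLin'_apply, Matrix.toLin'_apply]
    exact x₀.2 u v
  · rw [← Matrix.toLin'_pow, hMr, Matrix.toLin'_one]
    rfl
  · have h1 : fixE (Matrix.toLin' M) = ⊥ := by
      rw [eq_bot_iff]
      intro v hv
      rw [mem_fixE, Matrix.toLin'_apply] at hv
      rw [Submodule.mem_bot]
      exact fpf_of_order hF x₀ hrprime hxr hx1 hrF hndvd v hv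
    rw [h1, finrank_bot]

end blocks

end Cfsg.Agent.Lib.Helper6.TSU
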