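import Mathlib
import Cfsg.Prelude.Def_Classical
import Cfsg.Agent.Lib.Helper6.TSU0
import Cfsg.Agent.Lib.Helper1.SpBlk3
import Cfsg.Agent.Lib.Helper9.Elus2

set_option autoImplicit false
set_option linter.unusedSectionVars false

/-! S5953 package PK-MDIAG: diagonal elements of order `r ∣ q + 1` in `SU_n(q)`. -/

namespace Cfsg.Agent.Lib.Helper6.TSU

open Module Polynomial Matrix Cfsg.Agent.H9SemiInv Cfsg.Agent.Lib.Helper9.H9Elus
  Cfsg.Agent.Lib.Helper1.SpBlk Cfsg.Agent.Lib.Helper9.UPol Cfsg.Agent.Lib.Helper5.PSLCoset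

section explicit
variable {F : Type*} [Field F] [Fintype F] {q : ℕ}

theorem mdiag_apply (n : ℕ) (d : Fin n → F) (v : Fin n → F) :
    Matrix.toLin' (Matrix.diagonal d) v = fun j => d j * v j := by
  funext j
  rw [Matrix.toLin'_apply, Matrix.mulVec_diagonal]

theorem mdiag_pow_apply (n : ℕ) (d : Fin n → F) (k : ℕ) (v : Fin n → F) :
    (Matrix.toLin' (Matrix.diagonal d) ^ k) v = fun j => d j ^ k * v j := by
  rw [← Matrix.toLin'_pow, Matrix.diagonal_pow, mdiag_apply]
  rfl

theorem mdiag_pow_eq_one (n r : ℕ) (d : Fin n → F) (hd : ∀ j, d j ^ r = 1) :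
    Matrix.toLin' (Matrix.diagonal d) ^ r = 1 := by
  apply LinearMap.ext
  intro u
  rw [mdiag_pow_apply]
  funext j
  rw [hd, one_mul]
  rfl

/-- no invariant totally singular subspace in the moved part of a diagonal element all of whose
nontrivial eigenvalues are simple -/
theorem mdiag_ts (p : ℕ) [Fact p.Prime] [CharP F p] (n r : ℕ) [Fact r.Prime] (hrp : r ≠ p)
    (d : Fin n → F) (hd : ∀ j, d j ^ r = 1) (hinj : ∀ j j', d j ≠ 1 → d j = d j' → j = j')
    (U : Submodule F (Fin n → F)) (hUK : U ≤ movK r (Matrix.toLin' (Matrix.diagonal d)))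
    (hU : Inv (Matrix.toLin' (Matrix.diagonal d)) U) (hts : TS (Cfsg.hermForm n F q) U) :
    U = ⊥ := by
  classical
  have hrprime : r.Prime := Fact.out
  by_contra hne
  obtain ⟨v, hvU, hv0⟩ := Submodule.exists_mem_ne_zero_of_ne_bot hne
  have hDr := mdiag_pow_eq_one n r d hd
  obtain ⟨j₀, hj₀, hdj₀⟩ : ∃ j₀, v j₀ ≠ 0 ∧ d j₀ ≠ 1 := by
    by_contra hcon
    push Not at hcon
    apply hv0
    have h1 : v ∈ fixE (Matrix.toLin' (Matrix.diagonal d)) := by
      rw [mem_fixE, mdiag_apply]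
      funext j
      by_cases hvj : v j = 0
      · rw [hvj, mul_zero]
      · rw [hcon j hvj, one_mul]
    have h2 := (disjoint_fixE_movK r hrp _ hDr).le_bot ⟨h1, hUK hvU⟩
    exact (Submodule.mem_bot F).1 h2
  have hrF : (r : F) ≠ 0 := by
    intro h0
    have h1 : p ∣ r := (CharP.cast_eq_zero_iff F p r).1 h0
    exact hrp ((Nat.prime_dvd_prime_iff_eq Fact.out hrprime).1 h1).symm
  have hd0 : d j₀ ≠ 0 := by
    intro h0
    have h1 := hd j₀
    rw [h0, zero_pow hrprime.ne_zero] at h1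
    exact zero_ne_one h1
  set w : Fin n → F := ∑ k ∈ Finset.range r,
    ((d j₀)⁻¹ ^ k) • ((Matrix.toLin' (Matrix.diagonal d) ^ k) v) with hw
  have hwU : w ∈ U := by
    apply Submodule.sum_mem
    intro k _
    apply Submodule.smul_mem
    have h1 := Inv.aeval hU (X ^ k) v hvU
    rwa [map_pow, aeval_X] at h1
  have hwj : ∀ j, w j = (∑ k ∈ Finset.range r, (d j * (d j₀)⁻¹) ^ k) * v j := by
    intro j
    rw [hw, Finset.sum_apply, Finset.sum_mul]
    apply Finset.sum_congr rfl
    intro k _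
    rw [Pi.smul_apply, mdiag_pow_apply, smul_eq_mul, mul_pow]
    ring
  have hwne : ∀ j, j ≠ j₀ → w j = 0 := by
    intro j hj
    rw [hwj]
    have hne1 : d j * (d j₀)⁻¹ ≠ 1 := by
      intro h1
      apply hj
      have h2 : d j = d j₀ := by
        have := congrArg (· * d j₀) h1
        simpa [mul_assoc, inv_mul_cancel₀ hd0] using this
      exact (hinj j₀ j hdj₀ h2.symm).symm
    have h3 := mul_geom_sum (d j * (d j₀)⁻¹) r
    rw [mul_pow, inv_pow, hd, hd, inv_one, mul_one, sub_self] at h3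
    rcases mul_eq_zero.1 h3 with h4 | h4
    · exact absurd (sub_eq_zero.1 h4) hne1
    · rw [h4, zero_mul]
  have hw0 : w j₀ ≠ 0 := by
    rw [hwj, mul_inv_cancel₀ hd0]
    simp only [one_pow, Finset.sum_const, Finset.card_range, nsmul_eq_mul, mul_one]
    exact mul_ne_zero hrF hj₀
  have h5 := hts w hwU w hwU
  unfold Cfsg.hermForm at h5
  rw [Finset.sum_eq_single j₀] at h5
  · rcases mul_eq_zero.1 h5 with h6 | h6
    · exact hw0 h6
    · exact hw0 (pow_eq_zero_iff (by
        intro hq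
        rw [hq] at h6
        simp at h6) |>.1 h6)
  · intro j _ hj
    rw [hwne j hj, zero_mul]
  · intro h
    exact absurd (Finset.mem_univ j₀) h

/-- the dimension of the fixed space of a diagonal element -/
theorem mdiag_finrank_fixE (n : ℕ) (d : Fin n → F) :
    finrank F (fixE (Matrix.toLin' (Matrix.diagonal d))) +
      Nat.card {j // d j - 1 ≠ 0} = n := by
  classical
  rw [Nat.card_eq_fintype_card]
  have h1 : fixE (Matrix.toLin' (Matrix.diagonal d)) =
      LinearMap.ker (Matrix.toLin' (Matrix.diagonal (fun j => d j - 1))) := by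
    ext v
    rw [mem_fixE, LinearMap.mem_ker, mdiag_apply, mdiag_apply]
    constructor
    · intro h
      funext j
      have := congrFun h j
      show (d j - 1) * v j = 0
      rw [sub_mul, one_mul, this, sub_self]
    · intro h
      funext j
      have := congrFun h j
      simp only [Pi.zero_apply] at this
      rw [sub_mul, one_mul, sub_eq_zero] at this
      exact this
  have h2 := LinearMap.finrank_range_add_finrank_ker
    (Matrix.toLin' (Matrix.diagonal (fun j => d j - 1)))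
  have h3 : finrank F (LinearMap.range (Matrix.toLin' (Matrix.diagonal (fun j => d j - 1)))) =
      Fintype.card {j // d j - 1 ≠ 0} := by
    rw [← Matrix.rank_diagonal (fun j => d j - 1)]
    rfl
  rw [h3, Module.finrank_fintype_fun_eq_card, Fintype.card_fin] at h2
  rw [h1]
  omega

theorem mdiag_core (hF : Fintype.card F = q ^ 2) (n r : ℕ) [Fact r.Prime] (hrq1 : r ∣ q + 1)
    (d : Fin n → F) (hd : ∀ j, d j ^ r = 1) (hprod : ∏ j, d j = 1)
    (hinj : ∀ j j', d j ≠ 1 → d j = d j' → j = j') :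
    ∃ x : Matrix.SpecialLinearGroup (Fin n) F,
      (x : Matrix (Fin n) (Fin n) F) = Matrix.diagonal d ∧ x ∈ Cfsg.SU n F q ∧ x ^ r = 1 ∧
      ∀ U : Submodule F (Fin n → F), U ≤ movK r (Matrix.toLin' (x : Matrix (Fin n) (Fin n) F)) →
        Inv (Matrix.toLin' (x : Matrix (Fin n) (Fin n) F)) U → TS (Cfsg.hermForm n F q) U →
        U = ⊥ := by
  classical
  have hrprime : r.Prime := Fact.out
  obtain ⟨p, _icp⟩ := CharP.exists F
  have hp : p.Prime := CharP.char_is_prime F p
  have _ifp : Fact p.Prime := ⟨hp⟩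
  have hrp : r ≠ p := by
    intro h
    obtain ⟨f, -, hf⟩ := FiniteField.card F p
    have h3 : p ∣ q ^ 2 := by
      rw [← hF, hf]
      exact dvd_pow_self p f.ne_zero
    have h4 : p ∣ q := hp.dvd_of_dvd_pow h3
    rw [h] at hrq1
    have h5 : p ∣ 1 := (Nat.dvd_add_right h4).1 hrq1
    exact hp.one_lt.ne' (Nat.dvd_one.1 h5)
  have hdet : (Matrix.diagonal d).det = 1 := by rw [Matrix.det_diagonal, hprod]
  obtain ⟨xs, hxs⟩ : ∃ xs : Matrix.SpecialLinearGroup (Fin n) F,
      (xs : Matrix (Fin n) (Fin n) F) = Matrix.diagonal d := ⟨⟨Matrix.diagonal d, hdet⟩, rfl⟩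
  refine ⟨xs, hxs, ?_, ?_, ?_⟩
  · intro u v
    show Cfsg.hermForm n F q ((xs : Matrix (Fin n) (Fin n) F) *ᵥ u)
      ((xs : Matrix (Fin n) (Fin n) F) *ᵥ v) = _
    rw [hxs]
    unfold Cfsg.hermForm
    apply Finset.sum_congr rfl
    intro j _
    rw [Matrix.mulVec_diagonal, Matrix.mulVec_diagonal, mul_pow]
    have h1 : d j * d j ^ q = 1 := by
      obtain ⟨k, hk⟩ := hrq1
      rw [← pow_succ', hk, pow_mul, hd, one_pow]
    have h2 : d j * u j * (d j ^ q * v j ^ q) = (d j * d j ^ q) * (u j * v j ^ q) := by ring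
    rw [h2, h1, one_mul]
  · apply Subtype.ext
    have hdr : d ^ r = 1 := by
      funext j
      exact hd j
    show ((xs ^ r : Matrix.SpecialLinearGroup (Fin n) F) : Matrix (Fin n) (Fin n) F) =
      ((1 : Matrix.SpecialLinearGroup (Fin n) F) : Matrix (Fin n) (Fin n) F)
    rw [Matrix.SpecialLinearGroup.coe_pow, hxs, Matrix.diagonal_pow, hdr,
      Matrix.SpecialLinearGroup.coe_one]
    exact Matrix.diagonal_one
  · intro U hUK hU hts
    rw [hxs] at hUK hU
    exact mdiag_ts p n r hrp d hd hinj U hUK hU hts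

theorem mdiag_exp_large (n r : ℕ) (hr : r.Prime) (hr2 : r ≠ 2) (hrn : r ≤ n) :
    ∃ e : Fin n → ℕ, r ∣ ∑ j, e j ∧
      (∀ j j', ¬ r ∣ e j → e j ≡ e j' [MOD r] → j = j') ∧
      (∃ j₀ j₁, e j₁ = e j₀ + 1) ∧ r - 1 ≤ Fintype.card {j // ¬ r ∣ e j} := by
  classical
  have hr3 : 3 ≤ r := by
    have := hr.two_le
    omega
  refine ⟨fun j => if (j : ℕ) < r then (j : ℕ) else 0, ?_, ?_, ?_, ?_⟩
  · rw [Fin.sum_univ_eq_sum_range (fun i => if i < r then i else 0) n, ← Finset.sum_filter]
    have h1 : (Finset.range n).filter (fun i => i < r) = Finset.range r := by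
      ext i
      rw [Finset.mem_filter, Finset.mem_range, Finset.mem_range]
      omega
    rw [h1]
    have h2 := Finset.sum_range_id_mul_two r
    have h3 : r ∣ (∑ i ∈ Finset.range r, i) * 2 := by
      rw [h2]
      exact dvd_mul_right _ _
    have hcop : Nat.Coprime r 2 := by
      rw [Nat.coprime_primes hr Nat.prime_two]
      exact hr2
    exact hcop.dvd_of_dvd_mul_right h3
  · intro j j' hj hjj'
    simp only at hj hjj'
    by_cases h1 : (j : ℕ) < r
    · rw [if_pos h1] at hj hjj'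
      have hj0 : (j : ℕ) ≠ 0 := by
        intro h0
        rw [h0] at hj
        exact hj (dvd_zero r)
      by_cases h2 : (j' : ℕ) < r
      · rw [if_pos h2] at hjj'
        exact Fin.ext (Nat.ModEq.eq_of_lt_of_lt hjj' h1 h2)
      · rw [if_neg h2] at hjj'
        have := Nat.ModEq.eq_of_lt_of_lt hjj' h1 (by omega)
        exact absurd this hj0
    · rw [if_neg h1] at hj
      exact absurd (dvd_zero r) hj
  · refine ⟨⟨0, by omega⟩, ⟨1, by omega⟩, ?_⟩
    simp only
    rw [if_pos (by omega), if_pos (by omega)]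
  · have hinj : Function.Injective (fun k : Fin (r - 1) =>
        (⟨⟨(k : ℕ) + 1, by have := k.2; omega⟩, by
          have := k.2
          simp only
          rw [if_pos (by omega)]
          exact Nat.not_dvd_of_pos_of_lt (by omega) (by omega)⟩ :
          {j : Fin n // ¬ r ∣ (if (j : ℕ) < r then (j : ℕ) else 0)})) := by
      intro k k' hkk
      simp only [Subtype.mk.injEq, Fin.mk.injEq] at hkk
      exact Fin.ext (by omega)
    have h2 := Fintype.card_le_of_injective _ hinj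
    rw [Fintype.card_fin] at h2
    exact h2

theorem mdiag_exp_small (n r : ℕ) (hr : r.Prime) (hr2 : r ≠ 2) (hn : 3 ≤ n) (hnr : n < r) :
    ∃ e : Fin n → ℕ, r ∣ ∑ j, e j ∧ (∀ j j', e j ≡ e j' [MOD r] → j = j') ∧
      (∃ j₀ j₁, e j₁ = e j₀ + 1) := by
  classical
  have hodd : Odd r := hr.odd_of_ne_two hr2
  obtain ⟨t, ht⟩ : ∃ t : ℕ, r ∣ 2 * t + (n - 1) := by
    obtain ⟨m, hm⟩ := hodd
    rcases Nat.even_or_odd n with ⟨k, hk⟩ | ⟨k, hk⟩
    · refine ⟨m + 1 - k, ?_⟩
      have : 2 * (m + 1 - k) + (n - 1) = r := by omega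
      rw [this]
    · refine ⟨r - k, ?_⟩
      have : 2 * (r - k) + (n - 1) = r * 2 := by omega
      rw [this]
      exact dvd_mul_right _ _
  refine ⟨fun j => (j : ℕ) + t, ?_, ?_, ?_⟩
  · have h1 : (∑ j : Fin n, ((j : ℕ) + t)) * 2 = n * (2 * t + (n - 1)) := by
      rw [Finset.sum_add_distrib, Fin.sum_univ_eq_sum_range (fun i => i) n, Finset.sum_const,
        Finset.card_univ, Fintype.card_fin, smul_eq_mul, add_mul, Finset.sum_range_id_mul_two]
      ring
    have h3 : r ∣ (∑ j : Fin n, ((j : ℕ) + t)) * 2 := by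
      rw [h1]
      exact ht.mul_left _
    have hcop : Nat.Coprime r 2 := by
      rw [Nat.coprime_primes hr Nat.prime_two]
      exact hr2
    exact hcop.dvd_of_dvd_mul_right h3
  · intro j j' hjj'
    simp only at hjj'
    have h1 : (j : ℕ) ≡ (j' : ℕ) [MOD r] := Nat.ModEq.add_right_cancel' t hjj'
    exact Fin.ext (Nat.ModEq.eq_of_lt_of_lt h1 (by have := j.2; omega) (by have := j'.2; omega))
  · refine ⟨⟨0, by omega⟩, ⟨1, by omega⟩, ?_⟩
    simp only
    omega

/-- `r ∣ q + 1`: a diagonal element of order `r` with all nontrivial eigenvalues of multiplicity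
at most one -/
theorem exists_su_diag (hF : Fintype.card F = q ^ 2) (n r : ℕ) [Fact r.Prime] (hr2 : r ≠ 2)
    (hrq1 : r ∣ q + 1) (hn : 3 ≤ n) :
    ∃ x : Matrix.SpecialLinearGroup (Fin n) F, x ∈ Cfsg.SU n F q ∧ x ^ r = 1 ∧
      (∀ z : F, (x : Matrix (Fin n) (Fin n) F) ≠ z • (1 : Matrix (Fin n) (Fin n) F)) ∧
      (finrank F (fixE (Matrix.toLin' (x : Matrix (Fin n) (Fin n) F))) + (r - 1) ≤ n ∨
        finrank F (fixE (Matrix.toLin' (x : Matrix (Fin n) (Fin n) F))) ≤ 1) ∧
      ∀ U : Submodule F (Fin n → F), U ≤ movK r (Matrix.toLin' (x : Matrix (Fin n) (Fin n) F)) →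
        Inv (Matrix.toLin' (x : Matrix (Fin n) (Fin n) F)) U → TS (Cfsg.hermForm n F q) U → U = ⊥ := by
  classical
  have hrprime : r.Prime := Fact.out
  have hq0 : 1 ≤ q := by
    rcases Nat.eq_zero_or_pos q with h0 | h0
    · exfalso
      rw [h0] at hF
      have := Fintype.card_pos (α := F)
      omega
    · exact h0
  have hrdvd : r ∣ Nat.card Fˣ := by
    rw [Nat.card_units, Nat.card_eq_fintype_card, hF]
    have hq2 : 1 ≤ q ^ 2 := Nat.one_le_pow _ _ hq0
    have h1 : q ^ 2 - 1 = (q - 1) * (q + 1) := by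
      zify [hq0, hq2]
      ring
    rw [h1]
    exact hrq1.mul_left _
  obtain ⟨ζu, hζu⟩ := exists_prime_orderOf_dvd_card' r hrdvd
  have hord : orderOf ((ζu : Fˣ) : F) = r := by rw [orderOf_units, hζu]
  set ζ : F := ((ζu : Fˣ) : F) with hζ
  have hζr : ζ ^ r = 1 := by
    rw [← hord]
    exact pow_orderOf_eq_one _
  have hone : ∀ k : ℕ, ζ ^ k = 1 ↔ r ∣ k := by
    intro k
    rw [← hord]
    exact (orderOf_dvd_iff_pow_eq_one).symm
  have hmod : ∀ a b : ℕ, ζ ^ a = ζ ^ b → a ≡ b [MOD r] := by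
    intro a b hab
    have h1 : ζu ^ a = ζu ^ b := by
      apply Units.ext
      rw [Units.val_pow_eq_pow_val, Units.val_pow_eq_pow_val]
      exact hab
    rw [← hζu]
    exact pow_eq_pow_iff_modEq.1 h1
  -- the general construction from exponents
  have key : ∀ e : Fin n → ℕ, r ∣ ∑ j, e j →
      (∀ j j', ¬ r ∣ e j → e j ≡ e j' [MOD r] → j = j') → (∃ j₀ j₁, e j₁ = e j₀ + 1) →
      (r - 1 ≤ Fintype.card {j // ¬ r ∣ e j} ∨ n - 1 ≤ Fintype.card {j // ¬ r ∣ e j}) →
      ∃ x : Matrix.SpecialLinearGroup (Fin n) F, x ∈ Cfsg.SU n F q ∧ x ^ r = 1 ∧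
      (∀ z : F, (x : Matrix (Fin n) (Fin n) F) ≠ z • (1 : Matrix (Fin n) (Fin n) F)) ∧
      (finrank F (fixE (Matrix.toLin' (x : Matrix (Fin n) (Fin n) F))) + (r - 1) ≤ n ∨
        finrank F (fixE (Matrix.toLin' (x : Matrix (Fin n) (Fin n) F))) ≤ 1) ∧
      ∀ U : Submodule F (Fin n → F), U ≤ movK r (Matrix.toLin' (x : Matrix (Fin n) (Fin n) F)) →
        Inv (Matrix.toLin' (x : Matrix (Fin n) (Fin n) F)) U → TS (Cfsg.hermForm n F q) U →
        U = ⊥ := by
    intro e hsum hinj h01 hcount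
    have hd : ∀ j, (ζ ^ e j) ^ r = 1 := by
      intro j
      rw [← pow_mul, mul_comm, pow_mul, hζr, one_pow]
    have hprod : ∏ j, ζ ^ e j = 1 := by
      rw [Finset.prod_pow_eq_pow_sum, hone]
      exact hsum
    have hinjd : ∀ j j', ζ ^ e j ≠ 1 → ζ ^ e j = ζ ^ e j' → j = j' := by
      intro j j' h1 h2
      apply hinj j j'
      · rw [← hone]
        exact h1
      · exact hmod _ _ h2
    obtain ⟨x, hx, hxsu, hxr, hxts⟩ := mdiag_core hF n r hrq1 (fun j => ζ ^ e j) hd hprod hinjd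
    refine ⟨x, hxsu, hxr, ?_, ?_, hxts⟩
    · intro z hz
      obtain ⟨j₀, j₁, h01⟩ := h01
      have hz' : Matrix.diagonal (fun j => ζ ^ e j) = z • (1 : Matrix (Fin n) (Fin n) F) := by
        rw [← hx]
        exact hz
      have h1 : ζ ^ e j₀ = z := by
        have := congrFun (congrFun hz' j₀) j₀
        simpa using this
      have h2 : ζ ^ e j₁ = z := by
        have := congrFun (congrFun hz' j₁) j₁
        simpa using this
      have h3 : ζ ^ e j₀ = ζ ^ e j₁ := by rw [h1, h2]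
      have h4 : e j₀ ≡ e j₁ [MOD r] := hmod _ _ h3
      rw [h01] at h4
      have h5 : r ∣ e j₀ + 1 - e j₀ := (Nat.modEq_iff_dvd' (by omega)).1 h4
      rw [Nat.add_sub_cancel_left] at h5
      exact hrprime.one_lt.ne' (Nat.dvd_one.1 h5)
    · have h1 := mdiag_finrank_fixE n (fun j => ζ ^ e j)
      rw [← hx] at h1
      have h2 : Nat.card {j // ζ ^ e j - 1 ≠ 0} = Fintype.card {j // ¬ r ∣ e j} := by
        rw [Nat.card_eq_fintype_card]
        apply Fintype.card_congr
        apply Equiv.subtypeEquivRight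
        intro j
        rw [sub_ne_zero, ne_eq, hone]
      rw [h2] at h1
      rcases hcount with h3 | h3
      · left
        omega
      · right
        omega
  by_cases hrn : r ≤ n
  · obtain ⟨e, hsum, hinj, h01, hcnt⟩ := mdiag_exp_large n r hrprime hr2 hrn
    exact key e hsum hinj h01 (Or.inl hcnt)
  · push Not at hrn
    obtain ⟨e, hsum, hinj, h01⟩ := mdiag_exp_small n r hrprime hr2 hn hrn
    apply key e hsum (fun j j' _ h => hinj j j' h) h01
    right
    have h1 : Fintype.card {j // ¬ ¬ r ∣ e j} ≤ 1 := by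
      rw [Fintype.card_le_one_iff_subsingleton]
      constructor
      rintro ⟨j, hj⟩ ⟨j', hj'⟩
      apply Subtype.ext
      apply hinj
      rw [not_not] at hj hj'
      exact ((Nat.modEq_zero_iff_dvd).2 hj).trans ((Nat.modEq_zero_iff_dvd).2 hj').symm
    have h2 := Fintype.card_subtype_compl (fun j : Fin n => ¬ r ∣ e j)
    rw [Fintype.card_fin] at h2
    omega

end explicit

end Cfsg.Agent.Lib.Helper6.TSU
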