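import Mathlib
import Cfsg.Prelude.Def_Classical
import Cfsg.Agent.Lib.Helper6.TSU0
import Cfsg.Agent.Lib.Helper4.SimU2
import Cfsg.Agent.S0278

set_option autoImplicit false
set_option linter.unusedSectionVars false

/-! S5953 package PK-TR: transfer of an abstract model to `SU_n(q)`. -/

namespace Cfsg.Agent.Lib.Helper6.TSU

open Module Polynomial Matrix Cfsg.Agent.H9SemiInv
  Cfsg.Agent.Lib.Helper1.SpBlk Cfsg.Agent.Lib.Helper9.UPol Cfsg.Agent.Lib.Helper5.PSLCoset

section tr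
variable {F : Type*} [Field F] [Fintype F] {q : ℕ} {σ : F ≃+* F}

theorem exists_su_of_model (hF : Fintype.card F = q ^ 2) (hσ : orderOf σ = 2)
    (hσq : ∀ a, σ a = a ^ q) {W : Type*} [AddCommGroup W] [Module F W] [FiniteDimensional F W]
    (HW : W → W → F) (hHW : IsHerm σ HW) (hndW : ∀ v, (∀ w, HW v w = 0) → v = 0) (n : ℕ)
    (hdim : finrank F W = n) (TW : W →ₗ[F] W) (hTW : ∀ u v, HW (TW u) (TW v) = HW u v) (r : ℕ)
    [Fact r.Prime] (hTWr : TW ^ r = 1) (hrq1 : ¬ r ∣ q + 1) :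
    ∃ (x : Matrix.SpecialLinearGroup (Fin n) F) (e : W ≃ₗ[F] (Fin n → F)),
      x ∈ Cfsg.SU n F q ∧ x ^ r = 1 ∧ (∀ u v, Cfsg.hermForm n F q (e u) (e v) = HW u v) ∧
      ∀ w, Matrix.toLin' (x : Matrix (Fin n) (Fin n) F) (e w) = e (TW w) := by
  classical
  have hrprime : r.Prime := Fact.out
  have hnd' : Cfsg.Agent.Lib.Helper4.SimU.Nondeg HW := by
    intro v hv
    by_contra hcon
    push Not at hcon
    exact hv (hndW v hcon)
  obtain ⟨g, hg⟩ := Cfsg.Agent.Lib.Helper4.SimU.exists_std_equiv hσ hHW hnd' n hdim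
  have hform : ∀ u v, HW (g u) (g v) = Cfsg.hermForm n F q u v := by
    intro u v
    rw [hg]
    unfold Cfsg.hermForm
    apply Finset.sum_congr rfl
    intro i _
    rw [hσq]
  set T' : (Fin n → F) →ₗ[F] (Fin n → F) :=
    g.symm.toLinearMap ∘ₗ TW ∘ₗ g.toLinearMap with hT'
  have hT'v : ∀ v, g (T' v) = TW (g v) := by
    intro v
    rw [hT']
    simp
  have hT'pow : ∀ k : ℕ, ∀ v, g ((T' ^ k) v) = (TW ^ k) (g v) := by
    intro k
    induction k with
    | zero => intro v; simp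
    | succ k ih =>
      intro v
      rw [pow_succ', Module.End.mul_apply, hT'v, ih, pow_succ', Module.End.mul_apply]
  have hT'r : T' ^ r = 1 := by
    apply LinearMap.ext
    intro v
    apply g.injective
    rw [hT'pow, hTWr, Module.End.one_apply, Module.End.one_apply]
  set X : Matrix (Fin n) (Fin n) F := LinearMap.toMatrix' T' with hX
  have hXlin : Matrix.toLin' X = T' := Matrix.toLin'_toMatrix' T'
  have hXr : X ^ r = 1 := by
    apply Matrix.toLin'.injective
    rw [Matrix.toLin'_pow, hXlin, hT'r, Matrix.toLin'_one]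
    rfl
  have hpres : ∀ u v, Cfsg.hermForm n F q (X *ᵥ u) (X *ᵥ v) = Cfsg.hermForm n F q u v := by
    intro u v
    rw [← Matrix.toLin'_apply, ← Matrix.toLin'_apply, hXlin, ← hform, ← hform, hT'v, hT'v, hTW]
  have hnrm := Cfsg.Agent.S0278.nrm_det hF X hpres
  have hdet : X.det = 1 := by
    have h1 : X.det ^ r = 1 := by rw [← Matrix.det_pow, hXr, Matrix.det_one]
    have h2 : X.det ^ (q + 1) = 1 := by
      rw [pow_succ']
      exact hnrm
    have h3 : X.det ^ Nat.gcd r (q + 1) = 1 := pow_gcd_eq_one.2 ⟨h1, h2⟩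
    have hcop : Nat.gcd r (q + 1) = 1 := (Nat.Prime.coprime_iff_not_dvd hrprime).2 hrq1
    rw [hcop, pow_one] at h3
    exact h3
  obtain ⟨xs, hxs⟩ : ∃ xs : Matrix.SpecialLinearGroup (Fin n) F,
      (xs : Matrix (Fin n) (Fin n) F) = X := ⟨⟨X, hdet⟩, rfl⟩
  refine ⟨xs, g.symm, ?_, ?_, ?_, ?_⟩
  · intro u v
    show Cfsg.hermForm n F q ((xs : Matrix (Fin n) (Fin n) F) *ᵥ u)
      ((xs : Matrix (Fin n) (Fin n) F) *ᵥ v) = _
    rw [hxs]
    exact hpres u v
  · apply Subtype.ext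
    rw [Matrix.SpecialLinearGroup.coe_pow, hxs]
    exact hXr
  · intro u v
    rw [← hform, LinearEquiv.apply_symm_apply, LinearEquiv.apply_symm_apply]
  · intro w
    rw [hxs, hXlin]
    apply g.injective
    rw [hT'v, LinearEquiv.apply_symm_apply, LinearEquiv.apply_symm_apply]

end tr

end Cfsg.Agent.Lib.Helper6.TSU
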