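import Mathlib
import Cfsg.Prelude.Def_SporadicCombinatorics

/-!
# The ternary code of length 12: an explicit parametrization
-/

set_option autoImplicit false

namespace Cfsg.Agent.Lib.Helper1.TG

open Cfsg

/-- the parameter space -/
abbrev P := ZMod 3 × ZMod 3 × ZMod 3 × ZMod 3 × ZMod 3 × ZMod 3

/-- position of a point of the array -/
def pIdx (p : ArrayPt) : ℕ := 3 * p.1.val + p.2.val

/-- the rows of a generator matrix, as lists -/
def gRow (j : ℕ) : List (ZMod 3) :=
  match j with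
  | 0 => [1, 0, 0, 0, 0, 1, 0, 0, 1, 1, 1, 2]
  | 1 => [0, 1, 0, 0, 0, 1, 0, 2, 2, 2, 0, 2]
  | 2 => [0, 0, 1, 0, 0, 1, 0, 1, 0, 2, 1, 1]
  | 3 => [0, 0, 0, 1, 0, 2, 0, 2, 1, 2, 1, 0]
  | 4 => [0, 0, 0, 0, 1, 2, 0, 1, 2, 0, 1, 2]
  | _ => [0, 0, 0, 0, 0, 0, 1, 1, 1, 2, 2, 2]

/-- the basis words -/
def gw (j : ℕ) (p : ArrayPt) : ZMod 3 := (gRow j).getD (pIdx p) 0

/-- the word with given parameters -/
def enc (a : P) : ArrayPt → ZMod 3 := fun p =>
  a.1 * gw 0 p + a.2.1 * gw 1 p + a.2.2.1 * gw 2 p + a.2.2.2.1 * gw 3 p + a.2.2.2.2.1 * gw 4 p +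
    a.2.2.2.2.2 * gw 5 p

/-- the parameters of a word -/
def dec (x : ArrayPt → ZMod 3) : P :=
  (x (0, 0), x (0, 1), x (0, 2), x (1, 0), x (1, 1), x (2, 0))

/-- the word supported off the information set with given entries -/
def emb (z : P) : ArrayPt → ZMod 3 := fun p =>
  [0, 0, 0, 0, 0, z.1, 0, z.2.1, z.2.2.1, z.2.2.2.1, z.2.2.2.2.1, z.2.2.2.2.2].getD (pIdx p) 0

/-- the entries of a word off the information set -/
def prj (x : ArrayPt → ZMod 3) : P :=
  (x (1, 2), x (2, 1), x (2, 2), x (3, 0), x (3, 1), x (3, 2))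

theorem mem_tetracode_iff (t : Fin 4 → ZMod 3) :
    t ∈ tetracode ↔ ∃ a b : ZMod 3, a • ![0, 1, 1, 1] + b • ![1, 0, 1, 2] = t :=
  Submodule.mem_span_pair

/-- a decidable form of the defining condition -/
def IsTGW (x : ArrayPt → ZMod 3) : Prop :=
  ∃ s : ZMod 3, (∀ i : Fin 4, ∑ r : ZMod 3, x (i, r) = -s) ∧
    ∀ a b : ZMod 3, ∑ i : Fin 4, x (i, (a • ![0, 1, 1, 1] + b • ![1, 0, 1, 2] : Fin 4 → ZMod 3) i) = s

instance (x : ArrayPt → ZMod 3) : Decidable (IsTGW x) := by
  unfold IsTGW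
  infer_instance

theorem isTGW_iff (x : ArrayPt → ZMod 3) : IsTernaryGolayWord x ↔ IsTGW x := by
  unfold IsTernaryGolayWord IsTGW
  constructor
  · rintro ⟨s, h1, h2⟩
    exact ⟨s, h1, fun a b => h2 _ ((mem_tetracode_iff _).mpr ⟨a, b, rfl⟩)⟩
  · rintro ⟨s, h1, h2⟩
    refine ⟨s, h1, fun t ht => ?_⟩
    obtain ⟨a, b, rfl⟩ := (mem_tetracode_iff t).mp ht
    exact h2 a b

theorem mem_code_iff' (x : ArrayPt → ZMod 3) : x ∈ ternaryGolayCode ↔ IsTGW x :=
  isTGW_iff x

set_option maxRecDepth 100000 in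
theorem enc_mem_aux : ∀ a : P, IsTGW (enc a) := by decide +kernel

set_option maxRecDepth 100000 in
theorem emb_zero_aux : ∀ z : P, IsTGW (emb z) → z = 0 := by decide +kernel

theorem enc_mem (a : P) : enc a ∈ ternaryGolayCode := (mem_code_iff' _).mpr (enc_mem_aux a)

set_option maxRecDepth 100000 in
theorem dec_enc : ∀ a : P, dec (enc a) = a := by decide +kernel

theorem enc_injective : Function.Injective enc := by
  intro a b h
  rw [← dec_enc a, ← dec_enc b, h]

theorem eq_emb_prj (y : ArrayPt → ZMod 3) (h : dec y = 0) : y = emb (prj y) := by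
  unfold dec at h
  simp only [Prod.mk_eq_zero] at h
  obtain ⟨h1, h2, h3, h4, h5, h6⟩ := h
  funext ⟨i, r⟩
  fin_cases i <;> fin_cases r
  · exact h1
  · exact h2
  · exact h3
  · exact h4
  · exact h5
  · rfl
  · exact h6
  · rfl
  · rfl
  · rfl
  · rfl
  · rfl

theorem emb_zero : emb 0 = 0 := by
  funext ⟨i, r⟩
  fin_cases i <;> fin_cases r <;> rfl

theorem dec_sub (x y : ArrayPt → ZMod 3) : dec (x - y) = dec x - dec y := rfl

/-- the code is the set of the words `enc a` -/
theorem mem_code_iff (x : ArrayPt → ZMod 3) : x ∈ ternaryGolayCode ↔ ∃ a : P, enc a = x := by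
  constructor
  · intro hx
    refine ⟨dec x, ?_⟩
    have hy : x - enc (dec x) ∈ ternaryGolayCode := ternaryGolayCode.sub_mem hx (enc_mem _)
    have hd : dec (x - enc (dec x)) = 0 := by rw [dec_sub, dec_enc, sub_self]
    have h1 := eq_emb_prj _ hd
    have h2 : IsTGW (emb (prj (x - enc (dec x)))) := by
      rw [← h1]; exact (mem_code_iff' _).mp hy
    have h3 := emb_zero_aux _ h2
    rw [h3, emb_zero] at h1
    exact (sub_eq_zero.mp h1).symm
  · rintro ⟨a, rfl⟩
    exact enc_mem a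

/-- the weight of the word with given parameters -/
def wt (a : P) : ℕ := (ternarySupport (enc a)).card

theorem enc_zero : enc 0 = 0 := by
  funext p
  simp [enc]

theorem card_code : Nat.card ↥ternaryGolayCode = 729 := by
  have e : P ≃ ↥ternaryGolayCode := Equiv.ofBijective (fun a => ⟨enc a, enc_mem a⟩) ⟨by
    intro a b h
    exact enc_injective (Subtype.mk.inj h), by
    rintro ⟨x, hx⟩
    obtain ⟨a, rfl⟩ := (mem_code_iff x).mp hx
    exact ⟨a, rfl⟩⟩
  rw [← Nat.card_congr e]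
  simp [Nat.card_eq_fintype_card]

theorem ncard_weight (k n : ℕ) (h : (Finset.univ.filter (fun a : P => wt a = k)).card = n) :
    {x : ArrayPt → ZMod 3 | x ∈ ternaryGolayCode ∧ (ternarySupport x).card = k}.ncard = n := by
  have : {x : ArrayPt → ZMod 3 | x ∈ ternaryGolayCode ∧ (ternarySupport x).card = k} =
      enc '' ↑(Finset.univ.filter (fun a : P => wt a = k)) := by
    ext x
    constructor
    · rintro ⟨hx, hk⟩
      obtain ⟨a, rfl⟩ := (mem_code_iff x).mp hx
      refine ⟨a, ?_, rfl⟩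
      rw [Finset.mem_coe, Finset.mem_filter]
      exact ⟨Finset.mem_univ _, hk⟩
    · rintro ⟨a, ha, rfl⟩
      rw [Finset.mem_coe, Finset.mem_filter] at ha
      exact ⟨enc_mem a, ha.2⟩
  rw [this, Set.ncard_image_of_injective _ enc_injective, Set.ncard_coe_finset, h]

set_option maxRecDepth 100000 in
theorem wt_cases : ∀ a : P, a = 0 ∨ wt a = 6 ∨ wt a = 9 ∨ wt a = 12 := by decide +kernel

set_option maxRecDepth 100000 in
theorem count6 : (Finset.univ.filter (fun a : P => wt a = 6)).card = 264 := by decide +kernel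

set_option maxRecDepth 100000 in
theorem count9 : (Finset.univ.filter (fun a : P => wt a = 9)).card = 440 := by decide +kernel

set_option maxRecDepth 100000 in
theorem count12 : (Finset.univ.filter (fun a : P => wt a = 12)).card = 24 := by decide +kernel

end Cfsg.Agent.Lib.Helper1.TG
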