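import Mathlib
import Cfsg.Agent.Lib.Helper1.TernaryGolay
import Cfsg.Agent.Lib.Helper1.SubMask

/-!
# The hexads of the ternary code of length 12
-/

set_option autoImplicit false

namespace Cfsg.Agent.Lib.Helper1.TG

open Cfsg Cfsg.Agent.Lib.Helper1 Cfsg.Agent.Lib.Helper1.M24

/-- the point at a position -/
def pUn (i : ℕ) : ArrayPt :=
  ((⟨i / 3 % 4, Nat.mod_lt _ (by norm_num)⟩ : Fin 4), (⟨i % 3, Nat.mod_lt _ (by norm_num)⟩ : Fin 3))

theorem pIdx_lt : ∀ p : ArrayPt, pIdx p < 12 := by decide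

theorem pUn_pIdx : ∀ p : ArrayPt, pUn (pIdx p) = p := by decide

theorem pIdx_pUn : ∀ i < 12, pIdx (pUn i) = i := by decide

/-- the set of points with a given bit mask -/
def spA (m : ℕ) : Finset ArrayPt := Finset.univ.filter (fun p => m.testBit (pIdx p) = true)

theorem mem_spA (m : ℕ) (p : ArrayPt) : p ∈ spA m ↔ m.testBit (pIdx p) = true := by
  unfold spA
  rw [Finset.mem_filter]
  exact ⟨fun h => h.2, fun h => ⟨Finset.mem_univ _, h⟩⟩

/-- the bit mask of a set of points -/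
def maskA (t : Finset ArrayPt) : ℕ := Nat.ofBits (n := 12) (fun i => decide (pUn i ∈ t))

theorem maskA_lt (t : Finset ArrayPt) : maskA t < 2 ^ 12 := Nat.ofBits_lt_two_pow _

theorem testBit_maskA (t : Finset ArrayPt) (p : ArrayPt) :
    (maskA t).testBit (pIdx p) = true ↔ p ∈ t := by
  rw [maskA, Nat.testBit_ofBits_lt _ _ (pIdx_lt p)]
  simp [pUn_pIdx]

theorem spA_maskA (t : Finset ArrayPt) : spA (maskA t) = t := by
  ext p
  rw [mem_spA, testBit_maskA]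

theorem spA_injOn {a b : ℕ} (ha : a < 2 ^ 12) (hb : b < 2 ^ 12) (h : spA a = spA b) : a = b := by
  apply Nat.eq_of_testBit_eq
  intro i
  by_cases hi : i < 12
  · have h1 := mem_spA a (pUn i)
    have h2 := mem_spA b (pUn i)
    rw [pIdx_pUn i hi] at h1 h2
    rw [Bool.eq_iff_iff, ← h1, ← h2, h]
  · have hp : (2 : ℕ) ^ 12 ≤ 2 ^ i := Nat.pow_le_pow_right (by norm_num) (by omega)
    rw [Nat.testBit_lt_two_pow (lt_of_lt_of_le ha hp),
      Nat.testBit_lt_two_pow (lt_of_lt_of_le hb hp)]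

theorem card_spA (m : ℕ) : (spA m).card = popcN 12 m := by
  have h : ∀ n ≤ 12, ((spA m).filter (fun p => pIdx p < n)).card = popcN n m := by
    intro n hn
    induction n with
    | zero =>
      rw [popcN, Finset.card_eq_zero, Finset.filter_eq_empty_iff]
      intro p _ h
      omega
    | succ n ih =>
      have hsplit : (spA m).filter (fun p => pIdx p < n + 1) =
          (spA m).filter (fun p => pIdx p < n) ∪ (if m.testBit n then {pUn n} else ∅) := by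
        ext p
        simp only [Finset.mem_filter, Finset.mem_union, mem_spA]
        constructor
        · rintro ⟨h1, h2⟩
          by_cases hpn : pIdx p < n
          · exact Or.inl ⟨h1, hpn⟩
          · right
            have : pIdx p = n := by omega
            rw [← this, h1, if_pos rfl, Finset.mem_singleton, pUn_pIdx]
        · rintro (⟨h1, h2⟩ | h)
          · exact ⟨h1, by omega⟩
          · split_ifs at h with hb
            · rw [Finset.mem_singleton] at h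
              subst h
              rw [pIdx_pUn n (by omega)]
              exact ⟨hb, by omega⟩
            · simp at h
      rw [hsplit, Finset.card_union_of_disjoint, ih (by omega), popcN]
      · congr 1
        split_ifs <;> simp
      · rw [Finset.disjoint_left]
        intro p hp hp'
        rw [Finset.mem_filter] at hp
        split_ifs at hp' with hb
        · rw [Finset.mem_singleton] at hp'
          subst hp'
          rw [pIdx_pUn n (by omega)] at hp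
          omega
        · simp at hp'
  rw [← h 12 le_rfl]
  congr 1
  ext p
  simp [pIdx_lt p]

theorem spA_subset_iff {a b : ℕ} (ha : a < 2 ^ 12) : spA a ⊆ spA b ↔ a &&& b = a := by
  constructor
  · intro h
    apply Nat.eq_of_testBit_eq
    intro i
    rw [Nat.testBit_and]
    by_cases hi : i < 12
    · by_cases hai : a.testBit i = true
      · have h1 : pUn i ∈ spA a := by rw [mem_spA, pIdx_pUn i hi]; exact hai
        have h2 := h h1
        rw [mem_spA, pIdx_pUn i hi] at h2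
        rw [hai, h2]; rfl
      · rw [Bool.not_eq_true] at hai
        rw [hai]; rfl
    · have : a.testBit i = false :=
        Nat.testBit_lt_two_pow (lt_of_lt_of_le ha (Nat.pow_le_pow_right (by norm_num) (by omega)))
      rw [this]; rfl
  · intro h p hp
    rw [mem_spA] at hp ⊢
    rw [← h, Nat.testBit_and, Bool.and_eq_true] at hp
    exact hp.2

/-- the bit mask of the support of a word -/
def maskW (x : ArrayPt → ZMod 3) : ℕ := Nat.ofBits (n := 12) (fun i => decide (x (pUn i) ≠ 0))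

theorem support_eq_spA (x : ArrayPt → ZMod 3) : ternarySupport x = spA (maskW x) := by
  ext p
  rw [mem_spA, maskW, Nat.testBit_ofBits_lt _ _ (pIdx_lt p)]
  simp [ternarySupport, pUn_pIdx]

theorem maskW_lt (x : ArrayPt → ZMod 3) : maskW x < 2 ^ 12 := Nat.ofBits_lt_two_pow _

/-- the masks of the hexads -/
def blocks : List ℕ := [
  63, 222, 237, 243, 347, 366, 373, 413, 427, 438, 455, 504, 591, 630, 633, 667, 679, 700, 
  725, 746, 791, 813, 826, 860, 867, 910, 945, 969, 978, 996, 1117, 1127, 1146, 1175, 1198, 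
  1209, 1227, 1268, 1295, 1331, 1340, 1366, 1385, 1434, 1445, 1484, 1489, 1506, 1566, 1579, 
  1589, 1619, 1644, 1677, 1714, 1734, 1752, 1761, 1817, 1830, 1861, 1866, 1904, 1923, 1940, 
  1960, 2135, 2155, 2172, 2191, 2229, 2234, 2265, 2278, 2334, 2343, 2361, 2381, 2418, 2451, 
  2476, 2506, 2516, 2529, 2589, 2606, 2611, 2650, 2661, 2710, 2729, 2755, 2764, 2800, 2827, 
  2868, 2886, 2897, 2920, 2949, 2968, 2978, 3099, 3117, 3126, 3150, 3185, 3228, 3235, 3269, 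
  3282, 3304, 3349, 3370, 3395, 3416, 3428, 3462, 3465, 3504, 3591, 3640, 3657, 3668, 3682, 
  3722, 3729, 3748, 3852, 3858, 3873, 4032]

/-- the hexads with words having them as supports -/
def wit : List (ℕ × P) := [
  (63, (1, 1, 1, 2, 2, 0)), (222, (0, 1, 2, 1, 2, 2)), (237, (1, 0, 2, 1, 0, 1)), 
  (243, (1, 2, 0, 0, 1, 2)), (347, (1, 2, 0, 1, 2, 1)), (366, (0, 1, 2, 2, 0, 1)), 
  (373, (1, 0, 2, 0, 2, 2)), (413, (1, 0, 2, 2, 1, 0)), (427, (1, 2, 0, 2, 0, 0)), 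
  (438, (0, 1, 2, 0, 1, 0)), (455, (1, 1, 1, 0, 0, 2)), (504, (0, 0, 0, 1, 1, 2)), 
  (591, (1, 2, 2, 2, 0, 2)), (630, (0, 1, 1, 0, 1, 2)), (633, (1, 0, 0, 2, 1, 1)), 
  (667, (1, 1, 0, 1, 1, 0)), (679, (1, 1, 2, 0, 0, 0)), (700, (0, 0, 1, 1, 1, 0)), 
  (725, (1, 0, 1, 0, 2, 1)), (746, (0, 1, 0, 2, 0, 2)), (791, (1, 2, 1, 0, 1, 0)), 
  (813, (1, 0, 1, 1, 0, 0)), (826, (0, 1, 0, 1, 2, 0)), (860, (0, 0, 1, 2, 2, 2)), 
  (867, (1, 1, 0, 0, 0, 1)), (910, (0, 1, 1, 2, 0, 0)), (945, (1, 0, 0, 0, 2, 0)), 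
  (969, (1, 0, 0, 1, 0, 2)), (978, (0, 1, 0, 0, 1, 1)), (996, (0, 0, 1, 0, 0, 1)), 
  (1117, (1, 0, 1, 1, 1, 2)), (1127, (1, 2, 1, 0, 0, 1)), (1146, (0, 1, 0, 1, 1, 1)), 
  (1175, (1, 2, 2, 0, 2, 0)), (1198, (0, 1, 1, 1, 0, 0)), (1209, (1, 0, 0, 1, 2, 0)), 
  (1227, (1, 1, 0, 2, 0, 1)), (1268, (0, 0, 1, 0, 2, 2)), (1295, (1, 1, 2, 1, 0, 0)), 
  (1331, (1, 1, 0, 0, 1, 0)), (1340, (0, 0, 1, 2, 1, 0)), (1366, (0, 1, 1, 0, 2, 1)), 
  (1385, (1, 0, 0, 2, 0, 2)), (1434, (0, 1, 0, 2, 2, 0)), (1445, (1, 0, 1, 0, 0, 0)), 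
  (1484, (0, 0, 1, 1, 0, 1)), (1489, (1, 0, 0, 0, 1, 1)), (1506, (0, 1, 0, 0, 0, 2)), 
  (1566, (0, 1, 2, 2, 1, 0)), (1579, (1, 2, 0, 1, 0, 0)), (1589, (1, 0, 2, 0, 1, 0)), 
  (1619, (1, 1, 0, 0, 2, 2)), (1644, (0, 0, 1, 2, 0, 1)), (1677, (1, 0, 1, 2, 0, 0)), 
  (1714, (0, 1, 0, 0, 2, 0)), (1734, (0, 1, 2, 0, 0, 1)), (1752, (0, 0, 0, 1, 2, 1)), 
  (1761, (1, 0, 0, 0, 0, 2)), (1817, (1, 0, 0, 2, 2, 0)), (1830, (0, 1, 1, 0, 0, 0)), 
  (1861, (1, 0, 2, 0, 0, 1)), (1866, (0, 1, 0, 1, 0, 2)), (1904, (0, 0, 0, 0, 1, 2)), 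
  (1923, (1, 2, 0, 0, 0, 0)), (1940, (0, 0, 1, 0, 1, 0)), (1960, (0, 0, 0, 1, 0, 0)), 
  (2135, (1, 1, 2, 0, 1, 1)), (2155, (1, 1, 0, 1, 0, 2)), (2172, (0, 0, 1, 1, 2, 1)), 
  (2191, (1, 2, 1, 1, 0, 0)), (2229, (1, 0, 1, 0, 1, 0)), (2234, (0, 1, 0, 2, 1, 0)), 
  (2265, (1, 0, 0, 2, 2, 2)), (2278, (0, 1, 1, 0, 0, 1)), (2334, (0, 1, 1, 1, 1, 0)), 
  (2343, (1, 2, 2, 0, 0, 0)), (2361, (1, 0, 0, 1, 1, 0)), (2381, (1, 0, 1, 2, 0, 1)), 
  (2418, (0, 1, 0, 0, 2, 2)), (2451, (1, 1, 0, 0, 2, 0)), (2476, (0, 0, 1, 2, 0, 0)), 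
  (2506, (0, 1, 0, 1, 0, 1)), (2516, (0, 0, 1, 0, 1, 2)), (2529, (1, 0, 0, 0, 0, 1)), 
  (2589, (1, 0, 2, 1, 2, 0)), (2606, (0, 1, 2, 1, 0, 0)), (2611, (1, 2, 0, 0, 2, 0)), 
  (2650, (0, 1, 0, 2, 2, 1)), (2661, (1, 0, 1, 0, 0, 2)), (2710, (0, 1, 1, 0, 2, 0)), 
  (2729, (1, 0, 0, 2, 0, 0)), (2755, (1, 2, 0, 0, 0, 1)), (2764, (0, 0, 1, 1, 0, 2)), 
  (2800, (0, 0, 0, 0, 1, 1)), (2827, (1, 1, 0, 2, 0, 0)), (2868, (0, 0, 1, 0, 2, 0)), 
  (2886, (0, 1, 2, 0, 0, 2)), (2897, (1, 0, 0, 0, 1, 2)), (2920, (0, 0, 0, 1, 0, 1)), 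
  (2949, (1, 0, 2, 0, 0, 0)), (2968, (0, 0, 0, 1, 2, 0)), (2978, (0, 1, 0, 0, 0, 0)), 
  (3099, (1, 2, 0, 2, 1, 0)), (3117, (1, 0, 2, 2, 0, 0)), (3126, (0, 1, 2, 0, 2, 0)), 
  (3150, (0, 1, 1, 2, 0, 2)), (3185, (1, 0, 0, 0, 2, 1)), (3228, (0, 0, 1, 2, 2, 0)), 
  (3235, (1, 1, 0, 0, 0, 0)), (3269, (1, 0, 2, 0, 0, 2)), (3282, (0, 1, 0, 0, 1, 2)), 
  (3304, (0, 0, 0, 1, 0, 2)), (3349, (1, 0, 1, 0, 2, 0)), (3370, (0, 1, 0, 2, 0, 0)), 
  (3395, (1, 2, 0, 0, 0, 2)), (3416, (0, 0, 0, 1, 2, 2)), (3428, (0, 0, 1, 0, 0, 2)), 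
  (3462, (0, 1, 2, 0, 0, 0)), (3465, (1, 0, 0, 1, 0, 0)), (3504, (0, 0, 0, 0, 1, 0)), 
  (3591, (1, 1, 1, 0, 0, 0)), (3640, (0, 0, 0, 1, 1, 0)), (3657, (1, 0, 0, 1, 0, 1)), 
  (3668, (0, 0, 1, 0, 1, 1)), (3682, (0, 1, 0, 0, 0, 1)), (3722, (0, 1, 0, 1, 0, 0)), 
  (3729, (1, 0, 0, 0, 1, 0)), (3748, (0, 0, 1, 0, 0, 0)), (3852, (0, 0, 1, 1, 0, 0)), 
  (3858, (0, 1, 0, 0, 1, 0)), (3873, (1, 0, 0, 0, 0, 0)), (4032, (0, 0, 0, 0, 0, 1))]

set_option maxRecDepth 100000 in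
theorem wit_ok : wit.all (fun e => decide (wt e.2 = 6) && (maskW (enc e.2) == e.1)) = true := by
  decide +kernel

theorem wit_fst : wit.map Prod.fst = blocks := by decide +kernel

set_option maxRecDepth 100000 in
theorem blocks_complete : ∀ a : P, wt a = 6 → maskW (enc a) ∈ blocks := by decide +kernel

theorem blocks_lt : ∀ b ∈ blocks, b < 2 ^ 12 := by decide +kernel

theorem blocks_nodup : blocks.Nodup := by decide +kernel

/-- the system of hexads -/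
abbrev hexadsT : Set (Finset ArrayPt) :=
  {h : Finset ArrayPt | ∃ x ∈ ternaryGolayCode, ternarySupport x = h ∧ h.card = 6}

theorem mem_hexadsT_iff (h : Finset ArrayPt) : h ∈ hexadsT ↔ ∃ b ∈ blocks, spA b = h := by
  constructor
  · rintro ⟨x, hx, rfl, h6⟩
    obtain ⟨a, rfl⟩ := (mem_code_iff x).mp hx
    exact ⟨maskW (enc a), blocks_complete a h6, (support_eq_spA _).symm⟩
  · rintro ⟨b, hb, rfl⟩
    rw [← wit_fst, List.mem_map] at hb
    obtain ⟨e, he, rfl⟩ := hb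
    have := List.all_eq_true.mp wit_ok e he
    rw [Bool.and_eq_true, decide_eq_true_eq, beq_iff_eq] at this
    refine ⟨enc e.2, enc_mem _, ?_, ?_⟩
    · rw [support_eq_spA, this.2]
    · rw [← this.2, ← support_eq_spA]
      exact this.1

set_option maxRecDepth 100000 in
theorem steiner_aux : (subMasks 12 5).all
    (fun m => (blocks.filter (fun b => m &&& b == m)).length == 1) = true := by decide +kernel

theorem ncard_hexadsT : hexadsT.ncard = 132 := by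
  have : hexadsT = spA '' ↑blocks.toFinset := by
    ext h
    rw [mem_hexadsT_iff]
    simp only [Set.mem_image, Finset.mem_coe, List.mem_toFinset]
  rw [this, Set.InjOn.ncard_image, Set.ncard_coe_finset, List.toFinset_card_of_nodup blocks_nodup]
  · decide +kernel
  · intro a ha b hb h
    simp only [Finset.mem_coe, List.mem_toFinset] at ha hb
    exact spA_injOn (blocks_lt a ha) (blocks_lt b hb) h

theorem isSteiner_hexadsT : IsSteinerSystem 5 6 hexadsT := by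
  refine ⟨fun b hb => ?_, fun s hs => ?_⟩
  · obtain ⟨x, _, rfl, h6⟩ := hb
    exact h6
  · have hm : maskA s ∈ subMasks 12 5 := by
      rw [mem_subMasks]
      exact ⟨maskA_lt s, by rw [← card_spA, spA_maskA, hs]⟩
    have h1 := List.all_eq_true.mp steiner_aux _ hm
    rw [beq_iff_eq, List.length_eq_one_iff] at h1
    obtain ⟨b₀, hb₀⟩ := h1
    have hb₀mem : b₀ ∈ blocks.filter (fun b => maskA s &&& b == maskA s) := by
      rw [hb₀]; exact List.mem_singleton.mpr rfl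
    rw [List.mem_filter, beq_iff_eq] at hb₀mem
    refine ⟨spA b₀, ⟨(mem_hexadsT_iff _).mpr ⟨b₀, hb₀mem.1, rfl⟩, ?_⟩, ?_⟩
    · rw [← spA_maskA s]
      exact (spA_subset_iff (maskA_lt s)).mpr hb₀mem.2
    · rintro b' ⟨hb', hsub⟩
      obtain ⟨b₁, hb₁, rfl⟩ := (mem_hexadsT_iff b').mp hb'
      rw [← spA_maskA s, spA_subset_iff (maskA_lt s)] at hsub
      have : b₁ ∈ blocks.filter (fun b => maskA s &&& b == maskA s) := by
        rw [List.mem_filter, beq_iff_eq]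
        exact ⟨hb₁, hsub⟩
      rw [hb₀, List.mem_singleton] at this
      rw [this]

end Cfsg.Agent.Lib.Helper1.TG
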