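import Mathlib
import Cfsg.Agent.Lib.Helper1.TernaryHexads
import Cfsg.Agent.Lib.Helper1.SteinAut1

/-!
# Monomial maps preserving the ternary code of length 12
-/

set_option autoImplicit false

namespace Cfsg.Agent.Lib.Helper1.TG

open Cfsg

/-- the monomial map preserves the code -/
def Pres (σ : Equiv.Perm ArrayPt) (c : ArrayPt → (ZMod 3)ˣ) : Prop :=
  ∀ x ∈ ternaryGolayCode, monomialMap σ c x ∈ ternaryGolayCode

theorem support_monomialMap (σ : Equiv.Perm ArrayPt) (c : ArrayPt → (ZMod 3)ˣ)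
    (x : ArrayPt → ZMod 3) :
    ternarySupport (monomialMap σ c x) = (ternarySupport x).image σ := by
  ext i
  unfold ternarySupport monomialMap
  simp only [Finset.mem_filter, Finset.mem_univ, true_and, Finset.mem_image]
  constructor
  · intro h
    refine ⟨σ.symm i, ?_, by simp⟩
    intro h0
    apply h
    rw [h0, mul_zero]
  · rintro ⟨j, hj, rfl⟩
    rw [Equiv.symm_apply_apply]
    exact mul_ne_zero (Units.ne_zero _) hj

theorem pres_aut {σ : Equiv.Perm ArrayPt} {c : ArrayPt → (ZMod 3)ˣ} (h : Pres σ c) :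
    σ ∈ setSystemAut hexadsT := by
  rw [Cfsg.Agent.Lib.Helper1.Stein.mem_setSystemAut_iff]
  rintro b ⟨x, hx, rfl, h6⟩
  refine ⟨monomialMap σ c x, h x hx, support_monomialMap σ c x, ?_⟩
  rw [Finset.card_image_of_injective _ σ.injective, h6]

theorem pres_one : Pres 1 (fun _ => 1) := by
  intro x hx
  have : monomialMap (1 : Equiv.Perm ArrayPt) (fun _ => (1 : (ZMod 3)ˣ)) x = x := by
    funext i
    show ((1 : (ZMod 3)ˣ) : ZMod 3) * x i = x i
    rw [Units.val_one, one_mul]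
  rw [this]
  exact hx

theorem pres_mul {σ τ : Equiv.Perm ArrayPt} {c d : ArrayPt → (ZMod 3)ˣ} (hσ : Pres σ c)
    (hτ : Pres τ d) : Pres (σ * τ) (fun i => c i * d (σ.symm i)) := by
  intro x hx
  have : monomialMap (σ * τ) (fun i => c i * d (σ.symm i)) x =
      monomialMap σ c (monomialMap τ d x) := by
    funext i
    show ((c i * d (σ.symm i) : (ZMod 3)ˣ) : ZMod 3) * x ((σ * τ).symm i) =
      (c i : ZMod 3) * ((d (σ.symm i) : ZMod 3) * x (τ.symm (σ.symm i)))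
    rw [Units.val_mul, mul_assoc]
    rfl
  rw [this]
  exact hσ _ (hτ _ hx)

theorem monomialMap_add (σ : Equiv.Perm ArrayPt) (c : ArrayPt → (ZMod 3)ˣ)
    (x y : ArrayPt → ZMod 3) :
    monomialMap σ c (x + y) = monomialMap σ c x + monomialMap σ c y := by
  funext i
  show (c i : ZMod 3) * (x (σ.symm i) + y (σ.symm i)) = _
  rw [mul_add]
  rfl

theorem monomialMap_smul (σ : Equiv.Perm ArrayPt) (c : ArrayPt → (ZMod 3)ˣ) (a : ZMod 3)
    (x : ArrayPt → ZMod 3) : monomialMap σ c (a • x) = a • monomialMap σ c x := by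
  funext i
  show (c i : ZMod 3) * (a * x (σ.symm i)) = a * ((c i : ZMod 3) * x (σ.symm i))
  ring

theorem enc_eq (a : P) : enc a = a.1 • gw 0 + a.2.1 • gw 1 + a.2.2.1 • gw 2 + a.2.2.2.1 • gw 3 +
    a.2.2.2.2.1 • gw 4 + a.2.2.2.2.2 • gw 5 := by
  funext p
  rfl

theorem pres_of_basis {σ : Equiv.Perm ArrayPt} {c : ArrayPt → (ZMod 3)ˣ}
    (h : ∀ j < 6, monomialMap σ c (gw j) ∈ ternaryGolayCode) : Pres σ c := by
  intro x hx
  obtain ⟨a, rfl⟩ := (mem_code_iff x).mp hx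
  rw [enc_eq]
  simp only [monomialMap_add, monomialMap_smul]
  have h0 := h 0 (by norm_num)
  have h1 := h 1 (by norm_num)
  have h2 := h 2 (by norm_num)
  have h3 := h 3 (by norm_num)
  have h4 := h 4 (by norm_num)
  have h5 := h 5 (by norm_num)
  exact ternaryGolayCode.add_mem (ternaryGolayCode.add_mem (ternaryGolayCode.add_mem
    (ternaryGolayCode.add_mem (ternaryGolayCode.add_mem (ternaryGolayCode.smul_mem _ h0)
    (ternaryGolayCode.smul_mem _ h1)) (ternaryGolayCode.smul_mem _ h2))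
    (ternaryGolayCode.smul_mem _ h3)) (ternaryGolayCode.smul_mem _ h4))
    (ternaryGolayCode.smul_mem _ h5)

/-- the function with a given table -/
def tblFun (l : List ℕ) (p : ArrayPt) : ArrayPt := pUn (l.getD (pIdx p) 0)

/-- the tables of four monomial maps: images of the positions -/
def gTbl (g : Fin 4) : List ℕ :=
  match g with
  | 0 => [5, 2, 6, 0, 1, 10, 4, 11, 3, 8, 7, 9]
  | 1 => [3, 4, 1, 8, 6, 0, 2, 10, 9, 11, 5, 7]
  | 2 => [8, 1, 5, 0, 3, 7, 6, 11, 4, 9, 10, 2]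
  | 3 => [3, 1, 11, 4, 8, 2, 6, 5, 0, 9, 10, 7]

/-- the tables of the inverse maps -/
def gInvTbl (g : Fin 4) : List ℕ :=
  match g with
  | 0 => [3, 4, 1, 8, 6, 0, 2, 10, 9, 11, 5, 7]
  | 1 => [5, 2, 6, 0, 1, 10, 4, 11, 3, 8, 7, 9]
  | 2 => [3, 1, 11, 4, 8, 2, 6, 5, 0, 9, 10, 7]
  | 3 => [8, 1, 5, 0, 3, 7, 6, 11, 4, 9, 10, 2]

/-- the signs, by target position -/
def gSgnTbl (g : Fin 4) : List Bool :=
  match g with
  | 0 => [false, true, true, false, true, true, true, true, false, false, false, false]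
  | 1 => [true, true, true, false, true, false, true, false, false, false, true, false]
  | 2 => [true, true, false, false, true, false, true, false, false, false, false, false]
  | 3 => [false, true, false, true, false, false, true, false, true, false, false, false]

/-- the generator as a function -/
def genF (g : Fin 4) : ArrayPt → ArrayPt := tblFun (gTbl g)

/-- the inverse of a generator as a function -/
def genI (g : Fin 4) : ArrayPt → ArrayPt := tblFun (gInvTbl g)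

theorem gen_left : ∀ (g : Fin 4) (p : ArrayPt), genI g (genF g p) = p := by decide

theorem gen_right : ∀ (g : Fin 4) (p : ArrayPt), genF g (genI g p) = p := by decide

/-- the generator as a permutation -/
def genPerm (g : Fin 4) : Equiv.Perm ArrayPt := ⟨genF g, genI g, gen_left g, gen_right g⟩

/-- the signs of a generator -/
def genSgn (g : Fin 4) (p : ArrayPt) : (ZMod 3)ˣ :=
  if (gSgnTbl g).getD (pIdx p) false then -1 else 1

set_option maxRecDepth 100000 in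
theorem gen_pres_aux : ∀ (g : Fin 4), ∀ j < 6,
    IsTGW (fun q => ((genSgn g q : (ZMod 3)ˣ) : ZMod 3) * gw j (genI g q)) := by decide +kernel

theorem gen_pres (g : Fin 4) : Pres (genPerm g) (genSgn g) := by
  apply pres_of_basis
  intro j hj
  rw [mem_code_iff']
  exact gen_pres_aux g j hj

/-- the permutation of a word in the generators -/
def wordPerm : List (Fin 4) → Equiv.Perm ArrayPt
  | [] => 1
  | g :: w => genPerm g * wordPerm w

/-- the function of a word in the generators -/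
def wordFun : List (Fin 4) → ArrayPt → ArrayPt
  | [], p => p
  | g :: w, p => genF g (wordFun w p)

theorem wordPerm_apply : ∀ (w : List (Fin 4)) (p : ArrayPt), wordPerm w p = wordFun w p
  | [], _ => rfl
  | g :: w, p => by
    show genF g (wordPerm w p) = genF g (wordFun w p)
    rw [wordPerm_apply w p]

theorem word_pres : ∀ w : List (Fin 4), ∃ c, Pres (wordPerm w) c
  | [] => ⟨_, pres_one⟩
  | g :: w => by
    obtain ⟨c, hc⟩ := word_pres w
    exact ⟨_, pres_mul (gen_pres g) hc⟩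

/-- the words of level 0 -/
def lvl0 : List (List (Fin 4)) :=
  [[],
   [1, 3, 0],
   [3, 0],
   [1],
   [3, 1],
   [0],
   [0, 3, 0],
   [2, 0],
   [2],
   [1, 2],
   [0, 0],
   [0, 2, 0]]

/-- the words of level 1 -/
def lvl1 : List (List (Fin 4)) :=
  [[],
   [0, 3],
   [2, 1],
   [2, 1, 2, 1],
   [2, 0, 2],
   [3, 1, 1],
   [2, 0, 2, 2, 1],
   [3, 1, 3],
   [0, 3, 0, 3],
   [0, 0, 2, 2, 1],
   [1, 1, 2, 1, 2, 0]]

/-- the words of level 2 -/
def lvl2 : List (List (Fin 4)) :=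
  [[],
   [0, 2, 0, 2, 0, 3, 0],
   [3, 0, 3, 1, 2, 2, 1],
   [0, 2, 0, 3, 0, 3, 0],
   [1, 2, 1, 2, 0, 3, 0],
   [3, 1, 1, 3, 1, 1],
   [1, 1, 2, 2, 0, 0],
   [1, 1, 2, 0, 0],
   [0, 0, 0, 2, 0, 2, 2, 0],
   [1, 1, 3, 0, 0]]

/-- the words of level 3 -/
def lvl3 : List (List (Fin 4)) :=
  [[],
   [2, 0, 0, 3, 1, 1, 3],
   [0, 2, 1, 2, 2, 1, 3, 0, 2, 1],
   [1, 2, 1, 1, 3, 1],
   [0, 2, 0, 2, 0, 3, 1, 3, 0, 0],
   [3, 0, 3, 1, 3, 0, 2, 0, 3, 0],
   [2, 1, 1, 2, 2, 1, 1, 2],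
   [3, 0, 2, 1, 2, 2, 1, 2, 1],
   [0, 2, 0, 0, 3, 0]]

/-- the words of level 4 -/
def lvl4 : List (List (Fin 4)) :=
  [[],
   [2, 2, 0, 3, 0, 0, 3, 0, 3, 1, 3, 1, 1],
   [1, 2, 2, 1, 1, 2, 1, 3, 0, 2, 2, 0, 0],
   [1, 2, 0, 3, 1, 1, 1, 2, 1, 3],
   [0, 2, 2, 0, 2, 0, 3, 0, 0, 2, 2],
   [0, 2, 0, 2, 2, 0, 2, 1, 2, 0, 0, 2, 0],
   [2, 2, 1, 1, 2, 1, 3, 1, 2, 2, 1],
   [2, 0, 3, 0, 0, 0, 2, 1, 3, 0]]

/-- the base points -/
def bpt (i : ℕ) : ArrayPt := pUn i

theorem lvl0_spec : ∀ y : ArrayPt, ∃ w ∈ lvl0, wordFun w (bpt 0) = y := by decide +kernel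

theorem lvl1_spec : ∀ y : ArrayPt, y ≠ bpt 0 →
    ∃ w ∈ lvl1, wordFun w (bpt 0) = bpt 0 ∧ wordFun w (bpt 1) = y := by decide +kernel

theorem lvl2_spec : ∀ y : ArrayPt, y ≠ bpt 0 → y ≠ bpt 1 →
    ∃ w ∈ lvl2, wordFun w (bpt 0) = bpt 0 ∧ wordFun w (bpt 1) = bpt 1 ∧
      wordFun w (bpt 2) = y := by decide +kernel

theorem lvl3_spec : ∀ y : ArrayPt, y ≠ bpt 0 → y ≠ bpt 1 → y ≠ bpt 2 →
    ∃ w ∈ lvl3, wordFun w (bpt 0) = bpt 0 ∧ wordFun w (bpt 1) = bpt 1 ∧
      wordFun w (bpt 2) = bpt 2 ∧ wordFun w (bpt 3) = y := by decide +kernel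

theorem lvl4_spec : ∀ y : ArrayPt, y ≠ bpt 0 → y ≠ bpt 1 → y ≠ bpt 2 → y ≠ bpt 3 →
    ∃ w ∈ lvl4, wordFun w (bpt 0) = bpt 0 ∧ wordFun w (bpt 1) = bpt 1 ∧
      wordFun w (bpt 2) = bpt 2 ∧ wordFun w (bpt 3) = bpt 3 ∧ wordFun w (bpt 4) = y := by
  decide +kernel

end Cfsg.Agent.Lib.Helper1.TG
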