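import Mathlib
import Cfsg.Prelude.Def_SporadicB
import Cfsg.Agent.Lib.Helper1.InvPair

set_option autoImplicit false

namespace Cfsg.Agent.Lib.Helper1

section ThreeTransp

variable {G : Type*} [Group G]

/-- For involutions, `(d e)^2 = 1` means that they commute. -/
theorem commute_of_sq_eq_one {d e : G} (hd : d * d = 1) (he : e * e = 1) (h : (d * e) ^ 2 = 1) :
    Commute d e := by
  rw [pow_two] at h
  -- d e d e = 1 → d e = e⁻¹ d⁻¹ = e d
  have h1 : d * e = (d * e)⁻¹ := eq_inv_of_mul_eq_one_left h
  rw [mul_inv_rev, inv_eq_self_of_mul_self hd, inv_eq_self_of_mul_self he] at h1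
  exact h1

/-- For involutions, `(d e)^3 = 1` gives the braid relation. -/
theorem braid_of_cube_eq_one {d e : G} (hd : d * d = 1) (he : e * e = 1) (h : (d * e) ^ 3 = 1) :
    d * e * d = e * d * e := by
  have h1 : d * e * d * (e * d * e) = 1 := by
    rw [pow_succ, pow_two] at h
    rw [← h]; group
  have h2 : d * e * d = (e * d * e)⁻¹ := eq_inv_of_mul_eq_one_left h1
  rw [mul_inv_rev, mul_inv_rev, inv_eq_self_of_mul_self hd, inv_eq_self_of_mul_self he,
    ← mul_assoc] at h2
  exact h2

theorem three_transp_cases {E : Set G} (hE : Cfsg.IsThreeTranspositionSet E) {d e : G}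
    (hd : d ∈ E) (he : e ∈ E) : Commute d e ∨ d * e * d = e * d * e := by
  have hd2 := mul_self_of_orderOf_two (hE.1 d hd)
  have he2 := mul_self_of_orderOf_two (hE.1 e he)
  rcases hE.2 d hd e he with h | h
  · exact Or.inl (commute_of_sq_eq_one hd2 he2 h)
  · exact Or.inr (braid_of_cube_eq_one hd2 he2 h)

end ThreeTransp

end Cfsg.Agent.Lib.Helper1
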