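import Mathlib
import Cfsg.Agent.Lib.Helper1.TitsD6
import Cfsg.Agent.Lib.Helper1.TitsZY2
import Cfsg.Agent.Lib.Helper1.StemZP8

set_option autoImplicit false
set_option maxRecDepth 100000
set_option maxHeartbeats 0

/-! The Tits group acting on 3200 sets of 39 vectors, the certificate for the prime 2: the check. -/

namespace Cfsg.Agent.Lib.Helper1.Tits

open Cfsg.Agent.Lib.Helper1

theorem chkA_CY2 : StemZP.chkCertA DY CY2 = true := by decide +kernel

theorem chkRows_CY2_0 : StemZP.chkRowsIn DY CY2 (400 * 0) 400 = true := by decide +kernel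

theorem chkRows_CY2_1 : StemZP.chkRowsIn DY CY2 (400 * 1) 400 = true := by decide +kernel

theorem chkRows_CY2_2 : StemZP.chkRowsIn DY CY2 (400 * 2) 400 = true := by decide +kernel

theorem chkRows_CY2_3 : StemZP.chkRowsIn DY CY2 (400 * 3) 400 = true := by decide +kernel

theorem chkRows_CY2_4 : StemZP.chkRowsIn DY CY2 (400 * 4) 400 = true := by decide +kernel


end Cfsg.Agent.Lib.Helper1.Tits
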