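import Mathlib
import Cfsg.Agent.Lib.Helper1.TitsD6
import Cfsg.Agent.Lib.Helper1.TitsZY2
import Cfsg.Agent.Lib.Helper1.StemZP8
import Cfsg.Agent.Lib.Helper1.TitsHY2a

set_option autoImplicit false
set_option maxRecDepth 100000
set_option maxHeartbeats 0

/-! The Tits group acting on 3200 sets of 39 vectors, the certificate for the prime 2: the check. -/

namespace Cfsg.Agent.Lib.Helper1.Tits

open Cfsg.Agent.Lib.Helper1

theorem chkRows_CY2_5 : StemZP.chkRowsIn DY CY2 (400 * 5) 400 = true := by decide +kernel

theorem chkRows_CY2_6 : StemZP.chkRowsIn DY CY2 (400 * 6) 400 = true := by decide +kernel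

theorem chkRows_CY2_7 : StemZP.chkRowsIn DY CY2 (400 * 7) 400 = true := by decide +kernel

theorem chkRows_CY2_8 : StemZP.chkRowsIn DY CY2 (400 * 8) 400 = true := by decide +kernel

theorem chk_cert_CY2 : StemZP.chkCertR DY CY2 = true := by
  apply StemZP.chkCertR_of_parts DY CY2 chkA_CY2
  · apply StemZP.row_of_chunks DY CY2 400 (by norm_num) 9 (by decide)
    intro q hq
    interval_cases q
    · exact chkRows_CY2_0
    · exact chkRows_CY2_1
    · exact chkRows_CY2_2
    · exact chkRows_CY2_3
    · exact chkRows_CY2_4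
    · exact chkRows_CY2_5
    · exact chkRows_CY2_6
    · exact chkRows_CY2_7
    · exact chkRows_CY2_8
  · intro j hj
    exact absurd (show j < 0 from hj) (Nat.not_lt_zero j)

end Cfsg.Agent.Lib.Helper1.Tits
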