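import Mathlib
import Cfsg.Agent.Lib.Helper1.TitsD6
import Cfsg.Agent.Lib.Helper1.TitsZZ5
import Cfsg.Agent.Lib.Helper1.StemZP8

set_option autoImplicit false
set_option maxRecDepth 100000
set_option maxHeartbeats 0

/-! The Tits group acting on 1600 sets of 78 vectors, the certificate for the prime 5: the check. -/

namespace Cfsg.Agent.Lib.Helper1.Tits

open Cfsg.Agent.Lib.Helper1

theorem chkA_CZ5 : StemZP.chkCertA DZ CZ5 = true := by decide +kernel

theorem chkRows_CZ5_0 : StemZP.chkRowsIn DZ CZ5 (400 * 0) 400 = true := by decide +kernel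

theorem chkRows_CZ5_1 : StemZP.chkRowsIn DZ CZ5 (400 * 1) 400 = true := by decide +kernel

theorem chkRows_CZ5_2 : StemZP.chkRowsIn DZ CZ5 (400 * 2) 400 = true := by decide +kernel

theorem chkRows_CZ5_3 : StemZP.chkRowsIn DZ CZ5 (400 * 3) 400 = true := by decide +kernel

theorem chkRows_CZ5_4 : StemZP.chkRowsIn DZ CZ5 (400 * 4) 400 = true := by decide +kernel

theorem chk_cert_CZ5 : StemZP.chkCertR DZ CZ5 = true := by
  apply StemZP.chkCertR_of_parts DZ CZ5 chkA_CZ5
  · apply StemZP.row_of_chunks DZ CZ5 400 (by norm_num) 5 (by decide)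
    intro q hq
    interval_cases q
    · exact chkRows_CZ5_0
    · exact chkRows_CZ5_1
    · exact chkRows_CZ5_2
    · exact chkRows_CZ5_3
    · exact chkRows_CZ5_4
  · intro j hj
    exact absurd (show j < 0 from hj) (Nat.not_lt_zero j)

end Cfsg.Agent.Lib.Helper1.Tits
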