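import Mathlib
import Cfsg.Agent.Lib.Helper1.TitsT
import Cfsg.Agent.Lib.Helper1.TitsHP2
import Cfsg.Agent.Lib.Helper1.TitsHX3
import Cfsg.Agent.Lib.Helper1.TitsHZ5
import Cfsg.Agent.Lib.Helper1.TitsHY2
import Cfsg.Agent.Lib.Helper1.StemZP5
import Cfsg.Agent.Lib.Helper1.StemZP6
import Cfsg.Agent.Lib.Helper1.StemZP7
import Cfsg.Agent.Lib.Helper1.Stem17
import Cfsg.Agent.Lib.Helper1.Stem21

set_option autoImplicit false
set_option maxRecDepth 100000
set_option maxHeartbeats 0

/-! The Tits group: the stabilizer of one of the 3200 sets is generated by the two words, is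
perfect and its stem extensions with kernel a 2-group are trivial; the stem extensions of the
Tits group are trivial. -/

namespace Cfsg.Agent.Lib.Helper1.Tits

open Cfsg Cfsg.Lie Cfsg.Agent.Lib.Helper1.MatCode Cfsg.Agent.Lib.Helper1.MatAct
  Cfsg.Agent.Lib.Helper1.F2Vec Cfsg.Agent.Lib.Helper1.StemSA Cfsg.Agent.Lib.Helper1.StemLL
  Cfsg.Agent.Lib.Helper1.SetPts Cfsg.Agent.Lib.Helper1.Stem

open scoped Pointwise

universe u

/-! ### The stabilizer of the first of the 3200 sets -/

theorem k1_mem_TS : k1 ∈ TS := by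
  rw [TS_eq_T0]
  exact wordProd_mem GAB T0 GAB_mem_T0 _

theorem k2_mem_TS : k2 ∈ TS := by
  rw [TS_eq_T0]
  exact wordProd_mem GAB T0 GAB_mem_T0 _

def k1T : TG := ⟨k1, k1_mem_TS⟩

def k2T : TG := ⟨k2, k2_mem_TS⟩

theorem k1T_mem_K : k1T ∈ K := by
  rw [MulAction.mem_stabilizer_iff, smul_set_TG]
  exact k1_fixY

theorem k2T_mem_K : k2T ∈ K := by
  rw [MulAction.mem_stabilizer_iff, smul_set_TG]
  exact k2_fixY

/-- the generators of the stabilizer -/
noncomputable def GK : List ↥K := [⟨k1T, k1T_mem_K⟩, ⟨k2T, k2T_mem_K⟩]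

theorem GK_val (i : ℕ) : (((GK.getD i 1 : ↥K) : TG) : G2F4) = GK0.getD i 1 := by
  rcases i with _ | _ | i
  · simp only [GK, GK0, List.getD_cons_zero]
    rfl
  · simp only [GK, GK0, List.getD_cons_succ, List.getD_cons_zero]
    rfl
  · simp only [GK, GK0, List.getD_cons_succ, List.getD_nil]
    rfl

theorem wordProd_GK (w : List ℕ) : (((wordProd GK w : ↥K) : TG) : G2F4) = wordProd GK0 w := by
  induction w with
  | nil =>
    rw [wordProd_nil, wordProd_nil]
    rfl
  | cons i w ih =>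
    rw [wordProd_cons, wordProd_cons, Subgroup.coe_mul, Subgroup.coe_mul, ih, GK_val]

/-- the embedding of the stabilizer in the twisted group -/
noncomputable def ιK : ↥K →* G2F4 := TS.subtype.comp K.subtype

theorem ιK_injective : Function.Injective ιK :=
  TS.subtype_injective.comp K.subtype_injective

theorem hgenK : Subgroup.closure {g : ↥K | ∃ i < 2, g = GK.getD i 1} = ⊤ := by
  have e : (ιK '' {g : ↥K | ∃ i < 2, g = GK.getD i 1}) =
      {g : G2F4 | ∃ i < 2, g = GK0.getD i 1} := by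
    ext g
    constructor
    · rintro ⟨g', ⟨i, hi, rfl⟩, rfl⟩
      exact ⟨i, hi, GK_val i⟩
    · rintro ⟨i, hi, rfl⟩
      exact ⟨GK.getD i 1, ⟨i, hi, rfl⟩, GK_val i⟩
  have h1 : (Subgroup.closure {g : ↥K | ∃ i < 2, g = GK.getD i 1}).map ιK = K0 := by
    rw [MonoidHom.map_closure, e]
    rfl
  have h2 : Nat.card ↥((Subgroup.closure {g : ↥K | ∃ i < 2, g = GK.getD i 1}).map ιK) =
      Nat.card ↥(Subgroup.closure {g : ↥K | ∃ i < 2, g = GK.getD i 1}) :=
    Subgroup.card_map_of_injective ιK_injective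
  rw [h1] at h2
  haveI : Finite ↥K := Nat.finite_of_card_ne_zero (by rw [card_K]; norm_num)
  apply Subgroup.eq_top_of_card_eq
  have h3 := card_K0_ge
  have h4 := Subgroup.card_le_card_group (Subgroup.closure {g : ↥K | ∃ i < 2, g = GK.getD i 1})
  rw [card_K] at h4 ⊢
  omega

theorem smul_K (g : ↥K) (v : V52) : g • v = (((g : ↥K) : TG) : G2F4) • v := rfl

theorem pi_actKPs (i : ℕ) (hi : i < DPs.k) (j : ℕ) (hj : j < DPs.m) :
    GK.getD i 1 • pPs j = pPs (DPs.pi i j) := by
  rw [smul_K, GK_val]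
  exact pi_actPs i hi j hj

theorem hordK (p : ℕ) (hp13 : Nat.Coprime 13 p) (i : ℕ) (hi : i < 2) :
    Nat.Coprime ([13, 13].getD i 0) p ∧ (GK.getD i 1) ^ ([13, 13].getD i 0) = 1 := by
  interval_cases i
  · refine ⟨hp13, Subtype.ext (Subtype.ext ?_)⟩
    rw [Subgroup.coe_pow, Subgroup.coe_pow, GK_val]
    exact k1_pow
  · refine ⟨hp13, Subtype.ext (Subtype.ext ?_)⟩
    rw [Subgroup.coe_pow, Subgroup.coe_pow, GK_val]
    exact k2_pow

theorem hrelK : ∀ w ∈ krelsL, wordProd GK w.1 = wordProd GK w.2 := by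
  intro w hw
  apply Subtype.ext
  apply Subtype.ext
  rw [wordProd_GK, wordProd_GK]
  exact hrelK0 w hw

/-! ### The stabilizer is perfect -/

theorem wordProd_comm_count {A : Type*} [CommGroup A] (x y : A) (w : List ℕ)
    (hw : ∀ i ∈ w, i < 2) : wordProd [x, y] w = x ^ (w.count 0) * y ^ (w.count 1) := by
  induction w with
  | nil => simp [wordProd_nil]
  | cons i w ih =>
    have hi : i < 2 := hw i (by simp)
    rw [wordProd_cons, ih (fun i' hi' => hw i' (by simp [hi']))]
    interval_cases i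
    · simp only [List.getD_cons_zero, List.count_cons_self, List.count_cons_of_ne (by decide : (0 : ℕ) ≠ 1)]
      rw [pow_succ', mul_assoc]
    · simp only [List.getD_cons_succ, List.getD_cons_zero, List.count_cons_self,
        List.count_cons_of_ne (by decide : (1 : ℕ) ≠ 0)]
      rw [pow_succ', mul_left_comm]

theorem map_wordProd_two {G A : Type*} [Group G] [Group A] (f : G →* A) (x y : G) (w : List ℕ) :
    f (wordProd [x, y] w) = wordProd [f x, f y] w := by
  induction w with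
  | nil => rw [wordProd_nil, wordProd_nil, map_one]
  | cons i w ih =>
    rw [wordProd_cons, wordProd_cons, map_mul, ih]
    congr 1
    rcases i with _ | _ | i
    · rfl
    · rfl
    · simp only [List.getD_cons_succ, List.getD_nil, map_one]

/-- a group generated by two elements of order 13 with the two relations is perfect -/
theorem commutator_eq_top_of_13 {G : Type*} [Group G] (x y : G)
    (hgen : Subgroup.closure {g | ∃ i < 2, g = [x, y].getD i 1} = ⊤) (hx : x ^ 13 = 1)
    (h1 : wordProd [x, y] [0, 0, 0, 1, 1, 0, 0, 1, 0] = wordProd [x, y] [1, 1, 1, 0, 1])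
    (h2 : wordProd [x, y] [0, 0, 0, 1, 1, 0, 0, 1, 1, 0, 1] = wordProd [x, y] [1, 1, 0]) :
    commutator G = ⊤ := by
  let π : G →* Abelianization G := Abelianization.of
  have e1 := congrArg π h1
  have e2 := congrArg π h2
  rw [map_wordProd_two, map_wordProd_two, wordProd_comm_count _ _ _ (by decide),
    wordProd_comm_count _ _ _ (by decide)] at e1 e2
  have c1 : π x ^ 6 * π y ^ 3 = π x ^ 1 * π y ^ 4 := e1
  have c2 : π x ^ 6 * π y ^ 5 = π x ^ 1 * π y ^ 2 := e2
  have hX13 : π x ^ 13 = 1 := by rw [← map_pow, hx, map_one]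
  -- `y = x ^ 5`
  have d1 : π x ^ 5 = π y := by
    have t1 : π x * (π x ^ 5 * π y ^ 3) = π x * (π y * π y ^ 3) := by
      rw [← mul_assoc, ← pow_succ', ← pow_succ']
      rw [pow_one] at c1
      exact c1
    exact mul_right_cancel (mul_left_cancel t1)
  have d2 : π x ^ 5 * π y ^ 3 = 1 := by
    have t1 : π x * ((π x ^ 5 * π y ^ 3) * π y ^ 2) = π x * (1 * π y ^ 2) := by
      rw [one_mul, mul_assoc, ← pow_add, ← mul_assoc, ← pow_succ']
      rw [pow_one] at c2
      exact c2
    exact mul_right_cancel (mul_left_cancel t1)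
  have d3 : π x ^ 20 = 1 := by
    rw [← d1, ← pow_mul, ← pow_add] at d2
    exact d2
  have hX : π x = 1 := by
    have t : π x ^ 40 = π x ^ 39 * π x := pow_succ _ 39
    have t40 : π x ^ 40 = 1 := by
      rw [show 40 = 20 * 2 by norm_num, pow_mul, d3, one_pow]
    have t39 : π x ^ 39 = 1 := by
      rw [show 39 = 13 * 3 by norm_num, pow_mul, hX13, one_pow]
    rw [t40, t39, one_mul] at t
    exact t.symm
  have hY : π y = 1 := by rw [← d1, hX, one_pow]
  have hker : ∀ g : G, π g = 1 → g ∈ commutator G := by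
    intro g hg
    exact (QuotientGroup.eq_one_iff (N := commutator G) g).mp hg
  rw [eq_top_iff, ← hgen, Subgroup.closure_le]
  rintro g ⟨i, hi, rfl⟩
  interval_cases i
  · exact hker _ hX
  · exact hker _ hY

theorem K_perfect : commutator ↥K = ⊤ := by
  have hg : GK = [GK.getD 0 1, GK.getD 1 1] := rfl
  apply commutator_eq_top_of_13 (GK.getD 0 1) (GK.getD 1 1)
  · rw [← hg]
    exact hgenK
  · exact (hordK 2 (by decide) 0 (by decide)).2
  · rw [← hg]
    exact hrelK ([0, 0, 0, 1, 1, 0, 0, 1, 0], [1, 1, 1, 0, 1]) (by decide)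
  · rw [← hg]
    exact hrelK ([0, 0, 0, 1, 1, 0, 0, 1, 1, 0, 1], [1, 1, 0]) (by decide)

/-! ### The stem extensions of the stabilizer with kernel a 2-group -/

/-- the stabilizer of the first of the 432 vectors -/
noncomputable abbrev KP : Subgroup ↥K := MulAction.stabilizer ↥K (pPs 0)

theorem card_KP : Nat.card ↥KP = 13 := by
  haveI : Finite ↥K := Nat.finite_of_card_ne_zero (by rw [card_K]; norm_num)
  have h := StemOrb.card_stabilizer_mul DPs chk_structPs pPs GK hgenK pi_actKPs (by decide)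
    (fun j hj j' hj' => pPs_inj j hj j' hj')
  rw [card_K] at h
  have h' : Nat.card ↥KP * 432 = 5616 := h
  omega

theorem K_bound2 (Γ : Type u) [Group Γ] [Finite Γ] (σ : Γ →* ↥K)
    (hσ : Cfsg.IsStemExtension σ) (hp : IsPGroup 2 σ.ker) : Nat.card σ.ker ≤ 1 := by
  haveI : Fact (Nat.Prime 2) := ⟨Nat.prime_two⟩
  obtain ⟨a, ha⟩ := IsPGroup.iff_card.mp hp
  have h := StemZP.card_ker_mul_le_powP 2 DPs 0
    (StemZP.valsBound_of_certR DPs CP2 chk_cert_CP2) chk_structPs (by decide) pPs GK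
    hgenK (fun j hj h => pPs_inj j hj 0 (by decide) h) pi_actKPs (hordK 2 (by decide)) hrelK
    0 13 (by decide) (by norm_num) KP rfl (by rw [card_KP]; norm_num) 1
    (by rw [orderOf_one, pow_zero])
    ⊤ (by rw [Subgroup.card_top, card_KP])
    (fun x y => (QuotientGroup.subsingleton_quotient_top (G := ↥KP)).elim _ _) Γ σ hσ a ha
  rw [pow_zero, mul_one] at h
  exact h

/-! ### The stem extensions of the Tits group -/

theorem card_ker_two (Γ : Type u) [Group Γ] [Finite Γ] (σ : Γ →* TG)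
    (hσ : Cfsg.IsStemExtension σ) (hp : IsPGroup 2 σ.ker) : Nat.card σ.ker ≤ 1 := by
  haveI : Fact (Nat.Prime 2) := ⟨Nat.prime_two⟩
  have h := StemZP.card_ker_le_pow_mul_perf 2 DY 0
    (StemZP.valsBound_of_certR DY CY2 chk_cert_CY2) chk_structY
    (by decide) ptY gT hgenT (fun j hj h => ptY_inj j hj 0 (by decide) h) pi_actTY
    (hordT 2 (by decide)) hrelT K_perfect 1
    (fun Γ' _ _ σ' hσ' hk => K_bound2 Γ' σ' hσ' hk)
    Γ σ hσ hp
  rw [pow_zero, mul_one] at h
  exact h

theorem card_ker_three (Γ : Type u) [Group Γ] [Finite Γ] (σ : Γ →* TG)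
    (hσ : Cfsg.IsStemExtension σ) (hp : IsPGroup 3 σ.ker) : Nat.card σ.ker ≤ 1 := by
  haveI : Fact (Nat.Prime 3) := ⟨Nat.prime_three⟩
  obtain ⟨a, ha⟩ := IsPGroup.iff_card.mp hp
  have h := StemZP.card_ker_mul_le_powP 3 DX 0
    (StemZP.valsBound_of_certR DX CX3 chk_cert_CX3) chk_structX (by decide) pX gT
    hgenT (fun j hj h => pX_inj j hj 0 (by decide) h) pi_actTX (hordT 3 (by decide)) hrelT
    0 10240 (by decide) (by norm_num) KX rfl (by rw [card_KX]; norm_num) 1
    (by rw [orderOf_one, pow_zero])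
    ⊤ (by rw [Subgroup.card_top, card_KX])
    (fun x y => (QuotientGroup.subsingleton_quotient_top (G := ↥KX)).elim _ _) Γ σ hσ a ha
  rw [pow_zero, mul_one] at h
  exact h

theorem card_ker_five (Γ : Type u) [Group Γ] [Finite Γ] (σ : Γ →* TG)
    (hσ : Cfsg.IsStemExtension σ) (hp : IsPGroup 5 σ.ker) : Nat.card σ.ker ≤ 1 := by
  haveI : Fact (Nat.Prime 5) := ⟨by norm_num⟩
  obtain ⟨a, ha⟩ := IsPGroup.iff_card.mp hp
  have h := StemZP.card_ker_mul_le_powP 5 DZ 0
    (StemZP.valsBound_of_certR DZ CZ5 chk_cert_CZ5) chk_structZ (by decide) ptZ gT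
    hgenT (fun j hj h => ptZ_inj j hj 0 (by decide) h) pi_actTZ (hordT 5 (by decide)) hrelT
    0 11232 (by decide) (by norm_num) KZ rfl (by rw [card_KZ]; norm_num) 1
    (by rw [orderOf_one, pow_zero])
    ⊤ (by rw [Subgroup.card_top, card_KZ])
    (fun x y => (QuotientGroup.subsingleton_quotient_top (G := ↥KZ)).elim _ _) Γ σ hσ a ha
  rw [pow_zero, mul_one] at h
  exact h

theorem sq_chk : (List.range 4240).all
    (fun ℓ => !(17971200 % (ℓ * ℓ) == 0) || (480 % ℓ == 0)) = true := by decide +kernel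

theorem sq_dvd (ℓ : ℕ) (h : ℓ * ℓ ∣ 17971200) : ℓ ∣ 480 := by
  have hlt : ℓ < 4240 := by
    by_contra hge
    have h1 : 4240 * 4240 ≤ ℓ * ℓ := Nat.mul_le_mul (by omega) (by omega)
    have h2 := Nat.le_of_dvd (by norm_num) h
    omega
  have h1 := sq_chk
  rw [List.all_eq_true] at h1
  have h2 := h1 ℓ (List.mem_range.mpr hlt)
  rw [Bool.or_eq_true, Bool.not_eq_true', beq_eq_false_iff_ne, beq_iff_eq] at h2
  rcases h2 with h2 | h2
  · exact absurd (Nat.mod_eq_zero_of_dvd h) h2
  · exact Nat.dvd_of_mod_eq_zero h2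

theorem not_sq_dvd (p : ℕ) (hp : p.Prime) (h2 : p ≠ 2) (h3 : p ≠ 3) (h5 : p ≠ 5) :
    ¬ p * p ∣ 17971200 := by
  intro h
  have h' := sq_dvd p h
  have e : (480 : ℕ) = 2 ^ 5 * 3 * 5 := by norm_num
  rw [e] at h'
  rcases (Nat.Prime.dvd_mul hp).mp h' with h' | h'
  · rcases (Nat.Prime.dvd_mul hp).mp h' with h' | h'
    · exact h2 ((Nat.prime_dvd_prime_iff_eq hp Nat.prime_two).mp (hp.dvd_of_dvd_pow h'))
    · exact h3 ((Nat.prime_dvd_prime_iff_eq hp Nat.prime_three).mp h')
  · exact h5 ((Nat.prime_dvd_prime_iff_eq hp (by norm_num)).mp h')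

theorem primary_bound (p : ℕ) [hp : Fact p.Prime] (Γ' : Type u) [Group Γ'] [Finite Γ']
    (σ' : Γ' →* TG) (hσ' : Cfsg.IsStemExtension σ') (hk : IsPGroup p σ'.ker) :
    Nat.card σ'.ker ∣ 1 := by
  have key : Nat.card σ'.ker ≤ 1 → Nat.card σ'.ker ∣ 1 := by
    intro hle
    have hpos : 0 < Nat.card σ'.ker := Nat.card_pos
    have h1 : Nat.card σ'.ker = 1 := by omega
    rw [h1]
  by_cases h2 : p = 2
  · subst h2
    exact key (card_ker_two Γ' σ' hσ' hk)
  · by_cases h3 : p = 3
    · subst h3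
      exact key (card_ker_three Γ' σ' hσ' hk)
    · by_cases h5 : p = 5
      · subst h5
        exact key (card_ker_five Γ' σ' hσ' hk)
      · have h1 : Nat.card σ'.ker = 1 := by
          apply card_ker_eq_one_of_not_sq_dvd σ' hσ' p hk
          rw [card_TS]
          exact not_sq_dvd p hp.out h2 h3 h5
        rw [h1]

/-- the stem extensions of the Tits group are trivial -/
theorem hub (Γ : Type u) [Group Γ] [Finite Γ] (σ : Γ →* TG)
    (hσ : Cfsg.IsStemExtension σ) : Nat.card σ.ker ∣ 1 :=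
  card_dvd_of_primary σ 1 Nat.one_pos
    (fun p _ Γ' _ _ σ' hσ' hk => primary_bound p Γ' σ' hσ' hk) hσ

end Cfsg.Agent.Lib.Helper1.Tits
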