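import Mathlib
import Cfsg.Agent.Lib.Helper1.FamOrbits
import Cfsg.Agent.Lib.Helper1.M24W9
import Cfsg.Agent.Lib.Helper1.M24X
import Cfsg.Agent.Lib.Helper9.TrioBasic

/-!
# The orbits of a trio stabilizer on the trios
-/

set_option autoImplicit false

namespace Cfsg.Agent.Lib.Helper1.M24

open Cfsg Cfsg.Agent.Lib.Helper1
open scoped Pointwise

/-- check that a list of masks gives a trio -/
def trioOK (l : List ℕ) : Bool :=
  goodL l && (l.length == 3) && l.all (fun m => octList.contains m) &&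
    l.all (fun a => l.all (fun b => a == b || (a &&& b == 0)))

theorem famL_mem_trios {l : List ℕ} (h : trioOK l = true) : famL l ∈ trios := by
  unfold trioOK at h
  simp only [Bool.and_eq_true, beq_iff_eq, List.all_eq_true, Bool.or_eq_true,
    List.contains_iff_mem] at h
  obtain ⟨⟨⟨hg, hlen⟩, h8⟩, hdis⟩ := h
  refine ⟨by rw [card_famL hg, hlen], ?_, ?_⟩
  · intro t ht
    obtain ⟨m, hm, rfl⟩ := (mem_famL l t).mp ht
    exact sp_mem_octads (h8 m hm)
  · intro t ht u hu hne
    obtain ⟨a, ha, rfl⟩ := (mem_famL l t).mp ht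
    obtain ⟨b, hb, rfl⟩ := (mem_famL l u).mp hu
    rcases hdis a ha b hb with h | h
    · exact absurd (by rw [h]) hne
    · exact (sp_disjoint_iff (goodL_small hg a ha)).mpr h

/-- the standard trio -/
abbrev tr0fam : Finset (Finset GolayPt) := famL tr0

set_option maxRecDepth 1000000 in
theorem tr0_ok : trioOK tr0 = true := by decide +kernel

theorem tr0fam_mem : tr0fam ∈ trios := famL_mem_trios tr0_ok

/-- the stabilizer of the standard trio, in the group of all permutations -/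
abbrev HTr : Subgroup P24 := M24 ⊓ MulAction.stabilizer P24 tr0fam

theorem gensTr_mem : ∀ e ∈ gensTr, e.σ ∈ HTr := by
  have h : ∀ e ∈ gensTr, fixL e.t tr0 = true := by decide +kernel
  intro e he
  exact ⟨K_le e.mem, smul_famL_of_fixL e tr0 (h e he)⟩

/-- the group of the code is transitive on the trios -/
theorem trio_trans (T : Finset (Finset GolayPt)) (hT : T ∈ trios) :
    ∃ g ∈ M24, g • tr0fam = T := by
  have h3 := hT.1
  obtain ⟨o₁, o₂, o₃, h12, -, -, rfl⟩ := Finset.card_eq_three.mp h3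
  have ho₁ : o₁ ∈ ({o₁, o₂, o₃} : Finset (Finset GolayPt)) := by simp
  have ho₂ : o₂ ∈ ({o₁, o₂, o₃} : Finset (Finset GolayPt)) := by simp
  have hoct₁ := hT.2.1 o₁ ho₁
  have hoct₂ := hT.2.1 o₂ ho₂
  have hd12 := hT.2.2 o₁ ho₁ o₂ ho₂ h12
  have ha : sp 5279 ∈ tr0fam := (mem_famL _ _).mpr ⟨5279, by decide, rfl⟩
  have hb : sp 1009728 ∈ tr0fam := (mem_famL _ _).mpr ⟨1009728, by decide, rfl⟩
  have hocta := tr0fam_mem.2.1 _ ha
  have hoctb := tr0fam_mem.2.1 _ hb
  have hne : sp 5279 ≠ sp 1009728 := by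
    intro h
    have := sp_injOn (by norm_num) (by norm_num) h
    omega
  have hdab := tr0fam_mem.2.2 _ ha _ hb hne
  obtain ⟨g₁, hg₁, hg₁a⟩ := octad_trans (sp 5279) o₁ hocta hoct₁
  have hoctb' : g₁ • sp 1009728 ∈ octads := smul_mem_octads hg₁ hoctb
  have hdis' : Disjoint o₁ (g₁ • sp 1009728) := by
    rw [← hg₁a, smul_disjoint_iff]
    exact hdab
  obtain ⟨g₂, hg₂, hg₂a, hg₂b⟩ := octad_orbits o₁ (g₁ • sp 1009728) o₂ hoct₁ hoctb' hoct₂ (by
    rw [Finset.disjoint_iff_inter_eq_empty.mp hdis', Finset.disjoint_iff_inter_eq_empty.mp hd12])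
  refine ⟨g₂ * g₁, M24.mul_mem hg₂ hg₁, ?_⟩
  have hmem : (g₂ * g₁) • tr0fam ∈ trios :=
    Helper9.M24.trios_smul (M24.mul_mem hg₂ hg₁) tr0fam_mem
  have h1 : o₁ ∈ (g₂ * g₁) • tr0fam := by
    rw [← hg₂a, ← hg₁a, ← mul_smul]
    exact Finset.smul_mem_smul_finset ha
  have h2 : o₂ ∈ (g₂ * g₁) • tr0fam := by
    rw [← hg₂b, ← mul_smul]
    exact Finset.smul_mem_smul_finset hb
  rw [← Helper9.M24.trio_eq_trioOf hmem h1 h2 h12, Helper9.M24.trio_eq_trioOf hT ho₁ ho₂ h12]

theorem trios_orbit : MulAction.orbit M24 tr0fam = trios := by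
  ext x
  rw [MulAction.mem_orbit_iff]
  constructor
  · rintro ⟨g, rfl⟩
    exact Helper9.M24.trios_smul g.2 tr0fam_mem
  · intro hx
    obtain ⟨g, hg, h⟩ := trio_trans x hx
    exact ⟨⟨g, hg⟩, h⟩

/-- representatives of the classes -/
def repTr (k : ℕ) : List ℕ :=
  if k = 192 then repTr_192 else if k = 128 then repTr_128 else if k = 96 then repTr_96
  else if k = 80 then repTr_80 else repTr_72

/-- sizes of the classes -/
def nTr (k : ℕ) : ℕ :=
  if k = 192 then 1 else if k = 128 then 42 else if k = 96 then 56 else if k = 80 then 1008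
  else 2688

/-- the class values -/
def vTr : Finset ℕ := {192, 128, 96, 80, 72}

set_option maxRecDepth 1000000 in
theorem repTr_ok : ∀ k ∈ vTr, trioOK (repTr k) = true ∧ clsL tr0 (repTr k) = k := by
  decide +kernel

theorem repTr_192_eq : famL repTr_192 = tr0fam := rfl

theorem clsF_repTr (k : ℕ) (hk : k ∈ vTr) : clsF tr0fam (famL (repTr k)) = k := by
  obtain ⟨h1, h2⟩ := repTr_ok k hk
  have hg : goodL (repTr k) = true := by
    unfold trioOK at h1
    simp only [Bool.and_eq_true] at h1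
    exact h1.1.1.1
  have hg0 : goodL tr0 = true := by decide +kernel
  rw [clsF_famL (goodL_nodup hg0) (goodL_small hg0) (goodL_nodup hg) (goodL_small hg), h2]

theorem travTr (k : ℕ) (hk : k ∈ vTr) :
    ∃ L : List (Finset (Finset GolayPt)), L.Nodup ∧ L.length = nTr k ∧
      ∀ x ∈ L, ∃ σ ∈ HTr, σ • famL (repTr k) = x := by
  unfold vTr at hk
  simp only [Finset.mem_insert, Finset.mem_singleton] at hk
  rcases hk with rfl | rfl | rfl | rfl | rfl
  · exact trav_lower_bound gensTr gensTr_mem _ _ _ _ travOKTr_192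
  · exact trav_lower_bound gensTr gensTr_mem _ _ _ _ travOKTr_128
  · exact trav_lower_bound gensTr gensTr_mem _ _ _ _ travOKTr_96
  · exact trav_lower_bound gensTr gensTr_mem _ _ _ _ travOKTr_80
  · exact trav_lower_bound gensTr gensTr_mem _ _ _ _ travOKTr_72

/-- the suborbits of the stabilizer of the standard trio -/
theorem suborbitsTr :
    (∀ x ∈ trios, clsF tr0fam x ∈ vTr) ∧
    (∀ k ∈ vTr, MulAction.orbit (MulAction.stabilizer M24 tr0fam) (famL (repTr k)) =
      {x | x ∈ trios ∧ clsF tr0fam x = k}) ∧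
    (∀ k ∈ vTr, {x | x ∈ trios ∧ clsF tr0fam x = k}.ncard = nTr k) := by
  apply SubOrbits.suborbits (G := M24) (MulAction.stabilizer M24 tr0fam) trios (Set.toFinite _)
    _ (clsF tr0fam) _ vTr (fun k => famL (repTr k)) nTr
  · intro k hk
    exact famL_mem_trios (repTr_ok k hk).1
  · exact clsF_repTr
  · intro k hk
    obtain ⟨L, hnd, hlen, hL⟩ := travTr k hk
    rw [← hlen]
    apply SubOrbits.length_le_ncard _ (Set.toFinite _) L hnd
    intro x hx
    obtain ⟨σ, hσ, rfl⟩ := hL x hx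
    exact ⟨⟨⟨σ, hσ.1⟩, hσ.2⟩, rfl⟩
  · rw [Helper9.M24.ncard_trios]
    decide
  · intro h _ x hx
    exact Helper9.M24.trios_smul h.2 hx
  · intro h hh x
    exact clsF_smul_of_fix (g := (h : P24)) hh x

end Cfsg.Agent.Lib.Helper1.M24
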