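import Mathlib
import Cfsg.Agent.Lib.Helper1.TrioOrb

/-!
# Elements of the stabilizer of the standard trio
-/

set_option autoImplicit false

namespace Cfsg.Agent.Lib.Helper1.TrioStab

open Cfsg Cfsg.Agent.Lib.Helper1 Cfsg.Agent.Lib.Helper1.M24

noncomputable section

def tc107 : El K := El.mul n2 n102 [23, 18, 9, 11, 22, 19, 20, 15, 14, 5, 4, 2, 0, 12, 10, 21, 8, 1, 13, 16, 7, 17, 3, 6] (by decide +kernel)
def tc113 : El K := El.mul n0 tc107 [23, 19, 10, 12, 0, 20, 21, 16, 15, 6, 5, 3, 1, 13, 11, 22, 9, 2, 14, 17, 8, 18, 4, 7] (by decide +kernel)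
def tc120 : El K := El.mul n2 n112 [18, 0, 16, 21, 5, 3, 9, 2, 6, 17, 15, 4, 23, 1, 12, 7, 14, 10, 19, 20, 11, 22, 13, 8] (by decide +kernel)
def tc868 : El K := El.mul n1 n6 [11, 15, 17, 9, 19, 13, 20, 5, 16, 2, 21, 7, 18, 3, 10, 4, 14, 6, 8, 12, 1, 23, 22, 0] (by decide +kernel)
def tc874 : El K := El.mul n2 n867 [18, 22, 5, 2, 3, 14, 6, 1, 11, 9, 16, 10, 12, 7, 4, 13, 17, 8, 21, 0, 19, 20, 15, 23] (by decide +kernel)
def tc876 : El K := El.mul n0 n7 [4, 5, 6, 7, 8, 9, 10, 11, 12, 13, 14, 15, 16, 17, 18, 19, 20, 21, 22, 0, 1, 2, 3, 23] (by decide +kernel)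
def tc878 : El K := El.mul n0 tc868 [12, 16, 18, 10, 20, 14, 21, 6, 17, 3, 22, 8, 19, 4, 11, 5, 15, 7, 9, 13, 2, 23, 0, 1] (by decide +kernel)
def tc879 : El K := El.mul n2 tc868 [19, 15, 11, 12, 22, 9, 10, 21, 13, 6, 20, 5, 4, 3, 7, 2, 17, 1, 16, 8, 18, 23, 14, 0] (by decide +kernel)
def tc881 : El K := El.mul n2 n869 [1, 3, 6, 20, 18, 21, 13, 8, 5, 22, 16, 12, 11, 15, 9, 19, 2, 14, 7, 10, 17, 0, 4, 23] (by decide +kernel)
def tc885 : El K := El.mul n0 n870 [20, 8, 5, 4, 0, 3, 7, 18, 14, 9, 21, 10, 11, 19, 17, 15, 13, 6, 1, 12, 22, 16, 2, 23] (by decide +kernel)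
def tc886 : El K := El.mul n1 n870 [6, 13, 17, 15, 1, 11, 19, 4, 7, 20, 8, 5, 16, 14, 10, 18, 21, 9, 23, 2, 12, 3, 22, 0] (by decide +kernel)
def tc890 : El K := El.mul n0 n103 [1, 23, 22, 11, 15, 17, 9, 19, 13, 20, 5, 16, 2, 21, 7, 18, 3, 10, 4, 14, 6, 8, 12, 0] (by decide +kernel)
def tc896 : El K := El.mul n1 n873 [11, 8, 20, 9, 17, 23, 15, 13, 14, 18, 5, 12, 16, 2, 6, 4, 3, 7, 19, 22, 21, 1, 10, 0] (by decide +kernel)
def tc898 : El K := El.mul n0 n14 [0, 7, 14, 18, 16, 2, 12, 20, 5, 8, 21, 9, 6, 17, 15, 11, 19, 22, 10, 23, 3, 13, 4, 1] (by decide +kernel)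
def tc900 : El K := El.mul n0 tc874 [19, 0, 6, 3, 4, 15, 7, 2, 12, 10, 17, 11, 13, 8, 5, 14, 18, 9, 22, 1, 20, 21, 16, 23] (by decide +kernel)
def tc901 : El K := El.mul n2 tc874 [4, 14, 21, 6, 3, 17, 1, 18, 19, 12, 13, 7, 8, 5, 2, 9, 11, 16, 20, 0, 22, 10, 15, 23] (by decide +kernel)
def tc907 : El K := El.mul n0 tc876 [5, 6, 7, 8, 9, 10, 11, 12, 13, 14, 15, 16, 17, 18, 19, 20, 21, 22, 0, 1, 2, 3, 4, 23] (by decide +kernel)
def tc908 : El K := El.mul n1 tc876 [17, 9, 19, 13, 20, 5, 16, 2, 21, 7, 18, 3, 10, 4, 14, 6, 8, 12, 1, 23, 22, 11, 15, 0] (by decide +kernel)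
def tc915 : El K := El.mul n1 tc878 [21, 10, 14, 16, 8, 18, 12, 19, 4, 15, 1, 20, 6, 17, 2, 9, 3, 13, 5, 7, 11, 0, 23, 22] (by decide +kernel)
def tc917 : El K := El.mul n0 tc879 [20, 16, 12, 13, 0, 10, 11, 22, 14, 7, 21, 6, 5, 4, 8, 3, 18, 2, 17, 9, 19, 23, 15, 1] (by decide +kernel)
def tc920 : El K := El.mul n1 n880 [13, 17, 15, 1, 11, 19, 4, 7, 20, 8, 5, 16, 14, 10, 18, 21, 9, 23, 2, 12, 3, 22, 6, 0] (by decide +kernel)
def tc921 : El K := El.mul n0 tc881 [2, 4, 7, 21, 19, 22, 14, 9, 6, 0, 17, 13, 12, 16, 10, 20, 3, 15, 8, 11, 18, 1, 5, 23] (by decide +kernel)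
def tc928 : El K := El.mul n0 n883 [16, 21, 17, 13, 14, 1, 11, 12, 0, 15, 8, 22, 7, 6, 5, 9, 4, 19, 3, 18, 10, 20, 23, 2] (by decide +kernel)
def tc933 : El K := El.mul n2 tc885 [10, 16, 21, 2, 0, 3, 5, 4, 17, 12, 20, 7, 19, 22, 11, 15, 9, 1, 18, 8, 14, 13, 6, 23] (by decide +kernel)
def tc934 : El K := El.mul n0 tc886 [7, 14, 18, 16, 2, 12, 20, 5, 8, 21, 9, 6, 17, 15, 11, 19, 22, 10, 23, 3, 13, 4, 0, 1] (by decide +kernel)
def tc944 : El K := El.mul n2 n105 [23, 6, 17, 4, 10, 8, 14, 13, 0, 16, 22, 21, 18, 7, 20, 1, 9, 5, 11, 12, 19, 15, 2, 3] (by decide +kernel)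
def tc947 : El K := El.mul n0 tc890 [2, 23, 0, 12, 16, 18, 10, 20, 14, 21, 6, 17, 3, 22, 8, 19, 4, 11, 5, 15, 7, 9, 13, 1] (by decide +kernel)
def tc949 : El K := El.mul n2 tc890 [18, 23, 14, 19, 15, 11, 12, 22, 9, 10, 21, 13, 6, 20, 5, 4, 3, 7, 2, 17, 1, 16, 8, 0] (by decide +kernel)
def tc950 : El K := El.mul n2 n109 [23, 18, 12, 17, 21, 16, 19, 4, 20, 6, 8, 2, 15, 11, 0, 3, 10, 14, 13, 1, 9, 7, 5, 22] (by decide +kernel)
def tc959 : El K := El.mul n0 n893 [23, 19, 1, 17, 21, 10, 16, 14, 9, 22, 11, 3, 12, 0, 4, 5, 7, 8, 13, 20, 15, 18, 6, 2] (by decide +kernel)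
def tc964 : El K := El.mul n0 n895 [4, 22, 10, 7, 6, 2, 5, 9, 20, 16, 11, 0, 12, 13, 21, 19, 17, 15, 8, 3, 14, 1, 18, 23] (by decide +kernel)
def tc965 : El K := El.mul n1 n895 [15, 12, 5, 19, 9, 22, 17, 20, 6, 3, 16, 1, 2, 21, 8, 14, 10, 18, 13, 11, 7, 23, 4, 0] (by decide +kernel)
def tc968 : El K := El.mul n2 tc896 [19, 16, 10, 12, 11, 23, 15, 9, 17, 4, 21, 8, 13, 6, 1, 2, 3, 5, 22, 14, 20, 18, 7, 0] (by decide +kernel)
def tc971 : El K := El.mul n0 tc898 [1, 8, 15, 19, 17, 3, 13, 21, 6, 9, 22, 10, 7, 18, 16, 12, 20, 0, 11, 23, 4, 14, 5, 2] (by decide +kernel)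
def tc976 : El K := El.mul n0 tc900 [20, 1, 7, 4, 5, 16, 8, 3, 13, 11, 18, 12, 14, 9, 6, 15, 19, 10, 0, 2, 21, 22, 17, 23] (by decide +kernel)
def tc980 : El K := El.mul n2 tc901 [2, 17, 20, 1, 3, 11, 18, 4, 22, 8, 9, 5, 16, 21, 6, 12, 19, 13, 10, 0, 14, 7, 15, 23] (by decide +kernel)
def tc983 : El K := El.mul n2 n902 [6, 1, 3, 21, 16, 14, 10, 0, 15, 7, 5, 18, 4, 17, 9, 11, 19, 20, 2, 13, 12, 8, 22, 23] (by decide +kernel)
def tc991 : El K := El.mul n0 tc907 [6, 7, 8, 9, 10, 11, 12, 13, 14, 15, 16, 17, 18, 19, 20, 21, 22, 0, 1, 2, 3, 4, 5, 23] (by decide +kernel)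
def tc994 : El K := El.mul n0 tc908 [18, 10, 20, 14, 21, 6, 17, 3, 22, 8, 19, 4, 11, 5, 15, 7, 9, 13, 2, 23, 0, 12, 16, 1] (by decide +kernel)
def tc1010 : El K := El.mul n2 tc915 [20, 7, 17, 13, 16, 4, 8, 22, 2, 15, 18, 10, 1, 11, 6, 12, 3, 9, 21, 5, 19, 0, 23, 14] (by decide +kernel)
def tc1014 : El K := El.mul n1 tc917 [8, 10, 21, 7, 23, 16, 2, 1, 18, 13, 12, 19, 9, 17, 20, 15, 14, 11, 4, 5, 6, 0, 3, 22] (by decide +kernel)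
def tc1022 : El K := El.mul n1 tc921 [11, 17, 13, 12, 6, 1, 18, 5, 19, 23, 4, 7, 21, 10, 16, 8, 15, 3, 20, 2, 14, 22, 9, 0] (by decide +kernel)
def tc1039 : El K := El.mul n0 tc928 [17, 22, 18, 14, 15, 2, 12, 13, 1, 16, 9, 0, 8, 7, 6, 10, 5, 20, 4, 19, 11, 21, 23, 3] (by decide +kernel)
def tc1058 : El K := El.mul n2 tc934 [5, 17, 4, 13, 6, 8, 10, 21, 16, 20, 12, 1, 11, 15, 19, 22, 14, 7, 23, 3, 9, 2, 0, 18] (by decide +kernel)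
def tc1080 : El K := El.mul n0 tc944 [23, 7, 18, 5, 11, 9, 15, 14, 1, 17, 0, 22, 19, 8, 21, 2, 10, 6, 12, 13, 20, 16, 3, 4] (by decide +kernel)
def tc1084 : El K := El.mul n0 tc113 [23, 20, 11, 13, 1, 21, 22, 17, 16, 7, 6, 4, 2, 14, 12, 0, 10, 3, 15, 18, 9, 19, 5, 8] (by decide +kernel)
def tc1090 : El K := El.mul n2 tc947 [6, 23, 0, 8, 13, 4, 7, 10, 17, 20, 1, 11, 3, 14, 16, 22, 2, 19, 21, 15, 5, 12, 9, 18] (by decide +kernel)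
def tc1092 : El K := El.mul n0 tc949 [19, 23, 15, 20, 16, 12, 13, 0, 10, 11, 22, 14, 7, 21, 6, 5, 4, 8, 3, 18, 2, 17, 9, 1] (by decide +kernel)
def tc1099 : El K := El.mul n2 tc950 [23, 4, 8, 11, 20, 13, 22, 2, 10, 1, 16, 6, 15, 19, 0, 3, 7, 17, 9, 18, 12, 5, 21, 14] (by decide +kernel)
def tc1118 : El K := El.mul n2 tc959 [23, 22, 18, 11, 20, 7, 13, 17, 12, 14, 19, 3, 8, 0, 2, 21, 5, 16, 9, 10, 15, 4, 1, 6] (by decide +kernel)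
def tc1126 : El K := El.mul n1 tc964 [17, 1, 16, 13, 19, 11, 9, 5, 8, 10, 2, 23, 21, 7, 12, 6, 4, 3, 20, 15, 18, 22, 14, 0] (by decide +kernel)
def tc1128 : El K := El.mul n0 tc965 [16, 13, 6, 20, 10, 0, 18, 21, 7, 4, 17, 2, 3, 22, 9, 15, 11, 19, 14, 12, 8, 23, 5, 1] (by decide +kernel)
def tc1134 : El K := El.mul n2 tc968 [22, 13, 7, 8, 19, 23, 15, 12, 11, 2, 20, 16, 9, 1, 18, 6, 3, 21, 14, 17, 10, 4, 5, 0] (by decide +kernel)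
def tc1142 : El K := El.mul n2 tc971 [18, 16, 15, 22, 11, 3, 9, 20, 1, 12, 14, 7, 5, 4, 13, 8, 10, 0, 19, 23, 2, 17, 21, 6] (by decide +kernel)
def tc1159 : El K := El.mul n0 tc980 [3, 18, 21, 2, 4, 12, 19, 5, 0, 9, 10, 6, 17, 22, 7, 13, 20, 14, 11, 1, 15, 8, 16, 23] (by decide +kernel)
def tc1166 : El K := El.mul n0 tc983 [7, 2, 4, 22, 17, 15, 11, 1, 16, 8, 6, 19, 5, 18, 10, 12, 20, 21, 3, 14, 13, 9, 0, 23] (by decide +kernel)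
def tc1184 : El K := El.mul n0 tc991 [7, 8, 9, 10, 11, 12, 13, 14, 15, 16, 17, 18, 19, 20, 21, 22, 0, 1, 2, 3, 4, 5, 6, 23] (by decide +kernel)
def tc1226 : El K := El.mul n0 tc1010 [21, 8, 18, 14, 17, 5, 9, 0, 3, 16, 19, 11, 2, 12, 7, 13, 4, 10, 22, 6, 20, 1, 23, 15] (by decide +kernel)
def tc1233 : El K := El.mul n0 tc1014 [9, 11, 22, 8, 23, 17, 3, 2, 19, 14, 13, 20, 10, 18, 21, 16, 15, 12, 5, 6, 7, 1, 4, 0] (by decide +kernel)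
def tc1254 : El K := El.mul n2 tc1022 [19, 11, 9, 8, 1, 18, 4, 21, 22, 23, 2, 5, 20, 7, 13, 16, 15, 3, 10, 6, 17, 14, 12, 0] (by decide +kernel)
def tc1286 : El K := El.mul n0 tc1039 [18, 0, 19, 15, 16, 3, 13, 14, 2, 17, 10, 1, 9, 8, 7, 11, 6, 21, 5, 20, 12, 22, 23, 4] (by decide +kernel)
def tc1323 : El K := El.mul n0 tc1058 [6, 18, 5, 14, 7, 9, 11, 22, 17, 21, 13, 2, 12, 16, 20, 0, 15, 8, 23, 4, 10, 3, 1, 19] (by decide +kernel)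
def tc1367 : El K := El.mul n2 tc1080 [23, 5, 4, 21, 19, 12, 15, 17, 18, 11, 0, 14, 22, 16, 20, 6, 7, 1, 8, 9, 10, 13, 3, 2] (by decide +kernel)
def tc1373 : El K := El.mul n2 tc120 [4, 0, 13, 20, 21, 3, 12, 6, 1, 11, 15, 2, 23, 18, 8, 5, 17, 7, 22, 10, 19, 14, 9, 16] (by decide +kernel)
def tc1380 : El K := El.mul n1 tc1084 [0, 8, 2, 7, 22, 12, 1, 4, 10, 13, 19, 17, 11, 18, 21, 23, 16, 15, 3, 14, 5, 6, 9, 20] (by decide +kernel)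
def tc1390 : El K := El.mul n2 tc1090 [1, 23, 0, 16, 9, 2, 5, 7, 11, 10, 18, 19, 3, 17, 13, 14, 6, 22, 20, 15, 21, 8, 12, 4] (by decide +kernel)
def tc1393 : El K := El.mul n1 tc1092 [6, 0, 3, 8, 10, 21, 7, 23, 16, 2, 1, 18, 13, 12, 19, 9, 17, 20, 15, 14, 11, 4, 5, 22] (by decide +kernel)
def tc1406 : El K := El.mul n0 tc1099 [23, 5, 9, 12, 21, 14, 0, 3, 11, 2, 17, 7, 16, 20, 1, 4, 8, 18, 10, 19, 13, 6, 22, 15] (by decide +kernel)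
def tc1445 : El K := El.mul n0 tc1118 [23, 0, 19, 12, 21, 8, 14, 18, 13, 15, 20, 4, 9, 1, 3, 22, 6, 17, 10, 11, 16, 5, 2, 7] (by decide +kernel)
def tc1461 : El K := El.mul n0 tc1126 [18, 2, 17, 14, 20, 12, 10, 6, 9, 11, 3, 23, 22, 8, 13, 7, 5, 4, 21, 16, 19, 0, 15, 1] (by decide +kernel)
def tc1464 : El K := El.mul n0 tc1128 [17, 14, 7, 21, 11, 1, 19, 22, 8, 5, 18, 3, 4, 0, 10, 16, 12, 20, 15, 13, 9, 23, 6, 2] (by decide +kernel)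
def tc1478 : El K := El.mul n2 tc1134 [14, 9, 5, 16, 22, 23, 15, 8, 19, 6, 10, 13, 12, 18, 4, 1, 3, 20, 17, 11, 7, 2, 21, 0] (by decide +kernel)
def tc1495 : El K := El.mul n2 tc1142 [4, 13, 15, 14, 19, 3, 12, 10, 18, 8, 17, 5, 21, 2, 9, 16, 7, 0, 22, 23, 6, 11, 20, 1] (by decide +kernel)
def tc1530 : El K := El.mul n0 tc1159 [4, 19, 22, 3, 5, 13, 20, 6, 1, 10, 11, 7, 18, 0, 8, 14, 21, 15, 12, 2, 16, 9, 17, 23] (by decide +kernel)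
def tc1542 : El K := El.mul n0 tc1166 [8, 3, 5, 0, 18, 16, 12, 2, 17, 9, 7, 20, 6, 19, 11, 13, 21, 22, 4, 15, 14, 10, 1, 23] (by decide +kernel)
def tc1543 : El K := El.mul n1 tc1166 [13, 11, 17, 1, 4, 3, 2, 22, 10, 20, 19, 6, 9, 14, 16, 21, 8, 12, 15, 18, 7, 5, 23, 0] (by decide +kernel)
def tc1661 : El K := El.mul n1 tc1226 [12, 20, 14, 18, 4, 9, 5, 23, 15, 10, 6, 2, 11, 21, 13, 7, 17, 16, 1, 19, 8, 22, 0, 3] (by decide +kernel)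
def tc1675 : El K := El.mul n2 tc1233 [12, 19, 14, 16, 23, 11, 3, 6, 22, 17, 9, 10, 7, 4, 20, 13, 15, 8, 21, 1, 5, 18, 2, 0] (by decide +kernel)
def tc1776 : El K := El.mul n1 tc1286 [14, 23, 6, 3, 10, 15, 7, 18, 11, 4, 16, 22, 5, 20, 13, 2, 19, 12, 9, 8, 21, 1, 0, 17] (by decide +kernel)
def tc1844 : El K := El.mul n1 tc1323 [19, 14, 9, 18, 13, 5, 2, 1, 4, 12, 7, 11, 21, 10, 8, 23, 3, 20, 0, 17, 16, 15, 22, 6] (by decide +kernel)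
def tc1923 : El K := El.mul n2 tc1367 [23, 21, 2, 20, 22, 8, 15, 11, 4, 19, 0, 17, 14, 13, 10, 1, 5, 18, 16, 12, 7, 9, 3, 6] (by decide +kernel)
def tc1932 : El K := El.mul n0 tc1373 [5, 1, 14, 21, 22, 4, 13, 7, 2, 12, 16, 3, 23, 19, 9, 6, 18, 8, 0, 11, 20, 15, 10, 17] (by decide +kernel)
def tc1989 : El K := El.mul n2 tc1406 [23, 21, 12, 8, 20, 17, 0, 3, 19, 6, 11, 5, 13, 10, 18, 2, 16, 4, 7, 22, 9, 1, 14, 15] (by decide +kernel)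
def tc2086 : El K := El.mul n1 tc1461 [14, 11, 4, 18, 8, 21, 16, 19, 5, 2, 15, 0, 1, 20, 7, 13, 9, 17, 12, 10, 6, 23, 3, 22] (by decide +kernel)
def tc2090 : El K := El.mul n0 tc1464 [18, 15, 8, 22, 12, 2, 20, 0, 9, 6, 19, 4, 5, 1, 11, 17, 13, 21, 16, 14, 10, 23, 7, 3] (by decide +kernel)
def tc2110 : El K := El.mul n0 tc1478 [15, 10, 6, 17, 0, 23, 16, 9, 20, 7, 11, 14, 13, 19, 5, 2, 4, 21, 18, 12, 8, 3, 22, 1] (by decide +kernel)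
def tc2214 : El K := El.mul n0 tc1543 [14, 12, 18, 2, 5, 4, 3, 0, 11, 21, 20, 7, 10, 15, 17, 22, 9, 13, 16, 19, 8, 6, 23, 1] (by decide +kernel)
def tc2391 : El K := El.mul n2 tc1675 [8, 22, 17, 13, 23, 19, 3, 1, 14, 11, 12, 7, 5, 2, 10, 9, 15, 16, 20, 18, 21, 4, 6, 0] (by decide +kernel)
def tc2846 : El K := El.mul n1 tc2090 [14, 3, 20, 1, 21, 11, 8, 23, 5, 19, 6, 17, 9, 22, 2, 4, 7, 12, 10, 18, 16, 0, 13, 15] (by decide +kernel)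
def tc2865 : El K := El.mul n2 tc2110 [15, 7, 1, 11, 0, 23, 13, 12, 10, 5, 19, 17, 9, 22, 21, 6, 2, 20, 4, 8, 16, 3, 14, 18] (by decide +kernel)
def tc4119 : El K := El.mul n1 tc976 [8, 22, 13, 17, 9, 10, 20, 15, 7, 2, 14, 21, 18, 5, 19, 3, 6, 16, 23, 11, 12, 1, 4, 0] (by decide +kernel)
def tc4122 : El K := El.mul n2 tc994 [4, 7, 10, 17, 20, 1, 11, 3, 14, 16, 22, 2, 19, 21, 15, 5, 12, 9, 6, 23, 0, 8, 13, 18] (by decide +kernel)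
def tc4168 : El K := El.mul n2 tc4119 [16, 14, 9, 11, 12, 7, 10, 15, 5, 6, 17, 20, 4, 21, 22, 3, 1, 13, 23, 19, 8, 18, 2, 0] (by decide +kernel)
def tc4218 : El K := El.mul n0 tc1380 [1, 9, 3, 8, 0, 13, 2, 5, 11, 14, 20, 18, 12, 19, 22, 23, 17, 16, 4, 15, 6, 7, 10, 21] (by decide +kernel)
def tc4225 : El K := El.mul n2 tc1393 [1, 0, 3, 16, 7, 20, 5, 23, 13, 6, 18, 4, 9, 8, 22, 12, 11, 10, 15, 17, 19, 2, 21, 14] (by decide +kernel)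
def tc4267 : El K := El.mul n0 tc4168 [17, 15, 10, 12, 13, 8, 11, 16, 6, 7, 18, 21, 5, 22, 0, 4, 2, 14, 23, 20, 9, 19, 3, 1] (by decide +kernel)
def tc4526 : El K := El.mul n0 tc933 [11, 17, 22, 3, 1, 4, 6, 5, 18, 13, 21, 8, 20, 0, 12, 16, 10, 2, 19, 9, 15, 14, 7, 23] (by decide +kernel)
def tc4528 : El K := El.mul n0 n960 [1, 15, 23, 11, 9, 6, 4, 8, 21, 13, 17, 12, 3, 2, 16, 18, 20, 14, 22, 7, 19, 5, 10, 0] (by decide +kernel)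
def tc4537 : El K := El.mul n0 tc4526 [12, 18, 0, 4, 2, 5, 7, 6, 19, 14, 22, 9, 21, 1, 13, 17, 11, 3, 20, 10, 16, 15, 8, 23] (by decide +kernel)
def tc4550 : El K := El.mul n2 tc4528 [18, 15, 23, 19, 12, 1, 2, 16, 20, 9, 11, 8, 3, 6, 13, 4, 10, 17, 14, 5, 22, 21, 7, 0] (by decide +kernel)
def tc4561 : El K := El.mul n0 tc1184 [8, 9, 10, 11, 12, 13, 14, 15, 16, 17, 18, 19, 20, 21, 22, 0, 1, 2, 3, 4, 5, 6, 7, 23] (by decide +kernel)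
def tc4562 : El K := El.mul n2 tc4122 [2, 5, 7, 11, 10, 18, 19, 3, 17, 13, 14, 6, 22, 20, 15, 21, 8, 12, 1, 23, 0, 16, 9, 4] (by decide +kernel)
def tc4677 : El K := El.mul n0 tc1495 [5, 14, 16, 15, 20, 4, 13, 11, 19, 9, 18, 6, 22, 3, 10, 17, 8, 1, 0, 23, 7, 12, 21, 2] (by decide +kernel)
def tc4699 : El K := El.mul n0 tc1542 [9, 4, 6, 1, 19, 17, 13, 3, 18, 10, 8, 21, 7, 20, 12, 14, 22, 0, 5, 16, 15, 11, 2, 23] (by decide +kernel)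
def tc4708 : El K := El.mul n1 tc4561 [20, 5, 16, 2, 21, 7, 18, 3, 10, 4, 14, 6, 8, 12, 1, 23, 22, 11, 15, 17, 9, 19, 13, 0] (by decide +kernel)
def tc4716 : El K := El.mul n2 tc4562 [6, 21, 5, 19, 7, 4, 22, 3, 11, 9, 17, 1, 14, 10, 15, 20, 16, 8, 18, 23, 0, 13, 12, 2] (by decide +kernel)
def tc4917 : El K := El.mul n2 tc1844 [22, 17, 12, 4, 9, 21, 6, 18, 2, 8, 5, 19, 20, 7, 16, 23, 3, 10, 0, 11, 13, 15, 14, 1] (by decide +kernel)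
def tc4988 : El K := El.mul n2 tc2086 [17, 19, 2, 4, 16, 20, 13, 22, 21, 6, 15, 0, 18, 10, 5, 9, 12, 11, 8, 7, 1, 23, 3, 14] (by decide +kernel)
def tc5091 : El K := El.mul n2 tc4708 [10, 21, 13, 6, 20, 5, 4, 3, 7, 2, 17, 1, 16, 8, 18, 23, 14, 19, 15, 11, 12, 22, 9, 0] (by decide +kernel)
def tc5348 : El K := El.mul n2 tc4917 [14, 11, 8, 2, 12, 20, 1, 4, 6, 16, 21, 22, 10, 5, 13, 23, 3, 7, 0, 19, 9, 15, 17, 18] (by decide +kernel)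
def tc5530 : El K := El.mul n2 tc920 [9, 11, 15, 18, 19, 22, 2, 5, 10, 16, 21, 13, 17, 7, 4, 20, 12, 23, 6, 8, 3, 14, 1, 0] (by decide +kernel)
def tc5539 : El K := El.mul n0 tc5530 [10, 12, 16, 19, 20, 0, 3, 6, 11, 17, 22, 14, 18, 8, 5, 21, 13, 23, 7, 9, 4, 15, 2, 1] (by decide +kernel)
def tc5574 : El K := El.mul n0 tc4119 [9, 0, 14, 18, 10, 11, 21, 16, 8, 3, 15, 22, 19, 6, 20, 4, 7, 17, 23, 12, 13, 2, 5, 1] (by decide +kernel)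
def tc5610 : El K := El.mul n2 tc5539 [7, 8, 13, 22, 10, 0, 3, 1, 19, 11, 14, 17, 4, 16, 21, 20, 9, 23, 5, 12, 2, 15, 6, 18] (by decide +kernel)
def tc5619 : El K := El.mul n0 tc1254 [20, 12, 10, 9, 2, 19, 5, 22, 0, 23, 3, 6, 21, 8, 14, 17, 16, 4, 11, 7, 18, 15, 13, 1] (by decide +kernel)
def tc5635 : El K := El.mul n0 tc4537 [13, 19, 1, 5, 3, 6, 8, 7, 20, 15, 0, 10, 22, 2, 14, 18, 12, 4, 21, 11, 17, 16, 9, 23] (by decide +kernel)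
def tc5701 : El K := El.mul n2 n209 [8, 18, 23, 14, 19, 15, 11, 12, 22, 9, 10, 21, 13, 6, 20, 5, 4, 3, 7, 2, 17, 1, 16, 0] (by decide +kernel)
def tc5703 : El K := El.mul n2 tc1390 [18, 23, 0, 13, 12, 6, 21, 5, 19, 7, 4, 22, 3, 11, 9, 17, 1, 14, 10, 15, 20, 16, 8, 2] (by decide +kernel)
def tc5785 : El K := El.mul n1 tc1445 [0, 23, 6, 21, 12, 20, 18, 14, 7, 3, 8, 17, 5, 22, 15, 1, 19, 4, 16, 2, 10, 9, 11, 13] (by decide +kernel)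
def tc5787 : El K := El.mul n2 tc4550 [4, 15, 23, 22, 8, 18, 6, 13, 10, 12, 19, 16, 3, 1, 9, 2, 7, 11, 17, 21, 14, 20, 5, 0] (by decide +kernel)
def tc5828 : El K := El.mul n2 tc5574 [12, 0, 17, 4, 7, 19, 20, 13, 16, 3, 15, 14, 22, 1, 10, 2, 5, 11, 23, 8, 9, 6, 21, 18] (by decide +kernel)
def tc5844 : El K := El.mul n1 tc1530 [17, 6, 1, 15, 9, 7, 8, 19, 22, 16, 2, 13, 14, 23, 20, 18, 12, 3, 21, 11, 10, 5, 4, 0] (by decide +kernel)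
def tc6009 : El K := El.mul n0 tc1661 [13, 21, 15, 19, 5, 10, 6, 23, 16, 11, 7, 3, 12, 22, 14, 8, 18, 17, 2, 20, 9, 0, 1, 4] (by decide +kernel)
def tc6064 : El K := El.mul n0 tc5610 [8, 9, 14, 0, 11, 1, 4, 2, 20, 12, 15, 18, 5, 17, 22, 21, 10, 23, 6, 13, 3, 16, 7, 19] (by decide +kernel)
def tc6092 : El K := El.mul n2 tc5619 [10, 8, 7, 12, 6, 22, 21, 14, 0, 23, 3, 1, 20, 16, 17, 11, 13, 2, 19, 5, 4, 15, 9, 18] (by decide +kernel)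
def tc6166 : El K := El.mul n0 tc1776 [15, 23, 7, 4, 11, 16, 8, 19, 12, 5, 17, 0, 6, 21, 14, 3, 20, 13, 10, 9, 22, 2, 1, 18] (by decide +kernel)
def tc6496 : El K := El.mul n0 tc1932 [6, 2, 15, 22, 0, 5, 14, 8, 3, 13, 17, 4, 23, 20, 10, 7, 19, 9, 1, 12, 21, 16, 11, 18] (by decide +kernel)
def tc6529 : El K := El.mul n1 tc4218 [22, 5, 15, 20, 23, 7, 11, 9, 2, 18, 8, 14, 21, 6, 1, 0, 4, 10, 17, 3, 19, 13, 16, 12] (by decide +kernel)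
def tc6594 : El K := El.mul n0 tc5703 [19, 23, 1, 14, 13, 7, 22, 6, 20, 8, 5, 0, 4, 12, 10, 18, 2, 15, 11, 16, 21, 17, 9, 3] (by decide +kernel)
def tc6609 : El K := El.mul n0 tc4225 [2, 1, 4, 17, 8, 21, 6, 23, 14, 7, 19, 5, 10, 9, 0, 13, 12, 11, 16, 18, 20, 3, 22, 15] (by decide +kernel)
def tc7168 : El K := El.mul n0 tc4677 [6, 15, 17, 16, 21, 5, 14, 12, 20, 10, 19, 7, 0, 4, 11, 18, 9, 2, 1, 23, 8, 13, 22, 3] (by decide +kernel)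
def tc7246 : El K := El.mul n2 tc5828 [8, 0, 11, 2, 5, 22, 10, 9, 13, 3, 15, 17, 14, 18, 7, 6, 21, 19, 23, 16, 12, 1, 20, 4] (by decide +kernel)
def tc7359 : El K := El.mul n2 tc4699 [12, 2, 1, 18, 22, 11, 9, 3, 4, 7, 16, 20, 5, 10, 8, 17, 14, 0, 21, 13, 15, 19, 6, 23] (by decide +kernel)
def tc7363 : El K := El.mul n1 tc2214 [18, 21, 14, 11, 9, 17, 15, 23, 2, 12, 8, 13, 16, 3, 4, 1, 5, 7, 10, 6, 20, 19, 0, 22] (by decide +kernel)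
def tc7649 : El K := El.mul n0 tc4716 [7, 22, 6, 20, 8, 5, 0, 4, 12, 10, 18, 2, 15, 11, 16, 21, 17, 9, 19, 23, 1, 14, 13, 3] (by decide +kernel)
def tc8011 : El K := El.mul n2 tc6009 [9, 20, 15, 22, 21, 7, 1, 23, 13, 19, 5, 3, 8, 14, 17, 16, 4, 11, 6, 10, 12, 0, 18, 2] (by decide +kernel)
def tc8100 : El K := El.mul n2 tc2391 [16, 14, 11, 9, 23, 22, 3, 18, 17, 19, 8, 5, 21, 6, 7, 12, 15, 13, 10, 4, 20, 2, 1, 0] (by decide +kernel)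
def tc8281 : El K := El.mul n2 tc6064 [16, 12, 17, 0, 19, 18, 2, 6, 10, 8, 15, 4, 21, 11, 14, 20, 7, 23, 1, 9, 3, 13, 5, 22] (by decide +kernel)
def tc8359 : El K := El.mul n2 tc6092 [7, 16, 5, 8, 1, 14, 20, 17, 0, 23, 3, 18, 10, 13, 11, 19, 9, 6, 22, 21, 2, 15, 12, 4] (by decide +kernel)
def tc10279 : El K := El.mul n0 tc6609 [3, 2, 5, 18, 9, 22, 7, 23, 15, 8, 20, 6, 11, 10, 1, 14, 13, 12, 17, 19, 21, 4, 0, 16] (by decide +kernel)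
def tc11551 : El K := El.mul n2 tc4988 [11, 22, 6, 2, 13, 10, 9, 14, 20, 1, 15, 0, 4, 7, 21, 12, 8, 19, 16, 5, 18, 23, 3, 17] (by decide +kernel)
def tc11585 : El K := El.mul n0 tc2846 [15, 4, 21, 2, 22, 12, 9, 23, 6, 20, 7, 18, 10, 0, 3, 5, 8, 13, 11, 19, 17, 1, 14, 16] (by decide +kernel)
def tc12228 : El K := El.mul n2 n469 [17, 5, 19, 6, 4, 21, 11, 10, 2, 0, 16, 8, 9, 15, 14, 18, 12, 7, 22, 23, 20, 13, 1, 3] (by decide +kernel)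
def tc13186 : El K := El.mul n2 tc5091 [7, 20, 9, 1, 10, 21, 2, 3, 5, 6, 11, 18, 13, 16, 4, 23, 17, 22, 15, 19, 8, 14, 12, 0] (by decide +kernel)
def tc15406 : El K := El.mul n2 tc8359 [5, 13, 21, 16, 18, 17, 10, 11, 0, 23, 3, 4, 7, 9, 19, 22, 12, 1, 14, 20, 6, 15, 8, 2] (by decide +kernel)
def tc22995 : El K := El.mul n1 tc11585 [3, 17, 12, 11, 1, 21, 5, 0, 19, 8, 13, 14, 16, 23, 15, 9, 20, 7, 2, 6, 4, 22, 18, 10] (by decide +kernel)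
def tc24470 : El K := El.mul n0 tc12228 [18, 6, 20, 7, 5, 22, 12, 11, 3, 1, 17, 9, 10, 16, 15, 19, 13, 8, 0, 23, 21, 14, 2, 4] (by decide +kernel)
def tc129466 : El K := El.mul n0 tc6594 [20, 23, 2, 15, 14, 8, 0, 7, 21, 9, 6, 1, 5, 13, 11, 19, 3, 16, 12, 17, 22, 18, 10, 4] (by decide +kernel)
def tc129486 : El K := El.mul n2 tc2865 [15, 5, 18, 19, 0, 23, 9, 8, 7, 21, 22, 11, 12, 14, 20, 1, 6, 10, 2, 16, 13, 3, 17, 4] (by decide +kernel)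
def tc131142 : El K := El.inv tc6496 [4, 18, 1, 8, 11, 5, 0, 15, 7, 17, 14, 22, 19, 9, 6, 2, 21, 10, 23, 16, 13, 20, 3, 12] (by decide +kernel)
def tc131143 : El K := El.mul tc131142 tc15406 [5, 9, 20, 21, 23, 10, 14, 22, 4, 12, 8, 11, 15, 17, 16, 3, 19, 18, 6, 13, 0, 2, 7, 1] (by decide +kernel)
def tc131144 : El K := El.inv tc129466 [6, 11, 2, 16, 23, 12, 10, 7, 5, 9, 22, 14, 18, 13, 4, 3, 17, 19, 21, 15, 0, 8, 20, 1] (by decide +kernel)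
def tc131145 : El K := El.mul tc131144 tc22995 [16, 19, 18, 14, 11, 8, 12, 6, 15, 5, 13, 4, 17, 1, 3, 9, 0, 7, 2, 10, 23, 20, 21, 22] (by decide +kernel)
def tc131148 : El K := El.inv tc11551 [11, 9, 3, 22, 12, 19, 2, 13, 16, 6, 5, 0, 15, 4, 7, 10, 18, 23, 20, 17, 8, 14, 1, 21] (by decide +kernel)
def tc131149 : El K := El.mul n0 tc7649 [8, 0, 7, 21, 9, 6, 1, 5, 13, 11, 19, 3, 16, 12, 17, 22, 18, 10, 20, 23, 2, 15, 14, 4] (by decide +kernel)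
def tc131150 : El K := El.mul tc131148 tc131149 [16, 11, 13, 14, 6, 2, 9, 19, 4, 0, 17, 22, 18, 15, 23, 1, 20, 5, 8, 21, 3, 10, 7, 12] (by decide +kernel)
def tc131151 : El K := El.inv tc7363 [22, 15, 8, 13, 14, 16, 19, 17, 10, 4, 18, 3, 9, 11, 2, 6, 12, 5, 0, 21, 20, 1, 23, 7] (by decide +kernel)
def tc131152 : El K := El.mul tc131151 tc8100 [12, 2, 3, 4, 7, 23, 13, 0, 5, 21, 10, 16, 1, 19, 17, 9, 6, 11, 18, 14, 20, 8, 15, 22] (by decide +kernel)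
def tc131154 : El K := El.inv tc10279 [22, 14, 1, 0, 21, 2, 11, 6, 9, 4, 13, 12, 17, 16, 15, 8, 23, 18, 3, 19, 10, 20, 5, 7] (by decide +kernel)
def tc131155 : El K := El.mul n2 tc129486 [15, 21, 4, 22, 0, 23, 12, 16, 5, 20, 14, 19, 8, 17, 10, 18, 1, 7, 6, 13, 9, 3, 11, 2] (by decide +kernel)
def tc131156 : El K := El.mul tc131154 tc131155 [8, 20, 21, 5, 22, 7, 17, 23, 2, 10, 15, 19, 9, 18, 13, 3, 14, 6, 11, 16, 4, 0, 12, 1] (by decide +kernel)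
def tc131157 : El K := El.inv tc6166 [11, 22, 21, 15, 3, 9, 12, 2, 6, 19, 18, 4, 8, 17, 14, 0, 5, 10, 23, 7, 16, 13, 20, 1] (by decide +kernel)
def tc131158 : El K := El.mul tc131157 tc7359 [8, 21, 22, 23, 20, 4, 19, 15, 3, 2, 5, 16, 9, 18, 6, 10, 14, 11, 13, 17, 0, 7, 12, 1] (by decide +kernel)
def tc131159 : El K := El.inv tc7168 [12, 18, 17, 23, 13, 5, 0, 11, 20, 16, 9, 14, 7, 21, 6, 1, 3, 2, 15, 10, 8, 4, 22, 19] (by decide +kernel)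
def tc131160 : El K := El.mul tc131159 tc8281 [3, 7, 2, 12, 10, 15, 17, 0, 9, 20, 1, 13, 4, 14, 6, 8, 11, 19, 18, 16, 23, 21, 5, 22] (by decide +kernel)
def tc131162 : El K := El.mul tc5787 tc24470 [17, 6, 14, 13, 18, 5, 3, 16, 22, 15, 11, 12, 19, 7, 2, 21, 1, 10, 4, 0, 20, 9, 23, 8] (by decide +kernel)
def tc131164 : El K := El.inv tc6529 [15, 14, 8, 19, 16, 1, 13, 5, 10, 7, 17, 6, 23, 21, 11, 2, 22, 18, 9, 20, 3, 12, 0, 4] (by decide +kernel)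
def tc131165 : El K := El.mul tc131164 tc8011 [7, 3, 2, 0, 12, 5, 14, 4, 21, 20, 1, 19, 10, 11, 18, 22, 16, 6, 13, 17, 23, 15, 9, 8] (by decide +kernel)
def tc131169 : El K := El.inv tc1989 [6, 21, 15, 7, 17, 11, 9, 18, 3, 20, 13, 10, 2, 12, 22, 23, 16, 5, 14, 8, 4, 1, 19, 0] (by decide +kernel)
def tc131170 : El K := El.mul tc131169 tc5844 [5, 9, 21, 23, 20, 18, 3, 8, 19, 16, 15, 12, 22, 0, 4, 14, 2, 7, 1, 10, 13, 11, 17, 6] (by decide +kernel)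
def tc131171 : El K := El.inv tc1923 [10, 15, 2, 22, 8, 16, 23, 20, 5, 21, 14, 7, 19, 13, 12, 6, 18, 11, 17, 9, 3, 1, 4, 0] (by decide +kernel)
def tc131172 : El K := El.mul tc131171 tc4267 [11, 6, 14, 19, 13, 5, 7, 18, 23, 20, 17, 1, 16, 4, 10, 8, 2, 12, 0, 3, 21, 9, 22, 15] (by decide +kernel)
def tc131173 : El K := El.inv tc5635 [10, 2, 13, 4, 17, 3, 5, 7, 6, 22, 11, 19, 16, 0, 14, 9, 21, 20, 15, 1, 8, 18, 12, 23] (by decide +kernel)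
def tc131174 : El K := El.mul tc131173 tc5348 [14, 19, 6, 13, 16, 8, 2, 17, 5, 21, 18, 12, 11, 3, 0, 23, 4, 7, 10, 1, 22, 9, 20, 15] (by decide +kernel)
def tc131175 : El K := El.mul tc5701 tc7246 [22, 8, 21, 23, 15, 16, 10, 9, 6, 14, 5, 3, 20, 7, 12, 11, 1, 2, 0, 4, 13, 18, 17, 19] (by decide +kernel)
def tc131176 : El K := El.inv tc5785 [0, 15, 19, 9, 17, 12, 2, 8, 10, 21, 20, 22, 4, 23, 7, 14, 18, 11, 6, 16, 5, 3, 13, 1] (by decide +kernel)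
def tc131177 : El K := El.mul tc131176 tc13186 [8, 5, 21, 15, 20, 3, 19, 9, 12, 2, 22, 6, 23, 18, 17, 1, 11, 13, 14, 16, 10, 7, 4, 0] (by decide +kernel)
def tc131233 : El K := El.mul tc131172 tc131172 [1, 7, 10, 3, 4, 5, 18, 0, 15, 21, 12, 6, 2, 13, 17, 23, 14, 16, 11, 19, 9, 20, 22, 8] (by decide +kernel)
def tc131234 : El K := El.mul tc131233 tc131152 [2, 10, 3, 4, 0, 8, 13, 1, 5, 20, 12, 14, 7, 19, 16, 21, 18, 6, 11, 17, 9, 15, 23, 22] (by decide +kernel)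
def tc131321 : El K := El.mul tc131158 tc131156 [3, 0, 7, 4, 12, 15, 11, 1, 22, 5, 10, 17, 2, 13, 18, 23, 6, 19, 16, 14, 20, 8, 9, 21] (by decide +kernel)
def tc131322 : El K := El.mul tc131321 tc131150 [6, 17, 13, 18, 11, 7, 5, 14, 12, 3, 19, 9, 16, 23, 21, 0, 20, 15, 22, 8, 4, 10, 1, 2] (by decide +kernel)
def tc131323 : El K := El.mul tc131322 tc131175 [1, 12, 10, 2, 0, 20, 19, 3, 5, 21, 7, 18, 4, 14, 16, 9, 17, 13, 6, 11, 23, 22, 15, 8] (by decide +kernel)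
def tc131324 : El K := El.mul tc131323 tc131145 [17, 11, 6, 16, 18, 5, 4, 19, 9, 20, 14, 0, 13, 12, 2, 21, 1, 3, 10, 7, 8, 23, 22, 15] (by decide +kernel)
def tc131325 : El K := El.mul tc131324 tc131172 [0, 4, 2, 7, 12, 5, 19, 10, 15, 8, 3, 11, 1, 18, 14, 9, 6, 13, 17, 16, 23, 20, 22, 21] (by decide +kernel)
def tc131326 : El K := El.mul tc131325 tc131150 [6, 11, 18, 14, 19, 2, 8, 16, 12, 0, 13, 22, 17, 9, 21, 4, 23, 5, 15, 20, 7, 3, 10, 1] (by decide +kernel)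
def tc131446 : El K := El.mul tc131177 tc131174 [17, 16, 19, 18, 11, 12, 21, 13, 3, 7, 14, 23, 6, 15, 8, 0, 20, 9, 22, 5, 4, 2, 10, 1] (by decide +kernel)
def tc131447 : El K := El.mul tc131446 tc131162 [9, 21, 8, 15, 22, 12, 18, 20, 10, 0, 23, 6, 5, 13, 19, 2, 16, 14, 11, 17, 4, 7, 1, 3] (by decide +kernel)
def tc131448 : El K := El.mul tc131447 tc131158 [10, 7, 1, 3, 4, 22, 17, 2, 15, 8, 12, 16, 0, 11, 18, 23, 19, 6, 13, 14, 9, 20, 5, 21] (by decide +kernel)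
def tc131449 : El K := El.mul tc131448 tc131158 [15, 20, 5, 21, 9, 4, 14, 23, 3, 1, 22, 19, 8, 13, 17, 12, 18, 16, 11, 6, 10, 2, 0, 7] (by decide +kernel)
def tc131450 : El K := El.mul tc131449 tc131165 [23, 21, 5, 15, 8, 4, 17, 9, 2, 10, 20, 6, 22, 19, 11, 0, 18, 14, 13, 16, 7, 12, 1, 3] (by decide +kernel)
def tc131451 : El K := El.mul tc131450 tc131150 [18, 6, 19, 11, 17, 5, 10, 16, 8, 23, 14, 1, 13, 0, 3, 21, 7, 4, 2, 12, 15, 20, 9, 22] (by decide +kernel)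
def tc131452 : El K := El.mul tc131451 tc131165 [16, 11, 19, 18, 13, 5, 3, 17, 20, 15, 6, 12, 14, 1, 2, 9, 7, 10, 0, 4, 22, 21, 23, 8] (by decide +kernel)
def tc131453 : El K := El.mul tc131452 tc131150 [7, 12, 1, 2, 3, 19, 15, 4, 13, 16, 10, 23, 0, 9, 8, 11, 22, 5, 20, 21, 18, 6, 17, 14] (by decide +kernel)
def tc131454 : El K := El.mul tc131453 tc131152 [0, 1, 2, 3, 4, 14, 9, 7, 19, 6, 10, 22, 12, 21, 5, 16, 15, 23, 20, 8, 18, 13, 11, 17] (by decide +kernel)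
def tc131639 : El K := El.mul tc131177 tc131170 [3, 2, 7, 0, 10, 14, 15, 12, 16, 11, 1, 23, 4, 8, 20, 17, 21, 9, 5, 22, 18, 6, 13, 19] (by decide +kernel)
def tc131640 : El K := El.mul tc131639 tc131150 [21, 23, 8, 20, 15, 7, 11, 22, 10, 3, 9, 13, 5, 17, 19, 2, 18, 14, 16, 6, 0, 1, 12, 4] (by decide +kernel)
def tc131758 : El K := El.mul tc131158 tc131143 [4, 2, 0, 7, 1, 5, 6, 12, 20, 9, 3, 16, 10, 11, 14, 23, 17, 13, 19, 18, 8, 22, 15, 21] (by decide +kernel)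
def tc131950 : El K := El.mul tc131158 tc131150 [14, 16, 18, 6, 19, 22, 2, 17, 20, 8, 11, 12, 13, 10, 1, 21, 0, 4, 3, 7, 23, 5, 15, 9] (by decide +kernel)
def tc131951 : El K := El.mul tc131145 tc131143 [8, 5, 23, 20, 22, 13, 3, 21, 11, 17, 15, 4, 9, 7, 0, 14, 10, 2, 12, 1, 16, 18, 6, 19] (by decide +kernel)
def tc131952 : El K := El.mul tc131950 tc131145 [0, 7, 3, 1, 12, 20, 13, 2, 21, 22, 10, 19, 4, 16, 6, 8, 14, 17, 18, 11, 9, 23, 5, 15] (by decide +kernel)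
def tc131953 : El K := El.mul tc131165 tc131152 [10, 2, 0, 12, 4, 8, 11, 7, 5, 15, 1, 16, 3, 17, 6, 20, 14, 19, 13, 18, 23, 21, 22, 9] (by decide +kernel)
def tc131954 : El K := El.mul tc131160 tc131177 [9, 15, 21, 8, 23, 12, 16, 20, 4, 2, 5, 17, 22, 18, 19, 7, 13, 14, 6, 11, 1, 0, 10, 3] (by decide +kernel)
def tc131955 : El K := El.mul tc131952 tc131953 [10, 3, 0, 4, 12, 21, 19, 2, 20, 8, 7, 14, 1, 17, 13, 9, 6, 11, 16, 18, 15, 23, 5, 22] (by decide +kernel)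
def tc131956 : El K := El.mul tc131172 tc131152 [16, 14, 19, 13, 18, 15, 4, 11, 5, 9, 17, 2, 6, 3, 12, 20, 7, 1, 0, 10, 21, 23, 8, 22] (by decide +kernel)
def tc131957 : El K := El.mul tc131170 tc131951 [19, 18, 6, 13, 17, 0, 23, 11, 12, 7, 14, 20, 16, 8, 5, 4, 15, 21, 22, 9, 2, 1, 3, 10] (by decide +kernel)
def tc131958 : El K := El.mul tc131957 tc131956 [15, 5, 9, 8, 22, 4, 17, 20, 0, 7, 21, 6, 23, 13, 16, 2, 11, 18, 19, 14, 1, 10, 12, 3] (by decide +kernel)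
def tc131959 : El K := El.mul tc131150 tc131953 [17, 13, 16, 18, 6, 4, 22, 19, 2, 1, 11, 20, 14, 5, 9, 3, 23, 21, 15, 8, 12, 10, 7, 0] (by decide +kernel)
def tc131960 : El K := El.mul tc131953 tc131156 [5, 23, 21, 8, 22, 7, 19, 9, 0, 1, 20, 18, 15, 13, 17, 12, 6, 11, 16, 14, 4, 10, 3, 2] (by decide +kernel)
def tc131961 : El K := El.mul tc131955 tc131959 [11, 17, 6, 16, 19, 12, 5, 18, 0, 3, 14, 15, 13, 21, 8, 4, 22, 23, 9, 20, 1, 7, 2, 10] (by decide +kernel)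
def tc131962 : El K := El.mul tc131953 tc131174 [6, 18, 11, 17, 14, 5, 0, 19, 8, 21, 13, 3, 16, 12, 10, 9, 4, 7, 1, 2, 22, 15, 23, 20] (by decide +kernel)
def tc131963 : El K := El.mul tc131958 tc131170 [4, 7, 10, 3, 1, 19, 8, 0, 14, 11, 2, 23, 12, 15, 22, 16, 9, 20, 5, 21, 13, 6, 18, 17] (by decide +kernel)
def tc131964 : El K := El.mul tc131234 tc131962 [13, 11, 14, 6, 16, 8, 2, 17, 5, 15, 19, 4, 18, 7, 12, 20, 0, 1, 10, 3, 23, 21, 22, 9] (by decide +kernel)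
def tc131965 : El K := El.mul tc131162 tc131950 [2, 1, 4, 3, 0, 23, 14, 10, 20, 22, 12, 19, 7, 11, 6, 9, 17, 18, 13, 16, 8, 5, 21, 15] (by decide +kernel)
def tc131966 : El K := El.mul tc131162 tc131965 [14, 6, 18, 13, 17, 8, 2, 11, 20, 23, 19, 0, 16, 12, 3, 15, 10, 4, 7, 1, 22, 5, 9, 21] (by decide +kernel)
def tc131967 : El K := El.mul tc131961 tc131175 [2, 0, 7, 10, 4, 22, 14, 3, 5, 8, 12, 16, 1, 18, 13, 15, 17, 6, 11, 19, 21, 9, 23, 20] (by decide +kernel)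
def tc131968 : El K := El.mul tc131955 tc131956 [6, 13, 18, 17, 16, 9, 12, 14, 21, 8, 11, 0, 19, 4, 1, 15, 2, 3, 10, 7, 23, 22, 20, 5] (by decide +kernel)
def tc131970 : El K := El.mul tc131174 tc131966 [0, 2, 10, 3, 7, 5, 6, 12, 22, 15, 1, 14, 4, 11, 13, 23, 18, 16, 17, 19, 20, 8, 21, 9] (by decide +kernel)
def tc131971 : El K := El.mul tc131640 tc131955 [9, 20, 21, 15, 5, 1, 6, 8, 0, 10, 22, 19, 23, 14, 17, 3, 11, 13, 18, 16, 2, 4, 7, 12] (by decide +kernel)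
def tc131972 : El K := El.mul tc131966 tc131954 [23, 15, 5, 20, 21, 16, 10, 22, 17, 18, 8, 4, 9, 7, 1, 11, 12, 3, 2, 0, 6, 14, 19, 13] (by decide +kernel)
def tc131973 : El K := El.mul tc131971 tc131964 [14, 19, 17, 6, 11, 0, 21, 13, 1, 3, 16, 5, 18, 8, 23, 2, 9, 20, 22, 15, 12, 4, 7, 10] (by decide +kernel)
def tc131974 : El K := El.mul tc131967 tc131170 [22, 8, 9, 20, 21, 11, 10, 5, 19, 17, 15, 1, 23, 2, 4, 13, 7, 3, 0, 12, 18, 16, 6, 14] (by decide +kernel)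
def tc131975 : El K := El.mul tc131640 tc131965 [8, 23, 15, 20, 21, 4, 19, 9, 0, 12, 5, 6, 22, 13, 11, 3, 14, 16, 17, 18, 10, 7, 1, 2] (by decide +kernel)
def tc131976 : El K := El.mul tc131972 tc131974 [19, 17, 18, 6, 14, 4, 8, 16, 0, 3, 11, 15, 13, 5, 21, 7, 22, 20, 23, 9, 2, 12, 10, 1] (by decide +kernel)
def tc131977 : El K := El.mul tc131971 tc131972 [12, 3, 1, 2, 4, 11, 22, 7, 13, 18, 0, 5, 10, 8, 20, 19, 23, 15, 21, 9, 6, 17, 16, 14] (by decide +kernel)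
def tc131978 : El K := El.mul tc131977 tc131960 [11, 14, 17, 13, 16, 7, 9, 18, 12, 3, 6, 21, 19, 8, 15, 10, 22, 5, 23, 20, 4, 0, 2, 1] (by decide +kernel)
def tc131979 : El K := El.mul tc131963 tc131971 [11, 13, 6, 16, 19, 7, 8, 14, 4, 2, 18, 21, 17, 22, 20, 3, 23, 15, 5, 9, 10, 1, 0, 12] (by decide +kernel)
def tc131980 : El K := El.mul tc131973 tc131978 [5, 23, 20, 8, 9, 13, 3, 22, 18, 6, 21, 4, 15, 1, 2, 16, 7, 0, 10, 12, 11, 14, 17, 19] (by decide +kernel)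
def tc131981 : El K := El.mul tc131973 tc131977 [18, 6, 19, 17, 11, 5, 7, 13, 8, 22, 14, 0, 16, 1, 12, 15, 10, 2, 4, 3, 21, 20, 9, 23] (by decide +kernel)
def tc131982 : El K := El.mul tc131954 tc131981 [6, 16, 11, 14, 17, 12, 20, 18, 4, 10, 19, 9, 13, 15, 22, 7, 5, 21, 23, 8, 0, 1, 2, 3] (by decide +kernel)
def tc131983 : El K := El.mul tc131977 tc131975 [13, 14, 19, 6, 17, 4, 9, 18, 12, 10, 11, 22, 16, 8, 5, 2, 20, 23, 15, 21, 0, 7, 3, 1] (by decide +kernel)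
def tc131984 : El K := El.mul tc131979 tc131983 [22, 20, 9, 8, 15, 19, 2, 5, 17, 18, 21, 0, 23, 4, 7, 6, 10, 12, 3, 1, 11, 14, 16, 13] (by decide +kernel)
def tc131986 : El K := El.mul tc131968 tc131982 [12, 2, 0, 1, 3, 19, 23, 10, 16, 11, 7, 8, 4, 15, 20, 14, 9, 22, 5, 21, 6, 13, 18, 17] (by decide +kernel)
def tc131987 : El K := El.mul tc131640 tc131983 [17, 19, 6, 11, 14, 15, 3, 16, 5, 9, 13, 12, 18, 10, 7, 8, 0, 4, 2, 1, 21, 22, 20, 23] (by decide +kernel)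
def tc131988 : El K := El.mul tc131982 tc131983 [15, 22, 8, 20, 21, 17, 10, 23, 13, 19, 9, 2, 5, 4, 12, 11, 0, 3, 7, 1, 6, 18, 14, 16] (by decide +kernel)
def tc131989 : El K := El.mul tc131982 tc131326 [20, 9, 23, 22, 8, 11, 4, 5, 13, 6, 15, 2, 21, 10, 1, 17, 3, 12, 7, 0, 18, 14, 19, 16] (by decide +kernel)
def tc131990 : El K := El.mul tc131980 tc131970 [5, 20, 21, 8, 22, 13, 3, 15, 17, 16, 23, 2, 9, 4, 1, 19, 10, 7, 0, 12, 11, 18, 14, 6] (by decide +kernel)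
def tc131991 : El K := El.mul tc131981 tc131975 [8, 23, 15, 21, 20, 11, 3, 22, 18, 16, 5, 7, 9, 1, 0, 17, 12, 10, 2, 4, 14, 13, 6, 19] (by decide +kernel)
def tc131992 : El K := El.mul tc131986 tc131989 [6, 11, 17, 18, 16, 8, 3, 19, 15, 23, 14, 0, 13, 7, 2, 22, 1, 4, 10, 12, 5, 20, 21, 9] (by decide +kernel)
def tc131993 : El K := El.mul tc131992 tc131989 [5, 23, 9, 21, 15, 0, 16, 8, 7, 3, 22, 17, 20, 14, 11, 4, 18, 13, 19, 6, 10, 2, 12, 1] (by decide +kernel)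
def tc131994 : El K := El.mul tc131988 tc131963 [21, 23, 9, 20, 22, 1, 13, 15, 12, 2, 8, 16, 5, 11, 14, 0, 19, 6, 17, 18, 4, 10, 7, 3] (by decide +kernel)
def tc131995 : El K := El.mul tc131993 tc131990 [0, 10, 2, 7, 12, 14, 21, 4, 13, 18, 1, 9, 3, 15, 23, 6, 22, 8, 5, 20, 17, 19, 11, 16] (by decide +kernel)
def tc131996 : El K := El.mul tc131982 tc131995 [6, 19, 11, 18, 13, 22, 1, 17, 15, 23, 16, 10, 14, 7, 3, 20, 2, 4, 12, 0, 21, 8, 9, 5] (by decide +kernel)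
def tc131997 : El K := El.mul tc131976 tc131987 [20, 9, 8, 15, 21, 7, 6, 22, 4, 3, 5, 13, 23, 11, 16, 0, 19, 14, 18, 17, 12, 10, 2, 1] (by decide +kernel)
def tc131998 : El K := El.mul tc131970 tc131996 [6, 19, 14, 17, 11, 21, 2, 16, 23, 9, 18, 1, 13, 12, 3, 20, 10, 7, 4, 0, 8, 22, 15, 5] (by decide +kernel)
def tc131999 : El K := El.mul tc131981 tc131997 [21, 22, 8, 15, 20, 13, 7, 9, 11, 17, 5, 1, 23, 0, 10, 18, 3, 12, 4, 2, 16, 14, 19, 6] (by decide +kernel)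
def tc132000 : El K := El.mul tc131988 tc131994 [18, 16, 19, 6, 14, 22, 4, 11, 5, 8, 13, 0, 17, 2, 12, 15, 1, 10, 3, 7, 21, 9, 23, 20] (by decide +kernel)
def tc132003 : El K := El.mul tc131988 tc131984 [14, 6, 19, 13, 11, 1, 8, 17, 3, 7, 18, 15, 16, 21, 23, 10, 9, 5, 20, 22, 2, 12, 0, 4] (by decide +kernel)
def tc132004 : El K := El.mul tc132000 tc131992 [4, 0, 10, 3, 1, 5, 6, 7, 15, 20, 12, 18, 2, 11, 19, 23, 16, 14, 13, 17, 22, 21, 9, 8] (by decide +kernel)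
def tc132005 : El K := El.mul tc131992 tc131988 [22, 21, 15, 5, 20, 4, 14, 9, 7, 12, 23, 17, 8, 16, 13, 0, 6, 18, 19, 11, 3, 10, 2, 1] (by decide +kernel)
def tc132014 : El K := El.mul tc131165 tc131156 [21, 23, 15, 5, 9, 4, 6, 8, 2, 1, 22, 17, 20, 13, 11, 0, 18, 14, 19, 16, 12, 7, 10, 3] (by decide +kernel)
def tc132015 : El K := El.mul tc131162 tc131160 [13, 16, 14, 19, 11, 21, 10, 17, 15, 20, 6, 7, 18, 2, 3, 22, 12, 0, 4, 1, 8, 9, 5, 23] (by decide +kernel)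
def tc132016 : El K := El.mul tc131991 tc131999 [13, 6, 18, 17, 14, 1, 22, 16, 7, 10, 11, 23, 19, 8, 5, 2, 21, 9, 20, 15, 12, 0, 4, 3] (by decide +kernel)
def tc132017 : El K := El.inv tc132015 [17, 19, 13, 14, 18, 22, 10, 11, 20, 21, 6, 4, 16, 0, 2, 8, 1, 7, 12, 3, 9, 5, 15, 23] (by decide +kernel)
def tc132018 : El K := El.mul tc132017 tc132016 [0, 10, 12, 7, 2, 19, 15, 1, 11, 6, 4, 23, 3, 20, 22, 13, 5, 21, 9, 8, 16, 17, 18, 14] (by decide +kernel)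
def tc132019 : El K := El.mul tc132018 tc131143 [19, 6, 16, 17, 14, 4, 22, 18, 2, 3, 11, 23, 13, 21, 5, 7, 8, 9, 15, 20, 0, 12, 1, 10] (by decide +kernel)
def tc132020 : El K := El.mul tc132018 tc132018 [0, 4, 3, 1, 12, 8, 13, 10, 23, 15, 2, 14, 7, 16, 18, 20, 19, 17, 6, 11, 5, 21, 9, 22] (by decide +kernel)
def tc132025 : El K := El.mul tc132004 tc131999 [21, 9, 15, 23, 22, 11, 7, 20, 18, 14, 5, 0, 8, 4, 12, 13, 3, 2, 1, 10, 16, 19, 17, 6] (by decide +kernel)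
def tc132026 : El K := El.inv tc132014 [15, 9, 8, 23, 5, 3, 6, 21, 7, 4, 22, 14, 20, 13, 17, 2, 19, 11, 16, 18, 12, 0, 10, 1] (by decide +kernel)
def tc132027 : El K := El.mul tc132026 tc132025 [0, 4, 2, 1, 10, 14, 21, 12, 16, 17, 3, 15, 7, 5, 20, 13, 23, 8, 9, 22, 19, 18, 11, 6] (by decide +kernel)
def tc132028 : El K := El.inv tc132020 [0, 3, 10, 2, 1, 20, 18, 12, 5, 22, 7, 19, 4, 6, 11, 9, 13, 17, 14, 16, 15, 21, 23, 8] (by decide +kernel)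
def tc132029 : El K := El.mul tc132028 tc132027 [0, 1, 10, 3, 7, 11, 21, 4, 13, 17, 2, 9, 12, 20, 15, 6, 8, 5, 22, 23, 16, 14, 19, 18] (by decide +kernel)
def tc132032 : El K := El.mul tc132029 tc132020 [0, 7, 3, 1, 12, 13, 20, 2, 18, 6, 10, 15, 4, 8, 22, 16, 23, 5, 21, 9, 11, 14, 17, 19] (by decide +kernel)
def tc132035 : El K := El.mul tc132016 tc132003 [5, 22, 15, 8, 23, 6, 7, 9, 17, 16, 20, 2, 21, 0, 3, 11, 10, 1, 12, 4, 18, 19, 13, 14] (by decide +kernel)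
def tc132036 : El K := El.inv tc131143 [20, 23, 21, 15, 8, 0, 18, 22, 10, 1, 5, 11, 9, 19, 6, 12, 14, 13, 17, 16, 2, 3, 7, 4] (by decide +kernel)
def tc132037 : El K := El.mul tc132036 tc132035 [0, 7, 12, 10, 4, 18, 22, 1, 13, 14, 2, 21, 3, 20, 15, 11, 5, 23, 9, 8, 17, 16, 19, 6] (by decide +kernel)
def tc132038 : El K := El.inv tc132032 [0, 3, 7, 2, 12, 17, 9, 1, 13, 19, 10, 20, 4, 5, 21, 11, 15, 22, 8, 23, 6, 18, 14, 16] (by decide +kernel)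
def tc132039 : El K := El.mul tc132038 tc132037 [0, 1, 4, 10, 12, 8, 14, 3, 5, 21, 7, 18, 2, 6, 11, 20, 17, 16, 19, 13, 22, 15, 23, 9] (by decide +kernel)
def tc132040 : El K := El.mul tc132039 tc132018 [0, 7, 2, 3, 4, 13, 20, 1, 18, 14, 12, 9, 10, 22, 23, 6, 8, 15, 21, 5, 17, 16, 19, 11] (by decide +kernel)
def tc132042 : El K := El.mul tc132039 tc132040 [0, 3, 4, 10, 12, 6, 22, 1, 19, 11, 2, 21, 7, 23, 9, 14, 5, 20, 15, 8, 16, 17, 13, 18] (by decide +kernel)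
def tc132043 : El K := El.mul tc132039 tc132029 [0, 1, 7, 10, 3, 18, 15, 12, 6, 16, 4, 21, 2, 22, 20, 14, 5, 8, 23, 9, 17, 11, 13, 19] (by decide +kernel)
def tc132044 : El K := El.mul tc132039 tc132039 [0, 1, 12, 7, 2, 5, 11, 10, 8, 15, 3, 19, 4, 14, 18, 22, 16, 17, 13, 6, 23, 20, 9, 21] (by decide +kernel)
def tc132046 : El K := El.mul tc132005 tc132035 [4, 2, 0, 7, 1, 14, 9, 12, 18, 6, 3, 15, 10, 22, 5, 17, 23, 21, 8, 20, 19, 11, 16, 13] (by decide +kernel)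
def tc132047 : El K := El.inv tc131758 [2, 4, 1, 10, 0, 5, 6, 3, 20, 9, 12, 13, 7, 17, 14, 22, 11, 16, 19, 18, 8, 23, 21, 15] (by decide +kernel)
def tc132048 : El K := El.mul tc131998 tc131981 [4, 2, 0, 7, 1, 21, 16, 12, 23, 15, 3, 6, 10, 19, 13, 20, 18, 14, 11, 17, 22, 8, 9, 5] (by decide +kernel)
def tc132049 : El K := El.mul tc132047 tc132048 [0, 1, 2, 3, 4, 23, 11, 7, 15, 22, 10, 6, 12, 18, 17, 8, 19, 14, 13, 16, 21, 20, 9, 5] (by decide +kernel)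
def tc132051 : El K := El.mul tc132016 tc131999 [0, 4, 7, 2, 12, 8, 16, 10, 23, 9, 1, 6, 3, 13, 11, 20, 17, 19, 14, 18, 21, 5, 15, 22] (by decide +kernel)
def tc132052 : El K := El.mul tc132028 tc132051 [0, 1, 12, 10, 4, 5, 13, 7, 8, 22, 3, 18, 2, 6, 19, 15, 17, 16, 11, 14, 21, 20, 9, 23] (by decide +kernel)
def tc132053 : El K := El.inv tc132044 [0, 1, 4, 10, 12, 5, 19, 3, 8, 22, 7, 6, 2, 18, 13, 9, 16, 17, 14, 11, 21, 23, 15, 20] (by decide +kernel)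
def tc132054 : El K := El.mul tc132053 tc132052 [0, 1, 2, 7, 12, 5, 18, 3, 8, 15, 10, 14, 4, 19, 11, 9, 17, 16, 6, 13, 23, 21, 22, 20] (by decide +kernel)
def tc132055 : El K := El.mul tc131987 tc132046 [14, 6, 17, 16, 19, 7, 9, 18, 2, 3, 11, 8, 13, 20, 15, 4, 23, 22, 5, 21, 1, 12, 0, 10] (by decide +kernel)
def tc132059 : El K := El.inv tc132029 [0, 1, 10, 3, 7, 17, 15, 4, 16, 11, 2, 5, 12, 8, 21, 14, 20, 9, 23, 22, 13, 6, 18, 19] (by decide +kernel)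
def tc132060 : El K := El.mul tc131988 tc131987 [3, 1, 10, 2, 12, 11, 20, 0, 17, 19, 4, 5, 7, 9, 23, 13, 15, 21, 8, 22, 18, 14, 6, 16] (by decide +kernel)
def tc132061 : El K := El.inv tc131160 [7, 10, 2, 0, 12, 22, 14, 1, 15, 8, 4, 16, 3, 11, 13, 5, 19, 6, 18, 17, 9, 21, 23, 20] (by decide +kernel)
def tc132062 : El K := El.mul tc132061 tc132060 [0, 10, 4, 2, 3, 16, 9, 7, 6, 17, 12, 22, 1, 8, 20, 11, 5, 21, 15, 23, 18, 13, 14, 19] (by decide +kernel)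
def tc132063 : El K := El.inv tc132018 [0, 7, 4, 12, 10, 16, 9, 3, 19, 18, 1, 8, 2, 15, 23, 6, 20, 21, 22, 5, 13, 17, 14, 11] (by decide +kernel)
def tc132064 : El K := El.mul tc132063 tc132062 [0, 1, 10, 4, 12, 20, 18, 3, 9, 21, 2, 14, 7, 19, 13, 8, 16, 17, 6, 11, 22, 15, 23, 5] (by decide +kernel)
def tc132065 : El K := El.mul tc132059 tc132064 [0, 1, 2, 7, 12, 13, 23, 3, 11, 6, 10, 21, 4, 22, 8, 16, 20, 9, 15, 5, 18, 14, 19, 17] (by decide +kernel)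
def tc132066 : El K := El.mul tc132054 tc132065 [0, 1, 2, 3, 4, 19, 20, 7, 14, 18, 10, 21, 12, 22, 8, 17, 23, 15, 9, 5, 6, 11, 13, 16] (by decide +kernel)
def tc132070 : El K := El.mul tc132055 tc132048 [19, 17, 14, 18, 6, 12, 23, 13, 10, 4, 16, 9, 11, 21, 20, 1, 5, 15, 8, 22, 0, 2, 3, 7] (by decide +kernel)
def tc132071 : El K := El.inv tc132019 [20, 22, 8, 9, 5, 14, 1, 15, 16, 17, 23, 10, 21, 12, 4, 18, 2, 3, 7, 0, 19, 13, 6, 11] (by decide +kernel)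
def tc132072 : El K := El.mul tc132071 tc132070 [0, 3, 4, 7, 1, 21, 11, 12, 23, 5, 2, 17, 10, 13, 19, 22, 14, 18, 16, 6, 20, 8, 9, 15] (by decide +kernel)
def tc132073 : El K := El.inv tc132042 [0, 7, 10, 1, 2, 16, 5, 12, 19, 14, 3, 9, 4, 22, 15, 18, 20, 21, 23, 8, 17, 11, 6, 13] (by decide +kernel)
def tc132074 : El K := El.mul tc132073 tc132072 [0, 1, 2, 12, 7, 11, 9, 4, 13, 16, 10, 21, 3, 22, 8, 6, 15, 23, 20, 5, 17, 19, 14, 18] (by decide +kernel)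
def tc132076 : El K := El.mul tc132051 tc131970 [0, 7, 1, 2, 10, 8, 16, 3, 15, 20, 4, 11, 12, 6, 13, 22, 14, 17, 19, 18, 21, 23, 5, 9] (by decide +kernel)
def tc132077 : El K := El.inv tc132040 [0, 7, 2, 3, 4, 19, 15, 1, 16, 11, 12, 23, 10, 5, 9, 17, 21, 20, 8, 22, 6, 18, 13, 14] (by decide +kernel)
def tc132078 : El K := El.mul tc132077 tc132076 [0, 1, 7, 2, 12, 16, 21, 3, 17, 6, 4, 23, 10, 15, 5, 13, 9, 20, 22, 8, 18, 14, 19, 11] (by decide +kernel)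
def tc132079 : El K := El.inv tc132043 [0, 1, 12, 4, 10, 16, 8, 2, 17, 19, 3, 21, 7, 22, 15, 6, 9, 20, 5, 23, 14, 11, 13, 18] (by decide +kernel)
def tc132080 : El K := El.mul tc132079 tc132078 [0, 1, 2, 12, 7, 9, 11, 4, 20, 8, 10, 18, 3, 6, 16, 22, 19, 14, 13, 17, 5, 15, 23, 21] (by decide +kernel)
def tc132081 : El K := El.inv tc132074 [0, 1, 2, 12, 7, 19, 15, 4, 14, 6, 10, 5, 3, 8, 22, 16, 9, 20, 23, 21, 18, 11, 13, 17] (by decide +kernel)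
def tc132082 : El K := El.mul tc132081 tc132080 [0, 1, 2, 3, 4, 6, 5, 7, 18, 14, 10, 23, 12, 15, 9, 13, 21, 22, 8, 20, 19, 16, 17, 11] (by decide +kernel)

/-- generator 0 -/
def et0 : El K := tc131162
/-- generator 1 -/
def et1 : El K := tc131175
/-- generator 2 -/
def et2 : El K := tc132018
/-- generator 3 -/
def et3 : El K := tc132029
/-- generator 4 -/
def et4 : El K := tc132039
/-- generator 5 -/
def et5 : El K := tc132054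
/-- generator 6 -/
def et6 : El K := tc132074
/-- generator 7 -/
def et7 : El K := tc132049
/-- generator 8 -/
def et8 : El K := tc132066
/-- generator 9 -/
def et9 : El K := tc132082
/-- generator 10 -/
def et10 : El K := tc131454

/-- generators for level 0 -/
def gt0 : List (El K) := [et0, et1]
/-- generators for level 1 -/
def gt1 : List (El K) := [et2]
/-- generators for level 2 -/
def gt2 : List (El K) := [et3, et4]
/-- generators for level 3 -/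
def gt3 : List (El K) := [et5, et6]
/-- generators for level 4 -/
def gt4 : List (El K) := [et7, et8, et9, et10]

end

end Cfsg.Agent.Lib.Helper1.TrioStab
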