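import Mathlib
import Cfsg.Agent.Lib.Helper1.TrioStab1

/-!
# The stabilizer of the standard trio acts by affine maps with a common linear part
-/

set_option autoImplicit false

namespace Cfsg.Agent.Lib.Helper1.TrioStab

open Cfsg Cfsg.Agent.Lib.Helper1 Cfsg.Agent.Lib.Helper1.M24
open scoped Pointwise

noncomputable section

/-- vectors -/
abbrev V3 := Fin 3 → ZMod 2

/-- the points attached to the vectors, octad by octad -/
def bTbl : List ℕ := [0, 3, 2, 4, 1, 12, 10, 7, 6, 19, 17, 13, 18, 14, 16, 11, 5, 20, 22, 15, 8, 9, 21,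
  23]

/-- the index of the point attached to a vector -/
def bIdx (i : Fin 3) (a b c : ZMod 2) : ℕ := tg bTbl (8 * i.val + 4 * a.val + 2 * b.val + c.val)

/-- the point attached to a vector -/
def β (i : Fin 3) (v : V3) : GolayPt := gUnidx (bIdx i (v 0) (v 1) (v 2))

theorem bIdx_lt : ∀ (i : Fin 3) (a b c : ZMod 2), bIdx i a b c < 24 := by decide

theorem bIdx_inj : ∀ (i : Fin 3) (a b c : ZMod 2) (i' : Fin 3) (a' b' c' : ZMod 2),
    bIdx i a b c = bIdx i' a' b' c' → i = i' ∧ a = a' ∧ b = b' ∧ c = c' := by decide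

theorem bIdx_surj : ∀ q < 24, ∃ (i : Fin 3) (a b c : ZMod 2), bIdx i a b c = q := by decide

theorem β_inj {i j : Fin 3} {v w : V3} (h : β i v = β j w) : i = j ∧ v = w := by
  have h1 := gUnidx_inj (bIdx_lt _ _ _ _) (bIdx_lt _ _ _ _) h
  obtain ⟨h0, ha, hb, hc⟩ := bIdx_inj _ _ _ _ _ _ _ _ h1
  refine ⟨h0, ?_⟩
  funext k
  fin_cases k
  · exact ha
  · exact hb
  · exact hc

theorem β_surj (p : GolayPt) : ∃ (i : Fin 3) (v : V3), β i v = p := by
  obtain ⟨i, a, b, c, h⟩ := bIdx_surj (gIdx p) (gIdx_lt p)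
  refine ⟨i, ![a, b, c], ?_⟩
  unfold β
  show gUnidx (bIdx i a b c) = p
  rw [h, gUnidx_gIdx]

/-- the table acts on the points as the affine maps act on the vectors -/
def linOK (t : List ℕ) (A : Matrix (Fin 3) (Fin 3) (ZMod 2)) (π : Fin 3 → Fin 3)
    (c : Fin 3 → V3) : Prop :=
  ∀ (i : Fin 3) (a b d : ZMod 2), tg t (bIdx i a b d) =
    bIdx (π i) (A 0 0 * a + A 0 1 * b + A 0 2 * d + c i 0)
      (A 1 0 * a + A 1 1 * b + A 1 2 * d + c i 1) (A 2 0 * a + A 2 1 * b + A 2 2 * d + c i 2)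

instance (t : List ℕ) (A : Matrix (Fin 3) (Fin 3) (ZMod 2)) (π : Fin 3 → Fin 3)
    (c : Fin 3 → V3) : Decidable (linOK t A π c) := by
  unfold linOK
  infer_instance

theorem lin_of_table {H : Subgroup P24} (e : El H) (A : Matrix (Fin 3) (Fin 3) (ZMod 2))
    (π : Fin 3 → Fin 3) (c : Fin 3 → V3) (h : linOK e.t A π c) (i : Fin 3) (v : V3) :
    e.σ (β i v) = β (π i) (A.mulVec v + c i) := by
  have h1 : gIdx (e.σ (β i v)) = gIdx (β (π i) (A.mulVec v + c i)) := by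
    rw [e.apply_idx]
    unfold β
    rw [gIdx_gUnidx _ (bIdx_lt _ _ _ _), gIdx_gUnidx _ (bIdx_lt _ _ _ _), h]
    simp [Matrix.mulVec, dotProduct, Fin.sum_univ_three]
  rw [← gUnidx_gIdx (e.σ (β i v)), h1, gUnidx_gIdx]

/-- the permutations acting by affine maps with a common linear part -/
def LinSub : Subgroup P24 where
  carrier := {g | ∃ (A : GL (Fin 3) (ZMod 2)) (π : Equiv.Perm (Fin 3)) (c : Fin 3 → V3), ∀ i v,
    g (β i v) = β (π i) ((A : Matrix (Fin 3) (Fin 3) (ZMod 2)).mulVec v + c i)}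
  one_mem' := ⟨1, 1, 0, fun i v => by simp⟩
  mul_mem' := by
    rintro g h ⟨A, π, c, hA⟩ ⟨B, ρ, c', hB⟩
    refine ⟨A * B, π * ρ,
      fun i => (A : Matrix (Fin 3) (Fin 3) (ZMod 2)).mulVec (c' i) + c (ρ i), fun i v => ?_⟩
    rw [Equiv.Perm.mul_apply, hB, hA, Matrix.mulVec_add, Matrix.mulVec_mulVec, add_assoc]
    rfl
  inv_mem' := by
    rintro g ⟨A, π, c, hA⟩
    refine ⟨A⁻¹, π⁻¹, fun j => -((A⁻¹ : GL (Fin 3) (ZMod 2)) :
      Matrix (Fin 3) (Fin 3) (ZMod 2)).mulVec (c (π⁻¹ j)), fun j w => ?_⟩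
    rw [Equiv.Perm.inv_eq_iff_eq, hA, Matrix.mulVec_add, Matrix.mulVec_neg, Matrix.mulVec_mulVec,
      Matrix.mulVec_mulVec, ← Matrix.GeneralLinearGroup.coe_mul, mul_inv_cancel]
    simp

/-- the group -/
abbrev HL : Subgroup P24 := HTr ⊓ LinSub

theorem HL_le : HL ≤ HTr := inf_le_left

theorem mem_HL_of_tables (e : El K) (A B : Matrix (Fin 3) (Fin 3) (ZMod 2)) (π ρ : Fin 3 → Fin 3)
    (c : Fin 3 → V3) (hAB : A * B = 1) (hBA : B * A = 1) (hl : ∀ x, ρ (π x) = x)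
    (hr : ∀ x, π (ρ x) = x) (hq : fixL e.t tr0 = true) (hlin : linOK e.t A π c) : e.σ ∈ HL :=
  ⟨⟨K_le e.mem, smul_famL_of_fixL e tr0 hq⟩,
    ⟨⟨A, B, hAB, hBA⟩, ⟨π, ρ, hl, hr⟩, c, lin_of_table e A π c hlin⟩⟩

theorem et0_mem : et0.σ ∈ HL :=
  mem_HL_of_tables et0 !![0, 1, 0; 1, 1, 0; 0, 1, 1] !![1, 1, 0; 1, 0, 0; 1, 0, 1] ![1, 0, 2] ![1, 0, 2]
    ![![0, 1, 0], ![0, 0, 1], ![0, 0, 0]]
    (by decide) (by decide) (by decide) (by decide) (by decide +kernel) (by decide +kernel)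
theorem et1_mem : et1.σ ∈ HL :=
  mem_HL_of_tables et1 !![1, 1, 1; 1, 0, 0; 0, 0, 1] !![0, 1, 0; 1, 1, 1; 0, 0, 1] ![2, 0, 1] ![1, 2, 0]
    ![![0, 1, 0], ![1, 1, 0], ![1, 1, 0]]
    (by decide) (by decide) (by decide) (by decide) (by decide +kernel) (by decide +kernel)
theorem et2_mem : et2.σ ∈ HL :=
  mem_HL_of_tables et2 !![1, 1, 1; 1, 0, 1; 0, 1, 1] !![1, 0, 1; 1, 1, 0; 1, 1, 1] ![0, 2, 1] ![0, 2, 1]
    ![![0, 0, 0], ![0, 1, 1], ![0, 0, 1]]
    (by decide) (by decide) (by decide) (by decide) (by decide +kernel) (by decide +kernel)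
theorem et3_mem : et3.σ ∈ HL :=
  mem_HL_of_tables et3 !![1, 1, 0; 0, 1, 0; 0, 0, 1] !![1, 1, 0; 0, 1, 0; 0, 0, 1] ![0, 2, 1] ![0, 2, 1]
    ![![0, 0, 0], ![1, 1, 0], ![1, 1, 1]]
    (by decide) (by decide) (by decide) (by decide) (by decide +kernel) (by decide +kernel)
theorem et4_mem : et4.σ ∈ HL :=
  mem_HL_of_tables et4 !![1, 0, 1; 0, 1, 1; 0, 1, 0] !![1, 1, 1; 0, 0, 1; 0, 1, 1] ![0, 1, 2] ![0, 1, 2]
    ![![0, 0, 0], ![1, 0, 1], ![1, 0, 0]]
    (by decide) (by decide) (by decide) (by decide) (by decide +kernel) (by decide +kernel)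
theorem et5_mem : et5.σ ∈ HL :=
  mem_HL_of_tables et5 !![1, 0, 1; 0, 1, 1; 0, 0, 1] !![1, 0, 1; 0, 1, 1; 0, 0, 1] ![0, 1, 2] ![0, 1, 2]
    ![![0, 0, 0], ![1, 0, 0], ![0, 0, 0]]
    (by decide) (by decide) (by decide) (by decide) (by decide +kernel) (by decide +kernel)
theorem et6_mem : et6.σ ∈ HL :=
  mem_HL_of_tables et6 !![1, 0, 1; 0, 1, 0; 0, 0, 1] !![1, 0, 1; 0, 1, 0; 0, 0, 1] ![0, 2, 1] ![0, 2, 1]
    ![![0, 0, 0], ![1, 0, 1], ![1, 1, 1]]
    (by decide) (by decide) (by decide) (by decide) (by decide +kernel) (by decide +kernel)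
theorem et7_mem : et7.σ ∈ HL :=
  mem_HL_of_tables et7 !![1, 0, 0; 0, 1, 0; 0, 0, 1] !![1, 0, 0; 0, 1, 0; 0, 0, 1] ![0, 1, 2] ![0, 1, 2]
    ![![0, 0, 0], ![1, 1, 1], ![1, 1, 1]]
    (by decide) (by decide) (by decide) (by decide) (by decide +kernel) (by decide +kernel)
theorem et8_mem : et8.σ ∈ HL :=
  mem_HL_of_tables et8 !![1, 0, 0; 0, 1, 0; 0, 0, 1] !![1, 0, 0; 0, 1, 0; 0, 0, 1] ![0, 2, 1] ![0, 2, 1]
    ![![0, 0, 0], ![0, 0, 1], ![0, 0, 1]]
    (by decide) (by decide) (by decide) (by decide) (by decide +kernel) (by decide +kernel)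
theorem et9_mem : et9.σ ∈ HL :=
  mem_HL_of_tables et9 !![1, 0, 0; 0, 1, 0; 0, 0, 1] !![1, 0, 0; 0, 1, 0; 0, 0, 1] ![0, 2, 1] ![0, 2, 1]
    ![![0, 0, 0], ![0, 0, 0], ![0, 0, 0]]
    (by decide) (by decide) (by decide) (by decide) (by decide +kernel) (by decide +kernel)
theorem et10_mem : et10.σ ∈ HL :=
  mem_HL_of_tables et10 !![1, 0, 0; 0, 1, 0; 0, 0, 1] !![1, 0, 0; 0, 1, 0; 0, 0, 1] ![0, 2, 1] ![0, 2, 1]
    ![![0, 0, 0], ![1, 0, 1], ![1, 0, 1]]
    (by decide) (by decide) (by decide) (by decide) (by decide +kernel) (by decide +kernel)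

theorem gt0_mem : ∀ e ∈ gt0, e.σ ∈ HL := by
  intro e he
  simp only [gt0, List.mem_cons, List.not_mem_nil, or_false] at he
  rcases he with rfl | rfl
  · exact et0_mem
  · exact et1_mem

theorem gt1_mem : ∀ e ∈ gt1, e.σ ∈ HL := by
  intro e he
  simp only [gt1, List.mem_cons, List.not_mem_nil, or_false] at he
  rcases he with rfl
  exact et2_mem

theorem gt2_mem : ∀ e ∈ gt2, e.σ ∈ HL := by
  intro e he
  simp only [gt2, List.mem_cons, List.not_mem_nil, or_false] at he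
  rcases he with rfl | rfl
  · exact et3_mem
  · exact et4_mem

theorem gt3_mem : ∀ e ∈ gt3, e.σ ∈ HL := by
  intro e he
  simp only [gt3, List.mem_cons, List.not_mem_nil, or_false] at he
  rcases he with rfl | rfl
  · exact et5_mem
  · exact et6_mem

theorem gt4_mem : ∀ e ∈ gt4, e.σ ∈ HL := by
  intro e he
  simp only [gt4, List.mem_cons, List.not_mem_nil, or_false] at he
  rcases he with rfl | rfl | rfl | rfl
  · exact et7_mem
  · exact et8_mem
  · exact et9_mem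
  · exact et10_mem

/-! ### the chain -/

theorem level_card_ge (H : Subgroup P24) (fx : List ℕ) (b : ℕ) (pred : ℕ → Bool)
    (hreach : ∀ q < 24, pred q = true → Reach H fx b q) :
    (Finset.univ.filter (fun p : GolayPt => pred (gIdx p) = true)).card *
      Nat.card ↥(H ⊓ FixL (fx ++ [b])) ≤ Nat.card ↥(H ⊓ FixL fx) := by
  classical
  rw [FixL_append]
  have h := card_eq_orbit_mul (H ⊓ FixL fx) (gUnidx b)
    (Finset.univ.filter (fun q => ∃ g ∈ H ⊓ FixL fx, g (gUnidx b) = q)) (by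
      intro q
      rw [Finset.mem_filter]
      simp)
  rw [h]
  apply Nat.mul_le_mul_right
  apply Finset.card_le_card
  intro q hq
  rw [Finset.mem_filter] at hq ⊢
  obtain ⟨σ, hσ, h1, h2⟩ := hreach (gIdx q) (gIdx_lt q) hq.2
  rw [gUnidx_gIdx] at h2
  exact ⟨Finset.mem_univ _, σ, ⟨hσ, h1⟩, h2⟩

/-- the orbits of the chain -/
def prT (k : ℕ) (q : ℕ) : Bool :=
  match k with
  | 0 => true
  | 1 => decide (q ∈ [1, 2, 3, 4, 7, 10, 12])
  | 2 => decide (q ∈ [2, 3, 4, 7, 10, 12])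
  | 3 => decide (q ∈ [3, 4, 7, 12])
  | _ => decide (q ∈ [5, 6, 8, 9, 11, 13, 14, 15, 16, 17, 18, 19, 20, 21, 22, 23])

theorem rchT0 : ∀ q < 24, prT 0 q = true → Reach HL [] 0 q := by
  intro q hq hp
  refine reach_of_rnds' (by norm_num) gt0 gt0_mem (by decide +kernel) 6 ?_
  revert q
  decide +kernel

theorem rchT1 : ∀ q < 24, prT 1 q = true → Reach HL [0] 1 q := by
  intro q hq hp
  refine reach_of_rnds' (by norm_num) gt1 gt1_mem (by decide +kernel) 6 ?_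
  revert q
  decide +kernel

theorem rchT2 : ∀ q < 24, prT 2 q = true → Reach HL [0, 1] 2 q := by
  intro q hq hp
  refine reach_of_rnds' (by norm_num) gt2 gt2_mem (by decide +kernel) 3 ?_
  revert q
  decide +kernel

theorem rchT3 : ∀ q < 24, prT 3 q = true → Reach HL [0, 1, 2] 3 q := by
  intro q hq hp
  refine reach_of_rnds' (by norm_num) gt3 gt3_mem (by decide +kernel) 2 ?_
  revert q
  decide +kernel

theorem rchT4 : ∀ q < 24, prT 4 q = true → Reach HL [0, 1, 2, 3] 6 q := by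
  intro q hq hp
  refine reach_of_rnds' (by norm_num) gt4 gt4_mem (by decide +kernel) 4 ?_
  revert q
  decide +kernel

theorem card_HL_ge : 64512 ≤ Nat.card ↥HL := by
  have e0 := level_card_ge HL [] 0 (prT 0) rchT0
  have e1 := level_card_ge HL [0] 1 (prT 1) rchT1
  have e2 := level_card_ge HL [0, 1] 2 (prT 2) rchT2
  have e3 := level_card_ge HL [0, 1, 2] 3 (prT 3) rchT3
  have e4 := level_card_ge HL [0, 1, 2, 3] 6 (prT 4) rchT4
  have c0 : (Finset.univ.filter (fun p : GolayPt => prT 0 (gIdx p) = true)).card = 24 := by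
    decide +kernel
  have c1 : (Finset.univ.filter (fun p : GolayPt => prT 1 (gIdx p) = true)).card = 7 := by
    decide +kernel
  have c2 : (Finset.univ.filter (fun p : GolayPt => prT 2 (gIdx p) = true)).card = 6 := by
    decide +kernel
  have c3 : (Finset.univ.filter (fun p : GolayPt => prT 3 (gIdx p) = true)).card = 4 := by
    decide +kernel
  have c4 : (Finset.univ.filter (fun p : GolayPt => prT 4 (gIdx p) = true)).card = 16 := by
    decide +kernel
  have e5 : 1 ≤ Nat.card ↥(HL ⊓ FixL ([0, 1, 2, 3] ++ [6])) := Nat.card_pos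
  rw [FixL_nil] at e0
  rw [c0] at e0
  rw [c1] at e1
  rw [c2] at e2
  rw [c3] at e3
  rw [c4] at e4
  simp only [List.nil_append, List.cons_append] at e0 e1 e2 e3 e4 e5
  nlinarith

end

end Cfsg.Agent.Lib.Helper1.TrioStab
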