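import Mathlib
import Cfsg.Agent.Lib.Helper1.TrioStab2
import Cfsg.Agent.Lib.Helper1.M24D

/-!
# The structure of the stabilizer of a trio
-/

set_option autoImplicit false

namespace Cfsg.Agent.Lib.Helper1.TrioStab

open Cfsg Cfsg.Agent.Lib.Helper1 Cfsg.Agent.Lib.Helper1.M24 MulAction
open scoped Pointwise

noncomputable section

theorem card_stab : Nat.card ↥(stabilizer M24 tr0fam) = 64512 := by
  have h1 := Subgroup.card_mul_index (stabilizer M24 tr0fam)
  rw [MulAction.index_stabilizer, trios_orbit, Helper9.M24.ncard_trios, card_M24] at h1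
  have h2 : (64512 : ℕ) * 3795 = 244823040 := by norm_num
  rw [← h2] at h1
  exact Nat.eq_of_mul_eq_mul_right (by norm_num) h1

/-- the two descriptions of the stabilizer -/
def stabEquiv : ↥(stabilizer M24 tr0fam) ≃ ↥HTr where
  toFun g := ⟨(g : M24), (g : M24).2, mem_stabilizer_iff.mp g.2⟩
  invFun g := ⟨⟨(g : P24), g.2.1⟩, mem_stabilizer_iff.mpr (mem_stabilizer_iff.mp g.2.2)⟩
  left_inv _ := rfl
  right_inv _ := rfl

theorem card_HTr : Nat.card ↥HTr = 64512 := by
  rw [← Nat.card_congr stabEquiv, card_stab]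

theorem HL_eq : HL = HTr := by
  apply Subgroup.eq_of_le_of_card_ge HL_le
  rw [card_HTr]
  exact card_HL_ge

/-! ### the affine description of the elements -/

theorem exists_aff (g : HTr) : ∃ (A : GL (Fin 3) (ZMod 2)) (π : Equiv.Perm (Fin 3))
    (c : Fin 3 → V3), ∀ i v, (g : P24) (β i v) =
      β (π i) ((A : Matrix (Fin 3) (Fin 3) (ZMod 2)).mulVec v + c i) := by
  have h : (g : P24) ∈ HL := by
    rw [HL_eq]
    exact g.2
  exact h.2

/-- the linear part -/
def linP (g : HTr) : GL (Fin 3) (ZMod 2) := Classical.choose (exists_aff g)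

/-- the permutation of the three octads -/
def permP (g : HTr) : Equiv.Perm (Fin 3) := Classical.choose (Classical.choose_spec (exists_aff g))

/-- the translation parts -/
def trP (g : HTr) : Fin 3 → V3 :=
  Classical.choose (Classical.choose_spec (Classical.choose_spec (exists_aff g)))

theorem aff_spec (g : HTr) (i : Fin 3) (v : V3) : (g : P24) (β i v) =
    β (permP g i) ((linP g : Matrix (Fin 3) (Fin 3) (ZMod 2)).mulVec v + trP g i) :=
  Classical.choose_spec (Classical.choose_spec (Classical.choose_spec (exists_aff g))) i v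

theorem aff_unique {A B : GL (Fin 3) (ZMod 2)} {π ρ : Equiv.Perm (Fin 3)} {c c' : Fin 3 → V3}
    (h : ∀ i v, β (π i) ((A : Matrix (Fin 3) (Fin 3) (ZMod 2)).mulVec v + c i) =
      β (ρ i) ((B : Matrix (Fin 3) (Fin 3) (ZMod 2)).mulVec v + c' i)) :
    A = B ∧ π = ρ ∧ c = c' := by
  have hc : c = c' := by
    funext i
    have h0 := (β_inj (h i 0)).2
    simpa using h0
  subst hc
  refine ⟨?_, ?_, rfl⟩
  · apply Matrix.GeneralLinearGroup.ext
    intro i j
    have h1 := (β_inj (h 0 (Pi.single j 1))).2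
    have h2 := add_right_cancel h1
    rw [Matrix.mulVec_single_one, Matrix.mulVec_single_one] at h2
    exact congrFun h2 i
  · ext i
    rw [(β_inj (h i 0)).1]

/-- the homomorphism to the product of the general linear group and the symmetric group -/
def Θ : HTr →* GL (Fin 3) (ZMod 2) × Equiv.Perm (Fin 3) where
  toFun g := (linP g, permP g)
  map_one' := by
    have h := aff_unique (A := linP 1) (B := 1) (π := permP 1) (ρ := 1) (c := trP 1) (c' := 0)
      (fun i v => by
        rw [← aff_spec]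
        simp)
    exact Prod.ext h.1 h.2.1
  map_mul' g h := by
    have h := aff_unique (A := linP (g * h)) (B := linP g * linP h) (π := permP (g * h))
      (ρ := permP g * permP h) (c := trP (g * h))
      (c' := fun i => (linP g : Matrix (Fin 3) (Fin 3) (ZMod 2)).mulVec (trP h i) +
        trP g (permP h i)) (fun i v => by
        rw [← aff_spec, Matrix.GeneralLinearGroup.coe_mul, ← Matrix.mulVec_mulVec, ← add_assoc,
          ← Matrix.mulVec_add, Equiv.Perm.mul_apply, ← aff_spec g, ← aff_spec h]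
        rfl)
    exact Prod.ext h.1 h.2.1

theorem mem_ker_iff (g : HTr) : g ∈ Θ.ker ↔ linP g = 1 ∧ permP g = 1 := by
  rw [MonoidHom.mem_ker]
  exact Prod.ext_iff

theorem ker_spec {g : HTr} (hg : g ∈ Θ.ker) (i : Fin 3) (v : V3) :
    (g : P24) (β i v) = β i (v + trP g i) := by
  obtain ⟨h1, h2⟩ := (mem_ker_iff g).mp hg
  rw [aff_spec, h1, h2]
  simp

theorem ker_sq {g : HTr} (hg : g ∈ Θ.ker) : g * g = 1 := by
  apply Subtype.ext
  apply Equiv.Perm.ext
  intro p
  obtain ⟨i, v, rfl⟩ := β_surj p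
  show (g : P24) ((g : P24) (β i v)) = β i v
  rw [ker_spec hg, ker_spec hg, add_assoc]
  have : trP g i + trP g i = 0 := by
    funext k
    exact CharTwo.add_self_eq_zero _
  rw [this, add_zero]

/-- the indices of the points of the first two octads -/
def fx16 : List ℕ := [0, 1, 2, 3, 4, 6, 7, 10, 11, 12, 13, 14, 16, 17, 18, 19]

theorem fx16_sub : ∀ j ∈ fx16, ∃ (i : Fin 3) (a b c : ZMod 2), (i = 0 ∨ i = 1) ∧
    bIdx i a b c = j := by decide

theorem two_octads_faithful {g : P24} (hg : g ∈ M24)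
    (hfix : ∀ j ∈ fx16, g (gUnidx j) = gUnidx j) : g = 1 := by
  have h0 : ∀ j ∈ fx16, j < 24 ∧ g (gUnidx j) = gUnidx j := by
    intro j hj
    refine ⟨?_, hfix j hj⟩
    revert j
    decide
  have h1 := fixed_round' hg fx16 (by decide) h0 [2, 14, 258, 516, 1024] (by decide +kernel)
  apply eq_one_of_fixes
  intro i hi
  apply (h1 i _).2
  revert i
  decide +kernel

theorem card_V3 : Nat.card (V3 × V3) = 64 := by
  rw [Nat.card_prod, Nat.card_eq_fintype_card, Fintype.card_fun, ZMod.card, Fintype.card_fin]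
  norm_num

theorem card_ker_le : Nat.card ↥Θ.ker ≤ 64 := by
  rw [← card_V3]
  apply Nat.card_le_card_of_injective (fun g : ↥Θ.ker => (trP (g : HTr) 0, trP (g : HTr) 1))
  intro g g' hgg
  have hgg0 : trP (g : HTr) 0 = trP (g' : HTr) 0 := congrArg Prod.fst hgg
  have hgg1 : trP (g : HTr) 1 = trP (g' : HTr) 1 := congrArg Prod.snd hgg
  have hsame : ∀ (i : Fin 3), (i = 0 ∨ i = 1) → ∀ v,
      ((g : HTr) : P24) (β i v) = ((g' : HTr) : P24) (β i v) := by
    intro i hi v
    rw [ker_spec g.2, ker_spec g'.2]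
    rcases hi with rfl | rfl
    · rw [hgg0]
    · rw [hgg1]
  have h1 : (((g : HTr) : P24))⁻¹ * ((g' : HTr) : P24) = 1 := by
    apply two_octads_faithful (M24.mul_mem (M24.inv_mem (g : HTr).2.1) (g' : HTr).2.1)
    intro j hj
    obtain ⟨i, a, b, c, hi, hab⟩ := fx16_sub j hj
    have h2 := hsame i hi ![a, b, c]
    have h3 : β i ![a, b, c] = gUnidx j := by
      unfold β
      rw [← hab]
      rfl
    rw [h3] at h2
    rw [Equiv.Perm.mul_apply, ← h2]
    simp
  apply Subtype.ext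
  apply Subtype.ext
  exact inv_mul_eq_one.mp h1

theorem card_GL32 : Nat.card (GL (Fin 3) (ZMod 2)) = 168 := by
  rw [Matrix.card_GL_field]
  simp [Fin.prod_univ_three, ZMod.card]

theorem card_target : Nat.card (GL (Fin 3) (ZMod 2) × Equiv.Perm (Fin 3)) = 1008 := by
  rw [Nat.card_prod, card_GL32, Nat.card_eq_fintype_card, Fintype.card_perm, Fintype.card_fin]
  rfl

/-- a group of order 64512 mapping to the product with kernel of order at most 64 -/
theorem of_hom {G : Type*} [Group G] [Finite G]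
    (f : G →* GL (Fin 3) (ZMod 2) × Equiv.Perm (Fin 3))
    (hcard : Nat.card G = 64512) (hker : Nat.card ↥f.ker ≤ 64) (hsq : ∀ x ∈ f.ker, x * x = 1) :
    ∃ (N : Subgroup G) (_ : N.Normal), Nat.card ↥N = 64 ∧ (∀ x ∈ N, x * x = 1) ∧
      Nonempty (G ⧸ N ≃* GL (Fin 3) (ZMod 2) × Equiv.Perm (Fin 3)) := by
  have h1 := Subgroup.card_eq_card_quotient_mul_card_subgroup f.ker
  have h2 : Nat.card (G ⧸ f.ker) = Nat.card ↥f.range :=
    Nat.card_congr (QuotientGroup.quotientKerEquivRange f).toEquiv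
  have h3 : Nat.card ↥f.range ≤ 1008 := by
    rw [← card_target]
    exact Subgroup.card_le_card_group f.range
  rw [hcard, h2] at h1
  have hpos : 0 < Nat.card ↥f.ker := Nat.card_pos
  have h4 : Nat.card ↥f.range = 1008 ∧ Nat.card ↥f.ker = 64 := by
    constructor <;> nlinarith
  have htop : f.range = ⊤ := by
    apply Subgroup.eq_top_of_card_eq
    rw [h4.1, card_target]
  have hsurj : Function.Surjective f := MonoidHom.range_eq_top.mp htop
  exact ⟨f.ker, inferInstance, h4.2, hsq, ⟨QuotientGroup.quotientKerEquivOfSurjective f hsurj⟩⟩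

/-! ### every permutation of the three octads is induced -/

theorem perm_realized (T : Finset (Finset GolayPt)) (hT : T ∈ trios) (e : Equiv.Perm ↥T) :
    ∃ g ∈ stabilizer M24 T, ∀ o : ↥T,
      (g : P24) • (o : Finset GolayPt) = ((e o : ↥T) : Finset GolayPt) := by
  have h3 := hT.1
  obtain ⟨o₁, o₂, o₃, h12, h13, h23, hTeq⟩ := Finset.card_eq_three.mp h3
  have ho₁ : o₁ ∈ T := by rw [hTeq]; simp
  have ho₂ : o₂ ∈ T := by rw [hTeq]; simp
  have ho₃ : o₃ ∈ T := by rw [hTeq]; simp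
  obtain ⟨a, ha⟩ : ∃ a : ↥T, a = e ⟨o₁, ho₁⟩ := ⟨_, rfl⟩
  obtain ⟨b, hb⟩ : ∃ b : ↥T, b = e ⟨o₂, ho₂⟩ := ⟨_, rfl⟩
  obtain ⟨c, hc⟩ : ∃ c : ↥T, c = e ⟨o₃, ho₃⟩ := ⟨_, rfl⟩
  have hab : (a : Finset GolayPt) ≠ b := by
    intro h
    have h' : a = b := Subtype.ext h
    rw [ha, hb] at h'
    exact h12 (congrArg Subtype.val (e.injective h'))
  have hac : (a : Finset GolayPt) ≠ c := by
    intro h
    have h' : a = c := Subtype.ext h
    rw [ha, hc] at h'
    exact h13 (congrArg Subtype.val (e.injective h'))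
  have hbc : (b : Finset GolayPt) ≠ c := by
    intro h
    have h' : b = c := Subtype.ext h
    rw [hb, hc] at h'
    exact h23 (congrArg Subtype.val (e.injective h'))
  have hoct₁ := hT.2.1 o₁ ho₁
  have hoct₂ := hT.2.1 o₂ ho₂
  have hocta := hT.2.1 a a.2
  have hoctb := hT.2.1 b b.2
  have hd12 := hT.2.2 o₁ ho₁ o₂ ho₂ h12
  have hdab := hT.2.2 a a.2 b b.2 hab
  obtain ⟨g₁, hg₁, hg₁a⟩ := octad_trans o₁ a hoct₁ hocta
  have hoct₂' : g₁ • o₂ ∈ octads := smul_mem_octads hg₁ hoct₂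
  have hdis' : Disjoint (a : Finset GolayPt) (g₁ • o₂) := by
    rw [← hg₁a, smul_disjoint_iff]
    exact hd12
  obtain ⟨g₂, hg₂, hg₂a, hg₂b⟩ := octad_orbits a (g₁ • o₂) b hocta hoct₂' hoctb (by
    rw [Finset.disjoint_iff_inter_eq_empty.mp hdis', Finset.disjoint_iff_inter_eq_empty.mp hdab])
  have hgM : g₂ * g₁ ∈ M24 := M24.mul_mem hg₂ hg₁
  have hg1 : (g₂ * g₁) • o₁ = a := by rw [mul_smul, hg₁a, hg₂a]
  have hg2 : (g₂ * g₁) • o₂ = b := by rw [mul_smul, hg₂b]
  have hmem : (g₂ * g₁) • T ∈ trios := Helper9.M24.trios_smul hgM hT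
  have h1 : (a : Finset GolayPt) ∈ (g₂ * g₁) • T := by
    rw [← hg1]
    exact Finset.smul_mem_smul_finset ho₁
  have h2 : (b : Finset GolayPt) ∈ (g₂ * g₁) • T := by
    rw [← hg2]
    exact Finset.smul_mem_smul_finset ho₂
  have hgT : (g₂ * g₁) • T = T := by
    rw [← Helper9.M24.trio_eq_trioOf hmem h1 h2 hab, Helper9.M24.trio_eq_trioOf hT a.2 b.2 hab]
  have hg3 : (g₂ * g₁) • o₃ = c := by
    have hin : (g₂ * g₁) • o₃ ∈ (g₂ * g₁) • T := Finset.smul_mem_smul_finset ho₃
    rw [hgT] at hin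
    have hcard : ((T.erase a).erase b).card ≤ 1 := by
      rw [Finset.card_erase_of_mem, Finset.card_erase_of_mem a.2, h3]
      rw [Finset.mem_erase]
      exact ⟨Ne.symm hab, b.2⟩
    apply Finset.card_le_one.mp hcard
    · rw [Finset.mem_erase, Finset.mem_erase]
      refine ⟨?_, ?_, hin⟩
      · rw [← hg2]
        intro h
        exact h23 (smul_left_cancel _ h).symm
      · rw [← hg1]
        intro h
        exact h13 (smul_left_cancel _ h).symm
    · rw [Finset.mem_erase, Finset.mem_erase]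
      exact ⟨Ne.symm hbc, Ne.symm hac, c.2⟩
  refine ⟨⟨g₂ * g₁, hgM⟩, mem_stabilizer_iff.mpr hgT, ?_⟩
  rintro ⟨o, ho⟩
  have ho' := ho
  rw [hTeq] at ho'
  simp only [Finset.mem_insert, Finset.mem_singleton] at ho'
  rcases ho' with rfl | rfl | rfl
  · rw [← ha]
    exact hg1
  · rw [← hb]
    exact hg2
  · rw [← hc]
    exact hg3

/-! ### the main statement -/

theorem main (T : Finset (Finset GolayPt)) (hT : T ∈ trios) :
    (∀ e : Equiv.Perm ↥T, ∃ g ∈ stabilizer M24 T, ∀ o : ↥T,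
      (g : P24) • (o : Finset GolayPt) = ((e o : ↥T) : Finset GolayPt)) ∧
    ∃ (N : Subgroup ↥(stabilizer M24 T)) (_ : N.Normal), Nat.card N = 64 ∧
      (∀ x ∈ N, x * x = 1) ∧
      Nonempty (↥(stabilizer M24 T) ⧸ N ≃* GL (Fin 3) (ZMod 2) × Equiv.Perm (Fin 3)) := by
  refine ⟨perm_realized T hT, ?_⟩
  obtain ⟨τ, hτ, rfl⟩ := trio_trans T hT
  let ι : ↥(stabilizer M24 (τ • tr0fam)) →* P24 :=
    M24.subtype.comp (stabilizer M24 (τ • tr0fam)).subtype
  have hι : Function.Injective ι := by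
    intro a b hab
    apply Subtype.ext
    apply Subtype.ext
    exact hab
  have hrange : ι.range = HTr.map (MulAut.conj τ).toMonoidHom := by
    ext z
    rw [MonoidHom.mem_range, Subgroup.mem_map]
    constructor
    · rintro ⟨c, rfl⟩
      have hcM : ι c ∈ M24 := (c : ↥M24).2
      have hcq : ι c • (τ • tr0fam) = τ • tr0fam := mem_stabilizer_iff.mp c.2
      refine ⟨τ⁻¹ * ι c * τ, ⟨M24.mul_mem (M24.mul_mem (M24.inv_mem hτ) hcM) hτ, ?_⟩, ?_⟩
      · show (τ⁻¹ * ι c * τ) • tr0fam = tr0fam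
        rw [mul_smul, mul_smul, hcq, inv_smul_smul]
      · show τ * (τ⁻¹ * ι c * τ) * τ⁻¹ = ι c
        group
    · rintro ⟨g, hg, rfl⟩
      have h1 : τ * g * τ⁻¹ ∈ M24 := M24.mul_mem (M24.mul_mem hτ hg.1) (M24.inv_mem hτ)
      have h3 : (τ * g * τ⁻¹) • (τ • tr0fam) = τ • tr0fam := by
        rw [mul_smul, mul_smul, inv_smul_smul, mem_stabilizer_iff.mp hg.2]
      exact ⟨⟨⟨τ * g * τ⁻¹, h1⟩, mem_stabilizer_iff.mpr h3⟩, rfl⟩
  let e : ↥(stabilizer M24 (τ • tr0fam)) ≃* ↥HTr :=
    ((MonoidHom.ofInjective hι).trans (MulEquiv.subgroupCongr hrange)).trans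
      (HTr.equivMapOfInjective _ (MulAut.conj τ).injective).symm
  have hcard : Nat.card ↥(stabilizer M24 (τ • tr0fam)) = 64512 := by
    rw [Nat.card_congr e.toEquiv, card_HTr]
  apply of_hom (Θ.comp e.toMonoidHom) hcard
  · refine le_trans ?_ card_ker_le
    apply Nat.card_le_card_of_injective
      (fun x : ↥(Θ.comp e.toMonoidHom).ker => (⟨e x.1, x.2⟩ : ↥Θ.ker))
    intro x y hxy
    apply Subtype.ext
    exact e.injective (congrArg Subtype.val hxy)
  · intro x hx
    have h1 : e x ∈ Θ.ker := hx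
    have h2 := ker_sq h1
    rw [← map_mul] at h2
    exact e.injective (h2.trans (map_one e).symm)

end

end Cfsg.Agent.Lib.Helper1.TrioStab
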