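import Mathlib
import Cfsg.Agent.Lib.Helper1.U43B
import Cfsg.Agent.Lib.Helper1.U43D5
import Cfsg.Agent.Lib.Helper1.U43D6

set_option autoImplicit false
set_option maxRecDepth 100000
set_option maxHeartbeats 0

/-! The special unitary group of degree 4 over the field with 9 elements: the stabilizer of a
vector, generated by two words, its actions on 224 vectors and on 2016 pairs of vectors; the two
generators generate the group. -/

namespace Cfsg.Agent.Lib.Helper1.U43

open Cfsg Matrix Cfsg.Agent.Lib.Helper1.MatCode Cfsg.Agent.Lib.Helper1.MatAct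
  Cfsg.Agent.Lib.Helper1.StemSA

instance finiteGm : Finite Gm := Nat.finite_of_card_ne_zero (by rw [card_Gm]; norm_num)

/-- the stabilizer of the first vector -/
noncomputable abbrev K : Subgroup Gm := MulAction.stabilizer Gm (pt2160 0)

/-- the two words of the stabilizer -/
def k1 : Gm := wordProd GG4 wK1

def k2 : Gm := wordProd GG4 wK2

theorem ev_wK : ev 8 3 c1 cGG4 wK1 = cK1 ∧ ev 8 3 c1 cGG4 wK2 = cK2 := by decide +kernel

theorem φ_k1 : φ k1 = D cK1 := by rw [← ev_wK.1]; exact codedGG4.phi_wordProd wK1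

theorem φ_k2 : φ k2 = D cK2 := by rw [← ev_wK.2]; exact codedGG4.phi_wordProd wK2

theorem cn_cK1 : Cn cK1 := by rw [← ev_wK.1]; exact cn_ev size83 c1 cn_c1 _ _

theorem cn_cK2 : Cn cK2 := by rw [← ev_wK.2]; exact cn_ev size83 c1 cn_c1 _ _

/-- the words as a list -/
def GK1 : List Gm := [k1, k2]

/-- their codes -/
def cGK : List ℕ := [cK1, cK2]

theorem codedGK : Coded φ c1 GK1 cGK where
  size := size83
  inj := φ_injective
  one := D_c1
  cn1 := cn_c1
  len := rfl
  get := by
    intro i hi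
    have hi' : i < 2 := hi
    interval_cases i
    · exact φ_k1
    · exact φ_k2
  can := by
    intro c hc
    simp only [cGK, List.mem_cons, List.not_mem_nil, or_false] at hc
    rcases hc with rfl | rfl
    · exact cn_cK1
    · exact cn_cK2

theorem k1_mem_G1 : k1 ∈ G1 := wordProd_mem GG4 G1 GG4_mem _

theorem k2_mem_G1 : k2 ∈ G1 := wordProd_mem GG4 G1 GG4_mem _

theorem fix_chk : (List.range 2).all (fun i =>
    mu (cGK.getD i c1) (ex1 (PV2160 0)) == ex1 (PV2160 0)) = true := by decide +kernel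

theorem GK1_mem_K (i : ℕ) (hi : i < 2) : GK1.getD i 1 ∈ K := by
  rw [MulAction.mem_stabilizer_iff]
  have h := fix_chk
  rw [List.all_eq_true] at h
  have h1 := h i (List.mem_range.mpr hi)
  rw [beq_iff_eq] at h1
  exact smul_dec size83 φ smul_mat_eq _ _ (codedGK.get i hi) _ _
    (canonB_of_chkVecs ex1 co1 PV2160 2160 chk_vecs2160 0 (by norm_num)) h1

theorem k1_mem_K : k1 ∈ K := GK1_mem_K 0 (by norm_num)

theorem k2_mem_K : k2 ∈ K := GK1_mem_K 1 (by norm_num)

/-- the subgroup generated by the two words -/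
def U : Subgroup Gm := Subgroup.closure {g | ∃ i < 2, g = GK1.getD i 1}

theorem U_le_K : U ≤ K := by
  unfold U
  rw [Subgroup.closure_le]
  rintro g ⟨i, hi, rfl⟩
  exact GK1_mem_K i hi

theorem U_le_G1 : U ≤ G1 := by
  unfold U
  rw [Subgroup.closure_le]
  rintro g ⟨i, hi, rfl⟩
  interval_cases i
  · exact k1_mem_G1
  · exact k2_mem_G1

theorem GK1_mem_U : ∀ g ∈ GK1, g ∈ U := by
  intro g hg
  simp only [GK1, List.mem_cons, List.not_mem_nil, or_false] at hg
  rcases hg with rfl | rfl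
  · exact Subgroup.subset_closure ⟨0, by norm_num, rfl⟩
  · exact Subgroup.subset_closure ⟨1, by norm_num, rfl⟩

theorem powK_chk : ev 8 3 c1 cGK [0, 0, 0, 0, 0, 0, 0] = c1 ∧
    ev 8 3 c1 cGK [1, 1, 1, 1, 1, 1, 1] = c1 ∧
    ev 8 3 c1 cGK [0, 1, 0, 1, 0, 1, 0, 1] = c1 ∧
    ev 8 3 c1 cGK [0, 1, 1, 1, 0, 1, 1, 1, 0, 1, 1, 1, 0, 1, 1, 1, 0, 1, 1, 1, 0, 1, 1, 1,
      0, 1, 1, 1, 0, 1, 1, 1] = c1 := by decide +kernel

theorem k1_pow : k1 ^ 7 = 1 := by
  have h := codedGK.eq_one_of_ev [0, 0, 0, 0, 0, 0, 0] powK_chk.1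
  rw [← h]
  simp only [wordProd_cons, wordProd_nil, mul_one, pow_succ, pow_zero, one_mul, mul_assoc]
  rfl

theorem k2_pow : k2 ^ 7 = 1 := by
  have h := codedGK.eq_one_of_ev [1, 1, 1, 1, 1, 1, 1] powK_chk.2.1
  rw [← h]
  simp only [wordProd_cons, wordProd_nil, mul_one, pow_succ, pow_zero, one_mul, mul_assoc]
  rfl

theorem k12_pow : (k1 * k2) ^ 4 = 1 := by
  have h := codedGK.eq_one_of_ev [0, 1, 0, 1, 0, 1, 0, 1] powK_chk.2.2.1
  rw [← h]
  simp only [wordProd_cons, wordProd_nil, mul_one, pow_succ, pow_zero, one_mul, mul_assoc]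
  rfl

theorem k1222_pow : (k1 * k2 ^ 3) ^ 8 = 1 := by
  have h := codedGK.eq_one_of_ev [0, 1, 1, 1, 0, 1, 1, 1, 0, 1, 1, 1, 0, 1, 1, 1, 0, 1, 1, 1,
    0, 1, 1, 1, 0, 1, 1, 1, 0, 1, 1, 1] powK_chk.2.2.2
  rw [← h]
  simp only [wordProd_cons, wordProd_nil, mul_one, pow_succ, pow_zero, one_mul, mul_assoc]
  rfl

/-- the matrix with two given first columns -/
def ex2 (x : ℕ) : ℕ := exCols 8 2 x

def co2 (c : ℕ) : ℕ := coCols 8 2 c

/-- the 224 vectors -/
def pt224 (j : ℕ) : Mat := D (ex1 (PV224 j))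

theorem chk_struct224 : D224.chkStruct = true := by decide +kernel

theorem chk_vecs224 : chkVecs 8 3 ex1 co1 PV224 224 = true := by decide +kernel

theorem chk_act224 : chkAct 8 3 c1 ex1 cGK PV224 224 D224.pi = true := by decide +kernel

theorem chk_distinct224 : chkDistinctS PV224 sg224 rk224 224 = true := by decide +kernel

theorem pi_act224 (i : ℕ) (hi : i < D224.k) (j : ℕ) (hj : j < D224.m) :
    GK1.getD i 1 • pt224 j = pt224 (D224.pi i j) :=
  smul_pt_of ex1 co1 PV224 224 size83 φ smul_mat_eq c1 GK1 cGK D224.pi codedGK.get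
    chk_vecs224 chk_act224 i hi j hj

theorem pt224_inj (j : ℕ) (hj : j < 224) (j' : ℕ) (hj' : j' < 224)
    (h : pt224 j = pt224 j') : j = j' :=
  pt_inj_of ex1 co1 PV224 224 chk_vecs224
    (inj_of_distinctS PV224 sg224 rk224 224 chk_distinct224) j hj j' hj' h

/-- the 2016 pairs of vectors -/
def pt2016 (j : ℕ) : Mat := D (ex2 (PV2016 j))

theorem chk_struct2016 : D2016.chkStruct = true := by decide +kernel

theorem chk_vecs2016 : chkVecs 8 3 ex2 co2 PV2016 2016 = true := by decide +kernel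

theorem chk_act2016 : chkAct 8 3 c1 ex2 cGK PV2016 2016 D2016.pi = true := by decide +kernel

theorem chk_distinct2016 : chkDistinctS PV2016 sg2016 rk2016 2016 = true := by decide +kernel

theorem pi_act2016 (i : ℕ) (hi : i < D2016.k) (j : ℕ) (hj : j < D2016.m) :
    GK1.getD i 1 • pt2016 j = pt2016 (D2016.pi i j) :=
  smul_pt_of ex2 co2 PV2016 2016 size83 φ smul_mat_eq c1 GK1 cGK D2016.pi codedGK.get
    chk_vecs2016 chk_act2016 i hi j hj

theorem pt2016_inj (j : ℕ) (hj : j < 2016) (j' : ℕ) (hj' : j' < 2016)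
    (h : pt2016 j = pt2016 j') : j = j' :=
  pt_inj_of ex2 co2 PV2016 2016 chk_vecs2016
    (inj_of_distinctS PV2016 sg2016 rk2016 2016 chk_distinct2016) j hj j' hj' h

/-- an element of order 3 fixing the first pair -/
def cE : Gm := wordProd GK1 wC

theorem cE_chk : ev 8 3 c1 cGK wC = cC ∧ mu cC (mu cC cC) = c1 ∧ neB 8 3 cC c1 = true ∧
    mu cC (ex2 (PV2016 0)) = ex2 (PV2016 0) := by decide +kernel

theorem φ_cE : φ cE = D cC := by rw [← cE_chk.1]; exact codedGK.phi_wordProd wC

theorem cn_cC : Cn cC := by rw [← cE_chk.1]; exact cn_ev size83 c1 cn_c1 _ _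

theorem cE_pow : cE ^ 3 = 1 := by
  apply φ_injective
  rw [map_pow, map_one, φ_cE, pow_succ, pow_succ, pow_one, mul_assoc, ← mu_spec _ _ cn_cC,
    ← mu_spec _ _ (canon_mu _ _), cE_chk.2.1, D_c1]

theorem cE_ne : cE ≠ 1 := by
  intro h
  have h1 := φ_cE
  rw [h, map_one, ← D_c1] at h1
  exact dec_ne_of_neB 8 3 cE_chk.2.2.1 h1.symm

theorem orderOf_cE : orderOf cE = 3 := by
  haveI : Fact (Nat.Prime 3) := ⟨Nat.prime_three⟩
  exact orderOf_eq_prime cE_pow cE_ne

theorem cE_mem_U : cE ∈ U := wordProd_mem GK1 U GK1_mem_U _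

theorem cE_fix : cE ∈ MulAction.stabilizer Gm (pt2016 0) := by
  rw [MulAction.mem_stabilizer_iff]
  exact smul_dec size83 φ smul_mat_eq _ _ φ_cE _ _
    (canonB_of_chkVecs ex2 co2 PV2016 2016 chk_vecs2016 0 (by norm_num)) cE_chk.2.2.2

/-- the subgroup generated by the two words has order at least 6048 -/
theorem card_U_ge : 6048 ≤ Nat.card ↥U := by
  classical
  have h := card_mul_le_of_orbit U (Subgroup.zpowers cE) (pt2016 0)
    (by rw [Subgroup.zpowers_le]; exact cE_mem_U)
    (by rw [Subgroup.zpowers_le]; exact cE_fix)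
    ((Finset.range 2016).image pt2016) (by
      intro y hy
      rw [Finset.mem_image] at hy
      obtain ⟨j, hj, rfl⟩ := hy
      exact StemZB.exists_mem_closure_smul D2016 chk_struct2016 pt2016 GK1 pi_act2016 j
        (Finset.mem_range.mp hj))
  rw [card_image_range pt2016 2016 pt2016_inj, Nat.card_zpowers, orderOf_cE] at h
  omega

/-- the subgroup generated by the two generators has the order of the group -/
theorem card_G1_ge : 13063680 ≤ Nat.card ↥G1 := by
  classical
  have h := card_mul_le_of_orbit G1 U (pt2160 0) U_le_G1 U_le_K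
    ((Finset.range 2160).image pt2160) (by
      intro y hy
      rw [Finset.mem_image] at hy
      obtain ⟨j, hj, rfl⟩ := hy
      exact exists_smul2160 j (Finset.mem_range.mp hj))
  rw [card_image_range pt2160 2160 pt2160_inj] at h
  have := card_U_ge
  nlinarith

/-- the two generators generate the group -/
theorem hgen : Subgroup.closure {g : Gm | ∃ i < 2, g = GG.getD i 1} = ⊤ := by
  have h1 := card_G1_ge
  apply Subgroup.eq_top_of_card_eq
  have h2 : Nat.card ↥G1 ≤ Nat.card Gm := Subgroup.card_le_card_group G1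
  rw [card_Gm] at h2 ⊢
  exact le_antisymm h2 h1

theorem hgen2160 : Subgroup.closure {g : Gm | ∃ i < D2160.k, g = GG.getD i 1} = ⊤ := hgen

theorem card_K_mul : Nat.card ↥K * 2160 = Nat.card Gm :=
  StemOrb.card_stabilizer_mul D2160 chk_struct2160 pt2160 GG hgen2160 pi_act2160 (by decide)
    (fun j hj j' hj' => pt2160_inj j hj j' hj')

theorem card_K : Nat.card ↥K = 6048 := by
  have h := card_K_mul
  rw [card_Gm] at h
  omega

/-- the stabilizer of the first vector is generated by the two words -/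
theorem U_eq_K : U = K := by
  have hle : U ≤ K := U_le_K
  have hU := card_U_ge
  have hK := card_K
  apply SetLike.coe_injective
  apply Set.eq_of_subset_of_ncard_le hle _ (Set.toFinite _)
  have e1 : (↑K : Set Gm).ncard = Nat.card ↥K := rfl
  have e2 : (↑U : Set Gm).ncard = Nat.card ↥U := rfl
  rw [e1, e2]
  omega

end Cfsg.Agent.Lib.Helper1.U43
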