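import Mathlib
import Cfsg.Agent.Lib.Helper1.U43D2
import Cfsg.Agent.Lib.Helper1.U43D3
import Cfsg.Agent.Lib.Helper1.StemZP8

set_option autoImplicit false
set_option maxRecDepth 100000
set_option maxHeartbeats 0

/-! The special unitary group of degree 4 over the field with 9 elements acting on 2160 vectors: the check of the certificate for the prime 2. -/

namespace Cfsg.Agent.Lib.Helper1.U43

open Cfsg.Agent.Lib.Helper1

theorem chkA_C2160b : StemZP.chkCertA D2160 C2160b = true := by decide +kernel

theorem chkRows_C2160b_0 : StemZP.chkRowsIn D2160 C2160b (600 * 0) 600 = true := by decide +kernel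

theorem chkRows_C2160b_1 : StemZP.chkRowsIn D2160 C2160b (600 * 1) 600 = true := by decide +kernel

theorem chkRows_C2160b_2 : StemZP.chkRowsIn D2160 C2160b (600 * 2) 600 = true := by decide +kernel

theorem chkRows_C2160b_3 : StemZP.chkRowsIn D2160 C2160b (600 * 3) 600 = true := by decide +kernel

theorem chk_cert_C2160b : StemZP.chkCertR D2160 C2160b = true := by
  apply StemZP.chkCertR_of_parts D2160 C2160b chkA_C2160b
  · apply StemZP.row_of_chunks D2160 C2160b 600 (by norm_num) 4 (by decide)
    intro q hq
    interval_cases q
    · exact chkRows_C2160b_0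
    · exact chkRows_C2160b_1
    · exact chkRows_C2160b_2
    · exact chkRows_C2160b_3
  · intro j hj
    exact absurd (show j < 0 from hj) (Nat.not_lt_zero j)

end Cfsg.Agent.Lib.Helper1.U43
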