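import Mathlib
import Cfsg.Agent.Lib.Helper1.U43D6
import Cfsg.Agent.Lib.Helper1.U43D7
import Cfsg.Agent.Lib.Helper1.StemZP8

set_option autoImplicit false
set_option maxRecDepth 100000
set_option maxHeartbeats 0

/-! The stabilizer of a vector in the special unitary group of degree 4 over the field with 9 elements, acting on 2016 pairs of vectors: the check of the certificate for the prime 3. -/

namespace Cfsg.Agent.Lib.Helper1.U43

open Cfsg.Agent.Lib.Helper1

theorem chkA_C2016c : StemZP.chkCertA D2016 C2016c = true := by decide +kernel

theorem chkRows_C2016c_0 : StemZP.chkRowsIn D2016 C2016c (600 * 0) 600 = true := by decide +kernel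

theorem chkRows_C2016c_1 : StemZP.chkRowsIn D2016 C2016c (600 * 1) 600 = true := by decide +kernel

theorem chkRows_C2016c_2 : StemZP.chkRowsIn D2016 C2016c (600 * 2) 600 = true := by decide +kernel

theorem chkRows_C2016c_3 : StemZP.chkRowsIn D2016 C2016c (600 * 3) 600 = true := by decide +kernel

theorem chkRel_C2016c_0 : StemZP.chkRelAt D2016 C2016c 0 = true := by decide +kernel

theorem chk_cert_C2016c : StemZP.chkCertR D2016 C2016c = true := by
  apply StemZP.chkCertR_of_parts D2016 C2016c chkA_C2016c
  · apply StemZP.row_of_chunks D2016 C2016c 600 (by norm_num) 4 (by decide)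
    intro q hq
    interval_cases q
    · exact chkRows_C2016c_0
    · exact chkRows_C2016c_1
    · exact chkRows_C2016c_2
    · exact chkRows_C2016c_3
  · intro j hj
    have hj' : j < 1 := hj
    interval_cases j
    · exact chkRel_C2016c_0

end Cfsg.Agent.Lib.Helper1.U43
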