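import Mathlib
import Cfsg.Agent.Lib.Helper1.U43C
import Cfsg.Agent.Lib.Helper1.U43H1
import Cfsg.Agent.Lib.Helper1.U43H2
import Cfsg.Agent.Lib.Helper1.U43H3
import Cfsg.Agent.Lib.Helper1.U43H4
import Cfsg.Agent.Lib.Helper1.StemZP5
import Cfsg.Agent.Lib.Helper1.StemZP6
import Cfsg.Agent.Lib.Helper1.StemZP7
import Cfsg.Agent.Lib.Helper1.Stem17
import Cfsg.Agent.Lib.Helper1.Stem21

set_option autoImplicit false
set_option maxRecDepth 100000

/-! The special unitary group of degree 4 over the field with 9 elements: the stabilizer of a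
vector is perfect and its stem extensions are trivial; the kernel of a stem extension of the
group has order dividing 9. -/

namespace Cfsg.Agent.Lib.Helper1.U43

open Cfsg Matrix Cfsg.Agent.Lib.Helper1.MatCode Cfsg.Agent.Lib.Helper1.MatAct
  Cfsg.Agent.Lib.Helper1.StemSA Cfsg.Agent.Lib.Helper1.Stem

universe u

/-- the generators of the stabilizer of the first vector -/
noncomputable abbrev GK : List ↥K := [⟨k1, k1_mem_K⟩, ⟨k2, k2_mem_K⟩]

theorem GK_val (i : ℕ) : ((GK.getD i 1 : ↥K) : Gm) = GK1.getD i 1 := by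
  rcases i with _ | _ | i
  · rfl
  · rfl
  · rfl

theorem wordProd_GK (w : List ℕ) : ((wordProd GK w : ↥K) : Gm) = wordProd GK1 w := by
  induction w with
  | nil => rfl
  | cons i w ih =>
    rw [wordProd_cons, wordProd_cons, Subgroup.coe_mul, ih, GK_val]

theorem hgenK : Subgroup.closure {g : ↥K | ∃ i < 2, g = GK.getD i 1} = ⊤ := by
  apply Subgroup.map_injective K.subtype_injective
  rw [MonoidHom.map_closure, ← MonoidHom.range_eq_map, Subgroup.range_subtype]
  have e : (K.subtype '' {g : ↥K | ∃ i < 2, g = GK.getD i 1}) =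
      {g : Gm | ∃ i < 2, g = GK1.getD i 1} := by
    ext g
    constructor
    · rintro ⟨g', ⟨i, hi, rfl⟩, rfl⟩
      exact ⟨i, hi, GK_val i⟩
    · rintro ⟨i, hi, rfl⟩
      exact ⟨GK.getD i 1, ⟨i, hi, rfl⟩, GK_val i⟩
  rw [e]
  exact U_eq_K

theorem pi_actK224 (i : ℕ) (hi : i < D224.k) (j : ℕ) (hj : j < D224.m) :
    GK.getD i 1 • pt224 j = pt224 (D224.pi i j) := by
  have h := pi_act224 i hi j hj
  rw [← GK_val i] at h
  exact h

theorem pi_actK2016 (i : ℕ) (hi : i < D2016.k) (j : ℕ) (hj : j < D2016.m) :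
    GK.getD i 1 • pt2016 j = pt2016 (D2016.pi i j) := by
  have h := pi_act2016 i hi j hj
  rw [← GK_val i] at h
  exact h

theorem hordK (p : ℕ) (hp7 : Nat.Coprime 7 p) (i : ℕ) (hi : i < 2) :
    Nat.Coprime ([7, 7].getD i 0) p ∧ (GK.getD i 1) ^ ([7, 7].getD i 0) = 1 := by
  interval_cases i
  · exact ⟨hp7, Subtype.ext k1_pow⟩
  · exact ⟨hp7, Subtype.ext k2_pow⟩

theorem krels_chk : krelsL.all (fun w => ev 8 3 c1 cGK w.1 == ev 8 3 c1 cGK w.2) = true := by
  decide +kernel

theorem hrelK : ∀ w ∈ krelsL, wordProd GK w.1 = wordProd GK w.2 := by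
  intro w hw
  have h := krels_chk
  rw [List.all_eq_true] at h
  have h1 := h w hw
  rw [beq_iff_eq] at h1
  apply Subtype.ext
  rw [wordProd_GK, wordProd_GK]
  exact codedGK.eq_of_ev w.1 w.2 h1

/-- the stabilizer of the first vector is perfect -/
theorem K_perfect : commutator ↥K = ⊤ := by
  apply commutator_eq_top_of_7748 (⟨k1, k1_mem_K⟩ : ↥K) ⟨k2, k2_mem_K⟩
  · rw [← hgenK]
    congr 1
    ext g
    simp only [Set.mem_insert_iff, Set.mem_singleton_iff, Set.mem_setOf_eq]
    constructor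
    · rintro (rfl | rfl)
      · exact ⟨0, by decide, rfl⟩
      · exact ⟨1, by decide, rfl⟩
    · rintro ⟨i, hi, rfl⟩
      interval_cases i
      · exact Or.inl rfl
      · exact Or.inr rfl
  · exact Subtype.ext k1_pow
  · exact Subtype.ext k2_pow
  · exact Subtype.ext k12_pow
  · exact Subtype.ext k1222_pow

/-- the stabilizer of the first of the 224 vectors -/
noncomputable abbrev KB2 : Subgroup ↥K := MulAction.stabilizer ↥K (pt224 0)

theorem card_KB2 : Nat.card ↥KB2 = 27 := by
  have h := StemOrb.card_stabilizer_mul D224 chk_struct224 pt224 GK hgenK pi_actK224 (by decide)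
    (fun j hj j' hj' => pt224_inj j hj j' hj')
  rw [card_K] at h
  have h' : Nat.card ↥KB2 * 224 = 6048 := h
  omega

/-- the stabilizer of the first of the 2016 pairs of vectors -/
noncomputable abbrev KB3 : Subgroup ↥K := MulAction.stabilizer ↥K (pt2016 0)

theorem card_KB3 : Nat.card ↥KB3 = 3 := by
  have h := StemOrb.card_stabilizer_mul D2016 chk_struct2016 pt2016 GK hgenK pi_actK2016
    (by decide) (fun j hj j' hj' => pt2016_inj j hj j' hj')
  rw [card_K] at h
  have h' : Nat.card ↥KB3 * 2016 = 6048 := h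
  omega

/-- a stem extension of the stabilizer of the first vector whose kernel is a 2-group is trivial -/
theorem K_bound2 (Γ : Type u) [Group Γ] [Finite Γ] (σ : Γ →* ↥K)
    (hσ : Cfsg.IsStemExtension σ) (hp : IsPGroup 2 σ.ker) : Nat.card σ.ker ≤ 1 := by
  haveI : Fact (Nat.Prime 2) := ⟨Nat.prime_two⟩
  obtain ⟨a, ha⟩ := IsPGroup.iff_card.mp hp
  have h := StemZP.card_ker_mul_le_powP 2 D224 0
    (StemZP.valsBound_of_certR D224 C224b chk_cert_C224b) chk_struct224 (by decide) pt224 GK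
    hgenK (fun j hj h => pt224_inj j hj 0 (by decide) h) pi_actK224 (hordK 2 (by decide)) hrelK
    0 27 (by decide) (by norm_num) KB2 rfl (by rw [card_KB2]; norm_num) 1
    (by rw [orderOf_one, pow_zero])
    ⊤ (by rw [Subgroup.card_top, card_KB2])
    (fun x y => (QuotientGroup.subsingleton_quotient_top (G := ↥KB2)).elim _ _) Γ σ hσ a ha
  rw [pow_zero, mul_one] at h
  exact h

/-- the element of order 3 in the stabilizer of the first pair -/
noncomputable def cK3 : ↥KB3 :=
  ⟨⟨cE, U_le_K cE_mem_U⟩, by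
    rw [MulAction.mem_stabilizer_iff]
    exact MulAction.mem_stabilizer_iff.mp cE_fix⟩

theorem orderOf_cK3 : orderOf cK3 = 3 := by
  have h1 : ((cK3 : ↥K) : Gm) = cE := rfl
  have h2 : orderOf ((cK3 : ↥K) : Gm) = orderOf cK3 := by
    rw [Subgroup.orderOf_coe, Subgroup.orderOf_coe]
  rw [← h2, h1]
  exact orderOf_cE

/-- a stem extension of the stabilizer of the first vector whose kernel is a 3-group is trivial -/
theorem K_bound3 (Γ : Type u) [Group Γ] [Finite Γ] (σ : Γ →* ↥K)
    (hσ : Cfsg.IsStemExtension σ) (hp : IsPGroup 3 σ.ker) : Nat.card σ.ker ≤ 1 := by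
  haveI : Fact (Nat.Prime 3) := ⟨Nat.prime_three⟩
  obtain ⟨a, ha⟩ := IsPGroup.iff_card.mp hp
  haveI : Finite ↥KB3 := Nat.finite_of_card_ne_zero (by rw [card_KB3]; norm_num)
  have hcyc : IsCyclic ↥KB3 := isCyclic_of_prime_card card_KB3
  have hcomm : ∀ x y : ↥KB3, x * y = y * x := by
    intro x y
    obtain ⟨g, hg⟩ := hcyc
    obtain ⟨m, rfl⟩ := Subgroup.mem_zpowers_iff.mp (hg x)
    obtain ⟨n, rfl⟩ := Subgroup.mem_zpowers_iff.mp (hg y)
    rw [← _root_.zpow_add, ← _root_.zpow_add, add_comm]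
  have h := StemZP.card_ker_mul_le_powP 3 D2016 1
    (StemZP.valsBound_of_certR D2016 C2016c chk_cert_C2016c) chk_struct2016 (by decide) pt2016 GK
    hgenK (fun j hj h => pt2016_inj j hj 0 (by decide) h) pi_actK2016 (hordK 3 (by decide)) hrelK
    1 1 (by decide) (by norm_num) KB3 rfl (by rw [card_KB3]; norm_num) cK3
    (by rw [orderOf_cK3, pow_one])
    ⊥ (by rw [Subgroup.card_bot])
    (fun x y => by
      induction x using QuotientGroup.induction_on with
      | H x =>
        induction y using QuotientGroup.induction_on with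
        | H y => rw [← QuotientGroup.mk_mul, ← QuotientGroup.mk_mul, hcomm x y])
    Γ σ hσ a ha
  have h3 : (3 : ℕ) ^ 1 = 3 := by norm_num
  rw [h3] at h
  omega

/-- a stem extension of the group whose kernel is a 2-group is trivial -/
theorem card_ker_two (Γ : Type u) [Group Γ] [Finite Γ] (σ : Γ →* Gm)
    (hσ : Cfsg.IsStemExtension σ) (hp : IsPGroup 2 σ.ker) : Nat.card σ.ker ≤ 1 := by
  haveI : Fact (Nat.Prime 2) := ⟨Nat.prime_two⟩
  have h := StemZP.card_ker_le_pow_mul_perf 2 D2160 0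
    (StemZP.valsBound_of_certR D2160 C2160b chk_cert_C2160b) chk_struct2160
    (by decide) pt2160 GG hgen2160 (fun j hj h => pt2160_inj j hj 0 (by decide) h) pi_act2160
    (hord2160 2 (by decide) (by decide)) hrel2160 K_perfect 1
    (fun Γ' _ _ σ' hσ' hk => K_bound2 Γ' σ' hσ' hk)
    Γ σ hσ hp
  rw [pow_zero, mul_one] at h
  exact h

/-- a stem extension of the group whose kernel is a 3-group has a kernel of order at most 9 -/
theorem card_ker_three (Γ : Type u) [Group Γ] [Finite Γ] (σ : Γ →* Gm)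
    (hσ : Cfsg.IsStemExtension σ) (hp : IsPGroup 3 σ.ker) : Nat.card σ.ker ≤ 9 := by
  haveI : Fact (Nat.Prime 3) := ⟨Nat.prime_three⟩
  have h := StemZP.card_ker_le_pow_mul_perf 3 D2160 2
    (StemZP.valsBound_of_certR D2160 C2160c chk_cert_C2160c) chk_struct2160
    (by decide) pt2160 GG hgen2160 (fun j hj h => pt2160_inj j hj 0 (by decide) h) pi_act2160
    (hord2160 3 (by decide) (by decide)) hrel2160 K_perfect 1
    (fun Γ' _ _ σ' hσ' hk => K_bound3 Γ' σ' hσ' hk)
    Γ σ hσ hp
  have e : (3 : ℕ) ^ 2 * 1 = 9 := by norm_num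
  rw [e] at h
  exact h

theorem sq_chk : (List.range 3615).all
    (fun ℓ => !(13063680 % (ℓ * ℓ) == 0) || (432 % ℓ == 0)) = true := by decide +kernel

theorem sq_dvd (ℓ : ℕ) (h : ℓ * ℓ ∣ 13063680) : ℓ ∣ 432 := by
  have hlt : ℓ < 3615 := by
    by_contra hge
    have h1 : 3615 * 3615 ≤ ℓ * ℓ := Nat.mul_le_mul (by omega) (by omega)
    have h2 := Nat.le_of_dvd (by norm_num) h
    omega
  have h1 := sq_chk
  rw [List.all_eq_true] at h1
  have h2 := h1 ℓ (List.mem_range.mpr hlt)
  rw [Bool.or_eq_true, Bool.not_eq_true', beq_eq_false_iff_ne, beq_iff_eq] at h2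
  rcases h2 with h2 | h2
  · exact absurd (Nat.mod_eq_zero_of_dvd h) h2
  · exact Nat.dvd_of_mod_eq_zero h2

theorem not_sq_dvd (p : ℕ) (hp : p.Prime) (h2 : p ≠ 2) (h3 : p ≠ 3) :
    ¬ p * p ∣ 13063680 := by
  intro h
  have h' := sq_dvd p h
  have e : (432 : ℕ) = 2 ^ 4 * 3 ^ 3 := by norm_num
  rw [e] at h'
  rcases (Nat.Prime.dvd_mul hp).mp h' with h' | h'
  · exact h2 ((Nat.prime_dvd_prime_iff_eq hp Nat.prime_two).mp (hp.dvd_of_dvd_pow h'))
  · exact h3 ((Nat.prime_dvd_prime_iff_eq hp Nat.prime_three).mp (hp.dvd_of_dvd_pow h'))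

/-- the kernel of a stem extension has order dividing 9 -/
theorem hub (Γ : Type u) [Group Γ] [Finite Γ] (σ : Γ →* Gm)
    (hσ : Cfsg.IsStemExtension σ) : Nat.card σ.ker ∣ 9 := by
  apply card_dvd_of_primary σ 9 (by norm_num) ?_ hσ
  intro p hp Γ' _ _ σ' hσ' hk
  by_cases h2 : p = 2
  · subst h2
    have hle := card_ker_two Γ' σ' hσ' hk
    have hpos : 0 < Nat.card σ'.ker := Nat.card_pos
    have h1 : Nat.card σ'.ker = 1 := by omega
    rw [h1]; exact one_dvd _
  · by_cases h3 : p = 3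
    · subst h3
      have hle := card_ker_three Γ' σ' hσ' hk
      obtain ⟨a, ha⟩ := IsPGroup.iff_card.mp hk
      rw [ha] at hle ⊢
      have ha2 : a ≤ 2 := by
        by_contra hlt
        have : 3 ^ 3 ≤ 3 ^ a := Nat.pow_le_pow_right (by norm_num) (by omega)
        omega
      exact (pow_dvd_pow 3 ha2).trans (by norm_num)
    · have h1 : Nat.card σ'.ker = 1 := by
        apply card_ker_eq_one_of_not_sq_dvd σ' hσ' p hk
        rw [card_Gm]
        exact not_sq_dvd p hp.out h2 h3
      rw [h1]; exact one_dvd _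

/-- the group is perfect -/
theorem Gm_perfect : commutator Gm = ⊤ := by
  apply commutator_eq_top_of_57 gA gB
  · rw [← hgen]
    congr 1
    ext g
    simp only [Set.mem_insert_iff, Set.mem_singleton_iff, Set.mem_setOf_eq]
    constructor
    · rintro (rfl | rfl)
      · exact ⟨0, by decide, rfl⟩
      · exact ⟨1, by decide, rfl⟩
    · rintro ⟨i, hi, rfl⟩
      interval_cases i
      · exact Or.inl rfl
      · exact Or.inr rfl
  · exact gA_pow
  · exact gB_pow
  · have h := hrel ([0, 1, 0, 1, 0, 1, 0, 1, 0, 1, 0], [1, 1, 1, 1, 1, 1]) (by decide)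
    simp only [wordProd_cons, wordProd_nil, mul_one] at h
    have e1 : GG.getD 0 1 = gA := rfl
    have e2 : GG.getD 1 1 = gB := rfl
    rw [e1, e2] at h
    simp only [pow_succ, pow_zero, one_mul, mul_assoc]
    exact h

end Cfsg.Agent.Lib.Helper1.U43
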