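import Mathlib
import Cfsg.Agent.Lib.Helper1.U43D9
import Cfsg.Agent.Lib.Helper1.U43D10
import Cfsg.Agent.Lib.Helper1.StemLL11

set_option autoImplicit false
set_option maxRecDepth 100000
set_option maxHeartbeats 0

/-! The special unitary group of degree 4 over the field with 9 elements: the packed rows of the
tables of two stem extensions with kernels of order 3, on 2160 vectors, and the checks of the
graph. -/

namespace Cfsg.Agent.Lib.Helper1.U43

open Cfsg.Agent.Lib.Helper1 Cfsg.Agent.Lib.Helper1.StemLL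

/-- the action of a generator, packed -/
def piN (i : ℕ) : ℕ := PIL.getD i 0

/-- the labels of a generator, packed -/
def lamNa (i : ℕ) : ℕ := LAMa.getD i 0

/-- the labels of a generator, packed -/
def lamNb (i : ℕ) : ℕ := LAMb.getD i 0

/-- the neighbours of a point, packed -/
def nbR (j : ℕ) : ℕ := (NBL.getD (j / 28) []).getD (j % 28) 0

/-- the connection at a point, packed -/
def rhoRa (j : ℕ) : ℕ := (RHLa.getD (j / 28) []).getD (j % 28) 0

/-- the connection at a point, packed -/
def rhoRb (j : ℕ) : ℕ := (RHLb.getD (j / 28) []).getD (j % 28) 0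

/-- the positions of the images of the neighbours of a point, packed -/
def hintR (i j : ℕ) : ℕ := (HL.getD ((i * 2160 + j) / 28) []).getD ((i * 2160 + j) % 28) 0

theorem hintF_eq (i j t : ℕ) : hintF i j t = fld 8 255 (hintR i j) t := rfl

/-- the packed rows of the first cover -/
def Ra : Rows La where
  piN := piN
  lamN := lamNa
  nbR := nbR
  rhoR := rhoRa
  parN := PARN
  rkN := RKN
  hpi := fun _ _ => rfl
  hlam := fun _ _ => rfl
  hnb := fun _ _ => rfl
  hrho := fun _ _ => rfl
  hpar := fun _ => rfl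
  hrk := fun _ => rfl

/-- the packed rows of the second cover -/
def Rb : Rows Lb where
  piN := piN
  lamN := lamNb
  nbR := nbR
  rhoR := rhoRb
  parN := PARN
  rkN := RKN
  hpi := fun _ _ => rfl
  hlam := fun _ _ => rfl
  hnb := fun _ _ => rfl
  hrho := fun _ _ => rfl
  hpar := fun _ => rfl
  hrk := fun _ => rfl

theorem La_range : La.chkRange = true := by decide +kernel

theorem Lb_range : Lb.chkRange = true := La_range

theorem sorted_0 : sortedChunkF 252 nbR 0 540 = true := by decide +kernel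

theorem sorted_1 : sortedChunkF 252 nbR 540 540 = true := by decide +kernel

theorem sorted_2 : sortedChunkF 252 nbR 1080 540 = true := by decide +kernel

theorem sorted_3 : sortedChunkF 252 nbR 1620 540 = true := by decide +kernel

theorem sortedRow_ok (a : ℕ) (ha : a < 2160) : sortedRowF 252 (nbR a) = true := by
  by_cases h1 : a < 540
  · exact sortedRow_of_chunk sorted_0 a (by omega) (by omega)
  by_cases h2 : a < 1080
  · exact sortedRow_of_chunk sorted_1 a (by omega) (by omega)
  by_cases h3 : a < 1620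
  · exact sortedRow_of_chunk sorted_2 a (by omega) (by omega)
  · exact sortedRow_of_chunk sorted_3 a (by omega) (by omega)

theorem La_sorted : La.chkSorted = true := chkSorted_of_rows Ra sortedRow_ok

theorem Lb_sorted : Lb.chkSorted = true := chkSorted_of_rows Rb sortedRow_ok

theorem tree_ok : chkTreeF 2160 252 PARN RKN nbR = true := by decide +kernel

theorem La_tree : La.chkTree = true := chkTree_of_rows Ra tree_ok

theorem Lb_tree : Lb.chkTree = true := chkTree_of_rows Rb tree_ok

/-- the words of a pair, reversed -/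
def wAB1 : List ℕ := [1, 0, 1, 1, 1, 0, 1, 0, 1, 0, 1, 0, 1, 1, 1, 0, 1, 0, 1, 0, 0, 1, 1, 1, 1, 1, 1, 0, 1, 0, 1, 1, 1, 1, 1, 1, 0, 1]

/-- the words of a pair, reversed -/
def wBA1 : List ℕ := [0, 1, 1, 1, 1, 1, 1, 0, 1, 0, 1, 1, 1, 1, 1, 1, 0, 1, 1, 0, 1, 1, 1, 0, 1, 0, 1, 0, 1, 0, 1, 1, 1, 0, 1, 0, 1, 0]

theorem wAB1_eq : wAB1 = (wA1 ++ wB1).reverse := by decide

theorem wBA1_eq : wBA1 = (wB1 ++ wA1).reverse := by decide

theorem wA1_lt : ∀ i ∈ wA1, i < 2 := by decide

theorem wB1_lt : ∀ i ∈ wB1, i < 2 := by decide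

/-- the words of a pair, reversed -/
def wAB2 : List ℕ := [1, 0, 1, 1, 1, 1, 1, 0, 0, 1, 0, 1, 1, 1, 1, 1, 0, 0, 0, 1, 0, 1]

/-- the words of a pair, reversed -/
def wBA2 : List ℕ := [0, 1, 0, 1, 1, 0, 1, 1, 1, 1, 1, 0, 0, 1, 0, 1, 1, 1, 1, 1, 0, 0]

theorem wAB2_eq : wAB2 = (wA2 ++ wB2).reverse := by decide

theorem wBA2_eq : wBA2 = (wB2 ++ wA2).reverse := by decide

theorem wA2_lt : ∀ i ∈ wA2, i < 2 := by decide

theorem wB2_lt : ∀ i ∈ wB2, i < 2 := by decide

end Cfsg.Agent.Lib.Helper1.U43
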