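import Mathlib
import Cfsg.Agent.Lib.Helper1.U43I0
import Cfsg.Agent.Lib.Helper1.StemLL7

set_option autoImplicit false
set_option maxRecDepth 100000
set_option maxHeartbeats 0

/-! The special unitary group of degree 4 over the field with 9 elements: the checks of the tables
of a stem extension with a kernel of order 3, on 2160 vectors. -/

namespace Cfsg.Agent.Lib.Helper1.U43

open Cfsg.Agent.Lib.Helper1 Cfsg.Agent.Lib.Helper1.StemLL

/-- the check that a generator lifts at the points from `lo` on, `n` of them -/
def liftChunkb (i lo n : ℕ) : Bool :=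
  force (piN i) fun P => force (lamNb i) fun Lm =>
    liftChunkF 2160 3 252 P Lm nbR rhoRb (hintR i) lo n

theorem liftRowb_of_chunk {i lo n : ℕ} (h : liftChunkb i lo n = true) (j : ℕ) (h1 : lo ≤ j)
    (h2 : j < lo + n) :
    liftRowF 2160 3 252 (piN i) (lamNb i) nbR rhoRb (hintR i j) j = true := by
  unfold liftChunkb at h
  rw [force_eq, force_eq] at h
  exact liftRow_of_chunk h j h1 h2

theorem chunkb_0_0 : liftChunkb 0 0 270 = true := by decide +kernel

theorem chunkb_0_1 : liftChunkb 0 270 270 = true := by decide +kernel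

theorem chunkb_0_2 : liftChunkb 0 540 270 = true := by decide +kernel

theorem chunkb_0_3 : liftChunkb 0 810 270 = true := by decide +kernel

theorem chunkb_0_4 : liftChunkb 0 1080 270 = true := by decide +kernel

theorem chunkb_0_5 : liftChunkb 0 1350 270 = true := by decide +kernel

theorem chunkb_0_6 : liftChunkb 0 1620 270 = true := by decide +kernel

theorem chunkb_0_7 : liftChunkb 0 1890 270 = true := by decide +kernel

theorem chunkb_1_0 : liftChunkb 1 0 270 = true := by decide +kernel

theorem chunkb_1_1 : liftChunkb 1 270 270 = true := by decide +kernel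

theorem chunkb_1_2 : liftChunkb 1 540 270 = true := by decide +kernel

theorem chunkb_1_3 : liftChunkb 1 810 270 = true := by decide +kernel

theorem chunkb_1_4 : liftChunkb 1 1080 270 = true := by decide +kernel

theorem chunkb_1_5 : liftChunkb 1 1350 270 = true := by decide +kernel

theorem chunkb_1_6 : liftChunkb 1 1620 270 = true := by decide +kernel

theorem chunkb_1_7 : liftChunkb 1 1890 270 = true := by decide +kernel

theorem liftRowb_0 (j : ℕ) (hj : j < 2160) :
    liftRowF 2160 3 252 (piN 0) (lamNb 0) nbR rhoRb (hintR 0 j) j = true := by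
  by_cases h0 : j < 270
  · exact liftRowb_of_chunk chunkb_0_0 j (by omega) (by omega)
  by_cases h1 : j < 540
  · exact liftRowb_of_chunk chunkb_0_1 j (by omega) (by omega)
  by_cases h2 : j < 810
  · exact liftRowb_of_chunk chunkb_0_2 j (by omega) (by omega)
  by_cases h3 : j < 1080
  · exact liftRowb_of_chunk chunkb_0_3 j (by omega) (by omega)
  by_cases h4 : j < 1350
  · exact liftRowb_of_chunk chunkb_0_4 j (by omega) (by omega)
  by_cases h5 : j < 1620
  · exact liftRowb_of_chunk chunkb_0_5 j (by omega) (by omega)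
  by_cases h6 : j < 1890
  · exact liftRowb_of_chunk chunkb_0_6 j (by omega) (by omega)
  exact liftRowb_of_chunk chunkb_0_7 j (by omega) (by omega)

theorem liftRowb_1 (j : ℕ) (hj : j < 2160) :
    liftRowF 2160 3 252 (piN 1) (lamNb 1) nbR rhoRb (hintR 1 j) j = true := by
  by_cases h0 : j < 270
  · exact liftRowb_of_chunk chunkb_1_0 j (by omega) (by omega)
  by_cases h1 : j < 540
  · exact liftRowb_of_chunk chunkb_1_1 j (by omega) (by omega)
  by_cases h2 : j < 810
  · exact liftRowb_of_chunk chunkb_1_2 j (by omega) (by omega)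
  by_cases h3 : j < 1080
  · exact liftRowb_of_chunk chunkb_1_3 j (by omega) (by omega)
  by_cases h4 : j < 1350
  · exact liftRowb_of_chunk chunkb_1_4 j (by omega) (by omega)
  by_cases h5 : j < 1620
  · exact liftRowb_of_chunk chunkb_1_5 j (by omega) (by omega)
  by_cases h6 : j < 1890
  · exact liftRowb_of_chunk chunkb_1_6 j (by omega) (by omega)
  exact liftRowb_of_chunk chunkb_1_7 j (by omega) (by omega)

theorem Lb_liftH : Lb.chkLiftH hintF = true := by
  apply chkLiftH_of_rows Rb hintF hintR hintF_eq
  intro i hi j hj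
  have hi' : i < 2 := hi
  interval_cases i
  · exact liftRowb_0 j hj
  · exact liftRowb_1 j hj

theorem pair1b_0 : pairChunkF 3 piN lamNb wAB1 wBA1 0 0 540 = true := by
  decide +kernel

theorem pair1b_1 : pairChunkF 3 piN lamNb wAB1 wBA1 0 540 540 = true := by
  decide +kernel

theorem pair1b_2 : pairChunkF 3 piN lamNb wAB1 wBA1 0 1080 540 = true := by
  decide +kernel

theorem pair1b_3 : pairChunkF 3 piN lamNb wAB1 wBA1 0 1620 540 = true := by
  decide +kernel

theorem Lb_pair1 : Lb.chkPair wA1 wB1 0 = true := by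
  apply chkPair_of_rows Rb wA1 wB1 wAB1 wBA1 0 wAB1_eq wBA1_eq wA1_lt wB1_lt
  intro j hj
  have hj' : j < 2160 := hj
  by_cases h0 : j < 540
  · exact pairRow_of_chunk pair1b_0 j (by omega) (by omega)
  by_cases h1 : j < 1080
  · exact pairRow_of_chunk pair1b_1 j (by omega) (by omega)
  by_cases h2 : j < 1620
  · exact pairRow_of_chunk pair1b_2 j (by omega) (by omega)
  exact pairRow_of_chunk pair1b_3 j (by omega) (by omega)

theorem pair2b_0 : pairChunkF 3 piN lamNb wAB2 wBA2 1 0 540 = true := by
  decide +kernel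

theorem pair2b_1 : pairChunkF 3 piN lamNb wAB2 wBA2 1 540 540 = true := by
  decide +kernel

theorem pair2b_2 : pairChunkF 3 piN lamNb wAB2 wBA2 1 1080 540 = true := by
  decide +kernel

theorem pair2b_3 : pairChunkF 3 piN lamNb wAB2 wBA2 1 1620 540 = true := by
  decide +kernel

theorem Lb_pair2 : Lb.chkPair wA2 wB2 1 = true := by
  apply chkPair_of_rows Rb wA2 wB2 wAB2 wBA2 1 wAB2_eq wBA2_eq wA2_lt wB2_lt
  intro j hj
  have hj' : j < 2160 := hj
  by_cases h0 : j < 540
  · exact pairRow_of_chunk pair2b_0 j (by omega) (by omega)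
  by_cases h1 : j < 1080
  · exact pairRow_of_chunk pair2b_1 j (by omega) (by omega)
  by_cases h2 : j < 1620
  · exact pairRow_of_chunk pair2b_2 j (by omega) (by omega)
  exact pairRow_of_chunk pair2b_3 j (by omega) (by omega)

theorem Lb_wit : Lb.chkWit = true := chkWit_of_pair wA2 wB2 rfl Lb_pair2

theorem Lb_chk : Lb.chk = true := by
  unfold LLData.chk
  rw [LLData.chkLift_of_hint hintF Lb_range Lb_sorted Lb_liftH, Lb_range, Lb_tree, Lb_wit]
  decide

end Cfsg.Agent.Lib.Helper1.U43
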