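import Mathlib
import Cfsg.Agent.Lib.Helper1.U43C
import Cfsg.Agent.Lib.Helper1.U43I1
import Cfsg.Agent.Lib.Helper1.U43I2
import Cfsg.Agent.Lib.Helper1.StemLL9
import Cfsg.Agent.Lib.Helper1.StemLL10
import Cfsg.Agent.Lib.Helper1.Stem21

set_option autoImplicit false
set_option maxRecDepth 100000
set_option maxHeartbeats 0

/-! The special unitary group of degree 4 over the field with 9 elements: a stem extension whose
kernel is the product of two groups of order 3. -/

namespace Cfsg.Agent.Lib.Helper1.U43

open Cfsg Matrix Cfsg.Agent.Lib.Helper1 Cfsg.Agent.Lib.Helper1.MatCode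
  Cfsg.Agent.Lib.Helper1.MatAct MulAction
open Cfsg.Agent.Lib.Helper1.Stem Cfsg.Agent.Lib.Helper1.StemLL

theorem pi_chk : (List.range 2).all (fun i => (List.range 2160).all fun j =>
    La.pi i j == D2160.pi i j) = true := by decide +kernel

theorem pi_eq (i : ℕ) (hi : i < 2) (j : ℕ) (hj : j < 2160) : La.pi i j = D2160.pi i j := by
  have h := pi_chk
  rw [List.all_eq_true] at h
  have h1 := h i (List.mem_range.mpr hi)
  rw [List.all_eq_true] at h1
  have h2 := h1 j (List.mem_range.mpr hj)
  rwa [beq_iff_eq] at h2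

theorem unit_chk : ∀ r i j : Fin 8, D (ex1 (PV2160 (unitIdx.getD r.val 0))) i j =
    if i = r ∧ j = 0 then 1 else 0 := by
  unfold D dec
  decide +kernel

theorem unit_lt : ∀ r : Fin 8, unitIdx.getD r.val 0 < 2160 := by decide

/-- the action on the 2160 vectors is faithful -/
theorem faithful2160 (g : Gm) (h : ∀ j < 2160, g • pt2160 j = pt2160 j) : g = 1 := by
  apply φ_injective
  rw [map_one]
  ext i r
  have h1 := h _ (unit_lt r)
  rw [smul_mat_eq] at h1
  have h2 := congrFun (congrFun h1 i) 0
  rw [Matrix.mul_apply] at h2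
  have e : ∀ k : Fin 8, pt2160 (unitIdx.getD r.val 0) k 0 = if k = r then 1 else 0 := by
    intro k
    have := unit_chk r k 0
    simp only [and_true] at this
    exact this
  simp only [e, mul_ite, mul_one, mul_zero, Finset.sum_ite_eq', Finset.mem_univ, if_true] at h2
  rw [h2, Matrix.one_apply]

theorem move_chk : La.pi mvI mvJ ≠ mvJ := by decide +kernel

theorem rawHypA : RawHyp La pt2160 GG where
  range := La_range
  pos := by decide
  act := fun i hi j hj => by
    rw [pi_eq i hi j hj]
    exact pi_act2160 i hi j hj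
  gen := hgen
  inj := fun j hj j' hj' h => pt2160_inj j hj j' hj' h
  move := ⟨mvI, by decide, mvJ, by decide, move_chk⟩

theorem rawHypB : RawHyp Lb pt2160 GG where
  range := Lb_range
  pos := by decide
  act := fun i hi j hj => by
    have e : Lb.pi i j = La.pi i j := rfl
    rw [e, pi_eq i hi j hj]
    exact pi_act2160 i hi j hj
  gen := hgen
  inj := fun j hj j' hj' h => pt2160_inj j hj j' hj' h
  move := ⟨mvI, by decide, mvJ, by decide, move_chk⟩

instance neZeroLa : NeZero La.c := ⟨by decide⟩

instance neZeroLb : NeZero Lb.c := ⟨by decide⟩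

/-- the action on the points -/
noncomputable instance actSubA : MulAction Gm ↥(rawSub rawHypA) :=
  @SubMulAction.mulAction Gm _ _ _ (rawSub rawHypA)

noncomputable instance actSubB : MulAction Gm ↥(rawSub rawHypB) :=
  @SubMulAction.mulAction Gm _ _ _ (rawSub rawHypB)

/-- the hypotheses of the labelled lifts -/
theorem hypA : LLHyp La (ptSub rawHypA) GG := sub_hyp_of_faithful rawHypA faithful2160

theorem hypB : LLHyp Lb (ptSub rawHypB) GG := sub_hyp_of_faithful rawHypB faithful2160

/-- the two covers -/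
noncomputable abbrev σa := sig Gm La.c (EY La (ptSub rawHypA)) (rhoY La (ptSub rawHypA))

noncomputable abbrev σb := sig Gm Lb.c (EY Lb (ptSub rawHypB)) (rhoY Lb (ptSub rawHypB))

theorem coverA : Cfsg.IsStemExtension σa ∧ IsCyclic σa.ker ∧ Nat.card σa.ker = 3 :=
  stem_of_data La (ptSub rawHypA) GG hypA La_chk

theorem coverB : Cfsg.IsStemExtension σb ∧ IsCyclic σb.ker ∧ Nat.card σb.ker = 3 :=
  stem_of_data Lb (ptSub rawHypB) GG hypB Lb_chk

/-- the cover with kernel of order 9 -/
theorem stem_ab : Cfsg.IsStemExtension (fibreHom σa σb) :=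
  fibre_isStem La Lb (ptSub rawHypA) (ptSub rawHypB) GG hypA hypB La_chk Lb_chk _ _ _ _
    La_pair1 Lb_pair1 La_pair2 Lb_pair2

theorem card_ker_ab : Nat.card (fibreHom σa σb).ker = 9 := by
  rw [Nat.card_congr (kerFibreEquiv σa σb).toEquiv, Nat.card_prod, coverA.2.2, coverB.2.2]

/-- the kernel of the cover -/
theorem nonempty_kerEquiv_ab : Nonempty ((fibreHom σa σb).ker ≃*
    Multiplicative (ZMod 3) × Multiplicative (ZMod 3)) := by
  have e2 := kerFibreEquiv σa σb
  have ca : Multiplicative (ZMod 3) ≃* σa.ker := by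
    have := zmodCyclicMulEquiv coverA.2.1
    rwa [coverA.2.2] at this
  have cb : Multiplicative (ZMod 3) ≃* σb.ker := by
    have := zmodCyclicMulEquiv coverB.2.1
    rwa [coverB.2.2] at this
  exact ⟨e2.trans (MulEquiv.prodCongr ca.symm cb.symm)⟩

end Cfsg.Agent.Lib.Helper1.U43
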