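import Mathlib
import Cfsg.Agent.Lib.Helper1.U43E
import Cfsg.Agent.Lib.Helper1.U43J
import Cfsg.Agent.Lib.Helper1.Stem12
import Cfsg.Agent.Lib.Helper1.Stem14
import Cfsg.Agent.Lib.Helper1.Stem22
import Cfsg.Agent.Lib.Helper1.SUCongr

set_option autoImplicit false
set_option maxRecDepth 100000

/-! The multiplier of the projective special unitary group of degree 4 over a field with 9
elements. -/

namespace Cfsg.Agent.Lib.Helper1.U43

open Cfsg Matrix Cfsg.Agent.Lib.Helper1 Cfsg.Agent.Lib.Helper1.MatCode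
  Cfsg.Agent.Lib.Helper1.MatAct
open Cfsg.Agent.Lib.Helper1.Stem Cfsg.Agent.Lib.Helper1.StemLL

universe u

/-- the order of the centre -/
theorem card_center : Nat.card (Subgroup.center Gm) = 4 := by
  have h := Cfsg.Agent.S0279.result (F := F9c) (q := 3) F9c.card 4 (by norm_num)
  rw [h]
  decide

/-- a scalar of order 4 -/
def zI : Gm := SUCenter.scalarSU (⟨0, 1⟩ : F9c) (by decide +kernel) (by decide +kernel)

/-- its code -/
def cZ : ℕ := 0x100000000000000000000000000020000000000000000000000000000000000000000000100000000000000000000000000020000000000000000000000000000000000000000000100000000000000000000000000020000000000000000000000000000000000000000000100000000000000000000000000020000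

theorem zI_mem : zI ∈ Subgroup.center Gm := SUCenter.scalarSU_mem_center _ _ _

theorem Phi_zI : Phi ((⟨0, 1⟩ : F9c) • (1 : Matrix (Fin 4) (Fin 4) F9c)) = D cZ := by
  have : ∀ i j : Fin 8, PhiFun ((⟨0, 1⟩ : F9c) • (1 : Matrix (Fin 4) (Fin 4) F9c)) i j =
      D cZ i j := by
    unfold D dec
    decide +kernel
  ext i j
  rw [Phi_apply]
  exact this i j

theorem φ_zI : φ zI = D cZ := by rw [φ_apply, ← Phi_zI]; rfl

theorem cZ_chk : canonB 8 3 cZ = true ∧ ev 8 3 c1 [cZ] [0, 0, 0, 0] = c1 ∧
    neB 8 3 (ev 8 3 c1 [cZ] [0, 0]) c1 = true := by decide +kernel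

theorem codedZ : Coded φ c1 [zI] [cZ] where
  size := size83
  inj := φ_injective
  one := D_c1
  cn1 := cn_c1
  len := rfl
  get := by
    intro i hi
    have hi' : i < 1 := hi
    interval_cases i
    exact φ_zI
  can := by
    intro c hc
    rw [List.mem_singleton] at hc
    subst hc
    exact canon_of_canonB 8 3 cZ_chk.1

theorem zI_pow4 : zI ^ 4 = 1 := by
  have h := codedZ.eq_one_of_ev [0, 0, 0, 0] cZ_chk.2.1
  rw [← h]
  simp only [wordProd_cons, wordProd_nil, mul_one, pow_succ, pow_zero, one_mul, mul_assoc]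
  rfl

theorem zI_pow2 : zI ^ 2 ≠ 1 := by
  intro h
  have h1 := codedZ.phi_wordProd [0, 0]
  have e : wordProd [zI] [0, 0] = zI ^ 2 := by
    simp only [wordProd_cons, wordProd_nil, mul_one, pow_succ, pow_zero, one_mul]
    rfl
  rw [e, h, map_one, ← D_c1] at h1
  exact dec_ne_of_neB 8 3 cZ_chk.2.2 h1.symm

theorem orderOf_zI : orderOf zI = 4 := by
  haveI : Fact (Nat.Prime 2) := ⟨Nat.prime_two⟩
  have := orderOf_eq_prime_pow (p := 2) (n := 1) (x := zI) (by rw [pow_one]; exact zI_pow2)
    (by norm_num; exact zI_pow4)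
  rw [this]
  norm_num

/-- the centre is cyclic -/
theorem center_cyclic : IsCyclic (Subgroup.center Gm) := by
  apply isCyclic_of_orderOf_eq_card (⟨zI, zI_mem⟩ : Subgroup.center Gm)
  rw [card_center, Subgroup.orderOf_mk, orderOf_zI]

/-- the quotient map -/
def τ : Gm →* Cfsg.PSU 4 F9c 3 := QuotientGroup.mk' (Subgroup.center Gm)

theorem τ_surjective : Function.Surjective τ := QuotientGroup.mk'_surjective _

theorem τ_ker : τ.ker = Subgroup.center Gm := QuotientGroup.ker_mk' _

theorem psu_perfect : commutator (Cfsg.PSU 4 F9c 3) = ⊤ :=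
  commutator_eq_top_of_surjective τ τ_surjective Gm_perfect

/-- the cover of the quotient -/
noncomputable abbrev σ₀ : ↥(fibreProd σa σb) →* Cfsg.PSU 4 F9c 3 := τ.comp (fibreHom σa σb)

theorem σ₀_isStem : Cfsg.IsStemExtension σ₀ :=
  isStem_comp (fibreHom σa σb) τ stem_ab τ_surjective (by rw [τ_ker]) Gm_perfect

/-- the kernel of the cover of the quotient -/
theorem nonempty_kerEquiv : Nonempty (σ₀.ker ≃* Multiplicative (ZMod 4 × ZMod 3 × ZMod 3)) := by
  obtain ⟨e1⟩ := nonempty_kerCompEquiv (fibreHom σa σb) τ stem_ab.1 σ₀_isStem.2.1 (by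
    rw [τ_ker, card_center, card_ker_ab]; decide)
  obtain ⟨e2⟩ := nonempty_kerEquiv_ab
  have c4 : Multiplicative (ZMod 4) ≃* τ.ker := by
    have h : IsCyclic τ.ker := by rw [τ_ker]; exact center_cyclic
    have hk : Nat.card τ.ker = 4 := by rw [τ_ker]; exact card_center
    have := zmodCyclicMulEquiv h
    rw [hk] at this
    exact this
  have e3 : σ₀.ker ≃*
      Multiplicative (ZMod 4) × (Multiplicative (ZMod 3) × Multiplicative (ZMod 3)) :=
    e1.trans (MulEquiv.prodCongr c4.symm e2)
  have e4 : Multiplicative (ZMod 4 × ZMod 3 × ZMod 3) ≃*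
      Multiplicative (ZMod 4) × (Multiplicative (ZMod 3) × Multiplicative (ZMod 3)) :=
    MulEquiv.trans (MulEquiv.prodMultiplicative _ _)
      (MulEquiv.prodCongr (MulEquiv.refl _) (MulEquiv.prodMultiplicative _ _))
  exact ⟨e3.trans e4.symm⟩

theorem card_target : Nat.card (Multiplicative (ZMod 4 × ZMod 3 × ZMod 3)) = 36 := by
  show Nat.card (ZMod 4 × ZMod 3 × ZMod 3) = 36
  rw [Nat.card_eq_fintype_card, Fintype.card_prod, Fintype.card_prod, ZMod.card, ZMod.card]

/-- the kernels of the stem extensions of the quotient -/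
theorem hub_psu (Γ : Type u) [Group Γ] [Finite Γ] (σ : Γ →* Cfsg.PSU 4 F9c 3)
    (hσ : Cfsg.IsStemExtension σ) : Nat.card σ.ker ∣ 36 := by
  let eu : ULift.{u} Gm ≃* Gm := MulEquiv.ulift
  let τ' : ULift.{u} Gm →* Cfsg.PSU 4 F9c 3 := τ.comp eu.toMonoidHom
  have hτ' : Function.Surjective τ' := τ_surjective.comp eu.surjective
  have hmem : ∀ x : ULift.{u} Gm, x ∈ τ'.ker ↔ eu x ∈ Subgroup.center Gm := by
    intro x
    have h1 : eu x ∈ τ.ker ↔ eu x ∈ Subgroup.center Gm := by rw [τ_ker]
    rw [← h1, MonoidHom.mem_ker, MonoidHom.mem_ker]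
    rfl
  have hcen : τ'.ker ≤ Subgroup.center (ULift.{u} Gm) := by
    intro x hx
    have h1 := (hmem x).mp hx
    rw [Subgroup.mem_center_iff] at h1 ⊢
    intro y
    apply eu.injective
    rw [map_mul, map_mul]
    exact h1 (eu y)
  have hperf : commutator (ULift.{u} Gm) = ⊤ := commutator_eq_top_of_equiv eu.symm Gm_perfect
  have hcard : Nat.card τ'.ker = 4 := by
    refine Eq.trans ?_ card_center
    apply Nat.card_congr
    exact
      { toFun := fun x => ⟨eu x.1, (hmem x.1).mp x.2⟩
        invFun := fun g => ⟨eu.symm g.1, (hmem _).mpr (by rw [eu.apply_symm_apply]; exact g.2)⟩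
        left_inv := fun x => Subtype.ext (eu.symm_apply_apply x.1)
        right_inv := fun g => Subtype.ext (eu.apply_symm_apply g.1) }
  have h := card_ker_dvd_of_central_quotient τ' hτ' hcen hperf 9 (by
    intro Γ' _ _ σ' hσ'
    have h1 := isStem_comp_equiv (MulEquiv.refl Γ') eu σ' hσ'
    have e2 := kerEquiv (MulEquiv.refl Γ') eu σ'
    rw [← Nat.card_congr e2.toEquiv]
    exact hub Γ' _ h1) σ hσ
  rw [hcard] at h
  exact h

/-- the multiplier of a group isomorphic to the quotient -/
theorem main {G : Type u} [Group G] (f : Cfsg.PSU 4 F9c 3 ≃* G) :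
    Cfsg.HasSchurMultiplier G (Multiplicative (ZMod 4 × ZMod 3 × ZMod 3)) := by
  obtain ⟨e⟩ := nonempty_kerEquiv
  apply hasSchurMultiplier_of_cover_of_bound f psu_perfect _ σ₀ σ₀_isStem e
  intro Γ' _ _ σ' hσ'
  rw [card_target]
  exact Nat.le_of_dvd (by norm_num) (hub_psu Γ' σ' hσ')

/-- the multiplier of the projective special unitary group of degree 4 over a field with 9
elements -/
theorem main_field {F : Type u} [Field F] [Fintype F] (hF : Fintype.card F = 9) :
    Cfsg.HasSchurMultiplier (Cfsg.PSU 4 F 3) (Multiplicative (ZMod 4 × ZMod 3 × ZMod 3)) :=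
  main (SUCongr.psuCongr (FiniteField.ringEquivOfCardEq (by rw [hF]; rfl)))

end Cfsg.Agent.Lib.Helper1.U43
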