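import Mathlib
import Cfsg.Prelude.Def_Classical
import Cfsg.Agent.Lib.Helper5.UniO1

set_option autoImplicit false

/-!
# S5994-96 swarm, PK-HYP: `g ⊕ g⁻ᵀ` on the hyperbolic space

For a partition `ν` of `n` there is a unipotent isometry of the split form `∑ xᵢ yᵢ` on `Fin n ⊕ Fin n → F` of
Jordan type `ν + ν`: take `g = 1 + N₀` with `N₀` nilpotent of type `ν` and `x = diag (g, g⁻ᵀ)`.
-/

open Module
open scoped Matrix

namespace Cfsg.Agent.Lib.Helper5.UniO

universe u v w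

section hyp
variable {F : Type u} [Field F]

/-- multiplying a nilpotent endomorphism by a commuting left-invertible one does not change the Jordan type -/
theorem HasJT.of_mul_left {V : Type v} [AddCommGroup V] [Module F V] {N U U' : Module.End F V}
    {μ : Multiset ℕ} (hcomm : Commute U N) (hU : U' * U = 1) (h : HasJT N μ) : HasJT (U * N) μ := by
  apply h.of_ker_eq
  intro k
  rw [hcomm.mul_pow]
  have hk : U' ^ k * U ^ k = 1 := by
    induction k with
    | zero => simp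
    | succ k ih =>
      calc U' ^ (k + 1) * U ^ (k + 1) = U' ^ k * (U' * U) * U ^ k := by
            rw [pow_succ U' k, pow_succ' U k]; simp only [mul_assoc]
        _ = 1 := by rw [hU, mul_one, ih]
  ext v
  simp only [LinearMap.mem_ker, Module.End.mul_apply]
  constructor
  · intro hv
    have h1 := congrArg (U' ^ k) hv
    rw [← Module.End.mul_apply, hk, map_zero] at h1
    exact h1
  · intro hv
    rw [hv, map_zero]

/-- the kernel of a matrix and of its transpose have the same dimension -/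
theorem hyp_finrank_ker_transpose {n : Type} [Fintype n] [DecidableEq n] (M : Matrix n n F) :
    finrank F (LinearMap.ker (Matrix.toLin' Mᵀ)) = finrank F (LinearMap.ker (Matrix.toLin' M)) := by
  have h1 := LinearMap.finrank_range_add_finrank_ker (Matrix.toLin' Mᵀ)
  have h2 := LinearMap.finrank_range_add_finrank_ker (Matrix.toLin' M)
  have h3 : finrank F (LinearMap.range (Matrix.toLin' Mᵀ)) =
      finrank F (LinearMap.range (Matrix.toLin' M)) := by
    have := Matrix.rank_transpose M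
    unfold Matrix.rank at this
    rw [Matrix.toLin'_apply', Matrix.toLin'_apply']
    exact this
  omega

/-- a matrix and its transpose have the same Jordan type -/
theorem hasJT_transpose {n : Type} [Fintype n] [DecidableEq n] (M : Matrix n n F) {μ : Multiset ℕ}
    (h : HasJT (Matrix.toLin' M) μ) : HasJT (Matrix.toLin' Mᵀ) μ := by
  refine ⟨h.1, fun k => ?_⟩
  rw [← h.2 k, ← Matrix.toLin'_pow, ← Matrix.toLin'_pow, ← Matrix.transpose_pow]
  exact hyp_finrank_ker_transpose (M ^ k)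

/-- `g ⊕ g⁻ᵀ` on the hyperbolic space -/
theorem exists_hyp (ν : Multiset ℕ) (hpos : ∀ a ∈ ν, 0 < a) (n : ℕ) (hn : ν.sum = n) :
    ∃ x : GL (Fin n ⊕ Fin n) F, x ∈ Cfsg.isometryGroup F (Cfsg.quadFormPlus n F) ∧
      HasJT (Matrix.toLin' (x : Matrix (Fin n ⊕ Fin n) (Fin n ⊕ Fin n) F) - 1) (ν + ν) := by
  classical
  -- a nilpotent endomorphism of type `ν`
  have hval : (Finset.univ : Finset (Fin ν.toList.length)).val.map ν.toList.get = ν := by
    rw [Fin.univ_val_map, List.ofFn_get, Multiset.coe_toList]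
  have hsum : ∑ i, ν.toList.get i = n := by
    rw [← hn]
    conv_rhs => rw [← hval]
    rfl
  obtain ⟨N₀, hd⟩ := exists_isJordanDecomp (F := F) ν.toList.get n hsum
  have hJ₀ : HasJT N₀ ν := ⟨hpos, fun k => by rw [hd.finrank_ker_pow' k, hval]⟩
  have hnil₀ : IsNilpotent N₀ := hJ₀.isNilpotent (by rw [hn, Module.finrank_fin_fun])
  -- in matrices
  have hN₀ : Matrix.toLin' (LinearMap.toMatrix' N₀) = N₀ := Matrix.toLin'_toMatrix' N₀
  have hnil : IsNilpotent (LinearMap.toMatrix' N₀) := by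
    obtain ⟨m, hm⟩ := hnil₀
    refine ⟨m, ?_⟩
    apply Matrix.toLin'.injective
    rw [Matrix.toLin'_pow, hN₀, hm, map_zero]
  obtain ⟨a, ha⟩ := hnil.isUnit_one_add
  have hAC : (a : Matrix (Fin n) (Fin n) F) * ((a⁻¹ : (Matrix (Fin n) (Fin n) F)ˣ) : Matrix _ _ F) = 1 :=
    a.mul_inv
  have hCA : ((a⁻¹ : (Matrix (Fin n) (Fin n) F)ˣ) : Matrix _ _ F) * (a : Matrix (Fin n) (Fin n) F) = 1 :=
    a.inv_mul
  have hcomm : Commute ((a⁻¹ : (Matrix (Fin n) (Fin n) F)ˣ) : Matrix (Fin n) (Fin n) F)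
      (LinearMap.toMatrix' N₀) := by
    apply Commute.units_inv_left
    rw [ha]
    exact (Commute.one_left _).add_left (Commute.refl _)
  -- the element
  have hx1 : Matrix.fromBlocks (a : Matrix (Fin n) (Fin n) F) 0 0
        (((a⁻¹ : (Matrix (Fin n) (Fin n) F)ˣ) : Matrix (Fin n) (Fin n) F))ᵀ *
      Matrix.fromBlocks (((a⁻¹ : (Matrix (Fin n) (Fin n) F)ˣ) : Matrix (Fin n) (Fin n) F)) 0 0
        ((a : Matrix (Fin n) (Fin n) F))ᵀ = 1 := by
    rw [Matrix.fromBlocks_multiply]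
    simp only [Matrix.mul_zero, Matrix.zero_mul, add_zero, zero_add]
    rw [hAC, ← Matrix.transpose_mul, hAC, Matrix.transpose_one, Matrix.fromBlocks_one]
  have hx2 : Matrix.fromBlocks (((a⁻¹ : (Matrix (Fin n) (Fin n) F)ˣ) : Matrix (Fin n) (Fin n) F)) 0 0
        ((a : Matrix (Fin n) (Fin n) F))ᵀ *
      Matrix.fromBlocks (a : Matrix (Fin n) (Fin n) F) 0 0
        (((a⁻¹ : (Matrix (Fin n) (Fin n) F)ˣ) : Matrix (Fin n) (Fin n) F))ᵀ = 1 := by
    rw [Matrix.fromBlocks_multiply]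
    simp only [Matrix.mul_zero, Matrix.zero_mul, add_zero, zero_add]
    rw [hCA, ← Matrix.transpose_mul, hCA, Matrix.transpose_one, Matrix.fromBlocks_one]
  refine ⟨⟨_, _, hx1, hx2⟩, ?_, ?_⟩
  · -- isometry
    intro u _
    change Cfsg.quadFormPlus n F (Matrix.fromBlocks (a : Matrix (Fin n) (Fin n) F) 0 0
        (((a⁻¹ : (Matrix (Fin n) (Fin n) F)ˣ) : Matrix (Fin n) (Fin n) F))ᵀ *ᵥ u) = Cfsg.quadFormPlus n F u
    unfold Cfsg.quadFormPlus
    rw [Matrix.fromBlocks_mulVec]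
    simp only [Matrix.zero_mulVec, add_zero, zero_add, Sum.elim_inl, Sum.elim_inr]
    change ((a : Matrix (Fin n) (Fin n) F) *ᵥ (u ∘ Sum.inl)) ⬝ᵥ
      ((((a⁻¹ : (Matrix (Fin n) (Fin n) F)ˣ) : Matrix (Fin n) (Fin n) F))ᵀ *ᵥ (u ∘ Sum.inr)) =
      (u ∘ Sum.inl) ⬝ᵥ (u ∘ Sum.inr)
    rw [Matrix.dotProduct_mulVec, Matrix.vecMul_transpose, Matrix.mulVec_mulVec, hCA, Matrix.one_mulVec]
  · -- Jordan type
    change HasJT (Matrix.toLin' (Matrix.fromBlocks (a : Matrix (Fin n) (Fin n) F) 0 0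
        (((a⁻¹ : (Matrix (Fin n) (Fin n) F)ˣ) : Matrix (Fin n) (Fin n) F))ᵀ) - 1) (ν + ν)
    have hJ1 : HasJT (Matrix.toLin' ((a : Matrix (Fin n) (Fin n) F) - 1)) ν := by
      rw [ha, add_sub_cancel_left, hN₀]
      exact hJ₀
    have hC1 : ((a⁻¹ : (Matrix (Fin n) (Fin n) F)ˣ) : Matrix (Fin n) (Fin n) F) - 1 =
        (-((a⁻¹ : (Matrix (Fin n) (Fin n) F)ˣ) : Matrix (Fin n) (Fin n) F)) * LinearMap.toMatrix' N₀ := by
      have h1 := hCA
      rw [ha, mul_add, mul_one] at h1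
      rw [neg_mul, ← h1]
      abel
    have hJ2 : HasJT (Matrix.toLin' ((((a⁻¹ : (Matrix (Fin n) (Fin n) F)ˣ) :
        Matrix (Fin n) (Fin n) F))ᵀ - 1)) ν := by
      have h1 : (((a⁻¹ : (Matrix (Fin n) (Fin n) F)ˣ) : Matrix (Fin n) (Fin n) F))ᵀ - 1 =
          (((a⁻¹ : (Matrix (Fin n) (Fin n) F)ˣ) : Matrix (Fin n) (Fin n) F) - 1)ᵀ := by
        rw [Matrix.transpose_sub, Matrix.transpose_one]
      rw [h1]
      apply hasJT_transpose
      rw [hC1, Matrix.toLin'_mul, ← Module.End.mul_eq_comp]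
      apply HasJT.of_mul_left (U' := Matrix.toLin' (-(a : Matrix (Fin n) (Fin n) F)))
      · have h2 : Commute (-((a⁻¹ : (Matrix (Fin n) (Fin n) F)ˣ) : Matrix (Fin n) (Fin n) F))
            (LinearMap.toMatrix' N₀) := hcomm.neg_left
        change _ * _ = _ * _
        rw [Module.End.mul_eq_comp, Module.End.mul_eq_comp, ← Matrix.toLin'_mul, ← Matrix.toLin'_mul, h2.eq]
      · rw [Module.End.mul_eq_comp, ← Matrix.toLin'_mul, neg_mul_neg, hAC, Matrix.toLin'_one]
        rfl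
      · rw [hN₀]
        exact hJ₀
    apply (hJ1.prodMap hJ2).of_intertwine
      (LinearEquiv.sumArrowLequivProdArrow (Fin n) (Fin n) F F).symm
    rintro ⟨p, q⟩
    funext i
    rw [LinearMap.sub_apply, Matrix.toLin'_apply, Matrix.fromBlocks_mulVec]
    rcases i with i | i
    · simp [LinearEquiv.sumArrowLequivProdArrow, Equiv.sumArrowEquivProdArrow,
        Function.comp_def]
    · simp [LinearEquiv.sumArrowLequivProdArrow, Equiv.sumArrowEquivProdArrow,
        Function.comp_def]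

end hyp

end Cfsg.Agent.Lib.Helper5.UniO
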