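import Mathlib
import Cfsg.Agent.Lib.Helper1.DiagForm1

set_option autoImplicit false

/-!
# S5994-96 swarm, PK-ISO: scaling an odd-dimensional summand reaches every diagonal form

Over a finite field of odd characteristic, for nondegenerate quadratic forms `Q₁` (odd dimension) and `Q₂`,
some nonzero multiple `c • Q₁ ⊥ Q₂` is isometric to any prescribed diagonal form `wss w` of the right dimension.
-/

open Module Cfsg.Agent.Lib.Helper1.DiagForm

namespace Cfsg.Agent.Lib.Helper5.UniO

universe u v w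

section iso
variable {F : Type u} [Field F]

/-- a nondegenerate quadratic form in odd characteristic is a diagonal form with nonzero weights -/
theorem iso_exists_equiv_wss (h2 : (2 : F) ≠ 0)
    {V : Type v} [AddCommGroup V] [Module F V] [FiniteDimensional F V]
    (Q : QuadraticForm F V) (hQ : (QuadraticMap.polarBilin Q).Nondegenerate) :
    ∃ w : Fin (finrank F V) → F, (∀ i, w i ≠ 0) ∧
      ∃ e : V ≃ₗ[F] (Fin (finrank F V) → F), ∀ v, wss w (e v) = Q v := by
  have _inst : Invertible (2 : F) := invertibleOfNonzero h2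
  have hsep : (QuadraticMap.associated (R := F) Q).SeparatingLeft := by
    intro x hx
    apply hQ.1 x
    intro y
    have h := hx y
    rw [QuadraticMap.associated_apply] at h
    rw [QuadraticMap.polarBilin_apply_apply, QuadraticMap.polar]
    have h' : (⅟ (2 : F)) * (Q (x + y) - Q x - Q y) = 0 := by simpa using h
    rcases mul_eq_zero.mp h' with h0 | h0
    · rw [invOf_eq_inv] at h0
      exact absurd h0 (inv_ne_zero h2)
    · exact h0
  obtain ⟨w, ⟨iso⟩⟩ := QuadraticForm.equivalent_weightedSumSquares_units_of_nondegenerate' Q hsep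
  refine ⟨fun i => (w i : F), fun i => (w i).ne_zero, iso.toLinearEquiv, fun v => ?_⟩
  have h := iso.map_app v
  rw [QuadraticMap.weightedSumSquares_apply] at h
  rw [← h]
  unfold wss
  apply Finset.sum_congr rfl
  intro i _
  rw [Units.smul_def, smul_eq_mul, pow_two]
  rfl

/-- reindexing a weighted sum of squares -/
theorem iso_wss_funCongrLeft {ι κ : Type} [Fintype ι] [Fintype κ] (σ : κ ≃ ι)
    (w : ι → F) (v : ι → F) :
    wss (fun x => w (σ x)) (LinearEquiv.funCongrLeft F F σ v) = wss w v := by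
  unfold wss
  rw [← Equiv.sum_comp σ (fun i => w i * v i ^ 2)]
  rfl

/-- scaling one coordinate by a nonzero factor, as a linear equivalence -/
def isoScale {κ : Type} [DecidableEq κ] (x₀ : κ) (t : F) (ht : t ≠ 0) : (κ → F) ≃ₗ[F] (κ → F) where
  toFun v := fun i => Function.update (fun _ => (1 : F)) x₀ t i * v i
  invFun v := fun i => (Function.update (fun _ => (1 : F)) x₀ t i)⁻¹ * v i
  map_add' v v' := by
    funext i
    simp only [Pi.add_apply]
    ring
  map_smul' r v := by
    funext i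
    simp only [Pi.smul_apply, smul_eq_mul, RingHom.id_apply]
    ring
  left_inv v := by
    funext i
    have hne : Function.update (fun _ => (1 : F)) x₀ t i ≠ 0 := by
      by_cases hi : i = x₀
      · rw [hi, Function.update_self]; exact ht
      · rw [Function.update_of_ne hi]; exact one_ne_zero
    change (Function.update (fun _ => (1 : F)) x₀ t i)⁻¹ * (Function.update (fun _ => (1 : F)) x₀ t i * v i) = v i
    rw [← mul_assoc, inv_mul_cancel₀ hne, one_mul]
  right_inv v := by
    funext i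
    have hne : Function.update (fun _ => (1 : F)) x₀ t i ≠ 0 := by
      by_cases hi : i = x₀
      · rw [hi, Function.update_self]; exact ht
      · rw [Function.update_of_ne hi]; exact one_ne_zero
    change Function.update (fun _ => (1 : F)) x₀ t i * ((Function.update (fun _ => (1 : F)) x₀ t i)⁻¹ * v i) = v i
    rw [← mul_assoc, mul_inv_cancel₀ hne, one_mul]

theorem isoScale_apply {κ : Type} [DecidableEq κ] (x₀ : κ) (t : F) (ht : t ≠ 0) (v : κ → F) (i : κ) :
    isoScale x₀ t ht v i = Function.update (fun _ => (1 : F)) x₀ t i * v i := rfl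

/-- scaling coordinate `x₀` by `t` multiplies the weight at `x₀` by `t ^ 2` -/
theorem iso_wss_scale {κ : Type} [Fintype κ] [DecidableEq κ] (x₀ : κ) (t : F) (ht : t ≠ 0) (P : F)
    (v : κ → F) :
    wss (Function.update (fun _ => (1 : F)) x₀ P) (isoScale x₀ t ht v) =
      wss (Function.update (fun _ => (1 : F)) x₀ (P * t ^ 2)) v := by
  unfold wss
  apply Finset.sum_congr rfl
  intro i _
  rw [isoScale_apply]
  by_cases hi : i = x₀
  · rw [hi, Function.update_self, Function.update_self, Function.update_self]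
    ring
  · rw [Function.update_of_ne hi, Function.update_of_ne hi, Function.update_of_ne hi]
    ring

/-- scaling an odd-dimensional summand reaches every diagonal form of the right dimension -/
theorem exists_scale_equiv [Fintype F] (h2 : (2 : F) ≠ 0)
    {V₁ : Type v} [AddCommGroup V₁] [Module F V₁] [FiniteDimensional F V₁]
    {V₂ : Type w} [AddCommGroup V₂] [Module F V₂] [FiniteDimensional F V₂]
    (Q₁ : QuadraticForm F V₁) (Q₂ : QuadraticForm F V₂)
    (h₁ : (QuadraticMap.polarBilin Q₁).Nondegenerate) (h₂ : (QuadraticMap.polarBilin Q₂).Nondegenerate)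
    (hodd : Odd (finrank F V₁)) {ι : Type} [Fintype ι] [DecidableEq ι] (w : ι → F)
    (hw : ∀ i, w i ≠ 0) (hcard : Fintype.card ι = finrank F V₁ + finrank F V₂) :
    ∃ c : F, c ≠ 0 ∧ ∃ e : (V₁ × V₂) ≃ₗ[F] (ι → F), ∀ v, wss w (e v) = c * Q₁ v.1 + Q₂ v.2 := by
  obtain ⟨w₁, hw₁, e₁, he₁⟩ := iso_exists_equiv_wss h2 Q₁ h₁
  obtain ⟨w₂, hw₂, e₂, he₂⟩ := iso_exists_equiv_wss h2 Q₂ h₂
  obtain ⟨m, hm⟩ := hodd
  have hP : (∏ i, w i) ≠ 0 := Finset.prod_ne_zero_iff.mpr (fun i _ => hw i)
  have hP₁ : (∏ i, w₁ i) ≠ 0 := Finset.prod_ne_zero_iff.mpr (fun i _ => hw₁ i)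
  have hP₂ : (∏ i, w₂ i) ≠ 0 := Finset.prod_ne_zero_iff.mpr (fun i _ => hw₂ i)
  have hc : (∏ i, w i) * (∏ i, w₁ i) * (∏ i, w₂ i) ≠ 0 := mul_ne_zero (mul_ne_zero hP hP₁) hP₂
  refine ⟨(∏ i, w i) * (∏ i, w₁ i) * (∏ i, w₂ i), hc, ?_⟩
  -- the weights on the sum type
  have hwκ : ∀ x : Fin (finrank F V₁) ⊕ Fin (finrank F V₂),
      (Sum.elim (fun i => (∏ i, w i) * (∏ i, w₁ i) * (∏ i, w₂ i) * w₁ i) w₂ :
        Fin (finrank F V₁) ⊕ Fin (finrank F V₂) → F) x ≠ 0 := by
    rintro (i | i)
    · exact mul_ne_zero hc (hw₁ i)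
    · exact hw₂ i
  have hpos : 0 < finrank F V₁ := by omega
  obtain ⟨σ⟩ : Nonempty ((Fin (finrank F V₁) ⊕ Fin (finrank F V₂)) ≃ ι) := by
    apply Fintype.card_eq.mp
    rw [Fintype.card_sum, Fintype.card_fin, Fintype.card_fin, hcard]
  obtain ⟨eκ, heκ⟩ := exists_equiv_wss_single h2 _ hwκ (Sum.inl ⟨0, hpos⟩)
  obtain ⟨eι, heι⟩ := exists_equiv_wss_single h2 w hw (σ (Sum.inl ⟨0, hpos⟩))
  have ht : ((∏ i, w i) * (∏ i, w₁ i) * (∏ i, w₂ i)) ^ m * (∏ i, w₁ i) * (∏ i, w₂ i) ≠ 0 :=
    mul_ne_zero (mul_ne_zero (pow_ne_zero _ hc) hP₁) hP₂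
  have hprod : (∏ x, (Sum.elim (fun i => (∏ i, w i) * (∏ i, w₁ i) * (∏ i, w₂ i) * w₁ i) w₂ :
        Fin (finrank F V₁) ⊕ Fin (finrank F V₂) → F) x) =
      (∏ i, w i) * (((∏ i, w i) * (∏ i, w₁ i) * (∏ i, w₂ i)) ^ m * (∏ i, w₁ i) * (∏ i, w₂ i)) ^ 2 := by
    rw [Fintype.prod_sum_type]
    simp only [Sum.elim_inl, Sum.elim_inr]
    rw [Finset.prod_mul_distrib, Finset.prod_const, Finset.card_univ, Fintype.card_fin]
    have hpow : ∀ c : F, c ^ finrank F V₁ = c ^ (2 * m + 1) := fun c => by rw [hm]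
    rw [hpow]
    ring
  refine ⟨((((LinearEquiv.prodCongr e₁ e₂).trans
      (LinearEquiv.sumArrowLequivProdArrow (Fin (finrank F V₁)) (Fin (finrank F V₂)) F F).symm).trans
      eκ.symm).trans (isoScale (Sum.inl ⟨0, hpos⟩) _ ht)).trans
      ((LinearEquiv.funCongrLeft F F σ).symm.trans eι), fun v => ?_⟩
  simp only [LinearEquiv.trans_apply]
  rw [heι]
  have hσw : (fun x => Function.update (fun _ => (1 : F)) (σ (Sum.inl ⟨0, hpos⟩)) (∏ i, w i) (σ x)) =
      Function.update (fun _ => (1 : F)) (Sum.inl ⟨0, hpos⟩) (∏ i, w i) := by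
    funext x
    by_cases hx : x = Sum.inl ⟨0, hpos⟩
    · rw [hx, Function.update_self, Function.update_self]
    · rw [Function.update_of_ne hx, Function.update_of_ne (fun h => hx (σ.injective h))]
  rw [← iso_wss_funCongrLeft σ, LinearEquiv.apply_symm_apply, hσw, iso_wss_scale, ← hprod, ← heκ,
    LinearEquiv.apply_symm_apply]
  unfold wss
  rw [Fintype.sum_sum_type, ← he₁ v.1, ← he₂ v.2]
  unfold wss
  rw [Finset.mul_sum]
  congr 1
  apply Finset.sum_congr rfl
  intro i _
  simp only [Sum.elim_inl]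
  rw [mul_assoc]
  rfl

end iso

end Cfsg.Agent.Lib.Helper5.UniO
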