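import Mathlib
import Cfsg.Agent.Lib.Helper4.DualSum

/-!
# Fourier inversion and coprime action (carve-out (FO) for S4644)
-/

set_option autoImplicit false
set_option linter.unusedSectionVars false

namespace Cfsg.Agent.Lib.Helper1.WAFO

open Cfsg.Agent.Lib.Helper4

section
variable (E : Type*) [Group E] [Fintype E] (P : Type*) [CommGroup P] [MulDistribMulAction E P]

/-- the norm map of the action -/
def normMap : P →* P where
  toFun v := ∏ x : E, x • v
  map_one' := by simp
  map_mul' a b := by simp [smul_mul', Finset.prod_mul_distrib]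

theorem normMap_apply (v : P) : normMap E P v = ∏ x : E, x • v := rfl

theorem normMap_smul (x : E) (v : P) : normMap E P (x • v) = normMap E P v := by
  rw [normMap_apply, normMap_apply]
  simp only [← mul_smul]
  exact Fintype.prod_equiv (Equiv.mulRight x) _ _ (fun y => rfl)

theorem normMap_fixed {v : P} (hv : ∀ x : E, x • v = v) :
    normMap E P v = v ^ Fintype.card E := by
  rw [normMap_apply]
  simp [hv, Finset.prod_const, Finset.card_univ]

/-- the commutator of the action -/
def N0 : Subgroup P := Subgroup.closure {w | ∃ (x : E) (v : P), w = (x • v) * v⁻¹}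

theorem N0_le_ker : N0 E P ≤ (normMap E P).ker := by
  unfold N0
  rw [Subgroup.closure_le]
  rintro w ⟨x, v, rfl⟩
  show normMap E P ((x • v) * v⁻¹) = 1
  rw [map_mul, map_inv, normMap_smul, mul_inv_cancel]

theorem eq_one_of_mem_N0_of_fixed [Fintype P]
    (hcop : (Fintype.card E).Coprime (Fintype.card P)) {n : P} (hn : n ∈ N0 E P)
    (hfix : ∀ x : E, x • n = n) : n = 1 := by
  have h1 : n ^ Fintype.card E = 1 := by
    rw [← normMap_fixed E P hfix]
    exact N0_le_ker E P hn
  have h2 : n ^ Fintype.card P = 1 := pow_card_eq_one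
  have h3 : orderOf n ∣ Nat.gcd (Fintype.card E) (Fintype.card P) :=
    Nat.dvd_gcd (orderOf_dvd_of_pow_eq_one h1) (orderOf_dvd_of_pow_eq_one h2)
  rw [Nat.Coprime.gcd_eq_one hcop, Nat.dvd_one, orderOf_eq_one_iff] at h3
  exact h3

theorem mem_trivOn_N0_iff (l : P →* ℂˣ) :
    l ∈ trivOn (N0 E P) ↔ ∀ (x : E) (v : P), l (x • v) = l v := by
  constructor
  · intro h x v
    have h1 : l ((x • v) * v⁻¹) = 1 :=
      h _ (Subgroup.subset_closure ⟨x, v, rfl⟩)
    rw [map_mul, map_inv, mul_inv_eq_one] at h1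
    exact h1
  · intro h
    have hle : N0 E P ≤ l.ker := by
      unfold N0
      rw [Subgroup.closure_le]
      rintro w ⟨x, v, rfl⟩
      show l ((x • v) * v⁻¹) = 1
      rw [map_mul, map_inv, h, mul_inv_cancel]
    intro a ha
    exact hle ha

end

/-- **(FO)** Fourier inversion plus coprime action (any decidability instance for `l = 1`). -/
theorem fourier_coprime {P : Type*} [CommGroup P] [Fintype P] {E : Type*} [Group E] [Fintype E]
    [MulDistribMulAction E P] [∀ l : P →* ℂˣ, Decidable (l = 1)] (hcop : (Fintype.card E).Coprime (Fintype.card P))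
    (a : P → ℂ) (A : ℂ)
    (h : ∀ l : P →* ℂˣ, (∀ (x : E) (v : P), l (x • v) = l v) →
      ∑ v : P, ((l v : ℂˣ) : ℂ) * a v = if l = 1 then A else 0)
    (hsupp : ∀ v : P, a v ≠ 0 → ∀ x : E, x • v = v)
    (u : P) (hu : ∀ x : E, x • u = u) : a u = a 1 := by
  classical
  have : Finite (P →* ℂˣ) := inferInstance
  let _ : Fintype (trivOn (N0 E P)) := Fintype.ofFinite _
  have hcomm : ∀ a b : P, a * b = b * a := mul_comm
  set T := trivOn (N0 E P) with hT
  -- the key identity, for every `w` fixed by `E`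
  have key : ∀ w : P, (∀ x : E, x • w = w) → (Fintype.card T : ℂ) * a w = A := by
    intro w hw
    have e1 : ∑ φ : T, (((φ : P →* ℂˣ) w⁻¹ : ℂˣ) : ℂ) *
        ∑ v : P, (((φ : P →* ℂˣ) v : ℂˣ) : ℂ) * a v = A := by
      have : ∀ φ : T, (((φ : P →* ℂˣ) w⁻¹ : ℂˣ) : ℂ) *
          ∑ v : P, (((φ : P →* ℂˣ) v : ℂˣ) : ℂ) * a v = if φ = 1 then A else 0 := by
        intro φ
        rw [h (φ : P →* ℂˣ) ((mem_trivOn_N0_iff E P _).1 φ.2)]
        by_cases hφ : φ = 1
        · subst hφ
          simp
        · have : ¬ ((φ : P →* ℂˣ) = 1) := fun h' => hφ (Subtype.ext h')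
          rw [if_neg hφ, if_neg this, mul_zero]
      rw [Finset.sum_congr rfl fun φ _ => this φ]
      simp
    have e2 : ∑ φ : T, (((φ : P →* ℂˣ) w⁻¹ : ℂˣ) : ℂ) *
        ∑ v : P, (((φ : P →* ℂˣ) v : ℂˣ) : ℂ) * a v =
        ∑ v : P, a v * ∑ φ : T, (((φ : P →* ℂˣ) (w⁻¹ * v) : ℂˣ) : ℂ) := by
      simp only [Finset.mul_sum]
      rw [Finset.sum_comm]
      refine Finset.sum_congr rfl fun v _ => Finset.sum_congr rfl fun φ _ => ?_
      rw [map_mul, Units.val_mul]
      ring
    have e3 : ∑ v : P, a v * ∑ φ : T, (((φ : P →* ℂˣ) (w⁻¹ * v) : ℂˣ) : ℂ) =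
        a w * (Fintype.card T : ℂ) := by
      rw [Finset.sum_eq_single w]
      · rw [inv_mul_cancel, sum_trivOn_mem (N0 E P) (Subgroup.one_mem _)]
      · intro v _ hvw
        by_cases hv : w⁻¹ * v ∈ N0 E P
        · by_cases hav : a v = 0
          · rw [hav, zero_mul]
          · exfalso
            apply hvw
            have hfix : ∀ x : E, x • (w⁻¹ * v) = w⁻¹ * v := by
              intro x
              rw [smul_mul', smul_inv', hw x, hsupp v hav x]
            have := eq_one_of_mem_N0_of_fixed E P hcop hv hfix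
            rw [inv_mul_eq_one] at this
            exact this.symm
        · rw [sum_trivOn_notMem hcomm (N0 E P) hv, mul_zero]
      · intro h'
        exact absurd (Finset.mem_univ _) h'
    rw [← e1, e2, e3, mul_comm]
  have hpos : (Fintype.card T : ℂ) ≠ 0 := by
    have : 0 < Fintype.card T := Fintype.card_pos
    exact_mod_cast this.ne'
  have h1 := key u hu
  have h2 := key 1 (fun x => smul_one x)
  exact mul_left_cancel₀ hpos (h1.trans h2.symm)

end Cfsg.Agent.Lib.Helper1.WAFO
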