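import Cfsg.Agent.Lib.Helper2.WG.Defs2
import Cfsg.Agent.Lib.Helper1.SiegelW

set_option autoImplicit false

/-!
S2524, package PK-A2: the degree of a character of `Sp n F` is at least the size of the
congruence orbit of any of its Siegel constituents.  The sub-namespace `PkA2` contains the basic
facts on `qmult` used for this (integrality, Fourier inversion, Levi invariance).
-/

namespace Cfsg.Agent.Lib.Helper2.WG

open Matrix Cfsg Cfsg.Agent.H9SpF Cfsg.Agent.Lib.Helper6.Siegel Cfsg.Agent.Lib.Helper1.SUMin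
open scoped ComplexConjugate

universe u

variable {F : Type u} [Field F] [Fintype F]

namespace PkA2

variable {n : ℕ}

theorem qmult_eq_mu (ψ : AddChar F ℂ) (χ : Sp n F → ℂ) (M : Matrix (Fin n) (Fin n) F) :
    qmult ψ χ M = mu χ (fun _ => siegHom (n := n) (F := F)) 0 (trChar ψ M) := rfl

theorem qmult_nat (ψ : AddChar F ℂ) {χ : Sp n F → ℂ} (hχ : IsCharacter (Sp n F) χ)
    (M : Matrix (Fin n) (Fin n) F) : ∃ k : ℕ, qmult ψ χ M = k := by
  rw [qmult_eq_mu]
  exact sw_mult_nat hχ (siegHom (n := n) (F := F)) siegHom_add (trChar ψ M)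

/-- `M ↦ trChar ψ M` is a bijection from the symmetric matrices onto the characters of the
Siegel radical -/
theorem trChar_bijective (h2 : (2 : F) ≠ 0) (ψ : AddChar F ℂ) (hψ : ψ ≠ 1) :
    Function.Bijective (fun M : symAdd n F => trChar (n := n) ψ M.1) := by
  constructor
  · intro M M' h
    exact Subtype.ext (trChar_injOn h2 ψ hψ (mem_symAdd.1 M.2) (mem_symAdd.1 M'.2) h)
  · intro lam
    obtain ⟨M, hM, h⟩ := exists_trChar_eq h2 ψ hψ lam
    exact ⟨⟨M, mem_symAdd.2 hM⟩, h.symm⟩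

theorem fourier_inv (h2 : (2 : F) ≠ 0) (ψ : AddChar F ℂ) (hψ : ψ ≠ 1) (χ : Sp n F → ℂ)
    (S : symAdd n F) :
    χ (siegHom S) = ∑ M : symAdd n F, qmult ψ χ M.1 * trChar ψ M.1 S := by
  have h := a3_fourier_mu χ (fun _ => siegHom (n := n) (F := F)) 0 S
  rw [theta_zero] at h
  rw [← h]
  exact ((trChar_bijective h2 ψ hψ).sum_comp
    (fun ν : AddChar (symAdd n F) ℂ => mu χ (fun _ => siegHom (n := n) (F := F)) 0 ν * ν S)).symm

theorem siegHom_zero : siegHom (n := n) (F := F) 0 = 1 :=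
  a3_z_zero (fun _ => siegHom (n := n) (F := F)) (fun _ => siegHom_add) 0

theorem degree_eq_sum_qmult (h2 : (2 : F) ≠ 0) (ψ : AddChar F ℂ) (hψ : ψ ≠ 1) (χ : Sp n F → ℂ) :
    χ 1 = ∑ M : symAdd n F, qmult ψ χ M.1 := by
  have h := fourier_inv h2 ψ hψ χ 0
  rw [siegHom_zero] at h
  rw [h]
  exact Finset.sum_congr rfl fun M _ => by rw [AddChar.map_zero_eq_one, mul_one]

theorem qmult_conj (ψ : AddChar F ℂ) {χ : Sp n F → ℂ} (hχ : IsClassFunction (Sp n F) χ)
    (M : Matrix (Fin n) (Fin n) F) (P : GL (Fin n) F) :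
    qmult ψ χ ((P : Matrix (Fin n) (Fin n) F)ᵀ * M * (P : Matrix (Fin n) (Fin n) F)) =
      qmult ψ χ M := by
  rw [qmult_eq_mu, qmult_eq_mu]
  refine (a3_torus hχ (fun _ => siegHom (n := n) (F := F)) 0
    (trChar ψ ((P : Matrix (Fin n) (Fin n) F)ᵀ * M * (P : Matrix (Fin n) (Fin n) F)))
    (trChar ψ M) (lev P) (fun _ => (congT P : symAdd n F ≃+ symAdd n F).toEquiv)
    (fun j _ a => lev_conj_siegHom P a) (fun a => ?_)).symm
  rw [← trChar_congT]
  rfl

omit [Fintype F] in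
theorem isSymm_cong {M : Matrix (Fin n) (Fin n) F} (hM : M.IsSymm) (P : Matrix (Fin n) (Fin n) F) :
    (Pᵀ * M * P).IsSymm := by
  rw [Matrix.IsSymm, Matrix.transpose_mul, Matrix.transpose_mul, Matrix.transpose_transpose,
    hM.eq, Matrix.mul_assoc]

end PkA2

section A
variable {n : ℕ}

/-- PK-A2: the degree is at least the orbit of any Siegel constituent -/
theorem degree_ge_orbit_of_qmult (h2 : (2 : F) ≠ 0) (ψ : AddChar F ℂ) (hψ : ψ ≠ 1)
    {χ : Sp n F → ℂ} (hχ : IsCharacter (Sp n F) χ) (M : Matrix (Fin n) (Fin n) F) (hM : M.IsSymm)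
    (hq : qmult ψ χ M ≠ 0) :
    ∃ k : ℕ, χ 1 = k ∧ Set.ncard (Set.range fun P : GL (Fin n) F =>
        (P : Matrix (Fin n) (Fin n) F)ᵀ * M * (P : Matrix (Fin n) (Fin n) F)) ≤ k := by
  classical
  have hcf : IsClassFunction (Sp n F) χ :=
    Cfsg.Agent.Lib.Helper4.isClassFunction_of_isCharacter hχ
  choose k hk using fun M' : Matrix (Fin n) (Fin n) F => PkA2.qmult_nat ψ hχ M'
  have hkM : k M ≠ 0 := by
    intro h
    apply hq
    rw [hk M, h, Nat.cast_zero]
  have hdeg : χ 1 = ((∑ M' : symAdd n F, k M'.1 : ℕ) : ℂ) := by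
    rw [PkA2.degree_eq_sum_qmult h2 ψ hψ χ, Nat.cast_sum]
    exact Finset.sum_congr rfl fun M' _ => hk M'.1
  refine ⟨∑ M' : symAdd n F, k M'.1, hdeg, ?_⟩
  set R : Set (Matrix (Fin n) (Fin n) F) := Set.range fun P : GL (Fin n) F =>
        (P : Matrix (Fin n) (Fin n) F)ᵀ * M * (P : Matrix (Fin n) (Fin n) F) with hR
  let O : Finset (symAdd n F) := Finset.univ.filter fun M' => M'.1 ∈ R
  have hRO : R = (fun M' : symAdd n F => M'.1) '' (O : Set (symAdd n F)) := by
    ext X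
    constructor
    · rintro ⟨P, rfl⟩
      refine ⟨⟨_, mem_symAdd.2 (PkA2.isSymm_cong hM (P : Matrix (Fin n) (Fin n) F))⟩, ?_, rfl⟩
      rw [Finset.mem_coe, Finset.mem_filter]
      exact ⟨Finset.mem_univ _, P, rfl⟩
    · rintro ⟨M', hM', rfl⟩
      rw [Finset.mem_coe, Finset.mem_filter] at hM'
      exact hM'.2
  have hcard : Set.ncard R = O.card := by
    rw [hRO, Set.ncard_image_of_injective _ Subtype.val_injective, Set.ncard_coe_finset]
  rw [hcard]
  have hmult : ∀ M' ∈ O, k M'.1 = k M := by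
    intro M' hM'
    rw [Finset.mem_filter] at hM'
    obtain ⟨P, hP⟩ := hM'.2
    have hP' : (P : Matrix (Fin n) (Fin n) F)ᵀ * M * (P : Matrix (Fin n) (Fin n) F) = M'.1 := hP
    have h1 := PkA2.qmult_conj ψ hcf M P
    rw [hP', hk, hk] at h1
    exact_mod_cast h1
  calc O.card = ∑ _μ ∈ O, 1 := by rw [Finset.sum_const, smul_eq_mul, mul_one]
    _ ≤ ∑ M' ∈ O, k M'.1 := by
        apply Finset.sum_le_sum
        intro M' hM'
        rw [hmult M' hM']
        exact Nat.one_le_iff_ne_zero.2 hkM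
    _ ≤ ∑ M' : symAdd n F, k M'.1 :=
        Finset.sum_le_sum_of_subset (Finset.subset_univ O)

end A

end Cfsg.Agent.Lib.Helper2.WG
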