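import Cfsg.Agent.Lib.Helper1.WG_A2
import Cfsg.Agent.Lib.Helper1.CharFound6
import Cfsg.Agent.Lib.Helper8.CharKernel
import Cfsg.Agent.Lib.Lead.WeilW7
import Cfsg.Agent.S0269
import Cfsg.Agent.S0271
import Cfsg.Agent.Lib.Helper4.Characters

set_option autoImplicit false

/-!
S2524, package PK-F0: basics of the Siegel multiplicities `qmult`.
-/

namespace Cfsg.Agent.Lib.Helper2.WG

open Matrix Cfsg Cfsg.Agent.H9SpF Cfsg.Agent.Lib.Helper6.Siegel Cfsg.Agent.Lib.Helper1.SUMin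
open scoped ComplexConjugate

universe u

variable {F : Type u} [Field F] [Fintype F]

section F0
variable {n : ℕ}

theorem qmult_add (ψ : AddChar F ℂ) (χ χ' : Sp n F → ℂ) (M : Matrix (Fin n) (Fin n) F) :
    qmult ψ (χ + χ') M = qmult ψ χ M + qmult ψ χ' M := by
  rw [qmult_def, qmult_def, qmult_def, ← mul_add, ← Finset.sum_add_distrib]
  congr 1
  apply Finset.sum_congr rfl
  intro S _
  rw [Pi.add_apply, mul_add]

theorem qmult_smul (ψ : AddChar F ℂ) (a : ℂ) (χ : Sp n F → ℂ) (M : Matrix (Fin n) (Fin n) F) :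
    qmult ψ (a • χ) M = a * qmult ψ χ M := by
  rw [qmult_def, qmult_def, Finset.mul_sum, Finset.mul_sum, Finset.mul_sum]
  apply Finset.sum_congr rfl
  intro S _
  rw [Pi.smul_apply, smul_eq_mul]
  ring

namespace PkF0

theorem qmult_zero (ψ : AddChar F ℂ) (M : Matrix (Fin n) (Fin n) F) :
    qmult ψ (0 : Sp n F → ℂ) M = 0 := by
  rw [qmult_def]
  simp

end PkF0

theorem qmult_sum {ι : Type*} (s : Finset ι) (ψ : AddChar F ℂ) (f : ι → Sp n F → ℂ)
    (M : Matrix (Fin n) (Fin n) F) :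
    qmult ψ (∑ i ∈ s, f i) M = ∑ i ∈ s, qmult ψ (f i) M := by
  classical
  induction s using Finset.induction_on with
  | empty => rw [Finset.sum_empty, Finset.sum_empty, PkF0.qmult_zero]
  | insert a s ha ih => rw [Finset.sum_insert ha, Finset.sum_insert ha, qmult_add, ih]

/-- multiplicities of characters are natural numbers -/
theorem qmult_nat (ψ : AddChar F ℂ) {χ : Sp n F → ℂ} (hχ : IsCharacter (Sp n F) χ)
    (M : Matrix (Fin n) (Fin n) F) : ∃ k : ℕ, qmult ψ χ M = k :=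
  PkA2.qmult_nat ψ hχ M

/-- Fourier inversion on the Siegel radical (`q` odd) -/
theorem fourier_inv (h2 : (2 : F) ≠ 0) (ψ : AddChar F ℂ) (hψ : ψ ≠ 1) (χ : Sp n F → ℂ)
    (S : symAdd n F) :
    χ (siegHom S) = ∑ M : symAdd n F, qmult ψ χ M.1 * trChar ψ M.1 S :=
  PkA2.fourier_inv h2 ψ hψ χ S

theorem degree_eq_sum_qmult (h2 : (2 : F) ≠ 0) (ψ : AddChar F ℂ) (hψ : ψ ≠ 1) (χ : Sp n F → ℂ) :
    χ 1 = ∑ M : symAdd n F, qmult ψ χ M.1 :=
  PkA2.degree_eq_sum_qmult h2 ψ hψ χ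

/-- invariance under the Levi subgroup `GL_n` -/
theorem qmult_conj (ψ : AddChar F ℂ) {χ : Sp n F → ℂ} (hχ : IsClassFunction (Sp n F) χ)
    (M : Matrix (Fin n) (Fin n) F) (P : GL (Fin n) F) :
    qmult ψ χ ((P : Matrix (Fin n) (Fin n) F)ᵀ * M * (P : Matrix (Fin n) (Fin n) F)) =
      qmult ψ χ M :=
  PkA2.qmult_conj ψ hχ M P

namespace PkF0

omit [Fintype F] in
theorem cong_rank_one (P : Matrix (Fin n) (Fin n) F) (c : F) (w : Fin n → F) :
    Pᵀ * (c • vecMulVec w w) * P = c • vecMulVec (Pᵀ *ᵥ w) (Pᵀ *ᵥ w) := by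
  rw [Matrix.mul_smul, Matrix.smul_mul, Matrix.mul_vecMulVec, Matrix.vecMulVec_mul,
    Matrix.mulVec_transpose]

omit [Fintype F] in
theorem smul_rank_one (c u : F) (w : Fin n → F) :
    (c * u ^ 2) • vecMulVec w w = c • vecMulVec (u • w) (u • w) := by
  ext i j
  simp only [Matrix.smul_apply, Matrix.vecMulVec_apply, Pi.smul_apply, smul_eq_mul]
  ring

omit [Fintype F] in
theorem exists_rank_one_congr (c u : F) (hu : u ≠ 0) (M : Matrix (Fin n) (Fin n) F) :
    (∃ w : Fin n → F, M = (c * u ^ 2) • vecMulVec w w) ↔ ∃ w : Fin n → F, M = c • vecMulVec w w := by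
  constructor
  · rintro ⟨w, rfl⟩
    exact ⟨u • w, smul_rank_one c u w⟩
  · rintro ⟨w, rfl⟩
    refine ⟨u⁻¹ • w, ?_⟩
    rw [smul_rank_one, smul_smul, mul_inv_cancel₀ hu, one_smul]

end PkF0

/-- all rank one matrices of one class have the same multiplicity -/
theorem qmult_rank_one (ψ : AddChar F ℂ) {χ : Sp n F → ℂ} (hχ : IsClassFunction (Sp n F) χ)
    (c : F) (w w' : Fin n → F) (hw : w ≠ 0) (hw' : w' ≠ 0) :
    qmult ψ χ (c • vecMulVec w w) = qmult ψ χ (c • vecMulVec w' w') := by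
  classical
  obtain ⟨A, hA, hAw⟩ := Cfsg.Agent.Lib.Lead.Weil.exists_gl_map hw hw'
  have hAt : IsUnit (Aᵀ).det := by rw [Matrix.det_transpose]; exact hA
  have h := qmult_conj ψ hχ (c • vecMulVec w w) (Matrix.nonsingInvUnit Aᵀ hAt)
  have hcoe : ((Matrix.nonsingInvUnit Aᵀ hAt : GL (Fin n) F) : Matrix (Fin n) (Fin n) F) = Aᵀ := rfl
  rw [hcoe, PkF0.cong_rank_one, Matrix.transpose_transpose, hAw] at h
  exact h.symm

theorem qmult_one (h2 : (2 : F) ≠ 0) (ψ : AddChar F ℂ) (hψ : ψ ≠ 1) (M : Matrix (Fin n) (Fin n) F)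
    (hM : M.IsSymm) (h0 : M ≠ 0) : qmult ψ (fun _ : Sp n F => (1 : ℂ)) M = 0 := by
  have h := a3_ortho (trChar (n := n) ψ M) (1 : AddChar (symAdd n F) ℂ)
  have hne : (1 : AddChar (symAdd n F) ℂ) ≠ trChar (n := n) ψ M := by
    intro h1
    apply h0
    rw [← trChar_zero (n := n) ψ] at h1
    exact (trChar_injOn h2 ψ hψ Matrix.isSymm_zero hM h1).symm
  rw [if_neg hne] at h
  rw [qmult_def]
  exact h

theorem qmult_one_zero (ψ : AddChar F ℂ) : qmult ψ (fun _ : Sp n F => (1 : ℂ)) 0 = 1 := by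
  have h := a3_ortho (trChar (n := n) ψ 0) (1 : AddChar (symAdd n F) ℂ)
  rw [if_pos (trChar_zero (n := n) ψ).symm] at h
  rw [qmult_def]
  exact h

namespace PkF0

/-- a Siegel constituent of a constituent is a Siegel constituent -/
theorem qmult_ne_zero_of_constituent (ψ : AddChar F ℂ) {χ β : Sp n F → ℂ}
    (hχ : IsCharacter (Sp n F) χ) (hβ : IsIrrCharacter (Sp n F) β) (h : classInner χ β ≠ 0)
    (M : Matrix (Fin n) (Fin n) F) (hq : qmult ψ β M ≠ 0) : qmult ψ χ M ≠ 0 := by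
  classical
  have : Fintype (Cfsg.IrrCharacter (Sp n F)) := Fintype.ofFinite _
  have hcf := Cfsg.Agent.Lib.Helper4.isClassFunction_of_isCharacter hχ
  choose m hm using fun β' : Cfsg.IrrCharacter (Sp n F) =>
    Cfsg.Agent.Lib.Helper1.classInner_char_irr_nat hχ β'.2
  choose k hk using fun β' : Cfsg.IrrCharacter (Sp n F) =>
    qmult_nat ψ (Cfsg.Agent.Lib.Helper4.isCharacter_of_irr β'.2) M
  have hexp := Cfsg.Agent.Lib.Helper1.class_function_expansion χ hcf
  have hsum : qmult ψ χ M = ((∑ β' : Cfsg.IrrCharacter (Sp n F), m β' * k β' : ℕ) : ℂ) := by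
    conv_lhs => rw [hexp]
    rw [qmult_sum, Nat.cast_sum]
    apply Finset.sum_congr rfl
    intro β' _
    rw [qmult_smul, hm, hk, Nat.cast_mul]
  rw [hsum]
  have hmβ : m ⟨β, hβ⟩ ≠ 0 := by
    intro h0
    apply h
    have := hm ⟨β, hβ⟩
    rw [h0, Nat.cast_zero] at this
    exact this
  have hkβ : k ⟨β, hβ⟩ ≠ 0 := by
    intro h0
    apply hq
    have := hk ⟨β, hβ⟩
    rw [h0, Nat.cast_zero] at this
    exact this
  have hpos : 0 < ∑ β' : Cfsg.IrrCharacter (Sp n F), m β' * k β' := by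
    apply Finset.sum_pos'
    · intro i _
      exact Nat.zero_le _
    · exact ⟨⟨β, hβ⟩, Finset.mem_univ _, Nat.mul_pos (Nat.pos_of_ne_zero hmβ) (Nat.pos_of_ne_zero hkβ)⟩
  exact_mod_cast hpos.ne'

end PkF0

/-- constituents of small characters are small -/
theorem qsmall_of_constituent (ψ : AddChar F ℂ) {χ β : Sp n F → ℂ} (hχ : IsCharacter (Sp n F) χ)
    (hβ : IsIrrCharacter (Sp n F) β) (h : classInner χ β ≠ 0) (hs : QSmall ψ χ) : QSmall ψ β := by
  intro M hM hq
  exact hs M hM (PkF0.qmult_ne_zero_of_constituent ψ hχ hβ h M hq)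

theorem puresmall_of_constituent (ψ : AddChar F ℂ) (c : F) {χ β : Sp n F → ℂ}
    (hχ : IsCharacter (Sp n F) χ) (hβ : IsIrrCharacter (Sp n F) β) (h : classInner χ β ≠ 0)
    (hs : PureSmall ψ c χ) : PureSmall ψ c β := by
  intro M hM hq
  exact hs M hM (PkF0.qmult_ne_zero_of_constituent ψ hχ hβ h M hq)

/-- `PureSmall` only depends on the square class -/
theorem puresmall_congr (ψ : AddChar F ℂ) (c u : F) (hu : u ≠ 0) (χ : Sp n F → ℂ) :
    PureSmall ψ (c * u ^ 2) χ ↔ PureSmall ψ c χ := by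
  constructor
  · intro h M hM hq
    exact (PkF0.exists_rank_one_congr c u hu M).1 (h M hM hq)
  · intro h M hM hq
    exact (PkF0.exists_rank_one_congr c u hu M).2 (h M hM hq)

namespace PkF0

theorem isWeilPair_sq (ψ : AddChar F ℂ) (c u : F) (hu : u ≠ 0) {E O : Sp n F → ℂ} {ε : ℂ}
    (h : IsWeilPair ψ c E O ε) : IsWeilPair ψ (c * u ^ 2) E O ε where
  irrE := h.irrE
  irrO := h.irrO
  qE_one := by
    intro w
    rw [smul_rank_one]
    exact h.qE_one _
  qE_zero := by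
    intro M hM hne
    apply h.qE_zero M hM
    intro hex
    exact hne ((exists_rank_one_congr c u hu M).2 hex)
  qO_one := by
    intro w hw
    rw [smul_rank_one]
    exact h.qO_one _ (smul_ne_zero hu hw)
  qO_origin := h.qO_origin
  qO_zero := by
    intro M hM hne
    apply h.qO_zero M hM
    intro hex
    exact hne ((exists_rank_one_congr c u hu M).2 hex)
  sign := h.sign
  negE := h.negE
  negO := h.negO
  degE := h.degE
  degO := h.degO

end PkF0

theorem isWeilPair_congr (ψ : AddChar F ℂ) (c u : F) (hu : u ≠ 0) (E O : Sp n F → ℂ) (ε : ℂ) :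
    IsWeilPair ψ (c * u ^ 2) E O ε ↔ IsWeilPair ψ c E O ε := by
  constructor
  · intro h
    have h1 := PkF0.isWeilPair_sq ψ (c * u ^ 2) u⁻¹ (inv_ne_zero hu) h
    have h2 : c * u ^ 2 * u⁻¹ ^ 2 = c := by
      field_simp
    rw [h2] at h1
    exact h1
  · exact PkF0.isWeilPair_sq ψ c u hu

namespace PkF0

open Cfsg.Agent.Lib.Helper1.SpBasic Cfsg.Agent.Lib.Helper2.Symp

omit [Fintype F] in
/-- the long root elements of the Siegel radical are symplectic transvections -/
theorem T_single_eq (i : Fin n) (c : F) :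
    T (Pi.single (Sum.inl i) (1 : F) : Fin n ⊕ Fin n → F) c =
      siegHom ⟨c • Matrix.single i i (1 : F), by
        rw [mem_symAdd, Matrix.IsSymm, Matrix.transpose_smul, Matrix.transpose_single]⟩ := by
  apply Subtype.ext
  rw [T_coe, siegHom_coe]
  unfold Cfsg.sympTransvection siegM Matrix.J
  ext a b
  rcases a with a | a <;> rcases b with b | b
  · simp [Matrix.vecMulVec_apply, Matrix.one_apply]
  · simp only [Matrix.add_apply, Matrix.smul_apply, Matrix.vecMulVec_apply, Matrix.fromBlocks_apply₁₂,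
      Matrix.one_apply, Matrix.single_apply, smul_eq_mul]
    by_cases hb : b = i
    · by_cases ha : a = i
      · simp [Matrix.mulVec, dotProduct, Pi.single_apply, hb, ha]
      · simp [Matrix.mulVec, dotProduct, Pi.single_apply, hb, ha, Ne.symm ha]
    · by_cases ha : a = i
      · simp [Matrix.mulVec, dotProduct, Pi.single_apply, hb, ha, Ne.symm hb]
      · simp [Matrix.mulVec, dotProduct, Pi.single_apply, hb, ha, Ne.symm hb, Ne.symm ha]
  · simp [Matrix.vecMulVec_apply]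
  · simp [Matrix.vecMulVec_apply, Matrix.one_apply]

omit [Fintype F] in
/-- a normal subgroup containing the Siegel radical is everything -/
theorem eq_top_of_siegHom_mem (hn : 1 ≤ n) (K : Subgroup (Sp n F)) (hKn : K.Normal)
    (hK : ∀ S : symAdd n F, siegHom S ∈ K) : K = ⊤ := by
  rw [eq_top_iff, ← transvGroup_eq_top]
  unfold transvGroup
  rw [Subgroup.closure_le]
  rintro A ⟨w, c, hA⟩
  have hAT : A = T w c := Subtype.ext hA
  rw [hAT]
  by_cases hw : w = 0
  · rw [hw, T_zero_left]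
    exact K.one_mem
  · have he : (Pi.single (Sum.inl (⟨0, hn⟩ : Fin n)) (1 : F) : Fin n ⊕ Fin n → F) ≠ 0 :=
      Cfsg.Agent.S0269.single_ne_zero' _
    obtain ⟨g, hg⟩ := Cfsg.Agent.S0271.result n _ w he hw
    rw [← hg, ← conj_T]
    apply hKn.conj_mem
    rw [T_single_eq]
    exact hK _

end PkF0

/-- a character whose restriction to the Siegel radical is trivial is a multiple of `1`
(`Sp n` is generated by the conjugates of the Siegel radical) -/
theorem eq_one_of_qmult (h2 : (2 : F) ≠ 0) (ψ : AddChar F ℂ) (hψ : ψ ≠ 1) (hn : 1 ≤ n)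
    {χ : Sp n F → ℂ} (hχ : IsIrrCharacter (Sp n F) χ)
    (h : ∀ M : Matrix (Fin n) (Fin n) F, M.IsSymm → M ≠ 0 → qmult ψ χ M = 0) :
    χ = fun _ => 1 := by
  classical
  have hχc : IsCharacter (Sp n F) χ := Cfsg.Agent.Lib.Helper4.isCharacter_of_irr hχ
  -- `χ` is constant on the Siegel radical
  have hsieg : ∀ S : symAdd n F, χ (siegHom S) = χ 1 := by
    intro S
    rw [fourier_inv h2 ψ hψ χ S, degree_eq_sum_qmult h2 ψ hψ χ]
    apply Finset.sum_congr rfl
    intro M _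
    by_cases hM : M = 0
    · rw [hM, AddSubgroup.coe_zero, trChar_zero, AddChar.one_apply, mul_one]
    · have hM' : M.1 ≠ 0 := fun h0 => hM (Subtype.ext h0)
      rw [h M.1 (mem_symAdd.1 M.2) hM', zero_mul]
  obtain ⟨K, hKn, hK⟩ := Cfsg.Agent.Lib.Helper8.exists_normal_ker hχc
  have hKtop : K = ⊤ := PkF0.eq_top_of_siegHom_mem hn K hKn fun S => (hK _).2 (hsieg S)
  have hall : ∀ g : Sp n F, χ g = χ 1 := by
    intro g
    rw [← hK, hKtop]
    exact Subgroup.mem_top g
  obtain ⟨k, hk⟩ := Cfsg.Agent.Lib.Helper4.isCharacter_apply_one hχc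
  have h1 := Cfsg.Agent.Lib.Helper4.classInner_irr_self hχ
  rw [Cfsg.Agent.Lib.Helper4.classInner_def] at h1
  have hG0 : (Nat.card (Sp n F) : ℂ) ≠ 0 := Nat.cast_ne_zero.2 Nat.card_pos.ne'
  have h3 : ∑ g : Sp n F, χ g * conj (χ g) = (Nat.card (Sp n F) : ℂ) * ((k : ℂ) * (k : ℂ)) := by
    rw [Finset.sum_congr rfl (fun g _ => by rw [hall g, hk, Complex.conj_natCast]),
      Finset.sum_const, Finset.card_univ, nsmul_eq_mul, Nat.card_eq_fintype_card]
  rw [h3, ← mul_assoc, inv_mul_cancel₀ hG0, one_mul] at h1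
  have h4 : k * k = 1 := by exact_mod_cast h1
  have h5 : k = 1 := Nat.eq_one_of_mul_eq_one_left h4
  funext g
  rw [hall g, hk, h5, Nat.cast_one]

end F0

end Cfsg.Agent.Lib.Helper2.WG
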