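import Cfsg.Agent.Lib.Helper1.WG_F0
import Cfsg.Agent.Lib.Helper9.WG_R1
import Cfsg.Agent.Lib.Helper5.WG_R2

set_option autoImplicit false

/-!
S2524, package PK-F2: Fourier analysis on the Siegel radical `Q = Z × Y × Q'` of `Sp (m+1)`.
-/

namespace Cfsg.Agent.Lib.Helper2.WG

open Matrix Cfsg Cfsg.Agent.H9SpF Cfsg.Agent.Lib.Helper6.Siegel Cfsg.Agent.Lib.Helper1.SUMin
open scoped ComplexConjugate

universe u

variable {F : Type u} [Field F] [Fintype F] {m : ℕ}

namespace PkF2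

theorem zE_add (t t' : F) : (zE (t + t') : Sp (m + 1) F) = zE t * zE t' := by
  unfold zE
  rw [qE_mul, add_zero, add_zero]

theorem zE_zero : (zE (0 : F) : Sp (m + 1) F) = 1 := qE_zero

theorem zE_mul_qE (t s : F) (v : Fin m → F) (S' : symAdd m F) :
    zE t * qE s v S' = qE (t + s) v S' := by
  unfold zE
  rw [qE_mul, zero_add, zero_add]

open Classical in
/-- `∑_t ψ (a t) = q [a = 0]` -/
theorem sum_mulShift (ψ : AddChar F ℂ) (hψ : ψ ≠ 1) (a : F) :
    ∑ t : F, ψ (a * t) = if a = 0 then (Fintype.card F : ℂ) else 0 := by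
  classical
  have h := AddChar.sum_mulShift (ψ := ψ) a (AddChar.IsPrimitive.of_ne_one hψ)
  rw [Finset.sum_congr rfl fun t _ => by rw [mul_comm a t], h]
  split_ifs
  · rfl
  · rw [Nat.cast_zero]

theorem conj_psi_mul_psi (ψ : AddChar F ℂ) (x : F) : conj (ψ x) * ψ x = 1 := by
  rw [← AddChar.map_neg_eq_conj, ← AddChar.map_add_eq_mul, neg_add_cancel,
    AddChar.map_zero_eq_one]

open Classical in
/-- `∑_v ψ (2 v·y) = q^m [y = 0]` -/
theorem sum_dot (h2 : (2 : F) ≠ 0) (ψ : AddChar F ℂ) (hψ : ψ ≠ 1) (y : Fin m → F) :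
    ∑ v : Fin m → F, ψ (2 * (v ⬝ᵥ y)) = if y = 0 then (Fintype.card F : ℂ) ^ m else 0 := by
  classical
  split_ifs with hy
  · subst hy
    simp only [dotProduct_zero, mul_zero, AddChar.map_zero_eq_one, Finset.sum_const,
      Finset.card_univ, Fintype.card_pi_const, nsmul_eq_mul, mul_one, Nat.cast_pow]
  · let f : (Fin m → F) →+ F := AddMonoidHom.mk' (fun v => 2 * (v ⬝ᵥ y))
      (by intro a b; rw [add_dotProduct, mul_add])
    have hne : ψ.compAddMonoidHom f ≠ 1 := by
      intro h1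
      apply hψ
      obtain ⟨i, hi⟩ : ∃ i, y i ≠ 0 := by
        by_contra hcon
        push Not at hcon
        exact hy (funext hcon)
      ext x
      have h3 := DFunLike.congr_fun h1 (Pi.single i (x / (2 * y i)))
      have h4 : f (Pi.single i (x / (2 * y i))) = x := by
        show 2 * (Pi.single i (x / (2 * y i)) ⬝ᵥ y) = x
        rw [single_dotProduct]
        field_simp
      rw [AddChar.compAddMonoidHom_apply, h4] at h3
      rw [h3]
      rfl
    exact AddChar.sum_eq_zero_of_ne_one hne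

/-- the Siegel multiplicity of `bsym s v M'` in the coordinates `Z × Y × Q'` -/
theorem qmult_bsym (ψ : AddChar F ℂ) (χ : Sp (m + 1) F → ℂ) (s : F) (v : Fin m → F)
    (M' : Matrix (Fin m) (Fin m) F) :
    qmult ψ χ (bsym s v M') =
      ((Fintype.card F : ℂ) * (Fintype.card F : ℂ) ^ m * (Fintype.card (symAdd m F) : ℂ))⁻¹ *
        ∑ t : F, ∑ y : Fin m → F, ∑ S' : symAdd m F,
          conj (ψ (s * t)) * conj (ψ (2 * (v ⬝ᵥ y))) * conj (trChar ψ M' S') * χ (qE t y S') := by
  rw [qmult_def, card_symAdd_succ]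
  congr 1
  · push_cast
    rfl
  · rw [← (bsymEquiv (m := m) (F := F)).sum_comp, Fintype.sum_prod_type]
    apply Finset.sum_congr rfl
    intro t _
    rw [Fintype.sum_prod_type]
    apply Finset.sum_congr rfl
    intro y _
    apply Finset.sum_congr rfl
    intro S' _
    rw [siegHom_bsymEquiv, trChar_apply, trPair_bsym, AddChar.map_add_eq_mul,
      AddChar.map_add_eq_mul, map_mul, map_mul, trChar_apply]

end PkF2

section F2

theorem qmult_chis (h2 : (2 : F) ≠ 0) (ψ : AddChar F ℂ) (hψ : ψ ≠ 1) (χ : Sp (m + 1) F → ℂ) (s : F)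
    (M' : Matrix (Fin m) (Fin m) F) :
    qmult ψ (chis ψ s χ) M' = ∑ v : Fin m → F, qmult ψ χ (bsym s v M') := by
  classical
  have hq0 : (Fintype.card F : ℂ) ≠ 0 := Nat.cast_ne_zero.2 Fintype.card_ne_zero
  have hS0 : (Fintype.card (symAdd m F) : ℂ) ≠ 0 := Nat.cast_ne_zero.2 Fintype.card_ne_zero
  -- the right hand side
  have hR : ∑ v : Fin m → F, qmult ψ χ (bsym s v M') =
      ((Fintype.card F : ℂ) * (Fintype.card F : ℂ) ^ m * (Fintype.card (symAdd m F) : ℂ))⁻¹ *
        ((Fintype.card F : ℂ) ^ m * ∑ t : F, ∑ S' : symAdd m F,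
          conj (ψ (s * t)) * conj (trChar ψ M' S') * χ (qE t 0 S')) := by
    rw [Finset.sum_congr rfl fun v _ => PkF2.qmult_bsym ψ χ s v M', ← Finset.mul_sum]
    congr 1
    rw [Finset.sum_comm, Finset.mul_sum]
    apply Finset.sum_congr rfl
    intro t _
    rw [Finset.sum_comm]
    have hc : ∀ y : Fin m → F, ∑ v : Fin m → F, conj (ψ (2 * (v ⬝ᵥ y))) =
        if y = 0 then (Fintype.card F : ℂ) ^ m else 0 := by
      intro y
      rw [← map_sum, PkF2.sum_dot h2 ψ hψ y]
      split_ifs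
      · rw [map_pow, Complex.conj_natCast]
      · rw [map_zero]
    have h1 : ∀ y : Fin m → F, ∑ v : Fin m → F, ∑ S' : symAdd m F,
        conj (ψ (s * t)) * conj (ψ (2 * (v ⬝ᵥ y))) * conj (trChar ψ M' S') * χ (qE t y S') =
        (if y = 0 then (Fintype.card F : ℂ) ^ m else 0) *
          ∑ S' : symAdd m F, conj (ψ (s * t)) * conj (trChar ψ M' S') * χ (qE t y S') := by
      intro y
      rw [← hc y, Finset.sum_mul]
      apply Finset.sum_congr rfl
      intro v _
      rw [Finset.mul_sum]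
      apply Finset.sum_congr rfl
      intro S' _
      ring
    rw [Finset.sum_congr rfl fun y _ => h1 y]
    rw [Finset.sum_eq_single (0 : Fin m → F)]
    · rw [if_pos rfl]
    · intro y _ hy
      rw [if_neg hy, zero_mul]
    · intro h
      exact absurd (Finset.mem_univ _) h
  rw [hR, qmult_def]
  have hL : ∀ S' : symAdd m F, conj (trChar ψ M' S') * chis ψ s χ (siegHom S') =
      (Fintype.card F : ℂ)⁻¹ * ∑ t : F,
        conj (ψ (s * t)) * conj (trChar ψ M' S') * χ (qE t 0 S') := by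
    intro S'
    unfold chis
    rw [zproj_apply, ιG_siegHom, Finset.mul_sum, Finset.mul_sum, Finset.mul_sum]
    apply Finset.sum_congr rfl
    intro t _
    rw [PkF2.zE_mul_qE, add_zero]
    ring
  rw [Finset.sum_congr rfl fun S' _ => hL S', ← Finset.mul_sum, Finset.sum_comm]
  field_simp

/-- Fourier inversion in the `Z`-direction -/
theorem sum_zproj (ψ : AddChar F ℂ) (hψ : ψ ≠ 1) (χ : Sp (m + 1) F → ℂ) (g : Sp (m + 1) F) :
    ∑ s : F, zproj ψ s χ g = χ g := by
  classical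
  have hq0 : (Fintype.card F : ℂ) ≠ 0 := Nat.cast_ne_zero.2 Fintype.card_ne_zero
  simp only [zproj_apply]
  rw [← Finset.mul_sum, Finset.sum_comm]
  have h1 : ∀ t : F, ∑ s : F, conj (ψ (s * t)) * χ (zE t * g) =
      (if t = 0 then (Fintype.card F : ℂ) else 0) * χ (zE t * g) := by
    intro t
    rw [← Finset.sum_mul, ← map_sum, Finset.sum_congr rfl fun s _ => by rw [mul_comm s t],
      PkF2.sum_mulShift ψ hψ t]
    split_ifs
    · rw [Complex.conj_natCast]
    · rw [map_zero]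
  rw [Finset.sum_congr rfl fun t _ => h1 t, Finset.sum_eq_single (0 : F)]
  · rw [if_pos rfl, PkF2.zE_zero, one_mul, ← mul_assoc, inv_mul_cancel₀ hq0, one_mul]
  · intro t _ ht
    rw [if_neg ht, zero_mul]
  · intro h
    exact absurd (Finset.mem_univ _) h

theorem zproj_zE_mul (ψ : AddChar F ℂ) (s : F) (χ : Sp (m + 1) F → ℂ) (t : F) (g : Sp (m + 1) F) :
    zproj ψ s χ (zE t * g) = ψ (s * t) * zproj ψ s χ g := by
  have key : ∑ t' : F, conj (ψ (s * t')) * χ (zE t' * (zE t * g)) =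
      ψ (s * t) * ∑ t' : F, conj (ψ (s * t')) * χ (zE t' * g) := by
    rw [Finset.mul_sum]
    refine Fintype.sum_equiv (Equiv.addRight t) _ _ (fun t' => ?_)
    show conj (ψ (s * t')) * χ (zE t' * (zE t * g)) =
      ψ (s * t) * (conj (ψ (s * (t' + t))) * χ (zE (t' + t) * g))
    rw [← mul_assoc (zE t') (zE t) g, ← PkF2.zE_add, mul_add, AddChar.map_add_eq_mul,
      map_mul (starRingEnd ℂ), ← mul_assoc, ← mul_assoc]
    congr 1
    rw [mul_comm (ψ (s * t)), mul_assoc, mul_comm (ψ (s * t)), PkF2.conj_psi_mul_psi, mul_one]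
  rw [zproj_apply, zproj_apply, key, mul_left_comm]

theorem zproj_idem (ψ : AddChar F ℂ) (s : F) (χ : Sp (m + 1) F → ℂ) :
    zproj ψ s (zproj ψ s χ) = zproj ψ s χ := by
  have hq0 : (Fintype.card F : ℂ) ≠ 0 := Nat.cast_ne_zero.2 Fintype.card_ne_zero
  funext g
  rw [zproj_apply]
  have h1 : ∀ t : F, conj (ψ (s * t)) * zproj ψ s χ (zE t * g) = zproj ψ s χ g := by
    intro t
    rw [zproj_zE_mul, ← mul_assoc, PkF2.conj_psi_mul_psi, one_mul]
  rw [Finset.sum_congr rfl fun t _ => h1 t, Finset.sum_const, Finset.card_univ, nsmul_eq_mul,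
    ← mul_assoc, inv_mul_cancel₀ hq0, one_mul]

theorem zproj_ortho (ψ : AddChar F ℂ) (hψ : ψ ≠ 1) (s s' : F) (hss' : s ≠ s') (χ : Sp (m + 1) F → ℂ) :
    zproj ψ s (zproj ψ s' χ) = 0 := by
  classical
  funext g
  rw [zproj_apply]
  have h1 : ∀ t : F, conj (ψ (s * t)) * zproj ψ s' χ (zE t * g) =
      ψ ((s' - s) * t) * zproj ψ s' χ g := by
    intro t
    rw [zproj_zE_mul, ← mul_assoc, sub_mul, AddChar.map_sub_eq_div, div_eq_mul_inv,
      ← AddChar.map_neg_eq_inv, AddChar.map_neg_eq_conj, mul_comm (ψ (s' * t))]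
  rw [Finset.sum_congr rfl fun t _ => h1 t, ← Finset.sum_mul, PkF2.sum_mulShift ψ hψ,
    if_neg (sub_ne_zero.2 (Ne.symm hss')), zero_mul, mul_zero]
  rfl

end F2

end Cfsg.Agent.Lib.Helper2.WG
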