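import Cfsg.Agent.Lib.Helper1.WG_F2

set_option autoImplicit false

/-!
S2524, package PK-F3: the Siegel parameters of the `Z`-parts of a small character of `Sp (m+1)`.
-/

namespace Cfsg.Agent.Lib.Helper2.WG

open Matrix Cfsg Cfsg.Agent.H9SpF Cfsg.Agent.Lib.Helper6.Siegel Cfsg.Agent.Lib.Helper1.SUMin
open scoped ComplexConjugate

universe u

variable {F : Type u} [Field F] [Fintype F] {m : ℕ}

namespace PkF3

omit [Fintype F] in
/-- the entries of a `bsym` of rank at most one -/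
theorem bsym_rank_one {s : F} {v : Fin m → F} {M' : Matrix (Fin m) (Fin m) F} {c : F}
    {w : Fin (m + 1) → F} (h : bsym s v M' = c • vecMulVec w w) :
    s = c * (w 0 * w 0) ∧ (∀ i, v i = c * (w 0 * w i.succ)) ∧
      ∀ i j, M' i j = c * (w i.succ * w j.succ) := by
  refine ⟨?_, fun i => ?_, fun i j => ?_⟩
  · have := congrFun (congrFun h 0) 0
    simpa [Matrix.vecMulVec_apply] using this
  · have := congrFun (congrFun h 0) i.succ
    simpa [Matrix.vecMulVec_apply] using this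
  · have := congrFun (congrFun h i.succ) j.succ
    simpa [Matrix.vecMulVec_apply] using this

omit [Fintype F] in
theorem bsym_rank_one_tail {s : F} {v : Fin m → F} {M' : Matrix (Fin m) (Fin m) F} {c : F}
    {w : Fin (m + 1) → F} (h : bsym s v M' = c • vecMulVec w w) :
    M' = c • vecMulVec (fun i => w i.succ) (fun i => w i.succ) := by
  ext i j
  rw [(bsym_rank_one h).2.2 i j]
  simp [Matrix.vecMulVec_apply]

omit [Fintype F] in
theorem bsym_rank_one_ne {s : F} (hs : s ≠ 0) {v : Fin m → F} {M' : Matrix (Fin m) (Fin m) F}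
    {c : F} {w : Fin (m + 1) → F} (h : bsym s v M' = c • vecMulVec w w) :
    M' = s⁻¹ • vecMulVec v v := by
  obtain ⟨h1, h2, h3⟩ := bsym_rank_one h
  ext i j
  rw [h3 i j]
  simp only [Matrix.smul_apply, Matrix.vecMulVec_apply, smul_eq_mul]
  rw [h2 i, h2 j, eq_inv_mul_iff_mul_eq₀ hs, h1]
  ring

omit [Fintype F] in
theorem bsym_rank_one_zero {v : Fin m → F} {M' : Matrix (Fin m) (Fin m) F}
    {c : F} {w : Fin (m + 1) → F} (h : bsym 0 v M' = c • vecMulVec w w) : v = 0 := by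
  obtain ⟨h1, h2, -⟩ := bsym_rank_one h
  funext i
  rw [h2 i, Pi.zero_apply]
  rcases mul_eq_zero.1 h1.symm with hc | hw
  · rw [hc, zero_mul]
  · rw [mul_self_eq_zero.1 hw, zero_mul, mul_zero]

omit [Fintype F] in
theorem bsym_cons (s : F) (hs : s ≠ 0) (v : Fin m → F) :
    bsym s v (s⁻¹ • vecMulVec v v) =
      s⁻¹ • vecMulVec (Fin.cons s v : Fin (m + 1) → F) (Fin.cons s v) := by
  ext i j
  refine Fin.cases ?_ (fun i' => ?_) i <;> refine Fin.cases ?_ (fun j' => ?_) j <;>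
    simp [Matrix.vecMulVec_apply, hs] <;> field_simp

omit [Fintype F] in
theorem bsym_cons_zero (c : F) (w' : Fin m → F) :
    bsym 0 0 (c • vecMulVec w' w') =
      c • vecMulVec (Fin.cons 0 w' : Fin (m + 1) → F) (Fin.cons 0 w') := by
  ext i j
  refine Fin.cases ?_ (fun i' => ?_) i <;> refine Fin.cases ?_ (fun j' => ?_) j <;>
    simp [Matrix.vecMulVec_apply]

omit [Fintype F] in
theorem bsym_E00 (s : F) : bsym s (0 : Fin m → F) 0 = s • E00 m F := by
  ext i j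
  unfold E00
  refine Fin.cases ?_ (fun i' => ?_) i <;> refine Fin.cases ?_ (fun j' => ?_) j <;>
    simp [Matrix.vecMulVec_apply, Fin.succ_ne_zero]

omit [Fintype F] in
theorem bsym_zero : bsym (0 : F) (0 : Fin m → F) 0 = 0 := by
  rw [bsym_E00, zero_smul]

omit [Fintype F] in
theorem vec_eq_or_neg {v w' : Fin m → F} (h : vecMulVec v v = vecMulVec w' w') :
    v = w' ∨ v = -w' := by
  have hij : ∀ i j, v i * v j = w' i * w' j := fun i j => by
    have := congrFun (congrFun h i) j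
    simpa [Matrix.vecMulVec_apply] using this
  by_cases hw : w' = 0
  · left
    rw [hw]
    funext i
    have := hij i i
    rw [hw, Pi.zero_apply, mul_zero] at this
    exact mul_self_eq_zero.1 this
  · obtain ⟨i, hi⟩ : ∃ i, w' i ≠ 0 := by
      by_contra hcon
      push Not at hcon
      exact hw (funext hcon)
    rcases mul_self_eq_mul_self_iff.1 (hij i i) with h1 | h1
    · left
      funext j
      have := hij i j
      rw [h1] at this
      exact mul_left_cancel₀ hi this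
    · right
      funext j
      have := hij i j
      rw [h1] at this
      rw [Pi.neg_apply]
      have h2 : w' i * (-v j) = w' i * w' j := by rw [← this]; ring
      have h3 := mul_left_cancel₀ hi h2
      rw [← h3, neg_neg]

omit [Fintype F] in
theorem cons_ne_zero {s : F} (hs : s ≠ 0) (v : Fin m → F) :
    (Fin.cons s v : Fin (m + 1) → F) ≠ 0 := by
  intro h
  apply hs
  have := congrFun h 0
  simpa using this

omit [Fintype F] in
theorem cons_zero_ne_zero {w' : Fin m → F} (hw' : w' ≠ 0) :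
    (Fin.cons 0 w' : Fin (m + 1) → F) ≠ 0 := by
  intro h
  apply hw'
  funext i
  have := congrFun h i.succ
  simpa using this

omit [Fintype F] in
theorem E00_ne : (Pi.single 0 1 : Fin (m + 1) → F) ≠ 0 := by
  intro h
  have := congrFun h 0
  simp at this

omit [Fintype F] in
theorem isSymm_rank_one (c : F) (w : Fin m → F) : (c • vecMulVec w w).IsSymm := by
  ext i j
  simp [Matrix.vecMulVec_apply, mul_comm]

omit [Fintype F] in
theorem vecMulVec_neg_neg (w : Fin m → F) : vecMulVec (-w) (-w) = vecMulVec w w := by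
  ext i j
  simp [Matrix.vecMulVec_apply]

end PkF3

section F3

theorem qmult_eq_bpar (ψ : AddChar F ℂ) {χ : Sp (m + 1) F → ℂ}
    (hχ : IsClassFunction (Sp (m + 1) F) χ) (c : F) (w : Fin (m + 1) → F) (hw : w ≠ 0) :
    qmult ψ χ (c • vecMulVec w w) = bpar ψ χ c := by
  unfold bpar E00
  exact qmult_rank_one ψ hχ c w _ hw PkF3.E00_ne

theorem bpar_sq (ψ : AddChar F ℂ) {χ : Sp (m + 1) F → ℂ} (hχ : IsClassFunction (Sp (m + 1) F) χ)
    (c u : F) (hu : u ≠ 0) : bpar ψ χ (c * u ^ 2) = bpar ψ χ c := by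
  have h1 : bpar ψ χ (c * u ^ 2) = qmult ψ χ ((c * u ^ 2) • vecMulVec (Pi.single 0 1) (Pi.single 0 1)) :=
    rfl
  rw [h1, PkF0.smul_rank_one, qmult_eq_bpar ψ hχ]
  exact smul_ne_zero hu PkF3.E00_ne

theorem chis_origin (h2 : (2 : F) ≠ 0) (ψ : AddChar F ℂ) (hψ : ψ ≠ 1) {χ : Sp (m + 1) F → ℂ}
    (hχ : IsClassFunction (Sp (m + 1) F) χ) (hs : QSmall ψ χ) (s : F) (hs0 : s ≠ 0) :
    qmult ψ (chis ψ s χ) 0 = bpar ψ χ s := by
  classical
  rw [qmult_chis h2 ψ hψ, Finset.sum_eq_single (0 : Fin m → F)]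
  · rw [PkF3.bsym_E00]
    rfl
  · intro v _ hv
    by_contra hne
    obtain ⟨c, w, hcw⟩ := hs _ (bsym_isSymm s v Matrix.isSymm_zero) hne
    have h1 := PkF3.bsym_rank_one_ne hs0 hcw
    apply hv
    funext i
    have h3 := congrFun (congrFun h1 i) i
    simp only [Matrix.zero_apply, Matrix.smul_apply, Matrix.vecMulVec_apply, smul_eq_mul] at h3
    rcases mul_eq_zero.1 h3.symm with h4 | h4
    · exact absurd h4 (inv_ne_zero hs0)
    · exact mul_self_eq_zero.1 h4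
  · intro h
    exact absurd (Finset.mem_univ _) h

theorem chis_rank_one (h2 : (2 : F) ≠ 0) (ψ : AddChar F ℂ) (hψ : ψ ≠ 1) {χ : Sp (m + 1) F → ℂ}
    (hχ : IsClassFunction (Sp (m + 1) F) χ) (hs : QSmall ψ χ) (s : F) (hs0 : s ≠ 0)
    (w' : Fin m → F) (hw' : w' ≠ 0) :
    qmult ψ (chis ψ s χ) (s⁻¹ • vecMulVec w' w') = 2 * bpar ψ χ s := by
  classical
  have hne : w' ≠ -w' := by
    intro h
    apply hw'
    funext i
    have h1 := congrFun h i
    rw [Pi.neg_apply, eq_neg_iff_add_eq_zero, ← two_mul] at h1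
    rcases mul_eq_zero.1 h1 with h3 | h3
    · exact absurd h3 h2
    · exact h3
  have hinv : bpar ψ χ s⁻¹ = bpar ψ χ s := by
    have e := bpar_sq ψ hχ s s⁻¹ (inv_ne_zero hs0)
    have e2 : s * s⁻¹ ^ 2 = s⁻¹ := by field_simp
    rw [e2] at e
    exact e
  have hval : ∀ v : Fin m → F, (v = w' ∨ v = -w') →
      qmult ψ χ (bsym s v (s⁻¹ • vecMulVec w' w')) = bpar ψ χ s := by
    intro v hv
    have hvv : vecMulVec w' w' = vecMulVec v v := by
      rcases hv with rfl | rfl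
      · rfl
      · rw [PkF3.vecMulVec_neg_neg]
    rw [hvv, PkF3.bsym_cons s hs0 v, qmult_eq_bpar ψ hχ _ _ (PkF3.cons_ne_zero hs0 v), hinv]
  rw [qmult_chis h2 ψ hψ, Finset.sum_eq_add w' (-w') hne]
  · rw [hval w' (Or.inl rfl), hval (-w') (Or.inr rfl), two_mul]
  · intro v _ hv
    by_contra hne0
    obtain ⟨c, w, hcw⟩ := hs _ (bsym_isSymm s v (PkF3.isSymm_rank_one s⁻¹ w')) hne0
    have h1 := PkF3.bsym_rank_one_ne hs0 hcw
    have h3 : vecMulVec v v = vecMulVec w' w' := by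
      have h4 := congrArg (fun X => s • X) h1
      simp only [smul_smul, mul_inv_cancel₀ hs0, one_smul] at h4
      exact h4.symm
    rcases PkF3.vec_eq_or_neg h3 with h4 | h4
    · exact hv.1 h4
    · exact hv.2 h4
  · intro h
    exact absurd (Finset.mem_univ _) h
  · intro h
    exact absurd (Finset.mem_univ _) h

theorem chis_pure (h2 : (2 : F) ≠ 0) (ψ : AddChar F ℂ) (hψ : ψ ≠ 1) {χ : Sp (m + 1) F → ℂ}
    (hχ : IsCharacter (Sp (m + 1) F) χ) (hs : QSmall ψ χ) (s : F) (hs0 : s ≠ 0) :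
    PureSmall ψ s (chis ψ s χ) := by
  intro M' hM' hq
  rw [qmult_chis h2 ψ hψ] at hq
  obtain ⟨v, -, hv⟩ := Finset.exists_ne_zero_of_sum_ne_zero hq
  obtain ⟨c, w, hcw⟩ := hs _ (bsym_isSymm s v hM') hv
  refine ⟨s⁻¹ • v, ?_⟩
  rw [PkF3.bsym_rank_one_ne hs0 hcw]
  ext i j
  simp only [Matrix.smul_apply, Matrix.vecMulVec_apply, Pi.smul_apply, smul_eq_mul]
  field_simp

theorem chis_zero_origin (h2 : (2 : F) ≠ 0) (ψ : AddChar F ℂ) (hψ : ψ ≠ 1) {χ : Sp (m + 1) F → ℂ}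
    (hχ : IsCharacter (Sp (m + 1) F) χ) (hs : QSmall ψ χ) :
    qmult ψ (chis ψ 0 χ) 0 = qmult ψ χ 0 := by
  classical
  rw [qmult_chis h2 ψ hψ, Finset.sum_eq_single (0 : Fin m → F)]
  · rw [PkF3.bsym_zero]
  · intro v _ hv
    by_contra hne
    obtain ⟨c, w, hcw⟩ := hs _ (bsym_isSymm 0 v Matrix.isSymm_zero) hne
    exact hv (PkF3.bsym_rank_one_zero hcw)
  · intro h
    exact absurd (Finset.mem_univ _) h

theorem chis_zero_rank_one (h2 : (2 : F) ≠ 0) (ψ : AddChar F ℂ) (hψ : ψ ≠ 1) {χ : Sp (m + 1) F → ℂ}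
    (hχ : IsCharacter (Sp (m + 1) F) χ) (hs : QSmall ψ χ) (c : F) (w' : Fin m → F) (hw' : w' ≠ 0) :
    qmult ψ (chis ψ 0 χ) (c • vecMulVec w' w') = bpar ψ χ c := by
  classical
  have hcf := Cfsg.Agent.Lib.Helper4.isClassFunction_of_isCharacter hχ
  rw [qmult_chis h2 ψ hψ, Finset.sum_eq_single (0 : Fin m → F)]
  · rw [PkF3.bsym_cons_zero, qmult_eq_bpar ψ hcf _ _ (PkF3.cons_zero_ne_zero hw')]
  · intro v _ hv
    by_contra hne
    obtain ⟨c', w, hcw⟩ := hs _ (bsym_isSymm 0 v (PkF3.isSymm_rank_one c w')) hne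
    exact hv (PkF3.bsym_rank_one_zero hcw)
  · intro h
    exact absurd (Finset.mem_univ _) h

theorem chis_zero_small (h2 : (2 : F) ≠ 0) (ψ : AddChar F ℂ) (hψ : ψ ≠ 1) {χ : Sp (m + 1) F → ℂ}
    (hχ : IsCharacter (Sp (m + 1) F) χ) (hs : QSmall ψ χ) : QSmall ψ (chis ψ 0 χ) := by
  intro M' hM' hq
  rw [qmult_chis h2 ψ hψ] at hq
  obtain ⟨v, -, hv⟩ := Finset.exists_ne_zero_of_sum_ne_zero hq
  obtain ⟨c, w, hcw⟩ := hs _ (bsym_isSymm 0 v hM') hv
  exact ⟨c, _, PkF3.bsym_rank_one_tail hcw⟩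

namespace PkF3

/-- the `Z`-fixed part of a small character on `Y`, in terms of the Siegel multiplicities -/
theorem zproj_zero_yE_eq (h2 : (2 : F) ≠ 0) (ψ : AddChar F ℂ) (hψ : ψ ≠ 1) {χ : Sp (m + 1) F → ℂ}
    (hs : QSmall ψ χ) (v : Fin m → F) :
    zproj ψ 0 χ (yE v) = ∑ M' : symAdd m F, qmult ψ χ (bsym 0 0 M'.1) := by
  classical
  have hq0 : (Fintype.card F : ℂ) ≠ 0 := Nat.cast_ne_zero.2 Fintype.card_ne_zero
  rw [zproj_apply]
  have h1 : ∀ t : F, conj (ψ (0 * t)) * χ (zE t * yE v) =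
      ∑ p : F × (Fin m → F) × symAdd m F,
        qmult ψ χ (bsym p.1 p.2.1 p.2.2.1) * (ψ (2 * (p.2.1 ⬝ᵥ v)) * ψ (p.1 * t)) := by
    intro t
    rw [zero_mul, AddChar.map_zero_eq_one, map_one, one_mul]
    unfold yE
    rw [PkF2.zE_mul_qE, add_zero, ← siegHom_bsymEquiv, fourier_inv h2 ψ hψ χ,
      ← (bsymEquiv (m := m) (F := F)).sum_comp]
    apply Finset.sum_congr rfl
    rintro ⟨a, b, M'⟩ _
    show qmult ψ χ (bsym a b M'.1) * trChar ψ (bsym a b M'.1) (bsymEquiv (t, v, 0)) = _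
    rw [trChar_apply, trPair_bsym, AddChar.map_add_eq_mul, AddChar.map_add_eq_mul, map_zero,
      AddChar.map_zero_eq_one, mul_one, mul_comm (ψ (a * t))]
  rw [Finset.sum_congr rfl fun t _ => h1 t, Finset.sum_comm]
  have h3 : ∀ p : F × (Fin m → F) × symAdd m F,
      ∑ t : F, qmult ψ χ (bsym p.1 p.2.1 p.2.2.1) * (ψ (2 * (p.2.1 ⬝ᵥ v)) * ψ (p.1 * t)) =
      if p.1 = 0 then (if p.2.1 = 0 then (Fintype.card F : ℂ) * qmult ψ χ (bsym 0 0 p.2.2.1) else 0)
        else 0 := by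
    rintro ⟨a, b, M'⟩
    simp only [← Finset.mul_sum]
    rw [PkF2.sum_mulShift ψ hψ a]
    by_cases ha : a = 0
    · subst ha
      rw [if_pos rfl, if_pos rfl]
      by_cases hb : b = 0
      · subst hb
        rw [if_pos rfl, zero_dotProduct, mul_zero, AddChar.map_zero_eq_one, one_mul, mul_comm]
      · rw [if_neg hb]
        have hz : qmult ψ χ (bsym 0 b M'.1) = 0 := by
          by_contra hne
          obtain ⟨c, w, hcw⟩ := hs _ (bsym_isSymm 0 b (mem_symAdd.1 M'.2)) hne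
          exact hb (bsym_rank_one_zero hcw)
        rw [hz, zero_mul]
    · rw [if_neg ha, if_neg ha, mul_zero, mul_zero]
  rw [Finset.sum_congr rfl fun p _ => h3 p, Fintype.sum_prod_type, Finset.sum_eq_single (0 : F)]
  · rw [Fintype.sum_prod_type, Finset.sum_eq_single (0 : Fin m → F)]
    · simp only [if_true]
      rw [← Finset.mul_sum, ← mul_assoc, inv_mul_cancel₀ hq0, one_mul]
    · intro b _ hb
      simp only [if_true, if_neg hb, Finset.sum_const_zero]
    · intro h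
      exact absurd (Finset.mem_univ _) h
  · intro a _ ha
    simp only [if_neg ha, Finset.sum_const_zero]
  · intro h
    exact absurd (Finset.mem_univ _) h

end PkF3

/-- the restriction of the `Z`-fixed part to `Y` is trivial -/
theorem zproj_zero_yE (h2 : (2 : F) ≠ 0) (ψ : AddChar F ℂ) (hψ : ψ ≠ 1) {χ : Sp (m + 1) F → ℂ}
    (hs : QSmall ψ χ) (v : Fin m → F) : zproj ψ 0 χ (yE v) = zproj ψ 0 χ 1 := by
  have h0 : (yE (0 : Fin m → F) : Sp (m + 1) F) = 1 := qE_zero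
  rw [PkF3.zproj_zero_yE_eq h2 ψ hψ hs v, ← h0, PkF3.zproj_zero_yE_eq h2 ψ hψ hs 0]

/-- the two averages used for `chis_no_trivial` -/
theorem avg_Q' (h2 : (2 : F) ≠ 0) (ψ : AddChar F ℂ) (hψ : ψ ≠ 1) {χ : Sp (m + 1) F → ℂ}
    (hχ : IsClassFunction (Sp (m + 1) F) χ) (hs : QSmall ψ χ) (s : F) (hs0 : s ≠ 0) :
    (Fintype.card (symAdd m F) : ℂ)⁻¹ * ∑ S' : symAdd m F, zproj ψ s χ (qE 0 0 S') = bpar ψ χ s := by
  rw [← chis_origin h2 ψ hψ hχ hs s hs0, qmult_def]
  congr 1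
  apply Finset.sum_congr rfl
  intro S' _
  rw [trChar_zero, AddChar.one_apply, map_one, one_mul]
  unfold chis
  rw [ιG_siegHom]

theorem avg_YQ' (h2 : (2 : F) ≠ 0) (ψ : AddChar F ℂ) (hψ : ψ ≠ 1) {χ : Sp (m + 1) F → ℂ}
    (hχ : IsClassFunction (Sp (m + 1) F) χ) (hs : QSmall ψ χ) (s : F) (hs0 : s ≠ 0) :
    ((Fintype.card F : ℂ) ^ m * (Fintype.card (symAdd m F) : ℂ))⁻¹ *
      ∑ y : Fin m → F, ∑ S' : symAdd m F, zproj ψ s χ (qE 0 y S') = bpar ψ χ s := by
  have hq0 : (Fintype.card F : ℂ) ≠ 0 := Nat.cast_ne_zero.2 Fintype.card_ne_zero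
  have hS0 : (Fintype.card (symAdd m F) : ℂ) ≠ 0 := Nat.cast_ne_zero.2 Fintype.card_ne_zero
  have h := PkF2.qmult_bsym ψ χ s (0 : Fin m → F) (0 : Matrix (Fin m) (Fin m) F)
  rw [PkF3.bsym_E00] at h
  unfold bpar
  rw [h]
  have h1 : ∀ (y : Fin m → F) (S' : symAdd m F), zproj ψ s χ (qE 0 y S') =
      (Fintype.card F : ℂ)⁻¹ * ∑ t : F, conj (ψ (s * t)) * conj (ψ (2 * ((0 : Fin m → F) ⬝ᵥ y))) *
        conj (trChar ψ (0 : Matrix (Fin m) (Fin m) F) S') * χ (qE t y S') := by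
    intro y S'
    rw [zproj_apply]
    congr 1
    apply Finset.sum_congr rfl
    intro t _
    rw [PkF2.zE_mul_qE, add_zero, zero_dotProduct, mul_zero, AddChar.map_zero_eq_one, map_one,
      mul_one, trChar_zero, AddChar.one_apply, map_one, mul_one]
  rw [Finset.sum_congr rfl fun y _ => Finset.sum_congr rfl fun S' _ => h1 y S']
  simp only [← Finset.mul_sum]
  rw [Finset.sum_congr rfl fun y _ => Finset.sum_comm, Finset.sum_comm]
  rw [← mul_assoc]
  congr 1
  rw [← mul_inv]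
  congr 1
  ring

end F3

end Cfsg.Agent.Lib.Helper2.WG
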