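import Cfsg.Agent.Lib.Helper1.WG_F2
import Cfsg.Agent.Lib.Helper7.WG_R3
import Cfsg.Agent.Lib.Helper3.SLMin_A
import Cfsg.Agent.Lib.Helper1.CharFound7

set_option autoImplicit false

/-!
S2524, package PK-K0: the `Z`-isotypic parts of a character of `Sp (m+1)` are characters of the
centraliser of `Z`, of the parabolic `P1` (for the `Z`-fixed part) and, restricted to `Sp m`, of
`Sp m`.
-/

namespace Cfsg.Agent.Lib.Helper2.WG

open Matrix Cfsg Cfsg.Agent.H9SpF Cfsg.Agent.Lib.Helper6.Siegel Cfsg.Agent.Lib.Helper1.SUMin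
open scoped ComplexConjugate

universe u

variable {F : Type u} [Field F] [Fintype F] {m : ℕ}

namespace PkK0

open Cfsg.Agent.Lib.Helper4.SLMin

theorem zproj_eq_isoAvg (ψ : AddChar F ℂ) (s : F) (χ : Sp (m + 1) F → ℂ) :
    zproj ψ s χ = isoAvg (zE (m := m) (F := F)) (AddChar.mulShift ψ s) χ := by
  unfold zproj
  congr 1

/-- the `ψ (s ·)`-part is a character of the stabiliser of `ψ (s ·)` -/
theorem isCharacter_zproj_invStab (ψ : AddChar F ℂ) (s : F) {χ : Sp (m + 1) F → ℂ}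
    (hχ : IsCharacter (Sp (m + 1) F) χ) :
    IsCharacter (invStab (zE (m := m) (F := F)) (AddChar.mulShift ψ s))
      (fun g : invStab (zE (m := m) (F := F)) (AddChar.mulShift ψ s) =>
        zproj ψ s χ (g : Sp (m + 1) F)) := by
  rw [zproj_eq_isoAvg]
  exact isCharacter_isoAvg_invStab hχ (zE (m := m) (F := F)) PkF2.zE_add (AddChar.mulShift ψ s)

/-- restriction of the `ψ (s ·)`-part to a subgroup of the stabiliser -/
theorem isCharacter_zproj_of_le (ψ : AddChar F ℂ) (s : F) {χ : Sp (m + 1) F → ℂ}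
    (hχ : IsCharacter (Sp (m + 1) F) χ) (C : Subgroup (Sp (m + 1) F))
    (hC : C ≤ invStab (zE (m := m) (F := F)) (AddChar.mulShift ψ s)) :
    IsCharacter C (fun c : C => zproj ψ s χ (c : Sp (m + 1) F)) :=
  Cfsg.Agent.Lib.Helper1.isCharacter_comp_hom (isCharacter_zproj_invStab ψ s hχ)
    (Subgroup.inclusion hC)

omit [Fintype F] in
/-- multiplication by a non-zero scalar as an additive automorphism -/
def mulAddEquiv (a : F) (ha : a ≠ 0) : F ≃+ F where
  toFun t := a * t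
  invFun t := a⁻¹ * t
  left_inv t := by
    show a⁻¹ * (a * t) = t
    rw [← mul_assoc, inv_mul_cancel₀ ha, one_mul]
  right_inv t := by
    show a * (a⁻¹ * t) = t
    rw [← mul_assoc, mul_inv_cancel₀ ha, one_mul]
  map_add' := mul_add a

omit [Fintype F] in
theorem mulAddEquiv_apply (a : F) (ha : a ≠ 0) (t : F) : mulAddEquiv a ha t = a * t := rfl

omit [Fintype F] in
/-- the long root elements are the symplectic transvections along the first basis vector -/
theorem zE_eq_T (t : F) :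
    (zE t : Sp (m + 1) F) =
      Cfsg.Agent.Lib.Helper1.SpBasic.T (Pi.single (Sum.inl 0) (1 : F)) t := by
  rw [PkF0.T_single_eq]
  unfold zE qE
  congr 1
  apply Subtype.ext
  show bsym t 0 (0 : Matrix (Fin m) (Fin m) F) = t • Matrix.single 0 0 (1 : F)
  ext i j
  refine Fin.cases ?_ (fun i' => ?_) i <;> refine Fin.cases ?_ (fun j' => ?_) j <;>
    simp [Ne.symm (Fin.succ_ne_zero _)]

/-- the parabolic `P1` normalises the long root group -/
theorem P1_conj_zE (p : Sp (m + 1) F) (hp : p ∈ P1 m F) (t : F) :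
    p * zE t * p⁻¹ = zE (p.1 (Sum.inl 0) (Sum.inl 0) * p.1 (Sum.inl 0) (Sum.inl 0) * t) := by
  rw [zE_eq_T, zE_eq_T, Cfsg.Agent.Lib.Helper1.SpBasic.conj_T]
  have h1 : (p : Matrix (Fin (m + 1) ⊕ Fin (m + 1)) (Fin (m + 1) ⊕ Fin (m + 1)) F) *ᵥ
      (Pi.single (Sum.inl 0) (1 : F)) =
      p.1 (Sum.inl 0) (Sum.inl 0) • (Pi.single (Sum.inl 0) (1 : F) : Fin (m + 1) ⊕ Fin (m + 1) → F) := by
    funext i
    rw [Matrix.mulVec_single_one, Pi.smul_apply, smul_eq_mul]
    show p.1 i (Sum.inl 0) = _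
    by_cases hi : i = Sum.inl 0
    · rw [hi, Pi.single_eq_same, mul_one]
    · rw [(mem_P1.1 hp) i hi, Pi.single_eq_of_ne hi, mul_zero]
  rw [h1, Cfsg.Agent.Lib.Helper1.SpBasic.T_smul]

end PkK0

section K0

/-- the `ψ (s ·)`-part is a character of the centraliser of `Z` -/
theorem isCharacter_zproj_centralizer (ψ : AddChar F ℂ) (s : F) {χ : Sp (m + 1) F → ℂ}
    (hχ : IsCharacter (Sp (m + 1) F) χ) (C : Subgroup (Sp (m + 1) F))
    (hC : ∀ c ∈ C, ∀ t, c * zE t = zE t * c) :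
    IsCharacter C (fun c : C => zproj ψ s χ (c : Sp (m + 1) F)) := by
  apply PkK0.isCharacter_zproj_of_le ψ s hχ C
  intro c hc
  refine ⟨AddEquiv.refl F, fun t => ?_, fun t => rfl⟩
  rw [hC c hc t, mul_inv_cancel_right]
  rfl

/-- the `Z`-fixed part is a character of the parabolic `P₁` -/
theorem isCharacter_zproj_zero_P1 (ψ : AddChar F ℂ) {χ : Sp (m + 1) F → ℂ}
    (hχ : IsCharacter (Sp (m + 1) F) χ) :
    IsCharacter (P1 m F) (fun p : P1 m F => zproj ψ 0 χ (p : Sp (m + 1) F)) := by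
  apply PkK0.isCharacter_zproj_of_le ψ 0 hχ (P1 m F)
  intro p hp
  -- the `(0,0)` entry of `p` is not zero
  have ha : p.1 (Sum.inl 0) (Sum.inl 0) ≠ 0 := by
    intro h0
    have h1 := PkK0.P1_conj_zE p hp 1
    rw [h0, zero_mul, zero_mul, PkF2.zE_zero, mul_inv_eq_one] at h1
    have h3 : (zE (1 : F) : Sp (m + 1) F) = 1 := mul_left_cancel (h1.trans (mul_one p).symm)
    have h4 : (zE (1 : F) : Sp (m + 1) F).1 (Sum.inl 0) (Sum.inr 0) =
        (1 : Sp (m + 1) F).1 (Sum.inl 0) (Sum.inr 0) := by rw [h3]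
    have h5 : (zE (1 : F) : Sp (m + 1) F).1 (Sum.inl 0) (Sum.inr 0) = 1 := by
      unfold zE qE
      rw [siegHom_coe]
      simp [siegM]
    rw [h5] at h4
    have h6 : (1 : Sp (m + 1) F).1 (Sum.inl 0) (Sum.inr 0) = 0 := by
      show (1 : Matrix _ _ F) (Sum.inl 0) (Sum.inr 0) = 0
      rw [Matrix.one_apply_ne (by simp)]
    rw [h6] at h4
    exact one_ne_zero h4
  refine ⟨PkK0.mulAddEquiv (p.1 (Sum.inl 0) (Sum.inl 0) * p.1 (Sum.inl 0) (Sum.inl 0))
    (mul_ne_zero ha ha), fun t => PkK0.P1_conj_zE p hp t, fun t => ?_⟩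
  rw [AddChar.mulShift_apply, AddChar.mulShift_apply, zero_mul, zero_mul]

theorem isCharacter_chis (ψ : AddChar F ℂ) (s : F) {χ : Sp (m + 1) F → ℂ}
    (hχ : IsCharacter (Sp (m + 1) F) χ) : IsCharacter (Sp m F) (chis ψ s χ) := by
  have h1 := isCharacter_zproj_centralizer ψ s hχ (ιG (m := m) (F := F)).range (by
    rintro c ⟨g, rfl⟩ t
    exact ιG_comm_zE g t)
  exact Cfsg.Agent.Lib.Helper1.isCharacter_comp_hom h1 (ιG (m := m) (F := F)).rangeRestrict

end K0

end Cfsg.Agent.Lib.Helper2.WG
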