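import Cfsg.Agent.Lib.Helper1.WG_K0
import Cfsg.Agent.Lib.Helper1.WG_F3
import Cfsg.Agent.Lib.Helper6.WG_G1

set_option autoImplicit false

/-!
S2524, package PK-K1: for `s ≠ 0` the restriction to `Sp m` of the `ψ (s ·)`-part of a small
character of `Sp (m+1)` has no trivial constituent.
-/

namespace Cfsg.Agent.Lib.Helper2.WG

open Matrix Cfsg Cfsg.Agent.H9SpF Cfsg.Agent.Lib.Helper6.Siegel Cfsg.Agent.Lib.Helper1.SUMin
open scoped ComplexConjugate

universe u

variable {F : Type u} [Field F] [Fintype F] {m : ℕ}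

namespace PkK1

/-- the subgroup parametrised by an additive map -/
def paramSubgroup {A : Type*} [AddGroup A] {G : Type*} [Group G] (ζ : A → G)
    (hζ : ∀ a b, ζ (a + b) = ζ a * ζ b) : Subgroup G where
  carrier := Set.range ζ
  one_mem' := by
    refine ⟨0, ?_⟩
    have h := hζ 0 0
    rw [add_zero] at h
    exact (mul_eq_left.mp h.symm)
  mul_mem' := by
    rintro _ _ ⟨a, rfl⟩ ⟨b, rfl⟩
    exact ⟨a + b, hζ a b⟩
  inv_mem' := by
    rintro _ ⟨a, rfl⟩
    refine ⟨-a, ?_⟩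
    have h0 : ζ 0 = 1 := by
      have h := hζ 0 0
      rw [add_zero] at h
      exact (mul_eq_left.mp h.symm)
    rw [eq_inv_iff_mul_eq_one, ← hζ, neg_add_cancel, h0]

theorem mem_paramSubgroup {A : Type*} [AddGroup A] {G : Type*} [Group G] (ζ : A → G)
    (hζ : ∀ a b, ζ (a + b) = ζ a * ζ b) (g : G) :
    g ∈ paramSubgroup ζ hζ ↔ ∃ a, ζ a = g := Iff.rfl

/-- the average over a subgroup which is the bijective image of a parameter set -/
theorem fixdim_eq_of_param {G : Type*} [Group G] (K : Subgroup G) [Fintype K] {α : Type*}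
    [Fintype α] (ζ : α → G) (hinj : Function.Injective ζ) (hK : ∀ g, g ∈ K ↔ ∃ a, ζ a = g)
    (Φ : G → ℂ) : fixdim K Φ = (Fintype.card α : ℂ)⁻¹ * ∑ a, Φ (ζ a) := by
  classical
  let e : α ≃ K := Equiv.ofBijective (fun a => ⟨ζ a, (hK _).2 ⟨a, rfl⟩⟩) (by
    constructor
    · intro a b h
      exact hinj (congrArg Subtype.val h)
    · rintro ⟨g, hg⟩
      obtain ⟨a, ha⟩ := (hK g).1 hg
      exact ⟨a, Subtype.ext ha⟩)
  unfold fixdim
  rw [← Fintype.card_congr e]
  congr 1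
  exact (Fintype.sum_equiv e (fun a => Φ (ζ a)) (fun k => Φ (k : G)) (fun a => rfl)).symm

omit [Fintype F] in
theorem qE_injective : Function.Injective
    (fun p : F × (Fin m → F) × symAdd m F => (qE p.1 p.2.1 p.2.2 : Sp (m + 1) F)) := by
  rintro ⟨s, v, S'⟩ ⟨t, y, T'⟩ h
  have h1 : (qE s v S' : Sp (m + 1) F) = qE t y T' := h
  have h2 : (qE s v S' : Sp (m + 1) F).1 = (qE t y T' : Sp (m + 1) F).1 := by rw [h1]
  unfold qE at h2
  rw [siegHom_coe, siegHom_coe] at h2
  unfold siegM at h2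
  have h3 : bsym s v S'.1 = bsym t y T'.1 := (Matrix.fromBlocks_inj.1 h2).2.1
  have hs : s = t := by
    have := congrFun (congrFun h3 0) 0
    simpa using this
  have hv : v = y := by
    funext i
    have := congrFun (congrFun h3 0) i.succ
    simpa using this
  have hS : S' = T' := by
    apply Subtype.ext
    ext i j
    have := congrFun (congrFun h3 i.succ) j.succ
    simpa using this
  rw [hs, hv, hS]

theorem ιG_injective : Function.Injective (ιG (m := m) (F := F)) := by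
  intro g g' h
  have h1 : ιK ((1 : Sp 1 F), g) = ιK ((1 : Sp 1 F), g') := h
  have h2 := ιK_injective h1
  exact (Prod.mk.inj h2).2

end PkK1

/-- PK-K1 -/
theorem chis_no_trivial (h2 : (2 : F) ≠ 0) (ψ : AddChar F ℂ) (hψ : ψ ≠ 1) (hm : 1 ≤ m)
    {χ : Sp (m + 1) F → ℂ} (hχ : IsCharacter (Sp (m + 1) F) χ) (hs : QSmall ψ χ) (s : F)
    (hs0 : s ≠ 0) : classInner (chis ψ s χ) (fun _ => 1) = 0 := by
  classical
  have hcf := Cfsg.Agent.Lib.Helper4.isClassFunction_of_isCharacter hχ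
  have hq0 : (Fintype.card F : ℂ) ≠ 0 := Nat.cast_ne_zero.2 Fintype.card_ne_zero
  set Φ : Sp (m + 1) F → ℂ := zproj ψ s χ with hΦdef
  -- the centraliser of `Z`
  let J : Subgroup (Sp (m + 1) F) := Subgroup.centralizer (Set.range (zE (m := m) (F := F)))
  have hJ : ∀ c ∈ J, ∀ t, c * zE t = zE t * c := by
    intro c hc t
    exact (Subgroup.mem_centralizer_iff.1 hc (zE t) ⟨t, rfl⟩).symm
  have hJ' : ∀ c : Sp (m + 1) F, (∀ t, c * zE t = zE t * c) → c ∈ J := by
    intro c hc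
    rw [Subgroup.mem_centralizer_iff]
    rintro _ ⟨t, rfl⟩
    exact (hc t).symm
  have hΦJ : IsCharacter J (fun j : J => Φ (j : Sp (m + 1) F)) :=
    isCharacter_zproj_centralizer ψ s hχ J hJ
  -- the subgroups `Q'`, `Y Q'`, `Sp m`, `Z`
  let A : Subgroup (Sp (m + 1) F) :=
    PkK1.paramSubgroup (fun S' : symAdd m F => (qE 0 0 S' : Sp (m + 1) F))
      (by intro a b; rw [qE_mul, add_zero, add_zero])
  let B : Subgroup (Sp (m + 1) F) :=
    PkK1.paramSubgroup (fun p : (Fin m → F) × symAdd m F => (qE 0 p.1 p.2 : Sp (m + 1) F))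
      (by intro a b; rw [qE_mul, add_zero]; rfl)
  let D : Subgroup (Sp (m + 1) F) := (ιG (m := m) (F := F)).range
  let Z : Subgroup (Sp (m + 1) F) := PkK1.paramSubgroup (zE (m := m) (F := F)) PkF2.zE_add
  have : Fintype A := Fintype.ofFinite _
  have : Fintype B := Fintype.ofFinite _
  have : Fintype D := Fintype.ofFinite _
  have : Fintype Z := Fintype.ofFinite _
  have : Fintype ↥(B ⊔ D) := Fintype.ofFinite _
  -- the averages
  have hA : fixdim A Φ = bpar ψ χ s := by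
    rw [PkK1.fixdim_eq_of_param A (fun S' : symAdd m F => (qE 0 0 S' : Sp (m + 1) F))
      (fun a b h => by
        have := PkK1.qE_injective (m := m) (F := F) (a₁ := (0, 0, a)) (a₂ := (0, 0, b)) h
        exact (Prod.mk.inj (Prod.mk.inj this).2).2)
      (fun g => Iff.rfl) Φ]
    exact avg_Q' h2 ψ hψ hcf hs s hs0
  have hB : fixdim B Φ = bpar ψ χ s := by
    rw [PkK1.fixdim_eq_of_param B
      (fun p : (Fin m → F) × symAdd m F => (qE 0 p.1 p.2 : Sp (m + 1) F))
      (fun a b h => by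
        have := PkK1.qE_injective (m := m) (F := F) (a₁ := (0, a.1, a.2)) (a₂ := (0, b.1, b.2)) h
        exact Prod.ext (Prod.mk.inj (Prod.mk.inj this).2).1 (Prod.mk.inj (Prod.mk.inj this).2).2)
      (fun g => Iff.rfl) Φ]
    rw [Fintype.card_prod, Fintype.card_fun, Fintype.card_fin, Fintype.sum_prod_type]
    push_cast
    exact avg_YQ' h2 ψ hψ hcf hs s hs0
  have hD : fixdim D Φ = classInner (chis ψ s χ) (fun _ => 1) := by
    rw [PkK1.fixdim_eq_of_param D (ιG (m := m) (F := F)) PkK1.ιG_injective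
      (fun g => MonoidHom.mem_range) Φ, Cfsg.Agent.Lib.Helper4.classInner_def,
      Nat.card_eq_fintype_card]
    congr 1
    apply Finset.sum_congr rfl
    intro g _
    rw [map_one, mul_one]
    rfl
  have hZ : fixdim Z Φ = 0 := by
    rw [PkK1.fixdim_eq_of_param Z (zE (m := m) (F := F))
      (fun a b h => by
        have := PkK1.qE_injective (m := m) (F := F) (a₁ := (a, 0, 0)) (a₂ := (b, 0, 0)) h
        exact (Prod.mk.inj this).1)
      (fun g => Iff.rfl) Φ]
    have h1 : ∀ t : F, Φ (zE t) = ψ (s * t) * Φ 1 := by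
      intro t
      have := zproj_zE_mul ψ s χ t 1
      rw [mul_one] at this
      exact this
    rw [Finset.sum_congr rfl fun t _ => h1 t, ← Finset.sum_mul, PkF2.sum_mulShift ψ hψ s,
      if_neg hs0, zero_mul, mul_zero]
  -- inclusions
  have hAB : A ≤ B := by
    rintro _ ⟨S', rfl⟩
    exact ⟨(0, S'), rfl⟩
  have hAD : A ≤ D := by
    rintro _ ⟨S', rfl⟩
    exact ⟨siegHom S', ιG_siegHom S'⟩
  have hBJ : B ≤ J := by
    rintro _ ⟨p, rfl⟩
    apply hJ'
    intro t
    show qE 0 p.1 p.2 * zE t = zE t * qE 0 p.1 p.2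
    rw [PkF2.zE_mul_qE]
    unfold zE
    rw [qE_mul, add_zero, add_zero, zero_add, add_zero]
  have hDJ : D ≤ J := by
    rintro _ ⟨g, rfl⟩
    apply hJ'
    intro t
    exact ιG_comm_zE g t
  have hprop := fixdim_propagation' J hΦJ A B D hBJ hDJ hAB hAD (hA.trans hB.symm)
  -- `Z ≤ B ⊔ D`
  have hyB : ∀ v : Fin m → F, (yE v : Sp (m + 1) F) ∈ B ⊔ D := by
    intro v
    exact Subgroup.mem_sup_left ⟨(v, 0), rfl⟩
  have hwD : (wG : Sp (m + 1) F) ∈ B ⊔ D := Subgroup.mem_sup_right ⟨_, rfl⟩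
  have hxB : ∀ x : Fin m → F, (xE x : Sp (m + 1) F) ∈ B ⊔ D := by
    intro x
    have h := wG_conj_yE (m := m) (F := F) (-x)
    rw [neg_neg] at h
    rw [← h]
    exact (B ⊔ D).mul_mem ((B ⊔ D).mul_mem hwD (hyB _)) ((B ⊔ D).inv_mem hwD)
  have hZBD : Z ≤ B ⊔ D := by
    rintro _ ⟨t, rfl⟩
    have h := comm_xE_yE (m := m) (F := F) (Pi.single (⟨0, hm⟩ : Fin m) (t / 2))
      (Pi.single (⟨0, hm⟩ : Fin m) 1)
    have h3 : (2 : F) * ((Pi.single (⟨0, hm⟩ : Fin m) (t / 2) : Fin m → F) ⬝ᵥ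
        (Pi.single (⟨0, hm⟩ : Fin m) 1)) = t := by
      rw [single_dotProduct, Pi.single_eq_same, mul_one]
      field_simp
    rw [h3] at h
    show zE t ∈ B ⊔ D
    rw [← h]
    exact (B ⊔ D).mul_mem ((B ⊔ D).mul_mem ((B ⊔ D).mul_mem (hxB _) (hyB _))
      ((B ⊔ D).inv_mem (hxB _))) ((B ⊔ D).inv_mem (hyB _))
  have hmono := fixdim_mono' J hΦJ Z (B ⊔ D) hZBD (sup_le hBJ hDJ)
  obtain ⟨k, hk⟩ := fixdim_nat' J hΦJ (B ⊔ D) (sup_le hBJ hDJ)
  rw [hZ, hk, Complex.natCast_re, Complex.zero_re] at hmono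
  have hk0 : k = 0 := by
    have : (k : ℝ) = 0 := le_antisymm hmono (Nat.cast_nonneg k)
    exact_mod_cast this
  rw [← hD, hprop, hk, hk0, Nat.cast_zero]

end Cfsg.Agent.Lib.Helper2.WG
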